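import Cfsg.Statements.S3419
import Cfsg.Agent.Lib.helper61.TwoPrimes
import Cfsg.Agent.Lib.helper61.SolvPQ

set_option autoImplicit false
open Cfsg

namespace Cfsg.Agent.S3419

open Cfsg.Agent.Lib.helper61

/-- For a prime `p` with `p ≤ n < 2p`, `p` divides `n!` exactly once. -/
theorem padicValNat_factorial_eq_one (n p : ℕ) (hp : p.Prime) (h1 : p ≤ n) (h2 : n < 2 * p) :
    padicValNat p n.factorial = 1 := by
  have := Fact.mk hp
  have hn : n = p * 1 + (n - p) := by omega
  rw [hn, padicValNat_factorial_mul_add 1 (by omega), padicValNat_factorial_mul]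
  simp

theorem odd_prime_dvd_half_factorial (n p : ℕ) (hp : p.Prime) (h3 : 3 ≤ p) (h1 : p ≤ n) :
    p ∣ n.factorial / 2 := by
  have h2 : 2 ∣ n.factorial := Nat.dvd_factorial (by norm_num) (by omega)
  have hpf : p ∣ n.factorial := (Nat.Prime.dvd_factorial hp).2 h1
  obtain ⟨k, hk⟩ := h2
  rw [hk, Nat.mul_div_cancel_left k (by norm_num)]
  rw [hk] at hpf
  have hcop : Nat.Coprime p 2 := (Nat.coprime_primes hp Nat.prime_two).2 (by omega)
  exact hcop.dvd_of_dvd_mul_left hpf

theorem not_sq_dvd_half_factorial (n p : ℕ) (hp : p.Prime) (h1 : p ≤ n) (h2 : n < 2 * p) :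
    ¬ p ^ 2 ∣ n.factorial / 2 := by
  intro h
  have := Fact.mk hp
  have h3 : p ^ 2 ∣ n.factorial := dvd_trans h (Nat.div_dvd_of_dvd (Nat.dvd_factorial (by norm_num) (by
    have := hp.two_le; omega)))
  rw [padicValNat_dvd_iff] at h3
  rcases h3 with h3 | h3
  · exact Nat.factorial_ne_zero n h3
  · rw [padicValNat_factorial_eq_one n p hp h1 h2] at h3
    omega

/-- The arithmetic data: primes `p`, `r` and a bound `b` suitable for the solvable-group lemma. -/
theorem prime_data (n : ℕ) (hn : 5 ≤ n) :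
    ∃ p r b : ℕ, p.Prime ∧ r.Prime ∧ p ≠ r ∧ n < p + r ∧ n < p * r ∧
      p ∣ n.factorial / 2 ∧ ¬ p ^ 2 ∣ n.factorial / 2 ∧ r ∣ n.factorial / 2 ∧
      ¬ r ^ (b + 1) ∣ n.factorial / 2 ∧ ¬ r ∣ p - 1 ∧ ∀ c, 1 ≤ c → c ≤ b → ¬ p ∣ r ^ c - 1 := by
  by_cases h6 : n = 6
  · subst h6
    refine ⟨5, 3, 2, by norm_num, by norm_num, by norm_num, by norm_num, by norm_num,
      by decide, by decide, by decide, by decide, by decide, ?_⟩
    intro c hc1 hc2
    have hc : c = 1 ∨ c = 2 := by omega
    rcases hc with rfl | rfl <;> decide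
  by_cases h10 : n = 10
  · subst h10
    refine ⟨7, 5, 2, by norm_num, by norm_num, by norm_num, by norm_num, by norm_num,
      by decide, by decide, by decide, by decide, by decide, ?_⟩
    intro c hc1 hc2
    have hc : c = 1 ∨ c = 2 := by omega
    rcases hc with rfl | rfl <;> decide
  obtain ⟨p, r, hp, hr, hp3, hnp, hpr, hrn⟩ := exists_two_primes_half n hn h6 h10
  refine ⟨p, r, 1, hp, hr, by omega, by omega, by nlinarith,
    odd_prime_dvd_half_factorial n p hp hp3 (by omega),
    not_sq_dvd_half_factorial n p hp (by omega) hnp,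
    odd_prime_dvd_half_factorial n r hr (by omega) hrn,
    not_sq_dvd_half_factorial n r hr hrn (by omega), ?_, ?_⟩
  · exact Nat.not_dvd_of_pos_of_lt (by omega) (by omega)
  · intro c hc1 hc2
    have hc : c = 1 := by omega
    subst hc
    rw [pow_one]
    rintro ⟨k, hk⟩
    have hpodd : p % 2 = 1 := by
      rcases hp.eq_two_or_odd with h | h
      · omega
      · exact h
    have hrodd : r % 2 = 1 := by
      rcases hr.eq_two_or_odd with h | h
      · omega
      · exact h
    have hk1 : k = 1 := by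
      have hk0 : k ≠ 0 := by
        rintro rfl
        omega
      have hk2 : k < 2 := by
        by_contra hk2
        have h2k : 2 ≤ k := by omega
        have h3 : p * 2 ≤ p * k := Nat.mul_le_mul_left p h2k
        omega
      omega
    subst hk1
    omega

theorem result {G : Type*} [Group G] [Finite G] (n : ℕ) (hn : 5 ≤ n)
    (hcard : Nat.card G = Nat.card ↥(alternatingGroup (Fin n)))
    (hspec : Set.range (orderOf : G → ℕ) = Set.range (orderOf : ↥(alternatingGroup (Fin n)) → ℕ)) :
    ¬ Group.IsSolvable G := by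
  intro hsolv
  have hnt : Nontrivial (Fin n) := Fin.nontrivial_iff_two_le.2 (by omega)
  have hcardA : Nat.card ↥(alternatingGroup (Fin n)) = n.factorial / 2 := by
    rw [nat_card_alternatingGroup, Nat.card_fin]
  rw [hcardA] at hcard
  obtain ⟨p, r, b, hp, hr, hpr, hsum, hprod, hpd, hp2, hrd, hrb, h1, h2⟩ := prime_data n hn
  obtain ⟨g, hg⟩ := exists_orderOf_eq_mul hsolv p r b hp hr hpr h1 h2
    (by rw [hcard]; exact hpd) (by rw [hcard]; exact hp2) (by rw [hcard]; exact hrd)
    (by rw [hcard]; exact hrb)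
  have hmem : p * r ∈ Set.range (orderOf : G → ℕ) := ⟨g, hg⟩
  rw [hspec] at hmem
  obtain ⟨σ, hσ⟩ := hmem
  exact perm_orderOf_ne_mul n p r hp hr hpr hsum hprod (σ : Equiv.Perm (Fin n))
    (by rw [Subgroup.orderOf_coe]; exact hσ)

end Cfsg.Agent.S3419
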