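import Cfsg.Statements.S3420
import Cfsg.Agent.Lib.helper61.TwoPrimes
import Cfsg.Agent.Lib.helper61.SolvPQ
import Cfsg.Agent.Lib.helper61.PrimePair
import Cfsg.Agent.S3419

set_option autoImplicit false
open Cfsg

namespace Cfsg.Agent.S3420

open Cfsg.Agent.Lib.helper61

/-- The quotient by a maximal proper normal subgroup is simple. -/
theorem simple_of_max {H' : Type*} [Group H'] (K' : Subgroup H') [K'.Normal] (hne : K' ≠ ⊤)
    (hmax : ∀ M : Subgroup H', M.Normal → M ≠ ⊤ → K' ≤ M → M = K') : IsSimpleGroup (H' ⧸ K') := by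
  have hnt : Nontrivial (H' ⧸ K') := by
    have hex : ∃ x : H', x ∉ K' := by
      by_contra h
      push Not at h
      exact hne (eq_top_iff.2 (fun x _ => h x))
    obtain ⟨x, hx⟩ := hex
    refine ⟨⟨(QuotientGroup.mk' K') x, 1, fun h => hx ?_⟩⟩
    exact (QuotientGroup.eq_one_iff x).1 h
  refine { toNontrivial := hnt, eq_bot_or_eq_top_of_normal := ?_ }
  intro K hK
  have hsurj : Function.Surjective (QuotientGroup.mk' K') := QuotientGroup.mk'_surjective K'
  have hKeq : (K.comap (QuotientGroup.mk' K')).map (QuotientGroup.mk' K') = K :=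
    Subgroup.map_comap_eq_self_of_surjective hsurj K
  have hle : K' ≤ K.comap (QuotientGroup.mk' K') := by
    intro x hx
    rw [Subgroup.mem_comap]
    have : (QuotientGroup.mk' K') x = 1 := (QuotientGroup.eq_one_iff x).2 hx
    rw [this]; exact K.one_mem
  by_cases hM : K.comap (QuotientGroup.mk' K') = ⊤
  · right
    rw [← hKeq, hM]
    exact Subgroup.map_top_of_surjective _ hsurj
  · left
    have h1 := hmax _ (hK.comap _) hM hle
    rw [← hKeq, h1]
    exact QuotientGroup.map_mk'_self K'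

/-- A maximal proper normal subgroup of order prime to `r₀` in a group of order divisible by `r₀`
is invariant under all automorphisms. -/
theorem invariant_of_max {H' : Type*} [Group H'] [Finite H'] (r₀ : ℕ) (hr₀ : r₀.Prime)
    (M₀ : Subgroup H') (hM₀n : M₀.Normal)
    (hmax : ∀ M : Subgroup H', M.Normal → M ≠ ⊤ → M₀ ≤ M → M = M₀)
    (hM₀r : ¬ r₀ ∣ Nat.card M₀) (hHr : r₀ ∣ Nat.card H') (φ : MulAut H') :
    M₀.map φ.toMonoidHom = M₀ := by
  obtain ⟨M₁, hM₁⟩ : ∃ M₁, M₁ = M₀.map φ.toMonoidHom := ⟨_, rfl⟩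
  rw [← hM₁]
  by_contra hneq
  have hM₁n : M₁.Normal := by rw [hM₁]; exact hM₀n.map _ φ.surjective
  have hcard1 : Nat.card M₁ = Nat.card M₀ := by
    rw [hM₁]; exact Subgroup.card_map_of_injective φ.injective
  have hJn : (M₀ ⊔ M₁).Normal := by infer_instance
  have hJ : M₀ ⊔ M₁ = ⊤ := by
    by_contra hJ
    have h1 := hmax _ hJn hJ le_sup_left
    have h2 : M₁ ≤ M₀ := le_sup_right.trans h1.le
    exact hneq (Subgroup.eq_of_le_of_card_ge h2 hcard1.ge)
  have h3 : M₁.relIndex M₀ = M₁.index := by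
    rw [← Subgroup.relIndex_sup_right, hJ, Subgroup.relIndex_top_right]
  have h4 : M₁.index * Nat.card M₁ = Nat.card H' := Subgroup.index_mul_card _
  have h5 : r₀ ∣ M₁.index := by
    rw [← h4, hcard1] at hHr
    exact ((Nat.Prime.dvd_mul hr₀).1 hHr).resolve_right hM₀r
  rw [← h3] at h5
  exact hM₀r (dvd_trans h5 (Subgroup.relIndex_dvd_card _ _))

theorem core {G : Type*} [Group G] [Finite G] (PP : Set ℕ)
    (hprime : ∀ p ∈ PP, p.Prime)
    (hdvd : ∀ p ∈ PP, p ∣ Nat.card G)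
    (hsq : ∀ p ∈ PP, ¬ p ^ 2 ∣ Nat.card G)
    (hno : ∀ p ∈ PP, ∀ r ∈ PP, p ≠ r → ∀ g : G, orderOf g ≠ p * r)
    (hnd : ∀ p ∈ PP, ∀ r ∈ PP, p ≠ r → ¬ p ∣ r - 1)
    (r₀ r₁ : ℕ) (hr₀ : r₀ ∈ PP) (hr₁ : r₁ ∈ PP) (hne : r₀ ≠ r₁) :
    ∃ (N H : Subgroup G) (_ : N.Normal), H.Normal ∧ N < H ∧
      IsSimpleGroup (↥H ⧸ N.subgroupOf H) ∧ ¬ IsMulCommutative (↥H ⧸ N.subgroupOf H) ∧
      ∀ p ∈ PP, p ∣ Nat.card (↥H ⧸ N.subgroupOf H) := by
  classical
  have hr₀p : r₀.Prime := hprime r₀ hr₀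
  have hr₁p : r₁.Prime := hprime r₁ hr₁
  -- Step 2: a minimal normal subgroup `H` with `r₀ ∣ |H|`
  have hex : ∃ k, ∃ H : Subgroup G, H.Normal ∧ r₀ ∣ Nat.card H ∧ Nat.card H = k :=
    ⟨_, ⊤, inferInstance, by rw [Subgroup.card_top]; exact hdvd r₀ hr₀, rfl⟩
  obtain ⟨H, hHn, hHr, hHk⟩ := Nat.find_spec hex
  have hmin : ∀ H' : Subgroup G, H'.Normal → r₀ ∣ Nat.card H' → H' ≤ H → H' = H := by
    intro H' hH'n hH'r hle
    have h1 : Nat.find hex ≤ Nat.card H' := Nat.find_min' hex ⟨H', hH'n, hH'r, rfl⟩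
    rw [← hHk] at h1
    exact Subgroup.eq_of_le_of_card_ge hle h1
  have hHG : Nat.card H ∣ Nat.card G := Subgroup.card_subgroup_dvd_card H
  have hHsq : ¬ r₀ ^ 2 ∣ Nat.card H := fun h => hsq r₀ hr₀ (dvd_trans h hHG)
  have := Fact.mk hr₀p
  -- Step 3: a normal subgroup of `H` whose order is divisible by `r₀` is all of `H`
  have hX : ∀ M' : Subgroup ↥H, M'.Normal → r₀ ∣ Nat.card M' → M' = ⊤ := by
    intro M' hM'n hM'r
    let S : Set G := {x : G | x ∈ H ∧ orderOf x = r₀}
    have hLle : Subgroup.closure S ≤ H := (Subgroup.closure_le H).2 (fun x hx => hx.1)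
    have hLn : (Subgroup.closure S).Normal := by
      constructor
      intro n hn g
      have hmap : (Subgroup.closure S).map (MulAut.conj g).toMonoidHom ≤ Subgroup.closure S := by
        rw [MonoidHom.map_closure]
        apply Subgroup.closure_mono
        rintro _ ⟨x, ⟨hxH, hxo⟩, rfl⟩
        refine ⟨hHn.conj_mem x hxH g, ?_⟩
        have : orderOf ((MulAut.conj g) x) = orderOf x := MulEquiv.orderOf_eq (MulAut.conj g) x
        rw [← hxo, ← this]
        rfl
      exact hmap (Subgroup.mem_map_of_mem (MulAut.conj g).toMonoidHom hn)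
    have hLr : r₀ ∣ Nat.card (Subgroup.closure S) := by
      obtain ⟨x, hx⟩ := exists_prime_orderOf_dvd_card' (G := ↥H) r₀ hHr
      have hxS : (x : G) ∈ S := ⟨x.2, by rw [Subgroup.orderOf_coe]; exact hx⟩
      have := Subgroup.orderOf_dvd_natCard (Subgroup.closure S) (Subgroup.subset_closure hxS)
      rwa [Subgroup.orderOf_coe, hx] at this
    have hLH : Subgroup.closure S = H := hmin _ hLn hLr hLle
    -- every generator lies in `M'`
    have hidx : M'.index * Nat.card M' = Nat.card ↥H := Subgroup.index_mul_card M'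
    have hcopr : Nat.Coprime r₀ M'.index := by
      rw [Nat.Prime.coprime_iff_not_dvd hr₀p]
      intro h
      apply hHsq
      rw [← hidx, pow_two]
      exact Nat.mul_dvd_mul h hM'r
    have hgen : S ⊆ ((M'.map H.subtype : Subgroup G) : Set G) := by
      rintro x ⟨hxH, hxo⟩
      have hq1 : ((QuotientGroup.mk' M') ⟨x, hxH⟩) ^ r₀ = 1 := by
        rw [← map_pow]
        have : (⟨x, hxH⟩ : ↥H) ^ r₀ = 1 := by
          apply Subtype.ext
          rw [Subgroup.coe_pow, Subgroup.coe_one]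
          show x ^ r₀ = 1
          rw [← hxo]; exact pow_orderOf_eq_one x
        rw [this, map_one]
      have hq2 : ((QuotientGroup.mk' M') ⟨x, hxH⟩) ^ M'.index = 1 := by
        rw [Subgroup.index_eq_card]
        exact pow_card_eq_one'
      have hq3 := pow_gcd_eq_one.2 ⟨hq1, hq2⟩
      rw [Nat.Coprime.gcd_eq_one hcopr, pow_one] at hq3
      have hxM : (⟨x, hxH⟩ : ↥H) ∈ M' := (QuotientGroup.eq_one_iff _).1 hq3
      exact ⟨⟨x, hxH⟩, hxM, rfl⟩
    have hLM : Subgroup.closure S ≤ M'.map H.subtype := (Subgroup.closure_le _).2 hgen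
    rw [hLH] at hLM
    rw [eq_top_iff]
    intro h _
    obtain ⟨m, hm, hmh⟩ := hLM h.2
    have : m = h := Subtype.ext hmh
    rw [← this]; exact hm
  -- Step 4: a maximal proper normal subgroup `M₀` of `H`
  have hHnt : Nontrivial ↥H := by
    rw [← Finite.one_lt_card_iff_nontrivial]
    exact lt_of_lt_of_le hr₀p.one_lt (Nat.le_of_dvd Nat.card_pos hHr)
  have hex2 : ∃ k, ∃ M : Subgroup ↥H, M.Normal ∧ M ≠ ⊤ ∧ Nat.card ↥H - Nat.card M = k :=
    ⟨_, ⊥, inferInstance, bot_ne_top, rfl⟩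
  obtain ⟨M₀, hM₀n, hM₀top, hM₀k⟩ := Nat.find_spec hex2
  have hmax : ∀ M : Subgroup ↥H, M.Normal → M ≠ ⊤ → M₀ ≤ M → M = M₀ := by
    intro M hMn hMtop hle
    have h1 : Nat.find hex2 ≤ Nat.card ↥H - Nat.card M := Nat.find_min' hex2 ⟨M, hMn, hMtop, rfl⟩
    rw [← hM₀k] at h1
    have h2 : Nat.card M ≤ Nat.card ↥H := Subgroup.card_le_card_group M
    have h3 : Nat.card M₀ ≤ Nat.card ↥H := Subgroup.card_le_card_group M₀
    exact (Subgroup.eq_of_le_of_card_ge hle (by omega)).symm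
  have hM₀r : ¬ r₀ ∣ Nat.card M₀ := fun h => hM₀top (hX M₀ hM₀n h)
  -- Step 5: `M₀` is invariant under conjugation by `G`
  have hinv : ∀ g : G, M₀.map (MulAut.conjNormal g : MulAut ↥H).toMonoidHom = M₀ :=
    fun g => invariant_of_max r₀ hr₀p M₀ hM₀n hmax hM₀r hHr (MulAut.conjNormal g : MulAut ↥H)
  -- Step 5': the subgroup `N`
  have hNn : (M₀.map H.subtype).Normal := by
    constructor
    rintro n ⟨m, hm, rfl⟩ g
    have h1 : (MulAut.conjNormal g : MulAut ↥H) m ∈ M₀ := by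
      have : (MulAut.conjNormal g : MulAut ↥H) m ∈
          M₀.map (MulAut.conjNormal g : MulAut ↥H).toMonoidHom :=
        Subgroup.mem_map_of_mem _ hm
      rwa [hinv g] at this
    refine ⟨_, h1, ?_⟩
    exact MulAut.conjNormal_apply g m
  have hNsub : (M₀.map H.subtype).subgroupOf H = M₀ :=
    Subgroup.comap_map_eq_self_of_injective H.subtype_injective M₀
  have hNle : M₀.map H.subtype ≤ H := Subgroup.map_subtype_le M₀
  have hNlt : M₀.map H.subtype < H := by
    refine lt_of_le_of_ne hNle (fun heq => hM₀top ?_)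
    rw [eq_top_iff]
    intro h _
    have hh : (h : G) ∈ M₀.map H.subtype := by rw [heq]; exact h.2
    obtain ⟨m, hm, hmh⟩ := hh
    have : m = h := Subtype.ext hmh
    rw [← this]; exact hm
  have hcardN : Nat.card (M₀.map H.subtype) = Nat.card M₀ :=
    Subgroup.card_map_of_injective H.subtype_injective
  have hNsubn : ((M₀.map H.subtype).subgroupOf H).Normal := by rw [hNsub]; exact hM₀n
  have hsimple : IsSimpleGroup (↥H ⧸ (M₀.map H.subtype).subgroupOf H) := by
    apply simple_of_max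
    · rw [hNsub]; exact hM₀top
    · rw [hNsub]; exact hmax
  have hcardQ : Nat.card (↥H ⧸ (M₀.map H.subtype).subgroupOf H) * Nat.card M₀ = Nat.card ↥H := by
    have := Subgroup.index_mul_card ((M₀.map H.subtype).subgroupOf H)
    rw [Subgroup.index_eq_card] at this
    rw [← this]
    congr 2
    rw [hNsub]
  have hall : ∀ p ∈ PP, p ∣ Nat.card (↥H ⧸ (M₀.map H.subtype).subgroupOf H) := by
    intro p hp
    have hpp : p.Prime := hprime p hp
    have hpH : p ∣ Nat.card ↥H := by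
      by_cases hpr : p = r₀
      · rw [hpr]; exact hHr
      · by_contra hpH
        obtain ⟨g, hg⟩ := exists_orderOf_eq_mul_of_normal H r₀ p hr₀p hpp (Ne.symm hpr) hHr
          (hsq r₀ hr₀) (hdvd p hp) hpH (hnd p hp r₀ hr₀ hpr)
        exact hno r₀ hr₀ p hp (Ne.symm hpr) g hg
    have hpN : ¬ p ∣ Nat.card M₀ := by
      by_cases hpr : p = r₀
      · rw [hpr]; exact hM₀r
      · intro hpN
        have := hNn
        obtain ⟨g, hg⟩ := exists_orderOf_eq_mul_of_normal (M₀.map H.subtype) p r₀ hpp hr₀p hpr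
          (by rw [hcardN]; exact hpN) (hsq p hp) (hdvd r₀ hr₀) (by rw [hcardN]; exact hM₀r)
          (hnd r₀ hr₀ p hp (Ne.symm hpr))
        exact hno p hp r₀ hr₀ hpr g hg
    rw [← hcardQ] at hpH
    exact ((Nat.Prime.dvd_mul hpp).1 hpH).resolve_right hpN
  refine ⟨M₀.map H.subtype, H, hNn, hHn, hNlt, hsimple, ?_, hall⟩
  -- nonabelian
  intro hcomm
  have hd0 := hall r₀ hr₀
  have hd1 := hall r₁ hr₁
  obtain ⟨x, hx⟩ := exists_prime_orderOf_dvd_card'
    (G := ↥H ⧸ (M₀.map H.subtype).subgroupOf H) r₀ hd0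
  have hzn : (Subgroup.zpowers x).Normal := by
    constructor
    intro n hn g
    have : g * n * g⁻¹ = n := by
      rw [isMulCommutative_iff.1 hcomm g n, mul_inv_cancel_right]
    rw [this]; exact hn
  rcases hsimple.eq_bot_or_eq_top_of_normal _ hzn with h | h
  · have hx1 : x = 1 := by
      have : x ∈ Subgroup.zpowers x := Subgroup.mem_zpowers x
      rw [h] at this
      exact Subgroup.mem_bot.1 this
    rw [hx1, orderOf_one] at hx
    exact hr₀p.one_lt.ne hx
  · have hc : Nat.card (Subgroup.zpowers x) = r₀ := by rw [Nat.card_zpowers, hx]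
    rw [h, Subgroup.card_top] at hc
    rw [hc] at hd1
    exact hne ((Nat.prime_dvd_prime_iff_eq hr₁p hr₀p).1 hd1).symm

theorem result {G : Type*} [Group G] [Finite G] (n : ℕ) (hn : 11 ≤ n)
    (hcard : Nat.card G = Nat.card ↥(alternatingGroup (Fin n)))
    (hspec : Set.range (orderOf : G → ℕ) = Set.range (orderOf : ↥(alternatingGroup (Fin n)) → ℕ)) :
    ∃ (N H : Subgroup G) (_ : N.Normal), H.Normal ∧ N < H ∧
      IsSimpleGroup (↥H ⧸ N.subgroupOf H) ∧ ¬ IsMulCommutative (↥H ⧸ N.subgroupOf H) ∧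
      ∀ p : ℕ, p.Prime → n < 2 * p → p ≤ n → p ∣ Nat.card (↥H ⧸ N.subgroupOf H) := by
  have hnt : Nontrivial (Fin n) := Fin.nontrivial_iff_two_le.2 (by omega)
  have hcardA : Nat.card ↥(alternatingGroup (Fin n)) = n.factorial / 2 := by
    rw [nat_card_alternatingGroup, Nat.card_fin]
  rw [hcardA] at hcard
  obtain ⟨p₁, r₀, hp₁, hr₀, hp₁3, hnp₁, hp₁r₀, hr₀n⟩ :=
    exists_two_primes_half n (by omega) (by omega) (by omega)
  have hodd : ∀ p : ℕ, p.Prime → n < 2 * p → p % 2 = 1 := by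
    intro p hp h
    rcases hp.eq_two_or_odd with h2 | h2
    · omega
    · exact h2
  obtain ⟨N, H, hNn, hHn, hlt, hsimp, hnc, hall⟩ := core (G := G)
    {p | p.Prime ∧ n < 2 * p ∧ p ≤ n}
    (fun p hp => hp.1)
    (fun p hp => by
      rw [hcard]
      exact Cfsg.Agent.S3419.odd_prime_dvd_half_factorial n p hp.1 (by have := hp.2.1; omega) hp.2.2)
    (fun p hp => by
      rw [hcard]
      exact Cfsg.Agent.S3419.not_sq_dvd_half_factorial n p hp.1 hp.2.2 hp.2.1)
    (fun p hp r hr hpr g hg => by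
      have hmem : p * r ∈ Set.range (orderOf : G → ℕ) := ⟨g, hg⟩
      rw [hspec] at hmem
      obtain ⟨σ, hσ⟩ := hmem
      have h1 := hp.2.1
      have h2 := hr.2.1
      have h3 : 2 ≤ p := hp.1.two_le
      exact perm_orderOf_ne_mul n p r hp.1 hr.1 hpr (by omega) (by nlinarith)
        (σ : Equiv.Perm (Fin n)) (by rw [Subgroup.orderOf_coe]; exact hσ))
    (fun p hp r hr hpr => by
      rintro ⟨k, hk⟩
      have h1 := hp.2.1
      have h2 := hr.2.1
      have h3 := hr.2.2
      have hpo := hodd p hp.1 hp.2.1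
      have hro := hodd r hr.1 hr.2.1
      have hr2 : 2 ≤ r := hr.1.two_le
      have hk1 : k = 1 := by
        have hk0 : k ≠ 0 := by
          rintro rfl
          omega
        have hk2 : k < 2 := by
          by_contra hk2
          have h2k : 2 ≤ k := by omega
          have h4 : p * 2 ≤ p * k := Nat.mul_le_mul_left p h2k
          omega
        omega
      subst hk1
      omega)
    r₀ p₁ ⟨hr₀, by omega, hr₀n⟩ ⟨hp₁, hnp₁, by omega⟩ (by omega)
  exact ⟨N, H, hNn, hHn, hlt, hsimp, hnc, fun p hp h1 h2 => hall p ⟨hp, h1, h2⟩⟩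

end Cfsg.Agent.S3420
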