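import Cfsg.Statements.S3430
import Cfsg.Agent.Lib.helper77.CycloTab

set_option autoImplicit false
open Cfsg

namespace Cfsg.Agent.S3430

/-- A prime dividing `q ^ n - 1` but no `q ^ i - 1` with `1 ≤ i < n` is `1` modulo `n`. -/
theorem order_dvd {p q n : ℕ} (hp : p.Prime) (hq : 2 ≤ q) (hn : 1 ≤ n) (hdvd : p ∣ q ^ n - 1)
    (hprim : ∀ i : ℕ, 1 ≤ i → i < n → ¬ p ∣ q ^ i - 1) : n ∣ p - 1 := by
  have h1 : (q : ZMod p) ^ n = 1 := Cfsg.Agent.Lib.helper77.pow_eq_one_of_dvd hq hdvd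
  have ho : orderOf (q : ZMod p) ∣ n := orderOf_dvd_of_pow_eq_one h1
  have ho0 : 0 < orderOf (q : ZMod p) := Nat.pos_of_dvd_of_pos ho (by omega)
  have hon : orderOf (q : ZMod p) = n := by
    by_contra hne
    have hlt : orderOf (q : ZMod p) < n := lt_of_le_of_ne (Nat.le_of_dvd (by omega) ho) hne
    exact hprim _ ho0 hlt (Cfsg.Agent.Lib.helper77.dvd_of_pow_eq_one hq (pow_orderOf_eq_one _))
  have hpq : ¬ p ∣ q := by
    intro h
    have h2 : p ∣ q ^ n := dvd_pow h (by omega)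
    have h3 : 1 ≤ q ^ n := Nat.one_le_pow _ _ (by omega)
    have h4 : p ∣ q ^ n - (q ^ n - 1) := Nat.dvd_sub h2 hdvd
    have h5 : q ^ n - (q ^ n - 1) = 1 := by omega
    rw [h5] at h4
    exact hp.one_lt.ne' (Nat.dvd_one.mp h4)
  rw [← hon]
  exact Cfsg.Agent.Lib.helper77.orderOf_dvd_pred hp hpq

/-- The case `n = 2`. -/
theorem n_two_case (q : ℕ) (hq : 2 ≤ q)
    (h1 : ¬ ∃ s t : ℕ, t ≤ 1 ∧ q + 1 = 2 ^ s * 3 ^ t) :
    ∃ p : ℕ, p.Prime ∧ p ∣ q ^ 2 - 1 ∧ (∀ i : ℕ, 1 ≤ i → i < 2 → ¬ p ∣ q ^ i - 1) ∧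
      (2 + 1 < p ∨ p ^ 2 ∣ q ^ 2 - 1) := by
  have hfac : q ^ 2 - 1 = (q + 1) * (q - 1) := by
    have h := Nat.pow_two_sub_pow_two q 1
    simpa using h
  have hprim : ∀ p : ℕ, p.Prime → p ≠ 2 → p ∣ q + 1 →
      ∀ i : ℕ, 1 ≤ i → i < 2 → ¬ p ∣ q ^ i - 1 := by
    intro p hp hp2 hdvd i hi hi2 hdiv
    have hi1 : i = 1 := by omega
    subst hi1
    rw [pow_one] at hdiv
    have h2' : p ∣ (q + 1) - (q - 1) := Nat.dvd_sub hdvd hdiv
    have h3 : (q + 1) - (q - 1) = 2 := by omega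
    rw [h3] at h2'
    exact hp2 ((Nat.prime_dvd_prime_iff_eq hp Nat.prime_two).mp h2')
  by_cases hbig : ∃ p : ℕ, p.Prime ∧ p ∣ q + 1 ∧ 3 < p
  · obtain ⟨p, hp, hdvd, h3⟩ := hbig
    refine ⟨p, hp, ?_, hprim p hp (by omega) hdvd, Or.inl (by omega)⟩
    rw [hfac]
    exact Dvd.dvd.mul_right hdvd _
  · have hsmall : ∀ p : ℕ, p.Prime → p ∣ q + 1 → p ≤ 3 := by
      intro p hp hdvd
      by_contra hlt
      exact hbig ⟨p, hp, hdvd, by omega⟩
    obtain ⟨s, m, hm, hsm⟩ :=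
      Nat.exists_eq_pow_mul_and_not_dvd (by omega : q + 1 ≠ 0) 2 (by norm_num)
    have hm0 : m ≠ 0 := by
      rintro rfl
      simp at hsm
    obtain ⟨t, m', hm', hmm'⟩ := Nat.exists_eq_pow_mul_and_not_dvd hm0 3 (by norm_num)
    have hm'1 : m' = 1 := by
      by_contra hne
      obtain ⟨p, hp, hpm⟩ := Nat.exists_prime_and_dvd hne
      have hpm2 : p ∣ m := by
        rw [hmm']
        exact hpm.mul_left _
      have hpq : p ∣ q + 1 := by
        rw [hsm]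
        exact hpm2.mul_left _
      have hle := hsmall p hp hpq
      have h2le := hp.two_le
      have h23 : p = 2 ∨ p = 3 := by omega
      rcases h23 with rfl | rfl
      · exact hm hpm2
      · exact hm' hpm
    subst hm'1
    rw [mul_one] at hmm'
    subst hmm'
    have ht : 2 ≤ t := by
      by_contra hlt
      exact h1 ⟨s, t, by omega, hsm⟩
    have h9 : 3 ^ 2 ∣ q + 1 := by
      rw [hsm]
      exact (pow_dvd_pow 3 ht).mul_left _
    have h3 : 3 ∣ q + 1 := (Dvd.intro 3 (by norm_num) : 3 ∣ 3 ^ 2).trans h9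
    refine ⟨3, Nat.prime_three, ?_, hprim 3 Nat.prime_three (by norm_num) h3, Or.inr ?_⟩
    · rw [hfac]
      exact Dvd.dvd.mul_right h3 _
    · rw [hfac]
      exact Dvd.dvd.mul_right h9 _

/-- Let q, n ≥ 2 be integers. Unless (n = 2 and q + 1 = 2^s·3^t for some s ≥ 0 and t ≤ 1), or (q = 2 and n ∈ {4, 6, 10, 12, 18}), or (q = 3 and n ∈ {4, 6}), or (q, n) = (5, 6), there is a prime p dividing q^n − 1 but no q^i − 1 with 1 ≤ i < n (a primitive prime divisor), such that p > n + 1 or p² divides q^n − 1. -/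
theorem result (q n : ℕ) (hq : 2 ≤ q) (hn : 2 ≤ n)
    (h1 : ¬ (n = 2 ∧ ∃ s t : ℕ, t ≤ 1 ∧ q + 1 = 2 ^ s * 3 ^ t))
    (h2 : ¬ (q = 2 ∧ (n = 4 ∨ n = 6 ∨ n = 10 ∨ n = 12 ∨ n = 18)))
    (h3 : ¬ (q = 3 ∧ (n = 4 ∨ n = 6))) (h4 : ¬ (q = 5 ∧ n = 6)) :
    ∃ p : ℕ, p.Prime ∧ p ∣ q ^ n - 1 ∧ (∀ i : ℕ, 1 ≤ i → i < n → ¬ p ∣ q ^ i - 1) ∧ (n + 1 < p ∨ p ^ 2 ∣ q ^ n - 1) := by
  rcases Nat.lt_or_ge n 3 with hn3 | hn3
  · have hn2 : n = 2 := by omega
    subst hn2
    exact n_two_case q hq (fun h => h1 ⟨rfl, h⟩)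
  · by_cases hex : (q, n) ∈ Cfsg.Agent.Lib.helper77.excTab
    · unfold Cfsg.Agent.Lib.helper77.excTab at hex
      simp only [List.mem_cons, Prod.mk.injEq, List.not_mem_nil, or_false] at hex
      rcases hex with ⟨rfl, rfl⟩ | ⟨rfl, rfl⟩ | ⟨rfl, rfl⟩ | ⟨rfl, rfl⟩ | ⟨rfl, rfl⟩ | ⟨rfl, rfl⟩ |
        ⟨rfl, rfl⟩ | ⟨rfl, rfl⟩ | ⟨rfl, rfl⟩ | ⟨rfl, rfl⟩ | ⟨rfl, rfl⟩ | ⟨rfl, rfl⟩ | ⟨rfl, rfl⟩
      · exact absurd ⟨rfl, by norm_num⟩ h2
      · exact absurd ⟨rfl, by norm_num⟩ h2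
      · exact absurd ⟨rfl, by norm_num⟩ h2
      · exact absurd ⟨rfl, by norm_num⟩ h2
      · exact absurd ⟨rfl, by norm_num⟩ h2
      · exact absurd ⟨rfl, by norm_num⟩ h3
      · exact absurd ⟨rfl, by norm_num⟩ h3
      · exact absurd ⟨rfl, rfl⟩ h4
      · exact ⟨7, by norm_num, by decide, by intro i hi hin; interval_cases i <;> decide,
          Or.inl (by norm_num)⟩
      · exact ⟨17, by norm_num, by decide, by intro i hi hin; interval_cases i <;> decide,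
          Or.inl (by norm_num)⟩
      · exact ⟨41, by norm_num, by decide, by intro i hi hin; interval_cases i <;> decide,
          Or.inl (by norm_num)⟩
      · exact ⟨7, by norm_num, by decide, by intro i hi hin; interval_cases i <;> decide,
          Or.inl (by norm_num)⟩
      · exact ⟨13, by norm_num, by decide, by intro i hi hin; interval_cases i <;> decide,
          Or.inl (by norm_num)⟩
    · obtain ⟨m, hm, hcop, hbig⟩ := Cfsg.Agent.Lib.helper77.primitive_part_bound hq hn3 hex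
      have hprimitive : ∀ p : ℕ, p.Prime → p ∣ m →
          ∀ i : ℕ, 1 ≤ i → i < n → ¬ p ∣ q ^ i - 1 := by
        intro p hp hpm i hi hin hdiv
        have h5 := Nat.dvd_gcd hpm hdiv
        rw [hcop i hi hin] at h5
        exact hp.one_lt.ne' (Nat.dvd_one.mp h5)
      have hge : ∀ p : ℕ, p.Prime → p ∣ m → n + 1 ≤ p := by
        intro p hp hpm
        have h5 := order_dvd hp hq (by omega) (hpm.trans hm) (hprimitive p hp hpm)
        have h6 := hp.two_le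
        have h7 := Nat.le_of_dvd (by omega) h5
        omega
      by_cases hex2 : ∃ p : ℕ, p.Prime ∧ p ∣ m ∧ n + 1 < p
      · obtain ⟨p, hp, hpm, hlt⟩ := hex2
        exact ⟨p, hp, hpm.trans hm, hprimitive p hp hpm, Or.inl hlt⟩
      · have hm0 : m ≠ 0 := by omega
        have hall : ∀ {d : ℕ}, d.Prime → d ∣ m → d = n + 1 := by
          intro d hd hdm
          have h5 := hge d hd hdm
          by_contra hne
          exact hex2 ⟨d, hd, hdm, by omega⟩
        have hpow := Nat.eq_prime_pow_of_unique_prime_dvd hm0 hall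
        obtain ⟨p, hp, hpm⟩ := Nat.exists_prime_and_dvd (by omega : m ≠ 1)
        have hpn : p = n + 1 := hall hp hpm
        rw [hpn] at hp hpm
        have hk2 : 2 ≤ m.primeFactorsList.length := by
          by_contra hlt
          have hk1 : m.primeFactorsList.length ≤ 1 := by omega
          have h5 : (n + 1) ^ m.primeFactorsList.length ≤ (n + 1) ^ 1 :=
            Nat.pow_le_pow_right (by omega) hk1
          rw [← hpow, pow_one] at h5
          omega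
        refine ⟨n + 1, hp, hpm.trans hm, hprimitive _ hp hpm, Or.inr ?_⟩
        have h5 : (n + 1) ^ 2 ∣ m := by
          calc (n + 1) ^ 2 ∣ (n + 1) ^ m.primeFactorsList.length := pow_dvd_pow _ hk2
            _ = m := hpow.symm
        exact h5.trans hm

end Cfsg.Agent.S3430
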