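import Cfsg.Statements.S3431
import Cfsg.Agent.Lib.helper18.NseAlt
import Cfsg.Agent.Lib.helper18.NseIdent
import Cfsg.Agent.Lib.helper18.NseA4
import Cfsg.Agent.Lib.helper18.NseA5
import Cfsg.Agent.Lib.helper18.NseA6
import Cfsg.Agent.S0494
import Cfsg.Agent.S0497

set_option autoImplicit false
open Cfsg

namespace Cfsg.Agent.S3431

/-- Let n be 4, 5 or 6 and let G be a finite group whose set of sizes of same-order classes (the set of numbers #{g : o(g) = m} over the element orders m of G) equals that of the alternating group of degree n. Then G is isomorphic to that alternating group. -/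
theorem result {G : Type*} [Group G] [Finite G] (n : ℕ) (hn : n = 4 ∨ n = 5 ∨ n = 6)
    (h : ((fun m : ℕ => Nat.card {g : G // orderOf g = m}) '' Set.range (orderOf : G → ℕ)) = ((fun m : ℕ => Nat.card {g : ↥(alternatingGroup (Fin n)) // orderOf g = m}) '' Set.range (orderOf : ↥(alternatingGroup (Fin n)) → ℕ))) :
    Nonempty (G ≃* ↥(alternatingGroup (Fin n))) := by
  rcases hn with rfl | rfl | rfl
  · rw [Cfsg.Agent.Lib.helper18.nse_A4] at h
    obtain ⟨hc, h3⟩ := Cfsg.Agent.Lib.helper18.nse_A4_card h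
    exact Cfsg.Agent.Lib.helper18.a4_of_counts hc h3
  · rw [Cfsg.Agent.Lib.helper18.nse_A5] at h
    obtain ⟨hc, h3, h5, hord⟩ := Cfsg.Agent.Lib.helper18.nse_A5_card h
    have : IsSimpleGroup G := Cfsg.Agent.Lib.helper18.simple_of_spec 60 (Or.inl rfl) hc hord
      (by rw [h5]; norm_num) (by rw [h3, h5]; norm_num)
    exact Cfsg.Agent.S0494.result hc
  · rw [Cfsg.Agent.Lib.helper18.nse_A6] at h
    obtain ⟨hc, h3, h5, hord⟩ := Cfsg.Agent.Lib.helper18.nse_A6_card h
    have : IsSimpleGroup G := Cfsg.Agent.Lib.helper18.simple_of_spec 360 (Or.inr rfl) hc hord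
      (by rw [h5]; norm_num) (by rw [h3, h5]; norm_num)
    exact Cfsg.Agent.S0497.result hc

end Cfsg.Agent.S3431
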