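import Cfsg.Statements.S3496
import Cfsg.Agent.Lib.helper62.ExtPrim
import Cfsg.Agent.Lib.helper62.ExtPrimAffine
import Cfsg.Agent.Lib.helper62.PrimNormal
import Cfsg.Agent.Lib.helper62.SolvExtPrim

set_option autoImplicit false
open Cfsg

namespace Cfsg.Agent.S3496

open Cfsg.Agent.Lib.helper62 in
/-- The soluble extremely primitive groups. Let a finite solvable group G act faithfully and primitively on a finite set Ω with p ^ d points (p prime), with non-trivial point stabilizers each acting primitively on every one of its orbits. Then there is a prime q such that every orbit of a point stabilizer G_α other than {α} has exactly q points, q divides p ^ d − 1 but no p ^ i − 1 with 0 < i < d, and G_α has a normal subgroup T of order q with G_α generated by T and one further element and the order of G_α dividing q·d (so G_α is cyclic of order q, or an extension of T by a cyclic group of order dividing d). -/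
theorem result {G : Type*} [Group G] [Finite G] {Ω : Type*} [Fintype Ω] [MulAction G Ω] [FaithfulSMul G Ω] [Group.IsSolvable G] (p d : ℕ) (hp : p.Prime) (hcard : Fintype.card Ω = p ^ d)
    (hprim : MulAction.IsPreprimitive G Ω) (hH : ∀ α : Ω, MulAction.stabilizer G α ≠ ⊥) (hep : ∀ (α : Ω) (ω : Ω), MulAction.IsPreprimitive (MulAction.stabilizer G α) (MulAction.orbit (MulAction.stabilizer G α) ω)) (α : Ω) :
    ∃ q : ℕ, q.Prime ∧ (∀ ω : Ω, ω ≠ α → Nat.card (MulAction.orbit (MulAction.stabilizer G α) ω) = q) ∧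
      q ∣ p ^ d - 1 ∧ (∀ i : ℕ, 0 < i → i < d → ¬ q ∣ p ^ i - 1) ∧
      ∃ T : Subgroup G, T ≤ MulAction.stabilizer G α ∧ MulAction.stabilizer G α ≤ Subgroup.normalizer (T : Set G) ∧ Nat.card T = q ∧
        (∃ h : G, MulAction.stabilizer G α = T ⊔ Subgroup.zpowers h) ∧ Nat.card (MulAction.stabilizer G α) ∣ q * d := by
  classical
  have hfaithG : ∀ g : G, (∀ x : Ω, g • x = x) → g = 1 := by
    intro g hg
    apply FaithfulSMul.eq_of_smul_eq_smul (α := Ω)
    intro x
    rw [hg x, one_smul]
  haveI := hprim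
  haveI : Nontrivial (MulAction.stabilizer G α) := (Subgroup.nontrivial_iff_ne_bot _).mpr (hH α)
  haveI : Nontrivial G := by
    obtain ⟨x, hx⟩ := exists_ne (1 : MulAction.stabilizer G α)
    exact ⟨⟨(x : G), 1, fun h => hx (Subtype.ext h)⟩⟩
  -- the regular normal subgroup N
  obtain ⟨N, hNn, hNbot, hNc⟩ := exists_normal_abelian_of_solvable (H := G)
  haveI := hNn
  have htrN := normal_transitive_of_faithful_prim hfaithG N hNbot
  have hregN : ∀ n ∈ N, ∀ x : Ω, n • x = x → n = 1 := fun n hn x hx =>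
    normal_abelian_regular hfaithG N hNbot hNc n hn x hx
  have hcentN := normal_abelian_self_centralizing hfaithG N hNbot hNc
  have hcardN : Nat.card N = p ^ d := by
    rw [card_eq_of_regular N htrN hregN α, Nat.card_eq_fintype_card, hcard]
  obtain ⟨r, hr, hexpr⟩ := normal_abelian_exponent hfaithG N hNbot hNc
  have hrp : r = p := by
    obtain ⟨n, hn1⟩ := (Subgroup.ne_bot_iff_exists_ne_one).mp hNbot
    have h1 : orderOf n ∣ r := orderOf_dvd_of_pow_eq_one (Subtype.ext (hexpr n n.2))
    have h2 : orderOf n = r := by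
      rcases (Nat.dvd_prime hr).mp h1 with h | h
      · exact absurd (orderOf_eq_one_iff.mp h) hn1
      · exact h
    have h3 : orderOf n ∣ Nat.card N := orderOf_dvd_natCard n
    rw [h2, hcardN] at h3
    exact (Nat.prime_dvd_prime_iff_eq hr hp).mp (hr.dvd_of_dvd_pow h3)
  rw [hrp] at hexpr
  haveI hNcomm : IsMulCommutative N := ⟨⟨fun a b => Subtype.ext (hNc a a.2 b b.2)⟩⟩
  have hNtr : MulAction.IsPretransitive N Ω := ⟨fun x y => by
    obtain ⟨n, hn, h⟩ := htrN x y
    exact ⟨⟨n, hn⟩, h⟩⟩
  have hNreg : ∀ ω : Ω, MulAction.stabilizer N ω = ⊥ := by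
    intro ω
    rw [Subgroup.eq_bot_iff_forall]
    intro n hn
    exact Subtype.ext (hregN n n.2 ω hn)
  -- a point different from α
  obtain ⟨ω₁, hω₁⟩ : ∃ β : Ω, β ≠ α := by
    by_contra hall
    push Not at hall
    apply hH α
    rw [Subgroup.eq_bot_iff_forall]
    intro g _
    apply hfaithG
    intro x
    rw [hall x, hall (g • α)]
  have hfaithH : ∀ ω : Ω, ω ≠ α → ∀ h : MulAction.stabilizer G α,
      (∀ x : MulAction.orbit (MulAction.stabilizer G α) ω, h • x = x) → h = 1 := by
    intro ω hω h hfix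
    apply manning hprim α (hH α) (hep α) ω hω h
    intro x hx
    exact congrArg Subtype.val (hfix ⟨x, hx⟩)
  -- an abelian normal subgroup of the point stabilizer
  obtain ⟨M₀, hM₀n, hM₀bot, hM₀c⟩ :=
    exists_normal_abelian_of_solvable (H := MulAction.stabilizer G α)
  haveI := hM₀n
  haveI := hep α ω₁
  obtain ⟨q, hq, hexpq⟩ := normal_abelian_exponent (hfaithH ω₁ hω₁) M₀ hM₀bot hM₀c
  have hselfH := normal_abelian_self_centralizing (hfaithH ω₁ hω₁) M₀ hM₀bot hM₀c
  have hMH : M₀.map (MulAction.stabilizer G α).subtype ≤ MulAction.stabilizer G α := by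
    rintro _ ⟨m, _, rfl⟩
    exact m.2
  have hMbot : M₀.map (MulAction.stabilizer G α).subtype ≠ ⊥ := by
    intro h
    exact hM₀bot ((Subgroup.map_eq_bot_iff_of_injective M₀
      (Subgroup.subtype_injective (MulAction.stabilizer G α))).mp h)
  have hMnorm : ∀ h ∈ MulAction.stabilizer G α,
      ∀ m ∈ M₀.map (MulAction.stabilizer G α).subtype,
        h * m * h⁻¹ ∈ M₀.map (MulAction.stabilizer G α).subtype := by
    rintro h hh _ ⟨m, hm, rfl⟩
    exact ⟨⟨h, hh⟩ * m * ⟨h, hh⟩⁻¹, hM₀n.conj_mem m hm ⟨h, hh⟩, rfl⟩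
  have hMc : ∀ a ∈ M₀.map (MulAction.stabilizer G α).subtype,
      ∀ b ∈ M₀.map (MulAction.stabilizer G α).subtype, a * b = b * a := by
    rintro _ ⟨a, ha, rfl⟩ _ ⟨b, hb, rfl⟩
    exact congrArg Subtype.val (hM₀c a ha b hb)
  have hMexp : ∀ m ∈ M₀.map (MulAction.stabilizer G α).subtype, m ^ q = 1 := by
    rintro _ ⟨m, hm, rfl⟩
    have h1 := congrArg Subtype.val (hexpq m hm)
    simpa using h1
  have hMnormalizer : MulAction.stabilizer G α ≤
      Subgroup.normalizer ((M₀.map (MulAction.stabilizer G α).subtype : Subgroup G) : Set G) := by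
    rw [Subgroup.le_normalizer_iff]
    exact hMnorm
  have hirr : ∀ L : Subgroup G, L ≤ N →
      M₀.map (MulAction.stabilizer G α).subtype ≤ Subgroup.normalizer (L : Set G) →
      L = ⊥ ∨ L = N := fun L hLN hML =>
    ext_prim_affine_irred hprim α (hH α) (hep α) N hNcomm hNtr hNreg _ hMbot hMH hMnormalizer
      L hLN hML
  have hself : ∀ h ∈ MulAction.stabilizer G α,
      (∀ m ∈ M₀.map (MulAction.stabilizer G α).subtype, h * m = m * h) →
      h ∈ M₀.map (MulAction.stabilizer G α).subtype := by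
    intro h hh hcomm
    have h1 : (⟨h, hh⟩ : MulAction.stabilizer G α) ∈
        Subgroup.centralizer (M₀ : Set (MulAction.stabilizer G α)) := by
      intro m hm
      exact Subtype.ext (hcomm m ⟨m, hm, rfl⟩).symm
    rw [hselfH] at h1
    exact ⟨⟨h, hh⟩, h1, rfl⟩
  have hHN : ∀ g ∈ MulAction.stabilizer G α, (∀ n ∈ N, g * n = n * g) → g = 1 := by
    intro g hg hcomm
    have h1 : g ∈ Subgroup.centralizer (N : Set G) := fun n hn => (hcomm n hn).symm
    rw [hcentN] at h1
    exact hregN g h1 α hg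
  obtain ⟨hcardM, h3, h4, h₀, _, hgen⟩ := solv_ext_prim_core N p d hp hcardN hexpr hNbot
    (MulAction.stabilizer G α) hHN (M₀.map (MulAction.stabilizer G α).subtype) hMH hMnorm hMbot
    hMc q hq hMexp hirr hself
  have hcardM₀ : Nat.card M₀ = q := by
    rw [← hcardM]
    exact Nat.card_congr (Subgroup.equivMapOfInjective M₀ _
      (Subgroup.subtype_injective (MulAction.stabilizer G α))).toEquiv
  refine ⟨q, hq, ?_, ?_, h3, M₀.map (MulAction.stabilizer G α).subtype, hMH, hMnormalizer,
    hcardM, ⟨h₀, hgen⟩, h4⟩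
  · intro ω hω
    haveI := hep α ω
    have htrM := normal_transitive_of_faithful_prim (hfaithH ω hω) M₀ hM₀bot
    have hregM : ∀ m ∈ M₀, ∀ x : MulAction.orbit (MulAction.stabilizer G α) ω,
        m • x = x → m = 1 := fun m hm x hx =>
      normal_abelian_regular (hfaithH ω hω) M₀ hM₀bot hM₀c m hm x hx
    have h5 := card_eq_of_regular M₀ htrM hregM ⟨ω, MulAction.mem_orbit_self ω⟩
    rw [← h5, hcardM₀]
  · have h5 : Nat.card (M₀.map (MulAction.stabilizer G α).subtype) ∣ Fintype.card Ω - 1 := by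
      apply card_dvd_card_sub_one (M₀.map (MulAction.stabilizer G α).subtype) α
      · intro f hf
        exact hMH hf
      · rintro _ ⟨m, hm, rfl⟩ ω hω hfω
        haveI := hep α ω
        have h6 := normal_abelian_regular (hfaithH ω hω) M₀ hM₀bot hM₀c m hm
          (⟨ω, MulAction.mem_orbit_self ω⟩ : MulAction.orbit (MulAction.stabilizer G α) ω)
          (Subtype.ext hfω)
        rw [h6]
        rfl
    rw [hcardM, hcard] at h5
    exact h5

end Cfsg.Agent.S3496
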