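import Cfsg.Statements.S3497
import Cfsg.Agent.Lib.helper62.ExtPrim
import Cfsg.Agent.Lib.helper62.PrimNormal
import Cfsg.Agent.Lib.helper62.ElemAbGL

set_option autoImplicit false
open Cfsg

namespace Cfsg.Agent.S3497

open Cfsg.Agent.Lib.helper62 in
/-- Restrictions on the point stabilizer of an extremely primitive group. Let a finite group G act faithfully and primitively on a finite set Ω with point stabilizers H = G_α whose order is neither 1 nor a prime, each acting primitively on every one of its orbits. Then H has trivial center, the Fitting subgroup F(H) is an elementary abelian p-group for some prime p, and if F(H) ≠ 1 has order p ^ e then p ^ e divides the number of points minus one and H / F(H) embeds in GL_e(p) (there is a homomorphism from H to GL_e(p) with kernel exactly F(H)). -/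
theorem result {G : Type*} [Group G] [Finite G] {Ω : Type*} [Fintype Ω] [MulAction G Ω] [FaithfulSMul G Ω] (hprim : MulAction.IsPreprimitive G Ω) (hep : ∀ (α : Ω) (ω : Ω), MulAction.IsPreprimitive (MulAction.stabilizer G α) (MulAction.orbit (MulAction.stabilizer G α) ω)) (α : Ω)
    (hH1 : MulAction.stabilizer G α ≠ ⊥) (hHp : ¬ (Nat.card (MulAction.stabilizer G α)).Prime) :
    Subgroup.center (MulAction.stabilizer G α) = ⊥ ∧
    IsMulCommutative (Cfsg.fittingSubgroup (MulAction.stabilizer G α)) ∧
    ∃ p e : ℕ, p.Prime ∧ Nat.card (Cfsg.fittingSubgroup (MulAction.stabilizer G α)) = p ^ e ∧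
      (∀ x ∈ Cfsg.fittingSubgroup (MulAction.stabilizer G α), x ^ p = 1) ∧
      (Cfsg.fittingSubgroup (MulAction.stabilizer G α) ≠ ⊥ →
        p ^ e ∣ Fintype.card Ω - 1 ∧
        ∃ φ : MulAction.stabilizer G α →* GL (Fin e) (ZMod p), φ.ker = Cfsg.fittingSubgroup (MulAction.stabilizer G α)) := by
  -- a point different from α
  obtain ⟨ω₁, hω₁⟩ : ∃ β : Ω, β ≠ α := by
    by_contra hall
    push Not at hall
    apply hH1
    rw [Subgroup.eq_bot_iff_forall]
    intro g _
    apply FaithfulSMul.eq_of_smul_eq_smul (α := Ω)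
    intro x
    rw [hall x, hall (g • α), one_smul]
  have hfaith : ∀ ω : Ω, ω ≠ α → ∀ h : MulAction.stabilizer G α,
      (∀ x : MulAction.orbit (MulAction.stabilizer G α) ω, h • x = x) → h = 1 := by
    intro ω hω h hfix
    apply manning hprim α hH1 (hep α) ω hω h
    intro x hx
    exact congrArg Subtype.val (hfix ⟨x, hx⟩)
  haveI : Nontrivial (MulAction.stabilizer G α) := (Subgroup.nontrivial_iff_ne_bot _).mpr hH1
  haveI := hep α ω₁
  -- Part 1: trivial centre
  have hcenter : Subgroup.center (MulAction.stabilizer G α) = ⊥ := by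
    by_contra hZ
    have hZc : ∀ a ∈ Subgroup.center (MulAction.stabilizer G α),
        ∀ b ∈ Subgroup.center (MulAction.stabilizer G α), a * b = b * a :=
      fun a _ b hb => Subgroup.mem_center_iff.mp hb a
    have h1 := normal_abelian_self_centralizing (hfaith ω₁ hω₁)
      (Subgroup.center (MulAction.stabilizer G α)) hZ hZc
    have h2 : Subgroup.centralizer
        (Subgroup.center (MulAction.stabilizer G α) : Set (MulAction.stabilizer G α)) = ⊤ := by
      rw [Subgroup.centralizer_eq_top_iff_subset]
    rw [h2] at h1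
    have hreg : ∀ h : MulAction.stabilizer G α,
        h • (⟨ω₁, MulAction.mem_orbit_self ω₁⟩ : MulAction.orbit (MulAction.stabilizer G α) ω₁)
          = ⟨ω₁, MulAction.mem_orbit_self ω₁⟩ → h = 1 := fun h hh =>
      normal_abelian_regular (hfaith ω₁ hω₁) (Subgroup.center (MulAction.stabilizer G α)) hZ hZc
        h (by rw [← h1]; trivial) _ hh
    exact hHp (prime_card_of_regular_primitive _ hreg)
  refine ⟨hcenter, ?_⟩
  rcases fitting_cases (hfaith ω₁ hω₁) with hF | ⟨hF, hFn, hFnil⟩
  · -- trivial Fitting subgroup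
    have hc : ∀ a ∈ Cfsg.fittingSubgroup (MulAction.stabilizer G α),
        ∀ b ∈ Cfsg.fittingSubgroup (MulAction.stabilizer G α), a * b = b * a := by
      intro a ha b hb
      rw [hF, Subgroup.mem_bot] at ha hb
      rw [ha, hb]
    refine ⟨⟨⟨fun a b => Subtype.ext (hc a a.2 b b.2)⟩⟩, 2, 0, Nat.prime_two, ?_, ?_, ?_⟩
    · rw [hF, Subgroup.card_bot, pow_zero]
    · intro x hx
      rw [hF, Subgroup.mem_bot] at hx
      rw [hx, one_pow]
    · intro h
      exact absurd hF h
  · -- nontrivial Fitting subgroup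
    have hc := normal_nilpotent_abelian (hfaith ω₁ hω₁) _ hF hFnil
    haveI hcomm : IsMulCommutative (Cfsg.fittingSubgroup (MulAction.stabilizer G α)) :=
      ⟨⟨fun a b => Subtype.ext (hc a a.2 b b.2)⟩⟩
    obtain ⟨p, hp, hexp⟩ := normal_abelian_exponent (hfaith ω₁ hω₁) _ hF hc
    haveI : Fact p.Prime := ⟨hp⟩
    have hpg : IsPGroup p (Cfsg.fittingSubgroup (MulAction.stabilizer G α)) := fun x =>
      ⟨1, by rw [pow_one]; exact Subtype.ext (hexp x x.2)⟩
    obtain ⟨e, he⟩ := IsPGroup.iff_card.mp hpg
    refine ⟨hcomm, p, e, hp, he, hexp, fun _ => ⟨?_, ?_⟩⟩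
    · rw [← he]
      apply card_dvd_card_sub_one (Cfsg.fittingSubgroup (MulAction.stabilizer G α)) α
      · intro f _
        exact f.2
      · intro f hf ω hω hfω
        haveI := hep α ω
        apply normal_abelian_regular (hfaith ω hω) _ hF hc f hf
          (⟨ω, MulAction.mem_orbit_self ω⟩ : MulAction.orbit (MulAction.stabilizer G α) ω)
        exact Subtype.ext hfω
    · obtain ⟨φ, hφ⟩ := exists_hom_GL_ker_centralizer
        (Cfsg.fittingSubgroup (MulAction.stabilizer G α)) p e hexp he
      refine ⟨φ, ?_⟩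
      rw [hφ]
      exact normal_abelian_self_centralizing (hfaith ω₁ hω₁) _ hF hc

end Cfsg.Agent.S3497
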