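import Cfsg.Statements.S3498


set_option autoImplicit false
open Cfsg

namespace Cfsg.Agent.S3498


theorem not_pgroup_of_simple_noncomm {T : Type*} [Group T] [Finite T] (hT : IsSimpleGroup T)
    (hTc : ¬ IsMulCommutative T) (q : ℕ) [Fact q.Prime] : ¬ IsPGroup q T := by
  intro hq
  haveI := hT
  have hnt : Nontrivial (Subgroup.center T) := hq.center_nontrivial
  have hcen : Subgroup.center T = ⊤ :=
    (hT.eq_bot_or_eq_top_of_normal _ inferInstance).resolve_left
      ((Subgroup.nontrivial_iff_ne_bot _).mp hnt)
  apply hTc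
  rw [isMulCommutative_iff]
  intro a b
  have hb : b ∈ Subgroup.center T := by rw [hcen]; trivial
  exact (Subgroup.mem_center_iff.mp hb a)

/-- case `H ≤ T` (so `T = ⊤`): Burnside's transfer theorem. -/
theorem case_le {G : Type*} [Group G] [Finite G] (T : Subgroup G) [T.Normal] (hT : IsSimpleGroup T)
    (hTc : ¬ IsMulCommutative T) (H : Subgroup G) (hmax : IsCoatom H) (p : ℕ) [Fact p.Prime]
    (hcard : Nat.card H = p) (hHT : H ≤ T) : False := by
  have hp : p.Prime := Fact.out
  have hHcomm : ∀ a ∈ H, ∀ b ∈ H, a * b = b * a := by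
    haveI : IsCyclic H := isCyclic_of_prime_card hcard
    intro a ha b hb
    haveI : IsMulCommutative H := IsCyclic.isMulCommutative
    have := mul_comm' (⟨a, ha⟩ : H) ⟨b, hb⟩
    exact congrArg Subtype.val this
  have hHneT : H ≠ T := by
    intro h
    apply hTc
    rw [isMulCommutative_iff]
    intro a b
    apply Subtype.ext
    exact hHcomm a (h ▸ a.2) b (h ▸ b.2)
  have hTtop : T = ⊤ := hmax.2 T (lt_of_le_of_ne hHT hHneT)
  -- normal subgroups of G are trivial
  have hsimple : ∀ K : Subgroup G, K.Normal → K = ⊥ ∨ K = ⊤ := by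
    intro K hK
    haveI := hK
    rcases hT.eq_bot_or_eq_top_of_normal (K.subgroupOf T) inferInstance with h | h
    · left
      rw [Subgroup.subgroupOf_eq_bot, hTtop] at h
      exact disjoint_top.mp h
    · right
      rw [Subgroup.subgroupOf_eq_top, hTtop] at h
      exact top_le_iff.mp h
  have hGnotp : ¬ IsPGroup p G := by
    intro hG
    have : IsPGroup p T := hG.to_subgroup T
    exact not_pgroup_of_simple_noncomm hT hTc p this
  have hHp : IsPGroup p H := IsPGroup.of_card (n := 1) (by rw [hcard, pow_one])
  obtain ⟨P, hP⟩ := hHp.exists_le_sylow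
  have hPH : (P : Subgroup G) = H := by
    by_contra hne
    have hlt : H < (P : Subgroup G) := lt_of_le_of_ne hP (fun h => hne h.symm)
    have htop := hmax.2 _ hlt
    apply hGnotp
    have h1 : IsPGroup p (P : Subgroup G) := P.2
    rw [htop] at h1
    exact h1.of_equiv Subgroup.topEquiv
  have hHne_bot : H ≠ ⊥ := by
    intro h
    rw [h] at hcard
    simp at hcard
    exact hp.one_lt.ne hcard
  have hnorm : Subgroup.normalizer (H : Set G) = H := by
    by_contra hne
    have hlt : H < Subgroup.normalizer (H : Set G) :=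
      lt_of_le_of_ne Subgroup.le_normalizer (fun h => hne h.symm)
    have htop := hmax.2 _ hlt
    have hn : H.Normal := Subgroup.normalizer_eq_top_iff.mp htop
    rcases hsimple H hn with h | h
    · exact hHne_bot h
    · exact hmax.1 h
  have hNC : Subgroup.normalizer ((P : Subgroup G) : Set G) ≤
      Subgroup.centralizer ((P : Subgroup G) : Set G) := by
    rw [hPH, hnorm]
    intro a ha
    rw [Subgroup.mem_centralizer_iff]
    intro b hb
    exact hHcomm b hb a ha
  have hcompl := MonoidHom.ker_transferSylow_isComplement' P hNC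
  rcases hsimple _ (MonoidHom.normal_ker (MonoidHom.transferSylow P hNC)) with h | h
  · rw [h, Subgroup.isComplement'_bot_left, hPH] at hcompl
    exact hmax.1 hcompl
  · rw [h, Subgroup.isComplement'_top_left, hPH] at hcompl
    exact hHne_bot hcompl


open scoped Pointwise in
/-- case `H ⊓ T = ⊥`: coprime action argument. -/
theorem case_disjoint {G : Type*} [Group G] [Finite G] (T : Subgroup G) [T.Normal]
    (hT : IsSimpleGroup T) (hTc : ¬ IsMulCommutative T)
    (hC : Subgroup.centralizer (T : Set G) = ⊥) (H : Subgroup G) (hmax : IsCoatom H) (p : ℕ)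
    [Fact p.Prime] (hcard : Nat.card H = p) (hdisj : H ⊓ T = ⊥) : False := by
  have hp : p.Prime := Fact.out
  have hHne_bot : H ≠ ⊥ := by
    intro h
    rw [h] at hcard
    simp at hcard
    exact hp.one_lt.ne hcard
  haveI := hT
  -- Claim 1
  have claim1 : ∀ S : Subgroup G, S ≤ T → H ≤ Subgroup.normalizer (S : Set G) → S = ⊥ ∨ S = T := by
    intro S hST hHS
    by_cases hSH : S ≤ H
    · left
      rw [eq_bot_iff, ← hdisj]
      exact le_inf hSH hST
    · right
      have hlt : H < H ⊔ S := lt_of_le_of_ne le_sup_left (fun h => hSH (h ▸ le_sup_right))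
      have htop := hmax.2 _ hlt
      apply le_antisymm hST
      intro t ht
      have hmem : t ∈ ((H ⊔ S : Subgroup G) : Set G) := by rw [htop]; trivial
      rw [Subgroup.coe_mul_of_left_le_normalizer_right H S hHS] at hmem
      obtain ⟨h, hh, s, hs, rfl⟩ := hmem
      have hhT : h ∈ T := by
        have := T.mul_mem ht (T.inv_mem (hST hs))
        simpa using this
      have hmem2 : h ∈ H ⊓ T := ⟨hh, hhT⟩
      rw [hdisj, Subgroup.mem_bot] at hmem2
      subst hmem2
      simpa using hs
  -- Claim 2
  have claim2 : T ⊓ Subgroup.centralizer (H : Set G) = ⊥ := by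
    have hnorm : H ≤ Subgroup.normalizer ((T ⊓ Subgroup.centralizer (H : Set G) : Subgroup G) : Set G) := by
      rw [Subgroup.le_normalizer_iff]
      intro h hh k hk
      have hkc : k ∈ Subgroup.centralizer (H : Set G) := hk.2
      rw [Subgroup.mem_centralizer_iff] at hkc
      have e : h * k * h⁻¹ = k := by rw [hkc h hh]; simp
      rw [e]
      exact hk
    rcases claim1 _ inf_le_left hnorm with h | h
    · exact h
    · exfalso
      have h1 : T ≤ Subgroup.centralizer (H : Set G) := by rw [← h]; exact inf_le_right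
      apply hHne_bot
      rw [eq_bot_iff, ← hC]
      intro x hx
      rw [Subgroup.mem_centralizer_iff]
      intro t ht
      have h2 := h1 ht
      rw [Subgroup.mem_centralizer_iff] at h2
      exact (h2 x hx).symm
  -- the action of H on T by conjugation
  letI : MulDistribMulAction H T :=
    MulDistribMulAction.compHom T ((MulAut.conjNormal (H := T)).comp H.subtype)
  have hsmul : ∀ (h : H) (t : T), ((h • t : T) : G) = (h : G) * t * (h : G)⁻¹ := by
    intro h t
    rfl
  have hHp : IsPGroup p H := IsPGroup.of_card (n := 1) (by rw [hcard, pow_one])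
  -- Claim 3: p ∤ card T
  have claim3 : ¬ p ∣ Nat.card T := by
    have h1 := hHp.card_modEq_card_fixedPoints (α := T)
    have h2 : MulAction.fixedPoints H T = {1} := by
      ext t
      simp only [MulAction.mem_fixedPoints, Set.mem_singleton_iff]
      constructor
      · intro ht
        have hmem : (t : G) ∈ T ⊓ Subgroup.centralizer (H : Set G) := by
          refine Subgroup.mem_inf.mpr ⟨t.2, ?_⟩
          rw [Subgroup.mem_centralizer_iff]
          intro h hh
          have h3 := congrArg Subtype.val (ht ⟨h, hh⟩)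
          rw [hsmul] at h3
          calc h * t = h * t * h⁻¹ * h := by group
            _ = t * h := by rw [h3]
        rw [claim2, Subgroup.mem_bot] at hmem
        exact Subtype.ext hmem
      · rintro rfl h
        exact smul_one h
    rw [h2] at h1
    intro hdvd
    have h3 : Nat.card (({1} : Set T)) = 1 := by simp
    rw [h3] at h1
    have h4 := (Nat.modEq_zero_iff_dvd.mpr hdvd).symm.trans h1
    have h5 : p ∣ 1 := (Nat.modEq_zero_iff_dvd.mp h4.symm)
    exact hp.one_lt.ne' (Nat.dvd_one.mp h5)
  -- Claim 4
  have hcardT : 1 < Nat.card T := Finite.one_lt_card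
  obtain ⟨q, hq, hqdvd⟩ := Nat.exists_prime_and_dvd hcardT.ne'
  haveI : Fact q.Prime := ⟨hq⟩
  have hsyl : ¬ p ∣ Nat.card (Sylow q T) := by
    intro hdvd
    obtain ⟨R⟩ : Nonempty (Sylow q T) := inferInstance
    have h1 := Sylow.card_dvd_index R
    have h2 : (R : Subgroup T).index ∣ Nat.card T := Subgroup.index_dvd_card _
    exact claim3 (dvd_trans hdvd (dvd_trans h1 h2))
  obtain ⟨R, hR⟩ := hHp.nonempty_fixed_point_of_prime_not_dvd_card (Sylow q T) hsyl
  have hRinv : H ≤ Subgroup.normalizer (((R : Subgroup T).map T.subtype : Subgroup G) : Set G) := by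
    rw [Subgroup.le_normalizer_iff]
    rintro h hh _ ⟨r, hr, rfl⟩
    refine ⟨(⟨h, hh⟩ : H) • r, ?_, hsmul ⟨h, hh⟩ r⟩
    have h1 : (⟨h, hh⟩ : H) • R = R := hR ⟨h, hh⟩
    have h2 : (⟨h, hh⟩ : H) • r ∈ (⟨h, hh⟩ : H) • (R : Subgroup T) :=
      Subgroup.smul_mem_pointwise_smul _ _ _ hr
    rw [← Sylow.pointwise_smul_def, h1] at h2
    exact h2
  rcases claim1 _ (Subgroup.map_subtype_le _) hRinv with h | h
  · have hRbot : (R : Subgroup T) = ⊥ :=
      (Subgroup.map_eq_bot_iff_of_injective _ T.subtype_injective).mp h
    exact R.ne_bot_of_dvd_card hqdvd hRbot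
  · have hRtop : (R : Subgroup T) = ⊤ := by
      rw [eq_top_iff]
      intro t _
      have hmem : (t : G) ∈ (R : Subgroup T).map T.subtype := by rw [h]; exact t.2
      obtain ⟨r, hr, hrt⟩ := hmem
      have e : r = t := Subtype.ext hrt
      rw [← e]
      exact hr
    have hTq : IsPGroup q T := by
      have h1 : IsPGroup q (R : Subgroup T) := R.2
      rw [hRtop] at h1
      exact h1.of_equiv Subgroup.topEquiv
    exact not_pgroup_of_simple_noncomm hT hTc q hTq

/-- A maximal subgroup of a finite almost simple group does not have prime order. Here G is almost simple in the sense that it has a non-abelian simple normal subgroup T with trivial centralizer. -/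
theorem result {G : Type*} [Group G] [Finite G] (T : Subgroup G) [T.Normal] (hT : IsSimpleGroup T) (hTc : ¬ IsMulCommutative T)
    (hC : Subgroup.centralizer (T : Set G) = ⊥) (H : Subgroup G) (hmax : IsCoatom H) : ¬ (Nat.card H).Prime := by
  intro hprime
  haveI : Fact (Nat.card H).Prime := ⟨hprime⟩
  rcases Subgroup.eq_bot_or_eq_top_of_prime_card (T.subgroupOf H) with h | h
  · rw [Subgroup.subgroupOf_eq_bot] at h
    exact case_disjoint T hT hTc hC H hmax (Nat.card H) rfl (by rw [inf_comm]; exact disjoint_iff.mp h)
  · rw [Subgroup.subgroupOf_eq_top] at h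
    exact case_le T hT hTc H hmax (Nat.card H) rfl h

end Cfsg.Agent.S3498
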