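import Cfsg.Statements.S3501
import Cfsg.Agent.Lib.helper62.OneClassDer
import Cfsg.Agent.Lib.helper62.OneClassDerNA

set_option autoImplicit false
open Cfsg

namespace Cfsg.Agent.S3501

open Cfsg.Agent.Lib.helper62 in
/-- Let a finite group G act faithfully and primitively on a finite set Ω with at least two points, and suppose G is not almost simple (it has no non-abelian simple normal subgroup with trivial centralizer). Then the derangements of G form a single conjugacy class if and only if G is sharply 2-transitive (2-transitive, and no non-identity element fixes two points). -/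
theorem result {G : Type*} [Group G] [Finite G] {Ω : Type*} [Fintype Ω] [MulAction G Ω] [FaithfulSMul G Ω] (hΩ : 2 ≤ Fintype.card Ω) (hprim : MulAction.IsPreprimitive G Ω) (hnas : ¬ ∃ T : Subgroup G, T.Normal ∧ IsSimpleGroup T ∧ ¬ IsMulCommutative T ∧ Subgroup.centralizer (T : Set G) = ⊥) :
    Nat.card {c : ConjClasses G // ∃ g : G, ConjClasses.mk g = c ∧ ∀ ω : Ω, g • ω ≠ ω} = 1 ↔ (MulAction.IsMultiplyPretransitive G Ω 2 ∧ ∀ g : G, g ≠ 1 → ∀ a b : Ω, a ≠ b → g • a = a → g • b ≠ b) := by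
  haveI : Nontrivial Ω := Fintype.one_lt_card_iff_nontrivial.mp (by omega)
  have hfaith : ∀ g : G, (∀ x : Ω, g • x = x) → g = 1 := by
    intro g hg
    apply FaithfulSMul.eq_of_smul_eq_smul (α := Ω)
    intro x
    rw [hg x, one_smul]
  haveI := hprim
  obtain ⟨α⟩ := (inferInstance : Nonempty Ω)
  constructor
  · intro hcard
    rw [Nat.card_eq_one_iff_unique] at hcard
    obtain ⟨hsub, ⟨⟨c₀, d₀, hd₀c, hd₀⟩⟩⟩ := hcard
    have hconj : ∀ d d' : G, (∀ ω : Ω, d • ω ≠ ω) → (∀ ω : Ω, d' • ω ≠ ω) →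
        ∃ g : G, g * d * g⁻¹ = d' := by
      intro d d' hd hd'
      have h1 := hsub.elim ⟨ConjClasses.mk d, d, rfl, hd⟩ ⟨ConjClasses.mk d', d', rfl, hd'⟩
      have h2 : ConjClasses.mk d = ConjClasses.mk d' := congrArg Subtype.val h1
      rw [ConjClasses.mk_eq_mk_iff_isConj, isConj_iff] at h2
      exact h2
    have hd₀1 : d₀ ≠ 1 := fun h => hd₀ α (by rw [h, one_smul])
    obtain ⟨N, ⟨hNn, hNbot⟩, hNmin⟩ :=
      exists_minimal_subgroup (fun K : Subgroup G => K.Normal ∧ K ≠ ⊥)
        ⟨⊤, inferInstance, fun h => hd₀1 (by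
          have h1 : d₀ ∈ (⊤ : Subgroup G) := Subgroup.mem_top d₀
          rw [h] at h1
          exact Subgroup.mem_bot.mp h1)⟩
    haveI := hNn
    have hmin : ∀ K : Subgroup G, K.Normal → K ≠ ⊥ → K ≤ N → K = N :=
      fun K hK hKb hKN => hNmin K ⟨hK, hKb⟩ hKN
    by_cases hab : ∀ a ∈ N, ∀ b ∈ N, a * b = b * a
    · have htr := normal_transitive_of_faithful_prim hfaith N hNbot
      have hreg : ∀ n ∈ N, ∀ x : Ω, n • x = x → n = 1 := fun n hn x hx =>
        normal_abelian_regular hfaith N hNbot hab n hn x hx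
      have hder : ∀ d : G, (∀ ω : Ω, d • ω ≠ ω) → d ∈ N := by
        intro d hd
        obtain ⟨n, hn1⟩ := (Subgroup.ne_bot_iff_exists_ne_one).mp hNbot
        have hn1' : (n : G) ≠ 1 := fun h => hn1 (Subtype.ext h)
        obtain ⟨g, hg⟩ := hconj (n : G) d (fun ω h => hn1' (hreg n n.2 ω h)) hd
        rw [← hg]
        exact hNn.conj_mem _ n.2 g
      obtain ⟨h2, hsharp⟩ := sharp_two_trans_of_abelian N htr hreg hab hder hconj
      refine ⟨?_, hsharp⟩
      rw [MulAction.is_two_pretransitive_iff]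
      intro a b c d hab' hcd
      exact h2 a b c d hab' hcd
    · exact (false_of_nonabelian_minimal hfaith hconj N hNbot hmin hab hnas).elim
  · rintro ⟨h2t, hsharp⟩
    rw [MulAction.is_two_pretransitive_iff] at h2t
    have h2 : ∀ a b c d : Ω, a ≠ b → c ≠ d → ∃ g : G, g • a = c ∧ g • b = d :=
      fun a b c d hab hcd => h2t hab hcd
    obtain ⟨d₀, hd₀⟩ := exists_derangement (H := G) (X := Ω)
    rw [Nat.card_eq_one_iff_unique]
    refine ⟨⟨?_⟩, ⟨⟨ConjClasses.mk d₀, d₀, rfl, hd₀⟩⟩⟩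
    rintro ⟨c, d, rfl, hd⟩ ⟨c', d', rfl, hd'⟩
    apply Subtype.ext
    rw [ConjClasses.mk_eq_mk_iff_isConj, isConj_iff]
    exact sharp_two_trans_derangements_conj h2 hsharp α d d' hd hd'

end Cfsg.Agent.S3501
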