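import Cfsg.Statements.S3504


set_option autoImplicit false
open Cfsg

namespace Cfsg.Agent.S3504


/-- a fixed-point-free permutation of prime order `p` of `Fin n` has cycle type `p^(n/p)`. -/
theorem cycleType_of_derangement {n : ℕ} (g : Equiv.Perm (Fin n)) (hg : (orderOf g).Prime)
    (hd : ∀ i : Fin n, g i ≠ i) :
    orderOf g ∣ n ∧ g.cycleType = Multiset.replicate (n / orderOf g) (orderOf g) := by
  obtain ⟨k, hk⟩ := Equiv.Perm.cycleType_prime_order hg
  have hsupp : g.support = Finset.univ := by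
    ext i
    simp [Equiv.Perm.mem_support, hd i]
  have hsum : (k + 1) * orderOf g = n := by
    have h1 := Equiv.Perm.sum_cycleType g
    rw [hk, hsupp, Multiset.sum_replicate, Finset.card_univ, Fintype.card_fin] at h1
    simpa using h1
  have hpos : 0 < orderOf g := hg.pos
  refine ⟨⟨k + 1, by rw [mul_comm]; exact hsum.symm⟩, ?_⟩
  have hdiv : n / orderOf g = k + 1 := Nat.div_eq_of_eq_mul_left hpos hsum.symm
  rw [hdiv]
  exact hk

/-- existence of a fixed-point-free permutation of prime order `p ∣ n`. -/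
theorem exists_derangement {n : ℕ} (hn : 0 < n) (p : ℕ) (hp : p.Prime) (hpn : p ∣ n) :
    ∃ g : Equiv.Perm (Fin n), orderOf g = p ∧ ∀ i : Fin n, g i ≠ i := by
  have hm : (Multiset.replicate (n / p) p).sum ≤ Fintype.card (Fin n) ∧
      ∀ a ∈ Multiset.replicate (n / p) p, 2 ≤ a := by
    constructor
    · rw [Multiset.sum_replicate, Fintype.card_fin, smul_eq_mul, Nat.div_mul_cancel hpn]
    · intro a ha
      rw [Multiset.eq_of_mem_replicate ha]
      exact hp.two_le
  obtain ⟨g, hg⟩ := (Equiv.Perm.exists_with_cycleType_iff (Fin n)).mpr hm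
  have hnp : 0 < n / p := Nat.div_pos (Nat.le_of_dvd hn hpn) hp.pos
  have hord : orderOf g = p := by
    rw [← Equiv.Perm.lcm_cycleType, hg]
    apply Nat.dvd_antisymm
    · rw [Multiset.lcm_dvd]
      intro b hb
      rw [Multiset.eq_of_mem_replicate hb]
    · apply Multiset.dvd_lcm
      rw [Multiset.mem_replicate]
      exact ⟨hnp.ne', rfl⟩
  refine ⟨g, hord, ?_⟩
  have hcard : g.support.card = n := by
    rw [← Equiv.Perm.sum_cycleType, hg, Multiset.sum_replicate, smul_eq_mul, Nat.div_mul_cancel hpn]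
  have hsupp : g.support = Finset.univ := by
    rw [← Finset.card_eq_iff_eq_univ, hcard, Fintype.card_fin]
  intro i
  have : i ∈ g.support := by rw [hsupp]; exact Finset.mem_univ i
  exact Equiv.Perm.mem_support.mp this

/-- For n ≥ 5, the fixed-point-free permutations of prime order in the symmetric group of degree n form a single conjugacy class if and only if n is a prime power. -/
theorem result (n : ℕ) (hn : 5 ≤ n) :
    Nat.card {c : ConjClasses (Equiv.Perm (Fin n)) // ∃ g : Equiv.Perm (Fin n), ConjClasses.mk g = c ∧ (orderOf g).Prime ∧ ∀ i : Fin n, g i ≠ i} = 1 ↔ IsPrimePow n := by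
  have hn0 : 0 < n := by omega
  rw [Nat.card_eq_one_iff_unique]
  constructor
  · rintro ⟨hsub, ⟨⟨c, g, hgc, hgp, hgd⟩⟩⟩
    obtain ⟨hpn, hct⟩ := cycleType_of_derangement g hgp hgd
    -- if n is not a power of p := orderOf g there is another prime q ∣ n
    by_contra hnpp
    have hex : ∃ q : ℕ, q.Prime ∧ q ∣ n ∧ q ≠ orderOf g := by
      by_contra hall
      push Not at hall
      have h1 := Nat.eq_prime_pow_of_unique_prime_dvd (p := orderOf g) hn0.ne'
        (fun {d} hd hdn => hall d hd hdn)
      apply hnpp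
      rw [h1]
      refine hgp.isPrimePow.pow ?_
      intro h0
      rw [h0, pow_zero] at h1
      omega
    obtain ⟨q, hq, hqn, hqne⟩ := hex
    obtain ⟨g', hg'ord, hg'd⟩ := exists_derangement hn0 q hq hqn
    have h2 := @Subsingleton.elim _ hsub
      ⟨c, g, hgc, hgp, hgd⟩ ⟨ConjClasses.mk g', g', rfl, by rw [hg'ord]; exact hq, hg'd⟩
    have h3 : c = ConjClasses.mk g' := congrArg Subtype.val h2
    rw [← hgc, ConjClasses.mk_eq_mk_iff_isConj] at h3
    have h4 : orderOf g = orderOf g' := by
      rw [← Equiv.Perm.lcm_cycleType, ← Equiv.Perm.lcm_cycleType,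
        Equiv.Perm.isConj_iff_cycleType_eq.mp h3]
    exact hqne (by rw [h4, hg'ord])
  · intro hpp
    obtain ⟨p, k, hp, hk, rfl⟩ := (isPrimePow_nat_iff _).mp hpp
    have hpn : p ∣ p ^ k := dvd_pow_self p hk.ne'
    constructor
    · constructor
      rintro ⟨c, g, hgc, hgp, hgd⟩ ⟨c', g', hgc', hgp', hgd'⟩
      apply Subtype.ext
      change c = c'
      obtain ⟨h1, hct⟩ := cycleType_of_derangement g hgp hgd
      obtain ⟨h1', hct'⟩ := cycleType_of_derangement g' hgp' hgd'
      have e : orderOf g = p := (Nat.prime_dvd_prime_iff_eq hgp hp).mp (hgp.dvd_of_dvd_pow h1)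
      have e' : orderOf g' = p := (Nat.prime_dvd_prime_iff_eq hgp' hp).mp (hgp'.dvd_of_dvd_pow h1')
      rw [← hgc, ← hgc', ConjClasses.mk_eq_mk_iff_isConj, Equiv.Perm.isConj_iff_cycleType_eq,
        hct, hct', e, e']
    · obtain ⟨g, hgord, hgd⟩ := exists_derangement hn0 p hp hpn
      exact ⟨⟨ConjClasses.mk g, g, rfl, by rw [hgord]; exact hp, hgd⟩⟩

end Cfsg.Agent.S3504
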