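import Cfsg.Statements.S3508
import Cfsg.Agent.Lib.helper62.Unipotent

set_option autoImplicit false
open Cfsg

namespace Cfsg.Agent.S3508

open scoped IsMulCommutative in
/-- Let a finite group G act faithfully on a set Ω with p ^ m points (p prime) and have an elementary abelian normal p-subgroup N acting regularly on Ω (so G is a group of affine transformations of an m-dimensional space over the field with p elements). If G contains an element of order p ^ r with r ≥ 1, then p ^ (r − 1) ≤ m. In particular an element of order p ^ m forces m ≤ 2, and m ≤ 1 when p is odd. -/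
theorem result {G : Type*} [Group G] [Finite G] {Ω : Type*} [Fintype Ω] [MulAction G Ω] [FaithfulSMul G Ω] (p m : ℕ) (hp : p.Prime) (hcard : Fintype.card Ω = p ^ m)
    (N : Subgroup G) [N.Normal] (hNc : IsMulCommutative N) (hNp : ∀ n ∈ N, n ^ p = 1)
    (hNtr : MulAction.IsPretransitive N Ω) (hNreg : ∀ ω : Ω, MulAction.stabilizer N ω = ⊥)
    (g : G) (r : ℕ) (hr : 1 ≤ r) (hg : orderOf g = p ^ r) :
    p ^ (r - 1) ≤ m ∧ (r = m → m ≤ 2 ∧ (2 < p → m ≤ 1)) := by
  haveI : Fact p.Prime := ⟨hp⟩
  have hmain : p ^ (r - 1) ≤ m := by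
    by_contra hlt
    push Not at hlt
    -- card of N
    have hΩne : Nonempty Ω := by
      have : 0 < Fintype.card Ω := by rw [hcard]; exact pow_pos hp.pos _
      exact Fintype.card_pos_iff.mp this
    obtain ⟨ω₀⟩ := hΩne
    have hcardN : Nat.card N = p ^ m := by
      have hbij : Function.Bijective (fun n : N => n • ω₀) := by
        constructor
        · intro a b hab
          have h1 : a⁻¹ * b ∈ MulAction.stabilizer N ω₀ := by
            rw [MulAction.mem_stabilizer_iff, mul_smul]
            change a⁻¹ • (b • ω₀) = ω₀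
            have hab' : a • ω₀ = b • ω₀ := hab
            rw [← hab', inv_smul_smul]
          rw [hNreg ω₀, Subgroup.mem_bot] at h1
          exact (inv_mul_eq_one.mp h1)
        · intro ω
          exact MulAction.exists_smul_eq N ω₀ ω
      rw [Nat.card_congr (Equiv.ofBijective _ hbij), Nat.card_eq_fintype_card, hcard]
    have hexp : ∀ a : N, a ^ p = 1 := fun a => Subtype.ext (hNp a a.2)
    have hc : (MulAut.conjNormal g : MulAut N) ^ (p ^ r) = 1 := by
      rw [← map_pow, ← hg, pow_orderOf_eq_one, map_one]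
    have hgq : g ^ (p ^ (r - 1)) = 1 := by
      apply FaithfulSMul.eq_of_smul_eq_smul (α := Ω)
      intro ω
      rw [one_smul]
      obtain ⟨n, hn⟩ := MulAction.exists_smul_eq N ω (g • ω)
      let b : ℕ → N := fun i => Nat.rec 1 (fun _ x => (MulAut.conjNormal g : MulAut N) x * n) i
      have hb0 : b 0 = 1 := rfl
      have hb : ∀ i, b (i + 1) = (MulAut.conjNormal g : MulAut N) (b i) * n := fun i => rfl
      have hbq := Cfsg.Agent.Lib.helper62.twisted_pow_eq_one p m hexp hcardN
        (MulAut.conjNormal g) r hc (r - 1) hlt n b hb0 hb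
      have key : ∀ i, g ^ i • ω = (b i).1 • ω := by
        intro i
        induction i with
        | zero => simp [hb0]
        | succ i ih =>
          rw [pow_succ', mul_smul, ih, hb, Subgroup.coe_mul, MulAut.conjNormal_apply, mul_smul]
          have hn' : (n : G) • ω = g • ω := hn
          rw [hn', mul_smul, mul_smul, inv_smul_smul]
      rw [key, hbq]
      simp
    have hdvd := orderOf_dvd_of_pow_eq_one hgq
    rw [hg] at hdvd
    have hle := Nat.le_of_dvd (pow_pos hp.pos _) hdvd
    have hlt2 : p ^ (r - 1) < p ^ r := Nat.pow_lt_pow_right hp.one_lt (by omega)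
    omega
  refine ⟨hmain, ?_⟩
  intro hrm
  subst hrm
  have h2 : 2 ^ (r - 1) ≤ p ^ (r - 1) := Nat.pow_le_pow_left hp.two_le _
  constructor
  · by_contra h3
    push Not at h3
    obtain ⟨j, rfl⟩ : ∃ j, r = j + 3 := ⟨r - 3, by omega⟩
    have h4 : j < 2 ^ j := Nat.lt_two_pow_self
    have h5 : 2 ^ (j + 3 - 1) = 4 * 2 ^ j := by
      rw [show j + 3 - 1 = j + 2 by omega, pow_add]; ring
    omega
  · intro hp2
    by_contra h3
    push Not at h3
    obtain ⟨j, rfl⟩ : ∃ j, r = j + 2 := ⟨r - 2, by omega⟩
    have h4 : j < 2 ^ j := Nat.lt_two_pow_self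
    have h6 : 3 ^ (j + 2 - 1) ≤ p ^ (j + 2 - 1) := Nat.pow_le_pow_left hp2 _
    have h7 : 2 ^ j ≤ 3 ^ j := Nat.pow_le_pow_left (by norm_num) _
    have h5 : 3 ^ (j + 2 - 1) = 3 * 3 ^ j := by
      rw [show j + 2 - 1 = j + 1 by omega, pow_succ]; ring
    omega

end Cfsg.Agent.S3508
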