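import Cfsg.Statements.S3511

set_option autoImplicit false
open Cfsg

namespace Cfsg.Agent.S3511

/-- Let a finite group G act faithfully on a set Ω. If every element of G of square-free order has a regular cycle (an orbit of the cyclic group it generates with trivial stabilizer), then every element of G has a regular cycle. -/
theorem result {G : Type*} [Group G] [Finite G] {Ω : Type*} [MulAction G Ω] [FaithfulSMul G Ω]
    (h : ∀ g : G, Squarefree (orderOf g) → ∃ ω : Ω, MulAction.stabilizer (Subgroup.zpowers g) ω = ⊥) (g : G) :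
    ∃ ω : Ω, MulAction.stabilizer (Subgroup.zpowers g) ω = ⊥ := by
  induction' hn : orderOf g using Nat.strong_induction_on with n ih generalizing g
  by_cases hsq : Squarefree (orderOf g)
  · exact h g hsq
  · rw [Nat.squarefree_iff_prime_squarefree] at hsq
    push Not at hsq
    obtain ⟨p, hp, hpp⟩ := hsq
    have hpos : 0 < orderOf g := orderOf_pos g
    have hpdvd : p ∣ orderOf g := dvd_trans (dvd_mul_right p p) hpp
    have hlt : orderOf (g ^ p) < n := by
      rw [orderOf_pow_of_dvd hp.ne_zero hpdvd, ← hn]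
      exact Nat.div_lt_self hpos hp.one_lt
    obtain ⟨ω, hω⟩ := ih (orderOf (g ^ p)) hlt (g ^ p) rfl
    refine ⟨ω, ?_⟩
    rw [Subgroup.eq_bot_iff_forall] at hω ⊢
    rintro ⟨x, hx⟩ hxω
    obtain ⟨k, rfl⟩ := hx
    rw [MulAction.mem_stabilizer_iff] at hxω
    have hxω' : (g ^ k) • ω = ω := hxω
    have hpow : ∀ m : ℕ, ((g ^ k) ^ m) • ω = ω := by
      intro m
      induction m with
      | zero => simp
      | succ m ihm => rw [pow_succ, mul_smul, hxω', ihm]
    -- (g^p)^k fixes ω
    have h1 : (⟨(g ^ p) ^ k, ⟨k, rfl⟩⟩ : Subgroup.zpowers (g ^ p)) = 1 := by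
      apply hω
      rw [MulAction.mem_stabilizer_iff]
      change ((g ^ p) ^ k) • ω = ω
      have : (g ^ p) ^ k = (g ^ k) ^ p := by
        rw [← zpow_natCast, ← zpow_natCast, ← zpow_mul, ← zpow_mul, mul_comm]
      rw [this]
      exact hpow p
    have h2 : (g ^ p) ^ k = 1 := by
      have := congrArg Subtype.val h1
      simpa using this
    have h3 : (orderOf g : ℤ) ∣ (p : ℤ) * k := by
      rw [orderOf_dvd_iff_zpow_eq_one, zpow_mul, zpow_natCast]
      exact h2
    obtain ⟨m, hm⟩ := hpp
    have h4 : (p : ℤ) ∣ k := by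
      rw [hm] at h3
      have h5 : ((p : ℤ) * ((p : ℤ) * m)) ∣ (p : ℤ) * k := by
        have : ((p * p * m : ℕ) : ℤ) = (p : ℤ) * ((p : ℤ) * m) := by push_cast; ring
        rw [this] at h3
        exact h3
      have hp0 : (p : ℤ) ≠ 0 := by exact_mod_cast hp.ne_zero
      have h6 := (mul_dvd_mul_iff_left hp0).mp h5
      exact dvd_trans (dvd_mul_right _ _) h6
    obtain ⟨j, rfl⟩ := h4
    have h7 : (⟨(g ^ p) ^ j, ⟨j, rfl⟩⟩ : Subgroup.zpowers (g ^ p)) = 1 := by
      apply hω
      rw [MulAction.mem_stabilizer_iff]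
      change ((g ^ p) ^ j) • ω = ω
      have : (g ^ p) ^ j = g ^ ((p : ℤ) * j) := by
        rw [← zpow_natCast, ← zpow_mul]
      rw [this]
      exact hxω'
    have h8 : (g ^ p) ^ j = 1 := by
      have := congrArg Subtype.val h7
      simpa using this
    apply Subtype.ext
    change g ^ ((p : ℤ) * j) = 1
    rw [zpow_mul, zpow_natCast]
    exact h8

end Cfsg.Agent.S3511
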