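import Cfsg.Statements.S3515


set_option autoImplicit false
open Cfsg

namespace Cfsg.Agent.S3515

theorem zmod2_cases : ∀ x : Fin 2 → ZMod 2, x = 0 ∨ x = ![1, 0] ∨ x = ![0, 1] ∨ x = ![1, 1] := by
  decide

theorem zmod2_ne0 : ¬ (![1, 1] : Fin 2 → ZMod 2) = 0 := by decide

theorem zmod2_ne1 : ¬ (![1, 1] : Fin 2 → ZMod 2) = ![1, 0] := by decide

theorem zmod2_ne2 : ¬ (![1, 1] : Fin 2 → ZMod 2) = ![0, 1] := by decide

/-- Every primitive affine permutation group of degree p² is 3-closed. Let p be a prime and G a group of permutations of the plane V = F_p² consisting of affine maps x ↦ Ax + b, containing all translations, and acting primitively on V. Then any permutation σ of V that agrees on every triple of points with some element of G (σ preserves every G-orbit on ordered triples) already lies in G. -/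
theorem result (p : ℕ) [Fact p.Prime] (G : Subgroup (Equiv.Perm (Fin 2 → ZMod p)))
    (haff : (G : Set (Equiv.Perm (Fin 2 → ZMod p))) ⊆ {τ : Equiv.Perm (Fin 2 → ZMod p) | ∃ (A : (Fin 2 → ZMod p) ≃ₗ[ZMod p] (Fin 2 → ZMod p)) (b : Fin 2 → ZMod p), ∀ x, τ x = A x + b})
    (htrans : ∀ b : Fin 2 → ZMod p, ∃ g ∈ G, ∀ x, g x = x + b) (hprim : MulAction.IsPreprimitive G (Fin 2 → ZMod p))
    (σ : Equiv.Perm (Fin 2 → ZMod p)) (hσ : (∀ t : Fin 3 → (Fin 2 → ZMod p), ∃ g ∈ G, ∀ i, σ (t i) = g (t i))) : σ ∈ G := by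
  classical
  obtain ⟨g₀, hg₀, hg₀t⟩ := hσ ![0, ![1, 0], ![0, 1]]
  have hs0 : σ 0 = g₀ 0 := by simpa using hg₀t 0
  have hs1 : σ ![1, 0] = g₀ ![1, 0] := by simpa using hg₀t 1
  have hs2 : σ ![0, 1] = g₀ ![0, 1] := by simpa using hg₀t 2
  -- τ = g₀⁻¹ * σ
  have hτ : ∀ t : Fin 3 → (Fin 2 → ZMod p), ∃ g ∈ G, ∀ i, (g₀⁻¹ * σ) (t i) = g (t i) := by
    intro t
    obtain ⟨g', hg', hg't⟩ := hσ t
    refine ⟨g₀⁻¹ * g', G.mul_mem (G.inv_mem hg₀) hg', ?_⟩
    intro i
    rw [Equiv.Perm.mul_apply, Equiv.Perm.mul_apply, hg't i]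
  have h0 : (g₀⁻¹ * σ) 0 = 0 := by
    rw [Equiv.Perm.mul_apply, hs0, Equiv.Perm.inv_def, Equiv.symm_apply_apply]
  have he1 : (g₀⁻¹ * σ) ![1, 0] = ![1, 0] := by
    rw [Equiv.Perm.mul_apply, hs1, Equiv.Perm.inv_def, Equiv.symm_apply_apply]
  have he2 : (g₀⁻¹ * σ) ![0, 1] = ![0, 1] := by
    rw [Equiv.Perm.mul_apply, hs2, Equiv.Perm.inv_def, Equiv.symm_apply_apply]
  suffices hfix : ∀ x, (g₀⁻¹ * σ) x = x by
    have h1 : g₀⁻¹ * σ = 1 := Equiv.ext hfix
    have h2 : σ = g₀ := by
      have := congrArg (fun y => g₀ * y) h1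
      simpa using this
    rw [h2]
    exact hg₀
  generalize g₀⁻¹ * σ = τ at hτ h0 he1 he2
  have key : ∀ P Q : Fin 2 → ZMod p, τ P = P → τ Q = Q → ∀ c : ZMod p,
      τ ((1 - c) • P + c • Q) = (1 - c) • P + c • Q := by
    intro P Q hP hQ c
    obtain ⟨g, hg, hgt⟩ := hτ ![P, Q, (1 - c) • P + c • Q]
    obtain ⟨A, b, hA⟩ := haff hg
    have h0' : τ P = g P := by simpa using hgt 0
    have h1' : τ Q = g Q := by simpa using hgt 1
    have h2' : τ ((1 - c) • P + c • Q) = g ((1 - c) • P + c • Q) := by simpa using hgt 2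
    have hP' : A P + b = P := by rw [← hA, ← h0', hP]
    have hQ' : A Q + b = Q := by rw [← hA, ← h1', hQ]
    rw [h2', hA, map_add, map_smul, map_smul]
    calc (1 - c) • A P + c • A Q + b = (1 - c) • (A P + b) + c • (A Q + b) := by module
      _ = _ := by rw [hP', hQ']
  have hax1 : ∀ a : ZMod p, τ ![a, 0] = ![a, 0] := by
    intro a
    have h := key 0 ![1, 0] h0 he1 a
    have e : (1 - a) • (0 : Fin 2 → ZMod p) + a • ![1, 0] = ![a, 0] := by
      ext i; fin_cases i <;> simp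
    rw [e] at h
    exact h
  have hax2 : ∀ a : ZMod p, τ ![0, a] = ![0, a] := by
    intro a
    have h := key 0 ![0, 1] h0 he2 a
    have e : (1 - a) • (0 : Fin 2 → ZMod p) + a • ![0, 1] = ![0, a] := by
      ext i; fin_cases i <;> simp
    rw [e] at h
    exact h
  by_cases hp2 : p = 2
  · subst hp2
    have hall : ∀ x : Fin 2 → ZMod 2, x = 0 ∨ x = ![1, 0] ∨ x = ![0, 1] ∨ x = ![1, 1] := zmod2_cases
    intro x
    rcases hall x with rfl | rfl | rfl | rfl
    · exact h0
    · exact he1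
    · exact he2
    · rcases hall (τ ![1, 1]) with h | h | h | h
      · rw [← h0] at h
        have := τ.injective h
        exact absurd this zmod2_ne0
      · rw [← he1] at h
        have := τ.injective h
        exact absurd this zmod2_ne1
      · rw [← he2] at h
        have := τ.injective h
        exact absurd this zmod2_ne2
      · exact h
  · have h2ne : (2 : ZMod p) ≠ 0 := by
      intro h
      have h' : ((2 : ℕ) : ZMod p) = 0 := by exact_mod_cast h
      rw [ZMod.natCast_eq_zero_iff] at h'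
      have := (Nat.prime_dvd_prime_iff_eq (Fact.out : p.Prime) Nat.prime_two).mp h'
      exact hp2 this
    intro x
    have h := key ![-(x 0), 0] ![0, x 1 / 2] (hax1 _) (hax2 _) 2
    have e : (1 - 2 : ZMod p) • ![-(x 0), 0] + (2 : ZMod p) • ![0, x 1 / 2] = x := by
      ext i
      fin_cases i
      · simp
        ring
      · simp
        field_simp
    rw [e] at h
    exact h

end Cfsg.Agent.S3515
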