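import Cfsg.Statements.S3516


set_option autoImplicit false
open Cfsg

namespace Cfsg.Agent.S3516

/-- Let p be an odd prime, d ≥ 3, and G a group of affine permutations x ↦ Ax + b of V = F_p^d containing all translations and all maps x ↦ Ax with A of determinant 1. Then the 3-closure of G is the full affine group: a permutation σ of V agrees on every triple of points with some element of G if and only if σ is an affine map. -/
theorem result (p : ℕ) [Fact p.Prime] (hp : p ≠ 2) (d : ℕ) (hd : 3 ≤ d) (G : Subgroup (Equiv.Perm (Fin d → ZMod p)))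
    (haff : (G : Set (Equiv.Perm (Fin d → ZMod p))) ⊆ {τ : Equiv.Perm (Fin d → ZMod p) | ∃ (A : (Fin d → ZMod p) ≃ₗ[ZMod p] (Fin d → ZMod p)) (b : Fin d → ZMod p), ∀ x, τ x = A x + b})
    (htrans : ∀ b : Fin d → ZMod p, ∃ g ∈ G, ∀ x, g x = x + b)
    (hsl : ∀ A : (Fin d → ZMod p) ≃ₗ[ZMod p] (Fin d → ZMod p), LinearMap.det (A : (Fin d → ZMod p) →ₗ[ZMod p] (Fin d → ZMod p)) = 1 → ∃ g ∈ G, ∀ x, g x = A x)
    (σ : Equiv.Perm (Fin d → ZMod p)) :
    (∀ t : Fin 3 → (Fin d → ZMod p), ∃ g ∈ G, ∀ i, σ (t i) = g (t i)) ↔ σ ∈ {τ : Equiv.Perm (Fin d → ZMod p) | ∃ (A : (Fin d → ZMod p) ≃ₗ[ZMod p] (Fin d → ZMod p)) (b : Fin d → ZMod p), ∀ x, τ x = A x + b} := by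
  classical
  have h2ne : (2 : ZMod p) ≠ 0 := by
    intro h
    have h' : ((2 : ℕ) : ZMod p) = 0 := by exact_mod_cast h
    rw [ZMod.natCast_eq_zero_iff] at h'
    have := (Nat.prime_dvd_prime_iff_eq (Fact.out : p.Prime) Nat.prime_two).mp h'
    exact hp this
  constructor
  · intro hσ
    -- homogeneity
    have hom : ∀ (c : ZMod p) (x : Fin d → ZMod p), σ (c • x) - σ 0 = c • (σ x - σ 0) := by
      intro c x
      obtain ⟨g, hg, hgt⟩ := hσ ![0, x, c • x]
      obtain ⟨A, b, hA⟩ := haff hg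
      have h0 : σ 0 = g 0 := by simpa using hgt 0
      have h1 : σ x = g x := by simpa using hgt 1
      have h2 : σ (c • x) = g (c • x) := by simpa using hgt 2
      rw [h2, h1, h0, hA, hA, hA, map_smul, map_zero]
      module
    have mid : ∀ x y : Fin d → ZMod p,
        σ ((2 : ZMod p)⁻¹ • (x + y)) = (2 : ZMod p)⁻¹ • (σ x + σ y) := by
      intro x y
      obtain ⟨g, hg, hgt⟩ := hσ ![x, y, (2 : ZMod p)⁻¹ • (x + y)]
      obtain ⟨A, b, hA⟩ := haff hg
      have h0 : σ x = g x := by simpa using hgt 0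
      have h1 : σ y = g y := by simpa using hgt 1
      have h2 : σ ((2 : ZMod p)⁻¹ • (x + y)) = g ((2 : ZMod p)⁻¹ • (x + y)) := by simpa using hgt 2
      rw [h2, h1, h0, hA, hA, hA, map_smul, map_add]
      have e : b = (2 : ZMod p)⁻¹ • ((2 : ZMod p) • b) := by
        rw [smul_smul, inv_mul_cancel₀ h2ne, one_smul]
      calc (2 : ZMod p)⁻¹ • (A x + A y) + b
          = (2 : ZMod p)⁻¹ • (A x + A y) + (2 : ZMod p)⁻¹ • ((2 : ZMod p) • b) := by rw [← e]
        _ = (2 : ZMod p)⁻¹ • (A x + b + (A y + b)) := by module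
    have add : ∀ x y : Fin d → ZMod p, σ (x + y) - σ 0 = (σ x - σ 0) + (σ y - σ 0) := by
      intro x y
      have e1 : x + y = (2 : ZMod p) • ((2 : ZMod p)⁻¹ • (x + y)) := by
        rw [smul_smul, mul_inv_cancel₀ h2ne, one_smul]
      have h1 := hom 2 ((2 : ZMod p)⁻¹ • (x + y))
      rw [← e1, mid x y] at h1
      rw [h1]
      have e : σ 0 = (2 : ZMod p)⁻¹ • ((2 : ZMod p) • σ 0) := by
        rw [smul_smul, inv_mul_cancel₀ h2ne, one_smul]
      calc (2 : ZMod p) • ((2 : ZMod p)⁻¹ • (σ x + σ y) - σ 0)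
          = (2 : ZMod p) • ((2 : ZMod p)⁻¹ • (σ x + σ y) - (2 : ZMod p)⁻¹ • ((2 : ZMod p) • σ 0)) := by
            rw [← e]
        _ = ((2 : ZMod p) * (2 : ZMod p)⁻¹) • ((σ x - σ 0) + (σ y - σ 0)) := by module
        _ = (σ x - σ 0) + (σ y - σ 0) := by rw [mul_inv_cancel₀ h2ne, one_smul]
    let L : (Fin d → ZMod p) →ₗ[ZMod p] (Fin d → ZMod p) :=
      { toFun := fun x => σ x - σ 0
        map_add' := add
        map_smul' := by
          intro c x
          simpa using hom c x }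
    have hL : Function.Bijective L := by
      constructor
      · intro x y hxy
        have : σ x - σ 0 = σ y - σ 0 := hxy
        exact σ.injective (sub_left_injective this)
      · intro y
        refine ⟨σ.symm (y + σ 0), ?_⟩
        change σ (σ.symm (y + σ 0)) - σ 0 = y
        rw [Equiv.apply_symm_apply, add_sub_cancel_right]
    refine ⟨LinearEquiv.ofBijective L hL, σ 0, ?_⟩
    intro x
    change σ x = (σ x - σ 0) + σ 0
    rw [sub_add_cancel]
  · rintro ⟨A, b, hA⟩
    intro t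
    -- a functional vanishing on t 1 - t 0 and t 2 - t 0
    have hlt : Submodule.span (ZMod p) ({t 1 - t 0, t 2 - t 0} : Set (Fin d → ZMod p)) < ⊤ := by
      rw [lt_top_iff_ne_top]
      intro htop
      have h1 : Module.finrank (ZMod p)
          (Submodule.span (ZMod p) (({t 1 - t 0, t 2 - t 0} : Finset (Fin d → ZMod p)) :
            Set (Fin d → ZMod p))) ≤ ({t 1 - t 0, t 2 - t 0} : Finset (Fin d → ZMod p)).card :=
        finrank_span_finset_le_card _
      have h2 : ({t 1 - t 0, t 2 - t 0} : Finset (Fin d → ZMod p)).card ≤ 2 :=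
        Finset.card_insert_le _ _
      have h3 : ((({t 1 - t 0, t 2 - t 0} : Finset (Fin d → ZMod p))) : Set (Fin d → ZMod p)) =
          ({t 1 - t 0, t 2 - t 0} : Set (Fin d → ZMod p)) := by simp
      rw [h3, htop, finrank_top, Module.finrank_fin_fun] at h1
      omega
    obtain ⟨φ, hφ0, hφW⟩ := Submodule.exists_le_ker_of_lt_top _ hlt
    have hφ1 : φ (t 1 - t 0) = 0 :=
      LinearMap.mem_ker.mp (hφW (Submodule.subset_span (by simp)))
    have hφ2 : φ (t 2 - t 0) = 0 :=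
      LinearMap.mem_ker.mp (hφW (Submodule.subset_span (by simp)))
    obtain ⟨w₀, hw₀⟩ : ∃ w₀, φ w₀ ≠ 0 := by
      by_contra hall
      push Not at hall
      exact hφ0 (LinearMap.ext hall)
    have hdetA : LinearMap.det (A : (Fin d → ZMod p) →ₗ[ZMod p] (Fin d → ZMod p)) ≠ 0 :=
      (LinearEquiv.isUnit_det' A).ne_zero
    set δ := LinearMap.det (A : (Fin d → ZMod p) →ₗ[ZMod p] (Fin d → ZMod p)) with hδ
    have hval : 1 + φ ((δ⁻¹ - 1) • ((φ w₀)⁻¹ • w₀)) = δ⁻¹ := by
      rw [map_smul, map_smul, smul_eq_mul, smul_eq_mul, inv_mul_cancel₀ hw₀]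
      ring
    have hunit : IsUnit (1 + φ ((δ⁻¹ - 1) • ((φ w₀)⁻¹ • w₀))) := by
      rw [hval]
      exact (inv_ne_zero hdetA).isUnit
    let D : (Fin d → ZMod p) ≃ₗ[ZMod p] (Fin d → ZMod p) := LinearEquiv.dilatransvection hunit
    have hDapply : ∀ x, φ x = 0 → D x = x := by
      intro x hx
      change LinearEquiv.dilatransvection hunit x = x
      rw [LinearEquiv.dilatransvection.apply, hx, zero_smul, add_zero]
    have hdetB : LinearMap.det ((D.trans A : (Fin d → ZMod p) ≃ₗ[ZMod p] (Fin d → ZMod p)) :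
        (Fin d → ZMod p) →ₗ[ZMod p] (Fin d → ZMod p)) = 1 := by
      have e : ((D.trans A : (Fin d → ZMod p) ≃ₗ[ZMod p] (Fin d → ZMod p)) :
          (Fin d → ZMod p) →ₗ[ZMod p] (Fin d → ZMod p)) =
          (A : (Fin d → ZMod p) →ₗ[ZMod p] (Fin d → ZMod p)) ∘ₗ
            (LinearMap.transvection φ ((δ⁻¹ - 1) • ((φ w₀)⁻¹ • w₀))) := by
        ext x
        rfl
      rw [e, LinearMap.det_comp, LinearMap.transvection.det, hval, ← hδ, mul_inv_cancel₀ hdetA]
    obtain ⟨gB, hgB, hgBx⟩ := hsl (D.trans A) hdetB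
    obtain ⟨g1, hg1, hg1x⟩ := htrans (-(t 0))
    obtain ⟨g2, hg2, hg2x⟩ := htrans (A (t 0) + b)
    refine ⟨g2 * gB * g1, G.mul_mem (G.mul_mem hg2 hgB) hg1, ?_⟩
    have hφi : ∀ i, φ (t i - t 0) = 0 := by
      intro i
      fin_cases i
      · simp
      · exact hφ1
      · exact hφ2
    intro i
    rw [Equiv.Perm.mul_apply, Equiv.Perm.mul_apply, hg1x, hgBx, hg2x, hA]
    change A (t i) + b = A (D (t i + -t 0)) + (A (t 0) + b)
    rw [← sub_eq_add_neg, hDapply _ (hφi i), map_sub]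
    abel

end Cfsg.Agent.S3516
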