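import Cfsg.Statements.S3517
-- import your own Cfsg.Agent.* helpers here

set_option autoImplicit false
open Cfsg

namespace Cfsg.Agent.S3517

/-- For d ≥ 3, the 3-closure of the affine group AGL_d(2) acting on F_2^d is the full symmetric group: every permutation of F_2^d agrees on every ordered triple of points with some affine map (AGL_d(2) is 3-transitive). -/
theorem result (d : ℕ) (hd : 3 ≤ d) (σ : Equiv.Perm (Fin d → ZMod 2)) (t : Fin 3 → (Fin d → ZMod 2)) :
    ∃ (A : (Fin d → ZMod 2) ≃ₗ[ZMod 2] (Fin d → ZMod 2)) (b : Fin d → ZMod 2), ∀ i, σ (t i) = A (t i) + b := by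
  classical
  have hself : ∀ x : Fin d → ZMod 2, x + x = 0 := by
    intro x; ext j; exact CharTwo.add_self_eq_zero (x j)
  have hadd0 : ∀ x y : Fin d → ZMod 2, x + y = 0 ↔ x = y := by
    intro x y
    constructor
    · intro h
      have h1 : x + y + y = y := by rw [h, zero_add]
      rw [add_assoc, hself, add_zero] at h1
      exact h1
    · intro h; rw [h]; exact hself y
  set u : Fin 2 → (Fin d → ZMod 2) := ![t 1 + t 0, t 2 + t 0] with hu
  set v : Fin 2 → (Fin d → ZMod 2) := ![σ (t 1) + σ (t 0), σ (t 2) + σ (t 0)] with hv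
  set φu := Fintype.linearCombination (ZMod 2) u with hφu
  set φv := Fintype.linearCombination (ZMod 2) v with hφv
  have hφu_apply : ∀ c : Fin 2 → ZMod 2, φu c = c 0 • (t 1 + t 0) + c 1 • (t 2 + t 0) := by
    intro c
    rw [hφu, Fintype.linearCombination_apply, Fin.sum_univ_two]
    simp [hu]
  have hφv_apply : ∀ c : Fin 2 → ZMod 2,
      φv c = c 0 • (σ (t 1) + σ (t 0)) + c 1 • (σ (t 2) + σ (t 0)) := by
    intro c
    rw [hφv, Fintype.linearCombination_apply, Fin.sum_univ_two]
    simp [hv]
  have hker : LinearMap.ker φu = LinearMap.ker φv := by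
    ext c
    rw [LinearMap.mem_ker, LinearMap.mem_ker, hφu_apply, hφv_apply]
    have h01 : ∀ a : ZMod 2, a = 0 ∨ a = 1 := by decide
    have hcancel : ∀ a b c' : Fin d → ZMod 2, (a + c') + (b + c') = a + b := by
      intro a b c'
      have : (a + c') + (b + c') = a + b + (c' + c') := by abel
      rw [this, hself, add_zero]
    rcases h01 (c 0) with h0 | h0 <;> rcases h01 (c 1) with h1 | h1 <;>
      simp only [h0, h1, zero_smul, one_smul, add_zero, zero_add]
    · rw [hadd0, hadd0]; exact σ.injective.eq_iff.symm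
    · rw [hadd0, hadd0]; exact σ.injective.eq_iff.symm
    · rw [hcancel, hcancel, hadd0, hadd0]; exact σ.injective.eq_iff.symm
  let f : LinearMap.range φu ≃ₗ[ZMod 2] LinearMap.range φv :=
    (φu.quotKerEquivRange).symm ≪≫ₗ (Submodule.quotEquivOfEq _ _ hker) ≪≫ₗ φv.quotKerEquivRange
  have hf : ∀ c : Fin 2 → ZMod 2, (f ⟨φu c, LinearMap.mem_range_self φu c⟩ : Fin d → ZMod 2) = φv c := by
    intro c
    simp only [f, LinearEquiv.trans_apply]
    rw [LinearMap.quotKerEquivRange_symm_apply_image, Submodule.mkQ_apply,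
      Submodule.quotEquivOfEq_mk, LinearMap.quotKerEquivRange_apply_mk]
  obtain ⟨A, hA⟩ := Submodule.exists_linearEquiv_restrict_eq f
  have hA1 : A (t 1 + t 0) = σ (t 1) + σ (t 0) := by
    have h1 : φv (Pi.single 0 1) = A (φu (Pi.single 0 1)) := by
      have h0 := hA ⟨φu (Pi.single 0 1), LinearMap.mem_range_self φu _⟩
      rw [hf] at h0
      exact h0
    rw [hφu_apply, hφv_apply] at h1
    simp at h1
    rw [map_add]
    exact h1.symm
  have hA2 : A (t 2 + t 0) = σ (t 2) + σ (t 0) := by
    have h1 : φv (Pi.single 1 1) = A (φu (Pi.single 1 1)) := by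
      have h0 := hA ⟨φu (Pi.single 1 1), LinearMap.mem_range_self φu _⟩
      rw [hf] at h0
      exact h0
    rw [hφu_apply, hφv_apply] at h1
    simp at h1
    rw [map_add]
    exact h1.symm
  refine ⟨A, σ (t 0) + A (t 0), ?_⟩
  intro i
  fin_cases i
  · change σ (t 0) = A (t 0) + (σ (t 0) + A (t 0))
    have : A (t 0) + (σ (t 0) + A (t 0)) = σ (t 0) + (A (t 0) + A (t 0)) := by abel
    rw [this, hself, add_zero]
  · change σ (t 1) = A (t 1) + (σ (t 0) + A (t 0))
    have : A (t 1) + (σ (t 0) + A (t 0)) = A (t 1 + t 0) + σ (t 0) := by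
      rw [map_add]; abel
    rw [this, hA1, add_assoc, hself, add_zero]
  · change σ (t 2) = A (t 2) + (σ (t 0) + A (t 0))
    have : A (t 2) + (σ (t 0) + A (t 0)) = A (t 2 + t 0) + σ (t 0) := by
      rw [map_add]; abel
    rw [this, hA2, add_assoc, hself, add_zero]

end Cfsg.Agent.S3517
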