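import Cfsg.Statements.S3518
-- import your own Cfsg.Agent.* helpers here

set_option autoImplicit false
open Cfsg

namespace Cfsg.Agent.S3518

set_option linter.style.haveILetI false
set_option linter.unusedSectionVars false

open Polynomial in
/-- sum of the values of a polynomial of degree `≤ p - 1` over `ZMod p` -/
theorem sum_eval_eq (p : ℕ) [Fact p.Prime] (Q : (ZMod p)[X]) (hQ : Q.natDegree ≤ p - 1) :
    ∑ x : ZMod p, Q.eval x = - Q.coeff (p - 1) := by
  classical
  have hp : 2 ≤ p := (Fact.out : p.Prime).two_le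
  have h1 : ∀ x : ZMod p, Q.eval x = ∑ i ∈ Finset.range p, Q.coeff i * x ^ i :=
    fun x => Polynomial.eval_eq_sum_range' (by omega) x
  simp only [h1]
  rw [Finset.sum_comm]
  have h2 : ∀ i ∈ Finset.range p, ∑ x : ZMod p, Q.coeff i * x ^ i =
      if i = p - 1 then - Q.coeff (p - 1) else 0 := by
    intro i hi
    rw [← Finset.mul_sum]
    split_ifs with h
    · subst h
      have h3 : ∑ x : ZMod p, x ^ (p - 1) = -1 := by
        rw [← Finset.sum_erase_add _ _ (Finset.mem_univ (0 : ZMod p))]
        rw [zero_pow (by omega), add_zero]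
        rw [Finset.sum_congr rfl
          (fun x hx => ZMod.pow_card_sub_one_eq_one (Finset.ne_of_mem_erase hx))]
        rw [Finset.sum_const, Finset.card_erase_of_mem (Finset.mem_univ _), Finset.card_univ,
          ZMod.card, nsmul_eq_mul, mul_one, Nat.cast_sub (by omega), Nat.cast_one,
          ZMod.natCast_self, zero_sub]
      rw [h3]; ring
    · have hi' : i < p - 1 := by have := Finset.mem_range.1 hi; omega
      have h4 := FiniteField.sum_pow_lt_card_sub_one (K := ZMod p) i (by rw [ZMod.card]; exact hi')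
      rw [h4, mul_zero]
  rw [Finset.sum_congr rfl h2, Finset.sum_ite_eq']
  rw [if_pos (Finset.mem_range.2 (by omega))]

open Polynomial in
theorem moments_vanish (p : ℕ) [Fact p.Prime] (f : ZMod p → ZMod p) (D : Finset (ZMod p))
    (hD : ∀ x y : ZMod p, x ≠ y → ∃ a ∈ D, f y - f x = a * (y - x))
    (k : ℕ) (hk1 : k < p - 1) (hk2 : k + D.card < p) (m : ℕ) (hm : m ≤ k) :
    ∑ x : ZMod p, x ^ m * f x ^ (k - m) = 0 := by
  classical
  have hp : p.Prime := Fact.out
  have hinj : ∀ c : ZMod p, c ∉ D → Function.Injective (fun x => f x - c * x) := by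
    intro c hc x y hxy
    by_contra hne
    obtain ⟨a, ha, h⟩ := hD x y hne
    have h1 : f y - f x = c * (y - x) := by
      have h0 : f x - c * x = f y - c * y := hxy
      linear_combination -h0
    have h2 : (a - c) * (y - x) = 0 := by rw [sub_mul, ← h, ← h1, sub_self]
    rcases mul_eq_zero.1 h2 with h3 | h3
    · exact hc (by rw [← sub_eq_zero.1 h3]; exact ha)
    · exact hne (sub_eq_zero.1 h3).symm
  have hsum : ∀ c : ZMod p, c ∉ D → ∑ x : ZMod p, (f x - c * x) ^ k = 0 := by
    intro c hc
    have hbij : Function.Bijective (fun x => f x - c * x) :=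
      (Finite.injective_iff_bijective).1 (hinj c hc)
    rw [Function.Bijective.sum_comp hbij (fun y => y ^ k)]
    exact FiniteField.sum_pow_lt_card_sub_one (K := ZMod p) k (by rw [ZMod.card]; exact hk1)
  set a : ℕ → ZMod p :=
    fun m => ∑ x : ZMod p, (-x) ^ m * f x ^ (k - m) * (k.choose m : ZMod p) with ha
  set R : (ZMod p)[X] := ∑ m ∈ Finset.range (k + 1), C (a m) * X ^ m with hR
  have hRdeg : R.natDegree ≤ k := by
    apply Polynomial.natDegree_sum_le_of_forall_le
    intro m hm
    exact (Polynomial.natDegree_C_mul_X_pow_le _ _).trans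
      (by have := Finset.mem_range.1 hm; omega)
  have hReval : ∀ c : ZMod p, R.eval c = ∑ x : ZMod p, (f x - c * x) ^ k := by
    intro c
    rw [hR, Polynomial.eval_finsetSum]
    simp only [Polynomial.eval_mul, Polynomial.eval_C, Polynomial.eval_pow, Polynomial.eval_X, ha]
    simp only [Finset.sum_mul]
    rw [Finset.sum_comm]
    refine Finset.sum_congr rfl (fun x _ => ?_)
    have h0 : f x - c * x = (-x) * c + f x := by ring
    rw [h0, add_pow]
    refine Finset.sum_congr rfl (fun m _ => ?_)
    ring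
  have hR0 : R = 0 := by
    apply Polynomial.eq_zero_of_natDegree_lt_card_of_eval_eq_zero' R (Finset.univ \ D)
    · intro c hc
      rw [hReval]
      exact hsum c (Finset.mem_sdiff.1 hc).2
    · have h0 : (Finset.univ \ D).card = p - D.card := by
        rw [Finset.card_sdiff_of_subset (Finset.subset_univ D), Finset.card_univ, ZMod.card]
      rw [h0]; omega
  have hcoeff : a m = 0 := by
    have h1 : R.coeff m = a m := by
      rw [hR, Polynomial.finsetSum_coeff]
      simp only [Polynomial.coeff_C_mul_X_pow]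
      rw [Finset.sum_ite_eq]
      rw [if_pos (Finset.mem_range.2 (by omega))]
    rw [← h1, hR0, Polynomial.coeff_zero]
  have hchoose : (k.choose m : ZMod p) ≠ 0 := by
    rw [Ne, ZMod.natCast_eq_zero_iff]
    intro hdvd
    have h1 : p ∣ k.factorial := by
      have h0 := Nat.choose_mul_factorial_mul_factorial hm
      rw [← h0]
      exact Dvd.dvd.mul_right (Dvd.dvd.mul_right hdvd _) _
    have h2 := (Nat.Prime.dvd_factorial hp).1 h1
    omega
  simp only [ha] at hcoeff
  rw [← Finset.sum_mul] at hcoeff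
  have h3 := (mul_eq_zero.1 hcoeff).resolve_right hchoose
  have h4 : ∑ x : ZMod p, (-x) ^ m * f x ^ (k - m) =
      (-1) ^ m * ∑ x : ZMod p, x ^ m * f x ^ (k - m) := by
    rw [Finset.mul_sum]
    refine Finset.sum_congr rfl (fun x _ => ?_)
    rw [neg_pow]; ring
  rw [h4] at h3
  exact (mul_eq_zero.1 h3).resolve_left (pow_ne_zero _ (neg_ne_zero.2 one_ne_zero))

open Polynomial in
/-- A function on `ZMod p` determining at most `(p - 1) / 2` directions is affine
(Rédei; proof of Lovász and Schrijver). -/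
theorem affine_of_few_directions (p : ℕ) [Fact p.Prime] (f : ZMod p → ZMod p)
    (D : Finset (ZMod p))
    (hD : ∀ x y : ZMod p, x ≠ y → ∃ a ∈ D, f y - f x = a * (y - x))
    (hcard : 2 * D.card ≤ p - 1) :
    ∃ a b : ZMod p, ∀ x, f x = a * x + b := by
  classical
  have hp : p.Prime := Fact.out
  have hp2 : 2 ≤ p := hp.two_le
  have hDne : 1 ≤ D.card := by
    have h01 : (0 : ZMod p) ≠ 1 := zero_ne_one
    obtain ⟨a, ha, -⟩ := hD 0 1 h01
    exact Finset.card_pos.2 ⟨a, ha⟩
  obtain ⟨M, hM⟩ : ∃ M, p = 2 * M + 1 := by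
    have h2 : p ≠ 2 := by omega
    rcases hp.eq_two_or_odd with h | h
    · exact absurd h h2
    · exact ⟨p / 2, by omega⟩
  have hM1 : 1 ≤ M := by omega
  have hDM : D.card ≤ M := by omega
  have hmom : ∀ i j : ℕ, i + j ≤ M → ∑ x : ZMod p, x ^ i * f x ^ j = 0 := by
    intro i j hij
    have h0 := moments_vanish p f D hD (i + j) (by omega) (by omega) i (by omega)
    rwa [Nat.add_sub_cancel_left] at h0
  set P : (ZMod p)[X] := Lagrange.interpolate Finset.univ id f with hP
  have hPeval : ∀ x : ZMod p, P.eval x = f x := fun x =>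
    Lagrange.eval_interpolate_at_node f (Set.injOn_id _) (Finset.mem_univ x)
  have hPdeg : P.degree < p := by
    have h0 := Lagrange.degree_interpolate_lt (r := f) (s := Finset.univ) (v := id)
      (Set.injOn_id _)
    rwa [Finset.card_univ, ZMod.card] at h0
  set n := P.natDegree with hn
  by_cases hn1 : n ≤ 1
  · refine ⟨P.coeff 1, P.coeff 0, fun x => ?_⟩
    rw [← hPeval x]
    conv_lhs => rw [Polynomial.eq_X_add_C_of_natDegree_le_one hn1]
    simp
  · exfalso
    have hn2 : 2 ≤ n := by omega
    have hP0 : P ≠ 0 := by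
      intro h; rw [hn, h, Polynomial.natDegree_zero] at hn2; omega
    have hnp : n ≤ p - 1 := by
      have h0 := (Polynomial.natDegree_lt_iff_degree_lt hP0).2 hPdeg
      omega
    set j := (p - 1) / n with hj
    set i := (p - 1) % n with hi
    have hdiv : n * j + i = p - 1 := Nat.div_add_mod (p - 1) n
    have hin : i < n := Nat.mod_lt _ (by omega)
    have hj1 : 1 ≤ j := Nat.div_pos hnp (by omega)
    have hij : i + j ≤ M := by
      have h2M : n * j + i = 2 * M := by omega
      rcases Nat.lt_or_ge j 2 with hj2 | hj2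
      · have hj1' : j = 1 := by omega
        rw [hj1', mul_one] at h2M
        omega
      · rcases Nat.lt_or_ge n 3 with hn3 | hn3
        · have hn2' : n = 2 := by omega
          rw [hn2'] at h2M hin
          omega
        · have h3 : 2 * (n - 2) ≤ j * (n - 2) := Nat.mul_le_mul_right _ hj2
          have h4 : n * j = j * (n - 2) + 2 * j := by
            have h5 : n = (n - 2) + 2 := by omega
            conv_lhs => rw [h5]
            ring
          omega
    set Q : (ZMod p)[X] := X ^ i * P ^ j with hQ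
    have hQdeg : Q.natDegree = p - 1 := by
      rw [hQ, Polynomial.natDegree_mul (pow_ne_zero _ Polynomial.X_ne_zero) (pow_ne_zero _ hP0),
        Polynomial.natDegree_X_pow, Polynomial.natDegree_pow, ← hn]
      linarith [hdiv, mul_comm n j]
    have hQlead : Q.coeff (p - 1) ≠ 0 := by
      rw [← hQdeg, Polynomial.coeff_natDegree]
      exact Polynomial.leadingCoeff_ne_zero.2
        (mul_ne_zero (pow_ne_zero _ Polynomial.X_ne_zero) (pow_ne_zero _ hP0))
    have hsum := sum_eval_eq p Q (le_of_eq hQdeg)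
    have hsum0 : ∑ x : ZMod p, Q.eval x = 0 := by
      rw [← hmom i j hij]
      refine Finset.sum_congr rfl (fun x _ => ?_)
      rw [hQ, Polynomial.eval_mul, Polynomial.eval_pow, Polynomial.eval_pow, Polynomial.eval_X,
        hPeval]
    rw [hsum0] at hsum
    exact hQlead (neg_eq_zero.1 hsum.symm)


/-- Closures of subgroups of the one-dimensional affine group. Let p be a prime and G a group of permutations of F_p lying in the affine group AGL₁(p) = {x ↦ ax + b, a ≠ 0} and containing all translations. (1) If G is a proper subgroup of AGL₁(p), then G is 2-closed: a permutation of F_p agreeing on every ordered pair of points with some element of G lies in G. (2) Every permutation of F_p agrees on every ordered pair with some element of AGL₁(p) (the 2-closure of AGL₁(p) is the symmetric group). (3) AGL₁(p) is 3-closed: a permutation agreeing on every ordered triple with some affine map is affine. -/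
theorem result (p : ℕ) [Fact p.Prime] (G : Subgroup (Equiv.Perm (ZMod p))) (hG : G ≤ Cfsg.affineGroup (ZMod p))
    (htrans : ∀ b : ZMod p, ∃ g ∈ G, ∀ x, g x = x + b) :
    (G ≠ Cfsg.affineGroup (ZMod p) → ∀ σ : Equiv.Perm (ZMod p), (∀ t : Fin 2 → ZMod p, ∃ g ∈ G, ∀ i, σ (t i) = g (t i)) → σ ∈ G) ∧
    (∀ σ : Equiv.Perm (ZMod p), (∀ t : Fin 2 → ZMod p, ∃ g ∈ Cfsg.affineGroup (ZMod p), ∀ i, σ (t i) = g (t i))) ∧
    (∀ σ : Equiv.Perm (ZMod p), (∀ t : Fin 3 → ZMod p, ∃ g ∈ Cfsg.affineGroup (ZMod p), ∀ i, σ (t i) = g (t i)) → σ ∈ Cfsg.affineGroup (ZMod p)) := by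
  classical
  have hp : p.Prime := Fact.out
  have h01 : (0 : ZMod p) ≠ 1 := zero_ne_one
  refine ⟨?_, ?_, ?_⟩
  · intro hGne σ hσ
    -- the subgroup of slopes
    let H : Subgroup (ZMod p)ˣ :=
      { carrier := {u | ∃ g ∈ G, ∀ x, g x = (u : ZMod p) * x}
        one_mem' := ⟨1, G.one_mem, fun x => by simp⟩
        mul_mem' := by
          rintro u v ⟨g, hg, hgu⟩ ⟨g', hg', hgv⟩
          refine ⟨g * g', G.mul_mem hg hg', fun x => ?_⟩
          rw [Equiv.Perm.mul_apply, hgv, hgu, Units.val_mul, mul_assoc]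
        inv_mem' := by
          rintro u ⟨g, hg, hgu⟩
          refine ⟨g⁻¹, G.inv_mem hg, fun x => ?_⟩
          apply g.injective
          rw [Equiv.Perm.inv_def, Equiv.apply_symm_apply, hgu, ← mul_assoc, Units.mul_inv,
            one_mul] }
    have hHmem : ∀ u : (ZMod p)ˣ, u ∈ H ↔ ∃ g ∈ G, ∀ x, g x = (u : ZMod p) * x := fun u => Iff.rfl
    have hHtop : H ≠ ⊤ := by
      intro hH
      apply hGne
      refine le_antisymm hG ?_
      rintro τ ⟨a, b, hab⟩
      have haH : a ∈ H := by rw [hH]; trivial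
      obtain ⟨g, hg, hga⟩ := (hHmem a).1 haH
      obtain ⟨t, ht, htb⟩ := htrans b
      have h1 : τ = t * g := by
        ext x
        rw [Equiv.Perm.mul_apply, htb, hga, hab]
      rw [h1]
      exact G.mul_mem ht hg
    haveI : Fintype H := Fintype.ofFinite H
    set D : Finset (ZMod p) :=
      Finset.image (fun u : H => ((u : (ZMod p)ˣ) : ZMod p)) Finset.univ with hDdef
    have hDmem : ∀ a : ZMod p, a ∈ D ↔ ∃ g ∈ G, ∃ u : (ZMod p)ˣ, (u : ZMod p) = a ∧
        ∀ x, g x = a * x := by
      intro a
      rw [hDdef, Finset.mem_image]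
      constructor
      · rintro ⟨u, -, rfl⟩
        obtain ⟨g, hg, hgu⟩ := (hHmem u).1 u.2
        exact ⟨g, hg, u, rfl, hgu⟩
      · rintro ⟨g, hg, u, rfl, hgu⟩
        exact ⟨⟨u, (hHmem u).2 ⟨g, hg, hgu⟩⟩, Finset.mem_univ _, rfl⟩
    have hDcard : 2 * D.card ≤ p - 1 := by
      have h1 : D.card = Nat.card H := by
        rw [hDdef, Finset.card_image_of_injective, Finset.card_univ, Nat.card_eq_fintype_card]
        intro u v huv
        exact Subtype.ext (Units.ext huv)
      have h2 : Nat.card H * H.index = Nat.card (ZMod p)ˣ := H.card_mul_index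
      have h3 : Nat.card (ZMod p)ˣ = p - 1 := by
        rw [Nat.card_eq_fintype_card, ZMod.card_units]
      have h4 : H.index ≠ 1 := fun h => hHtop (Subgroup.index_eq_one.1 h)
      have h5 : H.index ≠ 0 := Subgroup.index_ne_zero_of_finite
      have h6 : 2 ≤ H.index := by omega
      rw [h1, ← h3, ← h2, mul_comm]
      exact Nat.mul_le_mul_left _ h6
    have hslope : ∀ g ∈ G, ∃ a ∈ D, ∃ b, ∀ x, g x = a * x + b := by
      intro g hg
      obtain ⟨a, b, hab⟩ := hG hg
      obtain ⟨t, ht, htb⟩ := htrans (-b)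
      refine ⟨(a : ZMod p), ?_, b, hab⟩
      rw [hDmem]
      refine ⟨t * g, G.mul_mem ht hg, a, rfl, fun x => ?_⟩
      rw [Equiv.Perm.mul_apply, htb, hab]; ring
    have hσD : ∀ x y : ZMod p, x ≠ y → ∃ a ∈ D, σ y - σ x = a * (y - x) := by
      intro x y hxy
      obtain ⟨g, hg, hgt⟩ := hσ ![x, y]
      obtain ⟨a, ha, b, hab⟩ := hslope g hg
      refine ⟨a, ha, ?_⟩
      have h0 := hgt 0
      have h1 := hgt 1
      simp only [Matrix.cons_val_zero, Matrix.cons_val_one] at h0 h1
      rw [h0, h1, hab, hab]; ring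
    obtain ⟨a, b, hab⟩ := affine_of_few_directions p σ D hσD hDcard
    obtain ⟨a', ha', h1⟩ := hσD 0 1 h01
    have haa' : a = a' := by
      rw [hab, hab] at h1
      have : a = a' := by linear_combination h1
      exact this
    rw [← haa', hDmem] at ha'
    obtain ⟨g, hg, u, -, hga⟩ := ha'
    obtain ⟨t, ht, htb⟩ := htrans b
    have h2 : σ = t * g := by
      ext x
      rw [Equiv.Perm.mul_apply, htb, hga, hab]
    rw [h2]
    exact G.mul_mem ht hg
  · intro σ t
    by_cases h : t 0 = t 1
    · refine ⟨Equiv.addRight (σ (t 0) - t 0), ⟨1, σ (t 0) - t 0, fun x => by simp⟩, ?_⟩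
      intro i
      fin_cases i
      · simp
      · simp [← h]
    · have hne : σ (t 1) - σ (t 0) ≠ 0 := by
        rw [sub_ne_zero]; exact fun hh => h (σ.injective hh).symm
      have hne' : t 1 - t 0 ≠ 0 := sub_ne_zero.2 (Ne.symm h)
      set a : ZMod p := (σ (t 1) - σ (t 0)) / (t 1 - t 0) with ha
      have ha0 : a ≠ 0 := div_ne_zero hne hne'
      set b : ZMod p := σ (t 0) - a * t 0 with hb
      refine ⟨(Units.mulLeft (Units.mk0 a ha0)).trans (Equiv.addRight b),
        ⟨Units.mk0 a ha0, b, fun x => by simp⟩, ?_⟩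
      intro i
      have hkey : a * (t 1 - t 0) = σ (t 1) - σ (t 0) := by
        rw [ha, div_mul_cancel₀ _ hne']
      fin_cases i
      · simp [hb]
      · simp only [Fin.mk_one, Equiv.trans_apply, Units.mulLeft_apply, Units.val_mk0,
          Equiv.coe_addRight, hb]
        linear_combination -hkey
  · intro σ hσ
    have hne : σ 1 - σ 0 ≠ 0 := by
      rw [sub_ne_zero]; exact fun hh => h01 (σ.injective hh).symm
    refine ⟨Units.mk0 (σ 1 - σ 0) hne, σ 0, fun x => ?_⟩
    obtain ⟨g, ⟨a, b, hab⟩, hg⟩ := hσ ![0, 1, x]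
    have h0 := hg 0
    have h1 := hg 1
    have h2 := hg 2
    simp only [Matrix.cons_val_zero, Matrix.cons_val_one, Matrix.cons_val_two,
      Matrix.tail_cons, Matrix.head_cons] at h0 h1 h2
    rw [hab] at h0 h1 h2
    rw [Units.val_mk0, h2, h1, h0]; ring

end Cfsg.Agent.S3518
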