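import Cfsg.Statements.S3520
import Cfsg.Agent.Lib.helper62.TwoClassDer

set_option autoImplicit false
open Cfsg

namespace Cfsg.Agent.S3520

open Cfsg.Agent.Lib.helper62 in
/-- Let a finite group G act faithfully and primitively on a finite set Ω with at least two points, suppose G is not almost simple (no non-abelian simple normal subgroup with trivial centralizer), and suppose the derangements of G form exactly two conjugacy classes. Then either Ω has 3 points and G has order 3; or G has a non-trivial abelian normal subgroup N acting regularly, every non-identity element of G fixes at most one point (so, when n > 3, G is a Frobenius group with kernel N), the number n of points is odd and a point stabilizer has order (n − 1)/2; or G is 2-transitive with a non-trivial abelian regular normal subgroup and some non-identity element fixes at least two points (a non-Frobenius 2-transitive affine group). -/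
theorem result {G : Type*} [Group G] [Finite G] {Ω : Type*} [Fintype Ω] [MulAction G Ω] [FaithfulSMul G Ω] (hΩ : 2 ≤ Fintype.card Ω) (hprim : MulAction.IsPreprimitive G Ω) (hnas : ¬ ∃ T : Subgroup G, T.Normal ∧ IsSimpleGroup T ∧ ¬ IsMulCommutative T ∧ Subgroup.centralizer (T : Set G) = ⊥)
    (hκ : Nat.card {c : ConjClasses G // ∃ g : G, ConjClasses.mk g = c ∧ ∀ ω : Ω, g • ω ≠ ω} = 2) (α : Ω) :
    (Fintype.card Ω = 3 ∧ Nat.card G = 3) ∨
    ((∃ N : Subgroup G, N.Normal ∧ N ≠ ⊥ ∧ IsMulCommutative N ∧ ∀ ω : Ω, MulAction.stabilizer N ω = ⊥) ∧ (∀ g : G, g ≠ 1 → Nat.card (MulAction.fixedBy Ω g) ≤ 1) ∧ ¬ 2 ∣ Fintype.card Ω ∧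
        2 * Nat.card (MulAction.stabilizer G α) = Fintype.card Ω - 1) ∨
    ((∃ N : Subgroup G, N.Normal ∧ N ≠ ⊥ ∧ IsMulCommutative N ∧ ∀ ω : Ω, MulAction.stabilizer N ω = ⊥) ∧ MulAction.IsMultiplyPretransitive G Ω 2 ∧ ∃ g : G, g ≠ 1 ∧ 2 ≤ Nat.card (MulAction.fixedBy Ω g)) := by
  haveI : Nontrivial Ω := Fintype.one_lt_card_iff_nontrivial.mp (by omega)
  have hfaith : ∀ g : G, (∀ x : Ω, g • x = x) → g = 1 := by
    intro g hg
    apply FaithfulSMul.eq_of_smul_eq_smul (α := Ω)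
    intro x
    rw [hg x, one_smul]
  haveI := hprim
  rw [Nat.card_eq_two_iff] at hκ
  obtain ⟨⟨c₁, e₁, he₁c, he₁⟩, ⟨c₂, e₂, he₂c, he₂⟩, hc12, huniv⟩ := hκ
  have hne : ¬ ∃ g : G, g * e₁ * g⁻¹ = e₂ := by
    rintro ⟨g, hg⟩
    apply hc12
    apply Subtype.ext
    change c₁ = c₂
    rw [← he₁c, ← he₂c, ConjClasses.mk_eq_mk_iff_isConj, isConj_iff]
    exact ⟨g, hg⟩
  have hall : ∀ d : G, (∀ ω : Ω, d • ω ≠ ω) →
      (∃ g : G, g * e₁ * g⁻¹ = d) ∨ (∃ g : G, g * e₂ * g⁻¹ = d) := by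
    intro d hd
    have h1 : (⟨ConjClasses.mk d, d, rfl, hd⟩ : {c : ConjClasses G // ∃ g : G,
        ConjClasses.mk g = c ∧ ∀ ω : Ω, g • ω ≠ ω}) ∈ (Set.univ : Set _) := Set.mem_univ _
    rw [← huniv] at h1
    rcases h1 with h | h
    · left
      have h2 : ConjClasses.mk d = c₁ := congrArg Subtype.val h
      rw [← he₁c, eq_comm, ConjClasses.mk_eq_mk_iff_isConj, isConj_iff] at h2
      exact h2
    · right
      have h2 : ConjClasses.mk d = c₂ := congrArg Subtype.val h
      rw [← he₂c, eq_comm, ConjClasses.mk_eq_mk_iff_isConj, isConj_iff] at h2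
      exact h2
  have hct : ∀ e d d' : G, (∃ g : G, g * e * g⁻¹ = d) → (∃ g : G, g * e * g⁻¹ = d') →
      ∃ g : G, g * d * g⁻¹ = d' := by
    rintro e d d' ⟨g₁, h1⟩ ⟨g₂, h2⟩
    exact ⟨g₂ * g₁⁻¹, by rw [← h1, ← h2]; group⟩
  have hthree : ∀ d₁ d₂ d₃ : G, (∀ ω : Ω, d₁ • ω ≠ ω) → (∀ ω : Ω, d₂ • ω ≠ ω) →
      (∀ ω : Ω, d₃ • ω ≠ ω) → (∃ g : G, g * d₁ * g⁻¹ = d₂) ∨ (∃ g : G, g * d₁ * g⁻¹ = d₃) ∨
        (∃ g : G, g * d₂ * g⁻¹ = d₃) := by
    intro d₁ d₂ d₃ h1 h2 h3
    rcases hall d₁ h1 with k1 | k1 <;> rcases hall d₂ h2 with k2 | k2 <;>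
      rcases hall d₃ h3 with k3 | k3
    · exact Or.inl (hct _ _ _ k1 k2)
    · exact Or.inl (hct _ _ _ k1 k2)
    · exact Or.inr (Or.inl (hct _ _ _ k1 k3))
    · exact Or.inr (Or.inr (hct _ _ _ k2 k3))
    · exact Or.inr (Or.inr (hct _ _ _ k2 k3))
    · exact Or.inr (Or.inl (hct _ _ _ k1 k3))
    · exact Or.inl (hct _ _ _ k1 k2)
    · exact Or.inl (hct _ _ _ k1 k2)
  have hd₀1 : e₁ ≠ 1 := fun h => he₁ α (by rw [h, one_smul])
  obtain ⟨N, ⟨hNn, hNbot⟩, hNmin⟩ :=
    exists_minimal_subgroup (fun K : Subgroup G => K.Normal ∧ K ≠ ⊥)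
      ⟨⊤, inferInstance, fun h => hd₀1 (by
        have h1 : e₁ ∈ (⊤ : Subgroup G) := Subgroup.mem_top e₁
        rw [h] at h1
        exact Subgroup.mem_bot.mp h1)⟩
  haveI := hNn
  have hmin : ∀ K : Subgroup G, K.Normal → K ≠ ⊥ → K ≤ N → K = N :=
    fun K hK hKb hKN => hNmin K ⟨hK, hKb⟩ hKN
  by_cases hab : ∀ a ∈ N, ∀ b ∈ N, a * b = b * a
  · have htr := normal_transitive_of_faithful_prim hfaith N hNbot
    have hreg : ∀ n ∈ N, ∀ x : Ω, n • x = x → n = 1 := fun n hn x hx =>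
      normal_abelian_regular hfaith N hNbot hab n hn x hx
    have haff : ∃ N : Subgroup G, N.Normal ∧ N ≠ ⊥ ∧ IsMulCommutative N ∧
        ∀ ω : Ω, MulAction.stabilizer N ω = ⊥ := by
      refine ⟨N, hNn, hNbot, ⟨⟨fun a b => Subtype.ext (hab a a.2 b b.2)⟩⟩, ?_⟩
      intro ω
      rw [Subgroup.eq_bot_iff_forall]
      intro n hn
      exact Subtype.ext (hreg n n.2 ω hn)
    have hderN : ∀ n ∈ N, n ≠ 1 → ∀ ω : Ω, n • ω ≠ ω :=
      fun n hn hn1 ω h => hn1 (hreg n hn ω h)
    by_cases hconjN : ∀ n ∈ N, n ≠ 1 → ∀ n' ∈ N, n' ≠ 1 → ∃ g : G, g * n * g⁻¹ = n'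
    · right; right
      have h2 := two_trans_of_abelian_conj N htr hab hconjN
      refine ⟨haff, ?_, ?_⟩
      · rw [MulAction.is_two_pretransitive_iff]
        intro a b c d hab' hcd
        exact h2 a b c d hab' hcd
      · by_contra hno
        push Not at hno
        have hsharp : ∀ g : G, g ≠ 1 → ∀ a b : Ω, a ≠ b → g • a = a → g • b ≠ b := by
          intro g hg a b hab' hga hgb
          have h3 := hno g hg
          haveI : Nontrivial (MulAction.fixedBy Ω g) :=
            ⟨⟨⟨a, hga⟩, ⟨b, hgb⟩, fun h => hab' (congrArg Subtype.val h)⟩⟩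
          have h4 : 1 < Nat.card (MulAction.fixedBy Ω g) := Finite.one_lt_card
          omega
        exact hne (sharp_two_trans_derangements_conj h2 hsharp α e₁ e₂ he₁ he₂)
    · right; left
      push Not at hconjN
      obtain ⟨a, ha, ha1, b, hb, hb1, hab'⟩ := hconjN
      have hder : ∀ d : G, (∀ ω : Ω, d • ω ≠ ω) → d ∈ N := by
        intro d hd
        rcases hthree a b d (hderN a ha ha1) (hderN b hb hb1) hd with ⟨g, hg⟩ | ⟨g, hg⟩ | ⟨g, hg⟩
        · exact absurd hg (hab' g)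
        · rw [← hg]; exact hNn.conj_mem a ha g
        · rw [← hg]; exact hNn.conj_mem b hb g
      have hfrob := fix_le_one_of_derangements_mem N htr hreg hder
      have hall' : ∀ n ∈ N, n ≠ 1 →
          (∃ g : G, g * a * g⁻¹ = n) ∨ (∃ g : G, g * b * g⁻¹ = n) := by
        intro n hn hn1
        rcases hthree a b n (hderN a ha ha1) (hderN b hb hb1) (hderN n hn hn1) with
          ⟨g, hg⟩ | h | h
        · exact absurd hg (hab' g)
        · exact Or.inl h
        · exact Or.inr h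
      have hcard := card_stabilizer_of_two_classes N htr hreg hab hfrob a b ha hb ha1 hb1
        (fun ⟨g, hg⟩ => hab' g hg) hall' α
      have hcardN : Nat.card N = Fintype.card Ω := by
        rw [card_eq_of_regular N htr hreg α, Nat.card_eq_fintype_card]
      refine ⟨haff, ?_, ?_, ?_⟩
      · intro g hg
        rw [Finite.card_le_one_iff_subsingleton]
        constructor
        intro x y
        by_contra hxy
        exact hfrob g hg x.1 y.1 (fun h => hxy (Subtype.ext h)) x.2 y.2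
      · omega
      · omega
  · exfalso
    obtain ⟨d₁, d₂, d₃, h1, h2, h3, n12, n13, n23⟩ :=
      exists_three_derangements_nonconj hfaith N hNbot hmin hab hnas
    rcases hthree d₁ d₂ d₃ h1 h2 h3 with h | h | h
    exacts [n12 h, n13 h, n23 h]

end Cfsg.Agent.S3520
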