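import Cfsg.Statements.S3532
import Mathlib
-- import your own Cfsg.Agent.* helpers here

set_option autoImplicit false
open Cfsg

namespace Cfsg.Agent.S3532

set_option linter.style.haveILetI false
set_option linter.unusedSectionVars false

open Matrix Polynomial

/-! ### generalities -/

theorem exists_orderOf_eq {G : Type*} [Group G] [Finite G] (g : G) {n : ℕ} (h : n ∣ orderOf g) :
    ∃ g' : G, orderOf g' = n :=
  ⟨g ^ (orderOf g / n), orderOf_pow_orderOf_div (orderOf_pos g).ne' h⟩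

/-- the number `gcd(2, q-1)` in terms of the characteristic -/
def dd (p : ℕ) : ℕ := if p = 2 then 1 else 2

theorem d1 {K : Type*} [Field K] (p : ℕ) (m : ℕ) (x : K) (h : x ^ (dd p * m) = 1) :
    x ^ m = 1 ∨ x ^ m = -1 := by
  unfold dd at h
  split_ifs at h with hp
  · left; simpa using h
  · rw [mul_comm, pow_mul, sq] at h
    exact mul_self_eq_one_iff.1 h

theorem d2 {K : Type*} [Field K] (p : ℕ) [CharP K p] (m n : ℕ) (x : K)
    (hx : orderOf x = dd p * m) (h : x ^ n = 1 ∨ x ^ n = -1) : m ∣ n := by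
  unfold dd at hx
  split_ifs at hx with hp
  · subst hp
    have h1 : x ^ n = 1 := by
      rcases h with h | h
      · exact h
      · rw [h]; exact CharTwo.neg_eq (1 : K)
    have := orderOf_dvd_of_pow_eq_one h1
    rw [hx, one_mul] at this; exact this
  · have h1 : x ^ (2 * n) = 1 := by
      rw [mul_comm, pow_mul]
      rcases h with h | h <;> rw [h] <;> norm_num
    have := orderOf_dvd_of_pow_eq_one h1
    rw [hx] at this
    exact (Nat.mul_dvd_mul_iff_left (by norm_num)).1 this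

/-! ### the affine groups -/

/-- the group of affine maps `x ↦ c x + k` with `c ∈ C` -/
structure Aff (K : Type) [Field K] (C : Subgroup Kˣ) where
  /-- translation part -/
  tr : K
  /-- scalar part -/
  sc : C

namespace Aff

variable {K : Type} [Field K] {C : Subgroup Kˣ}

theorem ext' {x y : Aff K C} (h1 : x.tr = y.tr) (h2 : x.sc = y.sc) : x = y := by
  cases x; cases y; simp_all

instance : Mul (Aff K C) := ⟨fun x y => ⟨x.tr + ((x.sc : Kˣ) : K) * y.tr, x.sc * y.sc⟩⟩
instance : One (Aff K C) := ⟨⟨0, 1⟩⟩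
instance : Inv (Aff K C) := ⟨fun x => ⟨-(((x.sc⁻¹ : C) : Kˣ) : K) * x.tr, x.sc⁻¹⟩⟩

theorem mul_tr (x y : Aff K C) : (x * y).tr = x.tr + ((x.sc : Kˣ) : K) * y.tr := rfl
theorem mul_sc (x y : Aff K C) : (x * y).sc = x.sc * y.sc := rfl
theorem one_tr : (1 : Aff K C).tr = 0 := rfl
theorem one_sc : (1 : Aff K C).sc = 1 := rfl
theorem inv_tr (x : Aff K C) : (x⁻¹).tr = -(((x.sc⁻¹ : C) : Kˣ) : K) * x.tr := rfl
theorem inv_sc (x : Aff K C) : (x⁻¹).sc = x.sc⁻¹ := rfl

instance : Group (Aff K C) where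
  mul := (· * ·)
  one := 1
  inv := (·⁻¹)
  mul_assoc x y z := by
    apply ext'
    · simp only [mul_tr, mul_sc, Subgroup.coe_mul, Units.val_mul]; ring
    · simp only [mul_sc, mul_assoc]
  one_mul x := by
    apply ext'
    · simp [mul_tr, one_tr, one_sc]
    · simp [mul_sc, one_sc]
  mul_one x := by
    apply ext'
    · simp [mul_tr, one_tr]
    · simp [mul_sc, one_sc]
  inv_mul_cancel x := by
    apply ext'
    · simp [mul_tr, inv_tr, inv_sc, one_tr]
    · simp [mul_sc, inv_sc, one_sc]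

theorem pow_sc (x : Aff K C) (n : ℕ) : (x ^ n).sc = x.sc ^ n := by
  induction n with
  | zero => simp [one_sc]
  | succ n ih => rw [pow_succ, mul_sc, ih, pow_succ]

theorem pow_tr (x : Aff K C) (n : ℕ) :
    (x ^ n).tr = x.tr * ∑ i ∈ Finset.range n, (((x.sc : Kˣ) : K)) ^ i := by
  induction n with
  | zero => simp [one_tr]
  | succ n ih =>
    rw [pow_succ, mul_tr, ih, pow_sc, Finset.sum_range_succ]
    simp only [Subgroup.coe_pow, Units.val_pow_eq_pow_val]
    ring

instance [Finite K] : Finite (Aff K C) :=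
  Finite.of_injective (fun x : Aff K C => (x.tr, x.sc)) (fun x y h => by
    simp only [Prod.mk.injEq] at h; exact ext' h.1 h.2)

/-- projection to the scalar part -/
def scHom : Aff K C →* C where
  toFun x := x.sc
  map_one' := rfl
  map_mul' _ _ := rfl

/-- the translations -/
def trHom : Multiplicative K →* Aff K C where
  toFun k := ⟨Multiplicative.toAdd k, 1⟩
  map_one' := rfl
  map_mul' x y := by apply ext' <;> simp [mul_tr, mul_sc]

instance : Group.IsSolvable (Aff K C) :=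
  Group.isSolvable_of_ker_le_range trHom scHom (fun x hx => ⟨Multiplicative.ofAdd x.tr, by
    apply ext'
    · rfl
    · exact (MonoidHom.mem_ker.1 hx).symm⟩)

theorem orderOf_dvd (p : ℕ) [CharP K p] [Finite K] (x : Aff K C) :
    orderOf x ∣ p ∨ orderOf x ∣ Nat.card C := by
  by_cases h : x.sc = 1
  · left
    apply orderOf_dvd_of_pow_eq_one
    apply ext'
    · rw [pow_tr, h]; simp [one_tr]
    · rw [pow_sc, h, one_pow]; rfl
  · right
    refine dvd_trans ?_ (orderOf_dvd_natCard x.sc)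
    apply orderOf_dvd_of_pow_eq_one
    apply ext'
    · rw [pow_tr, one_tr]
      have h1 : ((x.sc : Kˣ) : K) ≠ 1 := by
        intro h2; apply h; exact Subtype.ext (Units.ext h2)
      have h2 := geom_sum_mul ((x.sc : Kˣ) : K) (orderOf x.sc)
      have h3 : ((x.sc : Kˣ) : K) ^ orderOf x.sc = 1 := by
        rw [← Units.val_pow_eq_pow_val, ← Subgroup.coe_pow, pow_orderOf_eq_one]; rfl
      rw [h3, sub_self] at h2
      rcases mul_eq_zero.1 h2 with h4 | h4
      · rw [h4, mul_zero]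
      · exact absurd (sub_eq_zero.1 h4) h1
    · rw [pow_sc, pow_orderOf_eq_one]; rfl

theorem exists_orderOf_p (p : ℕ) [CharP K p] [Finite K] : ∃ x : Aff K C, orderOf x = p := by
  apply exists_orderOf_eq (⟨1, 1⟩ : Aff K C)
  have h := congrArg Aff.tr (pow_orderOf_eq_one (⟨1, 1⟩ : Aff K C))
  rw [pow_tr, one_tr] at h
  simp at h
  exact (CharP.cast_eq_zero_iff K p _).1 h

theorem exists_orderOf_sc [Finite K] (c : C) : ∃ x : Aff K C, orderOf x = orderOf c := by
  apply exists_orderOf_eq (⟨0, c⟩ : Aff K C)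
  apply orderOf_dvd_of_pow_eq_one
  have h := congrArg Aff.sc (pow_orderOf_eq_one (⟨0, c⟩ : Aff K C))
  rw [pow_sc, one_sc] at h
  exact h

theorem spec_iff (p : ℕ) [CharP K p] [Finite K] (c : C) (hc : orderOf c = Nat.card C) (n : ℕ) :
    (∃ x : Aff K C, orderOf x = n) ↔ n ∣ p ∨ n ∣ Nat.card C := by
  constructor
  · rintro ⟨x, rfl⟩; exact orderOf_dvd p x
  · rintro (h | h)
    · obtain ⟨x, hx⟩ := exists_orderOf_p (C := C) p
      exact exists_orderOf_eq x (hx ▸ h)
    · obtain ⟨x, hx⟩ := exists_orderOf_sc c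
      exact exists_orderOf_eq x (by rw [hx, hc]; exact h)

end Aff

theorem exists_subgroup (K : Type) [Field K] [Finite K] (m : ℕ) (hm : m ∣ Nat.card K - 1) :
    ∃ (C : Subgroup Kˣ) (c : C), Nat.card C = m ∧ orderOf c = m := by
  obtain ⟨g, hg⟩ := IsCyclic.exists_generator (α := Kˣ)
  have hgo : orderOf g = Nat.card K - 1 := by
    rw [orderOf_eq_card_of_forall_mem_zpowers hg, Nat.card_units]
  have hm0 : orderOf g ≠ 0 := (orderOf_pos g).ne'
  have hζ : orderOf (g ^ (orderOf g / m)) = m := orderOf_pow_orderOf_div hm0 (hgo ▸ hm)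
  refine ⟨Subgroup.zpowers (g ^ (orderOf g / m)), ⟨_, Subgroup.mem_zpowers _⟩, ?_, ?_⟩
  · rw [Nat.card_zpowers, hζ]
  · rw [Subgroup.orderOf_mk, hζ]

/-! ### the projective special linear group -/

section PSL

variable {F : Type*} [Field F] [Fintype F]

theorem mk_pow_eq_one (A : Matrix.SpecialLinearGroup (Fin 2) F) (m : ℕ) (ε : F)
    (hε : ε = 1 ∨ ε = -1)
    (h : (A : Matrix (Fin 2) (Fin 2) F) ^ m = Matrix.scalar (Fin 2) ε) :
    (QuotientGroup.mk A : Matrix.ProjectiveSpecialLinearGroup (Fin 2) F) ^ m = 1 := by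
  rw [← QuotientGroup.mk_pow, QuotientGroup.eq_one_iff, Matrix.SpecialLinearGroup.mem_center_iff]
  refine ⟨ε, ?_, ?_⟩
  · rcases hε with rfl | rfl <;> simp
  · rw [Matrix.SpecialLinearGroup.coe_pow, h]

theorem scalar_of_mk_pow_eq_one (A : Matrix.SpecialLinearGroup (Fin 2) F) (m : ℕ)
    (h : (QuotientGroup.mk A : Matrix.ProjectiveSpecialLinearGroup (Fin 2) F) ^ m = 1) :
    ∃ ε : F, (ε = 1 ∨ ε = -1) ∧
      (A : Matrix (Fin 2) (Fin 2) F) ^ m = Matrix.scalar (Fin 2) ε := by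
  rw [← QuotientGroup.mk_pow, QuotientGroup.eq_one_iff,
    Matrix.SpecialLinearGroup.mem_center_iff] at h
  obtain ⟨r, hr, hrA⟩ := h
  refine ⟨r, ?_, ?_⟩
  · rw [Fintype.card_fin, sq] at hr; exact mul_self_eq_one_iff.1 hr
  · rw [hrA, Matrix.SpecialLinearGroup.coe_pow]

theorem pow_mulVec {R : Type*} [CommRing R] (B : Matrix (Fin 2) (Fin 2) R) (v : Fin 2 → R) (l : R)
    (h : B *ᵥ v = l • v) (n : ℕ) : (B ^ n) *ᵥ v = l ^ n • v := by
  induction n with
  | zero => simp
  | succ n ih =>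
    rw [pow_succ, ← Matrix.mulVec_mulVec, h, Matrix.mulVec_smul, ih, smul_smul, pow_succ, mul_comm]

theorem mem_range_of_pow_card {K : Type*} [Field K] [Algebra F K] (x : K)
    (hx : x ^ Fintype.card F = x) : ∃ y : F, algebraMap F K y = x := by
  classical
  by_contra hcon
  push Not at hcon
  have hne : (X ^ Fintype.card F - X : K[X]) ≠ 0 :=
    FiniteField.X_pow_card_sub_X_ne_zero K Fintype.one_lt_card
  have hdeg : (X ^ Fintype.card F - X : K[X]).natDegree = Fintype.card F :=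
    FiniteField.X_pow_card_sub_X_natDegree_eq K Fintype.one_lt_card
  have hsub : insert x (Finset.univ.image (algebraMap F K)) ⊆
      (X ^ Fintype.card F - X : K[X]).roots.toFinset := by
    intro y hy
    rw [Multiset.mem_toFinset, mem_roots hne, IsRoot.def, eval_sub, eval_pow, eval_X, sub_eq_zero]
    rcases Finset.mem_insert.1 hy with rfl | hy
    · exact hx
    · obtain ⟨c, -, rfl⟩ := Finset.mem_image.1 hy
      rw [← map_pow, FiniteField.pow_card]
  have hcard := Finset.card_le_card hsub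
  rw [Finset.card_insert_of_notMem (by
      simp only [Finset.mem_image, Finset.mem_univ, true_and, not_exists]
      exact fun c hc => hcon c hc),
    Finset.card_image_of_injective _ (algebraMap F K).injective, Finset.card_univ] at hcard
  have h2 := (Multiset.toFinset_card_le _).trans
    (Polynomial.card_roots' (X ^ Fintype.card F - X : K[X]))
  rw [hdeg] at h2
  omega

theorem upper (p : ℕ) [Fact p.Prime] [CharP F p] (a b : ℕ)
    (ha : dd p * a = Fintype.card F - 1) (hb : dd p * b = Fintype.card F + 1)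
    (A : Matrix.SpecialLinearGroup (Fin 2) F) :
    ∃ m, (m = p ∨ m = a ∨ m = b) ∧ ∃ ε : F, (ε = 1 ∨ ε = -1) ∧
      (A : Matrix (Fin 2) (Fin 2) F) ^ m = Matrix.scalar (Fin 2) ε := by
  classical
  let K := AlgebraicClosure F
  let φ : F →+* K := algebraMap F K
  haveI : CharP K p := charP_of_injective_algebraMap (algebraMap F K).injective p
  obtain ⟨n, hn⟩ : ∃ n : ℕ, Fintype.card F = p ^ n := by
    obtain ⟨n, -, hn⟩ := FiniteField.card F p
    exact ⟨n, hn⟩
  have hppos : 0 < p ^ n := pow_pos (Fact.out : p.Prime).pos n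
  set M : Matrix (Fin 2) (Fin 2) F := (A : Matrix (Fin 2) (Fin 2) F) with hM
  set t : F := M.trace with ht
  have hdet : M.det = 1 := A.2
  set B : Matrix (Fin 2) (Fin 2) K := φ.mapMatrix M with hB
  have hBtr : B.trace = φ t := by
    rw [hB, ht]; simp [Matrix.trace, Fin.sum_univ_two]
  have hBdet : B.det = 1 := by
    rw [hB, ← RingHom.map_det, hdet, map_one]
  have hdeg : (C (1 : K) * X ^ 2 + C (-(φ t)) * X + C 1 : K[X]).degree ≠ 0 := by
    rw [Polynomial.degree_quadratic one_ne_zero]; norm_num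
  obtain ⟨l, hl⟩ := IsAlgClosed.exists_root _ hdeg
  have hl' : l ^ 2 - φ t * l + 1 = 0 := by
    have h0 := hl
    simp only [IsRoot.def, eval_add, eval_mul, eval_C, eval_pow, eval_X] at h0
    linear_combination h0
  obtain ⟨μ, hμ⟩ : ∃ μ : K, μ = φ t - l := ⟨_, rfl⟩
  have hlμ : l * μ = 1 := by rw [hμ]; linear_combination -hl'
  have hl0 : l ≠ 0 := left_ne_zero_of_mul_eq_one hlμ
  have hcharpoly : B.charpoly = (X - C l) * (X - C μ) := by
    rw [Matrix.charpoly_fin_two, hBtr, hBdet]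
    have h1 : (C (φ t) : K[X]) = C l + C μ := by rw [← C_add]; congr 1; rw [hμ]; ring
    have h2 : (C (1:K) : K[X]) = C l * C μ := by rw [← C_mul, hlμ]
    rw [h1, h2]; ring
  have hkey : ∀ g : K[X], (X - C l) * (X - C μ) ∣ g → Polynomial.aeval B g = 0 := by
    rintro g ⟨h, rfl⟩
    rw [← hcharpoly, map_mul, Matrix.aeval_self_charpoly, zero_mul]
  have hkey' : ∀ (m : ℕ) (ε : K), (X - C l) * (X - C μ) ∣ X ^ m - C ε →
      B ^ m = Matrix.scalar (Fin 2) ε := by
    intro m ε hdiv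
    have h5 := hkey _ hdiv
    rw [map_sub, map_pow, aeval_X, aeval_C, sub_eq_zero] at h5
    rw [h5]; rfl
  have hφt : φ t ^ (p ^ n) = φ t := by rw [← map_pow, ← hn, FiniteField.pow_card]
  have hq : l ^ (p ^ n) = l ∨ l ^ (p ^ n) = μ := by
    have h1 : (l ^ (p ^ n)) ^ 2 - φ t * l ^ (p ^ n) + 1 = 0 := by
      have h2 : (l ^ 2 - φ t * l + 1) ^ (p ^ n) = 0 := by
        rw [hl']; exact zero_pow hppos.ne'
      rw [add_pow_char_pow, sub_pow_char_pow, one_pow, mul_pow, hφt] at h2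
      rw [← h2]; ring
    have h3 : (l ^ (p ^ n) - l) * (l ^ (p ^ n) - μ) = 0 := by
      rw [hμ]; linear_combination h1 - hl'
    rcases mul_eq_zero.1 h3 with h | h
    · left; exact sub_eq_zero.1 h
    · right; exact sub_eq_zero.1 h
  have hfinal : ∃ m, (m = p ∨ m = a ∨ m = b) ∧ ∃ ε : F, (ε = 1 ∨ ε = -1) ∧
      B ^ m = Matrix.scalar (Fin 2) (φ ε) := by
    by_cases hlμ' : l = μ
    · have hl2 : l * l = 1 := by rw [← hlμ'] at hlμ; exact hlμ
      have hl1 : l = 1 ∨ l = -1 := mul_self_eq_one_iff.1 hl2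
      have hdiv : (X - C l) * (X - C μ) ∣ X ^ p - C (l ^ p) := by
        rw [← hlμ', ← sq, C_pow, ← sub_pow_char]
        exact pow_dvd_pow _ (Fact.out : p.Prime).two_le
      have h5 := hkey' _ _ hdiv
      refine ⟨p, Or.inl rfl, ?_⟩
      rcases hl1 with h | h
      · refine ⟨1, Or.inl rfl, ?_⟩
        rw [h5, h, one_pow, map_one φ]
      · rcases neg_one_pow_eq_or K p with h6 | h6
        · refine ⟨1, Or.inl rfl, ?_⟩
          rw [h5, h, h6, map_one φ]
        · refine ⟨-1, Or.inr rfl, ?_⟩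
          rw [h5, h, h6, map_neg φ, map_one φ]
    · have hdiv : ∀ (m : ℕ) (ε : K), l ^ m = ε → μ ^ m = ε →
          (X - C l) * (X - C μ) ∣ X ^ m - C ε := by
        intro m ε h1 h2
        apply IsCoprime.mul_dvd
        · exact Polynomial.isCoprime_X_sub_C_of_isUnit_sub (sub_ne_zero.2 hlμ').isUnit
        · rw [Polynomial.dvd_iff_isRoot]; simp [h1]
        · rw [Polynomial.dvd_iff_isRoot]; simp [h2]
      have hcase : ∀ m : ℕ, l ^ (dd p * m) = 1 → ∃ ε : F, (ε = 1 ∨ ε = -1) ∧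
          B ^ m = Matrix.scalar (Fin 2) (φ ε) := by
        intro m hm
        have hμm : μ ^ m * l ^ m = 1 := by rw [← mul_pow, mul_comm, hlμ, one_pow]
        rcases d1 p m l hm with h | h
        · refine ⟨1, Or.inl rfl, ?_⟩
          have h2 : μ ^ m = 1 := by rw [h, mul_one] at hμm; exact hμm
          rw [hkey' m 1 (hdiv m 1 h h2), map_one φ]
        · refine ⟨-1, Or.inr rfl, ?_⟩
          have h2 : μ ^ m = -1 := by
            rw [h, mul_neg, mul_one, neg_eq_iff_eq_neg] at hμm; exact hμm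
          rw [hkey' m (-1) (hdiv m (-1) h h2), map_neg φ, map_one φ]
      rcases hq with h | h
      · have h1 : l ^ (dd p * a) = 1 := by
          rw [ha, hn]
          have h2 : l ^ (p ^ n - 1) * l = l := by
            rw [← pow_succ, Nat.sub_add_cancel hppos, h]
          exact mul_right_cancel₀ hl0 (by rw [h2, one_mul])
        obtain ⟨ε, hε, hBm⟩ := hcase a h1
        exact ⟨a, Or.inr (Or.inl rfl), ε, hε, hBm⟩
      · have h1 : l ^ (dd p * b) = 1 := by
          rw [hb, hn, pow_succ, h, mul_comm, hlμ]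
        obtain ⟨ε, hε, hBm⟩ := hcase b h1
        exact ⟨b, Or.inr (Or.inr rfl), ε, hε, hBm⟩
  obtain ⟨m, hm, ε, hε, hBm⟩ := hfinal
  refine ⟨m, hm, ε, hε, ?_⟩
  have hinj : Function.Injective
      (φ.mapMatrix : Matrix (Fin 2) (Fin 2) F → Matrix (Fin 2) (Fin 2) K) :=
    Matrix.map_injective φ.injective
  apply hinj
  rw [map_pow, ← hB, hBm]
  ext i j
  simp only [Matrix.scalar_apply, Matrix.diagonal_apply, RingHom.mapMatrix_apply, Matrix.map_apply]
  split_ifs <;> simp

theorem exists_p (p : ℕ) [Fact p.Prime] [CharP F p] :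
    ∃ g : Matrix.ProjectiveSpecialLinearGroup (Fin 2) F, p ∣ orderOf g := by
  classical
  let U : Matrix.SpecialLinearGroup (Fin 2) F := ⟨!![1, 1; 0, 1], by simp [Matrix.det_fin_two]⟩
  refine ⟨QuotientGroup.mk U, ?_⟩
  obtain ⟨ε, hε, h⟩ := scalar_of_mk_pow_eq_one U _ (pow_orderOf_eq_one _)
  have hpow : ∀ n : ℕ, (!![1, 1; 0, 1] : Matrix (Fin 2) (Fin 2) F) ^ n = !![1, (n : F); 0, 1] := by
    intro n
    induction n with
    | zero => simp [Matrix.one_fin_two]
    | succ n ih =>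
      rw [pow_succ, ih, Matrix.mul_fin_two]
      simp [add_comm]
  have h01 := congrFun (congrFun h 0) 1
  change ((!![1, 1; 0, 1] : Matrix (Fin 2) (Fin 2) F) ^ _) 0 1 = _ at h01
  rw [hpow] at h01
  simp at h01
  exact (CharP.cast_eq_zero_iff F p _).1 h01

theorem exists_a (p : ℕ) [Fact p.Prime] [CharP F p] (a : ℕ)
    (ha : dd p * a = Fintype.card F - 1) :
    ∃ g : Matrix.ProjectiveSpecialLinearGroup (Fin 2) F, a ∣ orderOf g := by
  classical
  obtain ⟨u, hu⟩ := IsCyclic.exists_generator (α := Fˣ)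
  have huo : orderOf u = Fintype.card F - 1 := by
    rw [orderOf_eq_card_of_forall_mem_zpowers hu, Nat.card_eq_fintype_card, Fintype.card_units]
  let D : Matrix.SpecialLinearGroup (Fin 2) F :=
    ⟨!![(u : F), 0; 0, ((u⁻¹ : Fˣ) : F)], by simp [Matrix.det_fin_two]⟩
  refine ⟨QuotientGroup.mk D, ?_⟩
  obtain ⟨ε, hε, h⟩ := scalar_of_mk_pow_eq_one D _ (pow_orderOf_eq_one _)
  have hv : (D : Matrix (Fin 2) (Fin 2) F) *ᵥ ![1, 0] = (u : F) • ![1, 0] := by
    ext i; fin_cases i <;> simp [D, Matrix.mulVec, dotProduct, Fin.sum_univ_two]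
  have h1 := pow_mulVec _ _ _ hv
    (orderOf (QuotientGroup.mk D : Matrix.ProjectiveSpecialLinearGroup (Fin 2) F))
  rw [h] at h1
  have h2 := congrFun h1 0
  simp [Matrix.mulVec, dotProduct, Fin.sum_univ_two] at h2
  apply d2 p a _ (u : F) (by rw [orderOf_units, huo, ha])
  rw [← h2]; exact hε

theorem exists_b (p : ℕ) [Fact p.Prime] [CharP F p] (b : ℕ)
    (hb : dd p * b = Fintype.card F + 1) :
    ∃ g : Matrix.ProjectiveSpecialLinearGroup (Fin 2) F, b ∣ orderOf g := by
  classical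
  let K := AlgebraicClosure F
  let φ : F →+* K := algebraMap F K
  haveI : CharP K p := charP_of_injective_algebraMap (algebraMap F K).injective p
  obtain ⟨n, hn⟩ : ∃ n : ℕ, Fintype.card F = p ^ n := by
    obtain ⟨n, -, hn⟩ := FiniteField.card F p
    exact ⟨n, hn⟩
  haveI : NeZero ((Fintype.card F + 1 : ℕ) : F) := ⟨by
    rw [Nat.cast_add, FiniteField.cast_card_eq_zero, zero_add, Nat.cast_one]; exact one_ne_zero⟩
  obtain ⟨ζ, hζ⟩ := HasEnoughRootsOfUnity.exists_primitiveRoot K (Fintype.card F + 1)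
  have hζo : orderOf ζ = Fintype.card F + 1 := hζ.eq_orderOf.symm
  have hζq : ζ ^ (Fintype.card F) = ζ⁻¹ := by
    apply eq_inv_of_mul_eq_one_left
    rw [← pow_succ]; exact hζ.pow_eq_one
  have hζ0 : ζ ≠ 0 := by
    intro h0
    have := hζ.pow_eq_one
    rw [h0, zero_pow (by omega)] at this
    exact zero_ne_one this
  have ht' : (ζ + ζ⁻¹) ^ (Fintype.card F) = ζ + ζ⁻¹ := by
    rw [hn, add_pow_char_pow, ← hn, inv_pow, hζq, inv_inv, add_comm]
  obtain ⟨t, ht⟩ : ∃ t : F, φ t = ζ + ζ⁻¹ := mem_range_of_pow_card (ζ + ζ⁻¹) ht'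
  let T : Matrix.SpecialLinearGroup (Fin 2) F := ⟨!![0, -1; 1, t], by simp [Matrix.det_fin_two]⟩
  refine ⟨QuotientGroup.mk T, ?_⟩
  obtain ⟨ε, hε, h⟩ := scalar_of_mk_pow_eq_one T _ (pow_orderOf_eq_one _)
  have hv : (φ.mapMatrix (T : Matrix (Fin 2) (Fin 2) F)) *ᵥ ![1, -ζ] = ζ • ![1, -ζ] := by
    ext i; fin_cases i
    · simp [T, Matrix.mulVec, dotProduct, Fin.sum_univ_two]
      ring
    · simp [T, Matrix.mulVec, dotProduct, Fin.sum_univ_two, ht]
      linear_combination (-1 : K) * inv_mul_cancel₀ hζ0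
  have h1 := pow_mulVec _ _ _ hv
    (orderOf (QuotientGroup.mk T : Matrix.ProjectiveSpecialLinearGroup (Fin 2) F))
  rw [← map_pow, h] at h1
  have h2 := congrFun h1 0
  simp [Matrix.mulVec, dotProduct, Fin.sum_univ_two] at h2
  apply d2 p b _ ζ (by rw [hζo, hb])
  rw [← h2]; rcases hε with rfl | rfl <;> simp

end PSL


/-- Let q ≥ 4 be a prime power and L = PSL(2,q). There is a finite solvable group with the same set of element orders as L × L (so L × L is not determined by its spectrum). -/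
theorem result {F : Type*} [Field F] [Fintype F] (hF : 4 ≤ Fintype.card F) :
    ∃ (H : Type) (_ : Group H) (_ : Finite H), Group.IsSolvable H ∧
      Set.range (orderOf : H → ℕ) = Set.range (orderOf : Matrix.ProjectiveSpecialLinearGroup (Fin 2) F × Matrix.ProjectiveSpecialLinearGroup (Fin 2) F → ℕ) := by
  classical
  obtain ⟨p, hchar⟩ := CharP.exists F
  haveI := hchar
  haveI hp : Fact p.Prime := ⟨CharP.char_is_prime F p⟩
  obtain ⟨n, -, hn⟩ := FiniteField.card F p
  have hda : dd p ∣ Fintype.card F - 1 ∧ dd p ∣ Fintype.card F + 1 := by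
    unfold dd
    split_ifs with h2
    · exact ⟨one_dvd _, one_dvd _⟩
    · have hodd : Odd (Fintype.card F) := by
        rw [hn]
        exact Odd.pow (hp.out.eq_two_or_odd'.resolve_left h2)
      obtain ⟨k, hk⟩ := hodd
      exact ⟨⟨k, by omega⟩, ⟨k + 1, by omega⟩⟩
  obtain ⟨⟨a, ha⟩, ⟨b, hb⟩⟩ := hda
  have hL : ∀ m : ℕ, (∃ g : Matrix.ProjectiveSpecialLinearGroup (Fin 2) F, orderOf g = m) ↔
      (m ∣ p ∨ m ∣ a ∨ m ∣ b) := by
    intro m
    constructor
    · rintro ⟨g, rfl⟩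
      induction g using QuotientGroup.induction_on with
      | H A =>
        obtain ⟨k, hk, ε, hε, hA⟩ := upper p a b ha.symm hb.symm A
        have h1 := orderOf_dvd_of_pow_eq_one (mk_pow_eq_one A k ε hε hA)
        rcases hk with rfl | rfl | rfl
        · exact Or.inl h1
        · exact Or.inr (Or.inl h1)
        · exact Or.inr (Or.inr h1)
    · rintro (h | h | h)
      · obtain ⟨g, hg⟩ := exists_p (F := F) p
        exact exists_orderOf_eq g (h.trans hg)
      · obtain ⟨g, hg⟩ := exists_a (F := F) p a ha.symm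
        exact exists_orderOf_eq g (h.trans hg)
      · obtain ⟨g, hg⟩ := exists_b (F := F) p b hb.symm
        exact exists_orderOf_eq g (h.trans hg)
  have hq1 : 1 ≤ Fintype.card F := by omega
  have hsq : Fintype.card F ^ 2 - 1 = (Fintype.card F - 1) * (Fintype.card F + 1) := by
    obtain ⟨k, hk⟩ : ∃ k, Fintype.card F = k + 1 := ⟨Fintype.card F - 1, by omega⟩
    have h0 : (k + 1) ^ 2 = k * (k + 1 + 1) + 1 := by ring
    rw [hk, Nat.add_sub_cancel, h0, Nat.add_sub_cancel]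
  have hKcard : Nat.card (GaloisField p (2 * (n : ℕ))) - 1 =
      (Fintype.card F - 1) * (Fintype.card F + 1) := by
    rw [GaloisField.card p (2 * (n : ℕ)) (by positivity), ← hsq, hn]; ring_nf
  obtain ⟨C₁, c₁, hC₁, hc₁⟩ := exists_subgroup (GaloisField p (2 * (n : ℕ))) a (by
    rw [hKcard, ha]; exact (Dvd.intro_left _ rfl).mul_right _)
  obtain ⟨C₂, c₂, hC₂, hc₂⟩ := exists_subgroup (GaloisField p (2 * (n : ℕ))) b (by
    rw [hKcard, hb]; exact (Dvd.intro_left _ rfl).mul_left _)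
  refine ⟨Aff (GaloisField p (2 * (n : ℕ))) C₁ × Aff (GaloisField p (2 * (n : ℕ))) C₂,
    inferInstance, inferInstance, inferInstance, ?_⟩
  have hH₁ : ∀ m, (∃ x : Aff (GaloisField p (2 * (n : ℕ))) C₁, orderOf x = m) ↔ (m ∣ p ∨ m ∣ a) := by
    intro m
    rw [Aff.spec_iff p c₁ (hc₁.trans hC₁.symm) m, hC₁]
  have hH₂ : ∀ m, (∃ x : Aff (GaloisField p (2 * (n : ℕ))) C₂, orderOf x = m) ↔ (m ∣ p ∨ m ∣ b) := by
    intro m
    rw [Aff.spec_iff p c₂ (hc₂.trans hC₂.symm) m, hC₂]
  ext m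
  simp only [Set.mem_range]
  constructor
  · rintro ⟨⟨x, y⟩, rfl⟩
    rw [Prod.orderOf]
    obtain ⟨g₁, hg₁⟩ := (hL (orderOf x)).2 (by
      have := (hH₁ (orderOf x)).1 ⟨x, rfl⟩; tauto)
    obtain ⟨g₂, hg₂⟩ := (hL (orderOf y)).2 (by
      have := (hH₂ (orderOf y)).1 ⟨y, rfl⟩; tauto)
    exact ⟨(g₁, g₂), by rw [Prod.orderOf, hg₁, hg₂]⟩
  · rintro ⟨⟨g₁, g₂⟩, rfl⟩
    rw [Prod.orderOf]
    have h1 := (hL (orderOf g₁)).1 ⟨g₁, rfl⟩
    have h2 := (hL (orderOf g₂)).1 ⟨g₂, rfl⟩
    have key : ∀ m₁ m₂, (m₁ ∣ p ∨ m₁ ∣ a) → (m₂ ∣ p ∨ m₂ ∣ b) →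
        ∃ z : Aff (GaloisField p (2 * (n : ℕ))) C₁ × Aff (GaloisField p (2 * (n : ℕ))) C₂,
          orderOf z = Nat.lcm m₁ m₂ := by
      intro m₁ m₂ h1 h2
      obtain ⟨x, hx⟩ := (hH₁ m₁).2 h1
      obtain ⟨y, hy⟩ := (hH₂ m₂).2 h2
      exact ⟨(x, y), by rw [Prod.orderOf, hx, hy]⟩
    rcases h1 with h1 | h1 | h1 <;> rcases h2 with h2 | h2 | h2
    · exact key _ _ (Or.inl h1) (Or.inl h2)
    · rw [Nat.lcm_comm]; exact key _ _ (Or.inr h2) (Or.inl h1)
    · exact key _ _ (Or.inl h1) (Or.inr h2)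
    · exact key _ _ (Or.inr h1) (Or.inl h2)
    · have := key (Nat.lcm (orderOf g₁) (orderOf g₂)) 1 (Or.inr (Nat.lcm_dvd h1 h2))
        (Or.inl (one_dvd _))
      simpa using this
    · exact key _ _ (Or.inr h1) (Or.inr h2)
    · rw [Nat.lcm_comm]; exact key _ _ (Or.inl h2) (Or.inr h1)
    · rw [Nat.lcm_comm]; exact key _ _ (Or.inr h2) (Or.inr h1)
    · have := key 1 (Nat.lcm (orderOf g₁) (orderOf g₂)) (Or.inl (one_dvd _))
        (Or.inr (Nat.lcm_dvd h1 h2))
      simpa using this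

end Cfsg.Agent.S3532
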