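import Cfsg.Statements.S3548
import Cfsg.Agent.Lib.helper63.Derange3

set_option autoImplicit false
open Cfsg

namespace Cfsg.Agent.S3548

set_option linter.style.haveILetI false

open MulAction Cfsg.Agent.Lib.helper63 in
/-- If the index of a normal subgroup `D` containing all derangements is `n - 1`, then `n` is a
prime power. -/
theorem primePow_of_index_eq {G Ω : Type*} [Group G] [Finite G] [MulAction G Ω] [FaithfulSMul G Ω]
    [Finite Ω] [IsPretransitive G Ω] (hΩ : 2 ≤ Nat.card Ω) (D : Subgroup G) [hDn : D.Normal]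
    (hD : ∀ g : G, (∀ ω : Ω, g • ω ≠ ω) → g ∈ D) (hidx : D.index = Nat.card Ω - 1) :
    IsPrimePow (Nat.card Ω) := by
  classical
  have hne : Nonempty Ω := by
    by_contra h
    rw [not_nonempty_iff] at h
    simp at hΩ
  obtain ⟨α⟩ := hne
  haveI hDt : IsPretransitive D Ω := (derangement_subgroup_main D hD).1
  set H := stabilizer G α with hH
  set Y := SubMulAction.ofStabilizer G α with hY
  have hYcard : Nat.card Y = Nat.card Ω - 1 := by
    have : Nat.card Y + 1 = Nat.card Ω := SubMulAction.nat_card_ofStabilizer_add_one_eq G α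
    omega
  set K := D.subgroupOf H with hK
  have hKidx : K.index = Nat.card Y := by
    rw [hYcard, ← hidx, ← relIndex_stabilizer_eq_index D α]
    rfl
  have hKpos : 0 < K.index := Nat.pos_of_ne_zero Subgroup.index_ne_zero_of_finite
  -- stabilizers of points of Y in H lie in K
  have hS : ∀ y : Y, stabilizer H y ≤ K := by
    intro y h hh
    rw [hK, Subgroup.mem_subgroupOf]
    have h1 := congrArg Subtype.val (mem_stabilizer_iff.1 hh)
    rw [SubMulAction.val_smul] at h1
    exact mem_of_fixes_two D hD h α y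
      (Ne.symm ((SubMulAction.mem_ofStabilizer_iff G α).1 y.2)) h.2 h1
  -- orbit sizes
  have hSidx : ∀ y : Y, (stabilizer H y).index = K.index := by
    intro y
    have h1 : K.index ∣ (stabilizer H y).index := Subgroup.index_dvd_of_le (hS y)
    have h2 : (stabilizer H y).index ≤ K.index := by
      rw [index_stabilizer, hKidx]
      exact Set.ncard_le_card _
    have h3 : (stabilizer H y).index ≠ 0 := Subgroup.index_ne_zero_of_finite
    exact le_antisymm h2 (Nat.le_of_dvd (Nat.pos_of_ne_zero h3) h1)
  have hSK : ∀ y : Y, K ≤ stabilizer H y := by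
    intro y
    have h1 := Subgroup.relIndex_mul_index (hS y)
    rw [hSidx y] at h1
    have h2 : (stabilizer H y).relIndex K = 1 := by
      have : (stabilizer H y).relIndex K * K.index = 1 * K.index := by rw [h1, one_mul]
      exact Nat.eq_of_mul_eq_mul_right hKpos this
    exact Subgroup.relIndex_eq_one.1 h2
  -- D acts regularly
  have hreg : ∀ d : G, d ∈ D → d • α = α → d = 1 := by
    intro d hd hdα
    apply FaithfulSMul.eq_of_smul_eq_smul (α := Ω)
    intro ω
    rw [one_smul]
    by_cases hω : ω = α
    · rw [hω]; exact hdα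
    · have hy : ω ∈ Y := (SubMulAction.mem_ofStabilizer_iff G α).2 hω
      have hk : (⟨d, hdα⟩ : H) ∈ K := by
        rw [hK, Subgroup.mem_subgroupOf]; exact hd
      have h1 := hSK ⟨ω, hy⟩ hk
      have h2 := congrArg Subtype.val (mem_stabilizer_iff.1 h1)
      rw [SubMulAction.val_smul] at h2
      exact h2
  -- H is transitive on Y
  have hHt : ∀ y z : Y, ∃ h : H, h • y = z := by
    intro y z
    have h1 : orbit H y = Set.univ := by
      rw [Set.eq_univ_iff_ncard, ← index_stabilizer, hSidx y, hKidx]
    have h2 : z ∈ orbit H y := by rw [h1]; trivial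
    exact h2
  -- all non-identity elements of D are conjugate
  have hconj : ∀ d d' : G, d ∈ D → d' ∈ D → d ≠ 1 → d' ≠ 1 → orderOf d = orderOf d' := by
    intro d d' hd hd' hd1 hd1'
    have hy : d • α ∈ Y := (SubMulAction.mem_ofStabilizer_iff G α).2 (fun h => hd1 (hreg d hd h))
    have hy' : d' • α ∈ Y :=
      (SubMulAction.mem_ofStabilizer_iff G α).2 (fun h => hd1' (hreg d' hd' h))
    obtain ⟨h, hh⟩ := hHt ⟨d • α, hy⟩ ⟨d' • α, hy'⟩
    have h1 := congrArg Subtype.val hh
    rw [SubMulAction.val_smul] at h1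
    have h1' : (h : G) • d • α = d' • α := h1
    have hhα : (h : G) • α = α := h.2
    have hhα' : (h : G)⁻¹ • α = α := by
      rw [inv_smul_eq_iff, hhα]
    have h2 : (d'⁻¹ * ((h : G) * d * (h : G)⁻¹)) = 1 := by
      apply hreg
      · exact D.mul_mem (D.inv_mem hd') (hDn.conj_mem d hd h)
      · rw [mul_smul, mul_smul, mul_smul, hhα', h1', inv_smul_smul]
    have h3 : (h : G) * d * (h : G)⁻¹ = d' := by
      rw [inv_mul_eq_one] at h2
      exact h2.symm
    have h4 : SemiconjBy (h : G) d d' := by
      rw [SemiconjBy, ← h3]; group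
    exact h4.orderOf_eq
  -- card D = n
  have hDcard : Nat.card D = Nat.card Ω := by
    have h1 : (stabilizer D α).index = Nat.card Ω := index_stabilizer_of_transitive D α
    have h2 : stabilizer D α = ⊥ := by
      rw [eq_bot_iff]
      intro d hd
      rw [Subgroup.mem_bot]
      exact Subtype.ext (hreg d d.2 hd)
    rw [h2, Subgroup.index_bot] at h1
    exact h1
  -- a prime dividing n
  set p := (Nat.card Ω).minFac with hp
  have hpprime : p.Prime := Nat.minFac_prime (by omega)
  haveI : Fact p.Prime := ⟨hpprime⟩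
  have hpdvd : p ∣ Nat.card D := by rw [hDcard]; exact Nat.minFac_dvd _
  cases nonempty_fintype D
  obtain ⟨x, hx⟩ := exists_prime_orderOf_dvd_card p (by rwa [Nat.card_eq_fintype_card] at hpdvd)
  have hx1 : (x : G) ≠ 1 := by
    intro h
    have : x = 1 := Subtype.ext h
    rw [this, orderOf_one] at hx
    exact hpprime.one_lt.ne hx
  have hxo : orderOf (x : G) = p := by rw [Subgroup.orderOf_coe]; exact hx
  have hpg : IsPGroup p D := by
    intro d
    by_cases hd : d = 1
    · exact ⟨0, by simp [hd]⟩
    · refine ⟨1, ?_⟩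
      have hd1 : (d : G) ≠ 1 := fun h => hd (Subtype.ext h)
      have h1 : orderOf (d : G) = p := by
        rw [hconj d x d.2 x.2 hd1 hx1, hxo]
      rw [pow_one]
      apply Subtype.ext
      rw [Subgroup.coe_pow, ← h1]
      exact pow_orderOf_eq_one _
  obtain ⟨k, hk⟩ := hpg.exists_card_eq
  rw [isPrimePow_nat_iff]
  refine ⟨p, k, hpprime, ?_, ?_⟩
  · rcases Nat.eq_zero_or_pos k with h0 | h0
    · rw [h0, pow_zero, hDcard] at hk
      omega
    · exact h0
  · rw [← hDcard, hk]


/-- Let G act faithfully and transitively on a finite set with n ≥ 2 points and let D be the subgroup generated by the derangements. Then the index of D in G divides n − 1, and if it equals n − 1 then n is a prime power. -/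
theorem result {G Ω : Type*} [Group G] [Finite G] [MulAction G Ω] [FaithfulSMul G Ω] [Finite Ω]
    (htrans : MulAction.IsPretransitive G Ω) (hΩ : 2 ≤ Nat.card Ω) :
    (Subgroup.closure {g : G | ∀ ω : Ω, g • ω ≠ ω}).index ∣ Nat.card Ω - 1 ∧
    ((Subgroup.closure {g : G | ∀ ω : Ω, g • ω ≠ ω}).index = Nat.card Ω - 1 → IsPrimePow (Nat.card Ω)) := by
  have := htrans
  have hD : ∀ g : G, (∀ ω : Ω, g • ω ≠ ω) → g ∈ Subgroup.closure {g : G | ∀ ω : Ω, g • ω ≠ ω} :=
    fun g hg => Subgroup.subset_closure hg
  haveI := Cfsg.Agent.Lib.helper63.closure_derangements_normal (G := G) (Ω := Ω)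
  exact ⟨Cfsg.Agent.Lib.helper63.derangement_index_dvd _ hD,
    fun h => primePow_of_index_eq hΩ _ hD h⟩

end Cfsg.Agent.S3548
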