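import Cfsg.Statements.S3549
import Cfsg.Agent.Lib.helper63.Derange3

set_option autoImplicit false
open Cfsg

namespace Cfsg.Agent.S3549

set_option linter.style.haveILetI false

open MulAction Cfsg.Agent.Lib.helper63 Pointwise in
/-- If a finite transitive group has a nontrivial block, then the index `m` of the subgroup
generated by the derangements satisfies `(m + 1) ^ 2 ≤ n`. -/
theorem index_sq_le_of_block {G Ω : Type*} [Group G] [Finite G] [MulAction G Ω] [Finite Ω]
    [IsPretransitive G Ω] (B : Set Ω) (hB : IsBlock G B) (hBt : ¬ IsTrivialBlock B) :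
    ((Subgroup.closure {g : G | ∀ ω : Ω, g • ω ≠ ω}).index + 1) ^ 2 ≤ Nat.card Ω := by
  classical
  set D := Subgroup.closure {g : G | ∀ ω : Ω, g • ω ≠ ω} with hDdef
  have hD : ∀ g : G, (∀ ω : Ω, g • ω ≠ ω) → g ∈ D := fun g hg => Subgroup.subset_closure hg
  have hBns : ¬ B.Subsingleton := fun h => hBt (Or.inl h)
  have hBnu : B ≠ Set.univ := fun h => hBt (Or.inr h)
  obtain ⟨α, hα⟩ : B.Nonempty := by
    by_contra h
    rw [Set.not_nonempty_iff_eq_empty] at h
    exact hBns (h ▸ Set.subsingleton_empty)
  have hmul : B.ncard * (orbit G B).ncard = Nat.card Ω :=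
    hB.ncard_block_mul_ncard_orbit_eq ⟨α, hα⟩
  have hl : 2 ≤ B.ncard := by
    by_contra h
    have : B.ncard ≤ 1 := by omega
    exact hBns (Set.ncard_le_one_iff_subsingleton.1 this)
  have hlt : B.ncard < Nat.card Ω := Set.ncard_lt_card hBnu
  have hk : 2 ≤ (orbit G B).ncard := by
    by_contra h
    have h' : (orbit G B).ncard ≤ 1 := by omega
    have : B.ncard * (orbit G B).ncard ≤ B.ncard * 1 := Nat.mul_le_mul_left _ h'
    omega
  haveI hDt : IsPretransitive D Ω := (derangement_subgroup_main D hD).1
  -- (1) the index divides |B| - 1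
  have h1 : D.index ∣ B.ncard - 1 := by
    rw [← relIndex_stabilizer_eq_index D α]
    let Y : SubMulAction (stabilizer G α) Ω :=
      { carrier := B \ {α}
        smul_mem' := by
          intro h y hy
          have hhB : (h : G) • B = B := hB.stabilizer_le hα h.2
          refine ⟨?_, ?_⟩
          · have : (h : G) • y ∈ (h : G) • B := Set.smul_mem_smul_set hy.1
            rw [hhB] at this
            exact this
          · intro hcon
            have hcon' : (h : G) • y = α := hcon
            have hhα : (h : G) • α = α := h.2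
            exact hy.2 (MulAction.injective (h : G) (hcon'.trans hhα.symm)) }
    have hYcard : Nat.card Y = B.ncard - 1 := by
      have : Nat.card Y = (B \ {α}).ncard := rfl
      rw [this, Set.ncard_sdiff_singleton_of_mem hα]
    rw [← hYcard]
    apply relIndex_stabilizer_dvd_natCard
    intro g hg y hy hgy
    have hy' : y ∈ B \ {α} := hy
    exact mem_of_fixes_two D hD g α y (fun h => hy'.2 h.symm) hg hgy
  -- (2) the index divides the number of translates of B minus 1
  have h2 : D.index ∣ (orbit G B).ncard - 1 := by
    set D' := Subgroup.closure {g : G | ∀ x : orbit G B, g • x ≠ x} with hD'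
    have h3 : D'.index ∣ Nat.card (orbit G B) - 1 :=
      derangement_index_dvd D' (fun g hg => Subgroup.subset_closure hg)
    have h4 : D' ≤ D := by
      rw [hD', Subgroup.closure_le]
      intro g hg
      apply hD
      intro ω hω
      obtain ⟨g', hg'⟩ := exists_smul_eq G α ω
      apply hg ⟨g' • B, mem_orbit B g'⟩
      apply Subtype.ext
      change g • (g' • B) = g' • B
      have hωB : ω ∈ g' • B := by
        rw [← hg']; exact Set.smul_mem_smul_set hα
      exact (hB.translate g').smul_eq_of_mem hωB (by rw [hω]; exact hωB)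
    have h5 : D.index ∣ D'.index := Subgroup.index_dvd_of_le h4
    rw [Nat.card_coe_set_eq] at h3
    exact h5.trans h3
  have h1' : D.index ≤ B.ncard - 1 := Nat.le_of_dvd (by omega) h1
  have h2' : D.index ≤ (orbit G B).ncard - 1 := Nat.le_of_dvd (by omega) h2
  calc (D.index + 1) ^ 2 = (D.index + 1) * (D.index + 1) := by ring
    _ ≤ B.ncard * (orbit G B).ncard := Nat.mul_le_mul (by omega) (by omega)
    _ = Nat.card Ω := hmul


/-- Let G act faithfully, transitively but imprimitively on a finite set with n points, and let D be the subgroup generated by the derangements. Then the index of D in G is at most √n − 1. -/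
theorem result {G Ω : Type*} [Group G] [Finite G] [MulAction G Ω] [FaithfulSMul G Ω] [Finite Ω]
    (htrans : MulAction.IsPretransitive G Ω) (himp : ¬ MulAction.IsPreprimitive G Ω) :
    ((Subgroup.closure {g : G | ∀ ω : Ω, g • ω ≠ ω}).index : ℝ) ≤ Real.sqrt (Nat.card Ω) - 1 := by
  have := htrans
  have hex : ∃ B : Set Ω, MulAction.IsBlock G B ∧ ¬ MulAction.IsTrivialBlock B := by
    by_contra hcon
    push Not at hcon
    exact himp ⟨fun {B} hB => hcon B hB⟩
  obtain ⟨B, hB, hBt⟩ := hex
  have h := index_sq_le_of_block B hB hBt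
  have h' : (((Subgroup.closure {g : G | ∀ ω : Ω, g • ω ≠ ω}).index : ℝ) + 1) ^ 2 ≤
      (Nat.card Ω : ℝ) := by exact_mod_cast h
  have h'' := Real.le_sqrt_of_sq_le h'
  linarith

end Cfsg.Agent.S3549
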