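import Cfsg.Statements.S3554
-- import your own Cfsg.Agent.* helpers here

set_option autoImplicit false
open Cfsg

namespace Cfsg.Agent.S3554

set_option linter.style.haveILetI false

/-- In a finite cyclic group, two elements of the same prime order generate the same subgroup. -/
theorem exists_pow_eq_of_orderOf_eq {C : Type*} [Group C] [Finite C] [IsCyclic C] {p : ℕ}
    (hp : p.Prime) (x y : C) (hx : orderOf x = p) (hy : orderOf y = p) : ∃ i : ℕ, y = x ^ i := by
  classical
  cases nonempty_fintype C
  have h1 : (Finset.univ.filter (fun a : C => a ^ p = 1)).card ≤ p :=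
    IsCyclic.card_pow_eq_one_le hp.pos
  have h2 : (Finset.range p).image (fun i => x ^ i) ⊆ Finset.univ.filter (fun a : C => a ^ p = 1) := by
    intro a ha
    rw [Finset.mem_image] at ha
    obtain ⟨i, -, rfl⟩ := ha
    rw [Finset.mem_filter]
    refine ⟨Finset.mem_univ _, ?_⟩
    rw [← pow_mul, mul_comm, pow_mul, ← hx, pow_orderOf_eq_one, one_pow]
  have h3 : ((Finset.range p).image (fun i => x ^ i)).card = p := by
    rw [Finset.card_image_of_injOn, Finset.card_range]
    intro i hi j hj hij
    rw [Finset.coe_range, Set.mem_Iio] at hi hj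
    rw [← hx] at hi hj
    exact pow_injOn_Iio_orderOf hi hj hij
  have h4 := Finset.eq_of_subset_of_card_le h2 (by rw [h3]; exact h1)
  have h5 : y ∈ Finset.univ.filter (fun a : C => a ^ p = 1) := by
    rw [Finset.mem_filter]
    exact ⟨Finset.mem_univ _, by rw [← hy]; exact pow_orderOf_eq_one y⟩
  rw [← h4, Finset.mem_image] at h5
  obtain ⟨i, -, hi⟩ := h5
  exact ⟨i, hi.symm⟩


/-- Let G act faithfully and transitively on a finite set and suppose G has a non-trivial cyclic normal subgroup. Then some element of G of prime order fixes no point. -/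
theorem result {G Ω : Type*} [Group G] [Finite G] [MulAction G Ω] [FaithfulSMul G Ω] [Finite Ω]
    (htrans : MulAction.IsPretransitive G Ω) (C : Subgroup G) (hC : C.Normal) (hC1 : C ≠ ⊥) (hcyc : IsCyclic ↥C) :
    ∃ g : G, (orderOf g).Prime ∧ ∀ ω : Ω, g • ω ≠ ω := by
  classical
  have := htrans
  haveI := hcyc
  -- an element of prime order in C
  have hcard : 1 < Nat.card C := by
    rw [Subgroup.one_lt_card_iff_ne_bot]; exact hC1
  set p := (Nat.card C).minFac with hp
  have hpprime : p.Prime := Nat.minFac_prime (by omega)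
  haveI : Fact p.Prime := ⟨hpprime⟩
  have hpdvd : p ∣ Nat.card C := Nat.minFac_dvd _
  cases nonempty_fintype C
  obtain ⟨c, hc⟩ := exists_prime_orderOf_dvd_card p (by rwa [Nat.card_eq_fintype_card] at hpdvd)
  have hcG : orderOf (c : G) = p := by rw [Subgroup.orderOf_coe]; exact hc
  refine ⟨c, by rw [hcG]; exact hpprime, ?_⟩
  intro ω hω
  have hfixall : ∀ j : ℕ, ((c : G) ^ j) • ω = ω := by
    intro j
    induction j with
    | zero => simp
    | succ j ih => rw [pow_succ, mul_smul, hω, ih]
  -- c fixes every point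
  have hall : ∀ ω' : Ω, (c : G) • ω' = ω' := by
    intro ω'
    obtain ⟨k, hk⟩ := MulAction.exists_smul_eq G ω ω'
    have hmem : k⁻¹ * (c : G) * k ∈ C := by
      have := hC.conj_mem (c : G) c.2 k⁻¹
      rwa [inv_inv] at this
    have hord : orderOf (⟨k⁻¹ * (c : G) * k, hmem⟩ : C) = p := by
      rw [← Subgroup.orderOf_coe, ← hcG]
      have h4 : SemiconjBy k (k⁻¹ * (c : G) * k) (c : G) := by
        rw [SemiconjBy]; group
      exact h4.orderOf_eq
    obtain ⟨i, hi⟩ := exists_pow_eq_of_orderOf_eq hpprime c ⟨k⁻¹ * (c : G) * k, hmem⟩ hc hord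
    have hi' : k⁻¹ * (c : G) * k = (c : G) ^ i := by
      have := congrArg Subtype.val hi
      simpa using this
    have hfix : ((c : G) ^ i) • ω = ω := hfixall i
    have h5 : (c : G) * k = k * (k⁻¹ * (c : G) * k) := by group
    rw [← hk, ← mul_smul, h5, hi', mul_smul, hfix]
  have hc1 : (c : G) = 1 := by
    apply FaithfulSMul.eq_of_smul_eq_smul (α := Ω)
    intro ω'
    rw [hall ω', one_smul]
  rw [hc1, orderOf_one] at hcG
  exact hpprime.one_lt.ne hcG

end Cfsg.Agent.S3554
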