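import Cfsg.Statements.S3555
import Cfsg.Agent.Lib.helper63.DerangeInv

set_option autoImplicit false
open Cfsg

namespace Cfsg.Agent.S3555

/-- Let G act faithfully and transitively on a finite set and suppose every element of G fixing no point is an involution. Then either G is an elementary abelian 2-group, or G is a Frobenius group whose Frobenius kernel is an elementary abelian 2-group: G has a Frobenius complement H, and the elements lying in no conjugate of H, together with the identity, pairwise commute and square to the identity. -/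
theorem result {G Ω : Type*} [Group G] [Finite G] [MulAction G Ω] [FaithfulSMul G Ω] [Finite Ω]
    (htrans : MulAction.IsPretransitive G Ω) (hinv : ∀ g : G, (∀ ω : Ω, g • ω ≠ ω) → orderOf g = 2) :
    (IsMulCommutative G ∧ ∀ g : G, g ^ 2 = 1) ∨
    (∃ H : Subgroup G, Cfsg.IsFrobeniusComplement H ∧
      (∀ x ∈ Cfsg.frobeniusKernel H, x ^ 2 = 1) ∧
      ∀ x ∈ Cfsg.frobeniusKernel H, ∀ y ∈ Cfsg.frobeniusKernel H, x * y = y * x) := by
  classical
  have := htrans
  cases nonempty_fintype G
  cases nonempty_fintype Ω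
  have hinv' : ∀ g : G, (∀ ω : Ω, g • ω ≠ ω) → g * g = 1 := by
    intro g hg
    have h2 := hinv g hg
    rw [← pow_two, ← h2]
    exact pow_orderOf_eq_one g
  -- an element fixing two distinct points is trivial
  have hfix2 : ∀ g : G, ∀ α β : Ω, α ≠ β → g • α = α → g • β = β → g = 1 := by
    intro g α β hαβ hα hβ
    rcases Cfsg.Agent.Lib.helper63.fixN_eq_one_or_card hinv' g ⟨α, hα⟩ with h | h
    · exfalso
      unfold Cfsg.Agent.Lib.helper63.fixN at h
      rw [Finset.card_eq_one] at h
      obtain ⟨ω, hω⟩ := h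
      have h1 : α ∈ ({ω} : Finset Ω) := by rw [← hω]; simp [hα]
      have h2 : β ∈ ({ω} : Finset Ω) := by rw [← hω]; simp [hβ]
      rw [Finset.mem_singleton] at h1 h2
      exact hαβ (h1.trans h2.symm)
    · apply FaithfulSMul.eq_of_smul_eq_smul (α := Ω)
      intro ω
      rw [one_smul]
      unfold Cfsg.Agent.Lib.helper63.fixN at h
      have h1 := (Finset.card_eq_iff_eq_univ _).1 h
      have hω : ω ∈ Finset.univ.filter (fun ω : Ω => g • ω = ω) := by
        rw [h1]; exact Finset.mem_univ _
      exact (Finset.mem_filter.1 hω).2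
  have hcomm_of_sq : ∀ x y : G, x * x = 1 → y * y = 1 → (x * y) * (x * y) = 1 →
      x * y = y * x := by
    intro x y hx hy hxy
    have hx' : x = x⁻¹ := eq_inv_of_mul_eq_one_left hx
    have hy' : y = y⁻¹ := eq_inv_of_mul_eq_one_left hy
    have h1 : x * y = (x * y)⁻¹ := eq_inv_of_mul_eq_one_left hxy
    rw [h1, mul_inv_rev, ← hx', ← hy']
  rcases isEmpty_or_nonempty Ω with hΩ | ⟨⟨α0⟩⟩
  · have htriv : ∀ g : G, g = 1 := fun g =>
      FaithfulSMul.eq_of_smul_eq_smul (α := Ω) (fun ω => isEmptyElim ω)
    left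
    exact ⟨⟨⟨fun a b => by rw [htriv a, htriv b]⟩⟩, fun g => by rw [htriv g]; simp⟩
  set H := MulAction.stabilizer G α0 with hH
  by_cases hbot : H = ⊥
  · left
    have hder : ∀ g : G, g ≠ 1 → ∀ ω : Ω, g • ω ≠ ω := by
      intro g hg ω hω
      obtain ⟨k, hk⟩ := MulAction.exists_smul_eq G α0 ω
      have h1 : k⁻¹ * g * k ∈ H := by
        rw [hH, MulAction.mem_stabilizer_iff, mul_smul, mul_smul, hk, hω, ← hk, inv_smul_smul]
      rw [hbot, Subgroup.mem_bot] at h1
      apply hg
      have h2 : g = k * (k⁻¹ * g * k) * k⁻¹ := by group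
      rw [h2, h1]; group
    have hsq : ∀ g : G, g * g = 1 := by
      intro g
      by_cases hg : g = 1
      · rw [hg, one_mul]
      · exact hinv' g (hder g hg)
    exact ⟨⟨⟨fun a b => hcomm_of_sq a b (hsq a) (hsq b) (hsq _)⟩⟩,
      fun g => by rw [pow_two]; exact hsq g⟩
  by_cases htop : H = ⊤
  · left
    have h1 : ∀ x : G, x • α0 = α0 := fun x => by
      have hx : x ∈ H := by rw [htop]; trivial
      exact hx
    have hall : ∀ g : G, ∀ ω : Ω, g • ω = ω := by
      intro g ω
      obtain ⟨k, hk⟩ := MulAction.exists_smul_eq G α0 ω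
      rw [← hk, ← mul_smul, h1, h1]
    have htriv : ∀ g : G, g = 1 := fun g =>
      FaithfulSMul.eq_of_smul_eq_smul (α := Ω) (fun ω => by rw [hall g ω, one_smul])
    exact ⟨⟨⟨fun a b => by rw [htriv a, htriv b]⟩⟩, fun g => by rw [htriv g]; simp⟩
  · right
    have hker : ∀ x ∈ Cfsg.frobeniusKernel H, x ≠ 1 → ∀ ω : Ω, x • ω ≠ ω := by
      intro x hx hx1 ω hω
      rcases hx with h | h
      · exact hx1 h
      · obtain ⟨k, hk⟩ := MulAction.exists_smul_eq G α0 ω
        apply h k
        rw [Subgroup.mem_pointwise_smul_iff_inv_smul_mem, MulAut.smul_def, MulAut.conj_inv_apply,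
          hH, MulAction.mem_stabilizer_iff, mul_smul, mul_smul, hk, hω, ← hk, inv_smul_smul]
    refine ⟨H, ⟨hbot, htop, ?_⟩, ?_, ?_⟩
    · intro g hg
      rw [eq_bot_iff]
      intro x hx
      rw [Subgroup.mem_inf] at hx
      obtain ⟨hx1, hx2⟩ := hx
      rw [Subgroup.mem_bot]
      rw [Subgroup.mem_pointwise_smul_iff_inv_smul_mem, MulAut.smul_def, MulAut.conj_inv_apply,
        hH, MulAction.mem_stabilizer_iff, mul_smul, mul_smul, inv_smul_eq_iff] at hx2
      refine hfix2 x α0 (g • α0) ?_ hx1 hx2
      intro h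
      exact hg (by rw [hH, MulAction.mem_stabilizer_iff]; exact h.symm)
    · intro x hx
      by_cases hx1 : x = 1
      · rw [hx1]; simp
      · rw [pow_two]; exact hinv' x (hker x hx hx1)
    · intro x hx y hy
      by_cases hx1 : x = 1
      · rw [hx1]; simp
      by_cases hy1 : y = 1
      · rw [hy1]; simp
      by_cases hxy : x = y
      · rw [hxy]
      have hdx := hker x hx hx1
      have hdy := hker y hy hy1
      have hxx := hinv' x hdx
      have hyy := hinv' y hdy
      apply hcomm_of_sq x y hxx hyy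
      apply hinv'
      intro γ hγ
      have h1 : y • γ = x • γ := by
        have h0 : x • ((x * y) • γ) = x • γ := by rw [hγ]
        rw [← mul_smul, ← mul_assoc, hxx, one_mul] at h0
        exact h0
      have h3 : x * y = 1 := by
        refine hfix2 (x * y) γ (x • γ) (fun h => hdx γ h.symm) hγ ?_
        rw [← h1, mul_smul, ← mul_smul y y, hyy, one_smul, h1]
      apply hxy
      have h4 : x = y⁻¹ := eq_inv_of_mul_eq_one_left h3
      have h5 : y = y⁻¹ := eq_inv_of_mul_eq_one_left hyy
      rw [h4, ← h5]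

end Cfsg.Agent.S3555
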