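import Cfsg.Statements.S3556
import Cfsg.Agent.Lib.helper62.DerOrders

set_option autoImplicit false
open Cfsg

namespace Cfsg.Agent.S3556

open Cfsg.Agent.Lib.helper62 in
/-- Let G act faithfully and primitively on a finite set with at least two points, and suppose that for some fixed prime p every element of G fixing no point has order a power of p. Then G is of affine type (it has a regular normal subgroup that is an elementary abelian r-group for some prime r) or almost simple (it has a non-abelian simple normal subgroup with trivial centralizer). -/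
theorem result {G Ω : Type*} [Group G] [Finite G] [MulAction G Ω] [FaithfulSMul G Ω] [Finite Ω]
    (hprim : MulAction.IsPreprimitive G Ω) (hΩ : 2 ≤ Nat.card Ω) (p : ℕ) (hp : p.Prime)
    (hder : ∀ g : G, (∀ ω : Ω, g • ω ≠ ω) → ∃ k : ℕ, orderOf g = p ^ k) :
    (∃ (N : Subgroup G) (r : ℕ), r.Prime ∧ N.Normal ∧ Cfsg.IsElementaryAbelian r N ∧
      MulAction.IsPretransitive N Ω ∧ ∀ a : Ω, MulAction.stabilizer N a = ⊥) ∨
    (∃ T : Subgroup G, T.Normal ∧ IsSimpleGroup ↥T ∧ ¬ IsMulCommutative ↥T ∧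
      Subgroup.centralizer (T : Set G) = ⊥) := by
  haveI : Nontrivial Ω := Finite.one_lt_card_iff_nontrivial.mp (by omega)
  have hfaith : ∀ g : G, (∀ x : Ω, g • x = x) → g = 1 := by
    intro g hg
    apply FaithfulSMul.eq_of_smul_eq_smul (α := Ω)
    intro x
    rw [hg x, one_smul]
  haveI := hprim
  obtain ⟨α⟩ := (inferInstance : Nonempty Ω)
  obtain ⟨d₀, hd₀⟩ := exists_derangement (H := G) (X := Ω)
  have hd₀1 : d₀ ≠ 1 := fun h => hd₀ α (by rw [h, one_smul])
  obtain ⟨N, ⟨hNn, hNbot⟩, hNmin⟩ :=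
    exists_minimal_subgroup (fun K : Subgroup G => K.Normal ∧ K ≠ ⊥)
      ⟨⊤, inferInstance, fun h => hd₀1 (by
        have h1 : d₀ ∈ (⊤ : Subgroup G) := Subgroup.mem_top d₀
        rw [h] at h1
        exact Subgroup.mem_bot.mp h1)⟩
  haveI := hNn
  have hmin : ∀ K : Subgroup G, K.Normal → K ≠ ⊥ → K ≤ N → K = N :=
    fun K hK hKb hKN => hNmin K ⟨hK, hKb⟩ hKN
  by_cases hab : ∀ a ∈ N, ∀ b ∈ N, a * b = b * a
  · left
    have htr := normal_transitive_of_faithful_prim hfaith N hNbot
    have hreg : ∀ n ∈ N, ∀ x : Ω, n • x = x → n = 1 := fun n hn x hx =>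
      normal_abelian_regular hfaith N hNbot hab n hn x hx
    obtain ⟨r, hr, hexp⟩ := normal_abelian_exponent hfaith N hNbot hab
    refine ⟨N, r, hr, hNn, ⟨⟨⟨fun a b => Subtype.ext (hab a a.2 b b.2)⟩⟩, hexp⟩, ?_, ?_⟩
    · exact ⟨fun x y => by
        obtain ⟨n, hn, h⟩ := htr x y
        exact ⟨⟨n, hn⟩, h⟩⟩
    · intro ω
      rw [Subgroup.eq_bot_iff_forall]
      intro n hn
      exact Subtype.ext (hreg n n.2 ω hn)
  · right
    by_contra hnas
    obtain ⟨d, _, hd, hord⟩ := exists_derangement_not_prime_pow hfaith N hNbot hmin hab hnas p hp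
    exact hord (hder d hd)

end Cfsg.Agent.S3556
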