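import Cfsg.Statements.S3559
import Mathlib
import Cfsg.Agent.Lib.helper63.Schur
-- import your own Cfsg.Agent.* helpers here

set_option autoImplicit false
open Cfsg

namespace Cfsg.Agent.S3559

open MulAction Cfsg.Agent.Lib.helper63

set_option linter.style.haveILetI false
set_option linter.unusedSectionVars false

section

variable {G Ω : Type*} [Group G] [MulAction G Ω] {C : Subgroup G} {ω₀ : Ω} [Fintype C]
  [DecidableEq C]

/-- a suborbit as a finset -/
noncomputable def orbF (hreg : RegAt C ω₀) (y : C) : Finset C := by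
  classical exact Finset.univ.filter (fun x => x ∈ orb hreg y)

theorem mem_orbF (hreg : RegAt C ω₀) (y x : C) : x ∈ orbF hreg y ↔ x ∈ orb hreg y := by
  classical simp [orbF]

theorem coe_orbF (hreg : RegAt C ω₀) (y : C) : (orbF hreg y : Set C) = orb hreg y := by
  ext x; rw [Finset.mem_coe, mem_orbF]

theorem sInv_image_pow_prime (hreg : RegAt C ω₀) (hcomm : ∀ a b : C, a * b = b * a) (p : ℕ)
    (hp : p.Prime) (hcop : (Nat.card C).Coprime p) (T : Finset C) (hT : SInv hreg (T : Set C)) :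
    SInv hreg ((T.image (· ^ p) : Finset C) : Set C) := by
  haveI : Fact p.Prime := ⟨hp⟩
  intro g hg z hz
  rw [Finset.mem_coe, Finset.mem_image] at hz ⊢
  obtain ⟨t, ht, rfl⟩ := hz
  have hcount := count_zmod hreg hcomm p T hT hg (t ^ p)
  have hinj : Function.Injective (fun x : C => x ^ p) := (powCoprime hcop).injective
  have h1 : (T.filter (fun s => s ^ p = t ^ p)).card = 1 := by
    rw [Finset.card_eq_one]
    refine ⟨t, ?_⟩
    ext s
    simp only [Finset.mem_filter, Finset.mem_singleton]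
    constructor
    · rintro ⟨-, hs⟩; exact hinj hs
    · rintro rfl; exact ⟨ht, rfl⟩
  rw [h1, Nat.cast_one] at hcount
  by_contra hcon
  push Not at hcon
  have h2 : (T.filter (fun s => s ^ p = psi hreg g (t ^ p))).card = 0 := by
    rw [Finset.card_eq_zero, Finset.filter_eq_empty_iff]
    intro s hs; exact hcon s hs
  rw [h2, Nat.cast_zero] at hcount
  exact zero_ne_one hcount

theorem sInv_image_pow (hreg : RegAt C ω₀) (hcomm : ∀ a b : C, a * b = b * a)
    (hn : 2 ≤ Nat.card C) : ∀ m : ℕ, (Nat.card C).Coprime m →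
    ∀ T : Finset C, SInv hreg (T : Set C) → SInv hreg ((T.image (· ^ m) : Finset C) : Set C) := by
  intro m
  induction m using Nat.strong_induction_on with
  | _ m ih =>
    intro hm T hT
    rcases Nat.lt_or_ge m 2 with h | h
    · interval_cases m
      · rw [Nat.coprime_zero_right] at hm; omega
      · have h0 : T.image (· ^ 1) = T := by ext x; simp
        rw [h0]; exact hT
    · have hp := Nat.minFac_prime (by omega : m ≠ 1)
      obtain ⟨k, hk⟩ := Nat.minFac_dvd m
      have hkpos : 0 < k := by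
        rcases Nat.eq_zero_or_pos k with h0 | h0
        · rw [h0, mul_zero] at hk; omega
        · exact h0
      have hk0 : k < m := by
        have := hp.two_le
        nlinarith
      have h1 := ih k hk0 (Nat.Coprime.coprime_dvd_right ⟨m.minFac, hk.trans (mul_comm _ _)⟩ hm) T hT
      have h2 := sInv_image_pow_prime hreg hcomm m.minFac hp
        (Nat.Coprime.coprime_dvd_right ⟨k, hk⟩ hm) (T.image (· ^ k)) h1
      have h3 : (T.image (· ^ k)).image (· ^ m.minFac) = T.image (· ^ m) := by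
        rw [Finset.image_image]
        apply Finset.image_congr
        intro x _
        simp only [Function.comp]
        rw [← pow_mul, mul_comm, ← hk]
      rw [← h3]; exact h2

theorem sInv_notDvd (hreg : RegAt C ω₀) (hcomm : ∀ a b : C, a * b = b * a) (p : ℕ)
    (hp : p.Prime) (T : Finset C) (hT : SInv hreg (T : Set C)) :
    SInv hreg {z : C | ¬ p ∣ (T.filter (fun t => t ^ p = z)).card} := by
  haveI : Fact p.Prime := ⟨hp⟩
  intro g hg z hz
  simp only [Set.mem_ofPred_eq] at hz ⊢
  have hcount := count_zmod hreg hcomm p T hT hg z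
  intro hdvd
  apply hz
  rw [← ZMod.natCast_eq_zero_iff, ← hcount, ZMod.natCast_eq_zero_iff]
  exact hdvd

theorem exists_mem_orb_pow_eq_one [IsCyclic C] (hreg : RegAt C ω₀)
    (hcomm : ∀ a b : C, a * b = b * a) (hprim : IsPreprimitive G Ω) (p : ℕ) (hp : p.Prime)
    (hpn : p ∣ Nat.card C) {y : C} (hy : y ≠ 1) : ∃ x ∈ orb hreg y, x ^ p = 1 := by
  haveI : Fact p.Prime := ⟨hp⟩
  by_contra hcon
  push Not at hcon
  obtain ⟨x₀, hx₀⟩ := exists_prime_orderOf_dvd_card' p hpn
  have hx₀p : x₀ ^ p = 1 := by rw [← hx₀]; exact pow_orderOf_eq_one x₀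
  have hx₀1 : x₀ ≠ 1 := by
    intro h; rw [h, orderOf_one] at hx₀; exact hp.one_lt.ne hx₀
  set T := orbF hreg y with hTdef
  have hTinv : SInv hreg (T : Set C) := by rw [coe_orbF]; exact sInv_orb hreg y
  have hTmem : ∀ x, x ∈ T ↔ x ∈ orb hreg y := mem_orbF hreg y
  have hfib : ∀ t₀ : C, (Finset.univ.filter (fun t : C => t ^ p = t₀ ^ p)).card ≤ p := by
    intro t₀
    refine le_trans ?_ (IsCyclic.card_pow_eq_one_le (α := C) hp.pos)
    apply Finset.card_le_card_of_injOn (fun t => t₀⁻¹ * t)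
    · intro t ht
      simp only [Finset.coe_filter, Finset.mem_univ, true_and, Set.mem_ofPred_eq] at ht ⊢
      rw [(show Commute t₀⁻¹ t from hcomm t₀⁻¹ t).mul_pow, ht, inv_pow, inv_mul_cancel]
    · intro a _ b _ h; exact mul_left_cancel h
  have hYinv := sInv_notDvd hreg hcomm p hp T hTinv
  have hcl := sInv_closure hreg hYinv
  let Cp : Subgroup C :=
    { carrier := {z | ∃ t : C, t ^ p = z}
      mul_mem' := by
        rintro _ _ ⟨a, rfl⟩ ⟨b, rfl⟩
        exact ⟨a * b, (show Commute a b from hcomm a b).mul_pow p⟩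
      one_mem' := ⟨1, one_pow p⟩
      inv_mem' := by
        rintro _ ⟨a, rfl⟩
        exact ⟨a⁻¹, inv_pow a p⟩ }
  have hYle : Subgroup.closure {z : C | ¬ p ∣ (T.filter (fun t => t ^ p = z)).card} ≤ Cp := by
    rw [Subgroup.closure_le]
    intro z hz
    simp only [Set.mem_ofPred_eq] at hz
    have hne : (T.filter (fun t => t ^ p = z)).card ≠ 0 := by
      intro h0; rw [h0] at hz; exact hz (dvd_zero p)
    obtain ⟨t, ht⟩ := Finset.card_pos.1 (Nat.pos_of_ne_zero hne)
    exact ⟨t, (Finset.mem_filter.1 ht).2⟩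
  have hCp : Cp ≠ ⊤ := by
    intro htop
    have hsurj : Function.Surjective (fun t : C => t ^ p) := by
      intro z
      have h0 : z ∈ Cp := by rw [htop]; exact Subgroup.mem_top z
      exact h0
    have hinj := Finite.injective_iff_surjective.2 hsurj
    exact hx₀1 (hinj (by simp only; rw [hx₀p, one_pow]))
  have hbot : Subgroup.closure {z : C | ¬ p ∣ (T.filter (fun t => t ^ p = z)).card} = ⊥ := by
    rcases eq_bot_or_eq_top_of_sInv hreg hprim hcl with h | h
    · exact h
    · exfalso; apply hCp; rw [eq_top_iff, ← h]; exact hYle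
  have hfull : ∀ t₀ ∈ T, ∀ t : C, t ^ p = t₀ ^ p → t ∈ T := by
    intro t₀ ht₀ t ht
    have hz1 : t₀ ^ p ≠ 1 := hcon t₀ ((hTmem t₀).1 ht₀)
    have hnotY : t₀ ^ p ∉ {z : C | ¬ p ∣ (T.filter (fun t => t ^ p = z)).card} := by
      intro hmem
      have h0 : t₀ ^ p ∈ Subgroup.closure
          {z : C | ¬ p ∣ (T.filter (fun t => t ^ p = z)).card} := Subgroup.subset_closure hmem
      rw [hbot, Subgroup.mem_bot] at h0
      exact hz1 h0
    simp only [Set.mem_ofPred_eq, not_not] at hnotY
    have hsub : T.filter (fun t => t ^ p = t₀ ^ p) ⊆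
        Finset.univ.filter (fun t : C => t ^ p = t₀ ^ p) := by
      intro s hs
      rw [Finset.mem_filter] at hs ⊢
      exact ⟨Finset.mem_univ _, hs.2⟩
    have hpos : 0 < (T.filter (fun t => t ^ p = t₀ ^ p)).card :=
      Finset.card_pos.2 ⟨t₀, Finset.mem_filter.2 ⟨ht₀, rfl⟩⟩
    have hge : p ≤ (T.filter (fun t => t ^ p = t₀ ^ p)).card := Nat.le_of_dvd hpos hnotY
    have heq := Finset.eq_of_subset_of_card_le hsub ((hfib t₀).trans hge)
    have h0 : t ∈ T.filter (fun t => t ^ p = t₀ ^ p) := by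
      rw [heq]; exact Finset.mem_filter.2 ⟨Finset.mem_univ _, ht⟩
    exact (Finset.mem_filter.1 h0).1
  have hK := sInv_transStab hreg hTinv
  have hx₀K : x₀ ∈ transStab (T : Set C) := by
    intro t ht
    rw [Finset.mem_coe] at ht ⊢
    apply hfull t ht
    rw [(show Commute x₀ t from hcomm x₀ t).mul_pow, hx₀p, one_mul]
  rcases eq_bot_or_eq_top_of_sInv hreg hprim hK with h | h
  · rw [h, Subgroup.mem_bot] at hx₀K; exact hx₀1 hx₀K
  · have hy' : y⁻¹ ∈ transStab (T : Set C) := by rw [h]; exact Subgroup.mem_top _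
    have h0 := hy' y (by rw [Finset.mem_coe, hTmem]; exact mem_orb_self hreg y)
    rw [inv_mul_cancel, Finset.mem_coe, hTmem] at h0
    exact one_notMem_orb hreg hy h0

theorem mem_orb_of_prime [IsCyclic C] (hreg : RegAt C ω₀) (hcomm : ∀ a b : C, a * b = b * a)
    (hprim : IsPreprimitive G Ω) (hn : 2 ≤ Nat.card C) (p q : ℕ) (hp : p.Prime) (hq : q.Prime)
    (hpq : p ≠ q) (hpn : p ∣ Nat.card C) (hqn : q ∣ Nat.card C) {x₀ : C} (hx₀ : orderOf x₀ = p)
    {y : C} (hy : y ≠ 1) : x₀ ∈ orb hreg y := by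
  haveI : Fact p.Prime := ⟨hp⟩
  obtain ⟨x, hxT, hxp⟩ := exists_mem_orb_pow_eq_one hreg hcomm hprim p hp hpn hy
  obtain ⟨w, hwT, hwq⟩ := exists_mem_orb_pow_eq_one hreg hcomm hprim q hq hqn hy
  have hx1 : x ≠ 1 := fun h => one_notMem_orb hreg hy (h ▸ hxT)
  have hxo : orderOf x = p := orderOf_eq_prime hxp hx1
  have hx₀p : x₀ ^ p = 1 := by rw [← hx₀]; exact pow_orderOf_eq_one x₀
  have hx₀1 : x₀ ≠ 1 := by
    intro h; rw [h, orderOf_one] at hx₀; exact hp.one_lt.ne hx₀
  obtain ⟨j, hjp, hj⟩ : ∃ j < p, x ^ j = x₀ := by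
    have hsub : (Finset.range p).image (fun j => x ^ j) ⊆
        Finset.univ.filter (fun u : C => u ^ p = 1) := by
      intro u hu
      obtain ⟨j, -, rfl⟩ := Finset.mem_image.1 hu
      rw [Finset.mem_filter]
      exact ⟨Finset.mem_univ _, by rw [← pow_mul, mul_comm, pow_mul, hxp, one_pow]⟩
    have hcard : ((Finset.range p).image (fun j => x ^ j)).card = p := by
      rw [Finset.card_image_of_injOn, Finset.card_range]
      intro a ha b hb hab
      rw [Finset.coe_range] at ha hb
      exact pow_injOn_Iio_orderOf (by rwa [hxo]) (by rwa [hxo]) hab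
    have heq := Finset.eq_of_subset_of_card_le hsub
      (by rw [hcard]; exact IsCyclic.card_pow_eq_one_le (α := C) hp.pos)
    have h0 : x₀ ∈ (Finset.range p).image (fun j => x ^ j) := by
      rw [heq]; exact Finset.mem_filter.2 ⟨Finset.mem_univ _, hx₀p⟩
    obtain ⟨j, hj, hj'⟩ := Finset.mem_image.1 h0
    exact ⟨j, Finset.mem_range.1 hj, hj'⟩
  have hj0 : j ≠ 0 := by
    rintro rfl; rw [pow_zero] at hj; exact hx₀1 hj.symm
  have hn0 : Nat.card C ≠ 0 := by omega
  have hcop : p.Coprime (ordCompl[p] (Nat.card C)) := Nat.coprime_ordCompl hp hn0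
  have hqdvd : q ∣ ordCompl[p] (Nat.card C) := by
    have h1 : q ∣ ordProj[p] (Nat.card C) * ordCompl[p] (Nat.card C) := by
      rw [Nat.ordProj_mul_ordCompl_eq_self]; exact hqn
    have h2 : q.Coprime (ordProj[p] (Nat.card C)) :=
      Nat.Coprime.pow_right _ ((Nat.coprime_primes hq hp).2 (Ne.symm hpq))
    exact h2.dvd_of_dvd_mul_left h1
  obtain ⟨m, hm1, hm2⟩ := Nat.chineseRemainder hcop j 1
  have hm1' : m % p = j % p := hm1
  have hmp : ¬ p ∣ m := by
    intro hdvd
    have h1 : j % p = 0 := by rw [← hm1']; exact Nat.mod_eq_zero_of_dvd hdvd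
    rw [Nat.mod_eq_of_lt hjp] at h1
    exact hj0 h1
  have hmn : (Nat.card C).Coprime m := by
    rw [← Nat.ordProj_mul_ordCompl_eq_self (Nat.card C) p]
    apply Nat.Coprime.mul_left
    · exact Nat.Coprime.pow_left _ ((Nat.Prime.coprime_iff_not_dvd hp).2 hmp)
    · have h0 := hm2.gcd_eq
      rw [Nat.coprime_comm]; unfold Nat.Coprime; rw [h0]; simp
  set T := orbF hreg y with hTdef
  have hTinv : SInv hreg (T : Set C) := by rw [coe_orbF]; exact sInv_orb hreg y
  have hTm := sInv_image_pow hreg hcomm hn m hmn T hTinv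
  have hwm : w ^ m = w := by
    rw [pow_eq_pow_mod m hwq]
    have h1 : m % q = 1 % q := (hm2.of_dvd hqdvd)
    rw [h1, Nat.mod_eq_of_lt hq.one_lt, pow_one]
  have hsub : T ⊆ T.image (· ^ m) := by
    intro t ht
    have h1 : orb hreg y ⊆ ((T.image (· ^ m) : Finset C) : Set C) := by
      apply orb_subset hreg hTm (z := w) _ hwT
      rw [Finset.mem_coe, Finset.mem_image]
      exact ⟨w, (mem_orbF hreg y w).2 hwT, hwm⟩
    exact Finset.mem_coe.1 (h1 ((mem_orbF hreg y t).1 ht))
  have heq := Finset.eq_of_subset_of_card_le hsub Finset.card_image_le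
  have hxm : x ^ m ∈ T := by
    rw [heq]; exact Finset.mem_image_of_mem _ ((mem_orbF hreg y x).2 hxT)
  have hxm' : x ^ m = x₀ := by
    rw [pow_eq_pow_mod m hxp, hm1', Nat.mod_eq_of_lt hjp, hj]
  rw [hxm'] at hxm
  exact (mem_orbF hreg y x₀).1 hxm

end


/-- Let G act faithfully and transitively on a finite set whose number of points n ≥ 2 is not a prime power, and suppose G has a cyclic subgroup acting regularly (transitively with trivial point stabilizers). Then G is imprimitive or doubly transitive. -/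
theorem result {G Ω : Type*} [Group G] [Finite G] [MulAction G Ω] [FaithfulSMul G Ω] [Finite Ω]
    (htrans : MulAction.IsPretransitive G Ω) (hn : 2 ≤ Nat.card Ω) (hnp : ¬ IsPrimePow (Nat.card Ω))
    (C : Subgroup G) (hcyc : IsCyclic ↥C) (hC : MulAction.IsPretransitive ↥C Ω ∧ ∀ a : Ω, MulAction.stabilizer ↥C a = ⊥) :
    ¬ MulAction.IsPreprimitive G Ω ∨ MulAction.IsMultiplyPretransitive G Ω 2 := by
  classical
  by_cases hprim : MulAction.IsPreprimitive G Ω
  swap
  · exact Or.inl hprim
  right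
  have hne : Nonempty Ω := by
    rcases isEmpty_or_nonempty Ω with h | h
    · rw [Nat.card_of_isEmpty] at hn; omega
    · exact h
  obtain ⟨ω₀⟩ := hne
  have hreg : RegAt C ω₀ := by
    constructor
    · intro c c' h
      simp only at h
      have h1 : c'⁻¹ * c ∈ MulAction.stabilizer C ω₀ := by
        rw [MulAction.mem_stabilizer_iff, mul_smul]
        change (c'⁻¹ : C) • ((c : G) • ω₀) = ω₀
        rw [h]
        change (c'⁻¹ : C) • (c' • ω₀) = ω₀
        rw [inv_smul_smul]
      rw [hC.2 ω₀, Subgroup.mem_bot] at h1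
      exact (inv_mul_eq_one.1 h1).symm
    · intro ω
      haveI := hC.1
      obtain ⟨c, hc⟩ := MulAction.exists_smul_eq C ω₀ ω
      exact ⟨c, hc⟩
  haveI : Fintype C := Fintype.ofFinite C
  haveI := hcyc
  have hcard : Nat.card C = Nat.card Ω := Nat.card_congr (Equiv.ofBijective _ hreg)
  have hcomm : ∀ a b : C, a * b = b * a := fun a b =>
    (IsCyclic.commGroup (α := C)).mul_comm a b
  have hn' : 2 ≤ Nat.card C := by rw [hcard]; exact hn
  obtain ⟨p, hp, hpn⟩ := Nat.exists_prime_and_dvd (by omega : Nat.card C ≠ 1)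
  obtain ⟨q, hq, hqn, hqp⟩ : ∃ q, q.Prime ∧ q ∣ Nat.card C ∧ q ≠ p := by
    by_contra hcon
    push Not at hcon
    have h1 := Nat.eq_prime_pow_of_unique_prime_dvd (n := Nat.card C) (p := p) (by omega)
      (fun {d} hd hdn => hcon d hd hdn)
    apply hnp
    rw [← hcard, h1]
    refine (Nat.Prime.isPrimePow hp).pow ?_
    intro h0
    rw [h0, pow_zero] at h1
    omega
  haveI : Fact p.Prime := ⟨hp⟩
  obtain ⟨x₀, hx₀⟩ := exists_prime_orderOf_dvd_card' p hpn
  apply two_pretransitive_of_psi hreg htrans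
  intro y y' hy hy'
  exact exists_psi_eq_of_mem_orb hreg
    (mem_orb_of_prime hreg hcomm hprim hn' p q hp hq hqp.symm hpn hqn hx₀ hy)
    (mem_orb_of_prime hreg hcomm hprim hn' p q hp hq hqp.symm hpn hqn hx₀ hy')

end Cfsg.Agent.S3559
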