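import Cfsg.Statements.S3560
import Mathlib
-- import your own Cfsg.Agent.* helpers here

set_option autoImplicit false
open Cfsg

namespace Cfsg.Agent.S3560

set_option linter.style.haveILetI false
set_option linter.unusedSectionVars false

open MulAction Pointwise

section Hamming

variable {ι A : Type*} [Fintype ι] [DecidableEq ι] [DecidableEq A]

/-- The group of Hamming isometries of `ι → A`. -/
def isoG (ι A : Type*) [Fintype ι] [DecidableEq A] : Subgroup (Equiv.Perm (ι → A)) where
  carrier := {σ | ∀ x y, hammingDist (σ x) (σ y) = hammingDist x y}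
  one_mem' := fun x y => rfl
  mul_mem' := by
    intro σ τ hσ hτ x y
    rw [Equiv.Perm.mul_apply, Equiv.Perm.mul_apply, hσ, hτ]
  inv_mem' := by
    intro σ hσ x y
    have := hσ (σ⁻¹ x) (σ⁻¹ y)
    rw [Equiv.Perm.inv_def, Equiv.apply_symm_apply, Equiv.apply_symm_apply] at this
    exact this.symm

/-- coordinatewise permutation -/
def coordPerm (π : ι → Equiv.Perm A) : Equiv.Perm (ι → A) := Equiv.piCongrRight π

theorem coordPerm_apply (π : ι → Equiv.Perm A) (x : ι → A) (i : ι) :
    coordPerm π x i = π i (x i) := rfl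

theorem coordPerm_mem (π : ι → Equiv.Perm A) : coordPerm π ∈ isoG ι A := by
  intro x y
  exact hammingDist_comp (fun i => π i) (fun i => (π i).injective)

/-- reindexing of coordinates -/
def reindex (τ : Equiv.Perm ι) : Equiv.Perm (ι → A) := Equiv.arrowCongr τ (Equiv.refl A)

theorem reindex_apply (τ : Equiv.Perm ι) (x : ι → A) (i : ι) :
    reindex τ x i = x (τ.symm i) := rfl

theorem reindex_mem (τ : Equiv.Perm ι) : (reindex τ : Equiv.Perm (ι → A)) ∈ isoG ι A := by
  intro x y
  unfold hammingDist
  have : (Finset.univ.filter (fun i => reindex τ x i ≠ reindex τ y i)) =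
      (Finset.univ.filter (fun i => x i ≠ y i)).map τ.toEmbedding := by
    ext i
    rw [Finset.mem_map_equiv, Finset.mem_filter, Finset.mem_filter]
    simp only [Finset.mem_univ, true_and, reindex_apply]
  rw [this, Finset.card_map]

theorem block_closed {B : Set (ι → A)} (hB : IsBlock (isoG ι A) B) {σ : Equiv.Perm (ι → A)}
    (hσ : σ ∈ isoG ι A) {x y : ι → A} (hx : x ∈ B) (hσx : σ x ∈ B) (hy : y ∈ B) : σ y ∈ B := by
  have h1 : (⟨σ, hσ⟩ : isoG ι A) • B = B := hB.smul_eq_of_mem hx hσx
  have h2 : (⟨σ, hσ⟩ : isoG ι A) • y ∈ (⟨σ, hσ⟩ : isoG ι A) • B := Set.smul_mem_smul_set hy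
  rw [h1] at h2
  exact h2

theorem hammingDist_update (x : ι → A) (i : ι) (a : A) (ha : a ≠ x i) :
    hammingDist x (Function.update x i a) = 1 := by
  unfold hammingDist
  rw [Finset.card_eq_one]
  refine ⟨i, ?_⟩
  ext j
  simp only [Finset.mem_filter, Finset.mem_univ, true_and, Finset.mem_singleton]
  constructor
  · intro h
    by_contra hj
    exact h (by rw [Function.update_of_ne hj])
  · rintro rfl
    rw [Function.update_self]; exact Ne.symm ha

theorem exists_update_of_hammingDist_eq_one {x z : ι → A} (h : hammingDist x z = 1) :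
    ∃ i a, a ≠ x i ∧ z = Function.update x i a := by
  unfold hammingDist at h
  rw [Finset.card_eq_one] at h
  obtain ⟨i, hi⟩ := h
  refine ⟨i, z i, ?_, ?_⟩
  · have : i ∈ Finset.univ.filter (fun j => x j ≠ z j) := by
      rw [hi]; exact Finset.mem_singleton_self i
    exact Ne.symm (Finset.mem_filter.1 this).2
  · ext j
    by_cases hj : j = i
    · rw [hj, Function.update_self]
    · rw [Function.update_of_ne hj]
      by_contra hne
      have : j ∈ Finset.univ.filter (fun j => x j ≠ z j) :=
        Finset.mem_filter.2 ⟨Finset.mem_univ _, fun h => hne h.symm⟩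
      rw [hi, Finset.mem_singleton] at this
      exact hj this

theorem block_exists_adj (hA3 : ∀ a b : A, ∃ w, w ≠ a ∧ w ≠ b) {B : Set (ι → A)}
    (hB : IsBlock (isoG ι A) B) {x y : ι → A} (hx : x ∈ B) (hy : y ∈ B) (hxy : x ≠ y) :
    ∃ z ∈ B, hammingDist x z = 1 := by
  obtain ⟨i, hi⟩ : ∃ i, x i ≠ y i := Function.ne_iff.1 hxy
  obtain ⟨w, hw1, hw2⟩ := hA3 (x i) (y i)
  set g := coordPerm (Function.update (fun _ => (1 : Equiv.Perm A)) i (Equiv.swap (y i) w)) with hg
  have hgx : g x = x := by
    ext j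
    rw [hg, coordPerm_apply]
    by_cases hj : j = i
    · subst hj; rw [Function.update_self, Equiv.swap_apply_of_ne_of_ne hi (Ne.symm hw1)]
    · rw [Function.update_of_ne hj]; rfl
  have hgy : g y = Function.update y i w := by
    ext j
    rw [hg, coordPerm_apply]
    by_cases hj : j = i
    · subst hj; rw [Function.update_self, Function.update_self, Equiv.swap_apply_left]
    · rw [Function.update_of_ne hj, Function.update_of_ne hj]; rfl
  have hy' : Function.update y i w ∈ B := by
    rw [← hgy]
    exact block_closed hB (coordPerm_mem _) hx (by rw [hgx]; exact hx) hy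
  set h := coordPerm (fun j => Equiv.swap (y j) (x j)) with hh
  have hhy : h y = x := by
    ext j; rw [hh, coordPerm_apply, Equiv.swap_apply_left]
  refine ⟨h (Function.update y i w),
    block_closed hB (coordPerm_mem _) hy (by rw [hhy]; exact hx) hy', ?_⟩
  have h3 : hammingDist (h y) (h (Function.update y i w)) = hammingDist y (Function.update y i w) :=
    (coordPerm_mem _ : h ∈ isoG ι A) y _
  rw [hhy] at h3
  rw [h3]
  exact hammingDist_update y i w hw2

theorem block_update_same {B : Set (ι → A)} (hB : IsBlock (isoG ι A) B) {x : ι → A} (hx : x ∈ B)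
    {i : ι} {a a' : A} (ha : a ≠ x i) (ha' : a' ≠ x i) (h : Function.update x i a ∈ B) :
    Function.update x i a' ∈ B := by
  set g := coordPerm (Function.update (fun _ => (1 : Equiv.Perm A)) i (Equiv.swap a a')) with hg
  have hgx : g x = x := by
    ext j
    rw [hg, coordPerm_apply]
    by_cases hj : j = i
    · subst hj; rw [Function.update_self, Equiv.swap_apply_of_ne_of_ne (Ne.symm ha) (Ne.symm ha')]
    · rw [Function.update_of_ne hj]; rfl
  have hgz : g (Function.update x i a) = Function.update x i a' := by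
    ext j
    rw [hg, coordPerm_apply]
    by_cases hj : j = i
    · subst hj; rw [Function.update_self, Function.update_self, Function.update_self,
        Equiv.swap_apply_left]
    · rw [Function.update_of_ne hj, Function.update_of_ne hj, Function.update_of_ne hj]; rfl
  rw [← hgz]
  exact block_closed hB (coordPerm_mem _) hx (by rw [hgx]; exact hx) h

theorem block_update_other {B : Set (ι → A)} (hB : IsBlock (isoG ι A) B) {x : ι → A} (hx : x ∈ B)
    {i i' : ι} {a : A} (ha : a ≠ x i) (h : Function.update x i a ∈ B) :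
    ∃ a', a' ≠ x i' ∧ Function.update x i' a' ∈ B := by
  set τ := Equiv.swap i i' with hτ
  set g : Equiv.Perm (ι → A) :=
    coordPerm (fun j => Equiv.swap (x (τ j)) (x j)) * reindex τ with hg
  have hgmem : g ∈ isoG ι A := (isoG ι A).mul_mem (coordPerm_mem _) (reindex_mem _)
  have hg_apply : ∀ y j, g y j = Equiv.swap (x (τ j)) (x j) (y (τ j)) := by
    intro y j
    rw [hg, Equiv.Perm.mul_apply, coordPerm_apply, reindex_apply, hτ, Equiv.symm_swap]
  have hgx : g x = x := by
    ext j; rw [hg_apply, Equiv.swap_apply_left]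
  refine ⟨Equiv.swap (x i) (x i') a, ?_, ?_⟩
  · intro hcon
    have h1 : Equiv.swap (x i) (x i') a = Equiv.swap (x i) (x i') (x i) := by
      rw [hcon, Equiv.swap_apply_left]
    exact ha ((Equiv.swap (x i) (x i')).injective h1)
  · have hgz : g (Function.update x i a) = Function.update x i' (Equiv.swap (x i) (x i') a) := by
      ext j
      rw [hg_apply]
      by_cases hj : j = i'
      · subst hj
        rw [Function.update_self, hτ, Equiv.swap_apply_right, Function.update_self]
      · rw [Function.update_of_ne hj]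
        have h2 : τ j ≠ i := by
          intro hcon
          apply hj
          have h3 := congrArg τ hcon
          rw [hτ, Equiv.swap_apply_self, Equiv.swap_apply_left] at h3
          exact h3
        rw [Function.update_of_ne h2, Equiv.swap_apply_left]
    rw [← hgz]
    exact block_closed hB hgmem hx (by rw [hgx]; exact hx) h

theorem block_adj_closed (hA3 : ∀ a b : A, ∃ w, w ≠ a ∧ w ≠ b) {B : Set (ι → A)}
    (hB : IsBlock (isoG ι A) B) {x y z : ι → A} (hx : x ∈ B) (hy : y ∈ B) (hxy : x ≠ y)
    (hz : hammingDist x z = 1) : z ∈ B := by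
  obtain ⟨z0, hz0, hz0d⟩ := block_exists_adj hA3 hB hx hy hxy
  obtain ⟨i, a, ha, rfl⟩ := exists_update_of_hammingDist_eq_one hz0d
  obtain ⟨i', a', ha', rfl⟩ := exists_update_of_hammingDist_eq_one hz
  obtain ⟨a'', ha'', h''⟩ := block_update_other (i' := i') hB hx ha hz0
  exact block_update_same hB hx ha'' ha' h''

theorem block_eq_univ (hA3 : ∀ a b : A, ∃ w, w ≠ a ∧ w ≠ b) {B : Set (ι → A)}
    (hB : IsBlock (isoG ι A) B) (hBn : ¬ B.Subsingleton) : B = Set.univ := by
  rw [Set.not_subsingleton_iff] at hBn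
  obtain ⟨x0, hx0, y0, hy0, hne⟩ := hBn
  have hcl : ∀ x ∈ B, ∀ z, hammingDist x z = 1 → z ∈ B := by
    intro x hx z hz
    by_cases hxx0 : x = x0
    · subst hxx0; exact block_adj_closed hA3 hB hx hy0 hne hz
    · exact block_adj_closed hA3 hB hx hx0 hxx0 hz
  rw [Set.eq_univ_iff_forall]
  intro q
  have key : ∀ S : Finset ι, (fun j => if j ∈ S then q j else x0 j) ∈ B := by
    intro S
    induction S using Finset.induction_on with
    | empty => simpa using hx0
    | insert i S hi ih =>
      have heq : (fun j => if j ∈ insert i S then q j else x0 j) =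
          Function.update (fun j => if j ∈ S then q j else x0 j) i (q i) := by
        ext j
        by_cases hj : j = i
        · subst hj; simp
        · rw [Function.update_of_ne hj]; simp [Finset.mem_insert, hj]
      rw [heq]
      by_cases hq : q i = (fun j => if j ∈ S then q j else x0 j) i
      · rw [hq, Function.update_eq_self]; exact ih
      · exact hcl _ ih _ (hammingDist_update _ i (q i) hq)
  have := key Finset.univ
  simpa using this

theorem isoG_pretransitive : IsPretransitive (isoG ι A) (ι → A) := by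
  refine ⟨fun x y => ⟨⟨coordPerm (fun j => Equiv.swap (x j) (y j)), coordPerm_mem _⟩, ?_⟩⟩
  ext j
  change coordPerm (fun j => Equiv.swap (x j) (y j)) x j = y j
  rw [coordPerm_apply, Equiv.swap_apply_left]

theorem isoG_preprimitive (hA3 : ∀ a b : A, ∃ w, w ≠ a ∧ w ≠ b) :
    IsPreprimitive (isoG ι A) (ι → A) := by
  refine { toIsPretransitive := isoG_pretransitive, isTrivialBlock_of_isBlock := ?_ }
  intro B hB
  by_cases h : B.Subsingleton
  · exact Or.inl h
  · exact Or.inr (block_eq_univ hA3 hB h)

theorem isoG_not_two (hι : 2 ≤ Fintype.card ι) (a b : A) (hab : a ≠ b) :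
    ¬ IsMultiplyPretransitive (isoG ι A) (ι → A) 2 := by
  intro h
  rw [is_two_pretransitive_iff] at h
  obtain ⟨i, i', hii'⟩ : ∃ i i' : ι, i ≠ i' := Fintype.exists_pair_of_one_lt_card hι
  set x0 : ι → A := fun _ => a with hx0
  set y1 := Function.update x0 i b with hy1
  set y2 := Function.update y1 i' b with hy2
  have h1 : hammingDist x0 y1 = 1 := hammingDist_update x0 i b (Ne.symm hab)
  have h2 : hammingDist x0 y2 = 2 := by
    unfold hammingDist
    have : Finset.univ.filter (fun j => x0 j ≠ y2 j) = {i, i'} := by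
      ext j
      simp only [Finset.mem_filter, Finset.mem_univ, true_and, Finset.mem_insert,
        Finset.mem_singleton]
      by_cases hj' : j = i'
      · subst hj'
        simp [hy2, hx0, hab]
      · by_cases hj : j = i
        · subst hj
          simp [hy2, hy1, hx0, hab, Function.update_of_ne hj']
        · simp [hy2, hy1, hx0, hj, hj']
    rw [this, Finset.card_pair hii']
  have hx0y1 : x0 ≠ y1 := by
    intro hcon; rw [← hcon, hammingDist_self] at h1; omega
  have hx0y2 : x0 ≠ y2 := by
    intro hcon; rw [← hcon, hammingDist_self] at h2; omega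
  obtain ⟨g, hg1, hg2⟩ := h hx0y1 hx0y2
  have h3 := g.2 x0 y1
  have hg1' : (g : Equiv.Perm (ι → A)) x0 = x0 := hg1
  have hg2' : (g : Equiv.Perm (ι → A)) y1 = y2 := hg2
  rw [hg1', hg2', h1, h2] at h3
  omega

end Hamming

section Regular

variable {K : Type*} [Group K] {ι : Type*} (F : ι → Type*) [∀ i, Group (F i)] {A : Type*}
  (β : ∀ i, F i ≃ A) (e : K ≃* (∀ i, F i))

/-- the regular representation of `K` on `ι → A` -/
def regHom : K →* Equiv.Perm (ι → A) where
  toFun k := coordPerm (fun i => (β i).permCongr (Equiv.mulLeft (e k i)))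
  map_one' := by
    ext x i
    simp [coordPerm_apply]
  map_mul' := by
    intro k k'
    ext x i
    simp [coordPerm_apply]

theorem regHom_apply (k : K) (x : ι → A) (i : ι) :
    regHom F β e k x i = β i (e k i * (β i).symm (x i)) := rfl

theorem regHom_trans (x y : ι → A) : ∃ k : K, regHom F β e k x = y := by
  refine ⟨e.symm (fun i => (β i).symm (y i) * ((β i).symm (x i))⁻¹), ?_⟩
  ext i
  rw [regHom_apply]
  simp

theorem regHom_free (k : K) (x : ι → A) (h : regHom F β e k x = x) : k = 1 := by
  have h1 : e k = 1 := by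
    ext i
    have h2 := congrFun h i
    rw [regHom_apply] at h2
    have h3 := congrArg (β i).symm h2
    rw [Equiv.symm_apply_apply] at h3
    rw [Pi.one_apply]
    exact mul_eq_right.1 h3
  exact e.map_eq_one_iff.1 h1

end Regular

theorem transport {X : Type*} [Fintype X] {K : Type*} [Group K]
    (G₀ R₀ : Subgroup (Equiv.Perm X)) (hle : R₀ ≤ G₀) (eR : R₀ ≃* K)
    (hRt : ∀ x y : X, ∃ r ∈ R₀, r x = y) (hRf : ∀ r ∈ R₀, ∀ x, r x = x → r = 1)
    (hGp : IsPreprimitive G₀ X) (hG2 : ¬ IsMultiplyPretransitive G₀ X 2) :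
    ∃ (n : ℕ) (G R : Subgroup (Equiv.Perm (Fin n))), R ≤ G ∧ Nonempty (↥R ≃* K) ∧
      MulAction.IsPretransitive ↥R (Fin n) ∧ (∀ a : Fin n, MulAction.stabilizer ↥R a = ⊥) ∧
      MulAction.IsPreprimitive ↥G (Fin n) ∧ ¬ MulAction.IsMultiplyPretransitive ↥G (Fin n) 2 := by
  classical
  let ψ : X ≃ Fin (Fintype.card X) := Fintype.equivFin X
  let Φ : Equiv.Perm X ≃* Equiv.Perm (Fin (Fintype.card X)) := ψ.permCongrHom
  have hΦ : ∀ (σ : Equiv.Perm X) (x : X), Φ σ (ψ x) = ψ (σ x) := by
    intro σ x
    change ψ.permCongr σ (ψ x) = ψ (σ x)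
    rw [Equiv.permCongr_apply, Equiv.symm_apply_apply]
  refine ⟨Fintype.card X, G₀.map Φ.toMonoidHom, R₀.map Φ.toMonoidHom, Subgroup.map_mono hle,
    ⟨(R₀.equivMapOfInjective Φ.toMonoidHom Φ.injective).symm.trans eR⟩, ?_, ?_, ?_, ?_⟩
  · refine ⟨fun a b => ?_⟩
    obtain ⟨r, hr, hrab⟩ := hRt (ψ.symm a) (ψ.symm b)
    refine ⟨⟨Φ r, Subgroup.mem_map_of_mem _ hr⟩, ?_⟩
    change Φ r a = b
    have h1 := hΦ r (ψ.symm a)
    rw [ψ.apply_symm_apply, hrab, ψ.apply_symm_apply] at h1
    exact h1
  · intro a
    rw [eq_bot_iff]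
    rintro ⟨s, hs⟩ hsa
    rw [Subgroup.mem_map] at hs
    obtain ⟨r, hr, rfl⟩ := hs
    rw [Subgroup.mem_bot]
    apply Subtype.ext
    change Φ r = 1
    have h1 : Φ r a = a := hsa
    have h2 : r (ψ.symm a) = ψ.symm a := by
      have h3 := hΦ r (ψ.symm a)
      rw [ψ.apply_symm_apply, h1] at h3
      have h4 := congrArg ψ.symm h3
      rw [ψ.symm_apply_apply] at h4
      exact h4.symm
    rw [hRf r hr _ h2, map_one]
  · let φ : G₀ → G₀.map Φ.toMonoidHom := fun g => ⟨Φ g, Subgroup.mem_map_of_mem _ g.2⟩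
    let f : X →ₑ[φ] Fin (Fintype.card X) :=
      { toFun := ψ, map_smul' := fun g x => (hΦ g x).symm }
    haveI := hGp
    exact IsPreprimitive.of_surjective (f := f) ψ.surjective
  · intro h2
    apply hG2
    rw [is_two_pretransitive_iff] at h2 ⊢
    intro a b c d hab hcd
    obtain ⟨⟨s, hs⟩, hs1, hs2⟩ := h2 (a := ψ a) (b := ψ b) (c := ψ c) (d := ψ d)
      (ψ.injective.ne hab) (ψ.injective.ne hcd)
    rw [Subgroup.mem_map] at hs
    obtain ⟨g, hg, rfl⟩ := hs
    refine ⟨⟨g, hg⟩, ?_, ?_⟩
    · apply ψ.injective; exact (hΦ g a).symm.trans hs1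
    · apply ψ.injective; exact (hΦ g b).symm.trans hs2


/-- Let K be a finite group isomorphic to a direct product of r ≥ 2 groups all of the same order m ≥ 3. Then K is not a B-group: there is a primitive but not doubly transitive permutation group (on some finite set) containing a regular subgroup isomorphic to K. -/
theorem result {K : Type*} [Group K] [Finite K] {ι : Type*} [Fintype ι] (F : ι → Type*) [∀ i, Group (F i)]
    (hr : 2 ≤ Fintype.card ι) (m : ℕ) (hm : 3 ≤ m) (hcard : ∀ i, Nat.card (F i) = m) (e : K ≃* (∀ i, F i)) :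
    ∃ (n : ℕ) (G R : Subgroup (Equiv.Perm (Fin n))), R ≤ G ∧ Nonempty (↥R ≃* K) ∧
      MulAction.IsPretransitive ↥R (Fin n) ∧ (∀ a : Fin n, MulAction.stabilizer ↥R a = ⊥) ∧
      MulAction.IsPreprimitive ↥G (Fin n) ∧ ¬ MulAction.IsMultiplyPretransitive ↥G (Fin n) 2 := by
  classical
  haveI : ∀ i, Finite (F i) := fun i => Nat.finite_of_card_ne_zero (by rw [hcard i]; omega)
  let β : ∀ i, F i ≃ Fin m := fun i => Finite.equivFinOfCardEq (hcard i)
  have hA3 : ∀ a b : Fin m, ∃ w, w ≠ a ∧ w ≠ b := by
    intro a b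
    have hlt : ({a, b} : Finset (Fin m)).card < (Finset.univ : Finset (Fin m)).card := by
      rw [Finset.card_univ, Fintype.card_fin]
      exact lt_of_le_of_lt (Finset.card_le_two) (by omega)
    obtain ⟨w, -, hw⟩ := Finset.exists_mem_notMem_of_card_lt_card hlt
    rw [Finset.mem_insert, Finset.mem_singleton, not_or] at hw
    exact ⟨w, hw.1, hw.2⟩
  set ρ := regHom F β e with hρ
  have hρf : ∀ k x, ρ k x = x → k = 1 := fun k x h => regHom_free F β e k x h
  have hρinj : Function.Injective ρ := by
    rw [injective_iff_map_eq_one]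
    intro k hk
    exact hρf k (fun _ => ⟨0, by omega⟩) (by rw [hk]; rfl)
  refine transport (isoG ι (Fin m)) ρ.range ?_ (MonoidHom.ofInjective hρinj).symm ?_ ?_
    (isoG_preprimitive hA3) (isoG_not_two hr ⟨0, by omega⟩ ⟨1, by omega⟩ ?_)
  · rintro _ ⟨k, rfl⟩
    exact coordPerm_mem _
  · intro x y
    obtain ⟨k, hk⟩ := regHom_trans F β e x y
    exact ⟨ρ k, ⟨k, rfl⟩, hk⟩
  · rintro _ ⟨k, rfl⟩ x hx
    rw [hρf k x hx, map_one]
  · intro h
    have := congrArg Fin.val h
    simp at this

end Cfsg.Agent.S3560
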