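import Cfsg.Statements.S3571
import Cfsg.Agent.Lib.helper7.ADMain
import Cfsg.Agent.Lib.helper7.ADTRI
import Cfsg.Agent.Lib.helper7.ADPAcore
import Cfsg.Agent.Lib.helper7.ADPBcore
import Cfsg.Agent.Lib.helper7.ADPCcore
import Cfsg.Agent.Lib.helper61.ADEMB
import Cfsg.Agent.Lib.helper56.ADNT
import Cfsg.Agent.Lib.helper56.ADC
import Cfsg.Agent.Lib.helper56.ADAIDX
import Cfsg.Agent.Lib.helper14.ADX1
import Cfsg.Agent.Lib.helper14.ADBLK
import Cfsg.Agent.Lib.helper78.ADM6

set_option autoImplicit false
open Cfsg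

namespace Cfsg.Agent.S3571

/-- Let G be an almost simple group whose socle is an alternating group of degree m ≥ 5 (G has a normal subgroup T isomorphic to that alternating group with trivial centralizer), acting faithfully and primitively on a finite set Ω with at least two points, and let r be the largest prime divisor of the number of points. Then G contains an element of order r fixing no point. -/
theorem result {G Ω : Type*} [Group G] [Finite G] [MulAction G Ω] [FaithfulSMul G Ω] [Finite Ω]
    (T : Subgroup G) (hT : T.Normal) (hTc : Subgroup.centralizer (T : Set G) = ⊥) (m : ℕ) (hm : 5 ≤ m)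
    (eT : ↥T ≃* ↥(alternatingGroup (Fin m))) (hprim : MulAction.IsPreprimitive G Ω) (hΩ : 2 ≤ Nat.card Ω)
    (r : ℕ) (hr : r.Prime) (hrd : r ∣ Nat.card Ω) (hmax : ∀ s : ℕ, s.Prime → s ∣ Nat.card Ω → s ≤ r) :
    ∃ g : G, orderOf g = r ∧ ∀ ω : Ω, g • ω ≠ ω := by
  classical
  exact Cfsg.Agent.Lib.helper7.AD.top_core T hT m hm eT hprim hΩ r hr hrd hmax
    (fun h6 => Cfsg.Agent.Lib.helper61.AD.exists_embedding T hT hTc m hm h6 eT)
    (fun _ Γ H hA hHΓ hmaxH hrd' hmaxr' =>
      Cfsg.Agent.Lib.helper7.AD.perm_main_core m (Cfsg.Agent.Lib.helper7.AD.trichotomy m)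
        (fun Γ H hA hHΓ hmaxH s hs hsc hHs r hr hrd hmaxr =>
          Cfsg.Agent.Lib.helper7.AD.perm_case_intrans_core m hm
            (fun r hr hrm h4 => Cfsg.Agent.Lib.helper14.AD.exists_prime_perm m r hr hrm h4)
            (fun s => Cfsg.Agent.Lib.helper56.AD.relIndex_stabilizer_alt m (by omega) s)
            Γ H hA hHΓ hmaxH s hs hsc hHs r hr hrd hmaxr)
        (fun H htr B hB hB1 hB2 r hr hrd hmaxr =>
          Cfsg.Agent.Lib.helper7.AD.perm_case_imprim_core m hm H
            (fun p hp hpm h hh =>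
              Cfsg.Agent.Lib.helper14.AD.no_large_prime_of_block m H htr B hB hB1 hB2 p hp hpm h hh)
            r hr hrd hmaxr)
        (fun H hprim hAH r hr hrd hmaxr =>
          Cfsg.Agent.Lib.helper7.AD.perm_case_prim_core m hm
            (fun r hr h => Cfsg.Agent.Lib.helper56.AD.two_mul_le_of_sq_dvd_factorial r m hr h)
            (fun r h2 hrm => Cfsg.Agent.Lib.helper56.AD.exists_cycle m r h2 hrm)
            (fun K h3 =>
              Cfsg.Agent.Lib.helper56.AD.exists_three_cycle_of_relIndex m (by omega) K h3)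
            H hprim hAH r hr hrd hmaxr)
        Γ H hA hHΓ hmaxH r hr hrd' hmaxr')
    (fun h6 K hrd' hmaxr' => by
      subst h6
      exact Cfsg.Agent.Lib.helper78.AD.alt6_main K r hr hrd' hmaxr')

end Cfsg.Agent.S3571
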