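import Cfsg.Statements.S3573
import Mathlib
-- import your own Cfsg.Agent.* helpers here

set_option autoImplicit false
open Cfsg

namespace Cfsg.Agent.S3573

set_option linter.style.haveILetI false
set_option linter.unusedSectionVars false

open Equiv

section Invariant

variable {α : Type*} [Fintype α] [DecidableEq α]

/-- invariance of a finset under a permutation -/
def Inv (σ : Perm α) (s : Finset α) : Prop := ∀ x, σ x ∈ s ↔ x ∈ s

theorem Inv.image {σ : Perm α} {s : Finset α} (h : Inv σ s) : s.image σ = s := by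
  ext y
  rw [Finset.mem_image]
  constructor
  · rintro ⟨x, hx, rfl⟩; exact (h x).2 hx
  · intro hy
    refine ⟨σ.symm y, ?_, σ.apply_symm_apply y⟩
    rw [← h, σ.apply_symm_apply]; exact hy

theorem inv_of_image {σ : Perm α} {s : Finset α} (h : s.image σ = s) : Inv σ s := by
  intro x
  constructor
  · intro hx
    rw [← h, Finset.mem_image] at hx
    obtain ⟨y, hy, hyx⟩ := hx
    rw [← σ.injective hyx]; exact hy
  · intro hx
    rw [← h]; exact Finset.mem_image_of_mem σ hx

theorem Inv.union {σ : Perm α} {s t : Finset α} (hs : Inv σ s) (ht : Inv σ t) :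
    Inv σ (s ∪ t) := by
  intro x; rw [Finset.mem_union, Finset.mem_union, hs x, ht x]

theorem Inv.sdiff {σ : Perm α} {s t : Finset α} (hs : Inv σ s) (ht : Inv σ t) :
    Inv σ (s \ t) := by
  intro x; rw [Finset.mem_sdiff, Finset.mem_sdiff, hs x, ht x]

theorem inv_univ (σ : Perm α) : Inv σ Finset.univ := fun x => by simp

theorem inv_of_subset_fixed {σ : Perm α} {s : Finset α} (h : ∀ x ∈ s, σ x = x) : Inv σ s := by
  intro x
  constructor
  · intro hx
    have h1 := h _ hx
    have h2 : σ x = x := σ.injective h1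
    rw [← h2]; exact hx
  · intro hx; rw [h x hx]; exact hx

theorem Inv.zpow {σ : Perm α} {s : Finset α} (h : Inv σ s) (i : ℤ) (x : α) :
    (σ ^ i) x ∈ s ↔ x ∈ s := by
  induction i using Int.induction_on generalizing x with
  | zero => simp
  | succ i ih => rw [zpow_add_one, Perm.mul_apply, ih, h]
  | pred i ih =>
    rw [zpow_sub_one, Perm.mul_apply, ih, ← h (σ⁻¹ x), Perm.inv_def, Equiv.apply_symm_apply]

theorem exists_orbit {σ : Perm α} {r : ℕ} (hr : r.Prime) (hσ : orderOf σ = r) {U : Finset α}
    (hU : Inv σ U) {x : α} (hx : x ∈ U) (hmx : σ x ≠ x) :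
    ∃ E ⊆ U, Inv σ E ∧ E.card = r := by
  refine ⟨(σ.cycleOf x).support, ?_, ?_, ?_⟩
  · intro y hy
    rw [Perm.mem_support_cycleOf_iff] at hy
    obtain ⟨i, hi⟩ := hy.1
    rw [← hi, hU.zpow]; exact hx
  · intro y
    rw [Perm.mem_support_cycleOf_iff, Perm.mem_support_cycleOf_iff, Perm.sameCycle_apply_right]
  · have hc := Perm.isCycle_cycleOf σ hmx
    rw [← hc.orderOf]
    have hd := Perm.orderOf_cycleOf_dvd_orderOf σ x
    rw [hσ] at hd
    rcases (Nat.dvd_prime hr).1 hd with h1 | h1
    · exfalso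
      rw [orderOf_eq_one_iff] at h1
      exact hc.ne_one h1
    · exact h1

theorem exists_inv_subset {σ : Perm α} {r : ℕ} (hr : r.Prime) (hσ : orderOf σ = r)
    {U : Finset α} (hU : Inv σ U) (c : ℕ) (hc : r * c ≤ U.card) :
    ∃ C ⊆ U, Inv σ C ∧ C.card = r * c := by
  induction c with
  | zero => exact ⟨∅, Finset.empty_subset _, fun x => by simp, by simp⟩
  | succ c ih =>
    obtain ⟨C, hCU, hCinv, hCcard⟩ := ih (by rw [Nat.mul_succ] at hc; omega)
    have hcard : r ≤ (U \ C).card := by
      rw [Finset.card_sdiff_of_subset hCU, hCcard]; rw [Nat.mul_succ] at hc; omega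
    have hinv : Inv σ (U \ C) := hU.sdiff hCinv
    have hE : ∃ E ⊆ U \ C, Inv σ E ∧ E.card = r := by
      by_cases hmoved : ∃ x ∈ U \ C, σ x ≠ x
      · obtain ⟨x, hx, hmx⟩ := hmoved
        exact exists_orbit hr hσ hinv hx hmx
      · push Not at hmoved
        obtain ⟨E, hE, hEcard⟩ := Finset.exists_subset_card_eq hcard
        exact ⟨E, hE, inv_of_subset_fixed (fun x hx => hmoved x (hE hx)), hEcard⟩
    obtain ⟨E, hEsub, hEinv, hEcard⟩ := hE
    refine ⟨C ∪ E, Finset.union_subset hCU (hEsub.trans Finset.sdiff_subset),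
      hCinv.union hEinv, ?_⟩
    rw [Finset.card_union_of_disjoint, hCcard, hEcard, Nat.mul_succ]
    exact Finset.disjoint_of_subset_right hEsub Finset.disjoint_sdiff

end Invariant

theorem exists_inv_card {n : ℕ} (σ : Perm (Fin n)) {r : ℕ} (hr : r.Prime) (hσ : orderOf σ = r)
    (k : ℕ) (hk : k ≤ n) (hmod : k % r ≤ n % r) :
    ∃ s : Finset (Fin n), s.card = k ∧ s.image σ = s := by
  haveI : Fact r.Prime := ⟨hr⟩
  have hσr : σ ^ r ^ 1 = 1 := by rw [pow_one, ← hσ]; exact pow_orderOf_eq_one σ
  have hF := Perm.card_compl_support_modEq hσr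
  rw [Fintype.card_fin] at hF
  have hFge : n % r ≤ σ.supportᶜ.card := by
    have h0 : σ.supportᶜ.card % r = n % r := hF
    rw [← h0]; exact Nat.mod_le _ _
  obtain ⟨B, hB, hBcard⟩ := Finset.exists_subset_card_eq (le_trans hmod hFge)
  have hBinv : Inv σ B := inv_of_subset_fixed (fun x hx => by
    have h0 := hB hx
    simpa using h0)
  have hUinv : Inv σ (Finset.univ \ B) := (inv_univ σ).sdiff hBinv
  have hUcard : (Finset.univ \ B).card = n - k % r := by
    rw [Finset.card_sdiff_of_subset (Finset.subset_univ _), Finset.card_univ, Fintype.card_fin,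
      hBcard]
  obtain ⟨C, hCU, hCinv, hCcard⟩ := exists_inv_subset hr hσ hUinv (k / r) (by
    rw [hUcard]; have := Nat.div_add_mod k r; omega)
  refine ⟨B ∪ C, ?_, (hBinv.union hCinv).image⟩
  rw [Finset.card_union_of_disjoint, hBcard, hCcard]
  · have := Nat.div_add_mod k r; omega
  · exact Finset.disjoint_of_subset_right hCU Finset.disjoint_sdiff

theorem mod_le_of_inv {n : ℕ} (σ : Perm (Fin n)) {r : ℕ} (hr : r.Prime) (hσ : orderOf σ = r)
    (s : Finset (Fin n)) (hs : s.image σ = s) : s.card % r ≤ σ.supportᶜ.card := by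
  haveI : Fact r.Prime := ⟨hr⟩
  have hinv := inv_of_image hs
  let τ : Perm {x // x ∈ s} := σ.subtypePerm (fun x => hinv x)
  have hτ : τ ^ r ^ 1 = 1 := by
    ext x
    rw [pow_one, Perm.subtypePerm_pow, Perm.subtypePerm_apply]
    have h0 : σ ^ r = 1 := by rw [← hσ]; exact pow_orderOf_eq_one σ
    simp [h0]
  have h1 := Perm.card_compl_support_modEq hτ
  rw [Fintype.card_coe] at h1
  have h2 : τ.supportᶜ.card ≤ σ.supportᶜ.card := by
    refine Finset.card_le_card_of_injOn (s := τ.supportᶜ) (t := σ.supportᶜ)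
      (fun x => (x : Fin n)) ?_ ?_
    · intro x hx
      simp only [Finset.mem_coe, Finset.mem_compl, Perm.mem_support, not_not] at hx ⊢
      have h0 := congrArg Subtype.val hx
      rw [Perm.subtypePerm_apply] at h0
      exact h0
    · intro x _ y _ h; exact Subtype.ext h
  have h3 : s.card % r = τ.supportᶜ.card % r := h1.symm
  rw [h3]
  exact (Nat.mod_le _ _).trans h2

theorem exists_perm_few_fixed (n r : ℕ) (hr : r.Prime) (hrn : r ≤ n) :
    ∃ σ : Perm (Fin n), orderOf σ = r ∧ σ.supportᶜ.card = n % r := by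
  haveI : Fact r.Prime := ⟨hr⟩
  haveI : NeZero r := ⟨hr.ne_zero⟩
  have hq : 0 < n / r := Nat.div_pos hrn hr.pos
  have hcard : Fintype.card (Fin n) = Fintype.card ((Fin (n / r) × ZMod r) ⊕ Fin (n % r)) := by
    rw [Fintype.card_sum, Fintype.card_prod, Fintype.card_fin, Fintype.card_fin, ZMod.card,
      Fintype.card_fin]
    have := Nat.div_add_mod n r
    rw [mul_comm]; omega
  let e : Fin n ≃ (Fin (n / r) × ZMod r) ⊕ Fin (n % r) := Fintype.equivOfCardEq hcard
  let σ' : Perm ((Fin (n / r) × ZMod r) ⊕ Fin (n % r)) :=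
    Equiv.sumCongr (Equiv.prodCongr (Equiv.refl _) (Equiv.addRight (1 : ZMod r))) (Equiv.refl _)
  have hσ'l : ∀ (a : Fin (n / r)) (z : ZMod r), σ' (Sum.inl (a, z)) = Sum.inl (a, z + 1) :=
    fun a z => rfl
  have hσ'r : ∀ b : Fin (n % r), σ' (Sum.inr b) = Sum.inr b := fun b => rfl
  have hpowl : ∀ (m : ℕ) (a : Fin (n / r)) (z : ZMod r),
      (σ' ^ m) (Sum.inl (a, z)) = Sum.inl (a, z + m) := by
    intro m
    induction m with
    | zero => intro a z; simp
    | succ m ih =>
      intro a z
      rw [pow_succ, Perm.mul_apply, hσ'l, ih]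
      congr 2
      push_cast; ring
  have hpowr : ∀ (m : ℕ) (b : Fin (n % r)), (σ' ^ m) (Sum.inr b) = Sum.inr b := by
    intro m
    induction m with
    | zero => intro b; simp
    | succ m ih => intro b; rw [pow_succ, Perm.mul_apply, hσ'r, ih]
  have hσ'pow : σ' ^ r = 1 := by
    ext x
    rcases x with ⟨a, z⟩ | b
    · rw [hpowl]; simp
    · rw [hpowr]; simp
  let σ : Perm (Fin n) := e.symm.permCongrHom σ'
  have hσapply : ∀ x, σ x = e.symm (σ' (e x)) := fun x => rfl
  have hσpow : σ ^ r = 1 := by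
    change (e.symm.permCongrHom σ') ^ r = 1
    rw [← map_pow, hσ'pow, map_one]
  have hσne : σ ≠ 1 := by
    intro h
    have h1 : σ (e.symm (Sum.inl (⟨0, hq⟩, 0))) = e.symm (Sum.inl (⟨0, hq⟩, 0)) := by
      rw [h]; rfl
    rw [hσapply, Equiv.apply_symm_apply, hσ'l] at h1
    have h2 := e.symm.injective h1
    have h3 : (0 : ZMod r) + 1 = 0 := by
      have := Sum.inl_injective h2
      exact (Prod.ext_iff.1 this).2
    rw [zero_add] at h3
    exact one_ne_zero h3
  refine ⟨σ, orderOf_eq_prime hσpow hσne, ?_⟩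
  have hinj : Function.Injective (fun b : Fin (n % r) => e.symm (Sum.inr b)) :=
    fun b b' h => Sum.inr_injective (e.symm.injective h)
  have hsupp : σ.supportᶜ = (Finset.univ : Finset (Fin (n % r))).image
      (fun b : Fin (n % r) => e.symm (Sum.inr b)) := by
    ext x
    rw [Finset.mem_compl, Perm.mem_support, not_not, Finset.mem_image, hσapply]
    constructor
    · intro h
      have h1 : σ' (e x) = e x := by
        have := congrArg e h
        rwa [Equiv.apply_symm_apply] at this
      rcases hx : e x with ⟨a, z⟩ | b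
      · rw [hx, hσ'l] at h1
        have h2 : z + 1 = z := (Prod.ext_iff.1 (Sum.inl_injective h1)).2
        exact absurd (add_eq_left.1 h2) one_ne_zero
      · exact ⟨b, Finset.mem_univ _, by rw [← hx, Equiv.symm_apply_apply]⟩
    · rintro ⟨b, -, rfl⟩
      rw [Equiv.apply_symm_apply, hσ'r]
  rw [hsupp, Finset.card_image_of_injective _ hinj, Finset.card_univ, Fintype.card_fin]


/-- Let 1 ≤ k with 2k < n and consider the symmetric group of degree n acting on the k-subsets of an n-set. Let r be a prime dividing the number C(n,k) of k-subsets. If r is odd, then every permutation of order r fixes some k-subset if and only if r ≤ k and the remainder of k modulo r is at most the remainder of n modulo r. If r = 2, then every involution fixes some k-subset if and only if k is even or n is odd. -/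
theorem result (n k : ℕ) (hk : 1 ≤ k) (hkn : 2 * k < n) (r : ℕ) (hr : r.Prime) (hrd : r ∣ Nat.choose n k) :
    (r ≠ 2 → ((∀ σ : Equiv.Perm (Fin n), orderOf σ = r → ∃ s : Finset (Fin n), s.card = k ∧ s.image σ = s) ↔
      (r ≤ k ∧ k % r ≤ n % r))) ∧
    (r = 2 → ((∀ σ : Equiv.Perm (Fin n), orderOf σ = 2 → ∃ s : Finset (Fin n), s.card = k ∧ s.image σ = s) ↔
      (Even k ∨ Odd n))) := by
  have hkn' : k ≤ n := by omega
  have hrn : r ≤ n := by
    have h1 : Nat.choose n k ∣ n.factorial := by
      have h0 := Nat.choose_mul_factorial_mul_factorial hkn'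
      exact Dvd.intro (k.factorial * (n - k).factorial) (by rw [← h0]; ring)
    exact (Nat.Prime.dvd_factorial hr).1 (hrd.trans h1)
  have core : (∀ σ : Equiv.Perm (Fin n), orderOf σ = r →
      ∃ s : Finset (Fin n), s.card = k ∧ s.image σ = s) ↔ k % r ≤ n % r := by
    constructor
    · intro h
      obtain ⟨σ, hσ, hfix⟩ := exists_perm_few_fixed n r hr hrn
      obtain ⟨s, hs, hsσ⟩ := h σ hσ
      have h0 := mod_le_of_inv σ hr hσ s hsσ
      rw [hs, hfix] at h0
      exact h0
    · intro h σ hσ
      exact exists_inv_card σ hr hσ k hkn' h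
  refine ⟨fun hr2 => ?_, fun hr2 => ?_⟩
  · rw [core]
    constructor
    · intro h
      refine ⟨?_, h⟩
      by_contra hlt
      push Not at hlt
      have hmodk : k % r = k := Nat.mod_eq_of_lt hlt
      have hdivk : k / r = 0 := Nat.div_eq_of_lt hlt
      haveI : Fact r.Prime := ⟨hr⟩
      have hluc := Choose.choose_modEq_choose_mod_mul_choose_div_nat (p := r) (n := n) (k := k)
      rw [hmodk, hdivk, Nat.choose_zero_right, mul_one] at hluc
      have hdvd : r ∣ Nat.choose (n % r) k :=
        (Nat.modEq_zero_iff_dvd.1 ((hluc.symm).trans (Nat.modEq_zero_iff_dvd.2 hrd)))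
      have hk' : k ≤ n % r := by rw [hmodk] at h; exact h
      have h2 : Nat.choose (n % r) k ∣ (n % r).factorial := by
        have h0 := Nat.choose_mul_factorial_mul_factorial hk'
        exact Dvd.intro (k.factorial * (n % r - k).factorial) (by rw [← h0]; ring)
      have h3 := (Nat.Prime.dvd_factorial hr).1 (hdvd.trans h2)
      have h4 := Nat.mod_lt n hr.pos
      omega
    · exact fun h => h.2
  · subst hr2
    rw [core, Nat.even_iff, Nat.odd_iff]
    omega

end Cfsg.Agent.S3573
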