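import Cfsg.Statements.S3575
import Mathlib
import Cfsg.Agent.S3573
-- import your own Cfsg.Agent.* helpers here

set_option autoImplicit false
open Cfsg

namespace Cfsg.Agent.S3575

open Equiv Cfsg.Agent.S3573

set_option linter.style.haveILetI false
set_option linter.unusedSectionVars false

section General

variable {α : Type*} [Fintype α] [DecidableEq α]

theorem inv_support (σ : Perm α) : Inv σ σ.support := fun x => by
  rw [Perm.mem_support, Perm.mem_support, Ne, σ.injective.eq_iff]

theorem inv_inter {σ : Perm α} {s t : Finset α} (hs : Inv σ s) (ht : Inv σ t) :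
    Inv σ (s ∩ t) := by
  intro x; rw [Finset.mem_inter, Finset.mem_inter, hs x, ht x]

/-- the number of points of an invariant set of moved points is divisible by `r` -/
theorem dvd_card_moved {σ : Perm α} {r : ℕ} (hr : r.Prime) (hσ : σ ^ r = 1) {S : Finset α}
    (hS : Inv σ S) (hmoved : ∀ x ∈ S, σ x ≠ x) : r ∣ S.card := by
  haveI : Fact r.Prime := ⟨hr⟩
  let τ : Perm {x // x ∈ S} := σ.subtypePerm (fun x => hS x)
  have hτ : τ ^ r ^ 1 = 1 := by
    ext x
    rw [pow_one, Perm.subtypePerm_pow, Perm.subtypePerm_apply]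
    simp [hσ]
  have h1 := Perm.card_compl_support_modEq hτ
  rw [Fintype.card_coe] at h1
  have h2 : τ.supportᶜ = ∅ := by
    ext x
    simp only [Finset.mem_compl, Perm.mem_support, not_not, Finset.notMem_empty, iff_false]
    intro hx
    have h0 := congrArg Subtype.val hx
    rw [Perm.subtypePerm_apply] at h0
    exact hmoved x x.2 h0
  rw [h2, Finset.card_empty] at h1
  exact (Nat.modEq_zero_iff_dvd.1 h1.symm)

theorem pow_eq_one_of_orderOf {σ : Perm α} {r : ℕ} (hσ : orderOf σ = r) : σ ^ r = 1 := by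
  rw [← hσ]; exact pow_orderOf_eq_one σ

/-- one invariant chunk of size `a` -/
theorem exists_chunk {σ : Perm α} {r : ℕ} (hr : r.Prime) (hσ : orderOf σ = r) (a v : ℕ)
    {S : Finset α} (hS : Inv σ S) (hcard : S.card = a * (v + 1))
    (hm : (S ∩ σ.support).card ≤ (v + 1) * (r * (a / r))) :
    ∃ V ⊆ S, Inv σ V ∧ V.card = a ∧ ((S \ V) ∩ σ.support).card ≤ v * (r * (a / r)) := by
  have hMinv : Inv σ (S ∩ σ.support) := inv_inter hS (inv_support σ)
  obtain ⟨c, hc⟩ := dvd_card_moved hr (pow_eq_one_of_orderOf hσ) hMinv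
    (fun x hx => Perm.mem_support.1 (Finset.mem_inter.1 hx).2)
  have hrA : r * (a / r) ≤ a := Nat.mul_div_le a r
  obtain ⟨V₁, hV₁sub, hV₁inv, hV₁card⟩ := exists_inv_subset hr hσ hMinv (min (a / r) c) (by
    rw [hc]; exact Nat.mul_le_mul_left r (min_le_right (a / r) c))
  have hFcard : (S \ σ.support).card + r * c = a * (v + 1) := by
    rw [← hcard, ← hc]; exact Finset.card_sdiff_add_card_inter S σ.support
  have hmin : r * min (a / r) c ≤ a := (Nat.mul_le_mul_left r (min_le_left (a / r) c)).trans hrA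
  rw [hc] at hm
  have hneed : a - r * min (a / r) c ≤ (S \ σ.support).card := by
    rcases le_total (a / r) c with h | h
    · rw [min_eq_left h]
      obtain ⟨d, hd⟩ : ∃ d, a = r * (a / r) + d := ⟨a - r * (a / r), by omega⟩
      have h1 : a * (v + 1) = (v + 1) * (r * (a / r)) + (v + 1) * d := by
        conv_lhs => rw [hd]
        ring
      have h2 : d ≤ (v + 1) * d := Nat.le_mul_of_pos_left d (Nat.succ_pos v)
      omega
    · rw [min_eq_right h]
      have h1 : a ≤ a * (v + 1) := Nat.le_mul_of_pos_right a (Nat.succ_pos v)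
      omega
  obtain ⟨V₂, hV₂sub, hV₂card⟩ := Finset.exists_subset_card_eq hneed
  have hV₂inv : Inv σ V₂ := inv_of_subset_fixed (fun x hx => by
    have h0 := hV₂sub hx
    rw [Finset.mem_sdiff, Perm.mem_support, not_not] at h0
    exact h0.2)
  have hdisj : Disjoint V₁ V₂ := by
    rw [Finset.disjoint_left]
    intro x hx1 hx2
    have h1 := (Finset.mem_inter.1 (hV₁sub hx1)).2
    have h2 := (Finset.mem_sdiff.1 (hV₂sub hx2)).2
    exact h2 h1
  refine ⟨V₁ ∪ V₂, ?_, hV₁inv.union hV₂inv, ?_, ?_⟩
  · exact Finset.union_subset (hV₁sub.trans Finset.inter_subset_left)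
      (hV₂sub.trans Finset.sdiff_subset)
  · rw [Finset.card_union_of_disjoint hdisj, hV₁card, hV₂card]
    omega
  · have heq : (S \ (V₁ ∪ V₂)) ∩ σ.support = (S ∩ σ.support) \ V₁ := by
      ext x
      simp only [Finset.mem_inter, Finset.mem_sdiff, Finset.mem_union, not_or]
      constructor
      · rintro ⟨⟨hxS, hx1, _⟩, hxs⟩; exact ⟨⟨hxS, hxs⟩, hx1⟩
      · rintro ⟨⟨hxS, hxs⟩, hx1⟩
        refine ⟨⟨hxS, hx1, ?_⟩, hxs⟩
        intro hx2
        exact (Finset.mem_sdiff.1 (hV₂sub hx2)).2 hxs
    rw [heq, Finset.card_sdiff_of_subset hV₁sub, hc, hV₁card]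
    have h3 : (v + 1) * (r * (a / r)) = v * (r * (a / r)) + r * (a / r) := by ring
    rcases le_total (a / r) c with h | h
    · rw [min_eq_left h]; omega
    · rw [min_eq_right h]; simp

/-- a partition of an invariant set into invariant chunks of size `a` -/
theorem exists_chunks {σ : Perm α} {r : ℕ} (hr : r.Prime) (hσ : orderOf σ = r) (a : ℕ) :
    ∀ (v : ℕ) (S : Finset α), Inv σ S → S.card = a * v →
      (S ∩ σ.support).card ≤ v * (r * (a / r)) →
      ∃ c : α → ℕ, (∀ x ∈ S, c x < v) ∧ (∀ x ∈ S, c (σ x) = c x) ∧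
        ∀ i < v, (S.filter (fun x => c x = i)).card = a := by
  intro v
  induction v with
  | zero =>
    intro S hS hcard hm
    have h0 : S = ∅ := Finset.card_eq_zero.1 (by rw [hcard, mul_zero])
    subst h0
    exact ⟨fun _ => 0, by simp, by simp, by simp⟩
  | succ v ih =>
    intro S hS hcard hm
    obtain ⟨V, hVS, hVinv, hVcard, hVm⟩ := exists_chunk hr hσ a v hS hcard hm
    obtain ⟨c, hc1, hc2, hc3⟩ := ih (S \ V) (hS.sdiff hVinv) (by
      rw [Finset.card_sdiff_of_subset hVS, hcard, hVcard, Nat.mul_succ]; omega) hVm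
    refine ⟨fun x => if x ∈ V then v else c x, ?_, ?_, ?_⟩
    · intro x hx
      by_cases hxV : x ∈ V
      · simp [hxV]
      · simp only [hxV, if_false]
        exact (hc1 x (Finset.mem_sdiff.2 ⟨hx, hxV⟩)).trans (Nat.lt_succ_self v)
    · intro x hx
      by_cases hxV : x ∈ V
      · have h0 : σ x ∈ V := (hVinv x).2 hxV
        simp [hxV, h0]
      · have h0 : σ x ∉ V := fun h => hxV ((hVinv x).1 h)
        simp only [hxV, h0, if_false]
        exact hc2 x (Finset.mem_sdiff.2 ⟨hx, hxV⟩)
    · intro i hi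
      rcases Nat.lt_succ_iff_lt_or_eq.1 hi with hlt | rfl
      · have heq : S.filter (fun x => (if x ∈ V then v else c x) = i) =
            (S \ V).filter (fun x => c x = i) := by
          ext x
          simp only [Finset.mem_filter, Finset.mem_sdiff]
          by_cases hxV : x ∈ V
          · simp only [hxV, if_true, not_true, and_false, false_and, iff_false, not_and]
            intro _; omega
          · simp [hxV]
        rw [heq]; exact hc3 i hlt
      · have heq : S.filter (fun x => (if x ∈ V then i else c x) = i) = V := by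
          ext x
          simp only [Finset.mem_filter]
          by_cases hxV : x ∈ V
          · simp [hxV, hVS hxV]
          · simp only [hxV, if_false, iff_false, not_and]
            intro hxS h
            have h0 := hc1 x (Finset.mem_sdiff.2 ⟨hxS, hxV⟩)
            omega
        rw [heq]; exact hVcard

theorem card_support_cycleOf {σ : Perm α} {r : ℕ} (hr : r.Prime) (hσ : orderOf σ = r) {x : α}
    (hx : σ x ≠ x) : (σ.cycleOf x).support.card = r := by
  have hc := Perm.isCycle_cycleOf σ hx
  rw [← hc.orderOf]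
  have hd := Perm.orderOf_cycleOf_dvd_orderOf σ x
  rw [hσ] at hd
  rcases (Nat.dvd_prime hr).1 hd with h1 | h1
  · exfalso
    rw [orderOf_eq_one_iff] at h1
    exact hc.ne_one h1
  · exact h1

/-- a phase function on the moved points -/
theorem exists_phase {σ : Perm α} {r : ℕ} (hr : r.Prime) (hσ : orderOf σ = r) :
    ∃ θ : α → ZMod r, ∀ x, σ x ≠ x → θ (σ x) = θ x + 1 := by
  classical
  let s : Setoid α := Perm.SameCycle.setoid σ
  let rep : α → α := fun x => (Quotient.out (s := s) (Quotient.mk s x))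
  have hrep : ∀ x, σ.SameCycle (rep x) x := fun x =>
    Quotient.exact (s := s) (Quotient.out_eq (s := s) (Quotient.mk s x))
  have hrepσ : ∀ x, rep (σ x) = rep x := by
    intro x
    have h0 : Quotient.mk s (σ x) = Quotient.mk s x :=
      Quotient.sound (s := s) (Perm.sameCycle_apply_left.2 (Perm.SameCycle.refl σ x))
    simp only [rep, h0]
  choose i hi using hrep
  refine ⟨fun x => (i x : ZMod r), ?_⟩
  intro x hx
  have h1 : (σ ^ (i (σ x))) (rep x) = σ x := by rw [← hrepσ x]; exact hi (σ x)
  have h2 : (σ ^ (1 + i x)) (rep x) = σ x := by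
    rw [zpow_one_add, Perm.mul_apply, hi x]
  have hrepmoved : σ (rep x) ≠ rep x := by
    intro hfix
    have h3 : ∀ n : ℤ, (σ ^ n) (rep x) = rep x := by
      intro n
      exact (Perm.zpow_apply_eq_self_of_apply_eq_self hfix n)
    have h4 := hi x
    rw [h3] at h4
    rw [← h4] at hx
    exact hx hfix
  have hcyc := Perm.isCycleOn_support_cycleOf σ (rep x)
  have hmem : rep x ∈ (σ.cycleOf (rep x)).support := by
    rw [Perm.mem_support_cycleOf_iff]
    exact ⟨Perm.SameCycle.refl σ _, Perm.mem_support.2 hrepmoved⟩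
  have h5 := (hcyc.zpow_apply_eq_zpow_apply hmem (m := i (σ x)) (n := 1 + i x)).1 (h1.trans h2.symm)
  rw [card_support_cycleOf hr hσ hrepmoved] at h5
  have h6 := (ZMod.intCast_eq_intCast_iff (i (σ x)) (1 + i x) r).2 h5
  simp only at h6 ⊢
  rw [h6]; push_cast; ring

/-- all fibres of the phase function on an invariant set of moved points have the same size -/
theorem card_phase_fiber {σ : Perm α} {r : ℕ} [NeZero r] (θ : α → ZMod r)
    (hθ : ∀ x, σ x ≠ x → θ (σ x) = θ x + 1) {W : Finset α} (hW : Inv σ W)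
    (hmoved : ∀ x ∈ W, σ x ≠ x) (n : ℕ) (hcard : W.card = r * n) (t : ZMod r) :
    (W.filter (fun x => θ x = t)).card = n := by
  have hstep : ∀ t : ZMod r, (W.filter (fun x => θ x = t + 1)).card =
      (W.filter (fun x => θ x = t)).card := by
    intro t
    symm
    apply Finset.card_bij (fun x _ => σ x)
    · intro x hx
      rw [Finset.mem_filter] at hx ⊢
      exact ⟨(hW x).2 hx.1, by rw [hθ x (hmoved x hx.1), hx.2]⟩
    · intro x _ y _ h; exact σ.injective h
    · intro y hy
      rw [Finset.mem_filter] at hy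
      have hyW : σ.symm y ∈ W := by rw [← hW, σ.apply_symm_apply]; exact hy.1
      refine ⟨σ.symm y, ?_, σ.apply_symm_apply y⟩
      rw [Finset.mem_filter]
      refine ⟨hyW, ?_⟩
      have h0 := hθ (σ.symm y) (hmoved _ hyW)
      rw [σ.apply_symm_apply, hy.2] at h0
      exact (add_right_cancel h0).symm
  have hall : ∀ t : ZMod r, (W.filter (fun x => θ x = t)).card =
      (W.filter (fun x => θ x = 0)).card := by
    intro t
    have h0 : ∀ m : ℕ, (W.filter (fun x => θ x = (m : ZMod r))).card =
        (W.filter (fun x => θ x = 0)).card := by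
      intro m
      induction m with
      | zero => simp
      | succ m ih => rw [Nat.cast_succ, hstep, ih]
    have h := h0 t.val
    rwa [ZMod.natCast_zmod_val] at h
  have hsum : W.card = ∑ t : ZMod r, (W.filter (fun x => θ x = t)).card :=
    Finset.card_eq_sum_card_fiberwise (fun x _ => Finset.mem_univ _)
  rw [Finset.sum_congr rfl (fun t _ => hall t), Finset.sum_const, Finset.card_univ, ZMod.card,
    smul_eq_mul, hcard] at hsum
  rw [hall t]
  exact (Nat.eq_of_mul_eq_mul_left (NeZero.pos r) hsum).symm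

end General


section General2

variable {α : Type*} [Fintype α] [DecidableEq α]

theorem exists_labeling {σ : Perm α} {r : ℕ} (hr : r.Prime) (hσ : orderOf σ = r) (a b : ℕ)
    (hcard : Fintype.card α = a * b) (j u : ℕ) (hj : σ.support.card = r * j)
    (hub : r * u ≤ b) (h1 : u * a ≤ j) (h2 : j ≤ u * a + (b - r * u) * (a / r)) :
    ∃ g : α → ℕ, (∀ x, g x < b) ∧
      (∀ y < b, (Finset.univ.filter (fun x => g x = y)).card = a) ∧
      ∀ x x', g x = g x' → g (σ x) = g (σ x') := by
  haveI : Fact r.Prime := ⟨hr⟩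
  haveI : NeZero r := ⟨hr.ne_zero⟩
  have hrpos := hr.pos
  obtain ⟨v, hv⟩ : ∃ v, b = r * u + v := ⟨b - r * u, by omega⟩
  have hbv : b - r * u = v := by omega
  rw [hbv] at h2
  -- the rotating part
  obtain ⟨U, hUsub, hUinv, hUcard⟩ := exists_inv_subset hr hσ (inv_support σ) (u * a) (by
    rw [hj]; exact Nat.mul_le_mul_left r h1)
  have hUmoved : ∀ x ∈ U, σ x ≠ x := fun x hx => Perm.mem_support.1 (hUsub hx)
  -- the complement
  have hSinv : Inv σ (Finset.univ \ U) := (inv_univ σ).sdiff hUinv
  have hScard : (Finset.univ \ U).card = a * v := by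
    rw [Finset.card_sdiff_of_subset (Finset.subset_univ _), Finset.card_univ, hcard, hUcard, hv]
    have h0 : a * (r * u + v) = r * (u * a) + a * v := by ring
    omega
  have hSm : ((Finset.univ \ U) ∩ σ.support).card ≤ v * (r * (a / r)) := by
    have heq : (Finset.univ \ U) ∩ σ.support = σ.support \ U := by
      ext x; simp [and_comm]
    rw [heq, Finset.card_sdiff_of_subset hUsub, hj, hUcard]
    have h0 : r * j ≤ r * (u * a + v * (a / r)) := Nat.mul_le_mul_left r h2
    have h3 : r * (u * a + v * (a / r)) = r * (u * a) + v * (r * (a / r)) := by ring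
    omega
  obtain ⟨c₁, hc₁a, hc₁b, hc₁c⟩ := exists_chunks hr hσ a v _ hSinv hScard hSm
  obtain ⟨c₂, hc₂a, hc₂b, hc₂c⟩ := exists_chunks hr hσ (r * a) u U hUinv (by
    rw [hUcard]; ring) (by
    rw [Nat.mul_div_cancel_left a hrpos]
    refine (Finset.card_le_card Finset.inter_subset_left).trans ?_
    rw [hUcard]
    exact le_of_eq (by ring))
  obtain ⟨θ, hθ⟩ := exists_phase hr hσ
  refine ⟨fun x => if x ∈ U then v + r * c₂ x + (θ x).val else c₁ x, ?_, ?_, ?_⟩
  · intro x
    by_cases hxU : x ∈ U
    · simp only [hxU, if_true]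
      have h3 := hc₂a x hxU
      have h4 := ZMod.val_lt (θ x)
      have h5 : r * (c₂ x + 1) ≤ r * u := Nat.mul_le_mul_left r h3
      rw [Nat.mul_succ] at h5
      omega
    · simp only [hxU, if_false]
      have h3 := hc₁a x (Finset.mem_sdiff.2 ⟨Finset.mem_univ _, hxU⟩)
      omega
  · intro y hy
    by_cases hyv : y < v
    · have heq : Finset.univ.filter (fun x => (if x ∈ U then v + r * c₂ x + (θ x).val else c₁ x) = y)
          = (Finset.univ \ U).filter (fun x => c₁ x = y) := by
        ext x
        simp only [Finset.mem_filter, Finset.mem_univ, true_and, Finset.mem_sdiff]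
        by_cases hxU : x ∈ U
        · simp only [hxU, if_true, not_true, false_and, iff_false]
          omega
        · simp [hxU]
      rw [heq]; exact hc₁c y hyv
    · push Not at hyv
      have hi : (y - v) / r < u := by
        rw [Nat.div_lt_iff_lt_mul hrpos]
        rw [mul_comm]; omega
      have ht : (y - v) % r < r := Nat.mod_lt _ hrpos
      have hW : Inv σ (U.filter (fun x => c₂ x = (y - v) / r)) := by
        intro x
        rw [Finset.mem_filter, Finset.mem_filter, hUinv x]
        constructor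
        · rintro ⟨hxU, hx⟩; exact ⟨hxU, by rw [← hc₂b x hxU]; exact hx⟩
        · rintro ⟨hxU, hx⟩; exact ⟨hxU, by rw [hc₂b x hxU]; exact hx⟩
      have hfib := card_phase_fiber θ hθ hW
        (fun x hx => hUmoved x (Finset.mem_filter.1 hx).1) a (hc₂c _ hi)
        (((y - v) % r : ℕ) : ZMod r)
      have heq : Finset.univ.filter (fun x => (if x ∈ U then v + r * c₂ x + (θ x).val else c₁ x) = y)
          = (U.filter (fun x => c₂ x = (y - v) / r)).filter
              (fun x => θ x = (((y - v) % r : ℕ) : ZMod r)) := by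
        ext x
        simp only [Finset.mem_filter, Finset.mem_univ, true_and]
        by_cases hxU : x ∈ U
        · simp only [hxU, if_true, true_and]
          have h4 := ZMod.val_lt (θ x)
          have h5 := Nat.div_add_mod (y - v) r
          constructor
          · intro h
            have h6 : r * c₂ x + (θ x).val = y - v := by omega
            have h7 : c₂ x = (y - v) / r := by
              rw [← h6, Nat.mul_add_div hrpos, Nat.div_eq_of_lt h4, add_zero]
            refine ⟨h7, ?_⟩
            have h8 : (θ x).val = (y - v) % r := by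
              rw [← h6, Nat.mul_add_mod, Nat.mod_eq_of_lt h4]
            rw [← h8, ZMod.natCast_zmod_val]
          · rintro ⟨h7, h8⟩
            have h9 : (θ x).val = (y - v) % r := by
              rw [h8, ZMod.val_natCast, Nat.mod_mod]
            rw [h7, h9]; omega
        · simp only [hxU, if_false, false_and, iff_false]
          have h3 := hc₁a x (Finset.mem_sdiff.2 ⟨Finset.mem_univ _, hxU⟩)
          omega
      rw [heq]; exact hfib
  · intro x x' hxx
    by_cases hxU : x ∈ U <;> by_cases hx'U : x' ∈ U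
    · have hσx : σ x ∈ U := (hUinv x).2 hxU
      have hσx' : σ x' ∈ U := (hUinv x').2 hx'U
      simp only [hxU, hx'U, if_true] at hxx
      simp only [hσx, hσx', if_true]
      have h4 := ZMod.val_lt (θ x)
      have h4' := ZMod.val_lt (θ x')
      have h6 : r * c₂ x + (θ x).val = r * c₂ x' + (θ x').val := by omega
      have h7 : c₂ x = c₂ x' := by
        have e1 : (r * c₂ x + (θ x).val) / r = c₂ x := by
          rw [Nat.mul_add_div hrpos, Nat.div_eq_of_lt h4, add_zero]
        have e2 : (r * c₂ x' + (θ x').val) / r = c₂ x' := by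
          rw [Nat.mul_add_div hrpos, Nat.div_eq_of_lt h4', add_zero]
        rw [← e1, ← e2, h6]
      have h8 : (θ x).val = (θ x').val := by rw [h7] at h6; omega
      have h9 : θ x = θ x' := ZMod.val_injective r h8
      rw [hc₂b x hxU, hc₂b x' hx'U, hθ x (hUmoved x hxU), hθ x' (hUmoved x' hx'U), h7, h9]
    · exfalso
      simp only [hxU, hx'U, if_true, if_false] at hxx
      have h3 := hc₁a x' (Finset.mem_sdiff.2 ⟨Finset.mem_univ _, hx'U⟩)
      omega
    · exfalso
      simp only [hxU, hx'U, if_true, if_false] at hxx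
      have h3 := hc₁a x (Finset.mem_sdiff.2 ⟨Finset.mem_univ _, hxU⟩)
      omega
    · have hσx : σ x ∉ U := fun h => hxU ((hUinv x).1 h)
      have hσx' : σ x' ∉ U := fun h => hx'U ((hUinv x').1 h)
      simp only [hxU, hx'U, if_false] at hxx
      simp only [hσx, hσx', if_false]
      rw [hc₁b x (Finset.mem_sdiff.2 ⟨Finset.mem_univ _, hxU⟩),
        hc₁b x' (Finset.mem_sdiff.2 ⟨Finset.mem_univ _, hx'U⟩), hxx]

end General2

theorem exists_perm_of_labeling {N b : ℕ} (σ : Perm (Fin N)) (a : ℕ) (ha : 1 ≤ a)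
    (g : Fin N → ℕ) (hg1 : ∀ x, g x < b)
    (hg2 : ∀ y < b, (Finset.univ.filter (fun x => g x = y)).card = a)
    (hg3 : ∀ x x', g x = g x' → g (σ x) = g (σ x')) :
    ∃ f : Fin N → Fin b, (∀ j : Fin b, Nat.card {x : Fin N // f x = j} = a) ∧
      ∃ π : Equiv.Perm (Fin b), ∀ x, f (σ x) = π (f x) := by
  let f : Fin N → Fin b := fun x => ⟨g x, hg1 x⟩
  have hfib : ∀ j : Fin b, Nat.card {x : Fin N // f x = j} = a := by
    intro j
    rw [Nat.card_eq_fintype_card, Fintype.card_subtype, ← hg2 j j.2]
    congr 1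
    ext x
    simp only [Finset.mem_filter, Finset.mem_univ, true_and, f]
    exact Fin.ext_iff
  have hsurj : Function.Surjective f := by
    intro j
    have h := hfib j
    have hne : Nonempty {x : Fin N // f x = j} := by
      by_contra hcon
      rw [not_nonempty_iff] at hcon
      rw [Nat.card_of_isEmpty] at h
      omega
    obtain ⟨x, hx⟩ := hne
    exact ⟨x, hx⟩
  let π₀ : Fin b → Fin b := fun y => f (σ (Classical.choose (hsurj y)))
  have hπ₀ : ∀ x, f (σ x) = π₀ (f x) := by
    intro x
    have h := Classical.choose_spec (hsurj (f x))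
    apply Fin.ext
    exact (hg3 _ _ (congrArg Fin.val h)).symm
  have hπsurj : Function.Surjective π₀ := by
    intro y
    obtain ⟨x, hx⟩ := hsurj y
    exact ⟨f (σ.symm x), by rw [← hπ₀, σ.apply_symm_apply, hx]⟩
  have hπbij : Function.Bijective π₀ := ⟨Finite.injective_iff_surjective.2 hπsurj, hπsurj⟩
  exact ⟨f, hfib, Equiv.ofBijective π₀ hπbij, hπ₀⟩

theorem bounds_of_partition {N : ℕ} (σ : Perm (Fin N)) {r : ℕ} (hr : r.Prime)
    (hσ : orderOf σ = r) (a b : ℕ) (ha : 1 ≤ a) (f : Fin N → Fin b)
    (hf : ∀ j : Fin b, Nat.card {x : Fin N // f x = j} = a) (π : Perm (Fin b))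
    (hπ : ∀ x, f (σ x) = π (f x)) (j : ℕ) (hj : σ.support.card = r * j) :
    ∃ u, r * u ≤ b ∧ u * a ≤ j ∧ j ≤ u * a + (b - r * u) * (a / r) := by
  have hrpos := hr.pos
  have hσr : σ ^ r = 1 := pow_eq_one_of_orderOf hσ
  have hfib : ∀ y : Fin b, (Finset.univ.filter (fun x => f x = y)).card = a := by
    intro y
    rw [← hf y, Nat.card_eq_fintype_card, Fintype.card_subtype]
  have hsurj : Function.Surjective f := by
    intro y
    have h := hfib y
    have hpos : 0 < (Finset.univ.filter (fun x => f x = y)).card := by omega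
    obtain ⟨x, hx⟩ := Finset.card_pos.1 hpos
    exact ⟨x, (Finset.mem_filter.1 hx).2⟩
  have hpow : ∀ m : ℕ, ∀ x, f ((σ ^ m) x) = (π ^ m) (f x) := by
    intro m
    induction m with
    | zero => intro x; simp
    | succ m ih => intro x; rw [pow_succ', Perm.mul_apply, hπ, ih, pow_succ', Perm.mul_apply]
  have hπr : π ^ r = 1 := by
    ext y
    obtain ⟨x, rfl⟩ := hsurj y
    rw [← hpow, hσr]; simp
  obtain ⟨u, hu⟩ := dvd_card_moved hr hπr (inv_support π) (fun x hx => Perm.mem_support.1 hx)
  have hub : r * u ≤ b := by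
    rw [← hu]
    exact (Finset.card_le_univ _).trans (by simp)
  -- count the support fibrewise
  have hsum : σ.support.card = ∑ y : Fin b, (σ.support.filter (fun x => f x = y)).card :=
    Finset.card_eq_sum_card_fiberwise (fun x _ => Finset.mem_univ _)
  rw [← Finset.sum_add_sum_compl π.support] at hsum
  have hmoved : ∀ y ∈ π.support, (σ.support.filter (fun x => f x = y)).card = a := by
    intro y hy
    rw [← hfib y]
    congr 1
    ext x
    simp only [Finset.mem_filter, Finset.mem_univ, true_and, Perm.mem_support, and_iff_right_iff_imp]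
    intro hx hfix
    have h0 := hπ x
    rw [hfix, hx] at h0
    exact (Perm.mem_support.1 hy) h0.symm
  rw [Finset.sum_congr rfl hmoved, Finset.sum_const, hu, smul_eq_mul] at hsum
  have hfixed : ∀ y ∈ π.supportᶜ, r ∣ (σ.support.filter (fun x => f x = y)).card ∧
      (σ.support.filter (fun x => f x = y)).card ≤ r * (a / r) := by
    intro y hy
    rw [Finset.mem_compl, Perm.mem_support, not_not] at hy
    have hinv : Inv σ (σ.support.filter (fun x => f x = y)) := by
      intro x
      rw [Finset.mem_filter, Finset.mem_filter, inv_support σ x, hπ]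
      constructor
      · rintro ⟨hx, h⟩
        refine ⟨hx, ?_⟩
        rw [← hy] at h
        exact π.injective h
      · rintro ⟨hx, h⟩
        exact ⟨hx, by rw [h, hy]⟩
    have hdvd := dvd_card_moved hr hσr hinv (fun x hx => Perm.mem_support.1 (Finset.mem_filter.1 hx).1)
    refine ⟨hdvd, ?_⟩
    obtain ⟨q, hq⟩ := hdvd
    have hle : (σ.support.filter (fun x => f x = y)).card ≤ a := by
      rw [← hfib y]
      apply Finset.card_le_card
      intro x hx
      rw [Finset.mem_filter] at hx ⊢
      exact ⟨Finset.mem_univ _, hx.2⟩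
    rw [hq] at hle ⊢
    exact Nat.mul_le_mul_left r ((Nat.le_div_iff_mul_le hrpos).2 (by rw [mul_comm]; exact hle))
  have hdvdM : r ∣ ∑ y ∈ π.supportᶜ, (σ.support.filter (fun x => f x = y)).card :=
    Finset.dvd_sum (fun y hy => (hfixed y hy).1)
  have hleM : ∑ y ∈ π.supportᶜ, (σ.support.filter (fun x => f x = y)).card ≤
      (b - r * u) * (r * (a / r)) := by
    refine (Finset.sum_le_card_nsmul _ _ _ (fun y hy => (hfixed y hy).2)).trans ?_
    rw [Finset.card_compl, Fintype.card_fin, hu, smul_eq_mul]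
  obtain ⟨M', hM'⟩ := hdvdM
  rw [hM', hj] at hsum
  rw [hM'] at hleM
  refine ⟨u, hub, ?_, ?_⟩
  · have h0 : r * j = r * (u * a + M') := by rw [hsum]; ring
    have h1 := Nat.eq_of_mul_eq_mul_left hrpos h0
    omega
  · have h0 : r * j = r * (u * a + M') := by rw [hsum]; ring
    have h1 := Nat.eq_of_mul_eq_mul_left hrpos h0
    have h2 : r * M' ≤ r * ((b - r * u) * (a / r)) := by
      rw [← mul_assoc, mul_comm r (b - r * u), mul_assoc]; exact hleM
    have h3 := Nat.le_of_mul_le_mul_left h2 hrpos
    omega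

theorem exists_perm_support (N r j : ℕ) (hr : r.Prime) (hj : 1 ≤ j) (hjN : r * j ≤ N) :
    ∃ σ : Perm (Fin N), orderOf σ = r ∧ σ.support.card = r * j := by
  haveI : Fact r.Prime := ⟨hr⟩
  haveI : NeZero r := ⟨hr.ne_zero⟩
  have hq : 0 < j := hj
  have hcard : Fintype.card (Fin N) = Fintype.card ((Fin j × ZMod r) ⊕ Fin (N - r * j)) := by
    rw [Fintype.card_sum, Fintype.card_prod, Fintype.card_fin, Fintype.card_fin, ZMod.card,
      Fintype.card_fin]
    rw [mul_comm]; omega
  let e : Fin N ≃ (Fin j × ZMod r) ⊕ Fin (N - r * j) := Fintype.equivOfCardEq hcard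
  let σ' : Perm ((Fin j × ZMod r) ⊕ Fin (N - r * j)) :=
    Equiv.sumCongr (Equiv.prodCongr (Equiv.refl _) (Equiv.addRight (1 : ZMod r))) (Equiv.refl _)
  have hσ'l : ∀ (a : Fin j) (z : ZMod r), σ' (Sum.inl (a, z)) = Sum.inl (a, z + 1) :=
    fun a z => rfl
  have hσ'r : ∀ b : Fin (N - r * j), σ' (Sum.inr b) = Sum.inr b := fun b => rfl
  have hpowl : ∀ (m : ℕ) (a : Fin j) (z : ZMod r),
      (σ' ^ m) (Sum.inl (a, z)) = Sum.inl (a, z + m) := by
    intro m
    induction m with
    | zero => intro a z; simp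
    | succ m ih =>
      intro a z
      rw [pow_succ, Perm.mul_apply, hσ'l, ih]
      congr 2
      push_cast; ring
  have hpowr : ∀ (m : ℕ) (b : Fin (N - r * j)), (σ' ^ m) (Sum.inr b) = Sum.inr b := by
    intro m
    induction m with
    | zero => intro b; simp
    | succ m ih => intro b; rw [pow_succ, Perm.mul_apply, hσ'r, ih]
  have hσ'pow : σ' ^ r = 1 := by
    ext x
    rcases x with ⟨a, z⟩ | b
    · rw [hpowl]; simp
    · rw [hpowr]; simp
  let σ : Perm (Fin N) := e.symm.permCongrHom σ'
  have hσapply : ∀ x, σ x = e.symm (σ' (e x)) := fun x => rfl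
  have hσpow : σ ^ r = 1 := by
    change (e.symm.permCongrHom σ') ^ r = 1
    rw [← map_pow, hσ'pow, map_one]
  have hσne : σ ≠ 1 := by
    intro h
    have h1 : σ (e.symm (Sum.inl (⟨0, hq⟩, 0))) = e.symm (Sum.inl (⟨0, hq⟩, 0)) := by
      rw [h]; rfl
    rw [hσapply, Equiv.apply_symm_apply, hσ'l] at h1
    have h2 := e.symm.injective h1
    have h3 : (0 : ZMod r) + 1 = 0 := by
      have := Sum.inl_injective h2
      exact (Prod.ext_iff.1 this).2
    rw [zero_add] at h3
    exact one_ne_zero h3
  refine ⟨σ, orderOf_eq_prime hσpow hσne, ?_⟩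
  have hinj : Function.Injective (fun b : Fin (N - r * j) => e.symm (Sum.inr b)) :=
    fun b b' h => Sum.inr_injective (e.symm.injective h)
  have hsupp : σ.supportᶜ = (Finset.univ : Finset (Fin (N - r * j))).image
      (fun b : Fin (N - r * j) => e.symm (Sum.inr b)) := by
    ext x
    rw [Finset.mem_compl, Perm.mem_support, not_not, Finset.mem_image, hσapply]
    constructor
    · intro h
      have h1 : σ' (e x) = e x := by
        have := congrArg e h
        rwa [Equiv.apply_symm_apply] at this
      rcases hx : e x with ⟨a, z⟩ | b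
      · rw [hx, hσ'l] at h1
        have h2 : z + 1 = z := (Prod.ext_iff.1 (Sum.inl_injective h1)).2
        exact absurd (add_eq_left.1 h2) one_ne_zero
      · exact ⟨b, Finset.mem_univ _, by rw [← hx, Equiv.symm_apply_apply]⟩
    · rintro ⟨b, -, rfl⟩
      rw [Equiv.apply_symm_apply, hσ'r]
  have h1 : σ.supportᶜ.card = N - r * j := by
    rw [hsupp, Finset.card_image_of_injective _ hinj, Finset.card_univ, Fintype.card_fin]
  have h2 := Finset.card_add_card_compl σ.support
  rw [h1, Fintype.card_fin] at h2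
  omega

theorem factorial_pow_mul_factorial_dvd (a : ℕ) (ha : 1 ≤ a) :
    ∀ b : ℕ, a.factorial ^ b * b.factorial ∣ (a * b).factorial := by
  intro b
  induction b with
  | zero => simp
  | succ b ih =>
    obtain ⟨M, hM⟩ := ih
    have h1 : (a * b + a).choose a * (a * b).factorial * a.factorial = (a * b + a).factorial :=
      Nat.add_choose_mul_factorial_mul_factorial (a * b) a
    have h2 : (a * b + a) * (a * b + a - 1).choose (a - 1) = (a * b + a).choose a * a := by
      have h0 := Nat.add_one_mul_choose_eq (a * b + a - 1) (a - 1)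
      rwa [show a * b + a - 1 + 1 = a * b + a by omega, show a - 1 + 1 = a by omega] at h0
    have h3 : (a * b + a).choose a = (b + 1) * (a * b + a - 1).choose (a - 1) := by
      have h4 : a * ((a * b + a).choose a) = a * ((b + 1) * (a * b + a - 1).choose (a - 1)) := by
        rw [mul_comm a ((a * b + a).choose a), ← h2]; ring
      exact Nat.eq_of_mul_eq_mul_left ha h4
    refine ⟨M * (a * b + a - 1).choose (a - 1), ?_⟩
    rw [Nat.mul_succ, ← h1, h3, hM, Nat.factorial_succ, pow_succ]
    ring

theorem numeric (a b : ℕ) (ha : 2 ≤ a) (hb : 2 ≤ b) (r : ℕ) (hr : r.Prime) (hrab : r ≤ a * b) :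
    (∀ j, 1 ≤ j → r * j ≤ a * b →
      ∃ u, r * u ≤ b ∧ u * a ≤ j ∧ j ≤ u * a + (b - r * u) * (a / r)) ↔
    (r ≤ a ∧ (a % r = 0 ∨ (b % r = 0 ∧ a % r = 1) ∨
        (a % r ≠ 0 ∧ b % r ≠ 0 ∧ (b % r) * (a % r) < r ∧
          (b < r ∨ (b % r + r) * (a % r) ≤ (b % r) * a + r)))) := by
  have hrpos := hr.pos
  obtain ⟨A, ℓ, hℓ, rfl⟩ : ∃ A ℓ, ℓ < r ∧ a = r * A + ℓ :=
    ⟨a / r, a % r, Nat.mod_lt a hrpos, (Nat.div_add_mod a r).symm⟩
  obtain ⟨B, k, hk, rfl⟩ : ∃ B k, k < r ∧ b = r * B + k :=
    ⟨b / r, b % r, Nat.mod_lt b hrpos, (Nat.div_add_mod b r).symm⟩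
  have hdivA : (r * A + ℓ) / r = A := by
    rw [Nat.mul_add_div hrpos, Nat.div_eq_of_lt hℓ, add_zero]
  have hmodA : (r * A + ℓ) % r = ℓ := by rw [Nat.mul_add_mod, Nat.mod_eq_of_lt hℓ]
  have hmodB : (r * B + k) % r = k := by rw [Nat.mul_add_mod, Nat.mod_eq_of_lt hk]
  rw [hdivA, hmodA, hmodB]
  have hkey : ∀ u, r * u ≤ r * B + k → u ≤ B ∧
      u * (r * A + ℓ) + (r * B + k - r * u) * A = (r * B + k) * A + u * ℓ := by
    intro u hu
    have huB : u ≤ B := by
      by_contra hcon
      push Not at hcon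
      have h0 : r * (B + 1) ≤ r * u := Nat.mul_le_mul_left r hcon
      rw [Nat.mul_succ] at h0
      omega
    refine ⟨huB, ?_⟩
    obtain ⟨w, rfl⟩ : ∃ w, B = u + w := ⟨B - u, by omega⟩
    have h0 : r * (u + w) + k - r * u = r * w + k := by rw [Nat.mul_add]; omega
    rw [h0]; ring
  have hab : (r * A + ℓ) * (r * B + k) = r * ((r * B + k) * A + B * ℓ) + k * ℓ := by ring
  constructor
  · intro H
    have hA : 1 ≤ A := by
      by_contra hcon
      have hA0 : A = 0 := by omega
      subst hA0
      obtain ⟨u, hu1, hu2, hu3⟩ := H 1 le_rfl (by rw [mul_one]; exact hrab)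
      obtain ⟨-, hu4⟩ := hkey u hu1
      rw [hu4] at hu3
      simp only [mul_zero, zero_add] at hu2 hu3 ha
      have h0 : u * ℓ = 1 := by omega
      have h1 := Nat.eq_one_of_mul_eq_one_left h0
      omega
    refine ⟨?_, ?_⟩
    · calc r = r * 1 := (mul_one r).symm
        _ ≤ r * A := Nat.mul_le_mul_left r hA
        _ ≤ r * A + ℓ := Nat.le_add_right _ _
    by_cases hℓ0 : ℓ = 0
    · exact Or.inl hℓ0
    right
    have hkℓ : k * ℓ < r := by
      by_contra hcon
      push Not at hcon
      obtain ⟨u, hu1, hu2, hu3⟩ := H ((r * B + k) * A + B * ℓ + 1) (by omega) (by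
        rw [hab, Nat.mul_succ]; omega)
      obtain ⟨huB, hu4⟩ := hkey u hu1
      rw [hu4] at hu3
      have h0 : u * ℓ ≤ B * ℓ := Nat.mul_le_mul_right ℓ huB
      omega
    have hcond : B = 0 ∨ ℓ ≤ k * A + 1 := by
      by_contra hcon
      push Not at hcon
      obtain ⟨hB, hℓk⟩ := hcon
      obtain ⟨B', rfl⟩ : ∃ B', B = B' + 1 := ⟨B - 1, by omega⟩
      have hjlt : (r * (B' + 1) + k) * A + B' * ℓ + 1 < (B' + 1) * (r * A + ℓ) := by
        have e1 : (r * (B' + 1) + k) * A + B' * ℓ + 1 =
            (B' + 1) * (r * A) + B' * ℓ + (k * A + 1) := by ring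
        have e2 : (B' + 1) * (r * A + ℓ) = (B' + 1) * (r * A) + B' * ℓ + ℓ := by ring
        rw [e1, e2]; omega
      obtain ⟨u, hu1, hu2, hu3⟩ := H ((r * (B' + 1) + k) * A + B' * ℓ + 1) (by omega) (by
        have h1 : r * ((r * (B' + 1) + k) * A + B' * ℓ + 1) ≤ r * ((B' + 1) * (r * A + ℓ)) :=
          Nat.mul_le_mul_left r hjlt.le
        have h2 : r * ((B' + 1) * (r * A + ℓ)) ≤ (r * A + ℓ) * (r * (B' + 1) + k) := by
          have h3 : r * ((B' + 1) * (r * A + ℓ)) = (r * A + ℓ) * (r * (B' + 1)) := by ring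
          rw [h3]; exact Nat.mul_le_mul_left _ (Nat.le_add_right _ _)
        exact h1.trans h2)
      obtain ⟨huB, hu4⟩ := hkey u hu1
      rw [hu4] at hu3
      have huB' : u ≤ B' := by
        by_contra hcon2
        push Not at hcon2
        have hu5 : u = B' + 1 := by omega
        rw [hu5] at hu2
        omega
      have h0 : u * ℓ ≤ B' * ℓ := Nat.mul_le_mul_right ℓ huB'
      omega
    by_cases hk0 : k = 0
    · left
      refine ⟨hk0, ?_⟩
      subst hk0
      rcases hcond with h | h
      · subst h; simp at hb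
      · simp at h; omega
    · right
      refine ⟨hℓ0, hk0, hkℓ, ?_⟩
      rcases hcond with h | h
      · left; subst h; simpa using hk
      · right
        have h0 : r * ℓ ≤ r * (k * A + 1) := Nat.mul_le_mul_left r h
        calc (k + r) * ℓ = k * ℓ + r * ℓ := by ring
          _ ≤ k * ℓ + r * (k * A + 1) := Nat.add_le_add_left h0 _
          _ = k * (r * A + ℓ) + r := by ring
  · rintro ⟨hra, hcases⟩ j hj1 hjN
    have hA : 1 ≤ A := by
      by_contra hcon
      have hA0 : A = 0 := by omega
      subst hA0; simp at hra; omega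
    by_cases hℓ0 : ℓ = 0
    · subst hℓ0
      refine ⟨0, by simp, by simp, ?_⟩
      simp only [mul_zero, Nat.sub_zero, zero_mul, zero_add, add_zero] at hjN ⊢
      have h0 : r * j ≤ r * ((r * B + k) * A) := by
        rw [show r * ((r * B + k) * A) = r * A * (r * B + k) by ring]; exact hjN
      exact Nat.le_of_mul_le_mul_left h0 hrpos
    have hkℓ : k * ℓ < r := by
      rcases hcases with h | ⟨h1, h2⟩ | ⟨-, -, h, -⟩
      · exact absurd h hℓ0
      · rw [h1, h2]; simpa using hrpos
      · exact h
    have hcond : B = 0 ∨ ℓ ≤ k * A + 1 := by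
      rcases hcases with h | ⟨h1, h2⟩ | ⟨-, -, -, h | h⟩
      · exact absurd h hℓ0
      · right; omega
      · left
        by_contra hB
        have h0 : r * 1 ≤ r * B := Nat.mul_le_mul_left r (Nat.one_le_iff_ne_zero.2 hB)
        omega
      · right
        have h1 : (k + r) * ℓ = k * ℓ + r * ℓ := by ring
        have h2 : k * (r * A + ℓ) + r = k * ℓ + r * (k * A + 1) := by ring
        rw [h1, h2] at h
        exact Nat.le_of_mul_le_mul_left (Nat.le_of_add_le_add_left h) hrpos
    have hjmax : j ≤ (r * B + k) * A + B * ℓ := by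
      rw [hab] at hjN
      by_contra hcon
      push Not at hcon
      have h0 : r * ((r * B + k) * A + B * ℓ + 1) ≤ r * j := Nat.mul_le_mul_left r hcon
      rw [Nat.mul_succ] at h0
      omega
    by_cases hjB : B * (r * A + ℓ) ≤ j
    · refine ⟨B, Nat.le_add_right _ _, hjB, ?_⟩
      rw [(hkey B (Nat.le_add_right _ _)).2]; exact hjmax
    · push Not at hjB
      have hapos : 0 < r * A + ℓ := by omega
      have hu_lt : j / (r * A + ℓ) < B := by
        rw [Nat.div_lt_iff_lt_mul hapos]; exact hjB
      have huB : r * (j / (r * A + ℓ)) ≤ r * B + k :=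
        (Nat.mul_le_mul_left r hu_lt.le).trans (Nat.le_add_right _ _)
      refine ⟨j / (r * A + ℓ), huB, Nat.div_mul_le_self j _, ?_⟩
      rw [(hkey _ huB).2]
      have hB1 : B ≠ 0 := Nat.pos_iff_ne_zero.1 (Nat.zero_lt_of_lt hu_lt)
      have hℓle : ℓ ≤ k * A + 1 := hcond.resolve_left hB1
      have hjlt : j < (j / (r * A + ℓ) + 1) * (r * A + ℓ) := by
        have h0 := Nat.lt_succ_self (j / (r * A + ℓ))
        rw [Nat.div_lt_iff_lt_mul hapos] at h0
        exact h0
      generalize j / (r * A + ℓ) = u at hu_lt huB hjlt ⊢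
      obtain ⟨w, rfl⟩ : ∃ w, B = u + 1 + w := ⟨B - (u + 1), by omega⟩
      have e1 : (u + 1) * (r * A + ℓ) = u * (r * A) + u * ℓ + r * A + ℓ := by ring
      have e2 : (r * (u + 1 + w) + k) * A + u * ℓ =
          u * (r * A) + u * ℓ + r * A + (r * w * A + k * A) := by ring
      rw [e1] at hjlt
      rw [e2]
      omega


/-- Let a, b ≥ 2 and consider the symmetric group of degree a·b acting on the partitions of an (a·b)-set into b parts of size a (encoded as maps onto a b-element set all of whose fibres have a elements; a permutation fixes such a partition when it permutes the fibres). Let r be a prime dividing the number (ab)!/((a!)^b·b!) of such partitions, and let ℓ and k be the remainders of a and b modulo r. Then every permutation of order r fixes some such partition if and only if r ≤ a and one of the following holds: ℓ = 0; or k = 0 and ℓ = 1; or ℓ and k are non-zero, k·ℓ < r, and either b < r or (k + r)·ℓ ≤ k·a + r. -/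
theorem result (a b : ℕ) (ha : 2 ≤ a) (hb : 2 ≤ b) (r : ℕ) (hr : r.Prime)
    (hrd : r ∣ (a * b).factorial / (a.factorial ^ b * b.factorial)) :
    (∀ σ : Equiv.Perm (Fin (a * b)), orderOf σ = r →
        ∃ f : Fin (a * b) → Fin b, (∀ j : Fin b, Nat.card {x : Fin (a * b) // f x = j} = a) ∧
          ∃ π : Equiv.Perm (Fin b), ∀ x : Fin (a * b), f (σ x) = π (f x)) ↔
      (r ≤ a ∧ (a % r = 0 ∨ (b % r = 0 ∧ a % r = 1) ∨
        (a % r ≠ 0 ∧ b % r ≠ 0 ∧ (b % r) * (a % r) < r ∧ (b < r ∨ (b % r + r) * (a % r) ≤ (b % r) * a + r)))) := by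
  have hrab : r ≤ a * b := by
    have hdvd := factorial_pow_mul_factorial_dvd a (by omega) b
    have h1 : (a * b).factorial / (a.factorial ^ b * b.factorial) ∣ (a * b).factorial :=
      Nat.div_dvd_of_dvd hdvd
    exact (Nat.Prime.dvd_factorial hr).1 (hrd.trans h1)
  rw [← numeric a b ha hb r hr hrab]
  constructor
  · intro h j hj1 hjN
    obtain ⟨σ, hσ, hsupp⟩ := exists_perm_support (a * b) r j hr hj1 hjN
    obtain ⟨f, hf, π, hπ⟩ := h σ hσ
    exact bounds_of_partition σ hr hσ a b (by omega) f hf π hπ j hsupp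
  · intro h σ hσ
    obtain ⟨j, hj⟩ := dvd_card_moved hr (pow_eq_one_of_orderOf hσ) (inv_support σ)
      (fun x hx => Perm.mem_support.1 hx)
    have hσ1 : σ ≠ 1 := by
      intro h1; rw [h1, orderOf_one] at hσ; exact hr.one_lt.ne hσ
    have hj1 : 1 ≤ j := by
      rcases Nat.eq_zero_or_pos j with h0 | h0
      · exfalso
        rw [h0, mul_zero, Finset.card_eq_zero, Perm.support_eq_empty_iff] at hj
        exact hσ1 hj
      · exact h0
    have hjN : r * j ≤ a * b := by
      rw [← hj]; exact (Finset.card_le_univ _).trans (by simp)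
    obtain ⟨u, hu1, hu2, hu3⟩ := h j hj1 hjN
    obtain ⟨g, hg1, hg2, hg3⟩ := exists_labeling hr hσ a b (by simp) j u hj hu1 hu2 hu3
    exact exists_perm_of_labeling σ a (by omega) g hg1 hg2 hg3

end Cfsg.Agent.S3575
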