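import Cfsg.Statements.S3590
import Cfsg.Agent.Lib.helper64.EvAff

set_option autoImplicit false
open Cfsg

namespace Cfsg.Agent.S3590

/-- Let F be a finite field of characteristic 2. Then PSp(8,F) is not determined by its set of element orders, not even up to finitely many groups: for every bound there is a finite group of larger order with exactly the same set of element orders as PSp(8,F). -/
theorem result {F : Type*} [Field F] [Fintype F]
    [CharP F 2] (M : ℕ) :
    ∃ (H : Type) (_ : Group H) (_ : Fintype H), M < Fintype.card H ∧ Set.range (orderOf : H → ℕ) = Set.range (orderOf : Cfsg.PSp 4 F → ℕ) := by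
  classical
  have hp2 : Fact (Nat.Prime 2) := ⟨Nat.prime_two⟩
  obtain ⟨n, -, hn⟩ := FiniteField.card F 2
  let instF : Fintype (GaloisField 2 n) := Fintype.ofFinite (GaloisField 2 n)
  have hcard₀ : Fintype.card (GaloisField 2 n) = Fintype.card F := by
    rw [hn, ← Nat.card_eq_fintype_card]
    exact GaloisField.card 2 n n.ne_zero
  obtain ⟨a, b, han⟩ := Cfsg.Agent.Lib.helper45.exists_aniso (GaloisField 2 n)
  let instH : Fintype (Cfsg.Agent.Lib.helper64.EvAff.Aff
      (Cfsg.Agent.Lib.helper64.EvAff.rho a b) (M + 1)) := Fintype.ofFinite _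
  refine ⟨Cfsg.Agent.Lib.helper64.EvAff.Aff (Cfsg.Agent.Lib.helper64.EvAff.rho a b) (M + 1),
    inferInstance, instH, ?_, ?_⟩
  · exact lt_trans (Nat.lt_succ_self M) Cfsg.Agent.Lib.helper64.EvAff.Aff.lt_card
  · rw [Cfsg.Agent.Lib.helper64.EvAff.psp_spectrum,
      Cfsg.Agent.Lib.helper64.EvAff.aff_spectrum a b han (M + 1) (Nat.succ_pos M), hcard₀]

end Cfsg.Agent.S3590
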