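import Cfsg.Statements.S3599
import Mathlib

set_option autoImplicit false
open Cfsg

namespace Cfsg.Agent.S3599

open Finset

/-! ### The Frobenius group `K ⋊ ⟨u⟩` for a unit `u` of a field `K` -/

section Frob

/-- Multiplication by units, as automorphisms of the multiplicative copy of `(K, +)`. -/
def act (K : Type*) [Field K] : Kˣ →* MulAut (Multiplicative K) where
  toFun c := AddEquiv.toMultiplicative
    { toFun := fun x => (c : K) * x
      invFun := fun x => ((c⁻¹ : Kˣ) : K) * x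
      left_inv := fun x => by simp
      right_inv := fun x => by simp
      map_add' := fun x y => mul_add _ _ _ }
  map_one' := by
    ext x
    simp
  map_mul' := fun c d => by
    ext x
    simp [mul_assoc]

variable {K : Type*} [Field K] (u : Kˣ)

/-- The group `K ⋊ ⟨u⟩`. -/
abbrev Frob : Type _ :=
  Multiplicative K ⋊[(act K).comp (Subgroup.zpowers u).subtype] ↥(Subgroup.zpowers u)

/-- The coefficient in `K` of the complement part. -/
def cf (z : Frob u) : K := ((z.right : Kˣ) : K)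

/-- The translation part. -/
def tr (z : Frob u) : K := Multiplicative.toAdd z.left

theorem cf_mul (z w : Frob u) : cf u (z * w) = cf u z * cf u w := rfl

theorem tr_mul (z w : Frob u) : tr u (z * w) = tr u z + cf u z * tr u w := rfl

theorem cf_one : cf u (1 : Frob u) = 1 := rfl

theorem tr_one : tr u (1 : Frob u) = 0 := rfl

theorem cf_ne_zero (z : Frob u) : cf u z ≠ 0 := Units.ne_zero _

theorem frob_ext {z w : Frob u} (h1 : tr u z = tr u w) (h2 : z.right = w.right) : z = w :=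
  SemidirectProduct.ext h1 h2

theorem right_eq_one_iff (z : Frob u) : z.right = 1 ↔ cf u z = 1 := by
  constructor
  · intro h
    unfold cf
    rw [h]
    rfl
  · intro h
    apply Subtype.ext
    apply Units.ext
    exact h

theorem cf_pow (z : Frob u) (n : ℕ) : cf u (z ^ n) = cf u z ^ n := by
  induction n with
  | zero => rw [pow_zero, pow_zero, cf_one]
  | succ n ih => rw [pow_succ, pow_succ, cf_mul, ih]

theorem tr_pow (z : Frob u) (n : ℕ) :
    tr u (z ^ n) = (∑ i ∈ range n, cf u z ^ i) * tr u z := by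
  induction n with
  | zero => rw [pow_zero, tr_one, Finset.range_zero, Finset.sum_empty, zero_mul]
  | succ n ih =>
    rw [pow_succ, tr_mul, ih, cf_pow, Finset.sum_range_succ, add_mul]

theorem right_pow (z : Frob u) (n : ℕ) : (z ^ n).right = z.right ^ n := by
  induction n with
  | zero => rw [pow_zero, pow_zero]; rfl
  | succ n ih => rw [pow_succ, pow_succ, SemidirectProduct.mul_right, ih]

/-- The element `(w, 1)`. -/
def tv (w : K) : Frob u := ⟨Multiplicative.ofAdd w, 1⟩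

theorem tr_tv (w : K) : tr u (tv u w) = w := rfl

theorem cf_tv (w : K) : cf u (tv u w) = 1 := rfl

theorem right_tv (w : K) : (tv u w).right = 1 := rfl

theorem tv_add (v w : K) : tv u (v + w) = tv u v * tv u w := by
  apply frob_ext
  · rw [tr_mul, tr_tv, tr_tv, tr_tv, cf_tv, one_mul]
  · rw [SemidirectProduct.mul_right, right_tv, right_tv, right_tv, one_mul]

theorem tv_zero : tv u (0 : K) = 1 := rfl

theorem tv_neg (w : K) : tv u (-w) = (tv u w)⁻¹ := by
  rw [eq_inv_iff_mul_eq_one, ← tv_add, neg_add_cancel, tv_zero]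

theorem eq_tv_of_right (z : Frob u) (h : z.right = 1) : z = tv u (tr u z) :=
  frob_ext u rfl h

/-- Conjugation of `(w, 1)` by `z` is `(c w, 1)`. -/
theorem conj_tv (z : Frob u) (w : K) : z * tv u w * z⁻¹ = tv u (cf u z * w) := by
  rw [mul_inv_eq_iff_eq_mul]
  apply frob_ext
  · rw [tr_mul, tr_mul, tr_tv, tr_tv, cf_tv, one_mul, add_comm]
  · rw [SemidirectProduct.mul_right, SemidirectProduct.mul_right, right_tv, right_tv, mul_one,
      one_mul]

end Frob

section FrobFacts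

variable {K : Type*} [Field K] (u : Kˣ)

/-- The element `(0, u)`. -/
def cz : Frob u := ⟨1, ⟨u, Subgroup.mem_zpowers u⟩⟩

theorem cf_cz : cf u (cz u) = (u : K) := rfl

theorem tr_cz : tr u (cz u) = 0 := rfl

theorem right_pow_Q {Q : ℕ} (hQ : Q ≠ 0) (hu : orderOf u = Q) (z : Frob u) :
    z.right ^ Q = 1 := by
  have h1 : Nat.card ↥(Subgroup.zpowers u) = Q := by rw [Nat.card_zpowers, hu]
  have h2 : Finite ↥(Subgroup.zpowers u) :=
    Nat.finite_of_card_ne_zero (by rw [h1]; exact hQ)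
  rw [← h1]
  exact pow_card_eq_one'

theorem cf_pow_Q {Q : ℕ} (hQ : Q ≠ 0) (hu : orderOf u = Q) (z : Frob u) :
    cf u z ^ Q = 1 := by
  rw [← cf_pow, ← right_eq_one_iff, right_pow, right_pow_Q u hQ hu]

theorem pow_P_eq_one {P : ℕ} [CharP K P] (z : Frob u) (h : z.right = 1) : z ^ P = 1 := by
  apply frob_ext
  · rw [tr_pow, (right_eq_one_iff u z).1 h, tr_one]
    simp
  · rw [right_pow, h, one_pow]
    rfl

theorem pow_Q_eq_one {Q : ℕ} (hQ : Q ≠ 0) (hu : orderOf u = Q) (z : Frob u)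
    (h : z.right ≠ 1) : z ^ Q = 1 := by
  have h1 : cf u z ≠ 1 := fun h' => h ((right_eq_one_iff u z).2 h')
  have h2 : (∑ i ∈ range Q, cf u z ^ i) = 0 := by
    have h3 := geom_sum_mul (cf u z) Q
    rw [cf_pow_Q u hQ hu, sub_self] at h3
    rcases mul_eq_zero.1 h3 with h4 | h4
    · exact h4
    · exact absurd (sub_eq_zero.1 h4) h1
  apply frob_ext
  · rw [tr_pow, h2, zero_mul, tr_one]
  · rw [right_pow, right_pow_Q u hQ hu]
    rfl

end FrobFacts

/-! ### Existence of the factors -/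

theorem exists_field (P Q : ℕ) (hP : P.Prime) (hQ : Q.Prime) (hPQ : P ≠ Q) :
    ∃ (K : Type) (_ : Field K) (_ : Finite K) (_ : CharP K P) (u : Kˣ), orderOf u = Q := by
  have : Fact P.Prime := ⟨hP⟩
  have : Fact Q.Prime := ⟨hQ⟩
  refine ⟨GaloisField P (Q - 1), inferInstance, inferInstance, inferInstance, ?_⟩
  have hcard : Nat.card (GaloisField P (Q - 1)) = P ^ (Q - 1) :=
    GaloisField.card P (Q - 1) (by have := hQ.two_le; omega)
  have hunits : Nat.card (GaloisField P (Q - 1))ˣ = P ^ (Q - 1) - 1 := by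
    rw [Nat.card_units, hcard]
  have hdvd : Q ∣ P ^ (Q - 1) - 1 := by
    have h1 : P ^ Nat.totient Q ≡ 1 [MOD Q] :=
      Nat.ModEq.pow_totient ((Nat.coprime_primes hP hQ).2 hPQ)
    rw [Nat.totient_prime hQ] at h1
    exact (Nat.modEq_iff_dvd' (Nat.one_le_pow _ _ hP.pos)).1 h1.symm
  rw [← hunits] at hdvd
  exact exists_prime_orderOf_dvd_card' Q hdvd

theorem exists_factor (P Q : ℕ) (hP : P.Prime) (hQ : Q.Prime) (hPQ : P ≠ Q) :
    ∃ (F : Type) (_ : Group F) (_ : Finite F),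
      (∀ z : F, z ^ P = 1 ∨ z ^ Q = 1) ∧ (∃ z : F, orderOf z = P) ∧
      (∃ z : F, orderOf z = Q) ∧
      ∃ M0 : Subgroup F, M0.Normal ∧ (∀ z ∈ M0, z ^ P = 1) ∧ ∀ z : F, z ^ Q ∈ M0 := by
  obtain ⟨K, hK, hKfin, hKchar, u, hu⟩ := exists_field P Q hP hQ hPQ
  have : Fact P.Prime := ⟨hP⟩
  have : Fact Q.Prime := ⟨hQ⟩
  have hfin : Finite (Frob u) := Finite.of_equiv _ (SemidirectProduct.equivProd).symm
  have hu1 : u ≠ 1 := by
    intro h
    rw [h, orderOf_one] at hu
    exact hQ.ne_one hu.symm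
  refine ⟨Frob u, inferInstance, hfin, ?_, ⟨tv u 1, ?_⟩, ⟨cz u, ?_⟩,
    (SemidirectProduct.rightHom : Frob u →* _).ker, inferInstance, ?_, ?_⟩
  · intro z
    by_cases h : z.right = 1
    · exact Or.inl (pow_P_eq_one u z h)
    · exact Or.inr (pow_Q_eq_one u hQ.ne_zero hu z h)
  · apply orderOf_eq_prime (pow_P_eq_one u _ (right_tv u 1))
    intro h
    have h2 := congrArg (tr u) h
    rw [tr_tv, tr_one] at h2
    exact one_ne_zero h2
  · have h3 : (cz u).right ≠ 1 := by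
      intro h
      have h2 := (right_eq_one_iff u _).1 h
      rw [cf_cz] at h2
      exact hu1 (Units.ext h2)
    apply orderOf_eq_prime (pow_Q_eq_one u hQ.ne_zero hu _ h3)
    intro h
    apply h3
    rw [h]
    rfl
  · intro z hz
    exact pow_P_eq_one u z hz
  · intro z
    rw [MonoidHom.mem_ker]
    exact right_pow_Q u hQ.ne_zero hu z |>.symm ▸ (right_pow u z Q)

/-! ### The section-closed property and minimal sections -/

/-- For each `j`, a normal `R j`-subgroup whose quotient has exponent prime to `R j`. -/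
def PA {s : ℕ} (R : Fin s → ℕ) (D : Type*) [Group D] : Prop :=
  ∀ j, ∃ M : Subgroup D, M.Normal ∧ IsPGroup (R j) ↥M ∧
    ∃ E : ℕ, ¬ R j ∣ E ∧ ∀ x : D, x ^ E ∈ M

theorem PA_map {s : ℕ} {R : Fin s → ℕ} {D D' : Type*} [Group D] [Group D'] (f : D →* D')
    (hf : Function.Surjective f) (h : PA R D) : PA R D' := by
  intro j
  obtain ⟨M, hM, hMp, E, hE, hx⟩ := h j
  refine ⟨M.map f, hM.map f hf, hMp.map f, E, hE, ?_⟩
  intro y
  obtain ⟨x, rfl⟩ := hf y
  rw [← map_pow]
  exact Subgroup.mem_map_of_mem f (hx x)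

theorem PA_sub {s : ℕ} {R : Fin s → ℕ} {D : Type*} [Group D] (H : Subgroup D)
    (h : PA R D) : PA R ↥H := by
  intro j
  obtain ⟨M, hM, hMp, E, hE, hx⟩ := h j
  have := hM
  refine ⟨M.subgroupOf H, inferInstance, hMp.comap_subtype, E, hE, ?_⟩
  intro x
  rw [Subgroup.mem_subgroupOf, SubmonoidClass.coe_pow]
  exact hx x

/-- Criticality with respect to a set of numbers. -/
def Crit (Ω : Set ℕ) (D : Type) [Group D] : Prop :=
  ∀ (H : Subgroup D) (N : Subgroup ↥H) [N.Normal], (H ≠ ⊤ ∨ N ≠ ⊥) →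
    Set.range (orderOf : (↥H ⧸ N) → ℕ) ≠ Ω

theorem exists_crit {s : ℕ} (R : Fin s → ℕ) (Ω : Set ℕ) :
    ∀ (n : ℕ) (D : Type) [Group D] [Finite D], Nat.card D = n →
      Set.range (orderOf : D → ℕ) = Ω → PA R D →
      ∃ (D' : Type) (_ : Group D') (_ : Finite D'),
        Set.range (orderOf : D' → ℕ) = Ω ∧ PA R D' ∧ Crit Ω D' := by
  intro n
  induction n using Nat.strong_induction_on with
  | _ n ih =>
    intro D _ _ hn hΩ hPA
    by_cases hc : Crit Ω D
    · exact ⟨D, inferInstance, inferInstance, hΩ, hPA, hc⟩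
    · unfold Crit at hc
      push Not at hc
      obtain ⟨H, N, hN, hHN, hspec⟩ := hc
      have hlt : Nat.card (↥H ⧸ N) < n := by
        have h1 : Nat.card ↥H = Nat.card (↥H ⧸ N) * Nat.card ↥N :=
          Subgroup.card_eq_card_quotient_mul_card_subgroup N
        have h2 : Nat.card ↥H ≤ Nat.card D := Subgroup.card_le_card_group H
        have h3 : 0 < Nat.card ↥N := Nat.card_pos
        have h4 : 0 < Nat.card (↥H ⧸ N) := Nat.card_pos
        rw [← hn]
        rcases hHN with hH | hN'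
        · have h5 : Nat.card ↥H < Nat.card D :=
            lt_of_le_of_ne h2 (fun h => hH ((Subgroup.card_eq_iff_eq_top H).1 h))
          nlinarith
        · have h5 : Nat.card ↥N ≠ 1 := fun h => hN' ((Subgroup.eq_bot_iff_card N).2 h)
          have h6 : 2 ≤ Nat.card ↥N := by omega
          nlinarith
      exact ih _ hlt (↥H ⧸ N) rfl hspec
        (PA_map (QuotientGroup.mk' N) (QuotientGroup.mk'_surjective N) (PA_sub H hPA))

/-! ### The set `Ω` -/

/-- The set of products. -/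
def Om {s : ℕ} (p : Fin s → Fin 2 → ℕ) : Set ℕ :=
  {m : ℕ | ∃ c : Fin s → ℕ, (∀ j, c j = 1 ∨ c j = p j 0 ∨ c j = p j 1) ∧ m = ∏ j, c j}

theorem prime_mem_Om {s : ℕ} (p : Fin s → Fin 2 → ℕ) (j : Fin s) (i : Fin 2) :
    p j i ∈ Om p := by
  refine ⟨fun j' => if j' = j then p j i else 1, ?_, ?_⟩
  · intro j'
    by_cases h : j' = j
    · subst h
      dsimp only
      rw [if_pos rfl]
      have h2 : i = 0 ∨ i = 1 := by
        revert i
        decide
      rcases h2 with rfl | rfl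
      · exact Or.inr (Or.inl rfl)
      · exact Or.inr (Or.inr rfl)
    · dsimp only
      rw [if_neg h]
      exact Or.inl rfl
  · rw [Finset.prod_ite_eq' Finset.univ j (fun _ => p j i), if_pos (Finset.mem_univ j)]

theorem dvd_Om {s : ℕ} (p : Fin s → Fin 2 → ℕ) (hp : ∀ j i, (p j i).Prime) {q : ℕ}
    (hq : q.Prime) {c : Fin s → ℕ} (hc : ∀ j, c j = 1 ∨ c j = p j 0 ∨ c j = p j 1)
    (h : q ∣ ∏ j, c j) : ∃ j i, q = p j i ∧ c j = p j i := by
  obtain ⟨j, -, hj⟩ := (Prime.dvd_finsetProd_iff hq.prime _).1 h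
  rcases hc j with h1 | h1 | h1
  · rw [h1] at hj
    exact absurd (Nat.dvd_one.1 hj) hq.ne_one
  · rw [h1] at hj
    exact ⟨j, 0, (Nat.prime_dvd_prime_iff_eq hq (hp j 0)).1 hj, h1⟩
  · rw [h1] at hj
    exact ⟨j, 1, (Nat.prime_dvd_prime_iff_eq hq (hp j 1)).1 hj, h1⟩

theorem mul_not_mem_Om {s : ℕ} (p : Fin s → Fin 2 → ℕ) (hp : ∀ j i, (p j i).Prime)
    (hinj : ∀ j i j' i', p j i = p j' i' → j = j' ∧ i = i') (j : Fin s) {i i' : Fin 2}
    (hii' : i ≠ i') : p j i * p j i' ∉ Om p := by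
  rintro ⟨c, hc, h⟩
  obtain ⟨j1, i1, h1, h1'⟩ := dvd_Om p hp (hp j i) hc (h ▸ Dvd.intro _ rfl)
  obtain ⟨j2, i2, h2, h2'⟩ := dvd_Om p hp (hp j i') hc (h ▸ Dvd.intro_left _ rfl)
  obtain ⟨e1, e1'⟩ := hinj _ _ _ _ h1
  obtain ⟨e2, e2'⟩ := hinj _ _ _ _ h2
  subst e1 e1' e2'
  rw [← e2] at h2'
  exact hii' (hinj _ _ _ _ (h1'.symm.trans h2')).2

theorem not_iso {s : ℕ} (p : Fin s → Fin 2 → ℕ) (hp : ∀ j i, (p j i).Prime)
    (hinj : ∀ j i j' i', p j i = p j' i' → j = j' ∧ i = i') (a b : Fin s → Fin 2)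
    (hab : a ≠ b) {D D' : Type} [Group D] [Group D']
    (hD : Set.range (orderOf : D → ℕ) = Om p) (hPA : PA (fun j => p j (a j)) D)
    (hPA' : PA (fun j => p j (b j)) D') : ¬ Nonempty (D ≃* D') := by
  rintro ⟨e⟩
  have hPA2 : PA (fun j => p j (b j)) D := PA_map e.symm.toMonoidHom e.symm.surjective hPA'
  obtain ⟨j, hj⟩ : ∃ j, a j ≠ b j := Function.ne_iff.1 hab
  obtain ⟨M, hM, hMp, E, hE, hx⟩ := hPA j
  obtain ⟨M', hM', hMp', E', hE', hx'⟩ := hPA2 j
  have key : ∀ (i : Fin 2) (M : Subgroup D) (E : ℕ), ¬ p j i ∣ E → (∀ x : D, x ^ E ∈ M) →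
      ∃ x ∈ M, orderOf x = p j i := by
    intro i M E hE hx
    have h1 : p j i ∈ Set.range (orderOf : D → ℕ) := hD ▸ prime_mem_Om p j i
    obtain ⟨x, hxo⟩ := h1
    refine ⟨x, ?_, hxo⟩
    have hco : E.Coprime (orderOf x) := by
      rw [hxo]
      exact ((Nat.Prime.coprime_iff_not_dvd (hp j i)).2 hE).symm
    obtain ⟨m, hm⟩ := exists_pow_eq_self_of_coprime hco
    rw [← hm]
    exact M.pow_mem (hx x) m
  obtain ⟨x, hxM, hxo⟩ := key (a j) M E hE hx
  obtain ⟨y, hyM, hyo⟩ := key (b j) M' E' hE' hx'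
  have : Fact (p j (a j)).Prime := ⟨hp _ _⟩
  have : Fact (p j (b j)).Prime := ⟨hp _ _⟩
  have hne : p j (a j) ≠ p j (b j) := fun h => hj (hinj _ _ _ _ h).2
  have hdis : Disjoint M M' := IsPGroup.disjoint_of_ne _ _ hne M M' hMp hMp'
  have hcomm : Commute x y :=
    Subgroup.commute_of_normal_of_disjoint M M' hM hM' hdis x y hxM hyM
  have hcop : (orderOf x).Coprime (orderOf y) := by
    rw [hxo, hyo]
    exact (Nat.coprime_primes (hp _ _) (hp _ _)).2 hne
  have ho : orderOf (x * y) = p j (a j) * p j (b j) := by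
    rw [hcomm.orderOf_mul_eq_mul_orderOf_of_coprime hcop, hxo, hyo]
  have hmem : p j (a j) * p j (b j) ∈ Om p := by
    rw [← hD, ← ho]
    exact Set.mem_range_self _
  exact mul_not_mem_Om p hp hinj j hj hmem

/-! ### Products -/

theorem orderOf_pi {ι : Type*} [Fintype ι] {F : ι → Type*} [∀ j, Monoid (F j)]
    (x : ∀ j, F j)
    (hco : ∀ j j', j ≠ j' → Nat.Coprime (orderOf (x j)) (orderOf (x j'))) :
    orderOf x = ∏ j, orderOf (x j) := by
  apply Nat.dvd_antisymm
  · apply orderOf_dvd_of_pow_eq_one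
    funext j
    rw [Pi.pow_apply, Pi.one_apply]
    exact orderOf_dvd_iff_pow_eq_one.1 (Finset.dvd_prod_of_mem _ (Finset.mem_univ j))
  · apply Fintype.prod_dvd_of_isRelPrime
    · intro j j' hjj'
      exact Nat.coprime_iff_isRelPrime.1 (hco j j' hjj')
    · intro j
      apply orderOf_dvd_of_pow_eq_one
      rw [← Pi.pow_apply, pow_orderOf_eq_one]
      rfl

theorem pi_spec {s : ℕ} (p : Fin s → Fin 2 → ℕ) (hp : ∀ j i, (p j i).Prime)
    (hinj : ∀ j i j' i', p j i = p j' i' → j = j' ∧ i = i')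
    (F : Fin s → Type) [∀ j, Group (F j)]
    (h1 : ∀ j (z : F j), orderOf z = 1 ∨ orderOf z = p j 0 ∨ orderOf z = p j 1)
    (h2 : ∀ j i, ∃ z : F j, orderOf z = p j i) :
    Set.range (orderOf : (∀ j, F j) → ℕ) = Om p := by
  have hco : ∀ (x : ∀ j, F j) j j', j ≠ j' →
      Nat.Coprime (orderOf (x j)) (orderOf (x j')) := by
    intro x j j' hjj'
    rcases h1 j (x j) with h | h | h <;> rcases h1 j' (x j') with h' | h' | h' <;>
      rw [h, h'] <;>
      first
        | exact Nat.coprime_one_left _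
        | exact Nat.coprime_one_right _
        | exact (Nat.coprime_primes (hp _ _) (hp _ _)).2 (fun e => hjj' (hinj _ _ _ _ e).1)
  ext m
  constructor
  · rintro ⟨x, rfl⟩
    exact ⟨fun j => orderOf (x j), fun j => h1 j (x j), orderOf_pi x (hco x)⟩
  · rintro ⟨c, hc, rfl⟩
    have hex : ∀ j, ∃ z : F j, orderOf z = c j := by
      intro j
      rcases hc j with h | h | h
      · exact ⟨1, by rw [orderOf_one, h]⟩
      · rw [h]
        exact h2 j 0
      · rw [h]
        exact h2 j 1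
    choose x hx using hex
    refine ⟨x, ?_⟩
    rw [orderOf_pi x (hco x)]
    exact Finset.prod_congr rfl (fun j _ => hx j)

theorem pi_PA {s : ℕ} (p : Fin s → Fin 2 → ℕ) (hp : ∀ j i, (p j i).Prime)
    (hinj : ∀ j i j' i', p j i = p j' i' → j = j' ∧ i = i') (a : Fin s → Fin 2)
    (F : Fin s → Type) [∀ j, Group (F j)]
    (h1 : ∀ j (z : F j), orderOf z = 1 ∨ orderOf z = p j 0 ∨ orderOf z = p j 1)
    (h3 : ∀ j, ∃ M0 : Subgroup (F j), M0.Normal ∧ (∀ z ∈ M0, z ^ p j (a j) = 1) ∧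
      ∃ E0 : ℕ, ¬ p j (a j) ∣ E0 ∧ ∀ z : F j, z ^ E0 ∈ M0) :
    PA (fun j => p j (a j)) (∀ j, F j) := by
  intro j
  obtain ⟨M0, hM0, hM0p, E0, hE0, hz⟩ := h3 j
  let M : Subgroup (∀ j, F j) :=
    { carrier := {x | (∀ i, i ≠ j → x i = 1) ∧ x j ∈ M0}
      mul_mem' := by
        rintro x y ⟨hx1, hx2⟩ ⟨hy1, hy2⟩
        refine ⟨fun i hi => ?_, ?_⟩
        · rw [Pi.mul_apply, hx1 i hi, hy1 i hi, mul_one]
        · rw [Pi.mul_apply]
          exact M0.mul_mem hx2 hy2
      one_mem' := ⟨fun i _ => rfl, M0.one_mem⟩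
      inv_mem' := by
        rintro x ⟨hx1, hx2⟩
        refine ⟨fun i hi => ?_, ?_⟩
        · rw [Pi.inv_apply, hx1 i hi, inv_one]
        · rw [Pi.inv_apply]
          exact M0.inv_mem hx2 }
  have hmem : ∀ x, x ∈ M ↔ (∀ i, i ≠ j → x i = 1) ∧ x j ∈ M0 := fun x => Iff.rfl
  refine ⟨M, ⟨?_⟩, ?_, ∏ i, (if i = j then E0 else p i 0 * p i 1), ?_, ?_⟩
  · intro x hx g
    rw [hmem] at hx ⊢
    refine ⟨fun i hi => ?_, ?_⟩
    · rw [Pi.mul_apply, Pi.mul_apply, Pi.inv_apply, hx.1 i hi, mul_one, mul_inv_cancel]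
    · rw [Pi.mul_apply, Pi.mul_apply, Pi.inv_apply]
      exact hM0.conj_mem _ hx.2 _
  · intro x
    refine ⟨1, ?_⟩
    rw [pow_one]
    apply Subtype.ext
    funext i
    have hx := (hmem _).1 x.2
    rw [SubmonoidClass.coe_pow, Pi.pow_apply]
    by_cases hi : i = j
    · subst hi
      exact hM0p _ hx.2
    · rw [hx.1 i hi, one_pow]
      rfl
  · intro hdvd
    obtain ⟨i, -, hi⟩ := (Prime.dvd_finsetProd_iff (hp j (a j)).prime _).1 hdvd
    by_cases hij : i = j
    · rw [if_pos hij] at hi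
      exact hE0 hi
    · rw [if_neg hij] at hi
      rcases (hp j (a j)).dvd_mul.1 hi with h | h
      · exact hij ((hinj _ _ _ _ ((Nat.prime_dvd_prime_iff_eq (hp _ _) (hp _ _)).1 h)).1.symm)
      · exact hij ((hinj _ _ _ _ ((Nat.prime_dvd_prime_iff_eq (hp _ _) (hp _ _)).1 h)).1.symm)
  · intro x
    rw [hmem]
    refine ⟨fun i hi => ?_, ?_⟩
    · rw [Pi.pow_apply]
      apply orderOf_dvd_iff_pow_eq_one.1
      have h4 : orderOf (x i) ∣ p i 0 * p i 1 := by
        rcases h1 i (x i) with h | h | h <;> rw [h]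
        · exact one_dvd _
        · exact Dvd.intro _ rfl
        · exact Dvd.intro_left _ rfl
      have h5 : (if i = j then E0 else p i 0 * p i 1) ∣
          ∏ i, (if i = j then E0 else p i 0 * p i 1) :=
        Finset.dvd_prod_of_mem (fun i => if i = j then E0 else p i 0 * p i 1)
          (Finset.mem_univ i)
      rw [if_neg hi] at h5
      exact h4.trans h5
    · rw [Pi.pow_apply]
      have h5 : (if j = j then E0 else p j 0 * p j 1) ∣
          ∏ i, (if i = j then E0 else p i 0 * p i 1) :=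
        Finset.dvd_prod_of_mem (fun i => if i = j then E0 else p i 0 * p i 1)
          (Finset.mem_univ j)
      rw [if_pos rfl] at h5
      obtain ⟨k, hk⟩ := h5
      rw [hk, pow_mul]
      exact M0.pow_mem (hz _) k

theorem exists_group {s : ℕ} (p : Fin s → Fin 2 → ℕ) (hp : ∀ j i, (p j i).Prime)
    (hinj : ∀ j i j' i', p j i = p j' i' → j = j' ∧ i = i') (a : Fin s → Fin 2) :
    ∃ (D : Type) (_ : Group D) (_ : Finite D),
      Set.range (orderOf : D → ℕ) = Om p ∧ PA (fun j => p j (a j)) D ∧ Crit (Om p) D := by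
  have hrev : ∀ i : Fin 2, (i = 0 ∧ Fin.rev i = 1) ∨ (i = 1 ∧ Fin.rev i = 0) := by decide
  have hrev' : ∀ i : Fin 2, i ≠ Fin.rev i := by decide
  have hf : ∀ j : Fin s, ∃ (F : Type) (_ : Group F) (_ : Finite F),
      (∀ z : F, z ^ p j (a j) = 1 ∨ z ^ p j (Fin.rev (a j)) = 1) ∧
      (∃ z : F, orderOf z = p j (a j)) ∧ (∃ z : F, orderOf z = p j (Fin.rev (a j))) ∧
      ∃ M0 : Subgroup F, M0.Normal ∧ (∀ z ∈ M0, z ^ p j (a j) = 1) ∧
        ∀ z : F, z ^ p j (Fin.rev (a j)) ∈ M0 := fun j =>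
    exists_factor (p j (a j)) (p j (Fin.rev (a j))) (hp _ _) (hp _ _)
      (fun h => hrev' (a j) (hinj _ _ _ _ h).2)
  choose F hG hFin hf1 hf2 hf3 hf4 using hf
  have h1 : ∀ j (z : F j), orderOf z = 1 ∨ orderOf z = p j 0 ∨ orderOf z = p j 1 := by
    intro j z
    have h5 : orderOf z = 1 ∨ orderOf z = p j (a j) ∨ orderOf z = p j (Fin.rev (a j)) := by
      rcases hf1 j z with h | h
      · rcases (Nat.dvd_prime (hp _ _)).1 (orderOf_dvd_of_pow_eq_one h) with h' | h'
        · exact Or.inl h'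
        · exact Or.inr (Or.inl h')
      · rcases (Nat.dvd_prime (hp _ _)).1 (orderOf_dvd_of_pow_eq_one h) with h' | h'
        · exact Or.inl h'
        · exact Or.inr (Or.inr h')
    rcases hrev (a j) with ⟨e1, e2⟩ | ⟨e1, e2⟩
    · rw [e2, e1] at h5
      exact h5
    · rw [e2, e1] at h5
      rcases h5 with h | h | h
      · exact Or.inl h
      · exact Or.inr (Or.inr h)
      · exact Or.inr (Or.inl h)
  have h2 : ∀ j i, ∃ z : F j, orderOf z = p j i := by
    intro j i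
    have h5 := hf2 j
    have h6 := hf3 j
    rcases hrev (a j) with ⟨e1, e2⟩ | ⟨e1, e2⟩
    · rw [e2] at h6
      rw [e1] at h5
      have h7 : i = 0 ∨ i = 1 := by
        revert i
        decide
      rcases h7 with rfl | rfl
      · exact h5
      · exact h6
    · rw [e2] at h6
      rw [e1] at h5
      have h7 : i = 0 ∨ i = 1 := by
        revert i
        decide
      rcases h7 with rfl | rfl
      · exact h6
      · exact h5
  have h3 : ∀ j, ∃ M0 : Subgroup (F j), M0.Normal ∧ (∀ z ∈ M0, z ^ p j (a j) = 1) ∧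
      ∃ E0 : ℕ, ¬ p j (a j) ∣ E0 ∧ ∀ z : F j, z ^ E0 ∈ M0 := by
    intro j
    obtain ⟨M0, hM0, hM0p, hM0q⟩ := hf4 j
    refine ⟨M0, hM0, hM0p, p j (Fin.rev (a j)), ?_, hM0q⟩
    intro hdvd
    exact hrev' (a j) (hinj _ _ _ _ ((Nat.prime_dvd_prime_iff_eq (hp _ _) (hp _ _)).1 hdvd)).2
  exact exists_crit (fun j => p j (a j)) (Om p) _ (∀ j, F j) rfl (pi_spec p hp hinj F h1 h2)
    (pi_PA p hp hinj a F h1 h3)

/-- A finite group is critical with respect to a set Ω of natural numbers when its set of element orders is Ω while no proper section H/N (H a subgroup, N normal in H, (H, N) ≠ (whole group, 1)) has Ω as its set of element orders. Let s ≥ 1 and let p(j,0), p(j,1) (j < s) be 2s pairwise distinct primes, and let Ω be the set of all products c(0)·…·c(s−1) with each c(j) ∈ {1, p(j,0), p(j,1)}. Then there are 2^s pairwise non-isomorphic finite groups critical with respect to Ω. -/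
theorem result (s : ℕ) (hs : 1 ≤ s) (p : Fin s → Fin 2 → ℕ)
    (hp : ∀ j i, (p j i).Prime) (hinj : ∀ j i j' i', p j i = p j' i' → j = j' ∧ i = i') :
    ∃ (G : Fin (2 ^ s) → Type) (_ : ∀ a, Group (G a)) (_ : ∀ a, Fintype (G a)),
      (∀ a b, a ≠ b → ¬ Nonempty (G a ≃* G b)) ∧
      ∀ a, Set.range (orderOf : (G a) → ℕ) = {m : ℕ | ∃ c : Fin s → ℕ, (∀ j, c j = 1 ∨ c j = p j 0 ∨ c j = p j 1) ∧ m = ∏ j, c j} ∧
      ∀ (H : Subgroup (G a)) (N : Subgroup ↥H) [N.Normal], (H ≠ ⊤ ∨ N ≠ ⊥) → Set.range (orderOf : (↥H ⧸ N) → ℕ) ≠ {m : ℕ | ∃ c : Fin s → ℕ, (∀ j, c j = 1 ∨ c j = p j 0 ∨ c j = p j 1) ∧ m = ∏ j, c j} := by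
  have key := fun a : Fin s → Fin 2 => exists_group p hp hinj a
  choose D hG hFin hspec hPA hcrit using key
  let e : Fin (2 ^ s) ≃ (Fin s → Fin 2) := finFunctionFinEquiv.symm
  refine ⟨fun k => D (e k), fun k => hG (e k), fun k => @Fintype.ofFinite _ (hFin (e k)),
    ?_, ?_⟩
  · intro k k' hkk'
    exact @not_iso s p hp hinj (e k) (e k') (fun h => hkk' (e.injective h)) (D (e k))
      (D (e k')) (hG _) (hG _) (hspec _) (hPA _) (hPA _)
  · intro k
    exact ⟨hspec (e k), fun H N _ h => hcrit (e k) H N h⟩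

end Cfsg.Agent.S3599
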