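import Cfsg.Statements.S3619
import Mathlib

set_option autoImplicit false
open Cfsg

namespace Cfsg.Agent.S3619

open MulAction
open scoped Pointwise

/-- Let G act faithfully on a finite set in such a way that every non-trivial normal subgroup of G is transitive (G is quasiprimitive). Let Γ be a subset with more than one point and not the whole set, such that the pointwise stabilizer of the complement of Γ acts transitively on Γ (a Jordan set). If that pointwise stabilizer acts primitively on Γ, then G is k-fold transitive where k is one more than the number of points outside Γ (the Jordan set is a trivial one). -/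
theorem result {G Ω : Type*} [Group G] [Finite G] [MulAction G Ω] [FaithfulSMul G Ω] [Finite Ω]
    (hqp : ∀ N : Subgroup G, N.Normal → N ≠ ⊥ → MulAction.IsPretransitive ↥N Ω)
    (Γ : Set Ω) (hΓ1 : 1 < Γ.ncard) (hΓ2 : Γ.ncard < Nat.card Ω)
    (hJ : MulAction.IsPretransitive ↥(fixingSubgroup G Γᶜ) ↥(SubMulAction.ofFixingSubgroup G Γᶜ))
    (hJp : MulAction.IsPreprimitive ↥(fixingSubgroup G Γᶜ) ↥(SubMulAction.ofFixingSubgroup G Γᶜ)) :
    MulAction.IsMultiplyPretransitive G Ω (Nat.card Ω - Γ.ncard + 1) := by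
  classical
  obtain ⟨γ₁, hγ₁, γ₂, hγ₂, hne⟩ := (Set.one_lt_ncard (Set.toFinite Γ)).mp hΓ1
  -- basic facts on H
  have hfix : ∀ h ∈ fixingSubgroup G Γᶜ, ∀ x, x ∉ Γ → h • x = x := fun h hh x hx =>
    (mem_fixingSubgroup_iff G).mp hh x hx
  have hpres : ∀ h ∈ fixingSubgroup G Γᶜ, ∀ x, x ∈ Γ → h • x ∈ Γ := by
    intro h hh x hx
    by_contra hcon
    have h1 : h⁻¹ • (h • x) = h • x := hfix h⁻¹ (inv_mem hh) _ hcon
    rw [inv_smul_smul] at h1
    exact hcon (h1 ▸ hx)
  have hmemΓ : ∀ x, x ∈ Γ → x ∈ SubMulAction.ofFixingSubgroup G Γᶜ := by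
    intro x hx
    rw [SubMulAction.mem_ofFixingSubgroup_iff]
    simpa using hx
  have htr : ∀ x ∈ Γ, ∀ y ∈ Γ, ∃ h ∈ fixingSubgroup G Γᶜ, h • x = y := by
    intro x hx y hy
    obtain ⟨h, hh⟩ := hJ.exists_smul_eq
      (⟨x, hmemΓ x hx⟩ : SubMulAction.ofFixingSubgroup G Γᶜ) ⟨y, hmemΓ y hy⟩
    exact ⟨h.1, h.2, congrArg Subtype.val hh⟩
  obtain ⟨h₀, hh₀, hh₀γ⟩ := htr γ₁ hγ₁ γ₂ hγ₂
  have hh₀1 : h₀ ≠ 1 := by
    rintro rfl
    exact hne (by simpa using hh₀γ)
  -- G transitive
  have htop : (⊤ : Subgroup G) ≠ ⊥ := by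
    intro h
    have : h₀ ∈ (⊥ : Subgroup G) := h ▸ Subgroup.mem_top h₀
    exact hh₀1 (Subgroup.mem_bot.mp this)
  have hGt : IsPretransitive G Ω := by
    have := hqp ⊤ inferInstance htop
    refine ⟨fun x y => ?_⟩
    obtain ⟨g, hg⟩ := this.exists_smul_eq x y
    exact ⟨g.1, hg⟩
  -- G primitive
  have hprim : IsPreprimitive G Ω := by
    refine IsPreprimitive.mk (fun {B} hB => ?_)
    by_contra htriv
    have hBns : ¬ B.Subsingleton := fun h => htriv (Or.inl h)
    have hBne : B ≠ Set.univ := fun h => htriv (Or.inr h)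
    obtain ⟨b, hb⟩ : B.Nonempty := by
      by_contra hemp
      exact hBns (by rw [Set.not_nonempty_iff_eq_empty.mp hemp]; exact Set.subsingleton_empty)
    -- kernel on translates
    have hN : (stabilizer G B).normalCore = ⊥ := by
      by_contra hNne
      have hNt := hqp _ (Subgroup.normalCore_normal _) hNne
      obtain ⟨c, hc⟩ : ∃ c, c ∉ B := by
        by_contra hall
        push Not at hall
        exact hBne (Set.eq_univ_of_forall hall)
      obtain ⟨n, hn⟩ := hNt.exists_smul_eq b c
      have hnB : (n : G) ∈ stabilizer G B := Subgroup.normalCore_le _ n.2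
      have h1 : (n : G) • b ∈ (n : G) • B := Set.smul_mem_smul_set hb
      rw [mem_stabilizer_iff.mp hnB] at h1
      exact hc (hn ▸ h1)
    -- all translates are blocks
    have hBg : ∀ g : G, IsBlock G (g • B) := fun g => hB.translate g
    -- restricted blocks
    have hres : ∀ g : G, (∀ x ∈ Γ, ∀ y ∈ Γ, x ∈ g • B → y ∈ g • B → x = y) ∨ Γ ⊆ g • B := by
      intro g
      have hblk : IsBlock (fixingSubgroup G Γᶜ)
          ((SubMulAction.ofFixingSubgroup_equivariantMap G Γᶜ) ⁻¹' (g • B)) :=
        IsBlock.preimage _ (hBg g)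
      rcases hJp.isTrivialBlock_of_isBlock hblk with h | h
      · left
        intro x hx y hy hxB hyB
        have := @h ⟨x, hmemΓ x hx⟩ hxB ⟨y, hmemΓ y hy⟩ hyB
        exact congrArg Subtype.val this
      · right
        intro x hx
        have : (⟨x, hmemΓ x hx⟩ : SubMulAction.ofFixingSubgroup G Γᶜ) ∈
            (SubMulAction.ofFixingSubgroup_equivariantMap G Γᶜ) ⁻¹' (g • B) := by
          rw [h]; trivial
        exact this
    by_cases hcase : ∃ g : G, Γ ⊆ g • B
    · -- some translate contains Γ: then H lies in the kernel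
      obtain ⟨g, hg⟩ := hcase
      have hstab : ∀ k : G, h₀ • (k • B) = k • B := by
        intro k
        have hkb : k • b ∈ k • B := Set.smul_mem_smul_set hb
        by_cases hk : ∃ x ∈ k • B, x ∉ Γ
        · obtain ⟨x, hx, hxΓ⟩ := hk
          apply (hBg k).smul_eq_of_mem hx
          rw [hfix h₀ hh₀ x hxΓ]
          exact hx
        · push Not at hk
          have hkg : k • B = g • B := by
            by_contra hne'
            have := hB hne'
            exact Set.disjoint_left.mp this hkb (hg (hk _ hkb))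
          apply (hBg k).smul_eq_of_mem hkb
          rw [hkg]
          exact hg (hpres h₀ hh₀ _ (hk _ hkb))
      have hmem : h₀ ∈ (stabilizer G B).normalCore := by
        intro k
        rw [mem_stabilizer_iff, mul_smul, mul_smul, hstab k⁻¹, smul_inv_smul]
      rw [hN] at hmem
      exact hh₀1 (Subgroup.mem_bot.mp hmem)
    · -- every translate meets Γ in at most one point
      push Not at hcase
      have hres' : ∀ g : G, ∀ x ∈ Γ, ∀ y ∈ Γ, x ∈ g • B → y ∈ g • B → x = y := fun g =>
        (hres g).resolve_right (hcase g)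
      obtain ⟨g, hg⟩ := hGt.exists_smul_eq b γ₁
      have hγB : γ₁ ∈ g • B := hg ▸ Set.smul_mem_smul_set hb
      obtain ⟨δ, hδB, hδne⟩ : ∃ δ ∈ g • B, δ ≠ γ₁ := by
        by_contra hall
        push Not at hall
        apply hBns
        intro b₁ hb₁ b₂ hb₂
        have e1 := hall _ (Set.smul_mem_smul_set (a := g) hb₁)
        have e2 := hall _ (Set.smul_mem_smul_set (a := g) hb₂)
        exact MulAction.injective g (e1.trans e2.symm)
      have hδΓ : δ ∉ Γ := fun hδ => hδne (hres' g δ hδ γ₁ hγ₁ hδB hγB)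
      have hfixB : h₀ • (g • B) = g • B := by
        apply (hBg g).smul_eq_of_mem hδB
        rw [hfix h₀ hh₀ δ hδΓ]
        exact hδB
      have hγ₂B : γ₂ ∈ g • B := by
        rw [← hfixB, ← hh₀γ]
        exact Set.smul_mem_smul_set hγB
      exact hne (hres' g γ₁ hγ₁ γ₂ hγ₂ hγB hγ₂B)
  -- apply Jordan's theorem
  have hcompl : (Γᶜ).ncard = Nat.card Ω - Γ.ncard := Set.ncard_compl Γ
  obtain ⟨n, hn⟩ : ∃ n, Nat.card Ω - Γ.ncard = n + 1 := ⟨Nat.card Ω - Γ.ncard - 1, by omega⟩
  have key := hprim.isMultiplyPreprimitive (s := Γᶜ) (n := n) (by rw [hcompl, hn]) (by omega) hJp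
  have h2 : Nat.card Ω - Γ.ncard + 1 = n + 2 := by omega
  rw [h2]
  exact key.isMultiplyPretransitive

end Cfsg.Agent.S3619
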