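import Cfsg.Statements.S3626
import Cfsg.Agent.Lib.helper44.CubeSpec
import Cfsg.Agent.Lib.helper44.CubeOrd
import Cfsg.Agent.Lib.helper44.ReeSolvB
import Cfsg.Agent.Lib.helper72.S3626C6
import Cfsg.Agent.Lib.helper57.S3626C7
import Cfsg.Agent.Lib.helper49.S3626C8
import Cfsg.Agent.Lib.helper72.S3626C9
import Cfsg.Agent.Lib.helper72.S3626C10

set_option autoImplicit false
open Cfsg

namespace Cfsg.Agent.S3626

/-- Let R be the small Ree group over the field with q = 3^(2m+1) ≥ 27 elements. Then there are finite groups of arbitrarily large order with exactly the same set of element orders as R × R × R. -/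
theorem result {K : Type*} [Field K] [Fintype K] {m : ℕ} (hm : 1 ≤ m) (hK : Fintype.card K = 3 ^ (2 * m + 1)) (N : ℕ) :
    ∃ (H : Type) (_ : Group H) (_ : Fintype H), N < Fintype.card H ∧
      Set.range (orderOf : H → ℕ) = Set.range (orderOf : ↥(Cfsg.Lie.twistedG2 K (3 ^ m)) × ↥(Cfsg.Lie.twistedG2 K (3 ^ m)) × ↥(Cfsg.Lie.twistedG2 K (3 ^ m)) → ℕ) := by
  obtain ⟨R⟩ := Cfsg.Agent.Lib.helper23.exists_reeData hK
  obtain ⟨t, ht⟩ := Cfsg.Agent.Lib.helper44.ree_q_form m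
  obtain ⟨hfin, hG⟩ := Cfsg.Agent.Lib.helper44.ree_finite hK R t ht
  have hF3 : Fact (Nat.Prime 3) := ⟨Nat.prime_three⟩
  have hchar : CharP K 3 := charP_of_card_eq_prime_pow hK
  have hexp : ExpChar K 3 := ExpChar.prime Nat.prime_three
  have h3 : (3 : K) = 0 := by
    have h := CharP.cast_eq_zero K 3
    exact_mod_cast h
  have hsq : ∀ y : K, y * y ≠ -1 := Cfsg.Agent.Lib.helper44.ree_sq_ne_neg_one R
  have h2K : (2 : K) ≠ 0 := by
    intro h
    have h1 : (1 : K) = 0 := by linear_combination h3 - h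
    exact one_ne_zero h1
  have hKt : Fintype.card K = 8 * t + 3 := hK.trans ht
  have hcyc : IsCyclic ↥(Cfsg.Agent.Lib.helper44.circleSL K) := Cfsg.Agent.Lib.helper44.circleSL_isCyclic hsq
  have hcard : Nat.card ↥(Cfsg.Agent.Lib.helper44.circleSL K) = 8 * t + 4 := by
    rw [Cfsg.Agent.Lib.helper44.card_circleSL hsq h2K, hKt]
  obtain ⟨g₁, -, hg₁⟩ := Cfsg.Agent.Lib.helper44.exists_orderOf_eq_of_cyclic
    (Cfsg.Agent.Lib.helper44.circleSL K) hcyc (8 * t + 4) (by rw [hcard])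
  have hk : 0 < N + 1 := Nat.succ_pos N
  obtain ⟨f9, hf9m, hf9⟩ := Cfsg.Agent.Lib.helper72.Cube.exists_order_nine (K := K) h3 (N + 1) hk
  obtain ⟨f6, hf6m, hf6⟩ := Cfsg.Agent.Lib.helper72.Cube.exists_order_six (K := K) h3 (N + 1) hk
  obtain ⟨fa, hfam, hfa⟩ := Cfsg.Agent.Lib.helper57.Cube.exists_order_sub_one (K := K) h3 t hKt (N + 1) hk
  obtain ⟨fb, hfbm, hfb⟩ := Cfsg.Agent.Lib.helper49.Cube.exists_order_half (K := K) h3 t g₁ hg₁ (N + 1) hk
  have e1 : 3 ^ (2 * m + 1) - 1 = 8 * t + 2 := by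
    rw [ht]
    omega
  have e2 : (3 ^ (2 * m + 1) + 1) / 2 = 4 * t + 2 := by
    rw [ht]
    omega
  have hY1 : ∀ y : ↥(Cfsg.Agent.Lib.helper44.Cube.affGrp K (N + 1)), orderOf y ∣ 6 ∨ orderOf y ∣ 9 ∨
      orderOf y ∣ 3 ^ (2 * m + 1) - 1 ∨ orderOf y ∣ (3 ^ (2 * m + 1) + 1) / 2 := by
    intro y
    obtain ⟨ε, hε, g, B, hy⟩ := y.2
    have e : orderOf y = orderOf (Cfsg.Agent.Lib.helper44.Cube.affPerm ε hε g B) := by
      rw [← Subgroup.orderOf_coe, hy]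
    rw [e, e1, e2]
    rcases Cfsg.Agent.Lib.helper44.Cube.affPerm_order h3 hsq hK ht ε hε g B with h | h | h | h
    · exact Or.inr (Or.inl h)
    · exact Or.inl h
    · exact Or.inr (Or.inr (Or.inl h))
    · exact Or.inr (Or.inr (Or.inr h))
  have hY2 : ∀ d : ℕ, (d ∣ 6 ∨ d ∣ 9 ∨ d ∣ 3 ^ (2 * m + 1) - 1 ∨ d ∣ (3 ^ (2 * m + 1) + 1) / 2) →
      ∃ y : ↥(Cfsg.Agent.Lib.helper44.Cube.affGrp K (N + 1)), orderOf y = d := by
    intro d hd
    have key : ∀ (f : Equiv.Perm (Fin (N + 1) → Matrix (Fin 2) (Fin 2) K))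
        (hf : f ∈ Cfsg.Agent.Lib.helper44.Cube.affGrp K (N + 1)) (n : ℕ), orderOf f = n → 0 < n → d ∣ n →
        ∃ y : ↥(Cfsg.Agent.Lib.helper44.Cube.affGrp K (N + 1)), orderOf y = d := by
      intro f hf n hn hn0 hdn
      have e : orderOf (⟨f, hf⟩ : ↥(Cfsg.Agent.Lib.helper44.Cube.affGrp K (N + 1))) = n := by
        rw [← Subgroup.orderOf_coe]
        exact hn
      exact Cfsg.Agent.Lib.helper44.Cube.exists_orderOf_of_dvd
        (⟨f, hf⟩ : ↥(Cfsg.Agent.Lib.helper44.Cube.affGrp K (N + 1)))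
        (by rw [e]; exact hn0) d (by rw [e]; exact hdn)
    rcases hd with h | h | h | h
    · exact key f6 hf6m 6 hf6 (by norm_num) h
    · exact key f9 hf9m 9 hf9 (by norm_num) h
    · exact key fa hfam (8 * t + 2) hfa (by omega) (by rw [← e1]; exact h)
    · exact key fb hfbm (4 * t + 2) hfb (by omega) (by rw [← e2]; exact h)
  have hspec := Cfsg.Agent.Lib.helper44.Cube.ree_cube_spectrum hm hK
    ↥(Cfsg.Agent.Lib.helper44.Cube.affGrp K (N + 1)) hY1 hY2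
  have hfinY : Finite ↥(Cfsg.Agent.Lib.helper44.Cube.affGrp K (N + 1)) :=
    Cfsg.Agent.Lib.helper72.Cube.finite_affGrp (N + 1)
  obtain ⟨H, hHg, hHf, hHcard, hHrange⟩ := Cfsg.Agent.Lib.helper72.Cube.exists_type_zero_model
    (G := ↥(Cfsg.Lie.twistedG2 K (3 ^ m)) × ↥(Cfsg.Lie.twistedG2 K (3 ^ m)) ×
      ↥(Cfsg.Agent.Lib.helper44.Cube.affGrp K (N + 1)))
  refine ⟨H, hHg, hHf, ?_, hHrange.trans hspec⟩
  rw [hHcard, Nat.card_prod, Nat.card_prod]
  have h1 : 0 < Nat.card ↥(Cfsg.Lie.twistedG2 K (3 ^ m)) := Nat.card_pos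
  have h2 := Cfsg.Agent.Lib.helper72.Cube.card_affGrp_gt (K := K) (N + 1)
  calc N < N + 1 := Nat.lt_succ_self N
    _ < Nat.card ↥(Cfsg.Agent.Lib.helper44.Cube.affGrp K (N + 1)) := h2
    _ ≤ Nat.card ↥(Cfsg.Lie.twistedG2 K (3 ^ m)) * (Nat.card ↥(Cfsg.Lie.twistedG2 K (3 ^ m)) *
          Nat.card ↥(Cfsg.Agent.Lib.helper44.Cube.affGrp K (N + 1))) := by
      have h3' : Nat.card ↥(Cfsg.Agent.Lib.helper44.Cube.affGrp K (N + 1)) ≤
          Nat.card ↥(Cfsg.Lie.twistedG2 K (3 ^ m)) *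
            Nat.card ↥(Cfsg.Agent.Lib.helper44.Cube.affGrp K (N + 1)) :=
        Nat.le_mul_of_pos_left _ h1
      exact h3'.trans (Nat.le_mul_of_pos_left _ h1)

end Cfsg.Agent.S3626
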