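import Cfsg.Statements.S3627
import Cfsg.Agent.Lib.helper61.J1Main

set_option autoImplicit false
open Cfsg

namespace Cfsg.Agent.S3627

open Cfsg.Agent.Lib.helper61.J1

/-- The element orders of `J₁ × J₁ × J₁ × J₁`. -/
def L63 : List ℕ := [1, 2, 3, 5, 6, 7, 10, 11, 14, 15, 19, 21, 22, 30, 33, 35, 38, 42, 55, 57, 66, 70, 77, 95, 105, 110, 114, 133, 154, 165, 190, 209, 210, 231, 266, 285, 330, 385, 399, 418, 462, 570, 627, 665, 770, 798, 1045, 1155, 1254, 1330, 1463, 1995, 2090, 2310, 2926, 3135, 3990, 4389, 6270, 7315, 8778, 14630, 21945]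

/-- Witnesses: four orders of `J₁` with the given least common multiple. -/
def T4 : List (ℕ × ℕ × ℕ × ℕ) := [(1, 1, 1, 1), (1, 1, 1, 2), (1, 1, 1, 3), (1, 1, 1, 5), (1, 1, 1, 6), (1, 1, 1, 7), (1, 1, 1, 10), (1, 1, 1, 11), (1, 1, 2, 7), (1, 1, 1, 15), (1, 1, 1, 19), (1, 1, 3, 7), (1, 1, 2, 11), (1, 1, 2, 15), (1, 1, 3, 11), (1, 1, 5, 7), (1, 1, 2, 19), (1, 1, 6, 7), (1, 1, 5, 11), (1, 1, 3, 19), (1, 1, 6, 11), (1, 1, 7, 10), (1, 1, 7, 11), (1, 1, 5, 19), (1, 1, 7, 15), (1, 1, 10, 11), (1, 1, 6, 19), (1, 1, 7, 19), (1, 2, 7, 11), (1, 1, 11, 15), (1, 1, 10, 19), (1, 1, 11, 19), (1, 2, 7, 15), (1, 3, 7, 11), (1, 2, 7, 19), (1, 1, 15, 19), (1, 2, 11, 15), (1, 5, 7, 11), (1, 3, 7, 19), (1, 2, 11, 19), (1, 6, 7, 11), (1, 2, 15, 19), (1, 3, 11, 19), (1, 5, 7, 19), (1, 7, 10, 11), (1, 6, 7, 19), (1, 5, 11, 19), (1, 7, 11, 15), (1, 6, 11, 19), (1, 7, 10, 19), (1, 7, 11, 19), (1,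 7, 15, 19), (1, 10, 11, 19), (2, 7, 11, 15), (2, 7, 11, 19), (1, 11, 15, 19), (2, 7, 15, 19), (3, 7, 11, 19), (2, 11, 15, 19), (5, 7, 11, 19), (6, 7, 11, 19), (7, 10, 11, 19), (7, 11, 15, 19)]

/-- Witnesses: three orders of `J₁`, an order in `{1,2,3}` and an order in `{1,2,5}`. -/
def T5 : List (ℕ × ℕ × ℕ × ℕ × ℕ) := [(1, 1, 1, 1, 1), (1, 1, 1, 1, 2), (1, 1, 1, 3, 1), (1, 1, 1, 1, 5), (1, 1, 1, 3, 2), (1, 1, 7, 1, 1), (1, 1, 1, 2, 5), (1, 1, 11, 1, 1), (1, 1, 7, 1, 2), (1, 1, 1, 3, 5), (1, 1, 19, 1, 1), (1, 1, 7, 3, 1), (1, 1, 11, 1, 2), (1, 1, 2, 3, 5), (1, 1, 11, 3, 1), (1, 1, 7, 1, 5), (1, 1, 19, 1, 2), (1, 1, 7, 3, 2), (1, 1, 11, 1, 5), (1, 1, 19, 3, 1), (1, 1, 11, 3, 2), (1, 1, 7, 2, 5), (1, 7, 11, 1, 1), (1, 1, 19, 1, 5), (1, 1, 7, 3, 5), (1, 1, 11, 2, 5), (1, 1, 19, 3, 2), (1, 7, 19, 1, 1), (1, 7, 11, 1, 2), (1, 1, 11, 3, 5), (1, 1, 19, 2, 5), (1, 11, 19, 1, 1),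 (1, 2, 7, 3, 5), (1, 7, 11, 3, 1), (1, 7, 19, 1, 2), (1, 1, 19, 3, 5), (1, 2, 11, 3, 5), (1, 7, 11, 1, 5), (1, 7, 19, 3, 1), (1, 11, 19, 1, 2), (1, 7, 11, 3, 2), (1, 2, 19, 3, 5), (1, 11, 19, 3, 1), (1, 7, 19, 1, 5), (1, 7, 11, 2, 5), (1, 7, 19, 3, 2), (1, 11, 19, 1, 5), (1, 7, 11, 3, 5), (1, 11, 19, 3, 2), (1, 7, 19, 2, 5), (7, 11, 19, 1, 1), (1, 7, 19, 3, 5), (1, 11, 19, 2, 5), (2, 7, 11, 3, 5), (7, 11, 19, 1, 2), (1, 11, 19, 3, 5), (2, 7, 19, 3, 5), (7, 11, 19, 3, 1), (2, 11, 19, 3, 5), (7, 11, 19, 1, 5), (7, 11, 19, 3, 2), (7, 11, 19, 2, 5), (7, 11, 19, 3, 5)]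

theorem A4_1 : ∀ b ∈ ordList, ∀ c ∈ ordList, ∀ d ∈ ordList,
    Nat.lcm 1 (Nat.lcm b (Nat.lcm c d)) ∈ L63 := by decide +kernel

theorem A4_2 : ∀ b ∈ ordList, ∀ c ∈ ordList, ∀ d ∈ ordList,
    Nat.lcm 2 (Nat.lcm b (Nat.lcm c d)) ∈ L63 := by decide +kernel

theorem A4_3 : ∀ b ∈ ordList, ∀ c ∈ ordList, ∀ d ∈ ordList,
    Nat.lcm 3 (Nat.lcm b (Nat.lcm c d)) ∈ L63 := by decide +kernel

theorem A4_5 : ∀ b ∈ ordList, ∀ c ∈ ordList, ∀ d ∈ ordList,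
    Nat.lcm 5 (Nat.lcm b (Nat.lcm c d)) ∈ L63 := by decide +kernel

theorem A4_6 : ∀ b ∈ ordList, ∀ c ∈ ordList, ∀ d ∈ ordList,
    Nat.lcm 6 (Nat.lcm b (Nat.lcm c d)) ∈ L63 := by decide +kernel

theorem A4_7 : ∀ b ∈ ordList, ∀ c ∈ ordList, ∀ d ∈ ordList,
    Nat.lcm 7 (Nat.lcm b (Nat.lcm c d)) ∈ L63 := by decide +kernel

theorem A4_10 : ∀ b ∈ ordList, ∀ c ∈ ordList, ∀ d ∈ ordList,
    Nat.lcm 10 (Nat.lcm b (Nat.lcm c d)) ∈ L63 := by decide +kernel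

theorem A4_11 : ∀ b ∈ ordList, ∀ c ∈ ordList, ∀ d ∈ ordList,
    Nat.lcm 11 (Nat.lcm b (Nat.lcm c d)) ∈ L63 := by decide +kernel

theorem A4_15 : ∀ b ∈ ordList, ∀ c ∈ ordList, ∀ d ∈ ordList,
    Nat.lcm 15 (Nat.lcm b (Nat.lcm c d)) ∈ L63 := by decide +kernel

theorem A4_19 : ∀ b ∈ ordList, ∀ c ∈ ordList, ∀ d ∈ ordList,
    Nat.lcm 19 (Nat.lcm b (Nat.lcm c d)) ∈ L63 := by decide +kernel

theorem A4 : ∀ a ∈ ordList, ∀ b ∈ ordList, ∀ c ∈ ordList, ∀ d ∈ ordList,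
    Nat.lcm a (Nat.lcm b (Nat.lcm c d)) ∈ L63 := by
  intro a ha
  simp only [ordList, List.mem_cons, List.not_mem_nil, or_false] at ha
  rcases ha with rfl | rfl | rfl | rfl | rfl | rfl | rfl | rfl | rfl | rfl
  · exact A4_1
  · exact A4_2
  · exact A4_3
  · exact A4_5
  · exact A4_6
  · exact A4_7
  · exact A4_10
  · exact A4_11
  · exact A4_15
  · exact A4_19

theorem B4 : T4.map (fun t => Nat.lcm t.1 (Nat.lcm t.2.1 (Nat.lcm t.2.2.1 t.2.2.2))) = L63 ∧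
    ∀ t ∈ T4, t.1 ∈ ordList ∧ t.2.1 ∈ ordList ∧ t.2.2.1 ∈ ordList ∧ t.2.2.2 ∈ ordList := by
  decide +kernel

theorem B5 : T5.map (fun t => Nat.lcm t.1 (Nat.lcm t.2.1 (Nat.lcm t.2.2.1
      (Nat.lcm t.2.2.2.1 t.2.2.2.2)))) = L63 ∧
    ∀ t ∈ T5, t.1 ∈ ordList ∧ t.2.1 ∈ ordList ∧ t.2.2.1 ∈ ordList ∧ t.2.2.2.1 ∈ [1, 2, 3] ∧
      t.2.2.2.2 ∈ [1, 2, 5] := by
  decide +kernel

theorem C5 : ∀ e ∈ [1, 2, 3], ∀ f ∈ [1, 2, 5], Nat.lcm e f ∈ ordList := by decide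

/-- Tuples of permutations of three points all of the same sign: a generalised dihedral group
`3^k : 2`. -/
def Dk (k : ℕ) : Subgroup (Fin k → Equiv.Perm (Fin 3)) where
  carrier := {f | ∀ i j, Equiv.Perm.sign (f i) = Equiv.Perm.sign (f j)}
  mul_mem' := by
    intro f g hf hg i j
    simp only [Pi.mul_apply, map_mul, hf i j, hg i j]
  one_mem' := by
    intro i j
    simp
  inv_mem' := by
    intro f hf i j
    simp only [Pi.inv_apply, map_inv, hf i j]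

theorem perm3 : ∀ σ : Equiv.Perm (Fin 3), (Equiv.Perm.sign σ = 1 → σ ^ 3 = 1) ∧
    (Equiv.Perm.sign σ = -1 → σ ^ 2 = 1) := by decide

theorem Dk_order (k : ℕ) (f : Dk k) : orderOf f ∈ [1, 2, 3] := by
  by_cases h : ∃ i, Equiv.Perm.sign (f.1 i) = -1
  · obtain ⟨i, hi⟩ := h
    have h2 : f ^ 2 = 1 := by
      apply Subtype.ext
      funext j
      simp only [Subgroup.coe_pow, Pi.pow_apply, Subgroup.coe_one, Pi.one_apply]
      exact (perm3 _).2 ((f.2 j i).trans hi)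
    have hd : orderOf f ∣ 2 := orderOf_dvd_of_pow_eq_one h2
    rcases (Nat.dvd_prime Nat.prime_two).mp hd with h | h <;> simp [h]
  · push Not at h
    have h3 : f ^ 3 = 1 := by
      apply Subtype.ext
      funext j
      simp only [Subgroup.coe_pow, Pi.pow_apply, Subgroup.coe_one, Pi.one_apply]
      exact (perm3 _).1 ((Int.units_eq_one_or _).resolve_right (h j))
    have hd : orderOf f ∣ 3 := orderOf_dvd_of_pow_eq_one h3
    rcases (Nat.dvd_prime Nat.prime_three).mp hd with h | h <;> simp [h]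

/-- Constant tuples. -/
def constHom (k : ℕ) : Equiv.Perm (Fin 3) →* Dk k where
  toFun σ := ⟨fun _ => σ, fun _ _ => rfl⟩
  map_one' := rfl
  map_mul' _ _ := rfl

theorem constHom_injective (k : ℕ) (hk : 0 < k) : Function.Injective (constHom k) := by
  intro σ τ h
  have h1 := congrArg (fun f : Dk k => f.1 ⟨0, hk⟩) h
  exact h1

theorem Dk_exists (k : ℕ) (hk : 0 < k) : ∀ e ∈ [1, 2, 3], ∃ f : Dk k, orderOf f = e := by
  intro e he
  simp only [List.mem_cons, List.mem_nil_iff, or_false] at he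
  rcases he with rfl | rfl | rfl
  · exact ⟨1, orderOf_one⟩
  · refine ⟨constHom k (Equiv.swap 0 1), ?_⟩
    rw [orderOf_injective (constHom k) (constHom_injective k hk)]
    exact orderOf_eq_prime (by decide) (by decide)
  · refine ⟨constHom k (finRotate 3), ?_⟩
    rw [orderOf_injective (constHom k) (constHom_injective k hk)]
    exact orderOf_eq_prime (by decide) (by decide)

theorem dih5 : ∀ g : DihedralGroup 5, g ^ 2 = 1 ∨ g ^ 5 = 1 := by decide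

theorem D5_order (g : DihedralGroup 5) : orderOf g ∈ [1, 2, 5] := by
  rcases dih5 g with h | h
  · have hd : orderOf g ∣ 2 := orderOf_dvd_of_pow_eq_one h
    rcases (Nat.dvd_prime Nat.prime_two).mp hd with h | h <;> simp [h]
  · have hd : orderOf g ∣ 5 := orderOf_dvd_of_pow_eq_one h
    rcases (Nat.dvd_prime Nat.prime_five).mp hd with h | h <;> simp [h]

theorem D5_exists : ∀ e ∈ [1, 2, 5], ∃ g : DihedralGroup 5, orderOf g = e := by
  intro e he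
  simp only [List.mem_cons, List.mem_nil_iff, or_false] at he
  rcases he with rfl | rfl | rfl
  · exact ⟨1, orderOf_one⟩
  · exact ⟨DihedralGroup.sr 0, DihedralGroup.orderOf_sr 0⟩
  · exact ⟨DihedralGroup.r 1, DihedralGroup.orderOf_r_one⟩

theorem range4 : Set.range (orderOf : ↥Cfsg.Spor.J1 × ↥Cfsg.Spor.J1 × ↥Cfsg.Spor.J1 ×
    ↥Cfsg.Spor.J1 → ℕ) = {n | n ∈ L63} := by
  ext n
  constructor
  · rintro ⟨⟨x1, x2, x3, x4⟩, rfl⟩
    simp only [Prod.orderOf]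
    exact A4 _ (orderOf_mem x1) _ (orderOf_mem x2) _ (orderOf_mem x3) _ (orderOf_mem x4)
  · intro hn
    change n ∈ L63 at hn
    rw [← B4.1, List.mem_map] at hn
    obtain ⟨t, ht, rfl⟩ := hn
    obtain ⟨h1, h2, h3, h4⟩ := B4.2 t ht
    obtain ⟨x1, e1⟩ := exists_orderOf h1
    obtain ⟨x2, e2⟩ := exists_orderOf h2
    obtain ⟨x3, e3⟩ := exists_orderOf h3
    obtain ⟨x4, e4⟩ := exists_orderOf h4
    refine ⟨(x1, x2, x3, x4), ?_⟩
    simp only [Prod.orderOf, e1, e2, e3, e4]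

theorem range5 (k : ℕ) (hk : 0 < k) : Set.range (orderOf : ↥Cfsg.Spor.J1 × ↥Cfsg.Spor.J1 ×
    ↥Cfsg.Spor.J1 × (↥(Dk k) × DihedralGroup 5) → ℕ) = {n | n ∈ L63} := by
  ext n
  constructor
  · rintro ⟨⟨x1, x2, x3, d, g⟩, rfl⟩
    simp only [Prod.orderOf]
    exact A4 _ (orderOf_mem x1) _ (orderOf_mem x2) _ (orderOf_mem x3) _
      (C5 _ (Dk_order k d) _ (D5_order g))
  · intro hn
    change n ∈ L63 at hn
    rw [← B5.1, List.mem_map] at hn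
    obtain ⟨t, ht, rfl⟩ := hn
    obtain ⟨h1, h2, h3, h4, h5⟩ := B5.2 t ht
    obtain ⟨x1, e1⟩ := exists_orderOf h1
    obtain ⟨x2, e2⟩ := exists_orderOf h2
    obtain ⟨x3, e3⟩ := exists_orderOf h3
    obtain ⟨d, e4⟩ := Dk_exists k hk _ h4
    obtain ⟨g, e5⟩ := D5_exists _ h5
    refine ⟨(x1, x2, x3, d, g), ?_⟩
    simp only [Prod.orderOf, e1, e2, e3, e4, e5]

/-- The tuple with a 3-cycle at position `i` and the identity elsewhere. -/
def bump (k : ℕ) (i : Fin k) : Dk k :=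
  ⟨Function.update 1 i (finRotate 3), by
    intro a b
    have hc : Equiv.Perm.sign (finRotate 3) = 1 := by decide
    simp only [Function.update_apply, Pi.one_apply]
    split_ifs <;> simp [hc]⟩

theorem bump_injective (k : ℕ) : Function.Injective (bump k) := by
  intro i j h
  by_contra hij
  have h1 := congrArg (fun f : Dk k => f.1 i) h
  simp only [bump, Function.update_self, Function.update_of_ne hij, Pi.one_apply] at h1
  exact absurd h1 (by decide)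

/-- Let J be the first Janko group. Then there are finite groups of arbitrarily large order with exactly the same set of element orders as J × J × J × J. -/
theorem result (N : ℕ) : ∃ (H : Type) (_ : Group H) (_ : Fintype H), N < Fintype.card H ∧
      Set.range (orderOf : H → ℕ) = Set.range (orderOf : ↥Cfsg.Spor.J1 × ↥Cfsg.Spor.J1 × ↥Cfsg.Spor.J1 × ↥Cfsg.Spor.J1 → ℕ) := by
  classical
  refine ⟨↥Cfsg.Spor.J1 × ↥Cfsg.Spor.J1 × ↥Cfsg.Spor.J1 × (↥(Dk (N + 1)) × DihedralGroup 5),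
    inferInstance, Fintype.ofFinite _, ?_, ?_⟩
  · have hinj : Function.Injective (fun i : Fin (N + 1) =>
        ((1, 1, 1, (bump (N + 1) i, 1)) : ↥Cfsg.Spor.J1 × ↥Cfsg.Spor.J1 × ↥Cfsg.Spor.J1 ×
          (↥(Dk (N + 1)) × DihedralGroup 5))) := by
      intro i j h
      have h1 : bump (N + 1) i = bump (N + 1) j := by
        have := congrArg (fun x : ↥Cfsg.Spor.J1 × ↥Cfsg.Spor.J1 × ↥Cfsg.Spor.J1 ×
          (↥(Dk (N + 1)) × DihedralGroup 5) => x.2.2.2.1) h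
        exact this
      exact bump_injective _ h1
    have := @Fintype.card_le_of_injective _ _ _ (Fintype.ofFinite _) _ hinj
    rw [Fintype.card_fin] at this
    omega
  · rw [range5 (N + 1) (Nat.succ_pos N), range4]

end Cfsg.Agent.S3627
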