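import Cfsg.Statements.S3633
import Cfsg.Agent.Lib.helper64.ThreePrimes

set_option autoImplicit false
open Cfsg

namespace Cfsg.Agent.S3633

/-- Let G be a finite group and ρ a set of at least three prime divisors of the order of G that are pairwise non-adjacent in the prime graph (no element of order rs for distinct r, s ∈ ρ). Then at most one prime of ρ divides the order of any given solvable normal subgroup of G; in particular G is not solvable. -/
theorem result {G : Type*} [Group G] [Finite G] (ρ : Finset ℕ) (hρ : 3 ≤ ρ.card) (hc : ((∀ r ∈ ρ, r.Prime ∧ r ∣ Nat.card G) ∧ (∀ r ∈ ρ, ∀ s ∈ ρ, r ≠ s → ¬ ∃ x : G, orderOf x = r * s)))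
    (K : Subgroup G) [K.Normal] (hK : Group.IsSolvable ↥K) :
    (∀ r ∈ ρ, ∀ s ∈ ρ, r ∣ Nat.card ↥K → s ∣ Nat.card ↥K → r = s) ∧ ¬ Group.IsSolvable G := by
  obtain ⟨hc1, hc2⟩ := hc
  constructor
  · intro r hr s hs hrK hsK
    by_contra hrs
    have h1 : 0 < ((ρ.erase r).erase s).card := by
      have h2 : s ∈ ρ.erase r := Finset.mem_erase.2 ⟨Ne.symm hrs, hs⟩
      rw [Finset.card_erase_of_mem h2, Finset.card_erase_of_mem hr]; omega
    obtain ⟨t, ht⟩ := Finset.card_pos.1 h1
    rw [Finset.mem_erase, Finset.mem_erase] at ht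
    obtain ⟨hts, htr, htρ⟩ := ht
    have htP := (hc1 t htρ).1
    have htF := Fact.mk htP
    obtain ⟨z, hz⟩ := exists_prime_orderOf_dvd_card' t (hc1 t htρ).2
    obtain ⟨H, hHdef⟩ : ∃ H : Subgroup G,
        H = (Subgroup.zpowers (QuotientGroup.mk' K z)).comap (QuotientGroup.mk' K) := ⟨_, rfl⟩
    have hKH : K ≤ H := by
      rw [hHdef]; intro x hx
      rw [Subgroup.mem_comap]
      have h3 : QuotientGroup.mk' K x = 1 := (QuotientGroup.eq_one_iff x).2 hx
      rw [h3]; exact Subgroup.one_mem _
    have hzH : z ∈ H := by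
      rw [hHdef, Subgroup.mem_comap]; exact Subgroup.mem_zpowers _
    have hHsolv : Group.IsSolvable ↥H := by
      subst hHdef
      have hZs : Group.IsSolvable ↥(Subgroup.zpowers (QuotientGroup.mk' K z)) :=
        Group.isSolvable_of_comm (fun a b => mul_comm' a b)
      refine Group.isSolvable_of_ker_le_range (Subgroup.inclusion hKH)
        ((QuotientGroup.mk' K).subgroupComap (Subgroup.zpowers (QuotientGroup.mk' K z))) ?_
      intro x hx
      rw [MonoidHom.mem_ker] at hx
      have hx' : QuotientGroup.mk' K (x : G) = 1 := congrArg Subtype.val hx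
      have hxK : (x : G) ∈ K := (QuotientGroup.eq_one_iff _).1 hx'
      exact ⟨⟨x, hxK⟩, Subtype.ext rfl⟩
    have hsub : ∀ a ∈ ({r, s, t} : Finset ℕ), a ∈ ρ := by
      intro a ha
      simp only [Finset.mem_insert, Finset.mem_singleton] at ha
      rcases ha with rfl | rfl | rfl
      · exact hr
      · exact hs
      · exact htρ
    obtain ⟨a, ha, b, hb, hab, x, hx⟩ := Cfsg.Agent.Lib.helper64.solvable_three_primes hHsolv
      ({r, s, t} : Finset ℕ) (by
        intro a ha
        refine ⟨(hc1 a (hsub a ha)).1, ?_⟩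
        simp only [Finset.mem_insert, Finset.mem_singleton] at ha
        rcases ha with rfl | rfl | rfl
        · exact hrK.trans (Subgroup.card_dvd_of_le hKH)
        · exact hsK.trans (Subgroup.card_dvd_of_le hKH)
        · have h3 : orderOf (⟨z, hzH⟩ : ↥H) = a := by
            rw [← hz, ← Subgroup.orderOf_coe]
          rw [← h3]; exact orderOf_dvd_natCard _) (by
        have h3 : ({r, s, t} : Finset ℕ).card = 3 := by
          rw [Finset.card_eq_three]
          exact ⟨r, s, t, hrs, Ne.symm htr, Ne.symm hts, rfl⟩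
        omega)
    exact hc2 a (hsub a ha) b (hsub b hb) hab ⟨(x : G), by rw [Subgroup.orderOf_coe]; exact hx⟩
  · intro hG
    obtain ⟨a, ha, b, hb, hab, x, hx⟩ :=
      Cfsg.Agent.Lib.helper64.solvable_three_primes hG ρ hc1 hρ
    exact hc2 a ha b hb hab ⟨x, hx⟩

end Cfsg.Agent.S3633
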