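-- Statement S3660.
import Cfsg.Statements.S3660
import Cfsg.Agent.Lib.helper64.SL2Affine

set_option autoImplicit false
open Cfsg

namespace Cfsg.Agent.S3660

open Cfsg.Agent.Lib.helper64

/-- The prime graph of a finite group has the prime divisors of its order as vertices, two distinct primes p, q being joined when the group has an element of order pq; two groups have the same prime graph when they have the same prime divisors and the same joined pairs. Let F be a finite field of characteristic 2 with at least 4 elements. Then there are finite groups of arbitrarily large order with the same prime graph as PSL(2,F); in particular PSL(2,F) is not determined by its prime graph. -/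
theorem result {F : Type*} [Field F] [Fintype F] [CharP F 2] (hF : 4 ≤ Fintype.card F) (N : ℕ) :
    ∃ (H : Type) (_ : Group H) (_ : Finite H), N < Nat.card H ∧
      ((∀ p : ℕ, p.Prime → (p ∣ Nat.card (Matrix.ProjectiveSpecialLinearGroup (Fin 2) F) ↔ p ∣ Nat.card H)) ∧
      (∀ p q : ℕ, p.Prime → q.Prime → p ≠ q → ((∃ g : (Matrix.ProjectiveSpecialLinearGroup (Fin 2) F), orderOf g = p * q) ↔ (∃ g : H, orderOf g = p * q)))) := by
  classical
  let e : Shrink.{0} (Aff F N) ≃* Aff F N := Shrink.mulEquiv
  let ψ : Matrix.ProjectiveSpecialLinearGroup (Fin 2) F ≃* Matrix.SpecialLinearGroup (Fin 2) F :=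
    pslEquivSL
  have hcardH : Nat.card (Shrink.{0} (Aff F N)) = Nat.card (Aff F N) := Nat.card_congr e.toEquiv
  have hcardP : Nat.card (Matrix.ProjectiveSpecialLinearGroup (Fin 2) F) =
      Nat.card (Matrix.SpecialLinearGroup (Fin 2) F) := Nat.card_congr ψ.toEquiv
  refine ⟨Shrink.{0} (Aff F N), inferInstance, Finite.of_equiv _ e.symm.toEquiv, ?_, ?_, ?_⟩
  · rw [hcardH]
    exact lt_card_aff N
  · intro p hp
    rw [hcardH, hcardP]
    constructor
    · intro h
      exact h.trans (card_SL_dvd_card_aff N)
    · intro h
      rcases prime_dvd_card_aff p hp h with rfl | h'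
      · exact two_dvd_card_SL
      · exact h'
  · intro p q hp hq hpq
    constructor
    · rintro ⟨g, hg⟩
      refine ⟨e.symm (SemidirectProduct.inr (ψ g)), ?_⟩
      rw [MulEquiv.orderOf_eq, orderOf_injective _ SemidirectProduct.inr_injective,
        MulEquiv.orderOf_eq, hg]
    · rintro ⟨y, hy⟩
      have h1 : orderOf (e y) = p * q := by rw [MulEquiv.orderOf_eq, hy]
      have h2 := aff_orderOf_right (e y) p q hp hq hpq h1
      exact ⟨ψ.symm (e y).right, by rw [MulEquiv.orderOf_eq, h2]⟩

end Cfsg.Agent.S3660
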