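import Cfsg.Statements.S3669
import Cfsg.Agent.S0157
import Cfsg.Agent.S0493
import Cfsg.Agent.S0494
import Cfsg.Agent.Lib.helper82.Ito
import Mathlib

set_option autoImplicit false
open Cfsg

namespace Cfsg.Agent.S3669

/-! ### Groups of order `5 m`, `m ∣ 12`: the Sylow 5-subgroup is normal unless the group is simple -/

universe u

/-- Frattini + centralizer: a small Sylow subgroup of a normal subgroup of index divisible by 5 is
normalized by... -/
theorem exists_sylow_normalizer_dvd {G : Type*} [Group G] [Finite G] (N : Subgroup G) [N.Normal]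
    (h5N : 5 ∣ N.index) (r : ℕ) [Fact r.Prime] (Q : Sylow r ↥N) (hQ : Nat.card Q ≤ 4)
    (h25 : ¬ 25 ∣ Nat.card G) :
    ∃ P : Sylow 5 G, Nat.card Q ∣ Nat.card ↥(Subgroup.normalizer (P : Set G)) := by
  have : Fact (Nat.Prime 5) := ⟨by norm_num⟩
  obtain ⟨Q', hQ'⟩ : ∃ Q' : Subgroup G, Q' = (Q : Subgroup ↥N).map N.subtype := ⟨_, rfl⟩
  have hF : Subgroup.normalizer (Q' : Set G) ⊔ N = ⊤ := by
    rw [hQ']
    exact Sylow.normalizer_sup_eq_top Q
  have h5A : 5 ∣ Nat.card ↥(Subgroup.normalizer (Q' : Set G)) := by
    have h1 : N.relIndex (Subgroup.normalizer (Q' : Set G) ⊔ N) =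
        N.relIndex (Subgroup.normalizer (Q' : Set G)) := Subgroup.relIndex_sup_right _ _
    rw [hF, Subgroup.relIndex_top_right] at h1
    rw [h1] at h5N
    exact h5N.trans (Subgroup.relIndex_dvd_card _ _)
  obtain ⟨x, hx⟩ := exists_prime_orderOf_dvd_card' 5 h5A
  have hcardQ' : Nat.card Q' = Nat.card Q := by
    rw [hQ']
    exact Subgroup.card_map_of_injective N.subtype_injective
  -- `x` centralizes `Q'`
  have hcent : ∀ h ∈ Q', (x : G) * h * (x : G)⁻¹ = h := by
    obtain ⟨α, hα⟩ : ∃ α : MulAut ↥(Q'.subgroupOf (Subgroup.normalizer (Q' : Set G))),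
        α = MulAut.conjNormal x := ⟨_, rfl⟩
    have h1 : orderOf α ∣ 5 := by
      rw [hα, ← hx]
      exact orderOf_map_dvd _ x
    have h2 : orderOf α ∣ Nat.card (MulAut ↥(Q'.subgroupOf (Subgroup.normalizer (Q' : Set G)))) :=
      orderOf_dvd_natCard α
    have h3 : Nat.card (MulAut ↥(Q'.subgroupOf (Subgroup.normalizer (Q' : Set G)))) ∣
        Nat.card (Equiv.Perm ↥(Q'.subgroupOf (Subgroup.normalizer (Q' : Set G)))) :=
      Subgroup.card_dvd_of_injective (MulAut.toPerm _) (fun a b hab => MulEquiv.toEquiv_injective hab)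
    have h4 : Nat.card ↥(Q'.subgroupOf (Subgroup.normalizer (Q' : Set G))) = Nat.card Q' :=
      Nat.card_congr (Subgroup.subgroupOfEquivOfLe Subgroup.le_normalizer).toEquiv
    rw [Nat.card_perm, h4, hcardQ'] at h3
    have h5 : ¬ 5 ∣ (Nat.card Q).factorial := by
      rw [Nat.Prime.dvd_factorial (by norm_num)]
      omega
    have h6 : orderOf α = 1 := by
      rcases (Nat.dvd_prime (by norm_num : Nat.Prime 5)).1 h1 with h | h
      · exact h
      · exact absurd (h ▸ h2.trans h3) h5
    rw [orderOf_eq_one_iff] at h6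
    intro h hh
    have h7 := congrArg (fun β => ((β ⟨⟨h, Subgroup.le_normalizer hh⟩, hh⟩ :
      ↥(Q'.subgroupOf (Subgroup.normalizer (Q' : Set G)))) : G)) (hα.symm.trans h6)
    simpa [MulAut.conjNormal_apply] using h7
  -- the Sylow 5-subgroup
  obtain ⟨g, hg⟩ : ∃ g : G, g = (x : G) := ⟨_, rfl⟩
  have hgo : orderOf g = 5 := by
    rw [hg, Subgroup.orderOf_coe, hx]
  have hpg : IsPGroup 5 ↥(Subgroup.zpowers g) :=
    IsPGroup.of_card (n := 1) (by rw [Nat.card_zpowers, hgo, pow_one])
  obtain ⟨P, hP⟩ := hpg.exists_le_sylow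
  have hPcard : Nat.card P = 5 := by
    obtain ⟨k, hk⟩ := IsPGroup.iff_card.1 P.isPGroup'
    have h1 : Nat.card P ∣ Nat.card G := Subgroup.card_subgroup_dvd_card _
    have h2 : 5 ≤ Nat.card P := by
      have := Subgroup.card_le_of_le hP
      rw [Nat.card_zpowers, hgo] at this
      exact this
    rcases k with _ | _ | k
    · rw [hk] at h2
      norm_num at h2
    · rw [hk]
      norm_num
    · exfalso
      apply h25
      refine Dvd.dvd.trans ?_ h1
      rw [hk]
      exact ⟨5 ^ k, by ring⟩
  have hPeq : Subgroup.zpowers g = (P : Subgroup G) := by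
    apply Subgroup.eq_of_le_of_card_ge hP
    rw [Nat.card_zpowers, hgo]
    exact le_of_eq hPcard
  refine ⟨P, ?_⟩
  rw [← hcardQ']
  apply Subgroup.card_dvd_of_le
  intro h hh
  show h ∈ Subgroup.normalizer ((P : Subgroup G) : Set G)
  rw [Subgroup.mem_normalizer_iff]
  intro n
  have hc : ∀ n ∈ Subgroup.zpowers g, h * n * h⁻¹ = n := by
    intro n hn
    obtain ⟨k, rfl⟩ := Subgroup.mem_zpowers_iff.1 hn
    have h8 : Commute h g := by
      have := hcent h hh
      rw [← hg] at this
      rw [mul_inv_eq_iff_eq_mul] at this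
      exact this.symm
    have h9 := h8.zpow_right k
    rw [mul_inv_eq_iff_eq_mul]
    exact h9
  constructor
  · intro hn
    have hn' : n ∈ Subgroup.zpowers g := hPeq ▸ hn
    rw [hc n hn']
    exact hn
  · intro hn
    have hn' : h * n * h⁻¹ ∈ Subgroup.zpowers g := hPeq ▸ hn
    have h10 := hc _ hn'
    -- h * (h n h⁻¹) * h⁻¹ = h n h⁻¹ → n = h n h⁻¹... 
    have h11 : n = h * n * h⁻¹ := by
      have h12 : h * (h * n * h⁻¹) * h⁻¹ = h * n * h⁻¹ := h10
      have h13 : h * n * h⁻¹ = n := by
        have := congrArg (fun z => h⁻¹ * z * h) h12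
        simp only [mul_assoc, inv_mul_cancel_left, inv_mul_cancel, mul_one] at this
        simpa [mul_assoc] using this
      exact h13.symm
    rw [h11]
    exact hn

theorem sylow_card_of {H : Type*} [Group H] [Finite H] (r : ℕ) [Fact r.Prime] (Q : Sylow r H)
    (a c : ℕ) (hc : Nat.card H = r ^ a * c) (hrc : ¬ r ∣ c) : Nat.card Q = r ^ a := by
  have hr : r.Prime := Fact.out
  have hc0 : c ≠ 0 := by
    rintro rfl
    exact hrc (dvd_zero r)
  rw [Q.card_eq_multiplicity, hc, Nat.factorization_mul (pow_ne_zero _ hr.ne_zero) hc0,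
    Nat.Prime.factorization_pow hr, Finsupp.add_apply, Finsupp.single_eq_same,
    Nat.factorization_eq_zero_of_not_dvd hrc, add_zero]

theorem n5_of_normalizer {G : Type*} [Group G] [Finite G] (m q : ℕ) (hcard : Nat.card G = 5 * m)
    (hm0 : 0 < m) (hq : q.Coprime 5) (P : Sylow 5 G)
    (hdvd : q ∣ Nat.card ↥(Subgroup.normalizer (P : Set G))) (hmq : m < 6 * q) :
    Nat.card (Sylow 5 G) = 1 := by
  have : Fact (Nat.Prime 5) := ⟨by norm_num⟩
  have hmod : Nat.card (Sylow 5 G) % 5 = 1 := card_sylow_modEq_one 5 G
  have h1 : Nat.card (Sylow 5 G) = (Subgroup.normalizer (P : Set G)).index :=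
    P.card_eq_index_normalizer
  have h2 : Nat.card ↥(Subgroup.normalizer (P : Set G)) * (Subgroup.normalizer (P : Set G)).index =
      5 * m := hcard ▸ Subgroup.card_mul_index _
  have h3 : 5 ∣ Nat.card ↥(Subgroup.normalizer (P : Set G)) := by
    have h4 : 5 ∣ Nat.card P := P.dvd_card_of_dvd_card (hcard ▸ Dvd.intro _ rfl)
    exact h4.trans (Subgroup.card_dvd_of_le Subgroup.le_normalizer)
  obtain ⟨c, hc⟩ := Nat.Coprime.mul_dvd_of_dvd_of_dvd hq hdvd h3
  rw [hc, ← h1] at h2
  obtain ⟨n5, hn5⟩ : ∃ n5, Nat.card (Sylow 5 G) = n5 := ⟨_, rfl⟩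
  rw [hn5] at h2 hmod ⊢
  have hc0 : 0 < c := by
    rcases Nat.eq_zero_or_pos c with h | h
    · rw [h] at h2
      simp at h2
      omega
    · exact h
  have h5 : n5 * q ≤ m := by nlinarith
  have h6 : n5 < 6 := by
    by_contra h
    push Not at h
    nlinarith
  omega

theorem card_sylow5
    (h30 : ∀ (H : Type u) [Group H] [Finite H], Nat.card H = 30 → ¬ IsSimpleGroup H) :
    ∀ (n : ℕ) (G : Type u) [Group G] [Finite G], Nat.card G = n → (∃ m, m ∣ 12 ∧ n = 5 * m) →
      (n = 60 → ¬ IsSimpleGroup G) → Nat.card (Sylow 5 G) = 1 := by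
  have hp5 : Fact (Nat.Prime 5) := ⟨by norm_num⟩
  intro n
  induction n using Nat.strong_induction_on with
  | _ n ih =>
    intro G _ _ hn hm h60
    obtain ⟨m, hm12, rfl⟩ := hm
    have hmle : m ≤ 12 := Nat.le_of_dvd (by norm_num) hm12
    have hm0 : 0 < m := Nat.pos_of_dvd_of_pos hm12 (by norm_num)
    have hmod : Nat.card (Sylow 5 G) % 5 = 1 := card_sylow_modEq_one 5 G
    by_cases hsmall : m ≤ 4
    · have P : Sylow 5 G := default
      have h1 : Nat.card (Sylow 5 G) ∣ 5 * m :=
        (P.card_dvd_index).trans (hn ▸ Subgroup.index_dvd_card _)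
      obtain ⟨n5, hn5⟩ : ∃ n5, Nat.card (Sylow 5 G) = n5 := ⟨_, rfl⟩
      rw [hn5] at h1 hmod ⊢
      have h2 : n5 ≤ 5 * m := Nat.le_of_dvd (by omega) h1
      interval_cases m <;> interval_cases n5 <;> omega
    · have hm612 : m = 6 ∨ m = 12 := by
        interval_cases m <;> omega
      have h25 : ¬ 25 ∣ Nat.card G := by
        rw [hn]
        rcases hm612 with rfl | rfl <;> omega
      have hns : ¬ IsSimpleGroup G := by
        rcases hm612 with rfl | rfl
        · exact h30 G hn
        · exact h60 rfl
      have hnt : Nontrivial G := by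
        rw [← Finite.one_lt_card_iff_nontrivial, hn]
        omega
      obtain ⟨N, hNn, hNbot, hNtop⟩ : ∃ N : Subgroup G, N.Normal ∧ N ≠ ⊥ ∧ N ≠ ⊤ := by
        by_contra hcon
        push Not at hcon
        apply hns
        refine ⟨fun H hH => ?_⟩
        by_contra h
        push Not at h
        exact h.2 (hcon H hH h.1)
      have good : ∀ (N : Subgroup G), N.Normal → N ≠ ⊤ →
          (5 ∣ Nat.card N ∨ 3 ∣ Nat.card N ∨ Nat.card N = 4 ∨ (Nat.card N = 2 ∧ m = 6)) →
          Nat.card (Sylow 5 G) = 1 := by
        intro N hNn hNtop hk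
        have hkdvd : Nat.card N ∣ 5 * m := hn ▸ Subgroup.card_subgroup_dvd_card N
        have hklt : Nat.card N < 5 * m := by
          rw [← hn]
          exact lt_of_le_of_ne (Subgroup.card_le_card_group N)
            (fun h => hNtop ((Subgroup.card_eq_iff_eq_top N).1 h))
        have hidx : Nat.card N * N.index = 5 * m := hn ▸ Subgroup.card_mul_index N
        by_cases h5 : 5 ∣ Nat.card N
        · obtain ⟨m', hm'⟩ := h5
          have hm'dvd : m' ∣ 12 := by
            rw [hm'] at hkdvd
            exact (Nat.dvd_of_mul_dvd_mul_left (by norm_num) hkdvd).trans hm12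
          have ih1 := ih (Nat.card N) hklt ↥N rfl ⟨m', hm'dvd, hm'⟩ (fun h => by omega)
          have hsub : Subsingleton (Sylow 5 ↥N) := (Nat.card_eq_one_iff_unique.1 ih1).1
          have PN : Sylow 5 ↥N := default
          have hchar : (PN : Subgroup ↥N).Characteristic := Sylow.characteristic_of_subsingleton PN
          have hnorm : ((PN : Subgroup ↥N).map N.subtype).Normal :=
            ConjAct.normal_of_characteristic_of_normal
          have hpg : IsPGroup 5 ↥((PN : Subgroup ↥N).map N.subtype) := PN.isPGroup'.map _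
          have hidx2 : ¬ 5 ∣ ((PN : Subgroup ↥N).map N.subtype).index := by
            rw [Subgroup.index_map_subtype]
            intro h
            rcases (Nat.Prime.dvd_mul (by norm_num)).1 h with h | h
            · exact PN.not_dvd_index h
            · apply h25
              rw [hn, ← hidx]
              exact Nat.mul_dvd_mul ⟨m', hm'⟩ h
          have hnorm' : ((hpg.toSylow hidx2 : Sylow 5 G) : Subgroup G).Normal := by
            rw [IsPGroup.toSylow_coe]
            exact hnorm
          have := Sylow.unique_of_normal (hpg.toSylow hidx2) hnorm'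
          exact Nat.card_unique
        · have h5idx : 5 ∣ N.index := by
            have h6 : 5 ∣ Nat.card N * N.index := hidx ▸ Dvd.intro _ rfl
            exact ((Nat.Prime.dvd_mul (by norm_num)).1 h6).resolve_left h5
          obtain ⟨k, hkdef⟩ : ∃ k, Nat.card ↥N = k := ⟨_, rfl⟩
          rw [hkdef] at hkdvd hklt hk h5
          rcases hk with hk | hk | hk | hk
          · exact absurd hk h5
          · have : Fact (Nat.Prime 3) := ⟨by norm_num⟩
            have Q : Sylow 3 ↥N := default
            have hQ3 : Nat.card Q = 3 := by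
              have hk3 : k = 3 ∨ k = 6 ∨ k = 12 := by
                rcases hm612 with rfl | rfl <;> interval_cases k <;> omega
              rcases hk3 with rfl | rfl | rfl
              · exact sylow_card_of 3 Q 1 1 (by rw [hkdef]; norm_num) (by norm_num)
              · exact sylow_card_of 3 Q 1 2 (by rw [hkdef]; norm_num) (by norm_num)
              · exact sylow_card_of 3 Q 1 4 (by rw [hkdef]; norm_num) (by norm_num)
            obtain ⟨P, hP⟩ := exists_sylow_normalizer_dvd N h5idx 3 Q (by omega) h25
            exact n5_of_normalizer m 3 hn hm0 (by norm_num) P (hQ3 ▸ hP)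
              (by rcases hm612 with rfl | rfl <;> omega)
          · have : Fact (Nat.Prime 2) := ⟨by norm_num⟩
            have Q : Sylow 2 ↥N := default
            have hQ4 : Nat.card Q = 4 :=
              sylow_card_of 2 Q 2 1 (by rw [hkdef, hk]; norm_num) (by norm_num)
            obtain ⟨P, hP⟩ := exists_sylow_normalizer_dvd N h5idx 2 Q (by omega) h25
            exact n5_of_normalizer m 4 hn hm0 (by norm_num) P (hQ4 ▸ hP)
              (by rcases hm612 with rfl | rfl <;> omega)
          · have : Fact (Nat.Prime 2) := ⟨by norm_num⟩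
            have Q : Sylow 2 ↥N := default
            have hQ2 : Nat.card Q = 2 :=
              sylow_card_of 2 Q 1 1 (by rw [hkdef, hk.1]; norm_num) (by norm_num)
            obtain ⟨P, hP⟩ := exists_sylow_normalizer_dvd N h5idx 2 Q (by omega) h25
            exact n5_of_normalizer m 2 hn hm0 (by norm_num) P (hQ2 ▸ hP) (by omega)
      have hkdvd : Nat.card N ∣ 5 * m := hn ▸ Subgroup.card_subgroup_dvd_card N
      have hklt : Nat.card N < 5 * m := by
        rw [← hn]
        exact lt_of_le_of_ne (Subgroup.card_le_card_group N)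
          (fun h => hNtop ((Subgroup.card_eq_iff_eq_top N).1 h))
      have hk1 : Nat.card N ≠ 1 := fun h => hNbot ((Subgroup.eq_bot_iff_card N).2 h)
      have hk0 : 0 < Nat.card N := Nat.card_pos
      by_cases hspecial : Nat.card N = 2 ∧ m = 12
      · obtain ⟨hk2, rfl⟩ := hspecial
        have hq30 : Nat.card (G ⧸ N) = 30 := by
          have h1 := Subgroup.card_mul_index N
          rw [hk2, hn, Subgroup.index_eq_card] at h1
          omega
        have hnsq := h30 (G ⧸ N) hq30
        have hntq : Nontrivial (G ⧸ N) := by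
          rw [← Finite.one_lt_card_iff_nontrivial, hq30]
          omega
        obtain ⟨N1b, hN1n, hN1bot, hN1top⟩ :
            ∃ K : Subgroup (G ⧸ N), K.Normal ∧ K ≠ ⊥ ∧ K ≠ ⊤ := by
          by_contra hcon
          push Not at hcon
          apply hnsq
          refine ⟨fun H hH => ?_⟩
          by_contra h
          push Not at h
          exact h.2 (hcon H hH h.1)
        have hN1normal : (N1b.comap (QuotientGroup.mk' N)).Normal := hN1n.comap _
        have hidx1 : (N1b.comap (QuotientGroup.mk' N)).index = N1b.index :=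
          Subgroup.index_comap_of_surjective _ (QuotientGroup.mk'_surjective N)
        have h1 : N1b.index ∣ 30 := hq30 ▸ Subgroup.index_dvd_card N1b
        have h2 : N1b.index ≠ 1 := fun h => hN1top (Subgroup.index_eq_one.1 h)
        have h3 : N1b.index ≠ 30 := by
          intro h
          have h4 := Subgroup.card_mul_index N1b
          rw [h, hq30] at h4
          have h5 : Nat.card N1b = 1 := by omega
          exact hN1bot ((Subgroup.eq_bot_iff_card N1b).2 h5)
        have h4 : Nat.card (N1b.comap (QuotientGroup.mk' N)) *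
            (N1b.comap (QuotientGroup.mk' N)).index = 5 * 12 := hn ▸ Subgroup.card_mul_index _
        apply good _ hN1normal
        · intro h
          rw [h, Subgroup.index_top] at hidx1
          exact h2 hidx1.symm
        · rw [hidx1] at h4
          obtain ⟨j, hj⟩ : ∃ j, N1b.index = j := ⟨_, rfl⟩
          obtain ⟨k1, hk1def⟩ : ∃ k1, Nat.card (N1b.comap (QuotientGroup.mk' N)) = k1 := ⟨_, rfl⟩
          rw [hj] at h1 h2 h3 h4
          rw [hk1def] at h4 ⊢
          have hj30 : j ≤ 30 := Nat.le_of_dvd (by norm_num) h1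
          interval_cases j <;> omega
      · apply good N hNn hNtop
        obtain ⟨k, hkdef⟩ : ∃ k, Nat.card ↥N = k := ⟨_, rfl⟩
        rw [hkdef] at hkdvd hklt hk1 hk0 hspecial ⊢
        rcases hm612 with rfl | rfl <;> interval_cases k <;> omega


/-! ### Double transitivity on the Sylow subgroups -/

/-- If the Sylow `p`-subgroups have order `p` and there are `p + 1` of them, the group is doubly
transitive on them. -/
theorem two_trans_sylow {G : Type*} [Group G] [Finite G] (p : ℕ) [Fact p.Prime]
    (hP : ∀ P : Sylow p G, Nat.card P = p) (hn : Nat.card (Sylow p G) = p + 1) :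
    MulAction.IsMultiplyPretransitive G (Sylow p G) 2 := by
  have hp : p.Prime := Fact.out
  have claimT : ∀ (P Q Q' : Sylow p G), Q ≠ P → Q' ≠ P →
      ∃ g : G, g ∈ (P : Subgroup G) ∧ g • Q = Q' := by
    intro P Q Q' hQ hQ'
    obtain ⟨O, hO⟩ : ∃ O : Set (Sylow p G), O = MulAction.orbit ↥(P : Subgroup G) Q := ⟨_, rfl⟩
    have h1 : (MulAction.stabilizer ↥(P : Subgroup G) Q).index = O.ncard := by
      rw [hO]
      exact MulAction.index_stabilizer _ _
    have h2 : O.ncard ∣ p := by
      rw [← h1]
      have h2' := Subgroup.index_dvd_card (MulAction.stabilizer ↥(P : Subgroup G) Q)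
      rwa [hP P] at h2'
    have h3 : O.ncard ≠ 1 := by
      intro h
      have hfix : Q ∈ MulAction.fixedPoints ↥(P : Subgroup G) (Sylow p G) := by
        intro g
        obtain ⟨a, ha⟩ := Set.ncard_eq_one.1 h
        have hQO : Q ∈ O := hO ▸ MulAction.mem_orbit_self Q
        have hgO : g • Q ∈ O := hO ▸ MulAction.mem_orbit Q g
        rw [ha, Set.mem_singleton_iff] at hQO hgO
        exact hgO.trans hQO.symm
      have hle := (P.2.sylow_mem_fixedPoints_iff).1 hfix
      exact hQ (Sylow.ext (P.3 Q.2 hle))
    have h4 : O.ncard = p := ((Nat.dvd_prime hp).1 h2).resolve_left h3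
    have h5 : O ⊆ {P}ᶜ := by
      intro R hR hRP
      rw [hO] at hR
      obtain ⟨g, rfl⟩ := hR
      have hgP : (g : G) • P = P :=
        Sylow.smul_eq_iff_mem_normalizer.2 (Subgroup.le_normalizer g.2)
      have hgQ : (g : G) • Q = P := hRP
      exact hQ (MulAction.injective (g : G) (hgQ.trans hgP.symm))
    have h6 : ({P}ᶜ : Set (Sylow p G)).ncard = p := by
      rw [Set.ncard_compl, Set.ncard_singleton, hn]
      omega
    have h7 : O = {P}ᶜ := Set.eq_of_subset_of_ncard_le h5 (by rw [h4, h6]) (Set.toFinite _)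
    have h8 : Q' ∈ O := by
      rw [h7]
      exact hQ'
    rw [hO] at h8
    obtain ⟨g, hg⟩ := h8
    exact ⟨g, g.2, hg⟩
  rw [MulAction.is_two_pretransitive_iff]
  intro a b c d hab hcd
  obtain ⟨g1, hg1⟩ := MulAction.exists_smul_eq G a c
  have hne : g1 • b ≠ c := fun h => hab (MulAction.injective g1 (hg1.trans h.symm))
  obtain ⟨g2, hg2P, hg2⟩ := claimT c (g1 • b) d hne (Ne.symm hcd)
  refine ⟨g2 * g1, ?_, ?_⟩
  · rw [mul_smul, hg1]
    exact Sylow.smul_eq_iff_mem_normalizer.2 (Subgroup.le_normalizer hg2P)
  · rw [mul_smul, hg2]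

theorem card_A5 : Nat.card (alternatingGroup (Fin 5)) = 60 := by
  have h := two_mul_nat_card_alternatingGroup (α := Fin 5)
  rw [Nat.card_perm, Nat.card_fin] at h
  have h2 : Nat.factorial 5 = 120 := by decide
  omega

theorem card_sylow5_mod {A : Type*} [Group A] [Finite A] : Nat.card (Sylow 5 A) % 5 = 1 := by
  have : Fact (Nat.Prime 5) := ⟨by norm_num⟩
  exact card_sylow_modEq_one 5 A

/-- `5` divides the degree of some irreducible character of a simple group of order 60. -/
theorem five_mem_degreePrimes_of_simple {A : Type*} [Group A] [Finite A] [IsSimpleGroup A]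
    (hcard : Nat.card A = 60) : 5 ∈ Cfsg.degreePrimes A := by
  have hp5 : Fact (Nat.Prime 5) := ⟨by norm_num⟩
  have hPc : ∀ P : Sylow 5 A, Nat.card P = 5 := by
    intro P
    have := sylow_card_of 5 P 1 12 (by rw [hcard]; norm_num) (by norm_num)
    rw [this, pow_one]
  have hn : Nat.card (Sylow 5 A) = 5 + 1 := by
    have P : Sylow 5 A := default
    have hmod : Nat.card (Sylow 5 A) % 5 = 1 := card_sylow5_mod
    have h1 : Nat.card (Sylow 5 A) ∣ (P : Subgroup A).index := P.card_dvd_index
    have h2 : Nat.card P * (P : Subgroup A).index = 60 := hcard ▸ Subgroup.card_mul_index _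
    rw [hPc P] at h2
    have h3 : (P : Subgroup A).index = 12 := by omega
    rw [h3] at h1
    have h4 : Nat.card (Sylow 5 A) ≠ 1 := by
      intro h
      have hsub : Subsingleton (Sylow 5 A) := (Nat.card_eq_one_iff_unique.1 h).1
      have hnorm : (P : Subgroup A).Normal := P.normal_of_subsingleton
      rcases hnorm.eq_bot_or_eq_top with h5 | h5
      · have h6 := hPc P
        rw [h5, Subgroup.card_bot] at h6
        omega
      · have h6 := hPc P
        rw [h5, Subgroup.card_top, hcard] at h6
        omega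
    obtain ⟨n5, hn5⟩ : ∃ n5, Nat.card (Sylow 5 A) = n5 := ⟨_, rfl⟩
    rw [hn5] at h1 hmod h4 ⊢
    have h5 : n5 ≤ 12 := Nat.le_of_dvd (by norm_num) h1
    interval_cases n5 <;> omega
  have h2t := two_trans_sylow 5 hPc hn
  have hirr := (Cfsg.Agent.S0157.result (G := A) (Sylow 5 A) (by rw [hn]; norm_num)).2 h2t
  refine ⟨by norm_num, 5, ⟨⟨_, hirr⟩, ?_⟩, dvd_rfl⟩
  unfold Cfsg.charDegree
  have h1 : Nat.card (MulAction.fixedBy (Sylow 5 A) (1 : A)) = 6 := by
    rw [MulAction.fixedBy_one_eq_univ, Nat.card_coe_set_eq, Set.ncard_univ, hn]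
  simp only [h1]
  norm_num

/-- `5` divides the degree of some irreducible character of `A₅`. -/
theorem five_mem_degreePrimes_A5 : 5 ∈ Cfsg.degreePrimes (alternatingGroup (Fin 5)) :=
  five_mem_degreePrimes_of_simple card_A5

/-! ### The statement -/

/-- The character degree graph of a finite group has as vertices the primes dividing some irreducible complex character degree, two distinct primes being joined when their product divides some irreducible character degree; two groups have the same character degree graph when they have the same vertices and the same joined pairs. A finite group of order 60 with the same character degree graph as the alternating group A₅ (whose character degrees are 1, 3, 4, 5, so the graph has vertices 2, 3, 5 and no edges) is isomorphic to A₅. -/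
theorem result {G : Type*} [Group G] [Finite G] (hcard : Nat.card G = 60)
    (hΓ : Cfsg.degreePrimes G = Cfsg.degreePrimes (alternatingGroup (Fin 5)) ∧ Cfsg.degreeGraph G = Cfsg.degreeGraph (alternatingGroup (Fin 5))) : Nonempty (G ≃* alternatingGroup (Fin 5)) := by
  have hp5 : Fact (Nat.Prime 5) := ⟨by norm_num⟩
  have h5 : 5 ∈ Cfsg.degreePrimes G := hΓ.1 ▸ five_mem_degreePrimes_A5
  obtain ⟨-, d, ⟨χ, hχd⟩, h5d⟩ := h5
  have hsimple : IsSimpleGroup G := by
    by_contra hns
    have h30 : ∀ (H : Type _) [Group H] [Finite H], Nat.card H = 30 → ¬ IsSimpleGroup H := by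
      intro H _ _ hH hs
      by_cases hc : IsCyclic H
      · have := Cfsg.Agent.Lib.helper11.prime_card_of_simple_of_isCyclic hc
        rw [hH] at this
        norm_num at this
      · have := Cfsg.Agent.S0493.result hc (by omega)
        omega
    have hn5 := card_sylow5 h30 60 G hcard ⟨12, dvd_rfl, rfl⟩ (fun _ => hns)
    have hsub : Subsingleton (Sylow 5 G) := (Nat.card_eq_one_iff_unique.1 hn5).1
    have P : Sylow 5 G := default
    have hnorm : (P : Subgroup G).Normal := P.normal_of_subsingleton
    have hPc : Nat.card P = 5 := by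
      have := sylow_card_of 5 P 1 12 (by rw [hcard]; norm_num) (by norm_num)
      rw [this, pow_one]
    have hcyc : IsCyclic ↥(P : Subgroup G) := isCyclic_of_prime_card hPc
    have hab : ∀ a ∈ (P : Subgroup G), ∀ b ∈ (P : Subgroup G), a * b = b * a := by
      intro a ha b hb
      have h1 : (⟨a, ha⟩ : ↥(P : Subgroup G)) * ⟨b, hb⟩ = ⟨b, hb⟩ * ⟨a, ha⟩ := by
        let _ : CommGroup ↥(P : Subgroup G) := IsCyclic.commGroup
        exact mul_comm _ _
      exact congrArg Subtype.val h1
    obtain ⟨e, he1, he2⟩ := Cfsg.Agent.Lib.helper82.ito_char (P : Subgroup G) hab χ.2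
    have hidx : (P : Subgroup G).index = 12 := by
      have h2 := Subgroup.card_mul_index (P : Subgroup G)
      rw [hPc, hcard] at h2
      omega
    rw [hidx] at he2
    have hde : d = e := by
      rw [← hχd]
      unfold Cfsg.charDegree
      rw [he1]
      simp
    rw [hde] at h5d
    have := h5d.trans he2
    omega
  exact Cfsg.Agent.S0494.result hcard

end Cfsg.Agent.S3669
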