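-- Statement S3678.
import Cfsg.Statements.S3678
import Cfsg.Agent.Lib.helper64.SL2Small

set_option autoImplicit false
open Cfsg

namespace Cfsg.Agent.S3678

open Cfsg.Agent.Lib.helper64


/-- The prime graph of a finite group has the prime divisors of its order as vertices, two distinct primes p, q being joined when the group has an element of order pq; two groups have the same prime graph when they have the same prime divisors and the same joined pairs. Let F be the field with 7 elements. There are finite groups of arbitrarily large order with the same prime graph as PSL(2,F) (the graph on {2, 3, 7} with no edges, which is also the prime graph of PSL(2,8)). -/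
theorem result {F : Type*} [Field F] [Fintype F] (hF : Fintype.card F = 7) (N : ℕ) :
    ∃ (H : Type) (_ : Group H) (_ : Finite H), N < Nat.card H ∧
      ((∀ p : ℕ, p.Prime → (p ∣ Nat.card (Matrix.ProjectiveSpecialLinearGroup (Fin 2) F) ↔ p ∣ Nat.card H)) ∧
      (∀ p q : ℕ, p.Prime → q.Prime → p ≠ q → ((∃ g : (Matrix.ProjectiveSpecialLinearGroup (Fin 2) F), orderOf g = p * q) ↔ (∃ g : H, orderOf g = p * q)))) := by
  classical
  have : Fact (Nat.Prime 2) := ⟨Nat.prime_two⟩
  have : Fintype (GaloisField 2 3) := Fintype.ofFinite (GaloisField 2 3)
  have hK : Fintype.card (GaloisField 2 3) = 8 := by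
    rw [← Nat.card_eq_fintype_card, GaloisField.card 2 3 (by norm_num)]
    norm_num
  refine ⟨Aff (GaloisField 2 3) N, inferInstance, inferInstance, lt_card_aff N, ?_, ?_⟩
  · intro p hp
    rw [psl7_primes hF p hp]
    constructor
    · intro h
      exact ((sl8_primes hK p hp).mpr h).trans (card_SL_dvd_card_aff N)
    · intro h
      rcases prime_dvd_card_aff p hp h with rfl | h'
      · left; rfl
      · exact (sl8_primes hK p hp).mp h'
  · intro p q hp hq hpq
    constructor
    · intro h
      exact absurd h (psl7_no_edge hF p q hp hq hpq)
    · rintro ⟨x, hx⟩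
      exact absurd ⟨x.right, aff_orderOf_right x p q hp hq hpq hx⟩
        (sl8_no_edge hK p q hp hq hpq)

end Cfsg.Agent.S3678
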