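import Cfsg.Statements.S3680
import Cfsg.Agent.S0721

set_option autoImplicit false
open Cfsg

namespace Cfsg.Agent.S3680

open MulAction

section aux

variable {G Ω : Type*} [Group G] [MulAction G Ω]

/-- A nontrivial normal subgroup of a faithful primitive group is transitive. -/
theorem normal_transitive [FaithfulSMul G Ω] (hprim : IsPreprimitive G Ω) (M : Subgroup G)
    [M.Normal] (hM : M ≠ ⊥) : IsPretransitive M Ω := by
  apply IsQuasiPreprimitive.isPretransitive_of_normal
  intro h
  apply hM
  rw [eq_bot_iff]
  intro g hg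
  rw [Subgroup.mem_bot]
  apply FaithfulSMul.eq_of_smul_eq_smul (α := Ω)
  intro ω
  have hω : ω ∈ fixedPoints M Ω := by rw [h]; trivial
  rw [one_smul]
  exact hω ⟨g, hg⟩

/-- An element centralizing a transitive subgroup and fixing a point is trivial. -/
theorem eq_one_of_commute_of_fixed [FaithfulSMul G Ω] (V : Subgroup G)
    (hV : IsPretransitive V Ω) (c : G) (hc : ∀ v ∈ V, Commute c v) (ω : Ω) (hω : c • ω = ω) :
    c = 1 := by
  apply FaithfulSMul.eq_of_smul_eq_smul (α := Ω)
  intro x
  obtain ⟨v, hv⟩ := MulAction.exists_smul_eq V ω x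
  have hv' : (v : G) • ω = x := hv
  rw [one_smul, ← hv', ← mul_smul, (hc v v.2).eq, mul_smul, hω]

/-- An element centralizing a transitive subgroup `V` lies in every transitive subgroup `W`
centralizing `V`. -/
theorem mem_of_commute_of_transitive [FaithfulSMul G Ω] (V W : Subgroup G)
    (hV : IsPretransitive V Ω) (hW : IsPretransitive W Ω) (ω : Ω)
    (c : G) (hc : ∀ v ∈ V, Commute c v) (hWc : ∀ w ∈ W, ∀ v ∈ V, Commute w v) : c ∈ W := by
  obtain ⟨w, hw⟩ := MulAction.exists_smul_eq W ω (c • ω)
  have hw' : (w : G) • ω = c • ω := hw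
  have h1 : (w : G)⁻¹ * c = 1 :=
    eq_one_of_commute_of_fixed V hV _
      (fun v hv => ((hWc w w.2 v hv).inv_left).mul_left (hc v hv)) ω
      (by rw [mul_smul, ← hw', inv_smul_smul])
  have h2 : c = w := by rw [inv_mul_eq_one] at h1; exact h1.symm
  rw [h2]; exact w.2

/-- Two commuting regular subgroups are isomorphic. -/
theorem nonempty_mulEquiv_of_regular (V W : Subgroup G)
    (hcomm : ∀ v ∈ V, ∀ w ∈ W, Commute v w)
    (hVt : IsPretransitive V Ω) (hWt : IsPretransitive W Ω)
    (hVs : ∀ v ∈ V, ∀ ω : Ω, v • ω = ω → v = 1) (hWs : ∀ w ∈ W, ∀ ω : Ω, w • ω = ω → w = 1)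
    (α : Ω) : Nonempty (V ≃* W) := by
  have hex : ∀ v : V, ∃ w : W, (w : G) • α = (v : G)⁻¹ • α :=
    fun v => MulAction.exists_smul_eq W α _
  choose θ hθ using hex
  have huniq : ∀ w w' : W, (w : G) • α = (w' : G) • α → w = w' := by
    intro w w' h
    have h1 : (w' : G)⁻¹ * w = 1 :=
      hWs _ (W.mul_mem (W.inv_mem w'.2) w.2) α (by rw [mul_smul, h, inv_smul_smul])
    exact Subtype.ext (by rw [inv_mul_eq_one] at h1; exact h1.symm)
  have hmul : ∀ v1 v2 : V, θ (v1 * v2) = θ v1 * θ v2 := by
    intro v1 v2
    apply huniq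
    rw [hθ]
    simp only [Subgroup.coe_mul, mul_inv_rev, mul_smul]
    rw [hθ v2, ← hθ v1, ← mul_smul, ← mul_smul,
      (hcomm _ (V.inv_mem v2.2) _ (θ v1).2).eq]
  refine ⟨MulEquiv.ofBijective (MonoidHom.mk' θ hmul) ⟨?_, ?_⟩⟩
  · rw [injective_iff_map_eq_one]
    intro v hv
    have hv' : θ v = 1 := hv
    have h1 := hθ v
    rw [hv'] at h1
    simp only [OneMemClass.coe_one, one_smul] at h1
    have h2 := hVs _ (V.inv_mem v.2) α h1.symm
    exact Subtype.ext (inv_eq_one.1 h2)
  · intro w
    obtain ⟨v0, hv0⟩ := MulAction.exists_smul_eq V α ((w : G) • α)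
    have hv0' : (v0 : G) • α = (w : G) • α := hv0
    refine ⟨v0⁻¹, ?_⟩
    apply huniq
    show ((θ v0⁻¹ : W) : G) • α = (w : G) • α
    rw [hθ]
    simp only [InvMemClass.coe_inv, inv_inv]
    exact hv0'

/-- A nontrivial finite group has a minimal normal subgroup. -/
theorem exists_minimal_normal [Finite G] [Nontrivial G] :
    ∃ V : Subgroup G, V.Normal ∧ V ≠ ⊥ ∧
      ∀ M : Subgroup G, M.Normal → M ≤ V → M = ⊥ ∨ M = V := by
  classical
  have hex : ∃ n, ∃ M : Subgroup G, M.Normal ∧ M ≠ ⊥ ∧ Nat.card M = n :=
    ⟨_, ⊤, inferInstance, top_ne_bot, rfl⟩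
  obtain ⟨V, hVn, hVb, hVc⟩ := Nat.find_spec hex
  refine ⟨V, hVn, hVb, ?_⟩
  intro M hMn hMV
  by_cases hM : M = ⊥
  · left; exact hM
  · right
    have h1 : Nat.find hex ≤ Nat.card M := Nat.find_min' hex ⟨M, hMn, hM, rfl⟩
    exact Subgroup.eq_of_le_of_card_ge hMV (by rw [hVc]; exact h1)

end aux

/-- `(Fin m → T) × (Fin n → T) ≃* (Fin (m + n) → T)`. -/
def appendMulEquiv (T : Type*) [Group T] (m n : ℕ) :
    (Fin m → T) × (Fin n → T) ≃* (Fin (m + n) → T) where
  toFun p := Fin.append p.1 p.2
  invFun f := (fun i => f (Fin.castAdd n i), fun i => f (Fin.natAdd m i))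
  left_inv p := by
    apply Prod.ext
    · funext i; simp
    · funext i; simp
  right_inv f := by
    funext i
    refine Fin.addCases (fun j => ?_) (fun j => ?_) i <;> simp
  map_mul' p q := by
    funext i
    refine Fin.addCases (fun j => ?_) (fun j => ?_) i <;> simp

/-- The socle of a finite primitive permutation group. Let a finite group G act faithfully and primitively on a set Ω, and let N be the subgroup generated by the minimal normal subgroups of G. Then either N is an elementary abelian p-group for some prime p and acts regularly on Ω (transitively with trivial point stabilizers), or N is isomorphic to a direct product of m ≥ 1 copies of a non-abelian simple group. -/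
theorem result {G Ω : Type*} [Group G] [Finite G] [MulAction G Ω] [FaithfulSMul G Ω] [Finite Ω]
    (hprim : MulAction.IsPreprimitive G Ω) (N : Subgroup G)
    (hN : N = sSup {V : Subgroup G | V.Normal ∧ V ≠ ⊥ ∧ ∀ M : Subgroup G, M.Normal → M ≤ V → M = ⊥ ∨ M = V}) :
    (∃ p : ℕ, p.Prime ∧ IsMulCommutative N ∧ (∀ x : N, x ^ p = 1) ∧
      MulAction.IsPretransitive N Ω ∧ ∀ ω : Ω, MulAction.stabilizer N ω = ⊥) ∨
    (∃ (T : Type) (_ : Group T) (m : ℕ), 1 ≤ m ∧ IsSimpleGroup T ∧ ¬ IsMulCommutative T ∧ Nonempty (N ≃* (Fin m → T))) := by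
  classical
  rcases subsingleton_or_nontrivial G with hsub | hnt
  · -- trivial group
    left
    have hΩ : Subsingleton Ω := by
      constructor
      intro a b
      obtain ⟨g, hg⟩ := MulAction.exists_smul_eq G a b
      rw [← hg, Subsingleton.elim g 1, one_smul]
    refine ⟨2, Nat.prime_two, ⟨⟨fun a b => Subsingleton.elim _ _⟩⟩, fun x => Subsingleton.elim _ _,
      ⟨fun a b => ⟨1, Subsingleton.elim _ _⟩⟩, fun ω => Subsingleton.elim _ _⟩
  · obtain ⟨V, hVn, hVb, hVmin⟩ := exists_minimal_normal (G := G)
    have hVt : IsPretransitive V Ω := normal_transitive hprim V hVb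
    -- `Ω` is nonempty
    have hΩ : Nonempty Ω := by
      by_contra hemp
      rw [not_nonempty_iff] at hemp
      obtain ⟨g, hg⟩ := exists_ne (1 : G)
      exact hg (FaithfulSMul.eq_of_smul_eq_smul (α := Ω) (fun a => isEmptyElim a))
    obtain ⟨α⟩ := hΩ
    -- distinct minimal normal subgroups commute
    have hdisj : ∀ W : Subgroup G, W.Normal → W ≠ ⊥ →
        (∀ M : Subgroup G, M.Normal → M ≤ W → M = ⊥ ∨ M = W) → W ≠ V →
        ∀ w ∈ W, ∀ v ∈ V, Commute w v := by
      intro W hWn hWb hWmin hWV
      have hinf : W ⊓ V = ⊥ := by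
        have hinfn : (W ⊓ V).Normal := Subgroup.normal_inf_normal W V
        rcases hWmin (W ⊓ V) hinfn inf_le_left with h | h
        · exact h
        · exfalso
          have hWleV : W ≤ V := by rw [← h]; exact inf_le_right
          rcases hVmin W hWn hWleV with h' | h'
          · exact hWb h'
          · exact hWV h'
      intro w hw v hv
      exact Subgroup.commute_of_normal_of_disjoint W V hWn hVn (disjoint_iff.2 hinf) w v hw hv
    by_cases hVc : ∀ a ∈ V, ∀ b ∈ V, a * b = b * a
    · -- abelian case
      left
      have huniq : ∀ W : Subgroup G, W.Normal → W ≠ ⊥ →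
          (∀ M : Subgroup G, M.Normal → M ≤ W → M = ⊥ ∨ M = W) → W = V := by
        intro W hWn hWb hWmin
        by_contra hWV
        have hc := hdisj W hWn hWb hWmin hWV
        have hWleV : W ≤ V := by
          intro w hw
          exact mem_of_commute_of_transitive V V hVt hVt α w (hc w hw)
            (fun a ha b hb => hVc a ha b hb)
        rcases hVmin W hWn hWleV with h' | h'
        · exact hWb h'
        · exact hWV h'
      have hNV : N = V := by
        rw [hN]
        apply le_antisymm
        · apply sSup_le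
          rintro W ⟨hWn, hWb, hWmin⟩
          exact (huniq W hWn hWb hWmin).le
        · exact le_sSup ⟨hVn, hVb, hVmin⟩
      subst hNV
      -- the prime
      have hcard : Nat.card N ≠ 1 := by
        rw [Ne, Subgroup.card_eq_one]; exact hVb
      obtain ⟨p, hp, hpN⟩ := Nat.exists_prime_and_dvd hcard
      have hpF := Fact.mk hp
      obtain ⟨x, hx⟩ := exists_prime_orderOf_dvd_card' p hpN
      let Np : Subgroup G :=
        { carrier := {y | y ∈ N ∧ y ^ p = 1}
          mul_mem' := by
            rintro a b ⟨ha, ha'⟩ ⟨hb, hb'⟩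
            refine ⟨Subgroup.mul_mem _ ha hb, ?_⟩
            have hc : Commute a b := hVc a ha b hb
            rw [hc.mul_pow, ha', hb', one_mul]
          one_mem' := ⟨Subgroup.one_mem _, one_pow _⟩
          inv_mem' := by
            rintro a ⟨ha, ha'⟩
            exact ⟨Subgroup.inv_mem _ ha, by rw [inv_pow, ha', inv_one]⟩ }
      have hNpn : Np.Normal := by
        constructor
        rintro n ⟨hn, hn'⟩ g
        refine ⟨hVn.conj_mem n hn g, ?_⟩
        rw [conj_pow, hn', mul_one, mul_inv_cancel]
      have hNple : Np ≤ N := fun y hy => hy.1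
      have hNpeq : Np = N := by
        rcases hVmin Np hNpn hNple with h | h
        · exfalso
          have hxN : (x : G) ∈ Np := by
            refine ⟨x.2, ?_⟩
            have h1 : x ^ p = 1 := by rw [← hx]; exact pow_orderOf_eq_one x
            have h2 := congrArg Subtype.val h1
            simpa using h2
          rw [h, Subgroup.mem_bot] at hxN
          have hx1 : x = 1 := Subtype.ext hxN
          rw [hx1, orderOf_one] at hx
          exact hp.one_lt.ne hx
        · exact h
      refine ⟨p, hp, ⟨⟨fun a b => Subtype.ext (hVc a a.2 b b.2)⟩⟩, ?_, hVt, ?_⟩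
      · intro y
        have hy : (y : G) ∈ Np := by rw [hNpeq]; exact y.2
        apply Subtype.ext
        simpa using hy.2
      · intro ω
        rw [eq_bot_iff]
        intro y hy
        rw [Subgroup.mem_bot]
        have hy' : (y : G) • ω = ω := hy
        have h1 : (y : G) = 1 :=
          eq_one_of_commute_of_fixed N hVt (y : G) (fun v hv => hVc _ y.2 v hv) ω hy'
        exact Subtype.ext h1
    · -- non-abelian case
      right
      obtain ⟨T, hTg, m, hTs, hm, ⟨e⟩⟩ := Cfsg.Agent.S0721.result V hVb hVmin
      have hTnc : ¬ IsMulCommutative T := by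
        intro hT
        apply hVc
        intro a ha b hb
        have h1 : e ⟨a, ha⟩ * e ⟨b, hb⟩ = e ⟨b, hb⟩ * e ⟨a, ha⟩ := by
          funext i
          exact mul_comm' _ _
        rw [← map_mul, ← map_mul] at h1
        have h2 := e.injective h1
        exact congrArg Subtype.val h2
      by_cases huniq : ∀ W : Subgroup G, W.Normal → W ≠ ⊥ →
          (∀ M : Subgroup G, M.Normal → M ≤ W → M = ⊥ ∨ M = W) → W = V
      · have hNV : N = V := by
          rw [hN]
          apply le_antisymm
          · apply sSup_le
            rintro W ⟨hWn, hWb, hWmin⟩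
            exact (huniq W hWn hWb hWmin).le
          · exact le_sSup ⟨hVn, hVb, hVmin⟩
        subst hNV
        exact ⟨T, hTg, m, hm, hTs, hTnc, ⟨e⟩⟩
      · push Not at huniq
        obtain ⟨W, hWn, hWb, hWmin, hWV⟩ := huniq
        have hWt : IsPretransitive W Ω := normal_transitive hprim W hWb
        have hc := hdisj W hWn hWb hWmin hWV
        -- every other minimal normal subgroup equals `W`
        have hall : ∀ W' : Subgroup G, W'.Normal → W' ≠ ⊥ →
            (∀ M : Subgroup G, M.Normal → M ≤ W' → M = ⊥ ∨ M = W') → W' = V ∨ W' = W := by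
          intro W' hW'n hW'b hW'min
          by_cases hW'V : W' = V
          · left; exact hW'V
          · right
            have hc' := hdisj W' hW'n hW'b hW'min hW'V
            have hW't : IsPretransitive W' Ω := normal_transitive hprim W' hW'b
            apply le_antisymm
            · intro w hw
              exact mem_of_commute_of_transitive V W hVt hWt α w (hc' w hw) hc
            · intro w hw
              exact mem_of_commute_of_transitive V W' hVt hW't α w (hc w hw) hc'
        have hNVW : N = V ⊔ W := by
          rw [hN]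
          apply le_antisymm
          · apply sSup_le
            rintro W' ⟨hW'n, hW'b, hW'min⟩
            rcases hall W' hW'n hW'b hW'min with h | h
            · rw [h]; exact le_sup_left
            · rw [h]; exact le_sup_right
          · exact sup_le (le_sSup ⟨hVn, hVb, hVmin⟩) (le_sSup ⟨hWn, hWb, hWmin⟩)
        -- `V ≃* W`
        obtain ⟨θ⟩ : Nonempty (V ≃* W) :=
          nonempty_mulEquiv_of_regular V W (fun v hv w hw => (hc w hw v hv).symm) hVt hWt
            (fun v hv ω hω => eq_one_of_commute_of_fixed W hWt v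
              (fun w hw => (hc w hw v hv).symm) ω hω)
            (fun w hw ω hω => eq_one_of_commute_of_fixed V hVt w (fun v hv => hc w hw v hv) ω hω)
            α
        -- `V × W ≃* N`
        have hcomm' : ∀ (v : V) (w : W), Commute (V.subtype v) (W.subtype w) :=
          fun v w => (hc w w.2 v v.2).symm
        have hinj : Function.Injective (MonoidHom.noncommCoprod V.subtype W.subtype hcomm') := by
          rw [MonoidHom.noncommCoprod_injective]
          refine ⟨V.subtype_injective, W.subtype_injective, ?_⟩
          rw [Subgroup.range_subtype, Subgroup.range_subtype, disjoint_iff]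
          have hinfn : (V ⊓ W).Normal := Subgroup.normal_inf_normal V W
          rcases hVmin (V ⊓ W) hinfn inf_le_left with h | h
          · exact h
          · exfalso
            have hVleW : V ≤ W := by rw [← h]; exact inf_le_right
            rcases hWmin V hVn hVleW with h' | h'
            · exact hVb h'
            · exact hWV h'.symm
        have hrange : (MonoidHom.noncommCoprod V.subtype W.subtype hcomm').range = N := by
          rw [MonoidHom.noncommCoprod_range, Subgroup.range_subtype, Subgroup.range_subtype, hNVW]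
        have e1 : V × W ≃* N :=
          (MonoidHom.ofInjective hinj).trans (MulEquiv.subgroupCongr hrange)
        have e2 : V × W ≃* (Fin m → T) × (Fin m → T) := MulEquiv.prodCongr e (θ.symm.trans e)
        refine ⟨T, hTg, m + m, by omega, hTs, hTnc, ⟨?_⟩⟩
        exact (e1.symm.trans e2).trans (appendMulEquiv T m m)

end Cfsg.Agent.S3680
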