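-- Statement S3681 (Bochert's bound).
import Cfsg.Statements.S3681
import Mathlib

set_option autoImplicit false
open Cfsg

namespace Cfsg.Agent.S3681

/-- If the supports of `x` and `y` meet in exactly one point, the commutator is a 3-cycle. -/
theorem comm_isThreeCycle {Ω : Type*} [Fintype Ω] [DecidableEq Ω] (x y : Equiv.Perm Ω) (α : Ω)
    (hxα : x α ≠ α) (hyα : y α ≠ α) (hxy : ∀ z, z ≠ α → x z = z ∨ y z = z) :
    (x * y * x⁻¹ * y⁻¹).IsThreeCycle := by
  have hxx' : ∀ z, x (x⁻¹ z) = z := fun z => by simp
  have hx'x : ∀ z, x⁻¹ (x z) = z := fun z => by simp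
  have hyy' : ∀ z, y (y⁻¹ z) = z := fun z => by simp
  have hy'y : ∀ z, y⁻¹ (y z) = z := fun z => by simp
  have hinvx : ∀ a b, x a = b → x⁻¹ b = a := fun a b h => by rw [← h, hx'x]
  have hinvy : ∀ a b, y a = b → y⁻¹ b = a := fun a b h => by rw [← h, hy'y]
  have hxyα : y (x α) = x α := by
    rcases hxy (x α) hxα with h | h
    · exact absurd (x.injective h) hxα
    · exact h
  have hyxα : x (y α) = y α := by
    rcases hxy (y α) hyα with h | h
    · exact h
    · exact absurd (y.injective h) hyα
  have hx'α : x⁻¹ α ≠ α := fun h => hxα (by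
    have := congrArg x h
    rw [hxx'] at this
    exact this.symm)
  have hy'α : y⁻¹ α ≠ α := fun h => hyα (by
    have := congrArg y h
    rw [hyy'] at this
    exact this.symm)
  -- y fixes x⁻¹ α
  have hyx'α : y (x⁻¹ α) = x⁻¹ α := by
    rcases hxy (x⁻¹ α) hx'α with h | h
    · exfalso
      apply hx'α
      rw [hxx'] at h
      exact h.symm
    · exact h
  -- x fixes y⁻¹ α
  have hxy'α : x (y⁻¹ α) = y⁻¹ α := by
    rcases hxy (y⁻¹ α) hy'α with h | h
    · exact h
    · exfalso
      apply hy'α
      rw [hyy'] at h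
      exact h.symm
  have hx'y'α : x⁻¹ (y⁻¹ α) = y⁻¹ α := hinvx _ _ hxy'α
  have hne : y α ≠ x α := by
    intro h
    rw [← h] at hxyα
    exact hyα (y.injective hxyα)
  have key : x * y * x⁻¹ * y⁻¹ = Equiv.swap α (y α) * Equiv.swap α (x α) := by
    ext z
    rw [Equiv.Perm.mul_apply, Equiv.Perm.mul_apply, Equiv.Perm.mul_apply, Equiv.Perm.mul_apply]
    by_cases hz1 : z = α
    · subst hz1
      rw [hx'y'α, hyy', Equiv.swap_apply_left, Equiv.swap_apply_of_ne_of_ne hxα hne.symm]
    by_cases hz2 : z = x α
    · subst hz2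
      have h1 : y⁻¹ (x α) = x α := hinvy _ _ hxyα
      rw [h1, hx'x, Equiv.swap_apply_right, Equiv.swap_apply_left]
      exact hyxα
    by_cases hz3 : z = y α
    · subst hz3
      rw [hy'y, hyx'α, hxx', Equiv.swap_apply_of_ne_of_ne hyα hne, Equiv.swap_apply_right]
    rw [Equiv.swap_apply_of_ne_of_ne hz1 hz2, Equiv.swap_apply_of_ne_of_ne hz1 hz3]
    by_cases hyz : y z = z
    · have h1 : y⁻¹ z = z := hinvy _ _ hyz
      rw [h1]
      have hu : x⁻¹ z ≠ α := by
        intro h
        apply hz2
        have := congrArg x h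
        rw [hxx'] at this
        exact this
      rcases hxy (x⁻¹ z) hu with h | h
      · have h2 : x⁻¹ z = z := by
          rw [hxx'] at h
          exact h.symm
        rw [h2, hyz, ← h2, hxx', h2]
      · rw [h, hxx']
    · have hxz : x z = z := (hxy z hz1).resolve_right hyz
      have hw1 : y⁻¹ z ≠ α := by
        intro h
        apply hz3
        have := congrArg y h
        rw [hyy'] at this
        exact this
      have hw2 : y (y⁻¹ z) ≠ y⁻¹ z := by
        intro h
        apply hyz
        rw [hyy'] at h
        have h3 := hyy' z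
        rw [← h] at h3
        exact h3
      have hw3 : x (y⁻¹ z) = y⁻¹ z := (hxy _ hw1).resolve_right hw2
      have hw4 : x⁻¹ (y⁻¹ z) = y⁻¹ z := hinvx _ _ hw3
      rw [hw4, hyy']
      exact hxz
  rw [key]
  exact Equiv.Perm.isThreeCycle_swap_mul_swap_same hyα.symm hxα.symm hne

/-- Counting: if no non-identity element of `P` is supported inside `S`, then `|P| * |S|! ≤ n!`. -/
theorem card_mul_factorial_le {Ω : Type*} [Fintype Ω] [DecidableEq Ω]
    (P : Subgroup (Equiv.Perm Ω)) (S : Finset Ω)
    (hS : ∀ p ∈ P, (∀ z, p z ≠ z → z ∈ S) → p = 1) :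
    Nat.card P * S.card.factorial ≤ (Fintype.card Ω).factorial := by
  let f : P × Equiv.Perm {z // z ∈ S} → Equiv.Perm Ω :=
    fun a => a.1.1 * Equiv.Perm.ofSubtype a.2
  have hf : Function.Injective f := by
    rintro ⟨p, σ⟩ ⟨p', σ'⟩ h
    simp only [f] at h
    have h1 : (p'.1)⁻¹ * p.1 = Equiv.Perm.ofSubtype (σ' * σ⁻¹) := by
      rw [map_mul, map_inv, eq_mul_inv_iff_mul_eq, mul_assoc, h, inv_mul_cancel_left]
    have h2 : (p'.1)⁻¹ * p.1 = 1 := by
      apply hS _ (P.mul_mem (P.inv_mem p'.2) p.2)
      intro z hz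
      by_contra hzS
      rw [h1, Equiv.Perm.ofSubtype_apply_of_not_mem _ hzS] at hz
      exact hz rfl
    have h3 : p = p' := by
      ext1
      exact (inv_mul_eq_one.mp h2).symm
    subst h3
    have h4 : Equiv.Perm.ofSubtype σ = Equiv.Perm.ofSubtype σ' := mul_left_cancel h
    rw [Equiv.Perm.ofSubtype_injective h4]
  have := Nat.card_le_card_of_injective f hf
  rwa [Nat.card_prod, Nat.card_perm, Nat.card_perm, Nat.card_eq_fintype_card (α := {z // z ∈ S}),
    Fintype.card_coe, Nat.card_eq_fintype_card (α := Ω)] at this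

/-- Bochert's bound for primitive groups. Let a finite group G act faithfully and primitively on a finite set Ω with n elements, and suppose the image of G in the symmetric group of Ω does not contain the alternating group of Ω. Then |G| · ⌊(n + 1)/2⌋! ≤ n!, that is, the index of G in the symmetric group is at least ⌊(n + 1)/2⌋!. -/
theorem result {G Ω : Type*} [Group G] [Finite G] [MulAction G Ω] [FaithfulSMul G Ω] [Fintype Ω] [DecidableEq Ω]
    (hprim : MulAction.IsPreprimitive G Ω) (hA : ¬ alternatingGroup Ω ≤ (MulAction.toPermHom G Ω).range) :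
    Nat.card G * Nat.factorial ((Fintype.card Ω + 1) / 2) ≤ Nat.factorial (Fintype.card Ω) := by
  classical
  set P : Subgroup (Equiv.Perm Ω) := (MulAction.toPermHom G Ω).range with hP
  have hcard : Nat.card G = Nat.card P :=
    Nat.card_congr (MonoidHom.ofInjective (f := MulAction.toPermHom G Ω)
      MulAction.toPerm_injective).toEquiv
  -- primitivity of P
  have hPprim : MulAction.IsPreprimitive P Ω := by
    let φ : G → P := fun g => ⟨MulAction.toPermHom G Ω g, ⟨g, rfl⟩⟩
    let f : Ω →ₑ[φ] Ω := { toFun := id, map_smul' := fun g x => rfl }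
    exact MulAction.IsPreprimitive.of_surjective (f := f) Function.surjective_id
  -- no 3-cycles
  have hno3 : ∀ c ∈ P, ¬ c.IsThreeCycle := fun c hc h3 =>
    hA (Equiv.Perm.alternatingGroup_le_of_isPreprimitive_of_isThreeCycle_mem hPprim h3 hc)
  rw [hcard]
  -- Good sets
  let Good : Finset Ω → Prop := fun S => ∀ p ∈ P, (∀ z, p z ≠ z → z ∈ S) → p = 1
  have hGood0 : Good ∅ := by
    intro p hp h
    ext z
    by_contra hz
    exact absurd (h z hz) (Finset.notMem_empty z)
  obtain ⟨S, hSmem, hSmax⟩ := Finset.exists_max_image (Finset.univ.filter Good) Finset.card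
    ⟨∅, by simp [hGood0]⟩
  have hSgood : Good S := (Finset.mem_filter.mp hSmem).2
  have hSmax' : ∀ T, Good T → T.card ≤ S.card := fun T hT =>
    hSmax T (Finset.mem_filter.mpr ⟨Finset.mem_univ _, hT⟩)
  set k := (Fintype.card Ω + 1) / 2 with hk
  by_cases hSk : k ≤ S.card
  · calc Nat.card P * k.factorial ≤ Nat.card P * S.card.factorial :=
          Nat.mul_le_mul_left _ (Nat.factorial_le hSk)
      _ ≤ _ := card_mul_factorial_le P S hSgood
  · push Not at hSk
    have hScard : S.card ≤ Fintype.card Ω := Finset.card_le_univ S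
    have hcompl : k ≤ (Sᶜ).card := by
      rw [Finset.card_compl]; omega
    by_cases hD : Good Sᶜ
    · calc Nat.card P * k.factorial ≤ Nat.card P * (Sᶜ).card.factorial :=
            Nat.mul_le_mul_left _ (Nat.factorial_le hcompl)
        _ ≤ _ := card_mul_factorial_le P Sᶜ hD
    · exfalso
      simp only [Good] at hD
      push Not at hD
      obtain ⟨x, hxP, hxsupp, hx1⟩ := hD
      obtain ⟨α, hα⟩ : ∃ α, x α ≠ α := by
        by_contra h
        push Not at h
        exact hx1 (Equiv.ext h)
      have hαS : α ∉ S := by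
        have := hxsupp α hα
        simpa using this
      have hins : ¬ Good (insert α S) := by
        intro hg
        have := hSmax' (insert α S) hg
        rw [Finset.card_insert_of_notMem hαS] at this
        omega
      simp only [Good] at hins
      push Not at hins
      obtain ⟨y, hyP, hysupp, hy1⟩ := hins
      have hyα : y α ≠ α := by
        intro h
        apply hy1
        apply hSgood y hyP
        intro z hz
        rcases Finset.mem_insert.mp (hysupp z hz) with h' | h'
        · subst h'; exact absurd h hz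
        · exact h'
      have hxy : ∀ z, z ≠ α → x z = z ∨ y z = z := by
        intro z hz
        by_contra hcon
        push Not at hcon
        have h1 := hxsupp z hcon.1
        have h2 := hysupp z hcon.2
        rcases Finset.mem_insert.mp h2 with h' | h'
        · exact hz h'
        · exact (Finset.mem_compl.mp h1) h'
      exact hno3 _ (P.mul_mem (P.mul_mem (P.mul_mem hxP hyP) (P.inv_mem hxP)) (P.inv_mem hyP))
        (comm_isThreeCycle x y α hα hyα hxy)

end Cfsg.Agent.S3681
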