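import Cfsg.Statements.S3682
import Cfsg.Agent.Lib.helper73.TWF

set_option autoImplicit false
open Cfsg

namespace Cfsg.Agent.S3682

/-- Wielandt's bound toward the Sims conjecture. Let a finite group G act faithfully and primitively on a set Ω, let a and b be points, and suppose the orbit of b under the stabilizer of a has length d ≥ 2. Then there are a prime p and a normal p-subgroup P of the stabilizer of a, all of whose elements fix b, such that the index of P in the stabilizer of a divides d! · ((d - 1)!)^d. -/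
theorem result {G Ω : Type*} [Group G] [Finite G] [MulAction G Ω] [FaithfulSMul G Ω] [Finite Ω]
    (hprim : MulAction.IsPreprimitive G Ω) (a b : Ω) (d : ℕ) (hd : Nat.card (MulAction.orbit (MulAction.stabilizer G a) b) = d) (h2 : 2 ≤ d) :
    ∃ p : ℕ, p.Prime ∧ ∃ P : Subgroup (MulAction.stabilizer G a), P.Normal ∧ IsPGroup p P ∧ (∀ g : P, ((g : MulAction.stabilizer G a) : G) • b = b) ∧
      P.index ∣ Nat.factorial d * (Nat.factorial (d - 1)) ^ d := by
  obtain ⟨hcfg, hrel, hrel'⟩ := Cfsg.Agent.Lib.helper73.TW.cfg_of_action hprim a b d hd h2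
  have hcnt := Cfsg.Agent.Lib.helper73.TW.relIndex_X_dvd (MulAction.stabilizer G a)
    (MulAction.stabilizer G b) d hrel hrel'
  have hcnt' := Cfsg.Agent.Lib.helper73.TW.relIndex_X_dvd (MulAction.stabilizer G b)
    (MulAction.stabilizer G a) d (by rwa [inf_comm]) (by rwa [inf_comm])
  obtain ⟨e⟩ := hcfg.iso
  have hc : Nat.card (MulAction.stabilizer G a) = Nat.card (MulAction.stabilizer G b) :=
    Nat.card_congr e.toEquiv
  have hbot : ∀ g : (⊥ : Subgroup (MulAction.stabilizer G a)),
      ((g : MulAction.stabilizer G a) : G) • b = b := by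
    rintro ⟨g, hg⟩
    rw [Subgroup.mem_bot] at hg
    subst hg
    simp
  by_cases hX : Cfsg.Agent.Lib.helper73.TW.X (MulAction.stabilizer G a) (MulAction.stabilizer G b) = ⊥
  · refine ⟨2, Nat.prime_two, ⊥, inferInstance, IsPGroup.of_bot, hbot, ?_⟩
    rw [Subgroup.index_bot]
    rw [hX, Subgroup.relIndex_bot_left] at hcnt
    exact hcnt
  by_cases hY : Cfsg.Agent.Lib.helper73.TW.X (MulAction.stabilizer G b) (MulAction.stabilizer G a) = ⊥
  · refine ⟨2, Nat.prime_two, ⊥, inferInstance, IsPGroup.of_bot, hbot, ?_⟩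
    rw [Subgroup.index_bot, hc]
    rw [hY, Subgroup.relIndex_bot_left] at hcnt'
    exact hcnt'
  obtain ⟨p, hp, -, hXp, -⟩ := Cfsg.Agent.Lib.helper73.TW.main hcfg hX hY
  refine ⟨p, hp, (Cfsg.Agent.Lib.helper73.TW.X (MulAction.stabilizer G a)
    (MulAction.stabilizer G b)).subgroupOf (MulAction.stabilizer G a),
    Subgroup.normal_subgroupOf_of_le_normalizer (Cfsg.Agent.Lib.helper73.TW.le_normalizer_X _ _),
    hXp.comap_of_injective (MulAction.stabilizer G a).subtype
      (MulAction.stabilizer G a).subtype_injective, ?_, hcnt⟩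
  rintro ⟨g, hg⟩
  exact MulAction.mem_stabilizer_iff.1 (Cfsg.Agent.Lib.helper73.TW.X_le_right _ _ hg)

end Cfsg.Agent.S3682
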