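import Cfsg.Statements.S3683

set_option autoImplicit false
open Cfsg

namespace Cfsg.Agent.S3683

/-- Let a finite group G act faithfully and primitively on a set Ω, and suppose the stabilizer of a point a fixes a second point b ≠ a (a suborbit of length 1 other than {a}). Then the stabilizer of a is trivial and G is cyclic of prime order. -/
theorem result {G Ω : Type*} [Group G] [Finite G] [MulAction G Ω] [FaithfulSMul G Ω] [Finite Ω]
    (hprim : MulAction.IsPreprimitive G Ω) (a b : Ω) (hab : a ≠ b) (hfix : ∀ g : G, g • a = a → g • b = b) :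
    MulAction.stabilizer G a = ⊥ ∧ IsCyclic G ∧ (Nat.card G).Prime := by
  classical
  have : Nontrivial Ω := ⟨a, b, hab⟩
  have hGa : IsCoatom (MulAction.stabilizer G a) :=
    MulAction.IsPreprimitive.isCoatom_stabilizer_of_isPreprimitive G a
  have hGb : IsCoatom (MulAction.stabilizer G b) :=
    MulAction.IsPreprimitive.isCoatom_stabilizer_of_isPreprimitive G b
  have hle : MulAction.stabilizer G a ≤ MulAction.stabilizer G b := by
    intro g hg
    rw [MulAction.mem_stabilizer_iff] at hg ⊢
    exact hfix g hg
  have heq : MulAction.stabilizer G a = MulAction.stabilizer G b := by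
    rcases eq_or_lt_of_le hle with h | h
    · exact h
    · exact absurd (hGa.2 _ h) hGb.1
  obtain ⟨g, hg⟩ := MulAction.exists_smul_eq G a b
  have hgnot : g ∉ MulAction.stabilizer G a := by
    intro h
    rw [MulAction.mem_stabilizer_iff] at h
    exact hab (h.symm.trans hg)
  have hconj : MulAction.stabilizer G a = (MulAction.stabilizer G a).map (MulAut.conj g).toMonoidHom := by
    rw [← MulAction.stabilizer_smul_eq_stabilizer_map_conj, hg, heq]
  have hgnorm : g ∈ Subgroup.normalizer (MulAction.stabilizer G a : Set G) := by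
    rw [Subgroup.mem_normalizer_iff]
    intro h
    constructor
    · intro hh
      have : g * h * g⁻¹ ∈ (MulAction.stabilizer G a).map (MulAut.conj g).toMonoidHom :=
        ⟨h, hh, rfl⟩
      rwa [← hconj] at this
    · intro hh
      rw [hconj] at hh
      obtain ⟨k, hk, hk'⟩ := hh
      have : k = h := by
        have h1 : g * k * g⁻¹ = g * h * g⁻¹ := hk'
        simpa using h1
      rwa [← this]
  have hnormal : (MulAction.stabilizer G a).Normal := by
    rw [← Subgroup.normalizer_eq_top_iff]
    apply hGa.2
    exact lt_of_le_of_ne Subgroup.le_normalizer (fun h => hgnot (h ▸ hgnorm))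
  have hbot : MulAction.stabilizer G a = ⊥ := by
    rw [eq_bot_iff]
    intro h hh
    rw [Subgroup.mem_bot]
    apply FaithfulSMul.eq_of_smul_eq_smul (α := Ω)
    intro x
    obtain ⟨k, rfl⟩ := MulAction.exists_smul_eq G a x
    have h1 : k⁻¹ * h * k ∈ MulAction.stabilizer G a := by
      have := hnormal.conj_mem h hh k⁻¹
      simpa using this
    rw [MulAction.mem_stabilizer_iff] at h1
    rw [one_smul]
    calc h • k • a = k • (k⁻¹ * h * k) • a := by simp [smul_smul, mul_assoc]
      _ = k • a := by rw [h1]
  refine ⟨hbot, ?_⟩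
  rw [hbot] at hGa
  have hg1 : g ≠ 1 := by
    rintro rfl
    rw [one_smul] at hg
    exact hab hg
  have key : ∀ x : G, x ≠ 1 → Subgroup.zpowers x = ⊤ := by
    intro x hx
    apply hGa.2
    rw [bot_lt_iff_ne_bot]
    intro h
    rw [Subgroup.zpowers_eq_bot] at h
    exact hx h
  have hcyc : IsCyclic G := ⟨g, fun x => by
    have : x ∈ Subgroup.zpowers g := by rw [key g hg1]; trivial
    exact this⟩
  refine ⟨hcyc, ?_⟩
  have : Nontrivial G := ⟨g, 1, hg1⟩
  have hcard : Nat.card G ≠ 1 := by
    intro h
    have := (Nat.card_eq_one_iff_unique.mp h).1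
    exact hg1 (Subsingleton.elim _ _)
  obtain ⟨p, hp, hpdvd⟩ := Nat.exists_prime_and_dvd hcard
  have : Fact p.Prime := ⟨hp⟩
  obtain ⟨y, hy⟩ := exists_prime_orderOf_dvd_card' p hpdvd
  have hy1 : y ≠ 1 := by
    rintro rfl
    rw [orderOf_one] at hy
    exact hp.one_lt.ne hy
  have : Nat.card G = p := by
    rw [← hy, ← Nat.card_zpowers, key y hy1]
    exact (Nat.card_congr (Equiv.Set.univ G)).symm
  rw [this]
  exact hp

end Cfsg.Agent.S3683
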