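import Cfsg.Statements.S3684
import Mathlib
import Cfsg.Agent.Lib.helper5.Dihedral
import Cfsg.Agent.Lib.helper65.Fitting
-- import your own Cfsg.Agent.* helpers here

set_option autoImplicit false
open Cfsg

namespace Cfsg.Agent.S3684

open Cfsg.Agent.Lib.helper5 Cfsg.Agent.Lib.helper65

/-- a subgroup of order two is generated by an involution -/
theorem exists_involution_of_card_two {G : Type*} [Group G] [Finite G] (L : Subgroup G)
    (hL : Nat.card L = 2) : ∃ s : G, s ≠ 1 ∧ s * s = 1 ∧ L = Subgroup.zpowers s := by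
  have hne : L ≠ ⊥ := by
    rintro rfl
    simp at hL
  obtain ⟨⟨s, hs⟩, hs1⟩ := Subgroup.ne_bot_iff_exists_ne_one.mp hne
  have hs1' : s ≠ 1 := fun h => hs1 (Subtype.ext h)
  have hdvd : orderOf s ∣ 2 := by
    have := orderOf_dvd_natCard (⟨s, hs⟩ : L)
    rwa [Subgroup.orderOf_mk, hL] at this
  have ho : orderOf s = 2 := by
    rcases (Nat.dvd_prime Nat.prime_two).mp hdvd with h | h
    · exact absurd (orderOf_eq_one_iff.mp h) hs1'
    · exact h
  refine ⟨s, hs1', ?_, ?_⟩
  · have := pow_orderOf_eq_one s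
    rwa [ho, pow_two] at this
  · exact (Subgroup.eq_of_le_of_card_ge (Subgroup.zpowers_le.mpr hs)
      (by rw [Nat.card_zpowers, ho, hL])).symm

/-- Let a finite group G act faithfully and primitively on a set Ω, and suppose the stabilizer of a point a has an orbit of length 2. Then the stabilizer of a has order 2 and G is isomorphic to the dihedral group of order 2p for some prime p. -/
theorem result {G Ω : Type*} [Group G] [Finite G] [MulAction G Ω] [FaithfulSMul G Ω] [Finite Ω]
    (hprim : MulAction.IsPreprimitive G Ω) (a b : Ω) (h2 : Nat.card (MulAction.orbit (MulAction.stabilizer G a) b) = 2) :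
    Nat.card (MulAction.stabilizer G a) = 2 ∧ ∃ p : ℕ, p.Prime ∧ Nonempty (G ≃* DihedralGroup p) := by
  classical
  have htrans : MulAction.IsPretransitive G Ω := hprim.toIsPretransitive
  let H : Subgroup G := MulAction.stabilizer G a
  let Gb : Subgroup G := MulAction.stabilizer G b
  have hHb : ¬ (H ≤ Gb) := by
    intro hle
    have h1 : MulAction.orbit H b = {b} := by
      ext x
      constructor
      · rintro ⟨h, rfl⟩
        exact MulAction.mem_stabilizer_iff.mp (hle h.2)
      · rintro rfl
        exact MulAction.mem_orbit_self _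
    rw [h1] at h2
    simp at h2
  have hab : a ≠ b := by
    rintro rfl
    exact hHb le_rfl
  have hnt : Nontrivial Ω := ⟨⟨a, b, hab⟩⟩
  have hco : IsCoatom H := MulAction.IsPreprimitive.isCoatom_stabilizer_of_isPreprimitive G a
  let K : Subgroup G := H ⊓ Gb
  have hKH : K ≤ H := inf_le_left
  have hKb : K ≤ Gb := inf_le_right
  have hstab : MulAction.stabilizer H b = K.subgroupOf H := by
    ext x
    rw [MulAction.mem_stabilizer_iff, Subgroup.mem_subgroupOf, Subgroup.mem_inf]
    constructor
    · intro hx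
      exact ⟨x.2, hx⟩
    · intro hx
      exact hx.2
  have hidxH : (K.subgroupOf H).index = 2 := by
    rw [← hstab, MulAction.index_stabilizer, ← Nat.card_coe_set_eq]
    exact h2
  have hcardK : Nat.card H = 2 * Nat.card K := by
    have h1 := Subgroup.index_mul_card (K.subgroupOf H)
    rw [hidxH, Nat.card_congr (Subgroup.subgroupOfEquivOfLe hKH).toEquiv] at h1
    exact h1.symm
  have hcardGb : Nat.card Gb = Nat.card H := by
    obtain ⟨g, hg⟩ := MulAction.exists_smul_eq G a b
    have : Gb = H.map (MulAut.conj g).toMonoidHom := by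
      show MulAction.stabilizer G b = _
      rw [← hg, MulAction.stabilizer_smul_eq_stabilizer_map_conj]
    rw [this]
    exact Subgroup.card_map_of_injective (MulAut.conj g).injective
  have hidxGb : (K.subgroupOf Gb).index = 2 := by
    have h1 := Subgroup.index_mul_card (K.subgroupOf Gb)
    rw [Nat.card_congr (Subgroup.subgroupOfEquivOfLe hKb).toEquiv, hcardGb, hcardK] at h1
    have hpos : 0 < Nat.card K := Nat.card_pos
    exact Nat.eq_of_mul_eq_mul_right hpos h1
  have hn1 : H ≤ Subgroup.normalizer (K : Set G) :=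
    (Subgroup.normal_subgroupOf_iff_le_normalizer hKH).mp (Subgroup.normal_of_index_eq_two hidxH)
  have hn2 : Gb ≤ Subgroup.normalizer (K : Set G) :=
    (Subgroup.normal_subgroupOf_iff_le_normalizer hKb).mp (Subgroup.normal_of_index_eq_two hidxGb)
  have hGbH : ¬ (Gb ≤ H) := by
    intro hle
    have : Gb = H := Subgroup.eq_of_le_of_card_ge hle (le_of_eq hcardGb.symm)
    exact hHb (le_of_eq this.symm)
  have htop : H ⊔ Gb = ⊤ := by
    apply hco.2
    exact lt_of_le_of_ne le_sup_left (fun h => hGbH (by rw [h]; exact le_sup_right))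
  have hKn : K.Normal := by
    rw [← Subgroup.normalizer_eq_top_iff, eq_top_iff, ← htop]
    exact sup_le hn1 hn2
  have hfixnormal : ∀ N : Subgroup G, N.Normal → N ≤ H → N = ⊥ := by
    intro N hN hNH
    rw [eq_bot_iff]
    intro k hk
    rw [Subgroup.mem_bot]
    apply FaithfulSMul.eq_of_smul_eq_smul (α := Ω)
    intro ω
    obtain ⟨g, rfl⟩ := MulAction.exists_smul_eq G a ω
    rw [one_smul]
    have h1 : g⁻¹ * k * g ∈ N := by
      have := hN.conj_mem k hk g⁻¹
      simpa using this
    have h2 : (g⁻¹ * k * g) • a = a := MulAction.mem_stabilizer_iff.mp (hNH h1)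
    calc k • g • a = g • (g⁻¹ * k * g) • a := by simp [mul_smul]
      _ = g • a := by rw [h2]
  have hK : K = ⊥ := hfixnormal K hKn hKH
  have hcardH : Nat.card H = 2 := by
    rw [hcardK, hK]
    simp
  refine ⟨hcardH, ?_⟩
  have hcardGb2 : Nat.card Gb = 2 := hcardGb.trans hcardH
  obtain ⟨s, hs1, hss, hHs⟩ := exists_involution_of_card_two H hcardH
  obtain ⟨t, ht1, htt, hGbt⟩ := exists_involution_of_card_two Gb hcardGb2
  have hclos : Subgroup.closure ({s, t} : Set G) = ⊤ := by
    rw [eq_top_iff, ← htop, hHs, hGbt]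
    apply sup_le
    · rw [Subgroup.zpowers_le]
      exact Subgroup.subset_closure (by simp)
    · rw [Subgroup.zpowers_le]
      exact Subgroup.subset_closure (by simp)
  set n := orderOf (s * t) with hn
  let φ := dihedralHom s t hss htt n (pow_orderOf_eq_one _)
  have hφinj : Function.Injective φ := dihedralHom_injective s t hss htt hs1 ht1
  have hφsurj : Function.Surjective φ := by
    rw [← MonoidHom.range_eq_top, dihedralHom_range, hclos]
  have hcardG : Nat.card G = 2 * n := by
    rw [← Nat.card_congr (Equiv.ofBijective φ ⟨hφinj, hφsurj⟩), DihedralGroup.nat_card]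
  refine ⟨n, ?_, ⟨(MulEquiv.ofBijective φ ⟨hφinj, hφsurj⟩).symm⟩⟩
  have hnpos : 0 < n := orderOf_pos (s * t)
  have hn1 : n ≠ 1 := by
    intro h
    have h1 : s * t = 1 := orderOf_eq_one_iff.mp h
    have h2 : t = s := by
      have h3 : s⁻¹ = t := inv_eq_of_mul_eq_one_right h1
      have h4 : s⁻¹ = s := inv_eq_of_mul_eq_one_right hss
      rw [← h3, h4]
    apply hGbH
    rw [hGbt, hHs, h2]
  by_contra hnp
  have hq : (Nat.minFac n).Prime := Nat.minFac_prime hn1
  have hqd : Nat.minFac n ∣ n := Nat.minFac_dvd n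
  have hqn : Nat.minFac n ≠ n := fun h => hnp (h ▸ hq)
  obtain ⟨e, he⟩ := hqd
  have hq2 : 2 ≤ Nat.minFac n := hq.two_le
  have hepos : 0 < e := by
    rcases Nat.eq_zero_or_pos e with h | h
    · rw [h, mul_zero] at he
      omega
    · exact h
  have he1 : e ≠ 1 := by
    intro h
    rw [h, mul_one] at he
    exact hqn he.symm
  have helt : e < n := by
    rw [he]
    nlinarith
  let D := Subgroup.zpowers ((s * t) ^ Nat.minFac n)
  have hcardD : Nat.card D = e := by
    rw [Nat.card_zpowers, orderOf_pow_of_dvd hq.ne_zero ⟨e, he⟩, ← hn]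
    exact Nat.div_eq_of_eq_mul_right hq.pos he
  have hsx : s * (s * t) * s⁻¹ = (s * t)⁻¹ := inv_conj_mul s t hss htt
  have htx : t * (s * t) * t⁻¹ = (s * t)⁻¹ := by
    have h3 : s⁻¹ = s := inv_eq_of_mul_eq_one_right hss
    have h4 : t⁻¹ = t := inv_eq_of_mul_eq_one_right htt
    calc t * (s * t) * t⁻¹ = t * s := by group
      _ = t⁻¹ * s⁻¹ := by rw [h3, h4]
      _ = (s * t)⁻¹ := (mul_inv_rev s t).symm
  have hDn : D.Normal := by
    rw [← Subgroup.normalizer_eq_top_iff, eq_top_iff, ← hclos, Subgroup.closure_le]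
    intro y hy
    have hy' : y * (s * t) * y⁻¹ = (s * t)⁻¹ := by
      rcases hy with rfl | rfl
      · exact hsx
      · exact htx
    rw [SetLike.mem_coe, Subgroup.mem_normalizer_iff_map_conj_eq]
    show (Subgroup.zpowers ((s * t) ^ Nat.minFac n)).map (MulAut.conj y).toMonoidHom
      = Subgroup.zpowers ((s * t) ^ Nat.minFac n)
    rw [MonoidHom.map_zpowers]
    have h5 : (MulAut.conj y).toMonoidHom ((s * t) ^ Nat.minFac n) = ((s * t) ^ Nat.minFac n)⁻¹ := by
      show y * (s * t) ^ Nat.minFac n * y⁻¹ = ((s * t) ^ Nat.minFac n)⁻¹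
      rw [← inv_pow, ← hy', conj_pow]
    rw [h5, Subgroup.zpowers_inv]
  have hDH : ¬ (D ≤ H) := by
    intro hle
    have h1 : e ∣ 2 := by
      rw [← hcardD, ← hcardH]
      exact Subgroup.card_dvd_of_le hle
    have h3 : e = 2 := by
      rcases (Nat.dvd_prime Nat.prime_two).mp h1 with h | h
      · exact absurd h he1
      · exact h
    have h4 : D = H := Subgroup.eq_of_le_of_card_ge hle (by rw [hcardD, hcardH, h3])
    have h5 := hfixnormal H (h4 ▸ hDn) le_rfl
    rw [h5] at hcardH
    simp at hcardH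
  have hsup : H ⊔ D = ⊤ :=
    hco.2 _ (lt_of_le_of_ne le_sup_left (fun h => hDH (by rw [h]; exact le_sup_right)))
  have hdvd : Nat.card (H ⊔ D : Subgroup G) ∣ Nat.card H * Nat.card D :=
    card_sup_dvd_mul (by rw [Subgroup.normalizer_eq_top_iff.mpr hDn]; exact le_top)
  rw [hsup, Subgroup.card_top, hcardG, hcardH, hcardD] at hdvd
  have := Nat.le_of_dvd (by omega) hdvd
  omega

end Cfsg.Agent.S3684
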