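import Cfsg.Statements.S3696

set_option autoImplicit false
open Cfsg

namespace Cfsg.Agent.S3696

/-- weighted AM-GM in integer form -/
theorem wamgm (a b c d : ℕ) :
    a ^ c * b ^ d * (c + d) ^ (c + d) ≤ (a + b) ^ (c + d) * c ^ c * d ^ d := by
  rcases Nat.eq_zero_or_pos c with hc | hc
  · subst hc
    simp only [pow_zero, one_mul, zero_add, mul_one]
    have : b ^ d ≤ (a + b) ^ d := Nat.pow_le_pow_left (Nat.le_add_left _ _) _
    exact Nat.mul_le_mul_right _ this
  rcases Nat.eq_zero_or_pos d with hd | hd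
  · subst hd
    simp only [pow_zero, mul_one, add_zero]
    have : a ^ c ≤ (a + b) ^ c := Nat.pow_le_pow_left (Nat.le_add_right _ _) _
    exact Nat.mul_le_mul_right _ this
  have hcR : (0 : ℝ) < c := by exact_mod_cast hc
  have hdR : (0 : ℝ) < d := by exact_mod_cast hd
  have hcd : (0 : ℝ) < (c : ℝ) + d := by positivity
  have key := Real.geom_mean_le_arith_mean2_weighted
    (w₁ := (c : ℝ) / (c + d)) (w₂ := (d : ℝ) / (c + d)) (p₁ := (a : ℝ) / c) (p₂ := (b : ℝ) / d)
    (by positivity) (by positivity) (by positivity) (by positivity)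
    (by field_simp)
  have hrhs : (c : ℝ) / (c + d) * ((a : ℝ) / c) + (d : ℝ) / (c + d) * ((b : ℝ) / d)
      = ((a : ℝ) + b) / (c + d) := by
    field_simp
  rw [hrhs] at key
  have h1 : (((a : ℝ) / c) ^ ((c : ℝ) / (c + d)) * ((b : ℝ) / d) ^ ((d : ℝ) / (c + d))) ^ (c + d)
      ≤ (((a : ℝ) + b) / (c + d)) ^ (c + d) :=
    pow_le_pow_left₀ (by positivity) key _
  have e1 : (((a : ℝ) / c) ^ ((c : ℝ) / (c + d))) ^ (c + d) = ((a : ℝ) / c) ^ c := by
    rw [← Real.rpow_mul_natCast (by positivity)]
    have : (c : ℝ) / (c + d) * ((c + d : ℕ) : ℝ) = ((c : ℕ) : ℝ) := by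
      push_cast; field_simp
    rw [this, Real.rpow_natCast]
  have e2 : (((b : ℝ) / d) ^ ((d : ℝ) / (c + d))) ^ (c + d) = ((b : ℝ) / d) ^ d := by
    rw [← Real.rpow_mul_natCast (by positivity)]
    have : (d : ℝ) / (c + d) * ((c + d : ℕ) : ℝ) = ((d : ℕ) : ℝ) := by
      push_cast; field_simp
    rw [this, Real.rpow_natCast]
  rw [mul_pow, e1, e2, div_pow, div_pow, div_pow] at h1
  have h2 : (a : ℝ) ^ c * (b : ℝ) ^ d * ((c : ℝ) + d) ^ (c + d)
      ≤ ((a : ℝ) + b) ^ (c + d) * (c : ℝ) ^ c * (d : ℝ) ^ d := by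
    have hc' : (0 : ℝ) < (c : ℝ) ^ c := by positivity
    have hd' : (0 : ℝ) < (d : ℝ) ^ d := by positivity
    have hcd' : (0 : ℝ) < ((c : ℝ) + d) ^ (c + d) := by positivity
    rw [div_mul_div_comm, div_le_div_iff₀ (by positivity) hcd'] at h1
    nlinarith [h1]
  exact_mod_cast h2

theorem self_pow_pos (n : ℕ) : 0 < n ^ n := by
  rcases Nat.eq_zero_or_pos n with h | h
  · subst h; simp
  · exact Nat.pow_pos h

theorem num_step (q m k' c K : ℕ) (hc : 1 ≤ c) (hq : 2 ^ c ≤ q) (hK : K * k' ^ k' ≤ m ^ k') :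
    q * K * (k' + c) ^ (k' + c) ≤ (q + m) ^ (k' + c) := by
  have hW := wamgm q m c k'
  have hc2 : c ≤ 2 ^ (c - 1) := by
    have := Nat.lt_two_pow_self (n := c - 1)
    omega
  have hcc : c ^ c ≤ q ^ (c - 1) := by
    calc c ^ c ≤ (2 ^ (c - 1)) ^ c := Nat.pow_le_pow_left hc2 _
      _ = (2 ^ c) ^ (c - 1) := by rw [← pow_mul, ← pow_mul, mul_comm]
      _ ≤ q ^ (c - 1) := Nat.pow_le_pow_left hq _
  have hqpos : 0 < q := lt_of_lt_of_le (Nat.pow_pos (by norm_num)) hq
  have hpos : 0 < q ^ (c - 1) * k' ^ k' := Nat.mul_pos (Nat.pow_pos hqpos) (self_pow_pos k')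
  apply Nat.le_of_mul_le_mul_left _ hpos
  have hqc : q ^ c = q ^ (c - 1) * q := by
    rw [← pow_succ]; congr 1; omega
  calc q ^ (c - 1) * k' ^ k' * (q * K * (k' + c) ^ (k' + c))
      = q ^ c * (K * k' ^ k') * (c + k') ^ (c + k') := by rw [hqc, add_comm k' c]; ring
    _ ≤ q ^ c * m ^ k' * (c + k') ^ (c + k') :=
        Nat.mul_le_mul_right _ (Nat.mul_le_mul_left _ hK)
    _ ≤ (q + m) ^ (c + k') * c ^ c * k' ^ k' := hW
    _ ≤ (q + m) ^ (c + k') * q ^ (c - 1) * k' ^ k' :=
        Nat.mul_le_mul_right _ (Nat.mul_le_mul_left _ hcc)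
    _ = q ^ (c - 1) * k' ^ k' * (q + m) ^ (k' + c) := by rw [add_comm k' c]; ring

universe u v

theorem key {Ω : Type v} [DecidableEq Ω] (p : ℕ) (hp : p.Prime) :
    ∀ (n : ℕ) (A : Type u) [CommGroup A] [Finite A] [MulAction A Ω] (Y : Finset Ω),
      Y.card ≤ n → (∀ a : A, ∀ y ∈ Y, a • y ∈ Y) → (∀ a : A, (∀ y ∈ Y, a • y = y) → a = 1) →
      IsPGroup p A → ∀ k : ℕ, Nat.card {x : A // x ^ p = 1} = p ^ k →
      Nat.card A * k ^ k ≤ Y.card ^ k := by
  haveI : Fact p.Prime := ⟨hp⟩
  intro n
  induction n using Nat.strong_induction_on with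
  | _ n ih =>
  intro A _ _ _ Y hYn hinv hfaith hA k hk
  classical
  rcases Nat.eq_zero_or_pos k with hk0 | hkpos
  · subst hk0
    have hcard : Nat.card A = 1 := by
      by_contra hne
      obtain ⟨j, hj⟩ := IsPGroup.iff_card.mp hA
      have hj0 : j ≠ 0 := by
        rintro rfl
        exact hne (by simpa using hj)
      have hdvd : p ∣ Nat.card A := by
        rw [hj]; exact dvd_pow_self p hj0
      obtain ⟨x, hx⟩ := exists_prime_orderOf_dvd_card' p hdvd
      have hx1 : x ≠ 1 := by
        rintro rfl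
        rw [orderOf_one] at hx
        exact hp.one_lt.ne hx
      have hxp : x ^ p = 1 := by rw [← hx]; exact pow_orderOf_eq_one x
      have hsub : Subsingleton {x : A // x ^ p = 1} := by
        rw [← Finite.card_le_one_iff_subsingleton, hk]; simp
      have := hsub.elim ⟨x, hxp⟩ ⟨1, one_pow p⟩
      exact hx1 (congrArg Subtype.val this)
    simp [hcard]
  · have hnontriv : ∃ s : A, s ^ p = 1 ∧ s ≠ 1 := by
      by_contra hcon
      push Not at hcon
      have hsub : Subsingleton {x : A // x ^ p = 1} :=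
        ⟨fun a b => Subtype.ext ((hcon a.1 a.2).trans (hcon b.1 b.2).symm)⟩
      have h1 : Nat.card {x : A // x ^ p = 1} ≤ 1 := Finite.card_le_one_iff_subsingleton.mpr hsub
      rw [hk] at h1
      have : 2 ≤ p ^ k := le_trans hp.two_le (Nat.le_self_pow hkpos.ne' p)
      omega
    obtain ⟨s, hsp, hs1⟩ := hnontriv
    have hx : ∃ x ∈ Y, s • x ≠ x := by
      by_contra hcon
      push Not at hcon
      exact hs1 (hfaith s hcon)
    obtain ⟨x, hxY, hsx⟩ := hx
    set K : Subgroup A := MulAction.stabilizer A x with hKdef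
    set SA : Subgroup A := (powMonoidHom p : A →* A).ker with hSA
    set T : Subgroup A := K ⊓ SA with hT
    have hmemSA : ∀ a : A, a ∈ SA ↔ a ^ p = 1 := by
      intro a; rw [hSA, MonoidHom.mem_ker, powMonoidHom_apply]
    have hSAcard : Nat.card SA = p ^ k := by
      rw [← hk]
      exact Nat.card_congr (Equiv.subtypeEquivRight (fun a => hmemSA a))
    obtain ⟨k', hk'⟩ := IsPGroup.iff_card.mp (hA.to_subgroup T)
    have hTK : Nat.card {b : K // b ^ p = 1} = p ^ k' := by
      rw [← hk']
      refine Nat.card_congr ⟨fun b => ⟨b.1.1, ⟨b.1.2, ?_⟩⟩, fun c => ⟨⟨c.1, c.2.1⟩, ?_⟩, ?_, ?_⟩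
      · refine (hmemSA _).mpr ?_
        have := congrArg Subtype.val b.2
        simpa using this
      · apply Subtype.ext
        have := (hmemSA c.1).mp c.2.2
        simpa using this
      · intro b; rfl
      · intro c; rfl
    have hrel : K.relIndex SA * p ^ k' = p ^ k := by
      rw [← hk', ← hSAcard]
      have h1 := (T.subgroupOf SA).index_mul_card
      have h2 : Nat.card (T.subgroupOf SA) = Nat.card T :=
        Nat.card_congr (Subgroup.subgroupOfEquivOfLe inf_le_right).toEquiv
      rw [h2] at h1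
      rw [← h1]
      congr 1
      exact (Subgroup.inf_relIndex_right K SA).symm
    have hsK : s ∉ K := by
      intro h
      exact hsx (MulAction.mem_stabilizer_iff.mp h)
    have hrel1 : K.relIndex SA ≠ 1 := by
      intro h
      rw [Subgroup.relIndex_eq_one] at h
      exact hsK (h ((hmemSA s).mpr hsp))
    have hrel0 : K.relIndex SA ≠ 0 := by
      intro h
      rw [h, zero_mul] at hrel
      exact (pow_pos hp.pos k).ne hrel
    have hk'k : k' < k := by
      have : p ^ k' < p ^ k := by
        rw [← hrel]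
        have : 2 ≤ K.relIndex SA := by omega
        have hpos : 0 < p ^ k' := pow_pos hp.pos k'
        nlinarith
      exact (Nat.pow_lt_pow_iff_right hp.one_lt).mp this
    have hKidx0 : K.index ≠ 0 := Subgroup.index_ne_zero_of_finite
    have hqge : p ^ (k - k') ≤ K.index := by
      have h1 : K.relIndex SA = p ^ (k - k') := by
        have : p ^ k = p ^ (k - k') * p ^ k' := by
          rw [← pow_add]; congr 1; omega
        rw [this] at hrel
        exact Nat.eq_of_mul_eq_mul_right (pow_pos hp.pos k') hrel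
      rw [← h1]
      exact Nat.le_of_dvd (Nat.pos_of_ne_zero hKidx0) (Subgroup.relIndex_dvd_index_of_normal K SA)
    -- the orbit
    set Y' : Finset Ω := Y.filter (fun y => y ∉ MulAction.orbit A x) with hY'
    have horbY : ∀ y ∈ MulAction.orbit A x, y ∈ Y := by
      intro y hy
      obtain ⟨g, rfl⟩ := hy
      exact hinv g x hxY
    have hcardY : Y'.card + K.index = Y.card := by
      have h1 := Finset.card_filter_add_card_filter_not (s := Y)
        (fun y => y ∈ MulAction.orbit A x)
      have h2 : (Y.filter (fun y => y ∈ MulAction.orbit A x)).card = K.index := by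
        rw [hKdef, MulAction.index_stabilizer]
        have : MulAction.orbit A x = ↑(Y.filter (fun y => y ∈ MulAction.orbit A x)) := by
          ext y
          simp only [Finset.coe_filter, Set.mem_setOf_eq]
          exact ⟨fun h => ⟨horbY y h, h⟩, fun h => h.2⟩
        conv_rhs => rw [this]
        rw [Set.ncard_coe_finset]
      rw [h2] at h1
      rw [hY']
      omega
    have hKinv : ∀ b : K, ∀ y ∈ Y', b • y ∈ Y' := by
      intro b y hy
      rw [hY', Finset.mem_filter] at hy ⊢
      refine ⟨hinv b.1 y hy.1, ?_⟩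
      intro hmem
      apply hy.2
      obtain ⟨g, hg⟩ := hmem
      refine ⟨(b.1)⁻¹ * g, ?_⟩
      change ((b.1)⁻¹ * g) • x = y
      rw [mul_smul]
      have hg' : g • x = b.1 • y := hg
      rw [hg', inv_smul_smul]
    have hKfaith : ∀ b : K, (∀ y ∈ Y', b • y = y) → b = 1 := by
      intro b hb
      apply Subtype.ext
      apply hfaith b.1
      intro y hy
      by_cases hyo : y ∈ MulAction.orbit A x
      · obtain ⟨g, rfl⟩ := hyo
        change b.1 • g • x = g • x
        rw [smul_comm]
        congr 1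
        exact MulAction.mem_stabilizer_iff.mp b.2
      · exact hb y (by rw [hY', Finset.mem_filter]; exact ⟨hy, hyo⟩)
    have hqpos : 0 < K.index := Nat.pos_of_ne_zero hKidx0
    have hY'lt : Y'.card < n := by omega
    have hIH := ih Y'.card hY'lt K Y' le_rfl hKinv hKfaith (hA.to_subgroup K) k' hTK
    have hAcard : Nat.card A = K.index * Nat.card K := (Subgroup.index_mul_card K).symm
    have h2c : 2 ^ (k - k') ≤ K.index :=
      le_trans (Nat.pow_le_pow_left hp.two_le _) hqge
    have hfin := num_step K.index Y'.card k' (k - k') (Nat.card K) (by omega) h2c hIH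
    have hkk : k' + (k - k') = k := by omega
    rw [hkk] at hfin
    rw [hAcard, ← hcardY, add_comm Y'.card]
    exact hfin

/-- Let p be a prime, Ω a finite set with n ≥ p elements, and A an abelian p-subgroup of the symmetric group on Ω whose elements of order dividing p number p^k (so k is the rank of A). Then |A| · k^k ≤ n^k, that is, |A| ≤ (n/k)^k. -/
theorem result {Ω : Type*} [Fintype Ω] [DecidableEq Ω]
    (p : ℕ) (hp : p.Prime) (hn : p ≤ Fintype.card Ω) (A : Subgroup (Equiv.Perm Ω)) (hA : IsPGroup p A) (hab : IsMulCommutative A)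
    (k : ℕ) (hk : Nat.card {x : A // x ^ p = 1} = p ^ k) :
    Nat.card A * k ^ k ≤ Fintype.card Ω ^ k := by
  letI : CommGroup ↥A :=
    { (inferInstance : Group ↥A) with mul_comm := fun a b => mul_comm' a b }
  have hfaith : ∀ a : ↥A, (∀ y ∈ (Finset.univ : Finset Ω), a • y = y) → a = 1 := by
    intro a ha
    apply Subtype.ext
    apply Equiv.ext
    intro y
    exact ha y (Finset.mem_univ y)
  have := key p hp (Fintype.card Ω) ↥A (Finset.univ : Finset Ω) (by simp)
    (fun a y _ => Finset.mem_univ _) hfaith hA k hk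
  simpa using this

end Cfsg.Agent.S3696
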