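import Cfsg.Statements.S3703
import Cfsg.Agent.Lib.helper67.FrobTrace
import Cfsg.Agent.Lib.helper84.Frobenius
import Cfsg.Agent.Lib.helper1.Coprime
import Cfsg.Agent.Lib.helper1.SZ
import Cfsg.Agent.S0042

set_option autoImplicit false
open Cfsg

namespace Cfsg.Agent.S3703

open scoped Pointwise
open Cfsg.Agent.Lib.helper67

/-- Let N be a normal subgroup of the finite group G such that G/N is a Frobenius group with kernel F and cyclic complement H, where the order of F is coprime to that of N and F is not contained in the image of C_G(N) in G/N. Then G has an element of order p·#H for some prime p dividing the order of N. (A standard tool in recognising groups by their element orders.) -/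
theorem result {G : Type*} [Group G] [Finite G] (N : Subgroup G) [N.Normal]
    (Fb Hb : Subgroup (G ⧸ N)) [Fb.Normal] (hHb : Cfsg.IsFrobeniusComplement Hb) (hker : Cfsg.frobeniusKernel Hb = (Fb : Set (G ⧸ N)))
    (hcyc : IsCyclic Hb) (hcop : (Nat.card Fb).Coprime (Nat.card N))
    (hnot : ¬ Fb ≤ (Subgroup.centralizer (N : Set G)).map (QuotientGroup.mk' N)) :
    ∃ p : ℕ, p.Prime ∧ p ∣ Nat.card N ∧ ∃ g : G, orderOf g = p * Nat.card Hb := by
  classical
  obtain ⟨y, rfl⟩ : ∃ y : G ⧸ N, Hb = Subgroup.zpowers y := by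
    obtain ⟨g, hg⟩ := hcyc.exists_generator
    refine ⟨(g : G ⧸ N), ?_⟩
    apply le_antisymm
    · intro x hx
      obtain ⟨k, hk⟩ := Subgroup.mem_zpowers_iff.mp (hg ⟨x, hx⟩)
      rw [Subgroup.mem_zpowers_iff]
      refine ⟨k, ?_⟩
      have := congrArg Subtype.val hk
      simpa using this
    · exact Subgroup.zpowers_le.mpr g.2
  rw [Nat.card_zpowers]
  by_contra hno
  have hNn : N.Normal := inferInstance
  set π : G →* G ⧸ N := QuotientGroup.mk' N with hπ
  have hπs : Function.Surjective π := QuotientGroup.mk'_surjective N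
  have hπN : ∀ g : G, π g = 1 ↔ g ∈ N := fun g => QuotientGroup.eq_one_iff g
  have hSpl : ∀ g : G, orderOf (π g) = orderOf y → g ^ orderOf y = 1 := by
    intro g hg
    by_contra h1
    exact hno (exists_orderOf_eq_prime_mul N g (orderOf y) hg h1)
  -- the Frobenius structure of the quotient
  obtain ⟨K, hKset, -, hKc⟩ := Cfsg.Agent.Lib.helper84.frobenius_kernel _ hHb
  have hKF : K = Fb := SetLike.coe_injective (hKset.trans hker)
  rw [hKF] at hKc
  have hTI := hHb.2.2
  have hcov : ∀ q : G ⧸ N, q ∉ Fb → ∃ g : G ⧸ N, q ∈ MulAut.conj g • Subgroup.zpowers y := by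
    intro q hq
    by_contra hc
    apply hq
    have h1 : q ∈ Cfsg.frobeniusKernel (Subgroup.zpowers y) :=
      Or.inr (fun g hg => hc ⟨g, hg⟩)
    rw [hker] at h1
    exact h1
  obtain ⟨K2, hK2set, -, hK2nil⟩ := Cfsg.Agent.S0042.result _ hHb
  have hK2 : K2 = Fb := SetLike.coe_injective (hK2set.trans hker)
  rw [hK2] at hK2nil
  haveI := hK2nil
  have hFbsol : Group.IsSolvable Fb := inferInstance
  -- the preimage `F` of the kernel and a complement `F₀` of `N` in it
  set F : Subgroup G := Fb.comap π with hF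
  have hNF : N ≤ F := by
    intro n hn
    show π n ∈ Fb
    rw [(hπN n).mpr hn]; exact one_mem _
  have hidx : (N.subgroupOf F).index = Nat.card Fb := by
    have h1 : N = (⊥ : Subgroup (G ⧸ N)).comap π := by
      show N = (QuotientGroup.mk' N).ker
      exact (QuotientGroup.ker_mk' N).symm
    show N.relIndex F = _
    conv_lhs => rw [h1]
    rw [Subgroup.relIndex_comap, Subgroup.relIndex_bot_left, hF,
      Subgroup.map_comap_eq_self_of_surjective hπs]
  have hcardN' : Nat.card (N.subgroupOf F) = Nat.card N :=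
    Nat.card_congr (Subgroup.subgroupOfEquivOfLe hNF).toEquiv
  obtain ⟨H₀, hH₀⟩ := Subgroup.exists_right_complement'_of_coprime (N := N.subgroupOf F)
    (by rw [hcardN', hidx]; exact hcop.symm)
  set F₀ : Subgroup G := H₀.map F.subtype with hF₀
  have hF₀F : F₀ ≤ F := Subgroup.map_subtype_le H₀
  have hNF₀ : ∀ x, x ∈ N → x ∈ F₀ → x = 1 := by
    intro x hxN hxF₀
    obtain ⟨z, hz, rfl⟩ := hxF₀
    have h1 : z ∈ N.subgroupOf F := hxN
    have h2 : z = 1 := Subgroup.disjoint_def.mp hH₀.disjoint h1 hz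
    rw [h2]; rfl
  have hdecomp : ∀ g ∈ F, ∃ n ∈ N, ∃ f ∈ F₀, g = n * f := by
    intro g hg
    obtain ⟨⟨n, f⟩, hnf, -⟩ := hH₀.existsUnique ⟨g, hg⟩
    refine ⟨((n : F) : G), n.2, ((f : F) : G), Subgroup.mem_map_of_mem F.subtype f.2, ?_⟩
    have := congrArg Subtype.val hnf
    simpa using this.symm
  have hsurjF₀ : ∀ q ∈ Fb, ∃ f ∈ F₀, π f = q := by
    intro q hq
    obtain ⟨g, rfl⟩ := hπs q
    obtain ⟨n, hn, f, hf, rfl⟩ := hdecomp g hq
    refine ⟨f, hf, ?_⟩
    rw [map_mul, (hπN n).mpr hn, one_mul]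
  have hπF₀ : ∀ f ∈ F₀, π f ∈ Fb := fun f hf => hF₀F hf
  let ρ : F₀ →* Fb := (π.comp F₀.subtype).codRestrict Fb (fun f => hπF₀ f f.2)
  have hρinj : Function.Injective ρ := by
    rw [injective_iff_map_eq_one]
    intro f hf
    have h1 : π (f : G) = 1 := congrArg Subtype.val hf
    exact Subtype.ext (hNF₀ _ ((hπN _).mp h1) f.2)
  have hF₀sol : Group.IsSolvable F₀ := Group.isSolvable_of_isSolvable_injective hρinj
  have hcardF₀ : Nat.card F₀ ∣ Nat.card Fb := Subgroup.card_dvd_of_injective ρ hρinj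
  have hcopF₀ : (Nat.card F₀).Coprime (Nat.card N) := Nat.Coprime.coprime_dvd_left hcardF₀ hcop
  have hF₀N : ¬ F₀ ≤ Subgroup.centralizer (N : Set G) := by
    intro hle
    apply hnot
    intro q hq
    obtain ⟨f, hf, rfl⟩ := hsurjF₀ q hq
    exact Subgroup.mem_map_of_mem _ (hle hf)
  -- an `F₀`-invariant Sylow subgroup of `N` not centralized by `F₀`
  have hF₀nN : F₀ ≤ Subgroup.normalizer (N : Set G) := by
    rw [Subgroup.normalizer_eq_top]; exact le_top
  obtain ⟨p, hp, P, hPn, hPc⟩ : ∃ (p : ℕ) (_ : Fact p.Prime) (P : Sylow p N),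
      F₀ ≤ Subgroup.normalizer ((((P : Subgroup N).map N.subtype : Subgroup G)) : Set G) ∧
      ¬ F₀ ≤ Subgroup.centralizer ((((P : Subgroup N).map N.subtype : Subgroup G)) : Set G) := by
    by_contra hall
    apply hF₀N
    have hT : N ⊓ Subgroup.centralizer (F₀ : Set G) = N := by
      apply Subgroup.eq_of_le_of_card_ge inf_le_left
      apply Nat.le_of_dvd Nat.card_pos
      rw [← Nat.factorization_prime_le_iff_dvd Nat.card_pos.ne' Nat.card_pos.ne']
      intro p hp
      haveI : Fact p.Prime := ⟨hp⟩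
      obtain ⟨P, hP⟩ := Cfsg.Agent.Lib.helper1.exists_invariant_sylow (p := p) F₀ N hF₀nN
        hcopF₀ (Or.inl hF₀sol)
      have hPc : F₀ ≤ Subgroup.centralizer
          ((((P : Subgroup N).map N.subtype : Subgroup G)) : Set G) := by
        by_contra h
        exact hall ⟨p, ⟨hp⟩, P, hP, h⟩
      have hPT : (P : Subgroup N).map N.subtype ≤ N ⊓ Subgroup.centralizer (F₀ : Set G) := by
        refine le_inf (Subgroup.map_subtype_le _) ?_
        intro x hx
        rw [Subgroup.mem_centralizer_iff]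
        intro f hf
        exact ((Subgroup.mem_centralizer_iff.mp (hPc hf)) x hx).symm
      have hcardP : Nat.card ((P : Subgroup N).map N.subtype)
          = p ^ (Nat.card N).factorization p := by
        rw [Subgroup.card_map_of_injective N.subtype_injective]
        exact Sylow.card_eq_multiplicity P
      have h1 := Subgroup.card_dvd_of_le hPT
      rw [hcardP] at h1
      exact (hp.pow_dvd_iff_le_factorization Nat.card_pos.ne').mp h1
    intro f hf
    rw [Subgroup.mem_centralizer_iff]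
    intro n hn
    have h1 : n ∈ N ⊓ Subgroup.centralizer (F₀ : Set G) := by rw [hT]; exact hn
    exact ((Subgroup.mem_centralizer_iff.mp h1.2) f hf).symm
  haveI := hp
  set P' : Subgroup G := (P : Subgroup N).map N.subtype with hP'
  have hP'N : P' ≤ N := Subgroup.map_subtype_le _
  set G₁ : Subgroup G := Subgroup.normalizer (P' : Set G) with hG₁
  have hfrat : G₁ ⊔ N = ⊤ := Sylow.normalizer_sup_eq_top P
  obtain ⟨x₀, hx₀⟩ := hπs y
  obtain ⟨x, hx, n₀, hn₀, hxn⟩ := Subgroup.mem_sup_of_normal_right.mp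
    (show x₀ ∈ G₁ ⊔ N by rw [hfrat]; trivial)
  have hπx : π x = y := by
    rw [← hx₀, ← hxn, map_mul, (hπN n₀).mpr hn₀, mul_one]
  set K : Subgroup G := N ⊓ G₁ with hK
  have hF₀G₁ : F₀ ≤ G₁ := hPn
  have hF₀K : F₀ ≤ Subgroup.normalizer (K : Set G) := by
    intro f hf
    rw [Subgroup.mem_normalizer_iff]
    intro k
    have hfG : f ∈ G₁ := hF₀G₁ hf
    constructor
    · rintro ⟨hkN, hkG⟩
      exact ⟨hNn.conj_mem k hkN f, G₁.mul_mem (G₁.mul_mem hfG hkG) (G₁.inv_mem hfG)⟩
    · rintro ⟨hkN, hkG⟩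
      have e : k = f⁻¹ * (f * k * f⁻¹) * f := by group
      rw [e]
      refine ⟨?_, G₁.mul_mem (G₁.mul_mem (G₁.inv_mem hfG) hkG) hfG⟩
      have := hNn.conj_mem _ hkN f⁻¹
      simpa using this
  have hKF₀ : K ⊓ F₀ = ⊥ := by
    rw [eq_bot_iff]; intro z hz
    rw [Subgroup.mem_bot]; exact hNF₀ z hz.1.1 hz.2
  have hKA : K ⊓ (MulAut.conj x • F₀) = ⊥ := by
    rw [eq_bot_iff]; intro z hz
    rw [Subgroup.mem_bot]
    have h1 : x⁻¹ * z * x ∈ F₀ := (frobTrace_mem_conj_smul F₀ x z).mp hz.2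
    have h2 : x⁻¹ * z * x ∈ N := by
      have := hNn.conj_mem z hz.1.1 x⁻¹
      simpa using this
    have h3 := hNF₀ _ h2 h1
    have := congrArg (fun t => x * t * x⁻¹) h3
    simpa [mul_assoc] using this
  have hFn : F.Normal := by rw [hF]; infer_instance
  have hsupgen : ∀ C : Subgroup G, C ≤ F ⊓ G₁ → (∀ g ∈ F, ∃ n ∈ N, ∃ c ∈ C, g = n * c) →
      K ⊔ C = F ⊓ G₁ := by
    intro C hC hdec
    apply le_antisymm
    · exact sup_le (inf_le_inf_right _ hNF) hC
    · intro g hg
      obtain ⟨n, hn, c, hc, rfl⟩ := hdec g hg.1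
      have hnG : n ∈ G₁ := by
        have e : n = (n * c) * c⁻¹ := by group
        rw [e]; exact G₁.mul_mem hg.2 (G₁.inv_mem (hC hc).2)
      exact Subgroup.mul_mem_sup ⟨hn, hnG⟩ hc
  have hsup : K ⊔ F₀ = K ⊔ (MulAut.conj x • F₀) := by
    rw [hsupgen F₀ (le_inf hF₀F hF₀G₁) hdecomp]
    symm
    apply hsupgen
    · intro z hz
      have h1 : x⁻¹ * z * x ∈ F₀ := (frobTrace_mem_conj_smul F₀ x z).mp hz
      have e : z = x * (x⁻¹ * z * x) * x⁻¹ := by group
      rw [e]
      exact ⟨hFn.conj_mem _ (hF₀F h1) x, G₁.mul_mem (G₁.mul_mem hx (hF₀G₁ h1)) (G₁.inv_mem hx)⟩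
    · intro g hg
      have h1 : x⁻¹ * g * x ∈ F := by
        have := hFn.conj_mem g hg x⁻¹
        simpa using this
      obtain ⟨n, hn, f, hf, hnf⟩ := hdecomp _ h1
      refine ⟨x * n * x⁻¹, hNn.conj_mem n hn x, x * f * x⁻¹, ?_, ?_⟩
      · rw [frobTrace_mem_conj_smul]
        have e : x⁻¹ * (x * f * x⁻¹) * x = f := by group
        rw [e]; exact hf
      · have e : g = x * (x⁻¹ * g * x) * x⁻¹ := by group
        rw [e, hnf]; group
  have hcopK : (Nat.card K).Coprime (Nat.card F₀) :=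
    (Nat.Coprime.coprime_dvd_right (Subgroup.card_dvd_of_le inf_le_left) hcopF₀).symm
  obtain ⟨n₁, hn₁, hconj⟩ := Cfsg.Agent.Lib.helper1.sz_conj_internal K F₀ (MulAut.conj x • F₀)
    hF₀K hKF₀ hKA hsup hcopK (Or.inr hF₀sol)
  -- the lift `c` of the generator of the complement normalizing `F₀` and `P'`
  set c : G := n₁⁻¹ * x with hc
  have hcG₁ : c ∈ G₁ := G₁.mul_mem (G₁.inv_mem hn₁.2) hx
  have hπc : π c = y := by
    rw [hc, map_mul, map_inv, (hπN n₁).mpr hn₁.1, inv_one, one_mul, hπx]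
  have hcF₀ : c ∈ Subgroup.normalizer (F₀ : Set G) := by
    apply Cfsg.Agent.Lib.helper1.mem_normalizer_of_conj_smul_eq
    rw [hc, ← Cfsg.Agent.Lib.helper1.conj_smul_conj_smul, ← hconj,
      Cfsg.Agent.Lib.helper1.conj_smul_conj_smul, inv_mul_cancel]
    simp
  set E : Subgroup G := F₀ ⊔ Subgroup.zpowers c with hE
  have hF₀E : F₀ ≤ E := le_sup_left
  have hcE : c ∈ E := (le_sup_right : Subgroup.zpowers c ≤ E) (Subgroup.mem_zpowers c)
  have hc1 : c ^ orderOf y = 1 := hSpl c (by rw [hπc])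
  have hspl : ∀ u ∈ N, (u * c) ^ orderOf (π c) = 1 := by
    intro u hu
    rw [hπc]
    apply hSpl
    rw [map_mul, (hπN u).mpr hu, one_mul, hπc]
  have hzc : Subgroup.zpowers c ≤ Subgroup.normalizer (F₀ : Set G) :=
    Subgroup.zpowers_le.mpr hcF₀
  have hEmem : ∀ e ∈ E, ∃ f ∈ F₀, ∃ k : ℤ, e = f * c ^ k := by
    intro e he
    obtain ⟨f, hf, z, hz, rfl⟩ := Cfsg.Agent.Lib.helper1.mem_sup_normal_left hzc he
    obtain ⟨k, rfl⟩ := Subgroup.mem_zpowers_iff.mp hz
    exact ⟨f, hf, k, rfl⟩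
  have hdisjQ : ∀ q : G ⧸ N, q ∈ Fb → q ∈ Subgroup.zpowers y → q = 1 := fun q h1 h2 =>
    Subgroup.disjoint_def.mp hKc.disjoint h1 h2
  have hEbij : Function.Bijective (fun e : E => π (e : G)) := by
    constructor
    · have hinj : Function.Injective (π.comp E.subtype) := by
        rw [injective_iff_map_eq_one]
        intro e he
        have he' : π (e : G) = 1 := he
        obtain ⟨f, hf, k, hfk⟩ := hEmem e e.2
        rw [hfk, map_mul, map_zpow, hπc] at he'
        have h1 : π f = (y ^ k)⁻¹ := eq_inv_of_mul_eq_one_left he'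
        have h2 : π f = 1 := hdisjQ _ (hπF₀ f hf)
          (by rw [h1]; exact inv_mem (Subgroup.zpow_mem_zpowers y k))
        have h3 : f = 1 := hNF₀ f ((hπN f).mp h2) hf
        rw [h2, one_mul] at he'
        have h4 : c ^ k = 1 := by
          obtain ⟨j, hj⟩ := (orderOf_dvd_iff_zpow_eq_one.mpr he')
          rw [hj, zpow_mul, zpow_natCast, hc1, one_zpow]
        apply Subtype.ext
        rw [hfk, h3, h4, one_mul]; rfl
      exact hinj
    · intro q
      obtain ⟨⟨a, b⟩, hab, -⟩ := hKc.existsUnique q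
      obtain ⟨f, hf, hfa⟩ := hsurjF₀ a a.2
      obtain ⟨k, hk⟩ := Subgroup.mem_zpowers_iff.mp b.2
      refine ⟨⟨f * c ^ k, E.mul_mem (hF₀E hf) (E.zpow_mem hcE k)⟩, ?_⟩
      show π (f * c ^ k) = q
      rw [map_mul, map_zpow, hπc, hfa, hk]; exact hab
  have hEP' : E ≤ Subgroup.normalizer (P' : Set G) :=
    sup_le hF₀G₁ (Subgroup.zpowers_le.mpr hcG₁)
  have hP'sol : Group.IsSolvable P' := by
    have hPp : IsPGroup p P' := P.2.map N.subtype
    haveI := hPp.isNilpotent
    infer_instance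
  have hcentP := commute_of_frob_trace π N E F₀ Fb c hF₀E hcE hEbij hπF₀ (hπc ▸ hKc)
    (by rw [hπc]; exact hTI) (by rw [hπc]; exact hcov) hspl hcop hcopF₀ _ P' rfl hP'N hP'sol hEP'
  apply hPc
  intro f hf
  rw [Subgroup.mem_centralizer_iff]
  intro u hu
  exact (hcentP f hf u hu).symm

end Cfsg.Agent.S3703
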