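import Cfsg.Statements.S3704
import Mathlib
-- import your own Cfsg.Agent.* helpers here

set_option autoImplicit false
open Cfsg

namespace Cfsg.Agent.S3704

open MulAction

section
variable {G Ω : Type*} [Group G] [MulAction G Ω]

/-- indicator of `g⁻¹ • ω ∈ O` as a function on `G ⧸ H` -/
noncomputable def ind (H : Subgroup G) (O : Set Ω) (x : G ⧸ H) (ω : Ω) : ℚ := by
  classical
  exact if (Quotient.out x : G)⁻¹ • ω ∈ O then 1 else 0

theorem ind_mk (H : Subgroup G) (O : Set Ω) (hO : ∀ h ∈ H, ∀ ω ∈ O, h • ω ∈ O) (g : G) (ω : Ω)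
    [Decidable (g⁻¹ • ω ∈ O)] :
    ind H O (g : G ⧸ H) ω = if g⁻¹ • ω ∈ O then 1 else 0 := by
  classical
  unfold ind
  obtain ⟨h, hh⟩ := QuotientGroup.mk_out_eq_mul H g
  have hiff : ((Quotient.out (g : G ⧸ H) : G)⁻¹ • ω ∈ O) ↔ (g⁻¹ • ω ∈ O) := by
    rw [hh, mul_inv_rev, mul_smul]
    constructor
    · intro h1
      have := hO h h.2 _ h1
      simpa using this
    · intro h1
      exact hO (h : G)⁻¹ (inv_mem h.2) _ h1
  by_cases hc : g⁻¹ • ω ∈ O
  · rw [if_pos hc, if_pos (hiff.mpr hc)]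
  · rw [if_neg hc, if_neg (fun h' => hc (hiff.mp h'))]

theorem ind_eq_zero_or_one (H : Subgroup G) (O : Set Ω) (x : G ⧸ H) (ω : Ω) :
    ind H O x ω = 0 ∨ ind H O x ω = 1 := by
  classical
  unfold ind
  split_ifs <;> simp

theorem ind_nonneg (H : Subgroup G) (O : Set Ω) (x : G ⧸ H) (ω : Ω) : 0 ≤ ind H O x ω := by
  rcases ind_eq_zero_or_one H O x ω with h | h <;> rw [h] <;> norm_num

theorem ind_le_one (H : Subgroup G) (O : Set Ω) (x : G ⧸ H) (ω : Ω) : ind H O x ω ≤ 1 := by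
  rcases ind_eq_zero_or_one H O x ω with h | h <;> rw [h] <;> norm_num

theorem ind_smul (H : Subgroup G) (O : Set Ω) (hO : ∀ h ∈ H, ∀ ω ∈ O, h • ω ∈ O) (k : G)
    (x : G ⧸ H) (ω : Ω) : ind H O (k • x) (k • ω) = ind H O x ω := by
  classical
  induction x using QuotientGroup.induction_on with
  | H g =>
    rw [MulAction.Quotient.smul_mk, ind_mk H O hO, ind_mk H O hO]
    have : (k • g)⁻¹ • k • ω = g⁻¹ • ω := by
      rw [smul_eq_mul, mul_inv_rev, mul_smul, inv_smul_smul]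
    rw [this]

/-- the "inner product" of two columns -/
noncomputable def ip (H : Subgroup G) [Fintype (G ⧸ H)] (O O' : Set Ω) (ω ω' : Ω) : ℚ :=
  ∑ x : G ⧸ H, ind H O x ω * ind H O' x ω'

theorem ip_smul (H : Subgroup G) [Fintype (G ⧸ H)] (O O' : Set Ω)
    (hO : ∀ h ∈ H, ∀ ω ∈ O, h • ω ∈ O) (hO' : ∀ h ∈ H, ∀ ω ∈ O', h • ω ∈ O') (k : G) (ω ω' : Ω) :
    ip H O O' (k • ω) (k • ω') = ip H O O' ω ω' := by
  unfold ip
  rw [← Equiv.sum_comp (MulAction.toPerm k)
    (fun x : G ⧸ H => ind H O x (k • ω) * ind H O' x (k • ω'))]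
  apply Finset.sum_congr rfl
  intro x _
  rw [MulAction.toPerm_apply, ind_smul H O hO, ind_smul H O' hO']


theorem three_sets_false [Finite G] [Finite Ω] (h2 : IsMultiplyPretransitive G Ω 2)
    (H : Subgroup G) (hidx : H.index = Nat.card Ω) (O₁ O₂ O₃ : Set Ω)
    (hO₁ : ∀ h ∈ H, ∀ ω ∈ O₁, h • ω ∈ O₁) (hO₂ : ∀ h ∈ H, ∀ ω ∈ O₂, h • ω ∈ O₂)
    (hO₃ : ∀ h ∈ H, ∀ ω ∈ O₃, h • ω ∈ O₃)
    (h12 : Disjoint O₁ O₂) (h13 : Disjoint O₁ O₃) (h23 : Disjoint O₂ O₃)
    (ω₁ ω₂ ω₃ : Ω) (hω₁ : ω₁ ∈ O₁) (hω₂ : ω₂ ∈ O₂) (hω₃ : ω₃ ∈ O₃) : False := by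
  classical
  have : Fintype Ω := Fintype.ofFinite Ω
  have : Fintype (G ⧸ H) := Fintype.ofFinite (G ⧸ H)
  have h2' : ∀ {a b c d : Ω}, a ≠ b → c ≠ d → ∃ g : G, g • a = c ∧ g • b = d :=
    is_two_pretransitive_iff.mp h2
  have htrans : IsPretransitive G Ω := @isPretransitive_of_is_two_pretransitive G Ω _ _ h2
  have hne12 : ω₁ ≠ ω₂ := fun h => Set.disjoint_left.mp h12 hω₁ (h ▸ hω₂)
  have hne13 : ω₁ ≠ ω₃ := fun h => Set.disjoint_left.mp h13 hω₁ (h ▸ hω₃)
  -- off-diagonal and diagonal constancy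
  have hoff : ∀ (O O' : Set Ω), (∀ h ∈ H, ∀ ω ∈ O, h • ω ∈ O) → (∀ h ∈ H, ∀ ω ∈ O', h • ω ∈ O') →
      ∀ a b c d : Ω, a ≠ b → c ≠ d → ip H O O' a b = ip H O O' c d := by
    intro O O' hO hO' a b c d hab hcd
    obtain ⟨g, rfl, rfl⟩ := h2' hab hcd
    rw [ip_smul H O O' hO hO']
  have hdiag : ∀ (O O' : Set Ω), (∀ h ∈ H, ∀ ω ∈ O, h • ω ∈ O) → (∀ h ∈ H, ∀ ω ∈ O', h • ω ∈ O') →
      ∀ a c : Ω, ip H O O' a a = ip H O O' c c := by
    intro O O' hO hO' a c
    obtain ⟨g, rfl⟩ := exists_smul_eq G a c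
    rw [ip_smul H O O' hO hO']
  -- values at the identity coset
  have hone : ∀ (O : Set Ω), (∀ h ∈ H, ∀ ω ∈ O, h • ω ∈ O) → ∀ ω : Ω,
      ind H O ((1 : G) : G ⧸ H) ω = if ω ∈ O then 1 else 0 := by
    intro O hO ω
    rw [ind_mk H O hO]
    simp
  set k := ip H O₁ O₁ ω₁ ω₁ with hk
  set β := ip H O₁ O₁ ω₁ ω₂ with hβ
  set β₂ := ip H O₁ O₂ ω₁ ω₂ with hβ₂
  set β₃ := ip H O₁ O₃ ω₁ ω₃ with hβ₃
  -- disjointness gives zero diagonal
  have hzero : ∀ (O' : Set Ω), (∀ h ∈ H, ∀ ω ∈ O', h • ω ∈ O') → Disjoint O₁ O' →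
      ∀ a : Ω, ip H O₁ O' a a = 0 := by
    intro O' hO' hdis a
    unfold ip
    apply Finset.sum_eq_zero
    intro x _
    induction x using QuotientGroup.induction_on with
    | H g =>
      rw [ind_mk H O₁ hO₁, ind_mk H O' hO']
      by_cases h1 : g⁻¹ • a ∈ O₁
      · rw [if_neg (fun h' => Set.disjoint_left.mp hdis h1 h'), mul_zero]
      · rw [if_neg h1, zero_mul]
  have hpos : ∀ (O' : Set Ω), (∀ h ∈ H, ∀ ω ∈ O', h • ω ∈ O') → ∀ b ∈ O', 0 < ip H O₁ O' ω₁ b := by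
    intro O' hO' b hb
    unfold ip
    have hterm : ind H O₁ ((1 : G) : G ⧸ H) ω₁ * ind H O' ((1 : G) : G ⧸ H) b = 1 := by
      rw [hone O₁ hO₁, hone O' hO', if_pos hω₁, if_pos hb, mul_one]
    have hle : ind H O₁ ((1 : G) : G ⧸ H) ω₁ * ind H O' ((1 : G) : G ⧸ H) b
        ≤ ∑ x : G ⧸ H, ind H O₁ x ω₁ * ind H O' x b :=
      Finset.single_le_sum (f := fun x : G ⧸ H => ind H O₁ x ω₁ * ind H O' x b)
        (fun x _ => mul_nonneg (ind_nonneg _ _ _ _) (ind_nonneg _ _ _ _)) (Finset.mem_univ _)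
    linarith
  have hβ₂pos : 0 < β₂ := hpos O₂ hO₂ ω₂ hω₂
  have hβ₃pos : 0 < β₃ := hpos O₃ hO₃ ω₃ hω₃
  have hβnonneg : 0 ≤ β := by
    rw [hβ]; unfold ip
    exact Finset.sum_nonneg (fun x _ => mul_nonneg (ind_nonneg _ _ _ _) (ind_nonneg _ _ _ _))
  -- k > β
  have hkβ : β < k := by
    have hle : ∀ x : G ⧸ H, ind H O₁ x ω₁ * ind H O₁ x ω₂ ≤ ind H O₁ x ω₁ * ind H O₁ x ω₁ := by
      intro x
      rcases ind_eq_zero_or_one H O₁ x ω₁ with h | h <;> rw [h]
      · simp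
      · simpa using ind_le_one H O₁ x ω₂
    have hlt : ind H O₁ ((1 : G) : G ⧸ H) ω₁ * ind H O₁ ((1 : G) : G ⧸ H) ω₂
        < ind H O₁ ((1 : G) : G ⧸ H) ω₁ * ind H O₁ ((1 : G) : G ⧸ H) ω₁ := by
      rw [hone O₁ hO₁, hone O₁ hO₁, if_pos hω₁,
        if_neg (fun h' => Set.disjoint_left.mp h12 h' hω₂)]
      norm_num
    rw [hβ, hk]
    unfold ip
    exact Finset.sum_lt_sum (fun x _ => hle x) ⟨_, Finset.mem_univ _, hlt⟩
  -- the Gram matrix of the first orbit
  have hgram : ∀ a b : Ω, ip H O₁ O₁ a b = β + (k - β) * (if a = b then 1 else 0) := by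
    intro a b
    by_cases hab : a = b
    · subst hab
      rw [if_pos rfl, hdiag O₁ O₁ hO₁ hO₁ a ω₁]
      ring
    · rw [if_neg hab, hoff O₁ O₁ hO₁ hO₁ a b ω₁ ω₂ hab hne12]
      ring
  -- injectivity of the incidence map
  let L : (Ω → ℚ) →ₗ[ℚ] ((G ⧸ H) → ℚ) :=
    { toFun := fun w x => ∑ ω : Ω, ind H O₁ x ω * w ω
      map_add' := by
        intro w w'
        funext x
        simp only [Pi.add_apply, mul_add, Finset.sum_add_distrib]
      map_smul' := by
        intro c w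
        funext x
        simp only [Pi.smul_apply, smul_eq_mul, RingHom.id_apply, Finset.mul_sum]
        apply Finset.sum_congr rfl
        intro ω _
        ring }
  have hLapp : ∀ (w : Ω → ℚ) (x : G ⧸ H), L w x = ∑ ω : Ω, ind H O₁ x ω * w ω := fun w x => rfl
  have hquad : ∀ w : Ω → ℚ, ∑ x : G ⧸ H, L w x * L w x
      = β * ((∑ ω : Ω, w ω) * (∑ ω : Ω, w ω)) + (k - β) * ∑ ω : Ω, w ω * w ω := by
    intro w
    have h1 : ∀ x : G ⧸ H, L w x * L w x
        = ∑ a : Ω, ∑ b : Ω, w a * w b * (ind H O₁ x a * ind H O₁ x b) := by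
      intro x
      rw [hLapp, Finset.sum_mul_sum]
      apply Finset.sum_congr rfl
      intro a _
      apply Finset.sum_congr rfl
      intro b _
      ring
    rw [Finset.sum_congr rfl (fun x _ => h1 x), Finset.sum_comm]
    have h2 : ∀ a : Ω, ∑ x : G ⧸ H, ∑ b : Ω, w a * w b * (ind H O₁ x a * ind H O₁ x b)
        = ∑ b : Ω, w a * w b * (β + (k - β) * (if a = b then 1 else 0)) := by
      intro a
      rw [Finset.sum_comm]
      apply Finset.sum_congr rfl
      intro b _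
      rw [← Finset.mul_sum, ← hgram a b]
      rfl
    rw [Finset.sum_congr rfl (fun a _ => h2 a)]
    have h3 : ∀ a : Ω, ∑ b : Ω, w a * w b * (β + (k - β) * (if a = b then 1 else 0))
        = β * (w a * ∑ b : Ω, w b) + (k - β) * (w a * w a) := by
      intro a
      have : ∀ b : Ω, w a * w b * (β + (k - β) * (if a = b then 1 else 0))
          = β * (w a * w b) + (k - β) * (if a = b then w a * w b else 0) := by
        intro b
        split_ifs <;> ring
      rw [Finset.sum_congr rfl (fun b _ => this b), Finset.sum_add_distrib, ← Finset.mul_sum,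
        ← Finset.mul_sum, ← Finset.mul_sum, Finset.sum_ite_eq]
      simp
    rw [Finset.sum_congr rfl (fun a _ => h3 a), Finset.sum_add_distrib, ← Finset.mul_sum,
      ← Finset.mul_sum, ← Finset.sum_mul]
  have hLinj : Function.Injective L := by
    rw [injective_iff_map_eq_zero]
    intro w hw
    have h1 := hquad w
    rw [hw] at h1
    simp only [Pi.zero_apply, mul_zero, Finset.sum_const_zero] at h1
    have h2 : 0 ≤ β * ((∑ ω : Ω, w ω) * (∑ ω : Ω, w ω)) :=
      mul_nonneg hβnonneg (mul_self_nonneg _)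
    have h3 : 0 ≤ ∑ ω : Ω, w ω * w ω := Finset.sum_nonneg (fun ω _ => mul_self_nonneg _)
    have h4 : ∑ ω : Ω, w ω * w ω = 0 := by
      have h5 : (k - β) * ∑ ω : Ω, w ω * w ω ≤ 0 := by linarith
      have h6 : 0 < k - β := by linarith
      nlinarith
    funext ω
    have h7 := (Finset.sum_eq_zero_iff_of_nonneg (fun ω _ => mul_self_nonneg (w ω))).mp h4 ω
      (Finset.mem_univ _)
    simpa using h7
  have hLsurj : Function.Surjective L := by
    have hfin : Module.finrank ℚ (Ω → ℚ) = Module.finrank ℚ ((G ⧸ H) → ℚ) := by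
      rw [Module.finrank_fintype_fun_eq_card, Module.finrank_fintype_fun_eq_card,
        ← Nat.card_eq_fintype_card, ← Nat.card_eq_fintype_card, ← hidx]
      rfl
    exact (LinearMap.injective_iff_surjective_of_finrank_eq_finrank hfin).mp hLinj
  -- the vector orthogonal to all columns
  let v : (G ⧸ H) → ℚ := fun x => β₃ * ind H O₂ x ω₂ - β₂ * ind H O₃ x ω₂
  have horth : ∀ a : Ω, ∑ x : G ⧸ H, ind H O₁ x a * v x = 0 := by
    intro a
    have h1 : ∑ x : G ⧸ H, ind H O₁ x a * v x = β₃ * ip H O₁ O₂ a ω₂ - β₂ * ip H O₁ O₃ a ω₂ := by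
      unfold ip
      rw [Finset.mul_sum, Finset.mul_sum, ← Finset.sum_sub_distrib]
      apply Finset.sum_congr rfl
      intro x _
      simp only [v]
      ring
    rw [h1]
    by_cases ha : a = ω₂
    · subst ha
      rw [hzero O₂ hO₂ h12, hzero O₃ hO₃ h13]
      ring
    · rw [hoff O₁ O₂ hO₁ hO₂ a ω₂ ω₁ ω₂ ha hne12, hoff O₁ O₃ hO₁ hO₃ a ω₂ ω₁ ω₃ ha hne13]
      ring
  obtain ⟨w, hw⟩ := hLsurj v
  have hvv : ∑ x : G ⧸ H, v x * v x = 0 := by
    have h1 : ∀ x : G ⧸ H, v x * v x = ∑ a : Ω, w a * (ind H O₁ x a * v x) := by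
      intro x
      have hx : v x = ∑ ω : Ω, ind H O₁ x ω * w ω := by rw [← hw, hLapp]
      calc v x * v x = (∑ ω : Ω, ind H O₁ x ω * w ω) * v x := by rw [← hx]
        _ = ∑ a : Ω, w a * (ind H O₁ x a * v x) := by
          rw [Finset.sum_mul]
          apply Finset.sum_congr rfl
          intro a _
          ring
    rw [Finset.sum_congr rfl (fun x _ => h1 x), Finset.sum_comm]
    apply Finset.sum_eq_zero
    intro a _
    rw [← Finset.mul_sum, horth a, mul_zero]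
  have hv0 : v ((1 : G) : G ⧸ H) = 0 := by
    have := (Finset.sum_eq_zero_iff_of_nonneg (fun x _ => mul_self_nonneg (v x))).mp hvv
      ((1 : G) : G ⧸ H) (Finset.mem_univ _)
    simpa using this
  simp only [v] at hv0
  rw [hone O₂ hO₂, hone O₃ hO₃, if_pos hω₂, if_neg (fun h' => Set.disjoint_left.mp h23 hω₂ h')] at hv0
  linarith

end

/-- Let G be a finite group acting faithfully and 2-transitively on a finite set Ω of size n, and let H be a subgroup of index n in G which is not transitive on Ω and fixes no point of Ω. Then H has exactly two orbits on Ω. -/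
theorem result {G Ω : Type*} [Group G] [Finite G] [MulAction G Ω] [FaithfulSMul G Ω] [Finite Ω] (h2 : MulAction.IsMultiplyPretransitive G Ω 2) (H : Subgroup G) (hidx : H.index = Nat.card Ω) (hnt : ¬ MulAction.IsPretransitive H Ω) (hfix : ∀ a : Ω, ∃ h : H, h • a ≠ a) : Nat.card (MulAction.orbitRel.Quotient H Ω) = 2 := by
  classical
  have hfinQ : Finite (MulAction.orbitRel.Quotient H Ω) := Quotient.finite _
  have hge : 2 ≤ Nat.card (MulAction.orbitRel.Quotient H Ω) := by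
    by_contra hlt
    push Not at hlt
    have hle : Nat.card (MulAction.orbitRel.Quotient H Ω) ≤ 1 := by omega
    rw [Finite.card_le_one_iff_subsingleton] at hle
    exact hnt ((MulAction.pretransitive_iff_subsingleton_quotient H Ω).mpr hle)
  have hle : Nat.card (MulAction.orbitRel.Quotient H Ω) ≤ 2 := by
    by_contra hgt
    push Not at hgt
    have : Fintype (MulAction.orbitRel.Quotient H Ω) := Fintype.ofFinite _
    rw [Nat.card_eq_fintype_card] at hgt
    obtain ⟨c₁, c₂, c₃, h12, h13, h23⟩ := Fintype.two_lt_card_iff.mp hgt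
    have hinv : ∀ c : MulAction.orbitRel.Quotient H Ω, ∀ h ∈ H,
        ∀ ω ∈ {ω : Ω | (Quotient.mk'' ω : MulAction.orbitRel.Quotient H Ω) = c},
          h • ω ∈ {ω : Ω | (Quotient.mk'' ω : MulAction.orbitRel.Quotient H Ω) = c} := by
      intro c h hh ω hω
      rw [Set.mem_ofPred_eq] at hω ⊢
      rw [← hω]
      apply Quotient.sound'
      rw [MulAction.orbitRel_apply]
      exact MulAction.mem_orbit ω (⟨h, hh⟩ : H)
    have hdis : ∀ c c' : MulAction.orbitRel.Quotient H Ω, c ≠ c' →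
        Disjoint {ω : Ω | (Quotient.mk'' ω : MulAction.orbitRel.Quotient H Ω) = c}
          {ω : Ω | (Quotient.mk'' ω : MulAction.orbitRel.Quotient H Ω) = c'} := by
      intro c c' hcc
      rw [Set.disjoint_left]
      intro ω h1 h2
      rw [Set.mem_ofPred_eq] at h1 h2
      exact hcc (h1.symm.trans h2)
    exact three_sets_false h2 H hidx _ _ _ (hinv c₁) (hinv c₂) (hinv c₃)
      (hdis _ _ h12) (hdis _ _ h13) (hdis _ _ h23) c₁.out c₂.out c₃.out
      (Quotient.out_eq' c₁) (Quotient.out_eq' c₂) (Quotient.out_eq' c₃)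
  omega

end Cfsg.Agent.S3704
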