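import Cfsg.Statements.S3733
import Mathlib

set_option autoImplicit false
open Cfsg

namespace Cfsg.Agent.S3733

/-- Let A and V be subgroups of a finite group with V abelian and nontrivial and A normalizing V. Suppose a nonempty finite family of proper subgroups of A partitions A: every non-identity element of A lies in exactly one member. If the number of members minus one is coprime to the order of V, then some member B of the family has a non-identity fixed point on V, that is V ∩ C(B) ≠ 1. -/
theorem result {G : Type*} [Group G] [Finite G] (A V : Subgroup G) (hVab : IsMulCommutative V) (hV : V ≠ ⊥) (hAV : A ≤ Subgroup.normalizer (V : Set G)) (𝒜 : Finset (Subgroup G)) (hne : 𝒜.Nonempty) (hprop : ∀ B ∈ 𝒜, B < A) (hpart : ∀ a ∈ A, a ≠ 1 → ∃! B, B ∈ 𝒜 ∧ a ∈ B) (hk : (𝒜.card - 1).Coprime (Nat.card V)) : ∃ B ∈ 𝒜, V ⊓ Subgroup.centralizer (B : Set G) ≠ ⊥ := by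
  classical
  by_contra hcon
  push Not at hcon
  have hcon' : ∀ B ∈ 𝒜, V ⊓ Subgroup.centralizer (B : Set G) = ⊥ := hcon
  have : Fintype G := Fintype.ofFinite G
  have hVcomm : ∀ a b : V, a * b = b * a := fun a b => hVab.is_comm.comm a b
  let : CommGroup V := { (inferInstance : Group V) with mul_comm := hVcomm }
  have hnorm := Subgroup.le_normalizer_iff.mp hAV
  let c : G → V → V := fun g v => if hg : g ∈ A then ⟨g * v * g⁻¹, hnorm g hg v v.2⟩ else 1
  have hc_val : ∀ g ∈ A, ∀ v : V, ((c g v : V) : G) = g * v * g⁻¹ := by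
    intro g hg v
    simp only [c, dif_pos hg]
  have hc_mul : ∀ g ∈ A, ∀ v w : V, c g (v * w) = c g v * c g w := by
    intro g hg v w
    apply Subtype.ext
    rw [Subgroup.coe_mul, hc_val g hg, hc_val g hg, hc_val g hg, Subgroup.coe_mul]
    group
  have hc_comp : ∀ g ∈ A, ∀ h ∈ A, ∀ v : V, c g (c h v) = c (g * h) v := by
    intro g hg h hh v
    apply Subtype.ext
    rw [hc_val g hg, hc_val h hh, hc_val (g * h) (mul_mem hg hh)]
    group
  have hc_one : ∀ v : V, c 1 v = v := by
    intro v
    apply Subtype.ext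
    rw [hc_val 1 (one_mem A)]
    group
  have hc_map_one : ∀ g : G, c g 1 = 1 := by
    intro g
    by_cases hg : g ∈ A
    · apply Subtype.ext
      rw [hc_val g hg]
      simp
    · simp only [c, dif_neg hg]
  let N : Subgroup G → V → V := fun T v => ∏ g ∈ Finset.univ.filter (· ∈ T), c g v
  have hfix : ∀ T : Subgroup G, T ≤ A → ∀ v : V, ∀ t ∈ T, c t (N T v) = N T v := by
    intro T hT v t ht
    let φ : V →* V := { toFun := c t, map_one' := hc_map_one t, map_mul' := hc_mul t (hT ht) }
    change φ (N T v) = N T v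
    simp only [N]
    rw [map_prod]
    refine Finset.prod_bij' (fun g _ => t * g) (fun g _ => t⁻¹ * g) ?_ ?_ ?_ ?_ ?_
    · intro g hg
      simp only [Finset.mem_filter, Finset.mem_univ, true_and] at hg ⊢
      exact mul_mem ht hg
    · intro g hg
      simp only [Finset.mem_filter, Finset.mem_univ, true_and] at hg ⊢
      exact mul_mem (inv_mem ht) hg
    · intro g _; simp
    · intro g _; simp
    · intro g hg
      simp only [Finset.mem_filter, Finset.mem_univ, true_and] at hg
      exact hc_comp t (hT ht) g (hT hg) v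
  have hcent : ∀ T : Subgroup G, T ≤ A → ∀ v : V,
      ((N T v : V) : G) ∈ V ⊓ Subgroup.centralizer (T : Set G) := by
    intro T hT v
    refine Subgroup.mem_inf.mpr ⟨(N T v).2, ?_⟩
    rw [Subgroup.mem_centralizer_iff]
    intro t ht
    have h1 := congrArg Subtype.val (hfix T hT v t ht)
    rw [hc_val t (hT ht)] at h1
    have h2 : t * ((N T v : V) : G) * t⁻¹ * t = ((N T v : V) : G) * t := by rw [h1]
    simpa using h2
  have hNone : ∀ T : Subgroup G, T ≤ A → (∃ B ∈ 𝒜, B ≤ T) → ∀ v : V, N T v = 1 := by
    intro T hT ⟨B, hB, hBT⟩ v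
    have h1 := hcent T hT v
    have h2 : ((N T v : V) : G) ∈ V ⊓ Subgroup.centralizer (B : Set G) :=
      ⟨h1.1, Subgroup.centralizer_le hBT h1.2⟩
    rw [hcon' B hB, Subgroup.mem_bot] at h2
    exact Subtype.ext h2
  -- the product identity
  have hprod : ∀ v : V, ∏ B ∈ 𝒜, N B v = v ^ (𝒜.card - 1) * N A v := by
    intro v
    have h1 : ∀ B ∈ 𝒜, N B v = ∏ g : G, if g ∈ B then c g v else 1 := by
      intro B _
      simp only [N]
      rw [Finset.prod_filter]
    rw [Finset.prod_congr rfl h1, Finset.prod_comm]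
    have h2 : ∀ g : G, ∏ B ∈ 𝒜, (if g ∈ B then c g v else 1)
        = (if g = 1 then v ^ (𝒜.card - 1) else 1) * (if g ∈ A then c g v else 1) := by
      intro g
      rw [Finset.prod_ite, Finset.prod_const_one, mul_one, Finset.prod_const]
      by_cases hg1 : g = 1
      · subst hg1
        have : 𝒜.filter (fun B => (1 : G) ∈ B) = 𝒜 := by
          apply Finset.filter_true_of_mem
          intro B _; exact one_mem B
        rw [this, if_pos rfl, if_pos (one_mem A), hc_one, ← pow_succ]
        congr 1
        have := Finset.card_pos.mpr hne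
        omega
      · rw [if_neg hg1, one_mul]
        by_cases hgA : g ∈ A
        · rw [if_pos hgA]
          obtain ⟨B₀, ⟨hB₀, hgB₀⟩, huniq⟩ := hpart g hgA hg1
          have : 𝒜.filter (fun B => g ∈ B) = {B₀} := by
            ext B
            simp only [Finset.mem_filter, Finset.mem_singleton]
            constructor
            · intro h; exact huniq B h
            · rintro rfl; exact ⟨hB₀, hgB₀⟩
          rw [this, Finset.card_singleton, pow_one]
        · rw [if_neg hgA]
          have : 𝒜.filter (fun B => g ∈ B) = ∅ := by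
            apply Finset.filter_false_of_mem
            intro B hB hgB
            exact hgA ((hprop B hB).le hgB)
          rw [this, Finset.card_empty, pow_zero]
    rw [Finset.prod_congr rfl (fun g _ => h2 g), Finset.prod_mul_distrib, Finset.prod_ite_eq' ]
    simp only [Finset.mem_univ, if_true, N]
    rw [Finset.prod_filter]
  obtain ⟨B₀, hB₀⟩ := hne
  have hall : ∀ v : V, v ^ (𝒜.card - 1) = 1 := by
    intro v
    have h1 := hprod v
    rw [Finset.prod_congr rfl (fun B hB => hNone B (hprop B hB).le ⟨B, hB, le_rfl⟩ v),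
      Finset.prod_const_one, hNone A le_rfl ⟨B₀, hB₀, (hprop B₀ hB₀).le⟩ v, mul_one] at h1
    exact h1.symm
  apply hV
  rw [eq_bot_iff]
  intro x hx
  rw [Subgroup.mem_bot]
  have h1 := hall ⟨x, hx⟩
  have h2 : orderOf (⟨x, hx⟩ : V) ∣ 𝒜.card - 1 := orderOf_dvd_of_pow_eq_one h1
  have h3 : orderOf (⟨x, hx⟩ : V) ∣ Nat.card V := orderOf_dvd_natCard _
  have h4 : orderOf (⟨x, hx⟩ : V) = 1 := Nat.eq_one_of_dvd_coprimes hk h2 h3
  rw [orderOf_eq_one_iff] at h4
  exact congrArg Subtype.val h4

end Cfsg.Agent.S3733
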