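import Cfsg.Statements.S3735
import Mathlib
import Cfsg.Agent.Lib.helper65.Fitting

set_option autoImplicit false
open Cfsg

namespace Cfsg.Agent.S3735

open Subgroup Cfsg.Agent.Lib.helper65

/-- In a commutative subgroup, the join of two subgroups consists of products. -/
theorem mem_sup_of_comm {G : Type*} [Group G] {V W S : Subgroup G} (hVab : IsMulCommutative V)
    (hW : W ≤ V) (hS : S ≤ V) {x : G} (hx : x ∈ W ⊔ S) : ∃ w ∈ W, ∃ s ∈ S, x = w * s := by
  have hcomm : ∀ a ∈ V, ∀ b ∈ V, a * b = b * a := by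
    intro a ha b hb
    have := hVab.is_comm.comm (⟨a, ha⟩ : V) ⟨b, hb⟩
    exact congrArg Subtype.val this
  let P : Subgroup G :=
    { carrier := {x | ∃ w ∈ W, ∃ s ∈ S, x = w * s}
      one_mem' := ⟨1, one_mem _, 1, one_mem _, by simp⟩
      mul_mem' := by
        rintro _ _ ⟨w, hw, s, hs, rfl⟩ ⟨w', hw', s', hs', rfl⟩
        refine ⟨w * w', mul_mem hw hw', s * s', mul_mem hs hs', ?_⟩
        have := hcomm s (hS hs) w' (hW hw')
        calc w * s * (w' * s') = w * (s * w') * s' := by group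
          _ = w * (w' * s) * s' := by rw [this]
          _ = w * w' * (s * s') := by group
      inv_mem' := by
        rintro _ ⟨w, hw, s, hs, rfl⟩
        refine ⟨w⁻¹, inv_mem hw, s⁻¹, inv_mem hs, ?_⟩
        have := hcomm w⁻¹ (hW (inv_mem hw)) s⁻¹ (hS (inv_mem hs))
        rw [mul_inv_rev, this] }
  have hWP : W ≤ P := fun w hw => ⟨w, hw, 1, one_mem _, by simp⟩
  have hSP : S ≤ P := fun s hs => ⟨1, one_mem _, s, hs, by simp⟩
  exact (sup_le hWP hSP) hx


/-- Clifford's Theorem for actions on finite abelian groups, first part. Let H and V be subgroups of a finite group with V abelian and H normalizing V, and let A be a normal subgroup of H. If every H-invariant subgroup of V has an H-invariant complement in V, then every A-invariant subgroup of V has an A-invariant complement in V. -/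
theorem result {G : Type*} [Group G] [Finite G] (H A V : Subgroup G) (hVab : IsMulCommutative V) (hHV : H ≤ Subgroup.normalizer (V : Set G)) (hAH : A ≤ H) (hAn : H ≤ Subgroup.normalizer (A : Set G)) (hss : ∀ U : Subgroup G, U ≤ V → H ≤ Subgroup.normalizer (U : Set G) → ∃ W : Subgroup G, W ≤ V ∧ H ≤ Subgroup.normalizer (W : Set G) ∧ U ⊓ W = ⊥ ∧ U ⊔ W = V) (U : Subgroup G) (hUV : U ≤ V) (hAU : A ≤ Subgroup.normalizer (U : Set G)) : ∃ W : Subgroup G, W ≤ V ∧ A ≤ Subgroup.normalizer (W : Set G) ∧ U ⊓ W = ⊥ ∧ U ⊔ W = V := by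
  classical
  -- Step 1: V is generated by the minimal H-invariant subgroups
  have hsocH : V ≤ sSup {M : Subgroup G | M ≤ V ∧ IsMinInv H M} := by
    set T : Subgroup G := sSup {M : Subgroup G | M ≤ V ∧ IsMinInv H M} with hT
    have hTV : T ≤ V := sSup_le (fun M hM => hM.1)
    have hHT : H ≤ normalizer (T : Set G) := by
      apply le_normalizer_sSup_of_invariant
      intro k hk N hN
      rw [conjSub_eq_self_of_mem_normalizer (hN.2.2.1 hk)]
      exact hN
    obtain ⟨W, hWV, hHW, hTW, hTW'⟩ := hss T hTV hHT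
    have hW0 : W = ⊥ := by
      by_contra hW0
      obtain ⟨M₁, hM₁W, hM₁⟩ := exists_isMinInv_le (K := H) hW0 hHW
      have h1 : M₁ ≤ T := le_sSup ⟨hM₁W.trans hWV, hM₁⟩
      have h2 : M₁ ≤ T ⊓ W := le_inf h1 hM₁W
      rw [hTW, le_bot_iff] at h2
      exact hM₁.1 h2
    rw [hW0, sup_bot_eq] at hTW'
    exact hTW'.ge
  -- Step 2: every minimal H-invariant subgroup is generated by minimal A-invariant subgroups
  have hsocA : V ≤ sSup {S : Subgroup G | S ≤ V ∧ IsMinInv A S} := by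
    refine hsocH.trans (sSup_le ?_)
    rintro M ⟨hMV, hM⟩
    obtain ⟨M₁, hM₁M, hM₁⟩ := exists_isMinInv_le (K := A) hM.1 (hAH.trans hM.2.1)
    set T : Subgroup G := ⨆ h : H, conjSub (h : G) M₁ with hT
    have hTM : T ≤ M := by
      apply iSup_le
      intro h
      have h1 : conjSub (h : G) M₁ ≤ conjSub (h : G) M := conjSub_mono hM₁M
      rwa [conjSub_eq_self_of_mem_normalizer (hM.2.1 h.2)] at h1
    have hT0 : T ≠ ⊥ := by
      intro h
      have h1 : M₁ ≤ T := le_iSup_conjSub H M₁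
      rw [h, le_bot_iff] at h1
      exact hM₁.1 h1
    have hTeq : T = M := by
      rcases hM.2.2 T hTM (le_normalizer_iSup_conjSub H M₁) with h | h
      · exact absurd h hT0
      · exact h
    rw [← hTeq]
    apply iSup_le
    intro h
    apply le_sSup
    refine ⟨?_, isMinInv_conjSub hM₁ (hAn h.2)⟩
    have h1 : conjSub (h : G) M₁ ≤ conjSub (h : G) M := conjSub_mono hM₁M
    rw [conjSub_eq_self_of_mem_normalizer (hM.2.1 h.2)] at h1
    exact h1.trans hMV
  -- Step 3: a maximal A-invariant subgroup meeting U trivially is a complement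
  let 𝒲 : Set (Subgroup G) := {W | W ≤ V ∧ A ≤ normalizer (W : Set G) ∧ U ⊓ W = ⊥}
  have h𝒲 : 𝒲.Nonempty := ⟨⊥, bot_le, (bot_mem_piNormalSet (Set.univ) A).2.1, inf_bot_eq U⟩
  obtain ⟨W, hW, hmax⟩ := (Set.toFinite 𝒲).exists_maximal h𝒲
  refine ⟨W, hW.1, hW.2.1, hW.2.2, ?_⟩
  by_contra hne
  have hUWV : U ⊔ W ≤ V := sup_le hUV hW.1
  have hex : ∃ S : Subgroup G, (S ≤ V ∧ IsMinInv A S) ∧ ¬ S ≤ U ⊔ W := by
    by_contra hcon
    push Not at hcon
    exact hne (le_antisymm hUWV (hsocA.trans (sSup_le (fun S hS => hcon S hS))))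
  obtain ⟨S, ⟨hSV, hS⟩, hSn⟩ := hex
  have hSUW : S ⊓ (U ⊔ W) = ⊥ := by
    have h1 : A ≤ normalizer ((S ⊓ (U ⊔ W) : Subgroup G) : Set G) :=
      (le_inf hS.2.1 (le_normalizer_sup hAU hW.2.1)).trans Subgroup.inf_normalizer_le_normalizer_inf
    rcases hS.2.2 _ inf_le_left h1 with h | h
    · exact h
    · exact absurd (h ▸ inf_le_right) hSn
  have hW' : W ⊔ S ∈ 𝒲 := by
    refine ⟨sup_le hW.1 hSV, le_normalizer_sup hW.2.1 hS.2.1, ?_⟩
    rw [eq_bot_iff]
    rintro x ⟨hxU, hxWS⟩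
    obtain ⟨w, hw, s, hs, rfl⟩ := mem_sup_of_comm hVab hW.1 hSV hxWS
    have hsUW : s ∈ U ⊔ W := by
      have h1 : w⁻¹ * (w * s) ∈ U ⊔ W :=
        mul_mem (Subgroup.mem_sup_right (inv_mem hw)) (Subgroup.mem_sup_left hxU)
      simpa using h1
    have hs1 : s ∈ S ⊓ (U ⊔ W) := ⟨hs, hsUW⟩
    rw [hSUW, Subgroup.mem_bot] at hs1
    subst hs1
    have hw1 : w ∈ U ⊓ W := ⟨by simpa using hxU, hw⟩
    rw [hW.2.2, Subgroup.mem_bot] at hw1
    rw [Subgroup.mem_bot, hw1]; simp
  have hle : W ⊔ S ≤ W := hmax hW' le_sup_left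
  exact hSn ((le_sup_right.trans hle).trans le_sup_right)

end Cfsg.Agent.S3735
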