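import Cfsg.Statements.S3737
import Cfsg.Agent.Lib.helper37.BaerConj2

set_option autoImplicit false
open Cfsg

namespace Cfsg.Agent.S3737

/-- Thompson's strengthening of the P × Q lemma for odd primes. Let p be an odd prime and let P, Q and G be subgroups of a finite group with P a p-group, Q of order prime to p and normalized by P, and G a p-group normalized by both P and Q. If every element of G centralized by P is centralized by Q, then Q centralizes G. -/
theorem result {X : Type*} [Group X] [Finite X] {p : ℕ} [Fact p.Prime] (hp : p ≠ 2) (P Q G : Subgroup X) (hP : IsPGroup p P) (hQ : (Nat.card Q).Coprime p) (hPQ : P ≤ Subgroup.normalizer (Q : Set X)) (hG : IsPGroup p G) (hPG : P ≤ Subgroup.normalizer (G : Set X)) (hQG : Q ≤ Subgroup.normalizer (G : Set X)) (hC : G ⊓ Subgroup.centralizer (P : Set X) ≤ Subgroup.centralizer (Q : Set X)) : Q ≤ Subgroup.centralizer (G : Set X) := by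
  have hGH : G ≤ Subgroup.normalizer (G : Set X) := Subgroup.le_normalizer
  have : (G.subgroupOf (Subgroup.normalizer (G : Set X))).Normal := Subgroup.normal_in_normalizer
  have key := Cfsg.Agent.Lib.helper37.centralizer_of_baer_fix p hp
    (G.subgroupOf (Subgroup.normalizer (G : Set X)))
    (Q.subgroupOf (Subgroup.normalizer (G : Set X)))
    (P.subgroupOf (Subgroup.normalizer (G : Set X))) ?_ ?_ ?_ ?_ ?_
  · intro q hq
    rw [Subgroup.mem_centralizer_iff]
    intro g hg
    have h1 := key (show (⟨q, hQG hq⟩ : ↥(Subgroup.normalizer (G : Set X))) ∈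
      Q.subgroupOf (Subgroup.normalizer (G : Set X)) from hq)
    have h2 := Subgroup.mem_centralizer_iff.mp h1 ⟨g, hGH hg⟩ hg
    exact congrArg Subtype.val h2
  · exact hG.comap_of_injective _ (Subgroup.subtype_injective _)
  · rw [Nat.card_congr (Subgroup.subgroupOfEquivOfLe hQG).toEquiv]; exact hQ
  · exact hP.comap_of_injective _ (Subgroup.subtype_injective _)
  · intro x hx
    rw [Subgroup.mem_normalizer_iff]
    intro y
    exact Subgroup.mem_normalizer_iff.mp (hPQ hx) (y : X)
  · intro x hxG hxc hxp
    rw [Subgroup.mem_centralizer_iff]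
    intro q hq
    have h1 : (x : X) ∈ G ⊓ Subgroup.centralizer (P : Set X) := by
      refine Subgroup.mem_inf.mpr ⟨hxG, ?_⟩
      rw [Subgroup.mem_centralizer_iff]
      intro e he
      have h3 := Subgroup.mem_centralizer_iff.mp hxc ⟨e, hPG he⟩ he
      exact congrArg Subtype.val h3
    have h2 := Subgroup.mem_centralizer_iff.mp (hC h1) q hq
    exact Subtype.ext h2

end Cfsg.Agent.S3737
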