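import Mathlib
import Cfsg.Statements.S3740
import Cfsg.Agent.S2427
import Cfsg.Agent.Lib.helper46.DicksonThree

set_option autoImplicit false
open Cfsg

namespace Cfsg.Agent.S3740

/-- Let F be a finite field of odd characteristic p and let a be a p-element of SL₂(F) normalizing a subgroup R of order prime to p with [R, a] ≠ 1. Then p = 3, R is a quaternion group of order 8, and R⟨a⟩ is isomorphic to SL₂(3). -/
theorem result (F : Type) [Field F] [Fintype F] {p : ℕ} [Fact p.Prime] [CharP F p] (hp : p ≠ 2) (a : Matrix.SpecialLinearGroup (Fin 2) F) (ha : IsPGroup p ↥(Subgroup.zpowers a)) (R : Subgroup (Matrix.SpecialLinearGroup (Fin 2) F)) (hR : (Nat.card R).Coprime p) (haR : a ∈ Subgroup.normalizer (R : Set (Matrix.SpecialLinearGroup (Fin 2) F))) (hnt : ⁅R, Subgroup.zpowers a⁆ ≠ ⊥) : p = 3 ∧ Nonempty (↥R ≃* QuaternionGroup 2) ∧ Nonempty (↥(R ⊔ Subgroup.zpowers a) ≃* Matrix.SpecialLinearGroup (Fin 2) (ZMod 3)) := by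
  classical
  obtain ⟨rfl, hcard, φ, hinj, hrange⟩ :=
    Cfsg.Agent.Lib.helper46.dk3_structure p hp a ha R hR haR hnt
  let eH : ↥(R ⊔ Subgroup.zpowers a) ≃* Matrix.SpecialLinearGroup (Fin 2) (ZMod 3) :=
    ((MonoidHom.ofInjective hinj).trans (MulEquiv.subgroupCongr hrange)).symm
  refine ⟨rfl, ?_, ⟨eH⟩⟩
  obtain ⟨h24, hc2, hc8, ⟨eQ⟩, -, hnormal⟩ := Cfsg.Agent.S2427.result
  have hRH : R ≤ R ⊔ Subgroup.zpowers a := le_sup_left
  have hnorm : (R.subgroupOf (R ⊔ Subgroup.zpowers a)).Normal := by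
    rw [Subgroup.normal_subgroupOf_iff_le_normalizer hRH]
    exact sup_le Subgroup.le_normalizer (Subgroup.zpowers_le.mpr haR)
  have hN : ((R.subgroupOf (R ⊔ Subgroup.zpowers a)).map eH.toMonoidHom).Normal :=
    hnorm.map eH.toMonoidHom eH.surjective
  have e1 : R ≃* ((R.subgroupOf (R ⊔ Subgroup.zpowers a)).map eH.toMonoidHom) :=
    (Subgroup.subgroupOfEquivOfLe hRH).symm.trans
      (Subgroup.equivMapOfInjective _ eH.toMonoidHom eH.injective)
  have hNcard : Nat.card ((R.subgroupOf (R ⊔ Subgroup.zpowers a)).map eH.toMonoidHom) = 8 := by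
    rw [← Nat.card_congr e1.toEquiv, hcard]
  rcases hnormal _ hN with h | h | h | h
  · rw [h, Subgroup.card_bot] at hNcard
    omega
  · rw [h, Subgroup.card_top, h24] at hNcard
    omega
  · rw [h, hc2] at hNcard
    omega
  · exact ⟨e1.trans ((MulEquiv.subgroupCongr h).trans eQ)⟩

end Cfsg.Agent.S3740
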