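import Cfsg.Statements.S3741
import Mathlib

set_option autoImplicit false
open Cfsg

namespace Cfsg.Agent.S3741

open Subgroup
open scoped commutatorElement

/-- In a finite `p`-group, a subgroup normalizing a subgroup of order `p` centralizes it. -/
theorem le_centralizer_of_card_eq_prime {G : Type*} [Group G] [Finite G] {p : ℕ} [Fact p.Prime]
    (hG : IsPGroup p G) (Z A : Subgroup G) (hZ : Nat.card Z = p)
    (hA : A ≤ normalizer (Z : Set G)) : A ≤ centralizer (Z : Set G) := by
  classical
  have hnorm := Subgroup.le_normalizer_iff.mp hA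
  let : MulAction A Z :=
    { smul := fun a z => ⟨a * z * a⁻¹, hnorm a a.2 z z.2⟩
      one_smul := fun z => Subtype.ext (by change ((1 : A) : G) * z * ((1 : A) : G)⁻¹ = z; simp)
      mul_smul := fun a b z => Subtype.ext (by
        change ((a * b : A) : G) * z * ((a * b : A) : G)⁻¹ = a * (b * z * (b : G)⁻¹) * (a : G)⁻¹
        simp [mul_assoc]) }
  have hsmul : ∀ (a : A) (z : Z), ((a • z : Z) : G) = a * z * (a : G)⁻¹ := fun a z => rfl
  have hA' : IsPGroup p A := hG.to_subgroup A
  have hmod := hA'.card_modEq_card_fixedPoints Z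
  rw [hZ] at hmod
  have hp : p.Prime := Fact.out
  have hpos : 0 < Nat.card (MulAction.fixedPoints A Z) := by
    rw [Nat.card_pos_iff]
    refine ⟨⟨⟨1, ?_⟩⟩, inferInstance⟩
    intro a
    apply Subtype.ext
    rw [hsmul]
    simp
  have hdvd : p ∣ Nat.card (MulAction.fixedPoints A Z) := by
    apply Nat.dvd_of_mod_eq_zero
    have h := hmod
    unfold Nat.ModEq at h
    rw [← h, Nat.mod_self]
  have hle : p ≤ Nat.card (MulAction.fixedPoints A Z) := Nat.le_of_dvd hpos hdvd
  have hfix : (MulAction.fixedPoints A Z) = Set.univ := by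
    apply Set.eq_of_subset_of_ncard_le (Set.subset_univ _)
    rw [Set.ncard_univ, ← Nat.card_coe_set_eq, hZ]
    exact hle
  intro a ha
  rw [Subgroup.mem_centralizer_iff]
  intro z hz
  have h1 : (⟨z, hz⟩ : Z) ∈ MulAction.fixedPoints A Z := by rw [hfix]; trivial
  have h2 := congrArg Subtype.val (h1 ⟨a, ha⟩)
  rw [hsmul] at h2
  have h3 : a * z * a⁻¹ * a = z * a := by
    have h4 : a * z * a⁻¹ = z := h2
    rw [h4]
  simpa using h3.symm


theorem left_le_normalizer_commutator {G : Type*} [Group G] (A B : Subgroup G) :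
    A ≤ normalizer ((⁅A, B⁆ : Subgroup G) : Set G) := by
  have key : ∀ k ∈ A, (⁅A, B⁆ : Subgroup G).map (MulAut.conj k).toMonoidHom ≤ ⁅A, B⁆ := by
    intro k hk
    rw [Subgroup.commutator_def, MonoidHom.map_closure, Subgroup.closure_le]
    rintro _ ⟨_, ⟨g₁, hg₁, g₂, hg₂, rfl⟩, rfl⟩
    have h1 : (MulAut.conj k).toMonoidHom ⁅g₁, g₂⁆ = ⁅k * g₁, g₂⁆ * ⁅k, g₂⁆⁻¹ := by
      simp only [MulEquiv.toMonoidHom_eq_coe, MonoidHom.coe_coe, MulAut.conj_apply,
        commutatorElement_def]
      group
    rw [h1]
    have h2 : ⁅k * g₁, g₂⁆ ∈ ⁅A, B⁆ := Subgroup.commutator_mem_commutator (mul_mem hk hg₁) hg₂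
    have h3 : ⁅k, g₂⁆ ∈ ⁅A, B⁆ := Subgroup.commutator_mem_commutator hk hg₂
    rw [← Subgroup.commutator_def]
    exact mul_mem h2 (inv_mem h3)
  intro k hk
  rw [Subgroup.mem_normalizer_iff_map_conj_eq]
  apply le_antisymm (key k hk)
  intro x hx
  have h2 := key k⁻¹ (inv_mem hk)
  have h3 : k⁻¹ * x * k ∈ (⁅A, B⁆ : Subgroup G) := by
    apply h2
    refine ⟨x, hx, ?_⟩
    simp
  refine ⟨k⁻¹ * x * k, h3, ?_⟩
  simp [MulAut.conj_apply, mul_assoc]

/-- the number of elements of `B` commuting with a non-centralizing `a ∈ A` -/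
theorem card_commuting_mul_prime {G : Type*} [Group G] [Finite G] {p : ℕ} [Fact p.Prime]
    (A B : Subgroup G) (hZp : Nat.card ↥⁅A, B⁆ = p)
    (hZB : B ≤ centralizer ((⁅A, B⁆ : Subgroup G) : Set G))
    (a : G) (ha : a ∈ A) (hna : a ∉ centralizer (B : Set G)) :
    Nat.card {b : B // a * (b : G) = b * a} * p = Nat.card B := by
  classical
  have hp : p.Prime := Fact.out
  let φ : B →* (⁅A, B⁆ : Subgroup G) :=
    { toFun := fun b => ⟨⁅a, (b : G)⁆, Subgroup.commutator_mem_commutator ha b.2⟩
      map_one' := Subtype.ext (by simp)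
      map_mul' := fun b b' => Subtype.ext (by
        have hc : (b : G) * ⁅a, (b' : G)⁆ = ⁅a, (b' : G)⁆ * b := by
          have := hZB b.2
          rw [Subgroup.mem_centralizer_iff] at this
          exact (this _ (Subgroup.commutator_mem_commutator ha b'.2)).symm
        simp only [Subgroup.coe_mul, commutatorElement_def] at hc ⊢
        have e1 : a * ((b : G) * b') * a⁻¹ * ((b : G) * b')⁻¹
            = a * b * a⁻¹ * (b : G)⁻¹ * ((b : G) * (a * b' * a⁻¹ * (b' : G)⁻¹)) * (b : G)⁻¹ := by
          group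
        rw [e1, hc]
        group) }
  have hφ : ∀ b : B, ((φ b : (⁅A, B⁆ : Subgroup G)) : G) = ⁅a, (b : G)⁆ := fun b => rfl
  have hker : ∀ b : B, b ∈ φ.ker ↔ a * (b : G) = b * a := by
    intro b
    rw [MonoidHom.mem_ker, ← Subtype.coe_inj, hφ, Subgroup.coe_one, commutatorElement_eq_one_iff_mul_comm]
  have hcardker : Nat.card {b : B // a * (b : G) = b * a} = Nat.card φ.ker :=
    Nat.card_congr (Equiv.subtypeEquivRight (fun b => (hker b).symm))
  have hrange : φ.range = ⊤ := by
    have h1 : φ.range ≠ ⊥ := by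
      intro h
      apply hna
      rw [Subgroup.mem_centralizer_iff]
      intro b hb
      have h2 : φ ⟨b, hb⟩ ∈ φ.range := ⟨_, rfl⟩
      rw [h, Subgroup.mem_bot] at h2
      have h3 := (hker ⟨b, hb⟩).mp h2
      exact h3.symm
    have h2 : Nat.card φ.range ∣ p := hZp ▸ Subgroup.card_subgroup_dvd_card φ.range
    rcases (Nat.dvd_prime hp).mp h2 with h | h
    · exact absurd (Subgroup.eq_bot_of_card_eq _ h) h1
    · apply (Subgroup.card_eq_iff_eq_top _).mp
      rw [h, hZp]
  have h1 : Nat.card φ.ker * φ.ker.index = Nat.card B := Subgroup.card_mul_index _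
  rw [Subgroup.index_ker, hrange, Subgroup.card_top, hZp] at h1
  rw [hcardker, h1]


/-- counting commuting pairs by the first coordinate -/
theorem sum_commuting_count {G : Type*} [Group G] [Finite G] {p : ℕ} [Fact p.Prime]
    (A B : Subgroup G) (hZp : Nat.card ↥⁅A, B⁆ = p)
    (hZB : B ≤ centralizer ((⁅A, B⁆ : Subgroup G) : Set G)) :
    ∃ c c' : ℕ, c + c' = Nat.card A ∧ c = Nat.card ((centralizer (B : Set G)).subgroupOf A) ∧
      p * Nat.card {x : A × B // (x.1 : G) * x.2 = x.2 * x.1} = c * (p * Nat.card B) + c' * Nat.card B := by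
  classical
  have : Fintype A := Fintype.ofFinite A
  have hp : p.Prime := Fact.out
  set CA : Subgroup A := (centralizer (B : Set G)).subgroupOf A with hCA
  refine ⟨(Finset.univ.filter (fun a : A => a ∈ CA)).card,
    (Finset.univ.filter (fun a : A => ¬ a ∈ CA)).card, ?_, ?_, ?_⟩
  · rw [Finset.card_filter_add_card_filter_not, Finset.card_univ, Nat.card_eq_fintype_card]
  · rw [Nat.card_eq_fintype_card, Fintype.card_subtype]
  · rw [Nat.card_congr (Equiv.subtypeProdEquivSigmaSubtype
      (fun (a : A) (b : B) => (a : G) * b = b * a)), Nat.card_sigma, Finset.mul_sum]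
    have key : ∀ a : A, p * Nat.card {b : B // (a : G) * b = b * a}
        = if a ∈ CA then p * Nat.card B else Nat.card B := by
      intro a
      by_cases ha : a ∈ CA
      · rw [if_pos ha]
        congr 1
        have hall : ∀ b : B, (a : G) * b = b * a := by
          intro b
          have h1 : (a : G) ∈ centralizer (B : Set G) := ha
          rw [Subgroup.mem_centralizer_iff] at h1
          exact (h1 b b.2).symm
        exact Nat.card_congr (Equiv.subtypeUnivEquiv hall)
      · rw [if_neg ha, mul_comm]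
        exact card_commuting_mul_prime A B hZp hZB a a.2 ha
    rw [Finset.sum_congr rfl (fun a _ => key a), Finset.sum_ite, Finset.sum_const, Finset.sum_const,
      smul_eq_mul, smul_eq_mul]


/-- Let A and B be subgroups of a finite p-group with [A, B] ≤ A ∩ B and [A, B] of order at most p. Then |A : C_A(B)| = |B : C_B(A)|. -/
theorem result {G : Type*} [Group G] [Finite G] {p : ℕ} [Fact p.Prime] (hG : IsPGroup p G) (A B : Subgroup G) (hAB : ⁅A, B⁆ ≤ A ⊓ B) (hcard : Nat.card ↥⁅A, B⁆ ≤ p) : (A ⊓ Subgroup.centralizer (B : Set G)).relIndex A = (B ⊓ Subgroup.centralizer (A : Set G)).relIndex B := by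
  classical
  have hp : p.Prime := Fact.out
  rw [Subgroup.inf_relIndex_left, Subgroup.inf_relIndex_left]
  by_cases hZ : (⁅A, B⁆ : Subgroup G) = ⊥
  · have h1 : A ≤ centralizer (B : Set G) := Subgroup.commutator_eq_bot_iff_le_centralizer.mp hZ
    have h2 : B ≤ centralizer (A : Set G) :=
      Subgroup.commutator_eq_bot_iff_le_centralizer.mp (by rw [Subgroup.commutator_comm]; exact hZ)
    rw [Subgroup.relIndex_eq_one.mpr h1, Subgroup.relIndex_eq_one.mpr h2]
  · have hZp : Nat.card ↥⁅A, B⁆ = p := by
      obtain ⟨k, hk⟩ := (IsPGroup.iff_card).mp (hG.to_subgroup ⁅A, B⁆)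
      have hk0 : k ≠ 0 := by
        rintro rfl
        rw [pow_zero] at hk
        exact hZ (Subgroup.eq_bot_of_card_eq _ hk)
      rw [hk] at hcard ⊢
      have hk1 : k = 1 := by
        by_contra hk1
        have h1 : 2 ≤ k := by omega
        have h2 : p ^ 2 ≤ p ^ k := Nat.pow_le_pow_right hp.pos h1
        have h3 : p < p ^ 2 := by nlinarith [hp.two_le]
        omega
      rw [hk1, pow_one]
    have hAc : A ≤ centralizer ((⁅A, B⁆ : Subgroup G) : Set G) :=
      le_centralizer_of_card_eq_prime hG _ A hZp (left_le_normalizer_commutator A B)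
    have hZp' : Nat.card ↥⁅B, A⁆ = p := by rw [Subgroup.commutator_comm]; exact hZp
    have hBc : B ≤ centralizer ((⁅A, B⁆ : Subgroup G) : Set G) := by
      have := le_centralizer_of_card_eq_prime hG _ B hZp' (left_le_normalizer_commutator B A)
      rwa [Subgroup.commutator_comm] at this
    obtain ⟨c, c', hcc, hc, hsum1⟩ := sum_commuting_count A B hZp hBc
    obtain ⟨d, d', hdd, hd, hsum2⟩ := sum_commuting_count B A hZp'
      (by rw [Subgroup.commutator_comm]; exact hAc)
    have hswap : Nat.card {x : A × B // (x.1 : G) * x.2 = x.2 * x.1}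
        = Nat.card {x : B × A // (x.1 : G) * x.2 = x.2 * x.1} :=
      Nat.card_congr ((Equiv.prodComm A B).subtypeEquiv (fun x => by simp [eq_comm]))
    rw [hswap, hsum2] at hsum1
    have hi : c * ((centralizer (B : Set G)).subgroupOf A).index = Nat.card A := by
      rw [hc]; exact Subgroup.card_mul_index _
    have hj : d * ((centralizer (A : Set G)).subgroupOf B).index = Nat.card B := by
      rw [hd]; exact Subgroup.card_mul_index _
    have hcpos : 0 < c := by rw [hc]; exact Nat.card_pos
    have hdpos : 0 < d := by rw [hd]; exact Nat.card_pos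
    change ((centralizer (B : Set G)).subgroupOf A).index = ((centralizer (A : Set G)).subgroupOf B).index
    set i := ((centralizer (B : Set G)).subgroupOf A).index
    set j := ((centralizer (A : Set G)).subgroupOf B).index
    rw [← hcc, ← hdd] at hsum1
    have hkey : c * d' = c' * d := by
      have h1 : ((p : ℤ) - 1) * ((c : ℤ) * d' - c' * d) = 0 := by
        have h2 : (d : ℤ) * (p * (c + c')) + d' * (c + c') = c * (p * (d + d')) + c' * (d + d') := by
          exact_mod_cast hsum1
        linear_combination -h2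
      have h3 : (p : ℤ) - 1 ≠ 0 := by
        have : (2 : ℤ) ≤ p := by exact_mod_cast hp.two_le
        omega
      have h4 : (c : ℤ) * d' - c' * d = 0 := by
        rcases mul_eq_zero.mp h1 with h | h
        · exact absurd h h3
        · exact h
      have h5 : (c : ℤ) * d' = c' * d := by linarith
      exact_mod_cast h5
    have hxy : c * Nat.card B = d * Nat.card A := by
      rw [← hcc, ← hdd]; nlinarith [hkey]
    rw [← hi, ← hj] at hxy
    have h6 : c * d * j = c * d * i := by nlinarith [hxy]
    exact (Nat.eq_of_mul_eq_mul_left (Nat.mul_pos hcpos hdpos) h6).symm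


end Cfsg.Agent.S3741
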