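import Cfsg.Statements.S3745
import Mathlib
import Cfsg.Agent.Lib.helper1.Coprime
import Cfsg.Agent.Lib.lead.Hall
import Cfsg.Agent.Lib.helper65.Fitting
-- import your own Cfsg.Agent.* helpers here

set_option autoImplicit false
open Cfsg

namespace Cfsg.Agent.S3745

open Cfsg.Agent.Lib.helper1 Cfsg.Agent.Lib.lead Cfsg.Agent.Lib.helper65
open scoped commutatorElement

universe u

/-- a nontrivial solvable normal subgroup contains a nontrivial normal abelian `p`-subgroup -/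
theorem exists_normal_abelian_le {Γ : Type*} [Group Γ] [Finite Γ] (N : Subgroup Γ) (hN : N.Normal)
    (hsolv : Group.IsSolvable N) (hN0 : N ≠ ⊥) :
    ∃ (p : ℕ) (M : Subgroup Γ), p.Prime ∧ M.Normal ∧ M ≠ ⊥ ∧ IsMulCommutative M ∧ IsPGroup p M := by
  classical
  obtain ⟨M, hMN, hM0, hMn, hMmin⟩ := exists_isMinInv_le (K := ⊤) hN0
    (by rw [Subgroup.normalizer_eq_top_iff.mpr hN])
  have hMnormal : M.Normal := Subgroup.normalizer_eq_top_iff.mp (top_le_iff.mp hMn)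
  have hMs : Group.IsSolvable M := Group.isSolvable_of_isSolvable_injective (Subgroup.inclusion_injective hMN)
  have hcomm0 : ⁅M, M⁆ = ⊥ := by
    have h1 : ⁅M, M⁆ ≤ M := Subgroup.commutator_le_right M M
    have h2 : (⊤ : Subgroup Γ) ≤ Subgroup.normalizer ((⁅M, M⁆ : Subgroup Γ) : Set Γ) := by
      rw [Subgroup.normalizer_eq_top_iff.mpr inferInstance]
    rcases hMmin _ h1 h2 with h | h
    · exact h
    · exfalso
      have hp : Group.IsPerfect M := Subgroup.isPerfect_iff.mpr h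
      have hnt : Nontrivial M := (Subgroup.nontrivial_iff_ne_bot M).mpr hM0
      exact Group.IsPerfect.not_isSolvable (↥M) hMs
  have hcomm : ∀ x ∈ M, ∀ y ∈ M, x * y = y * x := by
    intro x hx y hy
    have : ⁅x, y⁆ ∈ ⁅M, M⁆ := Subgroup.commutator_mem_commutator hx hy
    rw [hcomm0, Subgroup.mem_bot] at this
    exact commutatorElement_eq_one_iff_mul_comm.mp this
  have hcM : Nat.card M ≠ 1 := by
    rw [Ne, Subgroup.card_eq_one]
    exact hM0
  obtain ⟨p, hp, hpM⟩ := Nat.exists_prime_and_dvd hcM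
  have := Fact.mk hp
  obtain ⟨x, hx⟩ := exists_prime_orderOf_dvd_card' p hpM
  let M₂ : Subgroup Γ :=
    { carrier := {y | y ∈ M ∧ y ^ p = 1}
      mul_mem' := by
        rintro a b ⟨ha, ha'⟩ ⟨hb, hb'⟩
        refine ⟨Subgroup.mul_mem _ ha hb, ?_⟩
        have hc : Commute a b := hcomm a ha b hb
        rw [hc.mul_pow, ha', hb', one_mul]
      one_mem' := ⟨Subgroup.one_mem _, one_pow _⟩
      inv_mem' := by
        rintro a ⟨ha, ha'⟩
        exact ⟨Subgroup.inv_mem _ ha, by rw [inv_pow, ha', inv_one]⟩ }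
  have hM₂le : M₂ ≤ M := fun y hy => hy.1
  have hM₂n : (⊤ : Subgroup Γ) ≤ Subgroup.normalizer (M₂ : Set Γ) := by
    rw [Subgroup.le_normalizer_iff]
    rintro g - n ⟨hn, hn'⟩
    refine ⟨hMnormal.conj_mem n hn g, ?_⟩
    rw [conj_pow, hn', mul_one, mul_inv_cancel]
  have hM₂0 : M₂ ≠ ⊥ := by
    intro hbot
    have hxM : (x : Γ) ∈ M₂ := by
      refine ⟨x.2, ?_⟩
      have h1 : x ^ p = 1 := by
        rw [← hx]
        exact pow_orderOf_eq_one x
      have h2 := congrArg Subtype.val h1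
      simpa using h2
    rw [hbot, Subgroup.mem_bot] at hxM
    have hx1 : x = 1 := Subtype.ext hxM
    rw [hx1, orderOf_one] at hx
    exact hp.one_lt.ne hx
  have hM₂ : M₂ = M := by
    rcases hMmin M₂ hM₂le hM₂n with h | h
    · exact absurd h hM₂0
    · exact h
  refine ⟨p, M, hp, hMnormal, hM0, ⟨⟨fun a b => Subtype.ext (hcomm a a.2 b b.2)⟩⟩, ?_⟩
  intro y
  refine ⟨1, ?_⟩
  have hy : (y : Γ) ∈ M₂ := by
    rw [hM₂]
    exact y.2
  rw [pow_one]
  exact Subtype.ext hy.2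

/-- solvable-by-π groups -/
def SolvByPi (π : Set ℕ) (Γ : Type u) [Group Γ] : Prop :=
  ∃ N : Subgroup Γ, N.Normal ∧ Group.IsSolvable N ∧ PiNum π N.index

theorem solvByPi_hall (π : Set ℕ) (Γ : Type u) [Group Γ] [Finite Γ] (h : SolvByPi π Γ) :
    (∃ H : Subgroup Γ, IsPiHall π H) ∧ (∀ H K : Subgroup Γ, IsPiHall π H →
      PiNum π (Nat.card K) → ∃ g : Γ, K ≤ H.map (MulAut.conj g).toMonoidHom) := by
  refine hall_main π (fun Γ _ => SolvByPi π Γ) ?_ ?_ (Nat.card Γ) Γ rfl h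
  · rintro Γ _ _ M _ ⟨N, hN, hs, hi⟩
    refine ⟨N.map (QuotientGroup.mk' M), hN.map _ (QuotientGroup.mk'_surjective M), ?_,
      hi.of_dvd (Subgroup.index_map_dvd N (QuotientGroup.mk'_surjective M))⟩
    exact Group.isSolvable_of_surjective (f := (QuotientGroup.mk' M).subgroupMap N)
      (MonoidHom.subgroupMap_surjective _ _)
  · rintro Γ _ _ ⟨N, hN, hs, hi⟩ hnt
    by_cases hN0 : N = ⊥
    · refine ⟨⊤, inferInstance, top_ne_bot, Or.inl ?_⟩
      rw [Subgroup.card_top]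
      rw [hN0, Subgroup.index_bot] at hi
      exact hi
    · obtain ⟨p, M, hp, hMn, hM0, hMc, hMp⟩ := exists_normal_abelian_le N hN hs hN0
      have := Fact.mk hp
      obtain ⟨k, hk⟩ := IsPGroup.iff_card.mp hMp
      refine ⟨M, hMn, hM0, ?_⟩
      by_cases hpπ : p ∈ π
      · left
        rw [hk]
        exact piNum_prime_pow hp hpπ k
      · right
        refine ⟨?_, hMc⟩
        rw [hk]
        exact piNum_prime_pow hp hpπ k

theorem card_mul_relIndex {X : Type*} [Group X] {H G : Subgroup X} (h : H ≤ G) :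
    Nat.card H * H.relIndex G = Nat.card G := by
  have := Subgroup.relIndex_mul_relIndex ⊥ H G bot_le h
  rwa [Subgroup.relIndex_bot_left, Subgroup.relIndex_bot_left] at this

theorem nat_aux (t n i s a b c : ℕ) (ht : 0 < t) (h1 : t * a = s) (h2 : n * b = s)
    (h3 : i * b = t) (h4 : i * c = n) : a = c := by
  apply Nat.eq_of_mul_eq_mul_left ht
  calc t * a = s := h1
    _ = n * b := h2.symm
    _ = (i * c) * b := by rw [h4]
    _ = (i * b) * c := by ring
    _ = t * c := by rw [h3]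

theorem relIndex_dvd_index_of_normal_right {Γ : Type*} [Group Γ] [Finite Γ] (T N : Subgroup Γ)
    [N.Normal] : T.relIndex N ∣ T.index := by
  have h1 := card_mul_relIndex (le_sup_left : T ≤ T ⊔ N)
  have h2 := card_mul_relIndex (le_sup_right : N ≤ T ⊔ N)
  rw [Subgroup.relIndex_sup_right] at h2
  have h3 := card_mul_relIndex (inf_le_left : T ⊓ N ≤ T)
  rw [Subgroup.inf_relIndex_left] at h3
  have h4 := card_mul_relIndex (inf_le_right : T ⊓ N ≤ N)
  rw [Subgroup.inf_relIndex_right] at h4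
  have h5 : T.relIndex (T ⊔ N) = T.relIndex N :=
    nat_aux _ _ _ _ _ _ _ Nat.card_pos h1 h2 h3 h4
  rw [← h5]
  exact Subgroup.relIndex_dvd_index_of_le le_sup_left

theorem isPiHallOf_iff {X : Type*} [Group X] {π : Set ℕ} {H G : Subgroup X} (h : H ≤ G) :
    IsPiHallOf π H G ↔ IsPiHall π (H.subgroupOf G) := by
  have hc : Nat.card (H.subgroupOf G) = Nat.card H :=
    Nat.card_congr (Subgroup.subgroupOfEquivOfLe h).toEquiv
  unfold IsPiHallOf IsPiHall
  rw [hc]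
  constructor
  · rintro ⟨-, h1, h2⟩
    exact ⟨h1, h2⟩
  · rintro ⟨h1, h2⟩
    exact ⟨h, h1, h2⟩

theorem part_c {X : Type u} [Group X] [Finite X] (A G : Subgroup X)
    (hAG : A ≤ Subgroup.normalizer (G : Set X)) (hcop : (Nat.card A).Coprime (Nat.card G))
    (hsolv : Group.IsSolvable G) (π : Set ℕ) (U : Subgroup X) (hUG : U ≤ G)
    (hUA : A ≤ Subgroup.normalizer (U : Set X))
    (hUπ : ∀ p : ℕ, p.Prime → p ∣ Nat.card U → p ∈ π) :
    ∃ H : Subgroup X, Cfsg.IsPiHallOf π H G ∧ A ≤ Subgroup.normalizer (H : Set X) ∧ U ≤ H := by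
  classical
  set Γ : Subgroup X := G ⊔ A with hΓ
  let π' : Set ℕ := π ∪ {p | p ∣ Nat.card A}
  have hGΓ : G ≤ Γ := le_sup_left
  have hAΓ : A ≤ Γ := le_sup_right
  have hΓn : Γ ≤ Subgroup.normalizer (G : Set X) := sup_le Subgroup.le_normalizer hAG
  have hNn : (G.subgroupOf Γ).Normal :=
    (Subgroup.normal_subgroupOf_iff_le_normalizer hGΓ).mpr hΓn
  have hNs : Group.IsSolvable (G.subgroupOf Γ) :=
    Group.isSolvable_of_isSolvable_injective (f := (Subgroup.subgroupOfEquivOfLe hGΓ).toMonoidHom)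
      (Subgroup.subgroupOfEquivOfLe hGΓ).injective
  have hcardN : Nat.card (G.subgroupOf Γ) = Nat.card G :=
    Nat.card_congr (Subgroup.subgroupOfEquivOfLe hGΓ).toEquiv
  have hNi : PiNum π' (G.subgroupOf Γ).index := by
    have h1 := Subgroup.index_mul_card (G.subgroupOf Γ)
    have h2 : Nat.card Γ ∣ Nat.card A * Nat.card G := by
      have := card_sup_dvd_mul (H := A) (N := G) hAG
      rwa [sup_comm] at this
    have h3 : (G.subgroupOf Γ).index ∣ Nat.card A := by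
      rw [← h1, hcardN] at h2
      exact Nat.dvd_of_mul_dvd_mul_right Nat.card_pos h2
    intro p hp hpd
    exact Or.inr (hpd.trans h3)
  have hP : SolvByPi π' ↥Γ := ⟨G.subgroupOf Γ, hNn, hNs, hNi⟩
  obtain ⟨⟨T₀, hT₀⟩, hD⟩ := solvByPi_hall π' ↥Γ hP
  have hUAΓ : U ⊔ A ≤ Γ := sup_le (hUG.trans hGΓ) hAΓ
  have hKπ : PiNum π' (Nat.card ((U ⊔ A).subgroupOf Γ)) := by
    rw [Nat.card_congr (Subgroup.subgroupOfEquivOfLe hUAΓ).toEquiv]
    have h1 : Nat.card (A ⊔ U : Subgroup X) ∣ Nat.card A * Nat.card U := card_sup_dvd_mul hUA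
    rw [sup_comm] at h1
    intro p hp hpd
    rcases (Nat.Prime.dvd_mul hp).mp (hpd.trans h1) with h | h
    · exact Or.inr h
    · exact Or.inl (hUπ p hp h)
  obtain ⟨g, hg⟩ := hD T₀ _ hT₀ hKπ
  set T : Subgroup ↥Γ := T₀.map (MulAut.conj g).toMonoidHom with hT
  have hTH : IsPiHall π' T := isPiHall_map_conj hT₀ g
  have hHG : (T ⊓ G.subgroupOf Γ).map Γ.subtype ≤ G := by
    rintro _ ⟨y, hy, rfl⟩
    exact hy.2
  have hcardH : Nat.card ((T ⊓ G.subgroupOf Γ).map Γ.subtype) = Nat.card (T ⊓ G.subgroupOf Γ : Subgroup Γ) :=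
    Subgroup.card_map_of_injective Γ.subtype_injective
  refine ⟨(T ⊓ G.subgroupOf Γ).map Γ.subtype, ⟨hHG, ?_, ?_⟩, ?_, ?_⟩
  · intro p hp hpd
    rw [hcardH] at hpd
    have h1 : p ∈ π' := hTH.1 p hp (hpd.trans (Subgroup.card_dvd_of_le inf_le_left))
    have h2 : p ∣ Nat.card G := by
      rw [← hcardN]
      exact hpd.trans (Subgroup.card_dvd_of_le inf_le_right)
    rcases h1 with h | h
    · exact h
    · exfalso
      have h3 : p ∣ Nat.gcd (Nat.card A) (Nat.card G) := Nat.dvd_gcd h h2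
      rw [hcop] at h3
      exact hp.one_lt.ne' (Nat.dvd_one.mp h3)
  · intro p hp hpπ hpd
    have h1 := card_mul_relIndex hHG
    have h2 := card_mul_relIndex (inf_le_right : T ⊓ G.subgroupOf Γ ≤ G.subgroupOf Γ)
    rw [hcardH, ← hcardN, ← h2] at h1
    have h3 : ((T ⊓ G.subgroupOf Γ).map Γ.subtype).relIndex G
        = (T ⊓ G.subgroupOf Γ).relIndex (G.subgroupOf Γ) :=
      Nat.eq_of_mul_eq_mul_left Nat.card_pos h1
    rw [h3, Subgroup.inf_relIndex_right] at hpd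
    exact hTH.2 p hp (Or.inl hpπ) (hpd.trans (relIndex_dvd_index_of_normal_right T (G.subgroupOf Γ)))
  · rw [Subgroup.le_normalizer_iff]
    rintro a ha _ ⟨y, hy, rfl⟩
    have haT : (⟨a, hAΓ ha⟩ : Γ) ∈ T := by
      apply hg
      rw [Subgroup.mem_subgroupOf]
      exact Subgroup.mem_sup_right ha
    have hy' := Subgroup.mem_inf.mp hy
    refine ⟨⟨a, hAΓ ha⟩ * y * ⟨a, hAΓ ha⟩⁻¹, Subgroup.mem_inf.mpr ⟨?_, ?_⟩, rfl⟩
    · exact T.mul_mem (T.mul_mem haT hy'.1) (T.inv_mem haT)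
    · exact hNn.conj_mem y hy'.2 _
  · intro x hx
    have hxΓ : x ∈ Γ := hGΓ (hUG hx)
    refine ⟨⟨x, hxΓ⟩, Subgroup.mem_inf.mpr ⟨?_, ?_⟩, rfl⟩
    · apply hg
      rw [Subgroup.mem_subgroupOf]
      exact Subgroup.mem_sup_left hx
    · rw [Subgroup.mem_subgroupOf]
      exact hUG hx

theorem part_b {X : Type u} [Group X] [Finite X] (A G : Subgroup X)
    (hAG : A ≤ Subgroup.normalizer (G : Set X)) (hcop : (Nat.card A).Coprime (Nat.card G))
    (hsolv : Group.IsSolvable G) (π : Set ℕ) (H₁ H₂ : Subgroup X)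
    (h₁ : Cfsg.IsPiHallOf π H₁ G) (hA₁ : A ≤ Subgroup.normalizer (H₁ : Set X))
    (h₂ : Cfsg.IsPiHallOf π H₂ G) (hA₂ : A ≤ Subgroup.normalizer (H₂ : Set X)) :
    ∃ c ∈ G ⊓ Subgroup.centralizer (A : Set X), H₂ = H₁.map (MulAut.conj c).toMonoidHom := by
  have hH₁ : IsPiHall π (H₁.subgroupOf G) := (isPiHallOf_iff h₁.1).mp h₁
  have hH₂ : IsPiHall π (H₂.subgroupOf G) := (isPiHallOf_iff h₂.1).mp h₂
  obtain ⟨g, hg⟩ := isPiHall_conj_of_isSolvable hH₁ hH₂
  have hconj : ∀ x : X, x ∈ H₂ ↔ (g : X)⁻¹ * x * g ∈ H₁ := by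
    intro x
    constructor
    · intro hx
      have h1 : (⟨x, h₂.1 hx⟩ : G) ∈ H₂.subgroupOf G := hx
      rw [hg] at h1
      have h2 : g⁻¹ * (⟨x, h₂.1 hx⟩ : G) * g ∈ H₁.subgroupOf G := mem_conjSub.mp h1
      exact h2
    · intro hx
      have hxG : x ∈ G := by
        have h3 := G.mul_mem (G.mul_mem g.2 (h₁.1 hx)) (G.inv_mem g.2)
        have h4 : (g : X) * ((g : X)⁻¹ * x * g) * (g : X)⁻¹ = x := by group
        rwa [h4] at h3
      have h1 : (⟨x, hxG⟩ : G) ∈ (H₁.subgroupOf G).map (MulAut.conj g).toMonoidHom := by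
        apply mem_conjSub.mpr
        exact hx
      rw [← hg] at h1
      exact h1
  let N : Subgroup X := Subgroup.normalizer (H₁ : Set X) ⊓ G
  have hAN : A ≤ Subgroup.normalizer (N : Set X) := by
    rw [Subgroup.le_normalizer_iff]
    intro a ha n hn
    refine ⟨?_, (Subgroup.le_normalizer_iff.mp hAG) a ha n hn.2⟩
    exact Subgroup.mul_mem _ (Subgroup.mul_mem _ (hA₁ ha) hn.1) (Subgroup.inv_mem _ (hA₁ ha))
  have hcopN : (Nat.card A).Coprime (Nat.card N) :=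
    hcop.coprime_dvd_right (Subgroup.card_dvd_of_le inf_le_right)
  have hsolvN : Group.IsSolvable N :=
    Group.isSolvable_of_isSolvable_injective (Subgroup.inclusion_injective (inf_le_right : N ≤ G))
  have hfix : ∀ a ∈ A, a * (g : X)⁻¹ * a⁻¹ * ((g : X)⁻¹)⁻¹ ∈ N := by
    intro a ha
    rw [inv_inv]
    have hGmem : a * (g : X)⁻¹ * a⁻¹ * g ∈ G :=
      G.mul_mem ((Subgroup.le_normalizer_iff.mp hAG) a ha _ (G.inv_mem g.2)) g.2
    refine ⟨?_, hGmem⟩
    show a * (g : X)⁻¹ * a⁻¹ * g ∈ Subgroup.normalizer (H₁ : Set X)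
    rw [Subgroup.mem_normalizer_iff]
    intro h
    have e1 : h ∈ H₁ ↔ (g : X) * h * (g : X)⁻¹ ∈ H₂ := by
      rw [hconj]
      have : (g : X)⁻¹ * ((g : X) * h * (g : X)⁻¹) * g = h := by group
      rw [this]
    have e2 := Subgroup.mem_normalizer_iff.mp (Subgroup.inv_mem _ (hA₂ ha))
      ((g : X) * h * (g : X)⁻¹)
    have e3 := hconj (a⁻¹ * ((g : X) * h * (g : X)⁻¹) * a⁻¹⁻¹)
    have e4 := Subgroup.mem_normalizer_iff.mp (hA₁ ha)
      ((g : X)⁻¹ * (a⁻¹ * ((g : X) * h * (g : X)⁻¹) * a⁻¹⁻¹) * g)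
    rw [e1, e2, e3, e4]
    have e5 : a * ((g : X)⁻¹ * (a⁻¹ * ((g : X) * h * (g : X)⁻¹) * a⁻¹⁻¹) * g) * a⁻¹
        = a * (g : X)⁻¹ * a⁻¹ * g * h * (a * (g : X)⁻¹ * a⁻¹ * g)⁻¹ := by group
    rw [e5]
  obtain ⟨c, hc, hcg⟩ := coset_fixed A N hAN hcopN (Or.inr hsolvN) (g : X)⁻¹ hfix
  rw [inv_inv] at hcg
  have hcG : c ∈ G := by
    have h3 := G.mul_mem hcg.2 (G.inv_mem g.2)
    simpa using h3
  refine ⟨c⁻¹, ⟨G.inv_mem hcG, Subgroup.inv_mem _ hc⟩, ?_⟩
  ext x
  have h5 : x ∈ H₁.map (MulAut.conj c⁻¹).toMonoidHom ↔ (c⁻¹)⁻¹ * x * c⁻¹ ∈ H₁ := mem_conjSub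
  rw [h5, hconj, inv_inv]
  -- c * g ∈ normalizer H₁
  have h6 := (Subgroup.mem_normalizer_iff.mp hcg.1) ((g : X)⁻¹ * x * g)
  rw [h6]
  have h7 : c * (g : X) * ((g : X)⁻¹ * x * g) * (c * (g : X))⁻¹ = c * x * c⁻¹ := by group
  rw [h7]

/-- Coprime action on a solvable group and Hall subgroups. Let A and G be subgroups of a finite group with A normalizing G, the orders of A and G coprime, and G solvable, and let π be a set of primes. Then (a) G has an A-invariant Hall π-subgroup; (b) any two A-invariant Hall π-subgroups of G are conjugate by an element of C_G(A); (c) every A-invariant π-subgroup of G lies in an A-invariant Hall π-subgroup of G. -/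
theorem result {X : Type*} [Group X] [Finite X] (A G : Subgroup X) (hAG : A ≤ Subgroup.normalizer (G : Set X)) (hcop : (Nat.card A).Coprime (Nat.card G)) (hsolv : Group.IsSolvable G) (π : Set ℕ) : (∃ H : Subgroup X, Cfsg.IsPiHallOf π H G ∧ A ≤ Subgroup.normalizer (H : Set X)) ∧ (∀ H₁ H₂ : Subgroup X, Cfsg.IsPiHallOf π H₁ G → A ≤ Subgroup.normalizer (H₁ : Set X) → Cfsg.IsPiHallOf π H₂ G → A ≤ Subgroup.normalizer (H₂ : Set X) → ∃ c ∈ G ⊓ Subgroup.centralizer (A : Set X), H₂ = H₁.map (MulAut.conj c).toMonoidHom) ∧ (∀ U : Subgroup X, U ≤ G → A ≤ Subgroup.normalizer (U : Set X) → (∀ p : ℕ, p.Prime → p ∣ Nat.card U → p ∈ π) → ∃ H : Subgroup X, Cfsg.IsPiHallOf π H G ∧ A ≤ Subgroup.normalizer (H : Set X) ∧ U ≤ H) := by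
  refine ⟨?_, ?_, ?_⟩
  · obtain ⟨H, h1, h2, -⟩ := part_c A G hAG hcop hsolv π ⊥ bot_le
      (by rw [Subgroup.le_normalizer_iff]; intro a _ k hk; rw [Subgroup.mem_bot] at hk ⊢; rw [hk]; group)
      (by
        intro p hp hpd
        rw [Subgroup.card_bot] at hpd
        exact absurd (Nat.dvd_one.mp hpd) hp.one_lt.ne')
    exact ⟨H, h1, h2⟩
  · intro H₁ H₂ h₁ hA₁ h₂ hA₂
    exact part_b A G hAG hcop hsolv π H₁ H₂ h₁ hA₁ h₂ hA₂
  · intro U hUG hUA hUπ
    exact part_c A G hAG hcop hsolv π U hUG hUA hUπ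

end Cfsg.Agent.S3745
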