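import Cfsg.Statements.S3746
import Mathlib
-- import your own Cfsg.Agent.* helpers here

set_option autoImplicit false
open Cfsg

namespace Cfsg.Agent.S3746

open scoped commutatorElement

theorem comm_mul_right {A : Type*} [Group A] (x a b : A) (hb : a⁻¹ * ⁅x, b⁆ = ⁅x, b⁆ * a⁻¹) :
    ⁅x, a * b⁆ = ⁅x, a⁆ * ⁅x, b⁆ := by
  have h1 : ⁅x, a⁆ * ⁅x, b⁆ = x * a * x⁻¹ * (a⁻¹ * ⁅x, b⁆) := by
    rw [commutatorElement_def x a]; group
  rw [h1, hb, commutatorElement_def, commutatorElement_def]
  group

theorem comm_mul_central_left {A : Type*} [Group A] (d z y : A) (hz : z * y = y * z) :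
    ⁅d * z, y⁆ = ⁅d, y⁆ := by
  have h1 : ⁅d * z, y⁆ = d * (z * y) * z⁻¹ * d⁻¹ * y⁻¹ := by
    rw [commutatorElement_def]; group
  rw [h1, hz, commutatorElement_def]
  group

theorem comm_mul_central_right {A : Type*} [Group A] (x d z : A) (hz : z * x⁻¹ = x⁻¹ * z) :
    ⁅x, d * z⁆ = ⁅x, d⁆ := by
  have h1 : ⁅x, d * z⁆ = x * d * (z * x⁻¹) * z⁻¹ * d⁻¹ := by
    rw [commutatorElement_def]; group
  rw [h1, hz, commutatorElement_def]
  group

/-- a perfect central extension of a quasisimple group is quasisimple -/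
theorem isQuasisimple_of_central_surjective {A B : Type*} [Group A] [Group B] (f : A →* B)
    (hf : Function.Surjective f) (hker : f.ker ≤ Subgroup.center A) (hA : Group.IsPerfect A)
    (hB : IsQuasisimple B) : IsQuasisimple A := by
  refine ⟨hA, ?_⟩
  have hBs : IsSimpleGroup (B ⧸ Subgroup.center B) := hB.2
  have hcomap : (Subgroup.center B).comap f = Subgroup.center A := by
    apply le_antisymm
    · intro x hx
      rw [Subgroup.mem_comap] at hx
      have hcomm : ∀ a : A, ⁅x, a⁆ ∈ Subgroup.center A := by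
        intro a
        apply hker
        rw [MonoidHom.mem_ker, map_commutatorElement, commutatorElement_eq_one_iff_commute]
        exact (Subgroup.mem_center_iff.mp hx (f a)).symm
      have hmul : ∀ a b : A, ⁅x, a * b⁆ = ⁅x, a⁆ * ⁅x, b⁆ := by
        intro a b
        exact comm_mul_right x a b (Subgroup.mem_center_iff.mp (hcomm b) a⁻¹)
      let φ : A →* A :=
        { toFun := fun a => ⁅x, a⁆
          map_one' := commutatorElement_one_right x
          map_mul' := hmul }
      have hφ : ∀ a : A, φ a = 1 := by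
        intro a
        have h1 : commutator A ≤ φ.ker := by
          rw [commutator_def, Subgroup.commutator_le]
          intro g₁ _ g₂ _
          rw [MonoidHom.mem_ker, map_commutatorElement, commutatorElement_eq_one_iff_commute]
          exact (Subgroup.mem_center_iff.mp (hcomm g₁) (φ g₂)).symm
        rw [hA.commutator_eq_top] at h1
        exact h1 (Subgroup.mem_top a)
      rw [Subgroup.mem_center_iff]
      intro a
      have h2 : ⁅x, a⁆ = 1 := hφ a
      exact ((commutatorElement_eq_one_iff_commute.mp h2).eq).symm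
    · intro x hx
      rw [Subgroup.mem_comap, Subgroup.mem_center_iff]
      intro b
      obtain ⟨a, rfl⟩ := hf b
      rw [← map_mul, ← map_mul, Subgroup.mem_center_iff.mp hx a]
  let ψ : A →* B ⧸ Subgroup.center B := (QuotientGroup.mk' (Subgroup.center B)).comp f
  have hψ : Function.Surjective ψ := (QuotientGroup.mk'_surjective _).comp hf
  have hkerψ : Subgroup.center A = ψ.ker := by
    rw [← hcomap]
    have h1 : ψ.ker = (QuotientGroup.mk' (Subgroup.center B)).ker.comap f := rfl
    rw [h1, QuotientGroup.ker_mk']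
  exact ((QuotientGroup.quotientMulEquivOfEq hkerψ).trans
    (QuotientGroup.quotientKerEquivOfSurjective ψ hψ)).isSimpleGroup

/-- Let Z ≤ Z(G) be a central subgroup of a finite group G and E a subgroup of G containing Z whose image E/Z is a component of G/Z (subnormal and quasisimple). Then the derived subgroup [E, E] is a component of G. -/
theorem result {G : Type*} [Group G] [Finite G] (Z : Subgroup G) (hZ : Z ≤ Subgroup.center G) [Z.Normal] (E : Subgroup G) (hZE : Z ≤ E) (hE : Cfsg.IsComponent (E.map (QuotientGroup.mk' Z))) : Cfsg.IsComponent ⁅E, E⁆ := by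
  obtain ⟨hsub, hq⟩ := hE
  have hperf : ⁅E.map (QuotientGroup.mk' Z), E.map (QuotientGroup.mk' Z)⁆
      = E.map (QuotientGroup.mk' Z) := Subgroup.isPerfect_iff.mp hq.1
  have hmap : (⁅E, E⁆).map (QuotientGroup.mk' Z) = E.map (QuotientGroup.mk' Z) := by
    rw [Subgroup.map_commutator, hperf]
  have hDE : ⁅E, E⁆ ≤ E :=
    Subgroup.commutator_le.mpr (fun a ha b hb =>
      E.mul_mem (E.mul_mem (E.mul_mem ha hb) (E.inv_mem ha)) (E.inv_mem hb))
  -- E ≤ D * Z elementwise
  have hdecomp : ∀ x ∈ E, ∃ d ∈ ⁅E, E⁆, ∃ z ∈ Z, x = d * z := by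
    intro x hx
    have h1 : (QuotientGroup.mk' Z) x ∈ (⁅E, E⁆).map (QuotientGroup.mk' Z) := by
      rw [hmap]
      exact Subgroup.mem_map_of_mem _ hx
    obtain ⟨d, hd, hdx⟩ := h1
    refine ⟨d, hd, d⁻¹ * x, ?_, by group⟩
    rw [QuotientGroup.mk'_apply, QuotientGroup.mk'_apply] at hdx
    exact QuotientGroup.eq.mp hdx
  -- D is perfect
  have hDperf : ⁅⁅E, E⁆, ⁅E, E⁆⁆ = ⁅E, E⁆ := by
    apply le_antisymm (Subgroup.commutator_mono hDE hDE)
    rw [Subgroup.commutator_le]
    intro x hx y hy
    obtain ⟨d, hd, z, hz, rfl⟩ := hdecomp x hx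
    obtain ⟨d', hd', z', hz', rfl⟩ := hdecomp y hy
    have hzc := Subgroup.mem_center_iff.mp (hZ hz)
    have hzc' := Subgroup.mem_center_iff.mp (hZ hz')
    rw [comm_mul_central_left d z (d' * z') (hzc (d' * z')).symm,
      comm_mul_central_right d d' z' (hzc' d⁻¹).symm]
    exact Subgroup.commutator_mem_commutator hd hd'
  have hDp : Group.IsPerfect ↥(⁅E, E⁆) := Subgroup.isPerfect_iff.mpr hDperf
  have hq' : IsQuasisimple ↥((⁅E, E⁆).map (QuotientGroup.mk' Z)) := by
    rw [hmap]; exact hq
  refine ⟨?_, isQuasisimple_of_central_surjective ((QuotientGroup.mk' Z).subgroupMap ⁅E, E⁆)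
    (MonoidHom.subgroupMap_surjective _ _) ?_ hDp hq'⟩
  · -- subnormality
    have hEsub : E.IsSubnormal := by
      have h1 := hsub.comap (QuotientGroup.mk' Z)
      rwa [Subgroup.comap_map_eq_self (by rw [QuotientGroup.ker_mk']; exact hZE)] at h1
    have hnorm : ((⁅E, E⁆).subgroupOf E).Normal := by
      constructor
      intro n hn g
      rw [Subgroup.mem_subgroupOf] at hn ⊢
      have h1 : ((g * n * g⁻¹ : E) : G) = ⁅(g : G), (n : G)⁆ * (n : G) := by
        rw [commutatorElement_def]
        simp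
      rw [h1]
      exact Subgroup.mul_mem _ (Subgroup.commutator_mem_commutator g.2 n.2) hn
    exact Subgroup.IsSubnormal.trans hDE hnorm.isSubnormal hEsub
  · -- kernel is central
    intro x hx
    rw [MonoidHom.mem_ker] at hx
    have h1 : (QuotientGroup.mk' Z) (x : G) = 1 := by
      have := congrArg Subtype.val hx
      simpa using this
    have h2 : (x : G) ∈ Z := by
      rwa [QuotientGroup.mk'_apply, QuotientGroup.eq_one_iff] at h1
    rw [Subgroup.mem_center_iff]
    intro y
    exact Subtype.ext (Subgroup.mem_center_iff.mp (hZ h2) (y : G))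

end Cfsg.Agent.S3746
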