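import Cfsg.Statements.S3747
import Mathlib
import Cfsg.Agent.Lib.helper28.Components
import Cfsg.Agent.Lib.helper28.Layer
import Cfsg.Agent.Lib.helper65.Subnormal
-- import your own Cfsg.Agent.* helpers here

set_option autoImplicit false
open Cfsg

namespace Cfsg.Agent.S3747

open Cfsg.Agent.Lib.helper28 Cfsg.Agent.Lib.helper65
open scoped commutatorElement

theorem mem_sup_of_commute {G : Type*} [Group G] {H K : Subgroup G}
    (hc : ∀ h ∈ H, ∀ k ∈ K, h * k = k * h) {x : G} (hx : x ∈ H ⊔ K) :
    ∃ h ∈ H, ∃ k ∈ K, x = h * k := by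
  rw [Subgroup.sup_eq_closure] at hx
  induction hx using Subgroup.closure_induction with
  | mem x hx =>
    rcases hx with hx | hx
    · exact ⟨x, hx, 1, K.one_mem, (mul_one x).symm⟩
    · exact ⟨1, H.one_mem, x, hx, (one_mul x).symm⟩
  | one => exact ⟨1, H.one_mem, 1, K.one_mem, (mul_one 1).symm⟩
  | mul x y _ _ hx hy =>
    obtain ⟨h, hh, k, hk, rfl⟩ := hx
    obtain ⟨h', hh', k', hk', rfl⟩ := hy
    refine ⟨h * h', H.mul_mem hh hh', k * k', K.mul_mem hk hk', ?_⟩
    have := hc h' hh' k hk
    calc h * k * (h' * k') = h * (k * h') * k' := by group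
      _ = h * (h' * k) * k' := by rw [this]
      _ = h * h' * (k * k') := by group
  | inv x _ hx =>
    obtain ⟨h, hh, k, hk, rfl⟩ := hx
    refine ⟨h⁻¹, H.inv_mem hh, k⁻¹, K.inv_mem hk, ?_⟩
    have := hc h⁻¹ (H.inv_mem hh) k⁻¹ (K.inv_mem hk)
    rw [mul_inv_rev, this]

/-- the join of finitely many pairwise commuting centreless subgroups is centreless -/
theorem sSup_centreless {G : Type*} [Group G] (S : Set (Subgroup G)) (hS : S.Finite) :
    (∀ K ∈ S, ∀ K' ∈ S, K ≠ K' → ∀ x ∈ K, ∀ y ∈ K', x * y = y * x) →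
    (∀ K ∈ S, ∀ x ∈ K, (∀ y ∈ K, y * x = x * y) → x = 1) →
    ∀ z ∈ sSup S, (∀ y ∈ sSup S, y * z = z * y) → z = 1 := by
  refine Set.Finite.induction_on (motive := fun S _ =>
    (∀ K ∈ S, ∀ K' ∈ S, K ≠ K' → ∀ x ∈ K, ∀ y ∈ K', x * y = y * x) →
    (∀ K ∈ S, ∀ x ∈ K, (∀ y ∈ K, y * x = x * y) → x = 1) →
    ∀ z ∈ sSup S, (∀ y ∈ sSup S, y * z = z * y) → z = 1) S hS ?_ ?_
  · intro _ _ z hz _
    rw [sSup_empty] at hz
    exact Subgroup.mem_bot.mp hz
  · intro K T hKT _ ih hcomm hcl z hz hzc
    rw [sSup_insert] at hz hzc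
    have hKJ : ∀ x ∈ K, ∀ y ∈ sSup T, x * y = y * x := by
      have : sSup T ≤ Subgroup.centralizer (K : Set G) := by
        apply sSup_le
        intro K' hK' y hy
        rw [Subgroup.mem_centralizer_iff]
        intro x hx
        exact hcomm K (Set.mem_insert _ _) K' (Set.mem_insert_of_mem _ hK')
          (by rintro rfl; exact hKT hK') x hx y hy
      intro x hx y hy
      exact Subgroup.mem_centralizer_iff.mp (this hy) x hx
    obtain ⟨k, hk, j, hj, rfl⟩ := mem_sup_of_commute hKJ hz
    have hk1 : k = 1 := by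
      apply hcl K (Set.mem_insert _ _) k hk
      intro y hy
      have h1 := hzc y (Subgroup.mem_sup_left hy)
      have h2 := hKJ y hy j hj
      have h3 : y * k * j = k * y * j := by rw [mul_assoc, h1, mul_assoc, mul_assoc, h2]
      exact mul_right_cancel h3
    subst hk1
    rw [one_mul] at hzc ⊢
    apply ih (fun K₁ h₁ K₂ h₂ => hcomm K₁ (Set.mem_insert_of_mem _ h₁) K₂ (Set.mem_insert_of_mem _ h₂))
      (fun K₁ h₁ => hcl K₁ (Set.mem_insert_of_mem _ h₁)) j hj
    intro y hy
    exact hzc y (Subgroup.mem_sup_right hy)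

theorem iSup_conjSub_normal {G : Type*} [Group G] (K : Subgroup G) :
    (⨆ g : G, conjSub g K).Normal := by
  constructor
  intro n hn k
  have h1 : k * n * k⁻¹ ∈ (⨆ g : G, conjSub g K).map (MulAut.conj k).toMonoidHom :=
    ⟨n, hn, by simp [MulAut.conj_apply]⟩
  rw [Subgroup.map_iSup] at h1
  have h2 : (⨆ i, (conjSub i K).map (MulAut.conj k).toMonoidHom) ≤ ⨆ g : G, conjSub g K := by
    apply iSup_le
    intro g
    have : (conjSub g K).map (MulAut.conj k).toMonoidHom = conjSub (k * g) K :=
      (conjSub_mul k g K).symm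
    rw [this]
    exact le_iSup (fun g => conjSub g K) (k * g)
  exact h2 h1

theorem normalClosure_eq_iSup_conjSub {G : Type*} [Group G] (K : Subgroup G) :
    Subgroup.normalClosure (K : Set G) = ⨆ g : G, conjSub g K := by
  apply le_antisymm
  · have := iSup_conjSub_normal K
    apply Subgroup.normalClosure_le_normal
    have h1 := le_iSup (fun g => conjSub g K) 1
    rw [conjSub_one] at h1
    exact h1
  · apply iSup_le
    intro g x hx
    rw [mem_conjSub] at hx
    have h1 : g⁻¹ * x * g ∈ Subgroup.normalClosure (K : Set G) := Subgroup.le_normalClosure hx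
    have h2 := (Subgroup.normalClosure_normal (s := (K : Set G))).conj_mem _ h1 g
    simpa [mul_assoc] using h2

theorem part_a {G : Type*} [Group G] [Finite G] (K : Subgroup G) (hK : IsComponent K)
    (hZ : Subgroup.center ↥K = ⊥) :
    Subgroup.normalClosure (K : Set G) ≠ ⊥ ∧ ∀ N : Subgroup G, N.Normal →
      N ≤ Subgroup.normalClosure (K : Set G) → N = ⊥ ∨ N = Subgroup.normalClosure (K : Set G) := by
  have hKle : K ≤ Subgroup.normalClosure (K : Set G) := Subgroup.le_normalClosure
  constructor
  · intro h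
    apply isComponent_ne_bot hK
    rw [eq_bot_iff, ← h]
    exact hKle
  intro N hN hNL
  rcases isComponent_le_or_commute hK hN.isSubnormal with h | h
  · right
    exact le_antisymm hNL (Subgroup.normalClosure_le_normal h)
  · left
    have h1 : Subgroup.normalClosure (K : Set G) ≤ Subgroup.centralizer (N : Set G) := by
      apply Subgroup.normalClosure_le_normal
      rw [Subgroup.commutator_eq_bot_iff_le_centralizer] at h
      exact h
    have hL : Subgroup.normalClosure (K : Set G) = sSup (Set.range (fun g : G => conjSub g K)) := by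
      rw [sSup_range]
      exact normalClosure_eq_iSup_conjSub K
    rw [eq_bot_iff]
    intro z hz
    rw [Subgroup.mem_bot]
    have hzL := hNL hz
    rw [hL] at hzL
    refine sSup_centreless _ (Set.toFinite _) ?_ ?_ z hzL ?_
    · rintro _ ⟨g, rfl⟩ _ ⟨g', rfl⟩ hne x hx y hy
      have hc := isComponent_commute (isComponent_map_equiv (MulAut.conj g) hK)
        (isComponent_map_equiv (MulAut.conj g') hK) hne
      rw [Subgroup.commutator_eq_bot_iff_le_centralizer] at hc
      exact (Subgroup.mem_centralizer_iff.mp (hc hx) y hy).symm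
    · rintro _ ⟨g, rfl⟩ x hx hxc
      have hk : g⁻¹ * x * g ∈ K := mem_conjSub.mp hx
      have hcen : (⟨g⁻¹ * x * g, hk⟩ : K) ∈ Subgroup.center ↥K := by
        rw [Subgroup.mem_center_iff]
        intro y
        apply Subtype.ext
        have h2 := hxc (g * y * g⁻¹) (conj_mem_conjSub y.2)
        show (y : G) * (g⁻¹ * x * g) = g⁻¹ * x * g * (y : G)
        calc (y : G) * (g⁻¹ * x * g) = g⁻¹ * (g * y * g⁻¹ * x) * g := by group
          _ = g⁻¹ * (x * (g * y * g⁻¹)) * g := by rw [h2]
          _ = g⁻¹ * x * g * (y : G) := by group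
      rw [hZ, Subgroup.mem_bot] at hcen
      have h3 : g⁻¹ * x * g = 1 := congrArg Subtype.val hcen
      calc x = g * (g⁻¹ * x * g) * g⁻¹ := by group
        _ = 1 := by rw [h3]; group
    · intro y hy
      rw [← hL] at hy
      exact (Subgroup.mem_centralizer_iff.mp (h1 hy) z hz).symm

theorem minNormal_le_layer {G : Type*} [Group G] [Finite G] (hF : fittingSubgroup G = ⊥)
    (N : Subgroup G) (hN0 : N ≠ ⊥) (hN : N.Normal)
    (hmin : ∀ N' : Subgroup G, N'.Normal → N' ≤ N → N' = ⊥ ∨ N' = N) : N ≤ layer G := by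
  obtain ⟨K, ⟨hKsn, hK0, hKN⟩, hKmin⟩ := wellFounded_lt.has_min
    {K : Subgroup G | K.IsSubnormal ∧ K ≠ ⊥ ∧ K ≤ N} ⟨N, hN.isSubnormal, hN0, le_rfl⟩
  have hsimple : ∀ M : Subgroup K, M.Normal → M = ⊥ ∨ M = ⊤ := by
    intro M hM
    by_contra hcon
    push Not at hcon
    have h1 : (M.map K.subtype).IsSubnormal := hM.isSubnormal.trans' hKsn
    have h2 : M.map K.subtype ≤ K := Subgroup.map_subtype_le M
    have h3 : M.map K.subtype ≠ ⊥ := by
      intro h
      exact hcon.1 ((Subgroup.map_eq_bot_iff_of_injective M K.subtype_injective).mp h)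
    have h4 : M.map K.subtype ≠ K := by
      intro h
      apply hcon.2
      rw [eq_top_iff]
      intro x _
      have hx : (x : G) ∈ M.map K.subtype := by rw [h]; exact x.2
      obtain ⟨y, hy, hyx⟩ := hx
      have : y = x := Subtype.ext hyx
      rwa [← this]
    exact hKmin (M.map K.subtype) ⟨h1, h3, h2.trans hKN⟩ (lt_of_le_of_ne h2 h4)
  have hnc : ¬ IsMulCommutative K := by
    intro hc
    have : K ≤ fittingSubgroup G :=
      le_fittingSubgroup_of_isSubnormal hKsn (isNilpotent_of_isMulCommutative K)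
    rw [hF] at this
    exact hK0 (eq_bot_iff.mpr this)
  have hqs : QS K := by
    refine ⟨?_, (Subgroup.nontrivial_iff_ne_bot K).mpr hK0, ?_⟩
    · rw [Group.isPerfect_def]
      rcases hsimple (commutator K) inferInstance with h | h
      · exfalso
        apply hnc
        rw [commutator_def, Subgroup.commutator_eq_bot_iff_le_centralizer] at h
        refine ⟨⟨fun a b => ?_⟩⟩
        exact (Subgroup.mem_centralizer_iff.mp (h (Subgroup.mem_top b)) a (Subgroup.mem_top a))
      · exact h
    · intro M hM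
      rcases hsimple M hM with h | h
      · left
        rw [h]
        exact bot_le
      · right
        exact h
  have hcomp : IsComponent K := ⟨hKsn, isQuasisimple_of_qs hqs⟩
  have h5 : Subgroup.normalClosure (K : Set G) ≤ N := Subgroup.normalClosure_le_normal hKN
  rcases hmin _ Subgroup.normalClosure_normal h5 with h | h
  · exfalso
    apply hK0
    rw [eq_bot_iff, ← h]
    exact Subgroup.le_normalClosure
  · rw [← h]
    have := layer_normal G
    exact Subgroup.normalClosure_le_normal (le_layer hcomp)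

/-- Let G be a finite group. (a) If K is a component of G with trivial centre, then the normal closure of K in G is a minimal normal subgroup of G. (b) If the Fitting subgroup of G is trivial, then the layer E(G) is generated by the minimal normal subgroups of G. -/
theorem result {G : Type*} [Group G] [Finite G] : (∀ K : Subgroup G, Cfsg.IsComponent K → Subgroup.center ↥K = ⊥ → (Subgroup.normalClosure (K : Set G) ≠ ⊥ ∧ ∀ N : Subgroup G, N.Normal → N ≤ Subgroup.normalClosure (K : Set G) → N = ⊥ ∨ N = Subgroup.normalClosure (K : Set G))) ∧ (Cfsg.fittingSubgroup G = ⊥ → sSup {N : Subgroup G | N ≠ ⊥ ∧ N.Normal ∧ ∀ N' : Subgroup G, N'.Normal → N' ≤ N → N' = ⊥ ∨ N' = N} = Cfsg.layer G) := by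
  refine ⟨fun K hK hZ => part_a K hK hZ, ?_⟩
  intro hF
  apply le_antisymm
  · apply sSup_le
    rintro N ⟨hN0, hN, hmin⟩
    exact minNormal_le_layer hF N hN0 hN hmin
  · unfold layer
    apply sSup_le
    intro K hK
    have hZ : Subgroup.center ↥K = ⊥ := by
      have hcomm : ∀ a ∈ (Subgroup.center ↥K).map K.subtype,
          ∀ b ∈ (Subgroup.center ↥K).map K.subtype, a * b = b * a := by
        rintro _ ⟨a, ha, rfl⟩ _ ⟨b, hb, rfl⟩
        have := Subgroup.mem_center_iff.mp ha b
        rw [← map_mul, ← map_mul, this]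
      have hsn : ((Subgroup.center ↥K).map K.subtype).IsSubnormal :=
        (Subgroup.Normal.isSubnormal inferInstance).trans' hK.1
      have hcm : IsMulCommutative ↥((Subgroup.center ↥K).map K.subtype) :=
        ⟨⟨fun a b => Subtype.ext (hcomm a a.2 b b.2)⟩⟩
      have hle : (Subgroup.center ↥K).map K.subtype ≤ fittingSubgroup G :=
        le_fittingSubgroup_of_isSubnormal hsn (isNilpotent_of_isMulCommutative _)
      rw [hF, le_bot_iff] at hle
      exact (Subgroup.map_eq_bot_iff_of_injective _ K.subtype_injective).mp hle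
    obtain ⟨h0, hm⟩ := part_a K hK hZ
    exact Subgroup.le_normalClosure.trans (le_sSup ⟨h0, Subgroup.normalClosure_normal, hm⟩)

end Cfsg.Agent.S3747
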