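import Cfsg.Statements.S3749
import Cfsg.Agent.Lib.helper66.Basic

set_option autoImplicit false
open Cfsg

namespace Cfsg.Agent.S3749

open Cfsg.Agent.Lib.helper66

open scoped Pointwise

section aux

variable {G : Type*} [Group G]

/-- Conjugation action of a subgroup on a normal subgroup. -/
@[reducible] def conjMDMA (Q N : Subgroup G) [hN : N.Normal] : MulDistribMulAction Q N where
  smul q n := ⟨q * n * (q : G)⁻¹, hN.conj_mem n n.2 q⟩
  one_smul n := Subtype.ext (by show ((1 : Q) : G) * n * ((1 : Q) : G)⁻¹ = n; simp)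
  mul_smul a b n := Subtype.ext (by
    show ((a * b : Q) : G) * n * ((a * b : Q) : G)⁻¹ = a * (b * n * (b : G)⁻¹) * (a : G)⁻¹
    simp [mul_assoc])
  smul_mul a m n := Subtype.ext (by
    show (a : G) * ((m * n : N) : G) * (a : G)⁻¹ = (a * m * (a : G)⁻¹) * (a * n * (a : G)⁻¹)
    simp [mul_assoc])
  smul_one a := Subtype.ext (by show (a : G) * ((1 : N) : G) * (a : G)⁻¹ = ((1 : N) : G); simp)

variable [Finite G]

theorem sylow_map_relIndex {q : ℕ} [Fact q.Prime] (N : Subgroup G) (S : Sylow q N) :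
    ¬ q ∣ ((S : Subgroup N).map N.subtype).relIndex N := by
  have h1 : ((S : Subgroup N).map N.subtype).subgroupOf N = (S : Subgroup N) :=
    Subgroup.comap_map_eq_self_of_injective N.subtype_injective _
  unfold Subgroup.relIndex
  rw [h1]
  exact S.not_dvd_index

theorem sylow_map_card {q : ℕ} [Fact q.Prime] (N : Subgroup G) (S T : Sylow q N) :
    Nat.card ((S : Subgroup N).map N.subtype) = Nat.card ((T : Subgroup N).map N.subtype) := by
  rw [Subgroup.card_map_of_injective N.subtype_injective,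
    Subgroup.card_map_of_injective N.subtype_injective, S.card_eq_multiplicity,
    T.card_eq_multiplicity]

/-- The conjugate of (the image of) a Sylow subgroup of a normal subgroup `N` by an element of `G`
is again (the image of) a Sylow subgroup of `N`. -/
theorem exists_sylow_of_conj {q : ℕ} [Fact q.Prime] (N : Subgroup G) [N.Normal] (S : Sylow q N)
    (g : G) : ∃ T : Sylow q N, (T : Subgroup N).map N.subtype =
      ((S : Subgroup N).map N.subtype).map (MulAut.conj g).toMonoidHom := by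
  have hCN : ((S : Subgroup N).map N.subtype).map (MulAut.conj g).toMonoidHom ≤ N :=
    map_conj_le_of_mem_normalizer (by rw [Subgroup.normalizer_eq_top]; trivial)
      (Subgroup.map_subtype_le _)
  have hCp : IsPGroup q (((S : Subgroup N).map N.subtype).map (MulAut.conj g).toMonoidHom) :=
    (S.isPGroup'.map _).map _
  have hidx : ¬ q ∣ (((S : Subgroup N).map N.subtype).map (MulAut.conj g).toMonoidHom).relIndex N := by
    have h1 := card_mul_relIndex hCN
    have h2 := card_mul_relIndex (Subgroup.map_subtype_le (S : Subgroup N))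
    rw [card_map_conj] at h1
    have h3 : (((S : Subgroup N).map N.subtype).map (MulAut.conj g).toMonoidHom).relIndex N =
        ((S : Subgroup N).map N.subtype).relIndex N :=
      Nat.eq_of_mul_eq_mul_left Nat.card_pos (h1.trans h2.symm)
    rw [h3]
    exact sylow_map_relIndex N S
  refine ⟨(hCp.comap_subtype (K := N)).toSylow hidx, ?_⟩
  exact Subgroup.map_subgroupOf_eq_of_le hCN

end aux

/-- Call a proper subgroup M of G primitive when M = N_G(N) for every non-trivial normal subgroup N of M. Let M be a primitive subgroup of the finite group G, p a prime with O_p(M) ≠ 1, and N a normal subgroup of G with M ∩ N = 1. Then p does not divide the order of N; for every prime q there is exactly one Sylow q-subgroup of N normalized by M; and if the order of N has at least two prime divisors then M is not a maximal subgroup of G. -/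
theorem result {G : Type*} [Group G] [Finite G] (M : Subgroup G) (hM : M ≠ ⊤) (hprim : ∀ N : Subgroup G, N ≤ M → M ≤ Subgroup.normalizer (N : Set G) → N ≠ ⊥ → Subgroup.normalizer (N : Set G) = M) {p : ℕ} [Fact p.Prime] (hOp : Cfsg.pCore p ↥M ≠ ⊥) (N : Subgroup G) [N.Normal] (hMN : M ⊓ N = ⊥) : ¬ p ∣ Nat.card N ∧ (∀ q : ℕ, [Fact q.Prime] → ∃! Q : Sylow q ↥N, M ≤ Subgroup.normalizer ((Q : Subgroup ↥N).map N.subtype : Set G)) ∧ ((∃ q r : ℕ, q.Prime ∧ r.Prime ∧ q ≠ r ∧ q ∣ Nat.card N ∧ r ∣ Nat.card N) → ¬ IsCoatom M) := by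
  classical
  have hQ₀M : (Cfsg.pCore p ↥M).map M.subtype ≤ M := Subgroup.map_subtype_le _
  have hQ₀ne : (Cfsg.pCore p ↥M).map M.subtype ≠ ⊥ := by
    intro h
    apply hOp
    rwa [Subgroup.map_eq_bot_iff_of_injective _ M.subtype_injective] at h
  have hQ₀p : IsPGroup p ((Cfsg.pCore p ↥M).map M.subtype) :=
    (Sylow.sSup_of_normal _ (fun H h => h.2) (fun H h => h.1)).map _
  have hMnorm : M ≤ Subgroup.normalizer (((Cfsg.pCore p ↥M).map M.subtype : Subgroup G) : Set G) := by
    rw [Subgroup.le_normalizer_iff]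
    rintro m hm _ ⟨k, hk, rfl⟩
    exact ⟨⟨m, hm⟩ * k * ⟨m, hm⟩⁻¹, (Cfsg.pCore_normal p M).conj_mem k hk ⟨m, hm⟩, rfl⟩
  have hNQ₀ : Subgroup.normalizer (((Cfsg.pCore p ↥M).map M.subtype : Subgroup G) : Set G) = M :=
    hprim _ hQ₀M hMnorm hQ₀ne
  generalize (Cfsg.pCore p ↥M).map M.subtype = Q₀ at hQ₀M hQ₀ne hQ₀p hMnorm hNQ₀
  have hQ₀N : Q₀ ⊓ N = ⊥ := le_bot_iff.mp (hMN ▸ inf_le_inf_right N hQ₀M)
  -- the centralizer of Q₀ in N is trivial
  have hfix : ∀ n ∈ N, (∀ x ∈ Q₀, x * n * x⁻¹ = n) → n = 1 := by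
    intro n hn h
    have h1 : n ∈ Subgroup.normalizer (Q₀ : Set G) := by
      apply Subgroup.centralizer_le_normalizer
      rw [Subgroup.mem_centralizer_iff]
      intro x hx
      have h2 := h x hx
      calc x * n = x * n * x⁻¹ * x := by group
        _ = n * x := by rw [h2]
    rw [hNQ₀] at h1
    have h3 : n ∈ M ⊓ N := ⟨h1, hn⟩
    rwa [hMN, Subgroup.mem_bot] at h3
  let _ := conjMDMA Q₀ N
  have hpN : ¬ p ∣ Nat.card N := by
    have h1 := hQ₀p.card_modEq_card_fixedPoints N
    have h2 : MulAction.fixedPoints Q₀ N = {1} := by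
      ext n
      simp only [MulAction.mem_fixedPoints, Set.mem_singleton_iff]
      constructor
      · intro h
        apply Subtype.ext
        apply hfix n n.2
        intro x hx
        exact congrArg Subtype.val (h ⟨x, hx⟩)
      · rintro rfl q
        exact smul_one q
    rw [h2] at h1
    intro hdvd
    have h3 : 0 ≡ 1 [MOD p] := (Nat.modEq_zero_iff_dvd.mpr hdvd).symm.trans (by simpa using h1)
    have h4 : p ∣ 1 := by
      have := (Nat.modEq_iff_dvd' (Nat.zero_le 1)).mp h3
      simpa using this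
    exact (Fact.out : p.Prime).one_lt.ne' (Nat.dvd_one.mp h4)
  -- existence and uniqueness of a Q₀-invariant Sylow subgroup
  have hsyl : ∀ q : ℕ, [Fact q.Prime] → ∃ S : Sylow q N,
      Q₀ ≤ Subgroup.normalizer (((S : Subgroup N).map N.subtype : Subgroup G) : Set G) ∧
      ∀ S' : Sylow q N,
        Q₀ ≤ Subgroup.normalizer (((S' : Subgroup N).map N.subtype : Subgroup G) : Set G) →
        S' = S := by
    intro q _
    have hcard : ¬ p ∣ Nat.card (Sylow q N) := by
      intro h
      have S₀ : Sylow q N := default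
      exact hpN (h.trans ((Sylow.card_dvd_index S₀).trans (Subgroup.index_dvd_card _)))
    obtain ⟨S, hS⟩ := hQ₀p.nonempty_fixed_point_of_prime_not_dvd_card (Sylow q N) hcard
    have hSinv : Q₀ ≤ Subgroup.normalizer (((S : Subgroup N).map N.subtype : Subgroup G) : Set G) := by
      rw [Subgroup.le_normalizer_iff]
      rintro x hx _ ⟨s, hs, rfl⟩
      have h1 : (⟨x, hx⟩ : Q₀) • S = S := hS ⟨x, hx⟩
      have h2 : (⟨x, hx⟩ : Q₀) • s ∈ ((⟨x, hx⟩ : Q₀) • (S : Subgroup N)) :=
        Subgroup.smul_mem_pointwise_smul s _ _ hs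
      rw [← Sylow.pointwise_smul_def, h1] at h2
      exact ⟨_, h2, rfl⟩
    refine ⟨S, hSinv, ?_⟩
    intro S' hS'
    -- S' is conjugate to S under N
    obtain ⟨n, hn, hconj⟩ := sylow_conj_in_subgroup (Subgroup.map_subtype_le (S : Subgroup N))
      (Subgroup.map_subtype_le (S' : Subgroup N)) (S.isPGroup'.map _) (S'.isPGroup'.map _)
      (sylow_map_card N S S') (sylow_map_relIndex N S)
    generalize hS₁ : (S : Subgroup N).map N.subtype = S₁ at hSinv hconj
    generalize hS₂ : (S' : Subgroup N).map N.subtype = S₂ at hS' hconj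
    -- the conjugate of Q₀ by n⁻¹ normalizes S₁
    have hQ'norm : Q₀.map (MulAut.conj n⁻¹).toMonoidHom ≤ Subgroup.normalizer (S₁ : Set G) := by
      intro y hy
      rw [mem_map_conj_iff, inv_inv] at hy
      have hy2 : n * y * n⁻¹ ∈ Subgroup.normalizer (S₂ : Set G) := hS' hy
      rw [mem_normalizer_iff_map_conj, hconj, ← map_conj_mul] at hy2
      rw [mem_normalizer_iff_map_conj]
      have h5 := congrArg (fun K : Subgroup G => K.map (MulAut.conj n⁻¹).toMonoidHom) hy2
      simp only [← map_conj_mul] at h5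
      have e1 : n⁻¹ * (n * y * n⁻¹ * n) = y := by group
      have e2 : n⁻¹ * n = 1 := by group
      rwa [e1, e2, map_conj_one] at h5
    have hQ'sup : Q₀.map (MulAut.conj n⁻¹).toMonoidHom ≤ Q₀ ⊔ N := by
      intro y hy
      rw [mem_map_conj_iff, inv_inv] at hy
      have h1 : n * y * n⁻¹ ∈ Q₀ ⊔ N := (le_sup_left : Q₀ ≤ Q₀ ⊔ N) hy
      have h2 : n ∈ Q₀ ⊔ N := (le_sup_right : N ≤ Q₀ ⊔ N) hn
      have h3 := (Q₀ ⊔ N).mul_mem ((Q₀ ⊔ N).mul_mem ((Q₀ ⊔ N).inv_mem h2) h1) h2
      have e1 : n⁻¹ * (n * y * n⁻¹) * n = y := by group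
      rwa [e1] at h3
    have hQ₀H : Q₀ ≤ Subgroup.normalizer (S₁ : Set G) ⊓ (Q₀ ⊔ N) := le_inf hSinv le_sup_left
    have hidx : ¬ p ∣ Q₀.relIndex (Subgroup.normalizer (S₁ : Set G) ⊓ (Q₀ ⊔ N)) := by
      intro hdvd
      have h1 := Subgroup.relIndex_mul_relIndex Q₀ (Subgroup.normalizer (S₁ : Set G) ⊓ (Q₀ ⊔ N))
        (Q₀ ⊔ N) hQ₀H inf_le_right
      rw [relIndex_sup_of_disjoint Q₀ N hQ₀N] at h1
      exact hpN (hdvd.trans (Dvd.intro _ h1))
    obtain ⟨h, hh, hQ⟩ := sylow_conj_in_subgroup hQ₀H (le_inf hQ'norm hQ'sup) hQ₀p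
      (isPGroup_map_conj hQ₀p n⁻¹) (card_map_conj Q₀ n⁻¹).symm hidx
    -- n * h normalizes Q₀, so lies in M
    have hnh : n * h ∈ M := by
      rw [← hNQ₀, mem_normalizer_iff_map_conj, map_conj_mul, ← hQ, ← map_conj_mul, mul_inv_cancel,
        map_conj_one]
    obtain ⟨x, hx, y, hy, hxy⟩ := Subgroup.mem_sup_of_normal_right.mp hh.2
    have hn' : x⁻¹ * (n * h) = 1 := by
      have h1 : x⁻¹ * (n * h) ∈ M := M.mul_mem (M.inv_mem (hQ₀M hx)) hnh
      have h2 : x⁻¹ * (n * h) ∈ N := by
        have e : x⁻¹ * (n * h) = (x⁻¹ * n * x) * y := by rw [← hxy]; group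
        rw [e]
        exact N.mul_mem (‹N.Normal›.conj_mem' n hn x) hy
      have h3 : x⁻¹ * (n * h) ∈ M ⊓ N := ⟨h1, h2⟩
      rwa [hMN, Subgroup.mem_bot] at h3
    have hn2 : n = x * h⁻¹ := by
      have : n * h = x := by
        have := congrArg (fun z => x * z) hn'
        simpa using this
      rw [← this]; group
    have hfinal : S₂ = S₁ := by
      rw [hconj, hn2, map_conj_mul,
        (mem_normalizer_iff_map_conj S₁ h⁻¹).mp (Subgroup.inv_mem _ hh.1),
        (mem_normalizer_iff_map_conj S₁ x).mp (hSinv hx)]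
    apply Sylow.ext
    apply Subgroup.map_injective N.subtype_injective
    rw [hS₁, hS₂]
    exact hfinal
  -- M-invariance
  have hM2 : ∀ q : ℕ, [Fact q.Prime] → ∃! Q : Sylow q ↥N,
      M ≤ Subgroup.normalizer ((Q : Subgroup ↥N).map N.subtype : Set G) := by
    intro q _
    obtain ⟨S, hS, huniq⟩ := hsyl q
    refine ⟨S, ?_, ?_⟩
    · intro m hm
      obtain ⟨T, hT⟩ := exists_sylow_of_conj N S m
      have hTinv : Q₀ ≤ Subgroup.normalizer (((T : Subgroup N).map N.subtype : Subgroup G) : Set G) := by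
        intro x hx
        rw [hT, mem_normalizer_iff_map_conj, ← map_conj_mul]
        have e : x * m = m * (m⁻¹ * x * m) := by group
        rw [e, map_conj_mul]
        have h1 : m⁻¹ * x * m ∈ Q₀ := by
          have h2 := (Subgroup.mem_normalizer_iff.mp (hMnorm (M.inv_mem hm)) x).mp hx
          simpa using h2
        rw [(mem_normalizer_iff_map_conj _ _).mp (hS h1)]
      have hTS := huniq T hTinv
      rw [hTS] at hT
      exact (mem_normalizer_iff_map_conj _ m).mpr hT.symm
    · intro S' hS'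
      exact huniq S' (hQ₀M.trans hS')
  refine ⟨hpN, hM2, ?_⟩
  rintro ⟨q, r, hq, hr, hqr, hqN, hrN⟩ hcoatom
  have : Fact q.Prime := ⟨hq⟩
  obtain ⟨S, hSM, -⟩ := hM2 q
  have hS₁N : (S : Subgroup N).map N.subtype ≤ N := Subgroup.map_subtype_le _
  have hS₁ne : (S : Subgroup N).map N.subtype ≠ ⊥ := by
    intro h
    rw [Subgroup.map_eq_bot_iff_of_injective _ N.subtype_injective] at h
    exact Sylow.ne_bot_of_dvd_card S hqN h
  have hS₁q : IsPGroup q ((S : Subgroup N).map N.subtype) := S.isPGroup'.map _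
  generalize (S : Subgroup N).map N.subtype = S₁ at hSM hS₁N hS₁ne hS₁q
  have hlt : M < M ⊔ S₁ := by
    refine lt_of_le_of_ne le_sup_left (fun h => ?_)
    have h1 : S₁ ≤ M := by rw [h]; exact le_sup_right
    have h2 : S₁ ≤ M ⊓ N := le_inf h1 hS₁N
    rw [hMN] at h2
    exact hS₁ne (le_bot_iff.mp h2)
  have htop : M ⊔ S₁ = ⊤ := hcoatom.2 _ hlt
  have hS₁norm : S₁.Normal := by
    rw [← Subgroup.normalizer_eq_top_iff, eq_top_iff, ← htop]
    exact sup_le hSM Subgroup.le_normalizer
  have hd1 : M ⊓ S₁ = ⊥ := le_bot_iff.mp (hMN ▸ inf_le_inf_left M hS₁N)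
  have c1 := relIndex_sup_of_disjoint M S₁ hd1
  have c2 := relIndex_sup_of_disjoint M N hMN
  have c3 := card_mul_relIndex (le_sup_left : M ≤ M ⊔ S₁)
  have c4 := card_mul_relIndex (le_sup_left : M ≤ M ⊔ N)
  have c5 : Nat.card ↥(M ⊔ N) ≤ Nat.card ↥(M ⊔ S₁) := by
    rw [htop]
    exact Subgroup.card_le_of_le le_top
  have c6 : Nat.card N ≤ Nat.card S₁ := by
    rw [c1] at c3
    rw [c2] at c4
    rw [← c3, ← c4] at c5
    exact Nat.le_of_mul_le_mul_left c5 Nat.card_pos
  have hSN : S₁ = N := Subgroup.eq_of_le_of_card_ge hS₁N c6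
  rw [hSN] at hS₁q
  obtain ⟨k, hk⟩ := IsPGroup.iff_card.mp hS₁q
  rw [hk] at hrN
  exact hqr ((Nat.prime_dvd_prime_iff_eq hr hq).mp (hr.dvd_of_dvd_pow hrN)).symm

end Cfsg.Agent.S3749
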