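import Cfsg.Statements.S3750
import Cfsg.Agent.Lib.helper27.FStar
import Cfsg.Agent.Lib.helper28.Fitting

set_option autoImplicit false
open Cfsg

namespace Cfsg.Agent.S3750

open scoped commutatorElement

/-- Call a proper subgroup M of G primitive when M = N_G(N) for every non-trivial normal subgroup N of M. Let M be a primitive subgroup of the finite group G and N a normal subgroup of G with M ∩ F*(N) ≠ 1. Then F(G) = 1 and F*(N) = F*(G) = E(G); in particular every minimal normal subgroup of G is contained in N. -/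
theorem result {G : Type*} [Group G] [Finite G] (M : Subgroup G) (hM : M ≠ ⊤) (hprim : ∀ N : Subgroup G, N ≤ M → M ≤ Subgroup.normalizer (N : Set G) → N ≠ ⊥ → Subgroup.normalizer (N : Set G) = M) (N : Subgroup G) [N.Normal] (hMF : M ⊓ (Cfsg.generalizedFittingSubgroup ↥N).map N.subtype ≠ ⊥) : Cfsg.fittingSubgroup G = ⊥ ∧ (Cfsg.generalizedFittingSubgroup ↥N).map N.subtype = Cfsg.generalizedFittingSubgroup G ∧ Cfsg.generalizedFittingSubgroup G = Cfsg.layer G ∧ ∀ K : Subgroup G, K.Normal → K ≠ ⊥ → (∀ K' : Subgroup G, K'.Normal → K' ≤ K → K' = ⊥ ∨ K' = K) → K ≤ N := by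
  classical
  have hNn : N.Normal := inferInstance
  have hNsub : N.IsSubnormal := hNn.isSubnormal
  set F := (Cfsg.generalizedFittingSubgroup ↥N).map N.subtype with hFdef
  have hFn : F.Normal := by
    have h1 := Cfsg.Agent.Lib.helper27.normalizer_le_normalizer_map_subtype_of_characteristic N
      (Cfsg.generalizedFittingSubgroup ↥N)
    rw [Subgroup.normalizer_eq_top_iff.mpr hNn] at h1
    exact Subgroup.normalizer_eq_top_iff.mp (top_le_iff.mp h1)
  have hFN : F ≤ N := Subgroup.map_subtype_le _
  -- no nontrivial normal subgroup of `G` lies in `M`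
  have hP0 : ∀ K : Subgroup G, K.Normal → K ≤ M → K = ⊥ := by
    intro K hKn hKM
    by_contra hK
    have htop : Subgroup.normalizer (K : Set G) = ⊤ := Subgroup.normalizer_eq_top_iff.mpr hKn
    have h1 := hprim K hKM (by rw [htop]; exact le_top) hK
    rw [htop] at h1
    exact hM h1.symm
  set D := M ⊓ F with hD
  have hDM : D ≤ M := inf_le_left
  have hMD : M ≤ Subgroup.normalizer (D : Set G) := by
    intro m hm
    rw [Subgroup.mem_normalizer_iff]
    intro h
    constructor
    · intro hh
      exact Subgroup.mem_inf.mpr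
        ⟨M.mul_mem (M.mul_mem hm (Subgroup.mem_inf.mp hh).1) (M.inv_mem hm),
          hFn.conj_mem h (Subgroup.mem_inf.mp hh).2 m⟩
    · intro hh
      have h1 := (Subgroup.mem_inf.mp hh).1
      have h2 := (Subgroup.mem_inf.mp hh).2
      refine Subgroup.mem_inf.mpr ⟨?_, ?_⟩
      · have h3 := M.mul_mem (M.mul_mem (M.inv_mem hm) h1) hm
        have e : m⁻¹ * (m * h * m⁻¹) * m = h := by group
        rwa [e] at h3
      · have h3 := hFn.conj_mem _ h2 m⁻¹
        have e : m⁻¹ * (m * h * m⁻¹) * m⁻¹⁻¹ = h := by group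
        rwa [e] at h3
  have hND : Subgroup.normalizer (D : Set G) = M := hprim D hDM hMD hMF
  -- `C_G(F*(N)) = 1`
  have hCF : Subgroup.centralizer (F : Set G) = ⊥ := by
    apply hP0 _ Subgroup.normal_centralizer
    calc Subgroup.centralizer (F : Set G) ≤ Subgroup.centralizer (D : Set G) :=
          Subgroup.centralizer_le (by exact_mod_cast (inf_le_right : D ≤ F))
      _ ≤ Subgroup.normalizer (D : Set G) := Subgroup.centralizer_le_normalizer _
      _ = M := hND
  set EN := (Cfsg.layer ↥N).map N.subtype with hEN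
  set FN := (Cfsg.fittingSubgroup ↥N).map N.subtype with hFNdef
  have hFsup : F = EN ⊔ FN := by
    rw [hFdef]
    unfold Cfsg.generalizedFittingSubgroup
    rw [Subgroup.map_sup]
  have hENF : EN ≤ F := by rw [hFsup]; exact le_sup_left
  have hFNF : FN ≤ F := by rw [hFsup]; exact le_sup_right
  have hFNeq : FN = Cfsg.fittingSubgroup G ⊓ N :=
    Cfsg.Agent.Lib.helper28.map_fittingSubgroup_of_isSubnormal hNsub
  have hENle : EN ≤ Cfsg.layer G := by
    rw [hEN, Subgroup.map_le_iff_le_comap]
    apply sSup_le
    intro K hK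
    rw [← Subgroup.map_le_iff_le_comap]
    exact Cfsg.Agent.Lib.helper27.le_layer (Cfsg.Agent.Lib.helper27.isComponent_map_subtype hNsub hK)
  -- an element commuting with `EN` and `FN` is trivial
  have hcent : ∀ c : G, (∀ x ∈ EN, x * c = c * x) → (∀ x ∈ FN, x * c = c * x) → c = 1 := by
    intro c h1 h2
    have hc : c ∈ Subgroup.centralizer (F : Set G) := by
      have h3 : F ≤ Subgroup.centralizer ({c} : Set G) := by
        rw [hFsup]
        apply sup_le
        · intro x hx
          rw [Subgroup.mem_centralizer_iff]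
          intro w hw
          rw [Set.mem_singleton_iff] at hw
          subst hw
          exact (h1 x hx).symm
        · intro x hx
          rw [Subgroup.mem_centralizer_iff]
          intro w hw
          rw [Set.mem_singleton_iff] at hw
          subst hw
          exact (h2 x hx).symm
      rw [Subgroup.mem_centralizer_iff]
      intro x hx
      exact (Subgroup.mem_centralizer_iff.mp (h3 hx) c rfl).symm
    rw [hCF, Subgroup.mem_bot] at hc
    exact hc
  -- `F(G) = 1`
  have hFG : Cfsg.fittingSubgroup G = ⊥ := by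
    by_contra hne
    have hnil : Group.IsNilpotent (Cfsg.fittingSubgroup G) :=
      Cfsg.Agent.Lib.helper28.fittingSubgroup_isNilpotent G
    have hnt : Nontrivial (Cfsg.fittingSubgroup G) :=
      (Subgroup.nontrivial_iff_ne_bot _).mpr hne
    have h1 := Group.IsNilpotent.center_ne_bot (G := ↥(Cfsg.fittingSubgroup G))
    obtain ⟨c, hc1⟩ := (Subgroup.ne_bot_iff_exists_ne_one.mp h1)
    apply hc1
    have hcc : ∀ x ∈ Cfsg.fittingSubgroup G, x * ((c : ↥(Cfsg.fittingSubgroup G)) : G) =
        ((c : ↥(Cfsg.fittingSubgroup G)) : G) * x := by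
      intro x hx
      have h2 := (Subgroup.mem_center_iff.mp c.2) ⟨x, hx⟩
      exact congrArg Subtype.val h2
    have h3 : ((c : ↥(Cfsg.fittingSubgroup G)) : G) = 1 := by
      apply hcent
      · intro x hx
        have h4 := Cfsg.Agent.Lib.helper27.layer_le_centralizer_fittingSubgroup (G := G) (hENle hx)
        exact (Subgroup.mem_centralizer_iff.mp h4 _ (c : ↥(Cfsg.fittingSubgroup G)).2).symm
      · intro x hx
        rw [hFNeq] at hx
        exact hcc x (Subgroup.mem_inf.mp hx).1
    exact Subtype.ext (Subtype.ext h3)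
  have hFNbot : FN = ⊥ := by rw [hFNeq, hFG, bot_inf_eq]
  have hFEN : F = EN := by rw [hFsup, hFNbot, sup_bot_eq]
  have hFsG : Cfsg.generalizedFittingSubgroup G = Cfsg.layer G := by
    unfold Cfsg.generalizedFittingSubgroup
    rw [hFG, sup_bot_eq]
  -- centralizer of `N` is trivial
  have hCN : ∀ K : Subgroup G, ⁅K, N⁆ = ⊥ → K = ⊥ := by
    intro K hK
    rw [eq_bot_iff]
    intro k hk
    rw [Subgroup.mem_bot]
    have hcomm : ∀ x ∈ N, x * k = k * x := by
      intro x hx
      have h1 : ⁅k, x⁆ ∈ ⁅K, N⁆ := Subgroup.commutator_mem_commutator hk hx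
      rw [hK, Subgroup.mem_bot, commutatorElement_def] at h1
      calc x * k = (k * x * k⁻¹ * x⁻¹)⁻¹ * (k * x) := by group
        _ = k * x := by rw [h1]; group
    exact hcent k (fun x hx => hcomm x (hFN (hENF hx))) (fun x hx => hcomm x (hFN (hFNF hx)))
  have hlayer : Cfsg.layer G ≤ EN := by
    apply sSup_le
    intro L hL
    rcases Cfsg.Agent.Lib.helper27.component_le_or_commute L N hL hNsub with h | h
    · have h1 := Cfsg.Agent.Lib.helper27.isComponent_subgroupOf hL h
      have h2 : L.subgroupOf N ≤ Cfsg.layer ↥N := Cfsg.Agent.Lib.helper27.le_layer h1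
      have h3 := Subgroup.map_mono (f := N.subtype) h2
      rwa [Subgroup.map_subgroupOf_eq_of_le h] at h3
    · exact absurd (hCN L h) (Cfsg.Agent.Lib.helper27.IsComponent.ne_bot hL)
  refine ⟨hFG, ?_, hFsG, ?_⟩
  · rw [hFsG, hFEN]
    exact le_antisymm hENle hlayer
  · intro K hKn hK hmin
    have hKNn : (K ⊓ N).Normal := inferInstance
    rcases hmin (K ⊓ N) hKNn inf_le_left with h | h
    · exfalso
      apply hK
      apply hCN
      rw [eq_bot_iff, ← h]
      exact le_inf (Subgroup.commutator_le_left K N) (Subgroup.commutator_le_right K N)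
    · rw [← h]; exact inf_le_right

end Cfsg.Agent.S3750
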