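import Cfsg.Statements.S3751
-- import your own Cfsg.Agent.* helpers here
import Cfsg.Agent.Lib.helper36.MaxPLocal

set_option autoImplicit false
open Cfsg

namespace Cfsg.Agent.S3751

/-- Two distinct subgroups M₁, M₂ of G form a primitive pair when, for {i, j} = {1, 2}, every non-trivial normal subgroup A of M_i contained in M₁ ∩ M₂ satisfies N_{M_j}(A) = M₁ ∩ M₂; the pair has characteristic p when moreover C_{M_i}(O_p(M_i)) ≤ O_p(M_i) for both i and O_p(M₁)O_p(M₂) ≤ M₁ ∩ M₂. Let G be a finite group, p a prime dividing its order, with O_p(G) = 1 and every p-local subgroup of characteristic p. Then either G has a primitive pair of characteristic p, or every maximal p-local subgroup M of G is strongly p-embedded in G: M is a proper subgroup, p divides its order, and for every g ∉ M the order of M ∩ gMg⁻¹ is prime to p. -/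
theorem result {G : Type*} [Group G] [Finite G] {p : ℕ} [Fact p.Prime] (hloc : Cfsg.IsOfLocalCharacteristic p G) (hOp : Cfsg.pCore p G = ⊥) : (∃ M₁ M₂ : Subgroup G, M₁ ≠ M₂ ∧ (∀ A : Subgroup G, A ≠ ⊥ → A ≤ M₁ ⊓ M₂ → (M₁ ≤ Subgroup.normalizer (A : Set G) → M₂ ⊓ Subgroup.normalizer (A : Set G) = M₁ ⊓ M₂) ∧ (M₂ ≤ Subgroup.normalizer (A : Set G) → M₁ ⊓ Subgroup.normalizer (A : Set G) = M₁ ⊓ M₂)) ∧ Subgroup.centralizer (Cfsg.pCore p ↥M₁ : Set ↥M₁) ≤ Cfsg.pCore p ↥M₁ ∧ Subgroup.centralizer (Cfsg.pCore p ↥M₂ : Set ↥M₂) ≤ Cfsg.pCore p ↥M₂ ∧ (Cfsg.pCore p ↥M₁).map M₁.subtype ⊔ (Cfsg.pCore p ↥M₂).map M₂.subtype ≤ M₁ ⊓ M₂) ∨ (∀ M : Subgroup G, (∃ T : Subgroup G, IsPGroup p T ∧ T ≠ ⊥ ∧ M = Subgroup.normalizer (T : Set G)) → (∀ L : Subgroup G, (∃ T : Subgroup G, IsPGroup p T ∧ T ≠ ⊥ ∧ L = Subgroup.normalizer (T : Set G)) → M ≤ L → L = M) → M ≠ ⊤ ∧ p ∣ Nat.card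 M ∧ ∀ g : G, g ∉ M → ¬ p ∣ Nat.card ↥(M ⊓ M.map (MulAut.conj g).toMonoidHom)) := by
  by_cases hpair : ∃ M₁ M₂ : Subgroup G, M₁ ≠ M₂ ∧ (∀ A : Subgroup G, A ≠ ⊥ → A ≤ M₁ ⊓ M₂ → (M₁ ≤ Subgroup.normalizer (A : Set G) → M₂ ⊓ Subgroup.normalizer (A : Set G) = M₁ ⊓ M₂) ∧ (M₂ ≤ Subgroup.normalizer (A : Set G) → M₁ ⊓ Subgroup.normalizer (A : Set G) = M₁ ⊓ M₂)) ∧ Subgroup.centralizer (Cfsg.pCore p ↥M₁ : Set ↥M₁) ≤ Cfsg.pCore p ↥M₁ ∧ Subgroup.centralizer (Cfsg.pCore p ↥M₂ : Set ↥M₂) ≤ Cfsg.pCore p ↥M₂ ∧ (Cfsg.pCore p ↥M₁).map M₁.subtype ⊔ (Cfsg.pCore p ↥M₂).map M₂.subtype ≤ M₁ ⊓ M₂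
  · exact Or.inl hpair
  right
  intro M hMloc hMmax
  have hM : Cfsg.Agent.Lib.helper36.IsMaxPLocalSub p M := ⟨hMloc, hMmax⟩
  obtain ⟨h1, h2⟩ := Cfsg.Agent.Lib.helper36.IsPLocalSub.ne_top_and_dvd hOp hM.1
  refine ⟨h1, h2, ?_⟩
  intro g hg hdvd
  apply hpair
  obtain ⟨N₁, N₂, T, hN₁, hN₂, hne, hTp, hTN₁, hTN₂, hmax₁, hmax₂⟩ :=
    Cfsg.Agent.Lib.helper36.exists_pair_common_sylow hloc hM g hg hdvd
  refine ⟨N₁, N₂, hne, ?_, hN₁.1.centralizer_pCore_le hloc, hN₂.1.centralizer_pCore_le hloc, ?_⟩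
  · intro A hA1 hAle
    constructor
    · intro hNA
      rw [hN₁.normalizer_eq hloc A (hAle.trans inf_le_left) hA1 hNA]
      exact inf_comm _ _
    · intro hNA
      rw [hN₂.normalizer_eq hloc A (hAle.trans inf_le_right) hA1 hNA]
  · apply sup_le
    · exact (Cfsg.Agent.Lib.helper36.map_pCore_le_of_maximal hTp hTN₁ hmax₁).trans
        (le_inf hTN₁ hTN₂)
    · exact (Cfsg.Agent.Lib.helper36.map_pCore_le_of_maximal hTp hTN₂ hmax₂).trans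
        (le_inf hTN₁ hTN₂)

end Cfsg.Agent.S3751
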