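import Cfsg.Statements.S3752
-- import your own Cfsg.Agent.* helpers here
import Cfsg.Agent.Lib.helper36.BenderPrim
import Cfsg.Agent.Lib.helper40.Cores

set_option autoImplicit false
open Cfsg

namespace Cfsg.Agent.S3752

/-- If `F*(H)` is a `p`-group then it equals `O_p(H)`, which is then self-centralizing. -/
theorem centralizer_pCore_le_of_isPGroup_fstar {H : Type*} [Group H] [Finite H] {p : ℕ}
    [Fact p.Prime] (h : IsPGroup p ↥(Cfsg.generalizedFittingSubgroup H)) :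
    Cfsg.pCore p H = Cfsg.generalizedFittingSubgroup H ∧
      Subgroup.centralizer (Cfsg.pCore p H : Set H) ≤ Cfsg.pCore p H := by
  have h1 : Cfsg.generalizedFittingSubgroup H ≤ Cfsg.pCore p H :=
    Cfsg.Agent.Lib.helper40.le_pCore _
      (Cfsg.Agent.Lib.helper28.generalizedFittingSubgroup_normal H) h
  have h2 : Cfsg.pCore p H ≤ Cfsg.generalizedFittingSubgroup H := by
    refine (Cfsg.Agent.Lib.helper27.pCore_le_fittingSubgroup p).trans ?_
    rw [Cfsg.generalizedFittingSubgroup]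
    exact le_sup_right
  have h3 : Cfsg.pCore p H = Cfsg.generalizedFittingSubgroup H := le_antisymm h2 h1
  refine ⟨h3, ?_⟩
  rw [h3]
  exact Cfsg.Agent.Lib.helper28.centralizer_generalizedFittingSubgroup_le H

/-- Bender's Theorem on primitive pairs. Two distinct subgroups M₁, M₂ of G form a primitive pair when, for {i, j} = {1, 2}, every non-trivial normal subgroup A of M_i contained in M₁ ∩ M₂ satisfies N_{M_j}(A) = M₁ ∩ M₂; the pair has characteristic p when moreover C_{M_i}(O_p(M_i)) ≤ O_p(M_i) for both i and O_p(M₁)O_p(M₂) ≤ M₁ ∩ M₂. If (M₁, M₂) is a primitive pair of the finite group G with F*(M₁) ≤ M₂ and F*(M₂) ≤ M₁, then for some prime p the pair has characteristic p. -/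
theorem result {G : Type*} [Group G] [Finite G] (M₁ M₂ : Subgroup G) (hne : M₁ ≠ M₂) (hP : ∀ A : Subgroup G, A ≠ ⊥ → A ≤ M₁ ⊓ M₂ → (M₁ ≤ Subgroup.normalizer (A : Set G) → M₂ ⊓ Subgroup.normalizer (A : Set G) = M₁ ⊓ M₂) ∧ (M₂ ≤ Subgroup.normalizer (A : Set G) → M₁ ⊓ Subgroup.normalizer (A : Set G) = M₁ ⊓ M₂)) (h₁ : (Cfsg.generalizedFittingSubgroup ↥M₁).map M₁.subtype ≤ M₂) (h₂ : (Cfsg.generalizedFittingSubgroup ↥M₂).map M₂.subtype ≤ M₁) : ∃ p : ℕ, p.Prime ∧ Subgroup.centralizer (Cfsg.pCore p ↥M₁ : Set ↥M₁) ≤ Cfsg.pCore p ↥M₁ ∧ Subgroup.centralizer (Cfsg.pCore p ↥M₂ : Set ↥M₂) ≤ Cfsg.pCore p ↥M₂ ∧ (Cfsg.pCore p ↥M₁).map M₁.subtype ⊔ (Cfsg.pCore p ↥M₂).map M₂.subtype ≤ M₁ ⊓ M₂ := by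
  obtain ⟨p, hp, hp1, hp2⟩ := Cfsg.Agent.Lib.helper36.bender_primitive_pair M₁ M₂ hne hP h₁ h₂
  haveI : Fact p.Prime := ⟨hp⟩
  obtain ⟨e1, c1⟩ := centralizer_pCore_le_of_isPGroup_fstar hp1
  obtain ⟨e2, c2⟩ := centralizer_pCore_le_of_isPGroup_fstar hp2
  refine ⟨p, hp, c1, c2, ?_⟩
  rw [e1, e2]
  apply sup_le
  · exact le_inf (Subgroup.map_subtype_le _) h₁
  · exact le_inf h₂ (Subgroup.map_subtype_le _)

end Cfsg.Agent.S3752
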