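import Cfsg.Statements.S3754
import Mathlib
import Cfsg.Agent.Lib.helper66.DualHH
import Cfsg.Agent.Lib.helper38.HallHigman2
import Cfsg.Agent.Lib.helper3.PGroupFrattini
import Cfsg.Agent.Lib.helper37.CoprimeGen
import Cfsg.Agent.Lib.helper40.PResidual
import Cfsg.Agent.Lib.helper52.Subn
import Cfsg.Agent.Lib.helper53.FrakH2
import Cfsg.Agent.Lib.helper53.FrakH3
import Cfsg.Agent.Lib.helper53.Comm
import Cfsg.Agent.Lib.helper88.CentricRadical
import Cfsg.Agent.Lib.helper27.Radical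

set_option autoImplicit false
set_option linter.style.haveILetI false
set_option linter.unusedSectionVars false
open Cfsg

namespace Cfsg.Agent.S3754

open Cfsg.Agent.Lib.helper66 Cfsg.Agent.Lib.helper27

open scoped commutatorElement

/-- Choice of `x` minimising `|⟨A, A^x⟩|`: it lies in `O^p(⟨A, A^x⟩)`. -/
theorem exists_good {M : Type*} [Group M] [Finite M] {p : ℕ} [Fact p.Prime]
    (Q K A : Subgroup M) [Q.Normal] [K.Normal]
    (hKcop : ∀ g ∈ K, (orderOf (QuotientGroup.mk' Q g)).Coprime p)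
    (B : Subgroup (M ⧸ Q))
    (hAB : ∀ b ∈ A, QuotientGroup.mk' Q b ∈ Subgroup.centralizer (B : Set (M ⧸ Q)))
    (a : M) (haA : a ∈ A) (hap : a ^ p ∈ Q)
    (x₀ : M) (hx₀K : x₀ ∈ K)
    (hx₀B : QuotientGroup.mk' Q x₀ ∈ Subgroup.centralizer (B : Set (M ⧸ Q)))
    (hx₀a : ¬ Commute (QuotientGroup.mk' Q x₀) (QuotientGroup.mk' Q a)) :
    ∃ x ∈ K, QuotientGroup.mk' Q x ∈ Subgroup.centralizer (B : Set (M ⧸ Q)) ∧
      ¬ Commute (QuotientGroup.mk' Q x) (QuotientGroup.mk' Q a) ∧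
      x ∈ (Cfsg.pResidual p ↥(A ⊔ A.map (MulAut.conj x).toMonoidHom)).map
        (A ⊔ A.map (MulAut.conj x).toMonoidHom).subtype := by
  classical
  set π := QuotientGroup.mk' Q with hπ
  let S : Set M := {x | x ∈ K ∧ π x ∈ Subgroup.centralizer (B : Set (M ⧸ Q)) ∧
    ¬ Commute (π x) (π a)}
  obtain ⟨x, hxS, hmin⟩ := Set.exists_min_image S
    (fun x => Nat.card ↥(A ⊔ A.map (MulAut.conj x).toMonoidHom)) (Set.toFinite S)
    ⟨x₀, hx₀K, hx₀B, hx₀a⟩
  obtain ⟨hxK, hxB, hxa⟩ := hxS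
  set L := A ⊔ A.map (MulAut.conj x).toMonoidHom with hL
  set y := a * (x * a⁻¹ * x⁻¹) with hy
  have hyL : y ∈ L :=
    L.mul_mem (le_sup_left (a := A) haA)
      (le_sup_right (a := A) ⟨a⁻¹, A.inv_mem haA, by simp⟩)
  have hyK : y ∈ K := by
    have : y = (a * x * a⁻¹) * x⁻¹ := by rw [hy]; group
    rw [this]; exact K.mul_mem (‹K.Normal›.conj_mem x hxK a) (K.inv_mem hxK)
  have hyB : π y ∈ Subgroup.centralizer (B : Set (M ⧸ Q)) := by
    rw [hy, map_mul, map_mul, map_mul, map_inv, map_inv]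
    exact mul_mem (hAB a haA) (mul_mem (mul_mem hxB (inv_mem (hAB a haA))) (inv_mem hxB))
  have h3 : π a * π x * (π a)⁻¹ = π y * π x := by
    rw [hy]; simp only [map_mul, map_inv]; group
  have hya : ¬ Commute (π y) (π a) := by
    intro hc
    have h1 : ∀ k : ℕ, (π a) ^ k * π x * ((π a) ^ k)⁻¹ = (π y) ^ k * π x := by
      intro k
      induction k with
      | zero => simp
      | succ k ih =>
        have e1 : (π a) ^ (k + 1) * π x * ((π a) ^ (k + 1))⁻¹
            = π a * ((π a) ^ k * π x * ((π a) ^ k)⁻¹) * (π a)⁻¹ := by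
          rw [pow_succ']; group
        rw [e1, ih]
        have h2 : π a * (π y) ^ k = (π y) ^ k * π a := ((hc.pow_left k).eq).symm
        calc π a * ((π y) ^ k * π x) * (π a)⁻¹
            = (π a * (π y) ^ k) * π x * (π a)⁻¹ := by group
          _ = (π y) ^ k * (π a * π x * (π a)⁻¹) := by rw [h2]; group
          _ = (π y) ^ (k + 1) * π x := by rw [h3, pow_succ]; group
    have hap' : (π a) ^ p = 1 := by
      rw [← map_pow]; exact (QuotientGroup.eq_one_iff _).mpr hap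
    have h4 := h1 p
    rw [hap'] at h4
    have h5 : (π y) ^ p = 1 := by
      have : π x = (π y) ^ p * π x := by simpa using h4
      exact (mul_eq_right.mp this.symm)
    have h6 : π y = 1 := by
      have hcop := hKcop y hyK
      have hdvd : orderOf (π y) ∣ p := orderOf_dvd_of_pow_eq_one h5
      exact orderOf_eq_one_iff.mp (Nat.Coprime.eq_one_of_dvd hcop hdvd)
    rw [h6, one_mul] at h3
    apply hxa
    have : π a * π x = π x * π a := by
      calc π a * π x = (π a * π x * (π a)⁻¹) * π a := by group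
        _ = π x * π a := by rw [h3]
    exact this.symm
  obtain ⟨k, hk⟩ := Cfsg.Agent.Lib.helper40.exists_pow_mem_pResidual (p := p) (⟨y, hyL⟩ : ↥L)
  set x' := y ^ p ^ k with hx'
  have hx'L : x' ∈ L := L.pow_mem hyL _
  have hx'R : x' ∈ (Cfsg.pResidual p ↥L).map L.subtype := ⟨_, hk, by simp [hx']⟩
  have hx'K : x' ∈ K := K.pow_mem hyK _
  have hx'B : π x' ∈ Subgroup.centralizer (B : Set (M ⧸ Q)) := by
    rw [hx', map_pow]; exact pow_mem hyB _
  have hx'a : ¬ Commute (π x') (π a) := by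
    intro hc
    have hcop : (p ^ k).Coprime (orderOf (π y)) := Nat.Coprime.pow_left k (hKcop y hyK).symm
    obtain ⟨m, hm⟩ := exists_pow_eq_self_of_coprime hcop
    apply hya
    rw [← hm, ← map_pow]
    exact hc.pow_left m
  have hL' : A ⊔ A.map (MulAut.conj x').toMonoidHom ≤ L := by
    refine sup_le le_sup_left ?_
    rintro _ ⟨b, hb, rfl⟩
    simp only [MulEquiv.coe_toMonoidHom, MulAut.conj_apply]
    exact L.mul_mem (L.mul_mem hx'L (le_sup_left (a := A) hb)) (L.inv_mem hx'L)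
  have hcard := hmin x' ⟨hx'K, hx'B, hx'a⟩
  have hLeq : A ⊔ A.map (MulAut.conj x').toMonoidHom = L :=
    Subgroup.eq_of_le_of_card_ge hL' hcard
  refine ⟨x', hx'K, hx'B, hx'a, ?_⟩
  rw [Cfsg.Agent.Lib.helper52.map_pResidual_subtype] at hx'R ⊢
  rw [hLeq]; exact hx'R

/-- The properties of a good `x`. -/
theorem props {M : Type*} [Group M] [Finite M] {p : ℕ} [hp : Fact p.Prime]
    (Q K A : Subgroup M) [Q.Normal] [K.Normal] (hQ : IsPGroup p Q)
    (hKcop : ∀ g ∈ K, (orderOf (QuotientGroup.mk' Q g)).Coprime p)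
    (hA : IsPGroup p A)
    (B : Subgroup (M ⧸ Q)) (hBA : B ≤ A.map (QuotientGroup.mk' Q))
    (hBp : B.relIndex (A.map (QuotientGroup.mk' Q)) = p)
    (hAB : ∀ b ∈ A, QuotientGroup.mk' Q b ∈ Subgroup.centralizer (B : Set (M ⧸ Q)))
    (x : M) (hxK : x ∈ K)
    (hxB : QuotientGroup.mk' Q x ∈ Subgroup.centralizer (B : Set (M ⧸ Q)))
    (a : M) (haA : a ∈ A)
    (hxa : ¬ Commute (QuotientGroup.mk' Q x) (QuotientGroup.mk' Q a))
    (L : Subgroup M) (hL : L = A ⊔ A.map (MulAut.conj x).toMonoidHom)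
    (hxR : x ∈ (Cfsg.pResidual p ↥L).map L.subtype) :
    (Cfsg.pResidual p ↥L).map L.subtype ≤ K ∧
    ⁅(Cfsg.pResidual p ↥L).map L.subtype, A⁆ = (Cfsg.pResidual p ↥L).map L.subtype ∧
    (A ⊓ (Cfsg.pCore p ↥L).map L.subtype).relIndex A = p ∧
    ⁅A ⊓ (Cfsg.pCore p ↥L).map L.subtype, L⁆ ≤ Q := by
  classical
  set π := QuotientGroup.mk' Q with hπ
  have hAL : A ≤ L := hL ▸ le_sup_left
  set Y := (Cfsg.pResidual p ↥L).map L.subtype with hY
  have hYL : Y ≤ L := Cfsg.Agent.Lib.helper52.map_pResidual_subtype_le p L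
  have hLNY : L ≤ Subgroup.normalizer (Y : Set M) :=
    Cfsg.Agent.Lib.helper53.le_normalizer_map_pResidual p L
  have hxL : x ∈ L := hYL hxR
  -- (1b)
  have hLKA : L ≤ K ⊔ A := by
    rw [hL]; refine sup_le le_sup_right ?_
    rintro _ ⟨b, hb, rfl⟩
    simp only [MulEquiv.coe_toMonoidHom, MulAut.conj_apply]
    exact (K ⊔ A).mul_mem ((K ⊔ A).mul_mem (le_sup_left (a := K) hxK)
      (le_sup_right (a := K) hb)) ((K ⊔ A).inv_mem (le_sup_left (a := K) hxK))
  have hKN : K ⊔ A ≤ Subgroup.normalizer (K : Set M) := by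
    rw [Subgroup.normalizer_eq_top]; exact le_top
  have h1 : Y ≤ K :=
    (Cfsg.Agent.Lib.helper53.map_pResidual_mono hLKA).trans
      (Cfsg.Agent.Lib.helper53.map_pResidual_le_of_sup_eq le_sup_left hKN hA le_sup_right rfl)
  -- (2)
  have h2a : ⁅Y, A⁆ ≤ Y := by
    rw [Subgroup.commutator_le]
    intro y hy b hb
    have hb' : b ∈ Subgroup.normalizer (Y : Set M) := hLNY (hAL hb)
    have : ⁅y, b⁆ = y * (b * y⁻¹ * b⁻¹) := by rw [commutatorElement_def]; group
    rw [this]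
    exact Y.mul_mem hy ((Subgroup.mem_normalizer_iff.mp hb' _).mp (Y.inv_mem hy))
  have h2b : Y ≤ ⁅Y, A⁆ := by
    set C := ⁅Y, A⁆ with hC
    have hCL : C ≤ L := h2a.trans hYL
    have hAC : A ≤ Subgroup.normalizer (C : Set M) :=
      Cfsg.Agent.Lib.helper53.le_normalizer_commutator_right Y A
    have hYC : Y ≤ Subgroup.normalizer (C : Set M) :=
      Cfsg.Agent.Lib.helper53.le_normalizer_commutator_left Y A
    have hLNC : L ≤ Subgroup.normalizer (C : Set M) := by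
      rw [hL]; refine sup_le hAC ?_
      rintro _ ⟨b, hb, rfl⟩
      simp only [MulEquiv.coe_toMonoidHom, MulAut.conj_apply]
      exact mul_mem (mul_mem (hYC hxR) (hAC hb)) (inv_mem (hYC hxR))
    have hCA : C ⊔ A = L := by
      refine le_antisymm (sup_le hCL hAL) ?_
      rw [hL]; refine sup_le le_sup_right ?_
      rintro _ ⟨b, hb, rfl⟩
      simp only [MulEquiv.coe_toMonoidHom, MulAut.conj_apply]
      have : x * b * x⁻¹ = ⁅x, b⁆ * b := by rw [commutatorElement_def]; group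
      rw [this]
      exact (C ⊔ A).mul_mem (le_sup_left (a := C) (Subgroup.commutator_mem_commutator hxR hb))
        (le_sup_right (a := C) hb)
    exact Cfsg.Agent.Lib.helper53.map_pResidual_le_of_sup_eq hCL hLNC hA hAL hCA
  -- centralising B
  have hLcent : ∀ l ∈ L, π l ∈ Subgroup.centralizer (B : Set (M ⧸ Q)) := by
    have : L ≤ (Subgroup.centralizer (B : Set (M ⧸ Q))).comap π := by
      rw [hL]; refine sup_le (fun b hb => hAB b hb) ?_
      rintro _ ⟨b, hb, rfl⟩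
      simp only [MulEquiv.coe_toMonoidHom, MulAut.conj_apply, Subgroup.mem_comap, map_mul,
        map_inv]
      exact mul_mem (mul_mem hxB (hAB b hb)) (inv_mem hxB)
    exact fun l hl => this hl
  set P := (Cfsg.pCore p ↥L).map L.subtype with hP
  have hPp : IsPGroup p P := (Cfsg.Agent.Lib.helper27.pCore_isPGroup p).map L.subtype
  have hPL : P ≤ L := by
    rintro _ ⟨n, -, rfl⟩; exact n.2
  haveI hPn : (Cfsg.pCore p ↥L).Normal := inferInstance
  have hLNP : ∀ l ∈ L, ∀ g ∈ P, l * g * l⁻¹ ∈ P := by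
    rintro l hl _ ⟨n, hn, rfl⟩
    exact ⟨⟨l, hl⟩ * n * ⟨l, hl⟩⁻¹, hPn.conj_mem n hn ⟨l, hl⟩, by simp⟩
  -- B is the centraliser of `π x` in `π A`
  have hBD : ∀ z ∈ A.map π, Commute z (π x) → z ∈ B := by
    set D : Subgroup (M ⧸ Q) := A.map π ⊓ Subgroup.centralizer ({π x} : Set (M ⧸ Q)) with hD
    have hBD' : B ≤ D := by
      intro z hz
      refine Subgroup.mem_inf.mpr ⟨hBA hz, ?_⟩
      rw [Subgroup.mem_centralizer_singleton_iff]
      exact Subgroup.mem_centralizer_iff.mp hxB z hz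
    have hDA : D ≤ A.map π := inf_le_left
    have hmul := Subgroup.relIndex_mul_relIndex B D (A.map π) hBD' hDA
    rw [hBp] at hmul
    have hne : D.relIndex (A.map π) ≠ 1 := by
      intro h1
      have hle : A.map π ≤ D := Subgroup.relIndex_eq_one.mp h1
      have hmem : π a ∈ D := hle ⟨a, haA, rfl⟩
      have hc := (Subgroup.mem_inf.mp hmem).2
      rw [Subgroup.mem_centralizer_singleton_iff] at hc
      exact hxa (by exact hc.symm)
    have hdvd : D.relIndex (A.map π) ∣ p := Dvd.intro_left _ hmul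
    have heq : D.relIndex (A.map π) = p :=
      ((Nat.Prime.eq_one_or_self_of_dvd hp.out _ hdvd).resolve_left hne)
    rw [heq] at hmul
    have h1 : B.relIndex D = 1 := by
      have hp0 : 0 < p := hp.out.pos
      exact Nat.eq_of_mul_eq_mul_right hp0 (by rw [hmul, one_mul])
    have hDB : D ≤ B := Subgroup.relIndex_eq_one.mp h1
    intro z hz hc
    refine hDB (Subgroup.mem_inf.mpr ⟨hz, ?_⟩)
    rw [Subgroup.mem_centralizer_singleton_iff]
    exact hc.eq
  -- Claim I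
  have hI : ∀ a' ∈ A, a' ∈ P → π a' ∈ B := by
    intro a' ha' ha'P
    refine hBD (π a') ⟨a', ha', rfl⟩ ?_
    set w := x * a' * x⁻¹ * a'⁻¹ with hw
    have hwK : w ∈ K := by
      have : w = x * (a' * x⁻¹ * a'⁻¹) := by rw [hw]; group
      rw [this]
      exact K.mul_mem hxK (‹K.Normal›.conj_mem _ (K.inv_mem hxK) a')
    have hwP : w ∈ P := P.mul_mem (hLNP x hxL a' ha'P) (P.inv_mem ha'P)
    obtain ⟨n, hn⟩ := hPp ⟨w, hwP⟩
    have hn' : w ^ p ^ n = 1 := by
      have := congrArg Subtype.val hn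
      simpa using this
    have hπw : (π w) ^ p ^ n = 1 := by rw [← map_pow, hn', map_one]
    have hord : orderOf (π w) = 1 :=
      Nat.Coprime.eq_one_of_dvd (Nat.Coprime.pow_right n (hKcop w hwK))
        (orderOf_dvd_of_pow_eq_one hπw)
    have hw1 : π w = 1 := orderOf_eq_one_iff.mp hord
    rw [hw] at hw1
    simp only [map_mul, map_inv] at hw1
    have : π x * π a' = π a' * π x := by
      calc π x * π a' = (π x * π a' * (π x)⁻¹ * (π a')⁻¹) * (π a' * π x) := by group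
        _ = π a' * π x := by rw [hw1, one_mul]
    exact this.symm
  -- Claim II
  have hII : ∀ a' ∈ A, π a' ∈ B → a' ∈ P := by
    intro a' ha' ha'B
    set P₀ := L ⊓ B.comap π with hP₀
    have hBp' : IsPGroup p B := (hA.map π).to_le hBA
    have hker : IsPGroup p π.ker := by
      rw [hπ, QuotientGroup.ker_mk']; exact hQ
    have hP₀p : IsPGroup p P₀ := (hBp'.comap_of_ker_isPGroup π hker).to_le inf_le_right
    have hn : ∀ l ∈ L, ∀ d ∈ P₀, l * d * l⁻¹ ∈ P₀ := by
      intro l hl d hd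
      obtain ⟨hdL, hdB⟩ := Subgroup.mem_inf.mp hd
      refine Subgroup.mem_inf.mpr ⟨L.mul_mem (L.mul_mem hl hdL) (L.inv_mem hl), ?_⟩
      rw [Subgroup.mem_comap] at hdB ⊢
      have hc := Subgroup.mem_centralizer_iff.mp (hLcent l hl) (π d) hdB
      have : π (l * d * l⁻¹) = π d := by
        simp only [map_mul, map_inv]
        rw [← hc]; group
      rw [this]; exact hdB
    have hle := Cfsg.Agent.Lib.helper88.le_pCore_map_of_normal_pgroup L P₀ inf_le_left hn hP₀p
    exact hle (Subgroup.mem_inf.mpr ⟨hAL ha', ha'B⟩)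
  have hAP : A ⊓ P = A ⊓ B.comap π := by
    ext a'
    simp only [Subgroup.mem_inf, Subgroup.mem_comap]
    exact ⟨fun h => ⟨h.1, hI a' h.1 h.2⟩, fun h => ⟨h.1, hII a' h.1 h.2⟩⟩
  refine ⟨h1, le_antisymm h2a h2b, ?_, ?_⟩
  · rw [hAP, Subgroup.inf_relIndex_left, Subgroup.relIndex_comap]
    exact hBp
  · rw [hAP, Subgroup.commutator_le]
    intro a' ha' l hl
    obtain ⟨ha'A, ha'B⟩ := Subgroup.mem_inf.mp ha'
    rw [Subgroup.mem_comap] at ha'B
    have hc := Subgroup.mem_centralizer_iff.mp (hLcent l hl) (π a') ha'B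
    apply (QuotientGroup.eq_one_iff _).mp
    change π ⁅a', l⁆ = 1
    rw [commutatorElement_def]
    simp only [map_mul, map_inv]
    rw [hc]; group

/-- Let M be a finite p-soluble group and A a p-subgroup of M with Φ(A) ≤ O_p(M) but A ≰ O_p(M). Then there is x ∈ O_{p,p'}(M) such that L = ⟨A, xAx⁻¹⟩ satisfies: x ∈ O^p(L) and O^p(L) ≤ O_{p,p'}(M); [O^p(L), A] = O^p(L); A ∩ O_p(L) has index p in A; and [A ∩ O_p(L), L] ≤ O_p(M). Here O^p(L) is the subgroup generated by the p'-elements of L and O_{p,p'}(M) the preimage of O_{p'}(M/O_p(M)). -/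
theorem result {M : Type*} [Group M] [Finite M] {p : ℕ} [Fact p.Prime] (hM : Cfsg.IsPSolvable p M) (A : Subgroup M) (hA : IsPGroup p A) (hΦ : (frattini ↥A).map A.subtype ≤ Cfsg.pCore p M) (hnot : ¬ A ≤ Cfsg.pCore p M) : ∃ x ∈ (Cfsg.pPrimeCore p (M ⧸ Cfsg.pCore p M)).comap (QuotientGroup.mk' (Cfsg.pCore p M)), x ∈ (Cfsg.pResidual p ↥(A ⊔ A.map (MulAut.conj x).toMonoidHom)).map (A ⊔ A.map (MulAut.conj x).toMonoidHom).subtype ∧ (Cfsg.pResidual p ↥(A ⊔ A.map (MulAut.conj x).toMonoidHom)).map (A ⊔ A.map (MulAut.conj x).toMonoidHom).subtype ≤ (Cfsg.pPrimeCore p (M ⧸ Cfsg.pCore p M)).comap (QuotientGroup.mk' (Cfsg.pCore p M)) ∧ ⁅(Cfsg.pResidual p ↥(A ⊔ A.map (MulAut.conj x).toMonoidHom)).map (A ⊔ A.map (MulAut.conj x).toMonoidHom).subtype, A⁆ = (Cfsg.pResidual p ↥(A ⊔ A.map (MulAut.conj x).toMonoidHom)).map (A ⊔ A.map (MulAut.conj x).toMonoidHom).subtype ∧ (A ⊓ (Cfsg.pCore p ↥(A ⊔ A.map (MulAut.conj x).toMonoidHom)).map (A ⊔ A.map (MulAut.conj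 x).toMonoidHom).subtype).relIndex A = p ∧ ⁅A ⊓ (Cfsg.pCore p ↥(A ⊔ A.map (MulAut.conj x).toMonoidHom)).map (A ⊔ A.map (MulAut.conj x).toMonoidHom).subtype, A ⊔ A.map (MulAut.conj x).toMonoidHom⁆ ≤ Cfsg.pCore p M := by
  classical
  set Q := Cfsg.pCore p M with hQdef
  set π := QuotientGroup.mk' Q with hπ
  set Kb := Cfsg.pPrimeCore p (M ⧸ Q) with hKb
  set K := Kb.comap π with hK
  haveI hKbn : Kb.Normal := inferInstance
  haveI hKn : K.Normal := Subgroup.Normal.comap hKbn π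
  have hQp : IsPGroup p Q := pCore_isPGroup p
  have hOp : Cfsg.pCore p (M ⧸ Q) = ⊥ := pCore_quotient_pCore p
  have hMb : Cfsg.IsPSolvable p (M ⧸ Q) := Cfsg.Agent.Lib.helper38.isPSolvable_quotient Q hM
  have hCK := centralizer_pPrimeCore_le_of_isPSolvable hMb hOp
  have hKbcop : (Nat.card Kb).Coprime p := pPrimeCore_coprime p
  have hKcop : ∀ g ∈ K, (orderOf (π g)).Coprime p := fun g hg =>
    Nat.Coprime.coprime_dvd_left (Subgroup.orderOf_dvd_natCard Kb hg) hKbcop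
  set Ab := A.map π with hAb
  have hAbp : IsPGroup p Ab := hA.map π
  have hAcomm : ∀ a ∈ A, ∀ b ∈ A, a * b * a⁻¹ * b⁻¹ ∈ Q := by
    intro a ha b hb
    apply hΦ
    refine ⟨⁅(⟨a, ha⟩ : A), ⟨b, hb⟩⁆, Cfsg.Agent.Lib.helper3.commutator_le_frattini hA
      (Subgroup.commutator_mem_commutator (Subgroup.mem_top _) (Subgroup.mem_top _)), ?_⟩
    simp [commutatorElement_def]
  have hApow : ∀ a ∈ A, a ^ p ∈ Q := fun a ha =>
    hΦ ⟨(⟨a, ha⟩ : A) ^ p, Cfsg.Agent.Lib.helper3.pow_prime_mem_frattini hA _, by simp⟩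
  have hAbc : ∀ u ∈ Ab, ∀ v ∈ Ab, u * v = v * u := by
    rintro _ ⟨a, ha, rfl⟩ _ ⟨b, hb, rfl⟩
    have h1 : π (a * b * a⁻¹ * b⁻¹) = 1 := (QuotientGroup.eq_one_iff _).mpr (hAcomm a ha b hb)
    simp only [map_mul, map_inv] at h1
    calc π a * π b = (π a * π b * (π a)⁻¹ * (π b)⁻¹) * (π b * π a) := by group
      _ = π b * π a := by rw [h1, one_mul]
  have hAbp' : ∀ u ∈ Ab, u ^ p = 1 := by
    rintro _ ⟨a, ha, rfl⟩
    rw [← map_pow]; exact (QuotientGroup.eq_one_iff _).mpr (hApow a ha)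
  have hAbN : Ab ≤ Subgroup.normalizer (Kb : Set (M ⧸ Q)) := by
    rw [Subgroup.normalizer_eq_top]; exact le_top
  have hpKb : ¬ p ∣ Nat.card ↥Kb := by
    intro hdvd
    have := Nat.Coprime.eq_one_of_dvd hKbcop.symm hdvd
    exact (Fact.out : p.Prime).one_lt.ne' this
  have hgen := Cfsg.Agent.Lib.helper37.coprime_gen_hyperplane p Ab Kb hAbc hAbp' hpKb hAbN
  have hex : ∃ B : Subgroup (M ⧸ Q), B ≤ Ab ∧ B.relIndex Ab = p ∧
      ∃ xb ∈ Kb ⊓ Subgroup.centralizer (B : Set (M ⧸ Q)), ∃ ab ∈ Ab, ¬ Commute xb ab := by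
    by_contra hno
    push Not at hno
    have hKC : Kb ≤ Subgroup.centralizer (Ab : Set (M ⧸ Q)) := by
      refine hgen.le.trans (iSup_le fun ⟨B, hBA, hBp⟩ => ?_)
      by_cases hBeq : Ab ≤ B
      · exact inf_le_right.trans (Subgroup.centralizer_le hBeq)
      · have hne : B.relIndex Ab ≠ 1 := fun h => hBeq (Subgroup.relIndex_eq_one.mp h)
        obtain ⟨n, hn⟩ := IsPGroup.iff_card.mp hAbp
        have hdvd : B.relIndex Ab ∣ p ^ n := hn ▸ Subgroup.relIndex_dvd_card B Ab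
        obtain ⟨m, -, hm⟩ := (Nat.dvd_prime_pow (Fact.out : p.Prime)).mp hdvd
        have hm1 : m = 1 := by
          rcases m with _ | _ | m
          · exact absurd (by simpa using hm) hne
          · rfl
          · exfalso
            rw [hm] at hBp
            have h2 : p ^ 2 ≤ p ^ (m + 1 + 1) :=
              Nat.pow_le_pow_right (Fact.out : p.Prime).pos (by omega)
            have h3 : p < p ^ 2 := by
              have := (Fact.out : p.Prime).one_lt
              nlinarith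
            omega
        rw [hm1, pow_one] at hm
        intro xb hxb
        rw [Subgroup.mem_centralizer_iff]
        intro ab hab
        exact ((hno B hBA hm xb hxb ab hab).eq).symm
    have hAK : Ab ≤ Kb := (Subgroup.le_centralizer_iff.mp hKC).trans hCK
    obtain ⟨a, haA, haQ⟩ := SetLike.not_le_iff_exists.mp hnot
    have haK : a ∈ K := hAK ⟨a, haA, rfl⟩
    obtain ⟨n, hn⟩ := hAbp ⟨π a, ⟨a, haA, rfl⟩⟩
    have hn' : (π a) ^ p ^ n = 1 := by
      have := congrArg Subtype.val hn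
      simpa using this
    have hord : orderOf (π a) = 1 :=
      Nat.Coprime.eq_one_of_dvd (Nat.Coprime.pow_right n (hKcop a haK))
        (orderOf_dvd_of_pow_eq_one hn')
    exact haQ ((QuotientGroup.eq_one_iff a).mp (orderOf_eq_one_iff.mp hord))
  obtain ⟨B, hBA, hBp, xb, hxb, ab, hab, hncomm⟩ := hex
  obtain ⟨x₀, rfl⟩ := QuotientGroup.mk'_surjective Q xb
  obtain ⟨a, haA, rfl⟩ := hab
  have hAB : ∀ b ∈ A, π b ∈ Subgroup.centralizer (B : Set (M ⧸ Q)) := fun b hb =>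
    Subgroup.mem_centralizer_iff.mpr fun z hz => hAbc z (hBA hz) (π b) ⟨b, hb, rfl⟩
  obtain ⟨hxbK, hxbB⟩ := Subgroup.mem_inf.mp hxb
  obtain ⟨x, hxK, hxB, hxa, hxR⟩ := exists_good Q K A hKcop B hAB a haA (hApow a haA) x₀
    hxbK hxbB hncomm
  exact ⟨x, hxK, hxR, props Q K A hQp hKcop hA B hBA hBp hAB x hxK hxB a haA hxa _ rfl hxR⟩

end Cfsg.Agent.S3754
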