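import Cfsg.Statements.S3755
import Mathlib
import Cfsg.Agent.Lib.helper66.Transvection
import Cfsg.Agent.Lib.helper40.Cores2
import Cfsg.Agent.Lib.helper51.DihedralInv
import Cfsg.Agent.Lib.helper51.Involves

set_option autoImplicit false
open Cfsg

namespace Cfsg.Agent.S3755

open Cfsg.Agent.Lib.helper66

/-- Let M and V be subgroups of a finite group with V an elementary abelian 2-group, M normalizing V and acting faithfully on it (M ∩ C(V) = 1), and C_M(O_{2'}(M)) ≤ O_{2'}(M). If some elementary abelian 2-subgroup A of M satisfies |V : C_V(A)| < |A|², then M has a section isomorphic to the symmetric group of degree 3. -/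
theorem result {X : Type*} [Group X] [Finite X] (M V : Subgroup X) (hV : Cfsg.IsElementaryAbelian 2 V) (hMV : M ≤ Subgroup.normalizer (V : Set X)) (hfaith : M ⊓ Subgroup.centralizer (V : Set X) = ⊥) (hcon : Subgroup.centralizer (Cfsg.pPrimeCore 2 ↥M : Set ↥M) ≤ Cfsg.pPrimeCore 2 ↥M) (A : Subgroup X) (hAM : A ≤ M) (hA : Cfsg.IsElementaryAbelian 2 A) (hsmall : (V ⊓ Subgroup.centralizer (A : Set X)).relIndex V < Nat.card A ^ 2) : Cfsg.Involves (Equiv.Perm (Fin 3)) ↥M := by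
  set K : Subgroup X := (Cfsg.pPrimeCore 2 ↥M).map M.subtype with hK
  have hKM : K ≤ M := by
    rintro _ ⟨k, -, rfl⟩
    exact k.2
  have hKodd : Odd (Nat.card K) :=
    Nat.coprime_two_right.mp (Cfsg.Agent.Lib.helper40.pPrimeCore_map_subtype_card_coprime 2 M)
  have hMK : M ≤ Subgroup.normalizer (K : Set X) :=
    Cfsg.Agent.Lib.helper40.le_normalizer_pPrimeCore_map_subtype 2 M
  have hKfaith : K ⊓ Subgroup.centralizer (V : Set X) = ⊥ := by
    rw [eq_bot_iff, ← hfaith]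
    exact inf_le_inf_right _ hKM
  have hAfaith : A ⊓ Subgroup.centralizer (K : Set X) = ⊥ := by
    rw [eq_bot_iff]
    rintro t ⟨htA, htK⟩
    have htA' : t ∈ A := htA
    have htK' : t ∈ Subgroup.centralizer (K : Set X) := htK
    have h1 : (⟨t, hAM htA'⟩ : ↥M) ∈ Subgroup.centralizer (Cfsg.pPrimeCore 2 ↥M : Set ↥M) := by
      rw [Subgroup.mem_centralizer_iff]
      intro k hk
      apply Subtype.ext
      exact (Subgroup.mem_centralizer_iff.mp htK') k ⟨k, hk, rfl⟩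
    have h2 : t ∈ K := ⟨⟨t, hAM htA'⟩, hcon h1, rfl⟩
    have h3 : Odd (orderOf t) := odd_orderOf_of_mem hKodd h2
    have h4 : orderOf t ∣ 2 := orderOf_dvd_of_pow_eq_one (hA.2 t htA')
    rcases (Nat.dvd_prime Nat.prime_two).mp h4 with h5 | h5
    · exact Subgroup.mem_bot.mpr (orderOf_eq_one_iff.mp h5)
    · rw [h5] at h3
      exact absurd h3 (by decide)
  obtain ⟨a, haA, y, hyK, ha2, hy1, hy3, hinv⟩ :=
    exists_inverted_of_small_index (Nat.card A) K A V rfl hKodd hA.1 hA.2 hV.1 hV.2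
      (hAM.trans hMK) (hKM.trans hMV) (hAM.trans hMV) hKfaith hAfaith hsmall
  have haM : a ∈ M := hAM haA
  have hyM : y ∈ M := hKM hyK
  haveI : Fact (Nat.Prime 3) := ⟨Nat.prime_three⟩
  have hinv' : (⟨a, haM⟩ : ↥M) * ⟨y, hyM⟩ * (⟨a, haM⟩ : ↥M)⁻¹ = (⟨y, hyM⟩ : ↥M)⁻¹ :=
    Subtype.ext hinv
  have hy1' : (⟨y, hyM⟩ : ↥M) ≠ 1 := fun h => hy1 (congrArg Subtype.val h)
  have hord : ∃ k : ℕ, orderOf (⟨y, hyM⟩ : ↥M) = 3 ^ k := by
    refine ⟨1, ?_⟩
    rw [pow_one, Subgroup.orderOf_mk]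
    exact orderOf_eq_prime hy3 hy1
  have h := Cfsg.Agent.Lib.helper51.involves_dihedral_of_inverting (p := 3) (by norm_num) hord
    hy1' hinv'
  exact Cfsg.Agent.Lib.helper51.involves_of_mulEquiv dihedralThreeEquivPerm h

end Cfsg.Agent.S3755
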