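import Cfsg.Statements.S3760
-- import your own Cfsg.Agent.* helpers here

set_option autoImplicit false
open Cfsg


namespace Cfsg.Agent.S3760

/-- Let the group G act transitively on a set X, let x ∈ X with stabilizer H = G_x, and let K ≤ H. Then N_G(K) acts transitively on the set of fixed points of K if and only if every G-conjugate of K contained in H is already an H-conjugate of K. -/
theorem result {G : Type*} [Group G] {X : Type*} [MulAction G X] (htrans : ∀ a b : X, ∃ g : G, g • a = b) (x : X) (K : Subgroup G) (hK : K ≤ MulAction.stabilizer G x) : (∀ a b : X, (∀ k ∈ K, k • a = a) → (∀ k ∈ K, k • b = b) → ∃ g ∈ Subgroup.normalizer (K : Set G), g • a = b) ↔ ∀ g : G, K.map (MulAut.conj g).toMonoidHom ≤ MulAction.stabilizer G x → ∃ h ∈ MulAction.stabilizer G x, K.map (MulAut.conj g).toMonoidHom = K.map (MulAut.conj h).toMonoidHom := by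
  have hmem : ∀ (g y : G), y ∈ K.map (MulAut.conj g).toMonoidHom ↔ g⁻¹ * y * g ∈ K := by
    intro g y
    rw [Subgroup.mem_map]
    constructor
    · rintro ⟨k, hk, rfl⟩
      simpa [mul_assoc] using hk
    · intro h
      exact ⟨g⁻¹ * y * g, h, by simp [mul_assoc]⟩
  have hstab : ∀ g : G, K.map (MulAut.conj g).toMonoidHom ≤ MulAction.stabilizer G x ↔
      ∀ k ∈ K, k • (g⁻¹ • x) = g⁻¹ • x := by
    intro g
    constructor
    · intro h k hk
      have h1 : g * k * g⁻¹ ∈ MulAction.stabilizer G x :=
        h ((hmem g _).mpr (by simpa [mul_assoc] using hk))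
      rw [MulAction.mem_stabilizer_iff, mul_smul, mul_smul] at h1
      have h2 := congrArg (fun z => g⁻¹ • z) h1
      simpa using h2
    · intro h y hy
      rw [hmem] at hy
      rw [MulAction.mem_stabilizer_iff]
      have h1 := h _ hy
      rw [mul_smul, mul_smul, smul_inv_smul] at h1
      have h2 := congrArg (fun z => g • z) h1
      simpa using h2
  have hnorm : ∀ g : G, g ∈ Subgroup.normalizer (K : Set G) ↔
      K.map (MulAut.conj g).toMonoidHom = K := by
    intro g
    exact Subgroup.mem_normalizer_iff_map_conj_eq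
  have hmul : ∀ g h : G, K.map (MulAut.conj (g * h)).toMonoidHom =
      (K.map (MulAut.conj h).toMonoidHom).map (MulAut.conj g).toMonoidHom := by
    intro g h
    ext y
    rw [hmem, Subgroup.mem_map]
    constructor
    · intro hy
      refine ⟨h * ((g * h)⁻¹ * y * (g * h)) * h⁻¹, (hmem h _).mpr (by simpa [mul_assoc] using hy),
        by simp [mul_assoc]⟩
    · rintro ⟨w, hw, rfl⟩
      rw [hmem] at hw
      simpa [mul_assoc] using hw
  constructor
  · intro H g hg
    have hfix := (hstab g).mp hg
    have hx : ∀ k ∈ K, k • x = x := fun k hk => hK hk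
    obtain ⟨n, hn, hnx⟩ := H x (g⁻¹ • x) hx hfix
    refine ⟨g * n, ?_, ?_⟩
    · rw [MulAction.mem_stabilizer_iff, mul_smul, hnx, smul_inv_smul]
    · rw [hmul, (hnorm n).mp hn]
  · intro H a b ha hb
    have claim : ∀ a : X, (∀ k ∈ K, k • a = a) →
        ∃ n ∈ Subgroup.normalizer (K : Set G), n • x = a := by
      intro a ha
      obtain ⟨u, hu⟩ := htrans x a
      have h1 : K.map (MulAut.conj u⁻¹).toMonoidHom ≤ MulAction.stabilizer G x := by
        rw [hstab]; simpa [hu] using ha
      obtain ⟨h, hh, heq⟩ := H u⁻¹ h1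
      refine ⟨u * h, ?_, ?_⟩
      · rw [hnorm, hmul, ← heq, ← hmul]
        ext y
        rw [hmem]
        simp
      · rw [mul_smul, MulAction.mem_stabilizer_iff.mp hh, hu]
    obtain ⟨n₁, hn₁, h1⟩ := claim a ha
    obtain ⟨n₂, hn₂, h2⟩ := claim b hb
    refine ⟨n₂ * n₁⁻¹, Subgroup.mul_mem _ hn₂ (Subgroup.inv_mem _ hn₁), ?_⟩
    rw [mul_smul, ← h1, inv_smul_smul, h2]

end Cfsg.Agent.S3760
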