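import Cfsg.Statements.S3763
import Cfsg.Agent.Lib.helper3.Extraspecial3

set_option autoImplicit false
open Cfsg

namespace Cfsg.Agent.S3763

/-- Let E be an extraspecial 2-group of order 2^(2n+1). Then the largest elementary abelian subgroups of E have order 2^n or 2^(n+1); and two extraspecial 2-groups of the same order whose largest elementary abelian subgroups have the same order are isomorphic. -/
theorem result {E : Type*} [Group E] [Finite E] (hE : Cfsg.IsExtraspecial 2 E) (n : ℕ) (hn : Nat.card E = 2 ^ (2 * n + 1)) : ((Cfsg.PRankLE 2 n E ∧ ¬ Cfsg.PRankLE 2 (n - 1) E) ∨ (Cfsg.PRankLE 2 (n + 1) E ∧ ¬ Cfsg.PRankLE 2 n E)) ∧ ∀ (E' : Type*) [Group E'] [Finite E'], Cfsg.IsExtraspecial 2 E' → Nat.card E' = Nat.card E → (∀ k : ℕ, Cfsg.PRankLE 2 k E ↔ Cfsg.PRankLE 2 k E') → Nonempty (E ≃* E') := by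
  obtain ⟨z, hz⟩ := Cfsg.Agent.Lib.helper3.exists_esdata hE
  obtain ⟨k, t, ht⟩ := hz.exists_twoType
  have ek : k = n := by
    have h : 2 ^ (2 * k + 1) = 2 ^ (2 * n + 1) := by
      rw [← ht.card_eq, hn]
    have := Nat.pow_right_injective (le_refl 2) h
    omega
  subst ek
  refine ⟨?_, ?_⟩
  · cases t with
    | true => exact Or.inr (Cfsg.Agent.Lib.helper3.prank_of_twoType_true hz ht)
    | false => exact Or.inl (Cfsg.Agent.Lib.helper3.prank_of_twoType_false hz ht)
  · intro E' _ _ hE' hcard' hrank
    obtain ⟨z', hz'⟩ := Cfsg.Agent.Lib.helper3.exists_esdata hE'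
    obtain ⟨k', t', ht'⟩ := hz'.exists_twoType
    have ek : k' = k := by
      have h : 2 ^ (2 * k' + 1) = 2 ^ (2 * k + 1) := by
        rw [← ht'.card_eq, ← ht.card_eq, hcard']
      have := Nat.pow_right_injective (le_refl 2) h
      omega
    subst ek
    have et : t = t' := by
      cases t with
      | true =>
        cases t' with
        | true => rfl
        | false =>
          exfalso
          exact (Cfsg.Agent.Lib.helper3.prank_of_twoType_true hz ht).2
            ((hrank _).mpr (Cfsg.Agent.Lib.helper3.prank_of_twoType_false hz' ht').1)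
      | false =>
        cases t' with
        | true =>
          exfalso
          exact (Cfsg.Agent.Lib.helper3.prank_of_twoType_true hz' ht').2
            ((hrank _).mp (Cfsg.Agent.Lib.helper3.prank_of_twoType_false hz ht).1)
        | false => rfl
    subst et
    exact Cfsg.Agent.Lib.helper3.mulEquiv_of_twoType hz hz' ht ht'

end Cfsg.Agent.S3763
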