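import Cfsg.Statements.S3764
import Mathlib
import Cfsg.Agent.Lib.helper66.ExtraRepE
import Cfsg.Agent.Lib.helper66.ExtraRepG

set_option autoImplicit false
open Cfsg

namespace Cfsg.Agent.S3764

open Cfsg.Agent.Lib.helper66 in
/-- Let p, q, r be distinct primes and let X, Q, V be subgroups of a finite group with X of order r, Q an extraspecial q-group normalized by X with C_Q(X) = Z(Q), and V an elementary abelian p-group normalized by X and Q on which XQ acts faithfully ((X ⊔ Q) ∩ C(V) = 1). If C_V(X) = 1, then q = 2, r = 2^n + 1 for some n, and Q has order 2^(2n+1). -/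
theorem result {G : Type*} [Group G] [Finite G] {p q r : ℕ} (hp : p.Prime) (hq : q.Prime) (hr : r.Prime) (hpq : p ≠ q) (hpr : p ≠ r) (hqr : q ≠ r) (X Q V : Subgroup G) (hX : Nat.card X = r) (hQ : Cfsg.IsExtraspecial q ↥Q) (hXQ : X ≤ Subgroup.normalizer (Q : Set G)) (hCQ : Q ⊓ Subgroup.centralizer (X : Set G) = (Subgroup.center ↥Q).map Q.subtype) (hV : Cfsg.IsElementaryAbelian p V) (hXV : X ≤ Subgroup.normalizer (V : Set G)) (hQV : Q ≤ Subgroup.normalizer (V : Set G)) (hfaith : (X ⊔ Q) ⊓ Subgroup.centralizer (V : Set G) = ⊥) (hCV : V ⊓ Subgroup.centralizer (X : Set G) = ⊥) : q = 2 ∧ ∃ n : ℕ, r = 2 ^ n + 1 ∧ Nat.card Q = 2 ^ (2 * n + 1) := by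
  classical
  obtain ⟨hVcomm, hVp⟩ := hV
  have hVc : ∀ a ∈ V, ∀ b ∈ V, a * b = b * a := by
    intro a ha b hb
    have h1 := hVcomm.is_comm.comm (⟨a, ha⟩ : V) ⟨b, hb⟩
    exact congrArg Subtype.val h1
  have : Fact p.Prime := ⟨hp⟩
  have : Fact q.Prime := ⟨hq⟩
  obtain ⟨F, _, _, _⟩ : ∃ (F : Type) (_ : Field F) (_ : IsAlgClosed F), CharP F p :=
    ⟨AlgebraicClosure (ZMod p), inferInstance, inferInstance, inferInstance⟩
  obtain ⟨z, hzQ, hzord, hZeq, hcen, hcomm, hidx⟩ := extraspecial_data hq Q hQ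
  -- a generator of X
  obtain ⟨x₀, hx₀⟩ : ∃ x₀ : X, x₀ ≠ 1 := by
    have : Nontrivial X := by
      rw [← Finite.one_lt_card_iff_nontrivial, hX]
      exact hr.one_lt
    exact exists_ne 1
  obtain ⟨x, hx⟩ : ∃ x : G, x = (x₀ : G) := ⟨_, rfl⟩
  have hxX : x ∈ X := by rw [hx]; exact x₀.2
  have hx1 : x ≠ 1 := by
    rw [hx]
    intro h
    exact hx₀ (Subtype.ext h)
  have hgen : ∀ y ∈ X, y ≠ 1 → Subgroup.zpowers y = X ∧ orderOf y = r := by
    intro y hy hy1
    have h1 : orderOf y ∣ r := by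
      have h2 := orderOf_dvd_natCard (⟨y, hy⟩ : X)
      rwa [Subgroup.orderOf_mk, hX] at h2
    have h3 : orderOf y = r := by
      rcases (Nat.dvd_prime hr).mp h1 with h2 | h2
      · exact absurd (orderOf_eq_one_iff.mp h2) hy1
      · exact h2
    refine ⟨?_, h3⟩
    apply Subgroup.eq_of_le_of_card_ge
    · rw [Subgroup.zpowers_le]
      exact hy
    · rw [Nat.card_zpowers, hX, h3]
  have hxord : orderOf x = r := (hgen x hxX hx1).2
  have hxr : x ^ r = 1 := by
    rw [← hxord]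
    exact pow_orderOf_eq_one x
  have hCy : ∀ y ∈ X, y ≠ 1 → Q ⊓ Subgroup.centralizer {y} = Subgroup.zpowers z := by
    intro y hy hy1
    rw [hZeq, ← hCQ]
    ext u
    simp only [Subgroup.mem_inf]
    constructor
    · rintro ⟨huQ, huy⟩
      refine ⟨huQ, ?_⟩
      rw [Subgroup.mem_centralizer_iff]
      intro g hg
      rw [SetLike.mem_coe, ← (hgen y hy hy1).1] at hg
      obtain ⟨k, rfl⟩ := Subgroup.mem_zpowers_iff.mp hg
      have h1 : Commute y u := Subgroup.mem_centralizer_iff.mp huy y rfl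
      exact (h1.zpow_left k).eq
    · rintro ⟨huQ, huX⟩
      refine ⟨huQ, ?_⟩
      rw [Subgroup.mem_centralizer_iff]
      intro g hg
      rw [Set.mem_singleton_iff.mp hg]
      exact Subgroup.mem_centralizer_iff.mp huX y hy
  have hZq : ∀ t ∈ Subgroup.zpowers z, t ^ q = 1 := by
    intro t ht
    obtain ⟨k, rfl⟩ := Subgroup.mem_zpowers_iff.mp ht
    rw [← zpow_natCast, ← zpow_mul, mul_comm, zpow_mul, zpow_natCast, ← hzord,
      pow_orderOf_eq_one, one_zpow]
  have hxz : x * z = z * x := by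
    have h1 : z ∈ Q ⊓ Subgroup.centralizer {x} := by
      rw [hCy x hxX hx1]
      exact Subgroup.mem_zpowers z
    exact Subgroup.mem_centralizer_iff.mp (Subgroup.mem_inf.mp h1).2 x rfl
  have hfpf : ∀ i, 0 < i → i < r → ∀ u ∈ Q,
      x ^ i * u * x⁻¹ ^ i * u⁻¹ ∈ Subgroup.zpowers z → u ∈ Subgroup.zpowers z := by
    intro i hi0 hi u hu huZ
    have hy1 : x ^ i ≠ 1 := pow_ne_one_of_lt_orderOf hi0.ne' (by rw [hxord]; exact hi)
    have hyX : x ^ i ∈ X := Subgroup.pow_mem _ hxX i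
    rw [inv_pow] at huZ
    exact fpf_of_centralizer Q (Subgroup.zpowers z) (x ^ i) r q
      (by rw [← pow_mul, mul_comm, pow_mul, hxr, one_pow]) hZq
      ((Nat.coprime_primes hr hq).mpr hqr.symm) (hCy _ hyX hy1) u hu huZ
  have hqF : (q : F) ≠ 0 := by
    intro h0
    have h1 := (CharP.cast_eq_zero_iff F p q).mp h0
    exact hpq ((Nat.prime_dvd_prime_iff_eq hp hq).mp h1)
  have hrF : (r : F) ≠ 0 := by
    intro h0
    have h1 := (CharP.cast_eq_zero_iff F p r).mp h0
    exact hpr ((Nat.prime_dvd_prime_iff_eq hp hr).mp h1)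
  obtain ⟨k, hk⟩ : ∃ k, Nat.card Q = q ^ k := IsPGroup.iff_card.mp hQ.1.1
  have hQF : (Nat.card Q : F) ≠ 0 := by
    rw [hk, Nat.cast_pow]
    exact pow_ne_zero _ hqF
  have hz1 : z ≠ 1 := by
    intro h
    rw [h, orderOf_one] at hzord
    exact hq.one_lt.ne' hzord.symm
  obtain ⟨v, hvV, hvz⟩ : ∃ v ∈ V, z * v ≠ v * z := by
    by_contra hall
    push Not at hall
    have h1 : z ∈ (X ⊔ Q) ⊓ Subgroup.centralizer (V : Set G) := by
      refine Subgroup.mem_inf.mpr ⟨(le_sup_right : Q ≤ X ⊔ Q) hzQ, ?_⟩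
      rw [Subgroup.mem_centralizer_iff]
      intro v hv
      exact (hall v hv).symm
    rw [hfaith] at h1
    exact hz1 (Subgroup.mem_bot.mp h1)
  have hzN : z ∈ Subgroup.normalizer (V : Set G) := hQV hzQ
  have hwV : z⁻¹ * v * z * v⁻¹ ∈ V := by
    have h1 : z⁻¹ * v * z ∈ V := by
      have h2 := (Subgroup.mem_normalizer_iff.mp (inv_mem hzN) v).mp hvV
      simpa using h2
    exact V.mul_mem h1 (V.inv_mem hvV)
  have hw1 : z⁻¹ * v * z * v⁻¹ ≠ 1 := by
    intro h1
    apply hvz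
    have h2 : z⁻¹ * v * z = v := mul_inv_eq_one.mp h1
    calc z * v = z * (z⁻¹ * v * z) := by rw [h2]
      _ = v * z := by group
  obtain ⟨f, hfM, hfw⟩ := exists_additive_sep F V p hp hVc hVp _ hwV hw1
  have hρz : ∃ f ∈ addHomSub F V, conjFunRep F G z f ≠ f := by
    refine ⟨f, hfM, ?_⟩
    intro h1
    have h2 := congrFun h1 v
    rw [conjFunRep_apply] at h2
    have h3 : z⁻¹ * v * z = (z⁻¹ * v * z * v⁻¹) * v := by group
    rw [h3, hfM.1 _ hwV _ hvV] at h2
    exact hfw (add_eq_right.mp h2)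
  have hfixfree : ∀ f ∈ addHomSub F V, conjFunRep F G x f = f → f = 0 := by
    intro f hf hxf
    obtain ⟨hf1, hf2⟩ := hf
    have hxN : x ∈ Subgroup.normalizer (V : Set G) := hXV hxX
    have hxV : ∀ a ∈ V, x⁻¹ * a * x ∈ V := by
      intro a ha
      have h1 := (Subgroup.mem_normalizer_iff.mp (inv_mem hxN) a).mp ha
      simpa using h1
    have hf_one : f 1 = 0 := by
      have h1 := hf1 1 V.one_mem 1 V.one_mem
      rw [mul_one] at h1
      exact left_eq_add.mp h1
    have hf_inv : ∀ a ∈ V, f a⁻¹ = - f a := by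
      intro a ha
      have h1 := hf1 a ha a⁻¹ (V.inv_mem ha)
      rw [mul_inv_cancel, hf_one] at h1
      exact eq_neg_of_add_eq_zero_right h1.symm
    let φ : V → V := fun a =>
      ⟨(a : G)⁻¹ * (x⁻¹ * a * x), V.mul_mem (V.inv_mem a.2) (hxV a a.2)⟩
    have hφinj : Function.Injective φ := by
      intro a b hab
      have h1 : (a : G)⁻¹ * (x⁻¹ * a * x) = (b : G)⁻¹ * (x⁻¹ * b * x) :=
        congrArg Subtype.val hab
      have h3 : Commute x ((b : G) * (a : G)⁻¹) := by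
        show x * ((b : G) * (a : G)⁻¹) = (b : G) * (a : G)⁻¹ * x
        calc x * ((b : G) * (a : G)⁻¹)
            = x * ((b : G) * ((a : G)⁻¹ * (x⁻¹ * a * x)) * (x⁻¹ * a * x)⁻¹) := by group
          _ = x * ((b : G) * ((b : G)⁻¹ * (x⁻¹ * b * x)) * (x⁻¹ * a * x)⁻¹) := by rw [h1]
          _ = (b : G) * (a : G)⁻¹ * x := by group
      have h2 : (b : G) * (a : G)⁻¹ ∈ V ⊓ Subgroup.centralizer (X : Set G) := by
        refine Subgroup.mem_inf.mpr ⟨V.mul_mem b.2 (V.inv_mem a.2), ?_⟩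
        rw [Subgroup.mem_centralizer_iff]
        intro g hg
        rw [SetLike.mem_coe, ← (hgen x hxX hx1).1] at hg
        obtain ⟨k, rfl⟩ := Subgroup.mem_zpowers_iff.mp hg
        exact (h3.zpow_left k).eq
      rw [hCV] at h2
      have h4 : (b : G) * (a : G)⁻¹ = 1 := Subgroup.mem_bot.mp h2
      exact Subtype.ext (mul_inv_eq_one.mp h4).symm
    have hφsurj : Function.Surjective φ := Finite.injective_iff_surjective.mp hφinj
    funext a
    by_cases ha : a ∈ V
    · obtain ⟨b, hb⟩ := hφsurj ⟨a, ha⟩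
      have h1 : a = (b : G)⁻¹ * (x⁻¹ * b * x) := (congrArg Subtype.val hb).symm
      have h2 := congrFun hxf (b : G)
      rw [conjFunRep_apply] at h2
      rw [h1, hf1 _ (V.inv_mem b.2) _ (hxV b b.2), hf_inv b b.2, h2]
      simp
    · exact hf2 a ha
  obtain ⟨m, hm1, -, hm3⟩ := extra_thmA_sub (conjFunRep F G) (addHomSub F V) Q z x r hr.pos
    hzQ (by rw [hzord]; exact hq) hcen hcomm (hXQ hxX) hxz hxr hfpf hQF hrF
    (fun u hu f hf => conjFunRep_mem_addHomSub F V u (hQV hu) f hf)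
    (fun f hf => conjFunRep_mem_addHomSub F V x (hXV hxX) f hf) hρz
  have hm4 := hm3 hfixfree
  -- m ≠ 1 since Q is not abelian
  have hm_ne : m ≠ 1 := by
    intro hm
    rw [hm, one_pow] at hm1
    have h1 : Q ≤ Subgroup.zpowers z := Subgroup.relIndex_eq_one.mp hm1.symm
    have h2 : commutator ↥Q = ⊥ := by
      rw [commutator_def, Subgroup.commutator_eq_bot_iff_le_centralizer]
      intro a _
      rw [Subgroup.mem_centralizer_iff]
      intro b _
      apply Subtype.ext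
      exact (hcen b b.2).mpr (h1 b.2) a a.2
    have h3 : Nat.card (Subgroup.center ↥Q) = 1 := by
      rw [← hQ.1.2.2, h2]
      exact Subgroup.card_bot
    rw [hQ.2] at h3
    exact hq.one_lt.ne' h3
  have hm5 : m + 1 = r := by
    rcases hm4 with h | h
    · exact absurd h hm_ne
    · exact h
  have h6 : m ^ 2 * q = q ^ k := by rw [hm1, hidx, hk]
  obtain ⟨j, -, hj⟩ : ∃ j ≤ k, m = q ^ j := by
    apply (Nat.dvd_prime_pow hq).mp
    rw [← h6]
    exact Dvd.intro (m * q) (by ring)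
  have hk2 : k = 2 * j + 1 := by
    apply Nat.pow_right_injective hq.two_le
    show q ^ k = q ^ (2 * j + 1)
    rw [← h6, hj]
    ring
  have hj0 : j ≠ 0 := by
    intro h
    apply hm_ne
    rw [hj, h, pow_zero]
  have hq2 : q = 2 := by
    rcases hq.eq_two_or_odd' with h | h
    · exact h
    · exfalso
      have h7 : Even r := by
        rw [← hm5, hj]
        exact (h.pow).add_one
      have h8 : r = 2 := (Nat.Prime.even_iff hr).mp h7
      have h9 : 1 < q ^ j := Nat.one_lt_pow hj0 hq.one_lt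
      omega
  refine ⟨hq2, j, ?_, ?_⟩
  · rw [← hm5, hj, hq2]
  · rw [hk, hk2, hq2]

end Cfsg.Agent.S3764
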