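import Cfsg.Statements.S3785
import Cfsg.Agent.Lib.helper66.OddAction
import Cfsg.Agent.Lib.helper27.FStar
import Cfsg.Agent.Lib.helper28.Fitting

set_option autoImplicit false
open Cfsg

namespace Cfsg.Agent.S3785

open Cfsg.Agent.Lib.helper66

/-- The centralizer of a conjugation-invariant set is normal. -/
theorem normal_centralizer_of_conj_invariant {G : Type*} [Group G] (T : Set G)
    (hT : ∀ x ∈ T, ∀ h : G, h * x * h⁻¹ ∈ T) : (Subgroup.centralizer T).Normal := by
  constructor
  intro c hc h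
  rw [Subgroup.mem_centralizer_iff] at hc ⊢
  intro x hx
  have h1 := hc _ (hT x hx h⁻¹)
  have e1 : x * (h * c * h⁻¹) = h * ((h⁻¹ * x * h⁻¹⁻¹) * c) * h⁻¹ := by group
  have e2 : h * c * h⁻¹ * x = h * (c * (h⁻¹ * x * h⁻¹⁻¹)) * h⁻¹ := by group
  rw [e1, e2, h1]

/-- A subgroup `A` all of whose elements of prime power order lie in `W` is contained in `W`. -/
theorem le_of_forall_prime_pow_mem {G : Type*} [Group G] [Finite G] (A W : Subgroup G)
    (h : ∀ (p : ℕ), p.Prime → ∀ x ∈ A, (∃ k : ℕ, x ^ p ^ k = 1) → x ∈ W) : A ≤ W := by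
  have key : W ⊓ A = A := by
    apply eq_of_forall_sylow_le inf_le_right
    intro q hq
    obtain ⟨B⟩ := (inferInstance : Nonempty (Sylow q A))
    refine ⟨B, ?_⟩
    rintro _ ⟨b, hb, rfl⟩
    refine Subgroup.mem_inf.mpr ⟨?_, b.2⟩
    apply h q hq.out _ b.2
    obtain ⟨k, hk⟩ := B.isPGroup' ⟨b, hb⟩
    refine ⟨k, ?_⟩
    have h1 := congrArg (fun z : (B : Subgroup A) => ((z : A) : G)) hk
    simpa using h1
  exact inf_eq_right.mp key

/-- A `p`-element of the Fitting subgroup lies in `O_p(G)`. -/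
theorem mem_pCore_of_mem_fitting {G : Type*} [Group G] [Finite G] {p : ℕ} [Fact p.Prime] {x : G}
    (hx : x ∈ Cfsg.fittingSubgroup G) (hxp : ∃ k : ℕ, x ^ p ^ k = 1) : x ∈ Cfsg.pCore p G := by
  have := Cfsg.Agent.Lib.helper28.fittingSubgroup_isNilpotent G
  have hFn : (Cfsg.fittingSubgroup G).Normal := Cfsg.Agent.Lib.helper28.fittingSubgroup_normal G
  obtain ⟨k, hk⟩ := hxp
  have hR : IsPGroup p (Subgroup.zpowers (⟨x, hx⟩ : Cfsg.fittingSubgroup G)) := by
    rintro ⟨y, hy⟩
    obtain ⟨i, rfl⟩ := Subgroup.mem_zpowers_iff.mp hy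
    refine ⟨k, ?_⟩
    apply Subtype.ext
    apply Subtype.ext
    simp only [Subgroup.coe_pow, Subgroup.coe_zpow, Subgroup.coe_one]
    rw [← zpow_natCast, ← zpow_mul, mul_comm, zpow_mul, zpow_natCast, hk, one_zpow]
  obtain ⟨Q, hQ⟩ := hR.exists_le_sylow
  have hQn : (Q : Subgroup (Cfsg.fittingSubgroup G)).Normal := inferInstance
  have hsub : ((Q : Subgroup (Cfsg.fittingSubgroup G)).map
      (Cfsg.fittingSubgroup G).subtype).IsSubnormal := hQn.isSubnormal.trans' hFn.isSubnormal
  have hpg : IsPGroup p ((Q : Subgroup (Cfsg.fittingSubgroup G)).map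
      (Cfsg.fittingSubgroup G).subtype) := Q.isPGroup'.map _
  have h1 := Cfsg.Agent.Lib.helper27.subnormal_pGroup_le_pCore p _ hsub hpg
  exact h1 ⟨⟨x, hx⟩, hQ (Subgroup.mem_zpowers _), rfl⟩

/-- Let G be a finite solvable group whose Fitting subgroup F(G) has odd order. If an element g of G commutes with every element of prime order of F(G), then g ∈ F(G). -/
theorem result {G : Type*} [Group G] [Finite G] (hG : Group.IsSolvable G) (hodd : Odd (Nat.card (Cfsg.fittingSubgroup G))) (g : G) (hg : ∀ x ∈ Cfsg.fittingSubgroup G, (orderOf x).Prime → g * x = x * g) : g ∈ Cfsg.fittingSubgroup G := by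
  classical
  have hFn : (Cfsg.fittingSubgroup G).Normal := Cfsg.Agent.Lib.helper28.fittingSubgroup_normal G
  -- `C_G(F) ≤ F`
  have hCF : Subgroup.centralizer (Cfsg.fittingSubgroup G : Set G) ≤ Cfsg.fittingSubgroup G := by
    have h1 := Cfsg.Agent.Lib.helper27.centralizer_generalizedFittingSubgroup_le (G := G)
    have h2 : Cfsg.generalizedFittingSubgroup G = Cfsg.fittingSubgroup G := by
      unfold Cfsg.generalizedFittingSubgroup
      rw [Cfsg.Agent.Lib.helper27.layer_eq_bot_of_isSolvable, bot_sup_eq]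
    rwa [h2] at h1
  -- the set of elements of prime order of `F`
  set S : Set G := {x | x ∈ Cfsg.fittingSubgroup G ∧ (orderOf x).Prime} with hS
  have hSconj : ∀ x ∈ S, ∀ h : G, h * x * h⁻¹ ∈ S := by
    rintro x ⟨hx1, hx2⟩ h
    refine ⟨hFn.conj_mem x hx1 h, ?_⟩
    have h1 : orderOf (h * x * h⁻¹) = orderOf x := (MulAut.conj h).orderOf_eq x
    rw [h1]; exact hx2
  set C := Subgroup.centralizer S with hC
  have hgC : g ∈ C := by
    rw [hC, Subgroup.mem_centralizer_iff]
    intro x hx
    exact (hg x hx.1 hx.2).symm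
  -- Claim A
  have hA : ∀ (p : ℕ), p.Prime → ∀ c ∈ C, (orderOf c).Coprime p →
      ∀ x ∈ Cfsg.pCore p G, c * x * c⁻¹ = x := by
    intro p hp c hc hcop
    have : Fact p.Prime := ⟨hp⟩
    have hPp : IsPGroup p (Cfsg.pCore p G) := Cfsg.Agent.Lib.helper27.pCore_isPGroup p
    have hPF : Cfsg.pCore p G ≤ Cfsg.fittingSubgroup G :=
      Cfsg.Agent.Lib.helper27.pCore_le_fittingSubgroup p
    by_cases hp2 : p = 2
    · subst hp2
      intro x hx
      obtain ⟨k, hk⟩ := hPp ⟨x, hx⟩
      have hk' : x ^ 2 ^ k = 1 := congrArg Subtype.val hk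
      have h1 : orderOf x ∣ 2 ^ k := orderOf_dvd_of_pow_eq_one hk'
      have h2 : orderOf x ∣ Nat.card (Cfsg.fittingSubgroup G) :=
        Subgroup.orderOf_dvd_natCard _ (hPF hx)
      have h3 : Nat.Coprime (Nat.card (Cfsg.fittingSubgroup G)) (2 ^ k) :=
        Nat.Coprime.pow_right k (Nat.coprime_two_right.mpr hodd)
      have h4 : x = 1 := orderOf_eq_one_iff.mp (Nat.eq_one_of_dvd_coprimes h3 h2 h1)
      subst h4
      simp
    · have hcn : c ∈ Subgroup.normalizer ((Cfsg.pCore p G : Subgroup G) : Set G) := by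
        rw [Subgroup.normalizer_eq_top]; exact Subgroup.mem_top c
      apply conj_eq_of_fixes_order_p hp2 hPp hcop hcn
      intro x hx hxp
      by_cases hx1 : x = 1
      · subst hx1; simp
      · have hord : orderOf x = p := orderOf_eq_prime hxp hx1
        have hxS : x ∈ S := ⟨hPF hx, by rw [hord]; exact hp⟩
        have h1 := (Subgroup.mem_centralizer_iff.mp hc) x hxS
        rw [← h1]; group
  -- centralizing all `O_p(G)` means centralizing `F`
  have hY : ∀ y : G, (∀ (p : ℕ), p.Prime → ∀ x ∈ Cfsg.pCore p G, y * x * y⁻¹ = x) →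
      y ∈ Cfsg.fittingSubgroup G := by
    intro y hy
    apply hCF
    have h1 : Cfsg.fittingSubgroup G ≤ Subgroup.centralizer ({y} : Set G) := by
      apply le_of_forall_prime_pow_mem
      intro p hp x hx hxp
      have : Fact p.Prime := ⟨hp⟩
      have h2 := hy p hp x (mem_pCore_of_mem_fitting hx hxp)
      rw [Subgroup.mem_centralizer_iff]
      intro w hw
      rw [Set.mem_singleton_iff] at hw
      subst hw
      calc w * x = w * x * w⁻¹ * w := by group
        _ = x * w := by rw [h2]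
    rw [Subgroup.mem_centralizer_iff]
    intro x hx
    have h2 := Subgroup.mem_centralizer_iff.mp (h1 hx) y rfl
    exact h2.symm
  -- the subgroups `N_q`
  have hN : ∀ (q : ℕ), q.Prime → ∀ c ∈ C, (∃ k : ℕ, c ^ q ^ k = 1) →
      c ∈ Cfsg.fittingSubgroup G := by
    intro q hq c hc hcq
    have : Fact q.Prime := ⟨hq⟩
    set T : Set G := {x | ∃ p : ℕ, p.Prime ∧ p ≠ q ∧ x ∈ Cfsg.pCore p G} with hT
    have hTconj : ∀ x ∈ S ∪ T, ∀ h : G, h * x * h⁻¹ ∈ S ∪ T := by
      rintro x (hx | ⟨p, hp, hpq, hx⟩) h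
      · exact Or.inl (hSconj x hx h)
      · exact Or.inr ⟨p, hp, hpq, (Cfsg.pCore_normal p G).conj_mem x hx h⟩
    set N := Subgroup.centralizer (S ∪ T) with hNdef
    have hNn : N.Normal := normal_centralizer_of_conj_invariant _ hTconj
    have hNC : N ≤ C := Subgroup.centralizer_le Set.subset_union_left
    have hNT : ∀ n ∈ N, ∀ (p : ℕ), p.Prime → p ≠ q → ∀ x ∈ Cfsg.pCore p G, n * x * n⁻¹ = x := by
      intro n hn p hp hpq x hx
      have h1 := (Subgroup.mem_centralizer_iff.mp hn) x (Or.inr ⟨p, hp, hpq, hx⟩)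
      rw [← h1]; group
    -- `c ∈ N`
    have hcN : c ∈ N := by
      rw [hNdef, Subgroup.mem_centralizer_iff]
      rintro x (hx | ⟨p, hp, hpq, hx⟩)
      · exact (Subgroup.mem_centralizer_iff.mp hc) x hx
      · obtain ⟨k, hk⟩ := hcq
        have h1 : orderOf c ∣ q ^ k := orderOf_dvd_of_pow_eq_one hk
        have h2 : Nat.Coprime (q ^ k) p :=
          Nat.Coprime.pow_left k ((Nat.coprime_primes hq hp).mpr (Ne.symm hpq))
        have h3 := hA p hp c hc (Nat.Coprime.coprime_dvd_left h1 h2) x hx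
        calc x * c = c * x * c⁻¹ * c := by rw [h3]
          _ = c * x := by group
    -- `N` is nilpotent
    have hpow_center : ∀ n : N, ∃ a : ℕ, n ^ q ^ a ∈ Subgroup.center N := by
      intro n
      have hord : orderOf (n : G) ≠ 0 := (orderOf_pos (n : G)).ne'
      obtain ⟨a, m, hqm, hnm⟩ := Nat.exists_eq_pow_mul_and_not_dvd hord q hq.ne_one
      refine ⟨a, ?_⟩
      have hn'N : (n : G) ^ q ^ a ∈ N := N.pow_mem n.2 _
      have hn'm : ((n : G) ^ q ^ a) ^ m = 1 := by
        rw [← pow_mul, ← hnm, pow_orderOf_eq_one]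
      have hn'cop : (orderOf ((n : G) ^ q ^ a)).Coprime q := by
        have h1 : orderOf ((n : G) ^ q ^ a) ∣ m := orderOf_dvd_of_pow_eq_one hn'm
        have h2 : Nat.Coprime m q := ((Nat.Prime.coprime_iff_not_dvd hq).mpr hqm).symm
        exact Nat.Coprime.coprime_dvd_left h1 h2
      have hn'F : (n : G) ^ q ^ a ∈ Cfsg.fittingSubgroup G := by
        apply hY
        intro p hp x hx
        by_cases hpq : p = q
        · subst hpq
          exact hA p hp _ (hNC hn'N) hn'cop x hx
        · exact hNT _ hn'N p hp hpq x hx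
      rw [Subgroup.mem_center_iff]
      intro h
      apply Subtype.ext
      have h1 : Subgroup.zpowers ((n : G) ^ q ^ a) ≤ Subgroup.centralizer ({(h : G)} : Set G) := by
        apply le_of_forall_prime_pow_mem
        intro p hp b hb hbp
        have : Fact p.Prime := ⟨hp⟩
        rw [Subgroup.mem_centralizer_iff]
        intro w hw
        rw [Set.mem_singleton_iff] at hw
        subst hw
        by_cases hpq : p = q
        · subst hpq
          obtain ⟨k, hk⟩ := hbp
          have h2 : orderOf b ∣ p ^ k := orderOf_dvd_of_pow_eq_one hk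
          have h3 : orderOf b ∣ orderOf ((n : G) ^ p ^ a) := orderOf_dvd_of_mem_zpowers hb
          have h4 : Nat.Coprime (orderOf ((n : G) ^ p ^ a)) (p ^ k) :=
            Nat.Coprime.pow_right k hn'cop
          have h5 : b = 1 := orderOf_eq_one_iff.mp (Nat.eq_one_of_dvd_coprimes h4 h3 h2)
          subst h5
          simp
        · have hbF : b ∈ Cfsg.fittingSubgroup G :=
            (Subgroup.zpowers_le.mpr hn'F) hb
          have h2 := hNT (h : G) h.2 p hp hpq b (mem_pCore_of_mem_fitting hbF hbp)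
          calc (h : G) * b = (h : G) * b * (h : G)⁻¹ * h := by group
            _ = b * h := by rw [h2]
      have h2 := Subgroup.mem_centralizer_iff.mp (h1 (Subgroup.mem_zpowers _)) (h : G) rfl
      simp only [Subgroup.coe_mul, Subgroup.coe_pow]
      exact h2
    have hQp : IsPGroup q (↥N ⧸ Subgroup.center ↥N) := by
      intro gbar
      obtain ⟨n, rfl⟩ := QuotientGroup.mk_surjective gbar
      obtain ⟨a, ha⟩ := hpow_center n
      refine ⟨a, ?_⟩
      rw [← QuotientGroup.mk_pow, QuotientGroup.eq_one_iff]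
      exact ha
    have hNnil : Group.IsNilpotent N := by
      have : Group.IsNilpotent (↥N ⧸ Subgroup.center ↥N) := hQp.isNilpotent
      apply Subgroup.isNilpotent_of_ker_le_center (QuotientGroup.mk' (Subgroup.center ↥N))
      rw [QuotientGroup.ker_mk']
    exact Cfsg.Agent.Lib.helper28.le_fittingSubgroup hNn hNnil hcN
  have hCle : C ≤ Cfsg.fittingSubgroup G := by
    apply le_of_forall_prime_pow_mem
    intro q hq c hc hcq
    exact hN q hq c hc hcq
  exact hCle hgC

end Cfsg.Agent.S3785
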