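import Cfsg.Statements.S3766
import Cfsg.Agent.S3785

set_option autoImplicit false
open Cfsg

namespace Cfsg.Agent.S3766

open Cfsg.Agent.Lib.helper66
open scoped commutatorElement

/-- `U / V` is a chief factor of `G`. -/
def IsChief {G : Type*} [Group G] (U V : Subgroup G) : Prop :=
  U.Normal ∧ V.Normal ∧ V < U ∧ ∀ W : Subgroup G, W.Normal → V ≤ W → W ≤ U → W = V ∨ W = U

theorem exists_min_nat {α : Type*} (f : α → ℕ) (s : Set α) (hs : s.Nonempty) :
    ∃ a ∈ s, ∀ b ∈ s, f a ≤ f b :=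
  ⟨Function.argminOn f s hs, Function.argminOn_mem f s hs,
    fun _ hb => Function.argminOn_le f s hb⟩

theorem comm_le_of_le_sup {G : Type*} [Group G] {U X V K : Subgroup G} [hV : V.Normal]
    (h : U ≤ X ⊔ V) : ⁅U, K⁆ ≤ ⁅X, K⁆ ⊔ V := by
  rw [Subgroup.commutator_le]
  intro u hu k hk
  obtain ⟨x, hx, v, hv, rfl⟩ := Subgroup.mem_sup_of_normal_right.mp (h hu)
  have e : ⁅x * v, k⁆ = x * (v * (k * v⁻¹ * k⁻¹)) * x⁻¹ * ⁅x, k⁆ := by
    simp only [commutatorElement_def]; group
  rw [e]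
  refine Subgroup.mul_mem _ ?_ ?_
  · apply (le_sup_right : V ≤ ⁅X, K⁆ ⊔ V)
    exact hV.conj_mem _ (V.mul_mem hv (hV.conj_mem _ (V.inv_mem hv) k)) x
  · exact (le_sup_left : ⁅X, K⁆ ≤ ⁅X, K⁆ ⊔ V) (Subgroup.commutator_mem_commutator hx hk)

/-- A nilpotent normal subgroup centralizes every chief factor. -/
theorem centralizes_chief_of_nilpotent {G : Type*} [Group G] [Finite G] (K : Subgroup G)
    [hK : K.Normal] (hnil : Group.IsNilpotent K) (U V : Subgroup G) (hc : IsChief U V) :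
    ⁅U, K⁆ ≤ V := by
  obtain ⟨hUn, hVn, hVU, hmin⟩ := hc
  have hW : (⁅U, K⁆ ⊔ V).Normal := inferInstance
  rcases hmin (⁅U, K⁆ ⊔ V) hW le_sup_right
    (sup_le (Subgroup.commutator_le_left U K) hVU.le) with h | h
  · rw [← h]; exact le_sup_left
  · exfalso
    obtain ⟨n, hn⟩ := (Subgroup.isNilpotent_iff_lowerCentralSeries K).mp hnil
    have key : ∀ i, U ≤ K.lowerCentralSeries i ⊔ V := by
      intro i
      induction i with
      | zero =>
        calc U = ⁅U, K⁆ ⊔ V := h.symm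
          _ ≤ K.lowerCentralSeries 0 ⊔ V :=
            sup_le_sup_right (Subgroup.commutator_le_right U K) V
      | succ i ih =>
        calc U = ⁅U, K⁆ ⊔ V := h.symm
          _ ≤ (⁅K.lowerCentralSeries i, K⁆ ⊔ V) ⊔ V := sup_le_sup_right (comm_le_of_le_sup ih) V
          _ = K.lowerCentralSeries (i + 1) ⊔ V := by
            rw [sup_assoc, sup_idem, Subgroup.lowerCentralSeries_succ]
    have h1 := key n
    rw [hn, bot_sup_eq] at h1
    exact (not_le_of_gt hVU) h1

/-- Criterion for a normal subgroup `D` to lie in a "relative Fitting subgroup" `F`. -/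
theorem le_of_coprime_centralizes {G : Type*} [Group G] [Finite G] (F W D : Subgroup G)
    [hFn : F.Normal] [hDn : D.Normal] (hF : F ≤ Cfsg.fittingSubgroup G) (hDW : D ≤ W)
    (hCF : W ⊓ Subgroup.centralizer (F : Set G) ≤ F)
    (hmax : ∀ M : Subgroup G, M.Normal → Group.IsNilpotent M → M ≤ W → M ≤ F)
    (hA : ∀ (p : ℕ), p.Prime → ∀ c ∈ D, (orderOf c).Coprime p →
      ∀ x ∈ Cfsg.pCore p G ⊓ F, c * x * c⁻¹ = x) : D ≤ F := by
  classical
  have hY : ∀ y ∈ W, (∀ (p : ℕ), p.Prime → ∀ x ∈ Cfsg.pCore p G ⊓ F, y * x * y⁻¹ = x) →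
      y ∈ F := by
    intro y hyW hy
    apply hCF
    refine Subgroup.mem_inf.mpr ⟨hyW, ?_⟩
    have h1 : F ≤ Subgroup.centralizer ({y} : Set G) := by
      apply Cfsg.Agent.S3785.le_of_forall_prime_pow_mem
      intro p hp x hx hxp
      have : Fact p.Prime := ⟨hp⟩
      have h2 := hy p hp x (Subgroup.mem_inf.mpr
        ⟨Cfsg.Agent.S3785.mem_pCore_of_mem_fitting (hF hx) hxp, hx⟩)
      rw [Subgroup.mem_centralizer_iff]
      intro w hw
      rw [Set.mem_singleton_iff] at hw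
      subst hw
      calc w * x = w * x * w⁻¹ * w := by group
        _ = x * w := by rw [h2]
    rw [Subgroup.mem_centralizer_iff]
    intro x hx
    have h2 := Subgroup.mem_centralizer_iff.mp (h1 hx) y rfl
    exact h2.symm
  have hN : ∀ (q : ℕ), q.Prime → ∀ c ∈ D, (∃ k : ℕ, c ^ q ^ k = 1) → c ∈ F := by
    intro q hq c hc hcq
    have : Fact q.Prime := ⟨hq⟩
    set T : Set G := {x | ∃ p : ℕ, p.Prime ∧ p ≠ q ∧ x ∈ Cfsg.pCore p G ⊓ F} with hT
    have hTconj : ∀ x ∈ T, ∀ h : G, h * x * h⁻¹ ∈ T := by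
      rintro x ⟨p, hp, hpq, hx⟩ h
      exact ⟨p, hp, hpq, Subgroup.mem_inf.mpr
        ⟨(Cfsg.pCore_normal p G).conj_mem x (Subgroup.mem_inf.mp hx).1 h,
          hFn.conj_mem x (Subgroup.mem_inf.mp hx).2 h⟩⟩
    have hCTn : (Subgroup.centralizer T).Normal :=
      Cfsg.Agent.S3785.normal_centralizer_of_conj_invariant _ hTconj
    set N := D ⊓ Subgroup.centralizer T with hNdef
    have hNn : N.Normal := inferInstance
    have hND : N ≤ D := inf_le_left
    have hNT : ∀ n ∈ N, ∀ (p : ℕ), p.Prime → p ≠ q → ∀ x ∈ Cfsg.pCore p G ⊓ F,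
        n * x * n⁻¹ = x := by
      intro n hn p hp hpq x hx
      have h1 := (Subgroup.mem_centralizer_iff.mp (Subgroup.mem_inf.mp hn).2) x ⟨p, hp, hpq, hx⟩
      rw [← h1]; group
    have hcN : c ∈ N := by
      refine Subgroup.mem_inf.mpr ⟨hc, ?_⟩
      rw [Subgroup.mem_centralizer_iff]
      rintro x ⟨p, hp, hpq, hx⟩
      obtain ⟨k, hk⟩ := hcq
      have h1 : orderOf c ∣ q ^ k := orderOf_dvd_of_pow_eq_one hk
      have h2 : Nat.Coprime (q ^ k) p :=
        Nat.Coprime.pow_left k ((Nat.coprime_primes hq hp).mpr (Ne.symm hpq))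
      have h3 := hA p hp c hc (Nat.Coprime.coprime_dvd_left h1 h2) x hx
      calc x * c = c * x * c⁻¹ * c := by rw [h3]
        _ = c * x := by group
    have hpow_center : ∀ n : N, ∃ a : ℕ, n ^ q ^ a ∈ Subgroup.center N := by
      intro n
      have hord : orderOf (n : G) ≠ 0 := (orderOf_pos (n : G)).ne'
      obtain ⟨a, m, hqm, hnm⟩ := Nat.exists_eq_pow_mul_and_not_dvd hord q hq.ne_one
      refine ⟨a, ?_⟩
      have hn'N : (n : G) ^ q ^ a ∈ N := N.pow_mem n.2 _
      have hn'm : ((n : G) ^ q ^ a) ^ m = 1 := by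
        rw [← pow_mul, ← hnm, pow_orderOf_eq_one]
      have hn'cop : (orderOf ((n : G) ^ q ^ a)).Coprime q := by
        have h1 : orderOf ((n : G) ^ q ^ a) ∣ m := orderOf_dvd_of_pow_eq_one hn'm
        have h2 : Nat.Coprime m q := ((Nat.Prime.coprime_iff_not_dvd hq).mpr hqm).symm
        exact Nat.Coprime.coprime_dvd_left h1 h2
      have hn'F : (n : G) ^ q ^ a ∈ F := by
        apply hY _ (hDW (hND hn'N))
        intro p hp x hx
        by_cases hpq : p = q
        · subst hpq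
          exact hA p hp _ (hND hn'N) hn'cop x hx
        · exact hNT _ hn'N p hp hpq x hx
      rw [Subgroup.mem_center_iff]
      intro h
      apply Subtype.ext
      have h1 : Subgroup.zpowers ((n : G) ^ q ^ a) ≤ Subgroup.centralizer ({(h : G)} : Set G) := by
        apply Cfsg.Agent.S3785.le_of_forall_prime_pow_mem
        intro p hp b hb hbp
        have : Fact p.Prime := ⟨hp⟩
        rw [Subgroup.mem_centralizer_iff]
        intro w hw
        rw [Set.mem_singleton_iff] at hw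
        subst hw
        by_cases hpq : p = q
        · subst hpq
          obtain ⟨k, hk⟩ := hbp
          have h2 : orderOf b ∣ p ^ k := orderOf_dvd_of_pow_eq_one hk
          have h3 : orderOf b ∣ orderOf ((n : G) ^ p ^ a) := orderOf_dvd_of_mem_zpowers hb
          have h4 : Nat.Coprime (orderOf ((n : G) ^ p ^ a)) (p ^ k) :=
            Nat.Coprime.pow_right k hn'cop
          have h5 : b = 1 := orderOf_eq_one_iff.mp (Nat.eq_one_of_dvd_coprimes h4 h3 h2)
          subst h5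
          simp
        · have hbF : b ∈ F := (Subgroup.zpowers_le.mpr hn'F) hb
          have h2 := hNT (h : G) h.2 p hp hpq b (Subgroup.mem_inf.mpr
            ⟨Cfsg.Agent.S3785.mem_pCore_of_mem_fitting (hF hbF) hbp, hbF⟩)
          calc (h : G) * b = (h : G) * b * (h : G)⁻¹ * h := by group
            _ = b * h := by rw [h2]
      have h2 := Subgroup.mem_centralizer_iff.mp (h1 (Subgroup.mem_zpowers _)) (h : G) rfl
      simp only [Subgroup.coe_mul, Subgroup.coe_pow]
      exact h2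
    have hQp : IsPGroup q (↥N ⧸ Subgroup.center ↥N) := by
      intro gbar
      obtain ⟨n, rfl⟩ := QuotientGroup.mk_surjective gbar
      obtain ⟨a, ha⟩ := hpow_center n
      refine ⟨a, ?_⟩
      rw [← QuotientGroup.mk_pow, QuotientGroup.eq_one_iff]
      exact ha
    have hNnil : Group.IsNilpotent N := by
      have : Group.IsNilpotent (↥N ⧸ Subgroup.center ↥N) := hQp.isNilpotent
      apply Subgroup.isNilpotent_of_ker_le_center (QuotientGroup.mk' (Subgroup.center ↥N))
      rw [QuotientGroup.ker_mk']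
    exact hmax N hNn hNnil (hND.trans hDW) hcN
  apply Cfsg.Agent.S3785.le_of_forall_prime_pow_mem
  intro q hq c hc hcq
  exact hN q hq c hc hcq

/-- The elements of `N` centralizing every chief factor of `G` below `F`. -/
def chiefCentralizer {G : Type*} [Group G] (N F : Subgroup G) [hN : N.Normal] : Subgroup G where
  carrier := {d | d ∈ N ∧ ∀ U V : Subgroup G, IsChief U V → U ≤ F →
    ∀ u ∈ U, u * d * u⁻¹ * d⁻¹ ∈ V}
  one_mem' := ⟨N.one_mem, fun U V hc _ u _ => by simpa using V.one_mem⟩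
  mul_mem' := by
    rintro a b ⟨haN, ha⟩ ⟨hbN, hb⟩
    refine ⟨N.mul_mem haN hbN, fun U V hc hUF u hu => ?_⟩
    have e : u * (a * b) * u⁻¹ * (a * b)⁻¹ =
        (u * a * u⁻¹ * a⁻¹) * (a * (u * b * u⁻¹ * b⁻¹) * a⁻¹) := by group
    rw [e]
    exact V.mul_mem (ha U V hc hUF u hu) (hc.2.1.conj_mem _ (hb U V hc hUF u hu) a)
  inv_mem' := by
    rintro a ⟨haN, ha⟩
    refine ⟨N.inv_mem haN, fun U V hc hUF u hu => ?_⟩
    have e : u * a⁻¹ * u⁻¹ * a⁻¹⁻¹ = a⁻¹ * (u * a * u⁻¹ * a⁻¹)⁻¹ * a⁻¹⁻¹ := by group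
    rw [e]
    exact hc.2.1.conj_mem _ (V.inv_mem (ha U V hc hUF u hu)) a⁻¹

theorem mem_chiefCentralizer {G : Type*} [Group G] (N F : Subgroup G) [hN : N.Normal] (d : G) :
    d ∈ chiefCentralizer N F ↔ d ∈ N ∧ ∀ U V : Subgroup G, IsChief U V → U ≤ F →
      ∀ u ∈ U, u * d * u⁻¹ * d⁻¹ ∈ V := Iff.rfl

instance chiefCentralizer_normal {G : Type*} [Group G] (N F : Subgroup G) [hN : N.Normal] :
    (chiefCentralizer N F).Normal := by
  constructor
  rintro d ⟨hdN, hd⟩ h
  refine ⟨hN.conj_mem d hdN h, fun U V hc hUF u hu => ?_⟩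
  have h1 : h⁻¹ * u * h⁻¹⁻¹ ∈ U := hc.1.conj_mem u hu h⁻¹
  have h2 := hd U V hc hUF _ h1
  have e : u * (h * d * h⁻¹) * u⁻¹ * (h * d * h⁻¹)⁻¹ =
      h * ((h⁻¹ * u * h⁻¹⁻¹) * d * (h⁻¹ * u * h⁻¹⁻¹)⁻¹ * d⁻¹) * h⁻¹ := by group
  rw [e]
  exact hc.2.1.conj_mem _ h2 h

/-- Elements of `chiefCentralizer N F` of order prime to `p` centralize `O_p(G) ∩ F`. -/
theorem chiefCentralizer_coprime {G : Type*} [Group G] [Finite G] (N F : Subgroup G)
    [hN : N.Normal] [hFn : F.Normal] (p : ℕ) (hp : p.Prime) (c : G) (hc : c ∈ chiefCentralizer N F)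
    (hcop : (orderOf c).Coprime p) : ∀ x ∈ Cfsg.pCore p G ⊓ F, c * x * c⁻¹ = x := by
  classical
  have : Fact p.Prime := ⟨hp⟩
  have hPp : IsPGroup p (Cfsg.pCore p G) := Cfsg.Agent.Lib.helper27.pCore_isPGroup p
  have main : ∀ (n : ℕ) (M : Subgroup G), Nat.card M = n → M.Normal → M ≤ Cfsg.pCore p G ⊓ F →
      ∀ x ∈ M, c * x * c⁻¹ = x := by
    intro n
    induction n using Nat.strong_induction_on with
    | _ n ih =>
    intro M hcard hMn hMle x hx
    by_cases hMbot : M = ⊥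
    · have hx1 : x = 1 := by rw [hMbot] at hx; simpa using hx
      subst hx1; simp
    · have hbotlt : (⊥ : Subgroup G) < M := bot_lt_iff_ne_bot.mpr hMbot
      obtain ⟨M', ⟨hM'n, hM'lt⟩, hM'max⟩ := exists_min_nat
        (fun X : Subgroup G => Nat.card G - Nat.card X) {X | X.Normal ∧ X < M}
        ⟨⊥, Subgroup.normal_bot, hbotlt⟩
      have hchief : IsChief M M' := by
        refine ⟨hMn, hM'n, hM'lt, fun W hWn hM'W hWM => ?_⟩
        by_cases hWeq : W = M
        · exact Or.inr hWeq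
        · left
          have h1 := hM'max W ⟨hWn, lt_of_le_of_ne hWM hWeq⟩
          have h2 : Nat.card W ≤ Nat.card G := Subgroup.card_le_card_group W
          have h3 : Nat.card M' ≤ Nat.card G := Subgroup.card_le_card_group M'
          have h4 : Nat.card W ≤ Nat.card M' := by
            have h5 : Nat.card G - Nat.card M' ≤ Nat.card G - Nat.card W := h1
            omega
          exact (Subgroup.eq_of_le_of_card_ge hM'W h4).symm
      have hlt : Nat.card M' < n := by
        rw [← hcard]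
        exact card_lt_card_of_lt' hM'lt.le hM'lt.ne
      have hfix : ∀ y ∈ M', c * y * c⁻¹ = y :=
        ih _ hlt M' rfl hM'n (hM'lt.le.trans hMle)
      have h1 : x * c * x⁻¹ * c⁻¹ ∈ M' :=
        hc.2 M M' hchief (hMle.trans inf_le_right) x hx
      have hy : x⁻¹ * (c * x * c⁻¹) ∈ M' := by
        have h2 := hM'n.conj_mem _ (M'.inv_mem h1) x⁻¹
        have e : x⁻¹ * (x * c * x⁻¹ * c⁻¹)⁻¹ * x⁻¹⁻¹ = x⁻¹ * (c * x * c⁻¹) := by group
        rwa [e] at h2
      obtain ⟨m, hm⟩ := hPp ⟨x⁻¹ * (c * x * c⁻¹), (hMle (hM'lt.le hy)).1⟩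
      have hym : (x⁻¹ * (c * x * c⁻¹)) ^ p ^ m = 1 := congrArg Subtype.val hm
      have hx' : c * x * c⁻¹ = x * (x⁻¹ * (c * x * c⁻¹)) := by group
      have h3 := eq_one_of_conj_eq_mul_of_coprime hcop hx' (hfix _ hy) hym
      rw [h3, mul_one] at hx'
      exact hx'
  intro x hx
  have hPn : (Cfsg.pCore p G).Normal := Cfsg.pCore_normal p G
  exact main _ (Cfsg.pCore p G ⊓ F) rfl inferInstance le_rfl x hx

/-- Let G be a finite solvable group and N a normal subgroup of G. Call a pair V < U of normal subgroups of G a chief factor of G when no normal subgroup of G lies strictly between them; an element g centralizes the chief factor U/V when u g u⁻¹ g⁻¹ ∈ V for all u ∈ U. Then an element of G lies in the Fitting subgroup F(N) if and only if it lies in N and centralizes every chief factor of G; and also if and only if it lies in N and centralizes every chief factor U/V of G with U ≤ F(N). -/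
theorem result {G : Type*} [Group G] [Finite G] (hG : Group.IsSolvable G) (N : Subgroup G) [N.Normal] (g : G) : (g ∈ (Cfsg.fittingSubgroup ↥N).map N.subtype ↔ g ∈ N ∧ ∀ U V : Subgroup G, (U.Normal ∧ V.Normal ∧ V < U ∧ ∀ W : Subgroup G, W.Normal → V ≤ W → W ≤ U → W = V ∨ W = U) → ∀ u ∈ U, u * g * u⁻¹ * g⁻¹ ∈ V) ∧ (g ∈ (Cfsg.fittingSubgroup ↥N).map N.subtype ↔ g ∈ N ∧ ∀ U V : Subgroup G, (U.Normal ∧ V.Normal ∧ V < U ∧ ∀ W : Subgroup G, W.Normal → V ≤ W → W ≤ U → W = V ∨ W = U) → U ≤ (Cfsg.fittingSubgroup ↥N).map N.subtype → ∀ u ∈ U, u * g * u⁻¹ * g⁻¹ ∈ V) := by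
  classical
  have hNn : N.Normal := inferInstance
  have hFGn : (Cfsg.fittingSubgroup G).Normal := Cfsg.Agent.Lib.helper28.fittingSubgroup_normal G
  have hFN : (Cfsg.fittingSubgroup ↥N).map N.subtype = Cfsg.fittingSubgroup G ⊓ N :=
    Cfsg.Agent.Lib.helper28.map_fittingSubgroup_of_isSubnormal hNn.isSubnormal
  set F := (Cfsg.fittingSubgroup ↥N).map N.subtype with hFdef
  have hFn : F.Normal := by rw [hFN]; infer_instance
  have hFle : F ≤ Cfsg.fittingSubgroup G := by rw [hFN]; exact inf_le_left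
  have hFN' : F ≤ N := by rw [hFN]; exact inf_le_right
  have hFnil : Group.IsNilpotent F := Cfsg.Agent.Lib.helper28.isNilpotent_of_le_fittingSubgroup hFle
  -- (a)
  have hA : g ∈ F → ∀ U V : Subgroup G, IsChief U V → ∀ u ∈ U, u * g * u⁻¹ * g⁻¹ ∈ V := by
    intro hg U V hc u hu
    have h1 := centralizes_chief_of_nilpotent F hFnil U V hc
    have h2 : ⁅u, g⁆ ∈ ⁅U, F⁆ := Subgroup.commutator_mem_commutator hu hg
    have h3 := h1 h2
    rwa [commutatorElement_def] at h3
  -- (b)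
  have hCF : N ⊓ Subgroup.centralizer (F : Set G) ≤ F := by
    intro x hx
    obtain ⟨hxN, hxC⟩ := Subgroup.mem_inf.mp hx
    have hsolv : Group.IsSolvable ↥N := inferInstance
    have h1 := Cfsg.Agent.Lib.helper27.centralizer_generalizedFittingSubgroup_le (G := ↥N)
    have h2 : Cfsg.generalizedFittingSubgroup ↥N = Cfsg.fittingSubgroup ↥N := by
      unfold Cfsg.generalizedFittingSubgroup
      rw [Cfsg.Agent.Lib.helper27.layer_eq_bot_of_isSolvable, bot_sup_eq]
    rw [h2] at h1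
    have h3 : (⟨x, hxN⟩ : ↥N) ∈ Subgroup.centralizer (Cfsg.fittingSubgroup ↥N : Set ↥N) := by
      rw [Subgroup.mem_centralizer_iff]
      intro y hy
      apply Subtype.ext
      have hyF : (y : G) ∈ F := Subgroup.mem_map_of_mem N.subtype hy
      exact (Subgroup.mem_centralizer_iff.mp hxC) (y : G) hyF
    exact ⟨⟨x, hxN⟩, h1 h3, rfl⟩
  have hmax : ∀ M : Subgroup G, M.Normal → Group.IsNilpotent M → M ≤ N → M ≤ F := by
    intro M hMn hMnil hMN
    rw [hFN]
    exact le_inf (Cfsg.Agent.Lib.helper28.le_fittingSubgroup hMn hMnil) hMN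
  have hDle : chiefCentralizer N F ≤ F := by
    apply le_of_coprime_centralizes F N (chiefCentralizer N F) hFle (fun d hd => hd.1) hCF hmax
    intro p hp c hc hcop
    exact chiefCentralizer_coprime N F p hp c hc hcop
  have hB : g ∈ N → (∀ U V : Subgroup G, IsChief U V → U ≤ F → ∀ u ∈ U, u * g * u⁻¹ * g⁻¹ ∈ V) →
      g ∈ F := fun hgN h => hDle ⟨hgN, h⟩
  refine ⟨⟨fun hg => ⟨hFN' hg, fun U V hc => hA hg U V hc⟩,
    fun h => hB h.1 (fun U V hc _ => h.2 U V hc)⟩,
    ⟨fun hg => ⟨hFN' hg, fun U V hc _ => hA hg U V hc⟩, fun h => hB h.1 h.2⟩⟩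

end Cfsg.Agent.S3766
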