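import Cfsg.Statements.S3767
import Mathlib
import Cfsg.Agent.Lib.helper66.ExtraRepE

set_option autoImplicit false
open Cfsg

namespace Cfsg.Agent.S3767

open Cfsg.Agent.Lib.helper66 in
/-- Let P be an extraspecial p-group of order p^(2n+1) and H a cyclic group of order h prime to p acting on P (inside a common finite group: H normalizes P) so that C_P(x) = Z(P) for every non-identity x ∈ H. Then h divides p^n + 1 or h divides p^n − 1. -/
theorem result {G : Type*} [Group G] [Finite G] {p : ℕ} [Fact p.Prime] (P H : Subgroup G) (hP : Cfsg.IsExtraspecial p ↥P) (n : ℕ) (hn : Nat.card P = p ^ (2 * n + 1)) (hH : IsCyclic H) (hcop : (Nat.card H).Coprime p) (hHP : H ≤ Subgroup.normalizer (P : Set G)) (hfix : ∀ x ∈ H, x ≠ 1 → P ⊓ Subgroup.centralizer {x} = (Subgroup.center ↥P).map P.subtype) : Nat.card H ∣ p ^ n + 1 ∨ Nat.card H ∣ p ^ n - 1 := by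
  classical
  have hp : p.Prime := Fact.out
  obtain ⟨z, hzP, hzord, hZeq, hcen, hcomm, hidx⟩ := extraspecial_data hp P hP
  obtain ⟨x₀, hx₀⟩ := hH.exists_generator
  obtain ⟨x, hx⟩ : ∃ x : G, x = (x₀ : G) := ⟨_, rfl⟩
  have hxH : x ∈ H := by rw [hx]; exact x₀.2
  have hxord : orderOf x = Nat.card H := by
    rw [hx, Subgroup.orderOf_coe]
    exact orderOf_eq_card_of_forall_mem_zpowers hx₀
  obtain ⟨h, hh⟩ : ∃ h : ℕ, h = Nat.card H := ⟨_, rfl⟩
  rw [← hh] at hxord hcop ⊢
  have hhpos : 0 < h := by rw [hh]; exact Nat.card_pos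
  have hxh : x ^ h = 1 := by
    rw [← hxord]
    exact pow_orderOf_eq_one x
  have hZp : ∀ t ∈ Subgroup.zpowers z, t ^ p = 1 := by
    intro t ht
    obtain ⟨k, rfl⟩ := Subgroup.mem_zpowers_iff.mp ht
    rw [← zpow_natCast, ← zpow_mul, mul_comm, zpow_mul, zpow_natCast, ← hzord,
      pow_orderOf_eq_one, one_zpow]
  have hxz : x * z = z * x := by
    by_cases hx1 : x = 1
    · rw [hx1]
      simp
    · have h1 : z ∈ P ⊓ Subgroup.centralizer {x} := by
        rw [hfix x hxH hx1, ← hZeq]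
        exact Subgroup.mem_zpowers z
      exact Subgroup.mem_centralizer_iff.mp (Subgroup.mem_inf.mp h1).2 x rfl
  have hfpf : ∀ i, 0 < i → i < h → ∀ u ∈ P,
      x ^ i * u * x⁻¹ ^ i * u⁻¹ ∈ Subgroup.zpowers z → u ∈ Subgroup.zpowers z := by
    intro i hi0 hi u hu huZ
    have hy1 : x ^ i ≠ 1 := pow_ne_one_of_lt_orderOf hi0.ne' (by rw [hxord]; exact hi)
    have hyH : x ^ i ∈ H := Subgroup.pow_mem _ hxH i
    have hC := hfix (x ^ i) hyH hy1
    rw [← hZeq] at hC
    rw [inv_pow] at huZ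
    exact fpf_of_centralizer P (Subgroup.zpowers z) (x ^ i) h p
      (by rw [← pow_mul, mul_comm, pow_mul, hxh, one_pow]) hZp hcop hC u hu huZ
  have hρz : regRep ℂ G z ≠ 1 := by
    apply regRep_ne_one
    intro h4
    rw [h4, orderOf_one] at hzord
    exact hp.one_lt.ne' hzord.symm
  obtain ⟨m, hm1, ⟨c, hc⟩, -⟩ := extra_thmA (regRep ℂ G) P z x h hhpos hzP (by rw [hzord]; exact hp)
    hcen hcomm (hHP hxH) hxz hxh hfpf (by exact_mod_cast Nat.card_pos.ne')
    (by exact_mod_cast hhpos.ne') hρz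
  have h1 : m ^ 2 * p = p ^ (2 * n + 1) := by rw [hm1, hidx, hn]
  have h2 : m ^ 2 = (p ^ n) ^ 2 := by
    have h3 : m ^ 2 * p = (p ^ n) ^ 2 * p := by
      rw [h1]
      ring
    exact Nat.eq_of_mul_eq_mul_right hp.pos h3
  have h3 : m = p ^ n := Nat.pow_left_injective (two_ne_zero) h2
  rcases hc with hc | hc
  · right
    rw [← h3, hc]
    simp
  · left
    rw [← h3, hc]
    exact dvd_mul_right h c

end Cfsg.Agent.S3767
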