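import Cfsg.Statements.S3768
import Cfsg.Agent.Lib.helper84.Frobenius

set_option autoImplicit false
open Cfsg

namespace Cfsg.Agent.S3768

open scoped Pointwise

theorem mem_conj_smul_iff {G : Type*} [Group G] (g x : G) (R : Subgroup G) :
    x ∈ MulAut.conj g • R ↔ ∃ s ∈ R, g * s * g⁻¹ = x := by
  rw [Subgroup.mem_smul_pointwise_iff_exists]
  simp [MulAut.smul_def]

/-- Let G be a finite Frobenius group with Frobenius complement R and Frobenius kernel K (the identity together with the elements in no conjugate of R), and let N be a normal subgroup of G not containing K. Then G/N is a Frobenius group with Frobenius complement RN/N whose Frobenius kernel is the image of K. -/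
theorem result {G : Type*} [Group G] [Finite G] (R : Subgroup G) (hR : Cfsg.IsFrobeniusComplement R) (N : Subgroup G) [N.Normal] (hKN : ¬ Cfsg.frobeniusKernel R ⊆ N) : Cfsg.IsFrobeniusComplement (R.map (QuotientGroup.mk' N)) ∧ Cfsg.frobeniusKernel (R.map (QuotientGroup.mk' N)) = QuotientGroup.mk' N '' Cfsg.frobeniusKernel R := by
  classical
  obtain ⟨K, hKset, hKn, hKR⟩ := Cfsg.Agent.Lib.helper84.frobenius_kernel R hR
  have hNn : N.Normal := inferInstance
  have hKR_inf : K ⊓ R = ⊥ := hKR.disjoint.eq_bot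
  have hKR_sup : K ⊔ R = ⊤ := hKR.sup_eq_top
  have hdecomp : ∀ g : G, ∃ k ∈ K, ∃ t ∈ R, k * t = g := fun g =>
    Subgroup.mem_sup_of_normal_left.mp (hKR_sup ▸ Subgroup.mem_top g)
  have hmemK : ∀ x : G, x ∈ K ↔ (x = 1 ∨ ∀ g : G, x ∉ MulAut.conj g • R) := by
    intro x
    rw [← SetLike.mem_coe, hKset]
    rfl
  have hcent : ∀ r ∈ R, r ≠ 1 → ∀ g : G, g * r * g⁻¹ = r → g ∈ R := by
    intro r hr hr1 g hg
    by_contra hgR
    have h1 := hR.2.2 g hgR
    have h2 : r ∈ R ⊓ (MulAut.conj g • R) :=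
      Subgroup.mem_inf.mpr ⟨hr, (mem_conj_smul_iff g r R).mpr ⟨r, hr, hg⟩⟩
    rw [h1, Subgroup.mem_bot] at h2
    exact hr1 h2
  have hinj : ∀ r ∈ R, r ≠ 1 → ∀ u ∈ K, ∀ v ∈ K, u * r * u⁻¹ = v * r * v⁻¹ → u = v := by
    intro r hr hr1 u hu v hv h
    have h1 : (v⁻¹ * u) * r * (v⁻¹ * u)⁻¹ = r := by
      calc (v⁻¹ * u) * r * (v⁻¹ * u)⁻¹ = v⁻¹ * (u * r * u⁻¹) * v := by group
        _ = r := by rw [h]; group
    have h2 : v⁻¹ * u ∈ R := hcent r hr hr1 _ h1
    have h3 : v⁻¹ * u ∈ K ⊓ R := Subgroup.mem_inf.mpr ⟨K.mul_mem (K.inv_mem hv) hu, h2⟩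
    rw [hKR_inf, Subgroup.mem_bot] at h3
    exact (inv_mul_eq_one.mp h3).symm
  have hsurj : ∀ (L : Subgroup G), L.Normal → L ≤ K → ∀ r ∈ R, r ≠ 1 → ∀ c ∈ L,
      ∃ u ∈ L, u * r * u⁻¹ * r⁻¹ = c := by
    intro L hLn hLK r hr hr1 c hc
    let ψ : L → L := fun u => ⟨u * r * (u : G)⁻¹ * r⁻¹, by
      have e : (u : G) * r * (u : G)⁻¹ * r⁻¹ = u * (r * (u : G)⁻¹ * r⁻¹) := by group
      rw [e]
      exact L.mul_mem u.2 (hLn.conj_mem _ (L.inv_mem u.2) r)⟩
    have hψ : Function.Injective ψ := by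
      intro u v h
      have h1 : (u : G) * r * (u : G)⁻¹ * r⁻¹ = v * r * (v : G)⁻¹ * r⁻¹ :=
        congrArg Subtype.val h
      have h2 : (u : G) * r * (u : G)⁻¹ = v * r * (v : G)⁻¹ := mul_right_cancel h1
      exact Subtype.ext (hinj r hr hr1 u (hLK u.2) v (hLK v.2) h2)
    obtain ⟨u, hu⟩ := (Finite.injective_iff_surjective.mp hψ) ⟨c, hc⟩
    exact ⟨u, u.2, congrArg Subtype.val hu⟩
  have hNR : N ⊓ R = ⊥ := by
    by_contra hne
    obtain ⟨x, hx1⟩ := (Subgroup.ne_bot_iff_exists_ne_one).mp hne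
    have hxN : (x : G) ∈ N := (Subgroup.mem_inf.mp x.2).1
    have hxR : (x : G) ∈ R := (Subgroup.mem_inf.mp x.2).2
    have hx : (x : G) ≠ 1 := fun h => hx1 (Subtype.ext h)
    apply hKN
    intro c hc
    rw [← hKset] at hc
    obtain ⟨u, hu, rfl⟩ := hsurj K hKn le_rfl x hxR hx c hc
    exact N.mul_mem (hNn.conj_mem x hxN u) (N.inv_mem hxN)
  have hNK : N ≤ K := by
    intro x hx
    rw [hmemK]
    by_cases hx1 : x = 1
    · left; exact hx1
    · right
      intro g hg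
      obtain ⟨s, hs, rfl⟩ := (mem_conj_smul_iff g x R).mp hg
      have hsN : s ∈ N := by
        have h1 := hNn.conj_mem _ hx g⁻¹
        simpa [mul_assoc] using h1
      have h2 : s ∈ N ⊓ R := Subgroup.mem_inf.mpr ⟨hsN, hs⟩
      rw [hNR, Subgroup.mem_bot] at h2
      subst h2
      simp at hx1
  have hNK' : ¬ K ≤ N := fun h => hKN (by rw [← hKset]; exact h)
  have hkey : ∀ r ∈ R, r ≠ 1 → ∀ k ∈ K, k * r * k⁻¹ * r⁻¹ ∈ N → k ∈ N := by
    intro r hr hr1 k hk hkN
    obtain ⟨u, hu, hue⟩ := hsurj N hNn hNK r hr hr1 _ hkN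
    have h1 : u = k := hinj r hr hr1 u (hNK hu) k hk (mul_right_cancel hue)
    rw [← h1]
    exact hu
  have hbar_ne_bot : R.map (QuotientGroup.mk' N) ≠ ⊥ := by
    intro h
    rw [Subgroup.map_eq_bot_iff, QuotientGroup.ker_mk'] at h
    have h1 : R ≤ N ⊓ R := le_inf h le_rfl
    rw [hNR] at h1
    exact hR.1 (le_bot_iff.mp h1)
  have hbar_ne_top : R.map (QuotientGroup.mk' N) ≠ ⊤ := by
    intro h
    have h1 : R ⊔ N = ⊤ := by
      have h2 := congrArg (Subgroup.comap (QuotientGroup.mk' N)) h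
      rwa [Subgroup.comap_map_eq, QuotientGroup.ker_mk', Subgroup.comap_top] at h2
    apply hNK'
    intro k hk
    obtain ⟨t, ht, n, hn, rfl⟩ := Subgroup.mem_sup_of_normal_right.mp (h1 ▸ Subgroup.mem_top k)
    have h3 : t ∈ K ⊓ R := by
      refine Subgroup.mem_inf.mpr ⟨?_, ht⟩
      have h4 := K.mul_mem hk (K.inv_mem (hNK hn))
      simpa using h4
    rw [hKR_inf, Subgroup.mem_bot] at h3
    subst h3
    simpa using hn
  have hbarTI : ∀ g : G ⧸ N, g ∉ R.map (QuotientGroup.mk' N) →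
      R.map (QuotientGroup.mk' N) ⊓ (MulAut.conj g • R.map (QuotientGroup.mk' N)) = ⊥ := by
    intro gbar hg
    obtain ⟨g, rfl⟩ := QuotientGroup.mk'_surjective N gbar
    rw [eq_bot_iff]
    intro y hy0
    obtain ⟨hy1, hy2⟩ := Subgroup.mem_inf.mp hy0
    rw [Subgroup.mem_bot]
    by_contra hy
    obtain ⟨r, hr, rfl⟩ := hy1
    obtain ⟨sbar, hsbar, hse⟩ := (mem_conj_smul_iff _ _ _).mp hy2
    obtain ⟨s, hs, rfl⟩ := hsbar
    have hr1 : r ≠ 1 := by
      rintro rfl
      exact hy (map_one _)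
    obtain ⟨k, hk, t, ht, rfl⟩ := hdecomp g
    have hs'R : t * s * t⁻¹ ∈ R := R.mul_mem (R.mul_mem ht hs) (R.inv_mem ht)
    have hN1 : r⁻¹ * (k * (t * s * t⁻¹) * k⁻¹) ∈ N := by
      have h1 : (QuotientGroup.mk' N) (r⁻¹ * (k * (t * s * t⁻¹) * k⁻¹)) = 1 := by
        have e : k * (t * s * t⁻¹) * k⁻¹ = (k * t) * s * (k * t)⁻¹ := by group
        rw [map_mul, e, map_mul, map_mul, map_inv, map_inv, hse]
        group
      rwa [← MonoidHom.mem_ker, QuotientGroup.ker_mk'] at h1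
    generalize t * s * t⁻¹ = s' at hs'R hN1
    have hs'r : s' = r := by
      have h1 : r⁻¹ * s' ∈ K := by
        have e : r⁻¹ * s' = (r⁻¹ * (k * s' * k⁻¹)) * (k * (s'⁻¹ * k⁻¹ * s'⁻¹⁻¹)) := by group
        rw [e]
        exact K.mul_mem (hNK hN1) (K.mul_mem hk (hKn.conj_mem _ (K.inv_mem hk) s'⁻¹))
      have h2 : r⁻¹ * s' ∈ K ⊓ R := Subgroup.mem_inf.mpr ⟨h1, R.mul_mem (R.inv_mem hr) hs'R⟩
      rw [hKR_inf, Subgroup.mem_bot] at h2
      exact (inv_mul_eq_one.mp h2).symm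
    rw [hs'r] at hN1
    have hN2 : k * r * k⁻¹ * r⁻¹ ∈ N := by
      have h1 := hNn.conj_mem _ hN1 r
      have e : r * (r⁻¹ * (k * r * k⁻¹)) * r⁻¹ = k * r * k⁻¹ * r⁻¹ := by group
      rwa [e] at h1
    have hkN : k ∈ N := hkey r hr hr1 k hk hN2
    apply hg
    refine ⟨t, ht, ?_⟩
    rw [map_mul]
    have h5 : (QuotientGroup.mk' N) k = 1 := by
      rw [← MonoidHom.mem_ker, QuotientGroup.ker_mk']; exact hkN
    rw [h5, one_mul]
  have hker : Cfsg.frobeniusKernel (R.map (QuotientGroup.mk' N)) =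
      QuotientGroup.mk' N '' Cfsg.frobeniusKernel R := by
    rw [← hKset]
    ext xbar
    constructor
    · intro hx
      have hx' : xbar = 1 ∨ ∀ g : G ⧸ N, xbar ∉ MulAut.conj g • R.map (QuotientGroup.mk' N) := hx
      obtain ⟨x, rfl⟩ := QuotientGroup.mk'_surjective N xbar
      obtain ⟨k, hk, t, ht, rfl⟩ := hdecomp x
      by_cases ht1 : t = 1
      · subst ht1
        exact ⟨k, hk, by simp⟩
      · exfalso
        obtain ⟨u, hu, hue⟩ := hsurj K hKn le_rfl t ht ht1 k hk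
        have hxe : k * t = u * t * u⁻¹ := by rw [← hue]; group
        rcases hx' with h1 | h2
        · have hktN : k * t ∈ N := by
            rw [← QuotientGroup.ker_mk' N, MonoidHom.mem_ker]; exact h1
          have h3 : t ∈ K ⊓ R := by
            refine Subgroup.mem_inf.mpr ⟨?_, ht⟩
            have h4 := K.mul_mem (K.inv_mem hk) (hNK hktN)
            simpa using h4
          rw [hKR_inf, Subgroup.mem_bot] at h3
          exact ht1 h3
        · apply h2 (QuotientGroup.mk' N u)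
          rw [mem_conj_smul_iff]
          exact ⟨QuotientGroup.mk' N t, Subgroup.mem_map_of_mem _ ht, by rw [hxe]; simp⟩
    · rintro ⟨k, hk, rfl⟩
      show (QuotientGroup.mk' N k = 1 ∨
        ∀ g : G ⧸ N, QuotientGroup.mk' N k ∉ MulAut.conj g • R.map (QuotientGroup.mk' N))
      by_cases h1 : QuotientGroup.mk' N k = 1
      · left; exact h1
      · right
        intro gbar hcon
        obtain ⟨g, rfl⟩ := QuotientGroup.mk'_surjective N gbar
        obtain ⟨sbar, ⟨s, hs, rfl⟩, hse⟩ := (mem_conj_smul_iff _ _ _).mp hcon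
        have hN1 : k⁻¹ * (g * s * g⁻¹) ∈ N := by
          rw [← QuotientGroup.ker_mk' N, MonoidHom.mem_ker]
          rw [map_mul, map_mul, map_mul, map_inv, map_inv, hse]
          group
        have hsK : s ∈ K := by
          have h2 : g * s * g⁻¹ ∈ K := by
            have h3 := K.mul_mem hk (hNK hN1)
            simpa using h3
          have h4 := hKn.conj_mem _ h2 g⁻¹
          simpa [mul_assoc] using h4
        have h5 : s ∈ K ⊓ R := Subgroup.mem_inf.mpr ⟨hsK, hs⟩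
        rw [hKR_inf, Subgroup.mem_bot] at h5
        subst h5
        apply h1
        rw [← hse]
        simp
  exact ⟨⟨hbar_ne_bot, hbar_ne_top, hbarTI⟩, hker⟩

end Cfsg.Agent.S3768
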