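import Cfsg.Statements.S3769
import Mathlib
import Cfsg.Agent.Lib.helper66.ExtraS2
import Cfsg.Agent.Lib.helper66.ExtraS3
import Cfsg.Agent.Lib.helper13.Count

set_option autoImplicit false
open Cfsg

namespace Cfsg.Agent.S3769

open Cfsg.Agent.Lib.helper66 in
/-- Let G and V be subgroups of a finite group with G solvable of odd order normalizing V, V an elementary abelian ℓ-group for a prime ℓ not dividing the order of G, and suppose G has a normal Hall subgroup K with a complement R of prime order. If C_V(R) = 1, then [R, K] centralizes V. -/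
theorem result {X : Type*} [Group X] [Finite X] (G : Subgroup X) (hsolv : Group.IsSolvable G) (hodd : Odd (Nat.card G)) (V : Subgroup X) {ℓ : ℕ} (hℓ : ℓ.Prime) (hV : Cfsg.IsElementaryAbelian ℓ V) (hℓG : ¬ ℓ ∣ Nat.card G) (hGV : G ≤ Subgroup.normalizer (V : Set X)) (K R : Subgroup X) (hKG : K ≤ G) (hKn : G ≤ Subgroup.normalizer (K : Set X)) (hHall : (Nat.card K).Coprime (K.relIndex G)) (hRG : R ≤ G) (hR : (Nat.card R).Prime) (hKR : K ⊓ R = ⊥) (hKRG : K ⊔ R = G) (hCV : V ⊓ Subgroup.centralizer (R : Set X) = ⊥) : ⁅R, K⁆ ≤ Subgroup.centralizer (V : Set X) := by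
  classical
  by_contra hcon
  obtain ⟨hVcomm, hVp⟩ := hV
  have hVc : ∀ a ∈ V, ∀ b ∈ V, a * b = b * a := by
    intro a ha b hb
    have h1 := hVcomm.is_comm.comm (⟨a, ha⟩ : V) ⟨b, hb⟩
    exact congrArg Subtype.val h1
  have : Fact ℓ.Prime := ⟨hℓ⟩
  obtain ⟨F, _, _, _⟩ : ∃ (F : Type) (_ : Field F) (_ : IsAlgClosed F), CharP F ℓ :=
    ⟨AlgebraicClosure (ZMod ℓ), inferInstance, inferInstance, inferInstance⟩
  obtain ⟨r, hrdef⟩ : ∃ r : ℕ, r = Nat.card R := ⟨_, rfl⟩
  have hr : r.Prime := by rw [hrdef]; exact hR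
  have hX : Nat.card R = r := hrdef.symm
  obtain ⟨x₀, hx₀⟩ : ∃ x₀ : R, x₀ ≠ 1 := by
    have : Nontrivial R := by
      rw [← Finite.one_lt_card_iff_nontrivial, hX]
      exact hr.one_lt
    exact exists_ne 1
  obtain ⟨x, hx⟩ : ∃ x : X, x = (x₀ : X) := ⟨_, rfl⟩
  have hxX : x ∈ R := by rw [hx]; exact x₀.2
  have hx1 : x ≠ 1 := by
    rw [hx]
    intro h
    exact hx₀ (Subtype.ext h)
  have hxord : orderOf x = r := by
    have h1 : orderOf x ∣ r := by
      have h2 := orderOf_dvd_natCard (⟨x, hxX⟩ : R)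
      rwa [Subgroup.orderOf_mk, hX] at h2
    rcases (Nat.dvd_prime hr).mp h1 with h2 | h2
    · exact absurd (orderOf_eq_one_iff.mp h2) hx1
    · exact h2
  have hgen : Subgroup.zpowers x = R := by
    apply Subgroup.eq_of_le_of_card_ge
    · rw [Subgroup.zpowers_le]
      exact hxX
    · rw [Nat.card_zpowers, hX, hxord]
  have hxr : x ^ r = 1 := by
    rw [← hxord]
    exact pow_orderOf_eq_one x
  have hCx : ∀ t ∈ V, x * t = t * x → t = 1 := by
    intro t ht hxt
    have h1 : t ∈ V ⊓ Subgroup.centralizer (R : Set X) := by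
      refine Subgroup.mem_inf.mpr ⟨ht, ?_⟩
      rw [Subgroup.mem_centralizer_iff]
      intro g hg
      rw [SetLike.mem_coe, ← hgen] at hg
      obtain ⟨k, rfl⟩ := Subgroup.mem_zpowers_iff.mp hg
      have h3 : Commute x t := hxt
      exact (h3.zpow_left k).eq
    rw [hCV] at h1
    exact Subgroup.mem_bot.mp h1
  -- cardinalities
  have hcardG : Nat.card G = Nat.card K * r := by
    have h1 := Cfsg.Agent.Lib.helper13.card_sup_mul_card_inf R K (hRG.trans hKn)
    rw [sup_comm, hKRG, inf_comm, hKR, Subgroup.card_bot, mul_one, hX] at h1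
    rw [h1, mul_comm]
  have hKdvd : Nat.card K ∣ Nat.card G := Subgroup.card_dvd_of_le hKG
  have hrG : r ∣ Nat.card G := by rw [hcardG]; exact Dvd.intro_left _ rfl
  have hKpos : 0 < Nat.card K := Nat.card_pos
  have hrel : K.relIndex G = r := by
    have h1 := Cfsg.Agent.Lib.helper13.relIndex_mul_card_of_le hKG
    rw [hcardG, mul_comm] at h1
    exact Nat.eq_of_mul_eq_mul_left hKpos h1
  have hcopK : Nat.Coprime (Nat.card K) r := by rw [← hrel]; exact hHall
  have hℓK : ¬ ℓ ∣ Nat.card K := fun h => hℓG (h.trans hKdvd)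
  have hoddK : Odd (Nat.card K) := by
    rcases Nat.even_or_odd (Nat.card K) with h | h
    · exfalso
      have h2 : 2 ∣ Nat.card G := (even_iff_two_dvd.mp h).trans hKdvd
      exact (Nat.not_even_iff_odd.mpr hodd) (even_iff_two_dvd.mpr h2)
    · exact h
  have hKV : K ≤ Subgroup.normalizer (V : Set X) := hKG.trans hGV
  have hxG : x ∈ G := hRG hxX
  have hxK : x ∈ Subgroup.normalizer (K : Set X) := hKn hxG
  have hxV : x ∈ Subgroup.normalizer (V : Set X) := hGV hxG
  let 𝒮 : Set (Subgroup X) := {D | D ≤ K ∧ x ∈ Subgroup.normalizer (D : Set X) ∧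
    ∃ u ∈ D, ∃ f ∈ addHomSub F V, conjFunRep F X (x * u * x⁻¹) f ≠ conjFunRep F X u f}
  have hQS : K ∈ 𝒮 := by
    refine ⟨le_refl _, hxK, ?_⟩
    obtain ⟨u, huK, huC⟩ : ∃ u ∈ K, u⁻¹ * (x * u * x⁻¹) ∉ Subgroup.centralizer (V : Set X) := by
      by_contra hall
      push Not at hall
      apply hcon
      have hconj : ∀ u ∈ K, x * u * x⁻¹ ∈ K := fun u hu =>
        (Subgroup.mem_normalizer_iff.mp hxK u).mp hu
      have hx1c : ∀ u ∈ K, x * u * x⁻¹ * u⁻¹ ∈ Subgroup.centralizer (V : Set X) := by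
        intro u hu
        have h1 := hall u⁻¹ (K.inv_mem hu)
        have h2 := inv_mem h1
        have h3 : (u⁻¹⁻¹ * (x * u⁻¹ * x⁻¹))⁻¹ = x * u * x⁻¹ * u⁻¹ := by
          group
        rwa [h3] at h2
      have hpow : ∀ m : ℕ, ∀ u ∈ K,
          x ^ m * u * (x ^ m)⁻¹ * u⁻¹ ∈ Subgroup.centralizer (V : Set X) := by
        intro m
        induction m with
        | zero =>
          intro u _
          simp
        | succ m ih =>
          intro u hu
          have h1 : x ^ (m + 1) * u * (x ^ (m + 1))⁻¹ * u⁻¹ =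
              (x ^ m * (x * u * x⁻¹) * (x ^ m)⁻¹ * (x * u * x⁻¹)⁻¹) * (x * u * x⁻¹ * u⁻¹) := by
            rw [pow_succ]
            group
          rw [h1]
          exact mul_mem (ih _ (hconj u hu)) (hx1c u hu)
      rw [Subgroup.commutator_le]
      intro y hy k hk
      rw [← hgen] at hy
      obtain ⟨m, rfl⟩ := (mem_powers_iff_mem_zpowers.mpr hy)
      rw [commutatorElement_def]
      exact hpow m k hk
    have hxuK : x * u * x⁻¹ ∈ K := (Subgroup.mem_normalizer_iff.mp hxK u).mp huK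
    have hgK : u⁻¹ * (x * u * x⁻¹) ∈ K := K.mul_mem (K.inv_mem huK) hxuK
    obtain ⟨f, hf, hne⟩ := addHom_moves F V ℓ hℓ hVc hVp _ (hKV hgK) huC
    refine ⟨u, huK, f, hf, ?_⟩
    intro h
    apply hne
    rw [map_mul, Module.End.mul_apply, h, ← Module.End.mul_apply, ← map_mul, inv_mul_cancel,
      map_one, Module.End.one_apply]
  obtain ⟨Q₀, hQ₀S, hQ₀min⟩ := (wellFounded_lt :
    WellFounded ((· < ·) : Subgroup X → Subgroup X → Prop)).has_min 𝒮 ⟨K, hQS⟩
  obtain ⟨hQ₀Q, hxQ₀, hntQ₀⟩ := hQ₀S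
  have hQ₀G : Q₀ ≤ G := hQ₀Q.trans hKG
  have : Group.IsSolvable Q₀ :=
    Group.isSolvable_of_isSolvable_injective (Subgroup.inclusion_injective hQ₀G)
  have hQ₀dvd : Nat.card Q₀ ∣ Nat.card K := Subgroup.card_dvd_of_le hQ₀Q
  have hcop : Nat.Coprime (Nat.card Q₀) r := Nat.Coprime.coprime_dvd_left hQ₀dvd hcopK
  have hQ₀F : (Nat.card Q₀ : F) ≠ 0 := by
    intro h0
    have h1 := (CharP.cast_eq_zero_iff F ℓ _).mp h0
    exact hℓK (h1.trans hQ₀dvd)
  have hrF : (r : F) ≠ 0 := by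
    intro h0
    have h1 := (CharP.cast_eq_zero_iff F ℓ r).mp h0
    exact hℓG (h1.trans hrG)
  obtain ⟨-, n, hn1, hn2, hn3⟩ := extra_thmS (conjFunRep F X)
    (addHomSub F V) Q₀ x r hr hxQ₀ hxr hcop hQ₀F hrF
    (fun u hu f hf => conjFunRep_mem_addHomSub F V u (hKV (hQ₀Q hu)) f hf)
    (fun f hf => conjFunRep_mem_addHomSub F V x hxV f hf)
    (by
      intro D hDQ₀ hDne hxD d hd f hf
      by_contra hne
      exact hQ₀min D ⟨hDQ₀.trans hQ₀Q, hxD, d, hd, f, hf, hne⟩ (lt_of_le_of_ne hDQ₀ hDne))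
    hntQ₀
    (fun f hf hxf => addHom_fixfree F V x hxV hCx f hf hxf)
  have hnG : n ∣ Nat.card G :=
    ((Dvd.intro n (by ring : n * n = n ^ 2)).trans hn2).trans (hQ₀dvd.trans hKdvd)
  have hnodd : Odd n := by
    rcases Nat.even_or_odd n with h | h
    · exfalso
      have h2 : 2 ∣ Nat.card G := (even_iff_two_dvd.mp h).trans hnG
      exact (Nat.not_even_iff_odd.mpr hodd) (even_iff_two_dvd.mpr h2)
    · exact h
  have hreven : Even r := by
    rw [← hn3]
    exact hnodd.add_one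
  have hr2 : 2 ∣ Nat.card G := (even_iff_two_dvd.mp hreven).trans hrG
  exact (Nat.not_even_iff_odd.mpr hodd) (even_iff_two_dvd.mpr hr2)

end Cfsg.Agent.S3769
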