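import Cfsg.Statements.S3770
import Mathlib
import Cfsg.Agent.S0042
import Cfsg.Agent.Lib.helper1.Frob2

set_option autoImplicit false
set_option linter.style.haveILetI false
set_option linter.unusedSectionVars false
open Cfsg

namespace Cfsg.Agent.S3770

open scoped commutatorElement

section abstract

variable {Γ : Type*} [Group Γ] [Finite Γ] {A : Type*} [AddCommGroup A]

/-- The sum of the operators `ρ n` over a subgroup. -/
noncomputable def tr (ρ : Γ →* AddMonoid.End A) (N : Subgroup Γ) : AddMonoid.End A :=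
  ∑ᶠ n : ↥N, ρ (n : Γ)

theorem tr_eq_sum (ρ : Γ →* AddMonoid.End A) (N : Subgroup Γ) [Fintype ↥N] :
    tr ρ N = ∑ n : ↥N, ρ (n : Γ) := finsum_eq_sum_of_fintype _

theorem mul_tr (ρ : Γ →* AddMonoid.End A) (N : Subgroup Γ) (g : Γ) (hg : g ∈ N) :
    ρ g * tr ρ N = tr ρ N := by
  letI : Fintype ↥N := Fintype.ofFinite ↥N
  rw [tr_eq_sum, Finset.mul_sum]
  exact Fintype.sum_equiv (Equiv.mulLeft (⟨g, hg⟩ : ↥N)) _ _ (fun n => by simp [map_mul])

theorem tr_mul_tr (ρ : Γ →* AddMonoid.End A) (N : Subgroup Γ) :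
    tr ρ N * tr ρ N = (Nat.card N) • tr ρ N := by
  letI : Fintype ↥N := Fintype.ofFinite ↥N
  have h : tr ρ N * tr ρ N = ∑ n : ↥N, ρ (n : Γ) * tr ρ N := by
    nth_rewrite 1 [tr_eq_sum]
    rw [Finset.sum_mul]
  rw [h, Finset.sum_congr rfl (fun (n : ↥N) _ => mul_tr ρ N (n : Γ) n.2), Finset.sum_const,
    Finset.card_univ,
    Nat.card_eq_fintype_card]

theorem comm_tr (ρ : Γ →* AddMonoid.End A) (N : Subgroup Γ) (hN : N.Normal) (g : Γ) :
    ρ g * tr ρ N = tr ρ N * ρ g := by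
  letI : Fintype ↥N := Fintype.ofFinite ↥N
  haveI := hN
  rw [tr_eq_sum, Finset.mul_sum, Finset.sum_mul]
  refine Fintype.sum_equiv (MulAut.conjNormal g : ↥N ≃* ↥N).toEquiv _ _ (fun n => ?_)
  rw [← map_mul, ← map_mul]
  congr 1
  simp

theorem frob_sum (ρ : Γ →* AddMonoid.End A) (N R : Subgroup Γ) (hN : N.Normal)
    (hfpf : ∀ r ∈ R, r ≠ 1 → ∀ n ∈ N, r * n * r⁻¹ = n → n = 1) :
    ∑ᶠ x : ↥N, ρ (x : Γ)⁻¹ * tr ρ R * ρ (x : Γ)
      = (Nat.card N) • (1 : AddMonoid.End A) + tr ρ R * tr ρ N - tr ρ N := by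
  classical
  letI : Fintype ↥N := Fintype.ofFinite ↥N
  letI : Fintype ↥R := Fintype.ofFinite ↥R
  rw [finsum_eq_sum_of_fintype]
  have h1 : ∀ x : ↥N, ρ (x : Γ)⁻¹ * tr ρ R * ρ (x : Γ)
      = ∑ r : ↥R, ρ ((x : Γ)⁻¹ * (r : Γ) * (x : Γ)) := by
    intro x
    rw [tr_eq_sum, Finset.mul_sum, Finset.sum_mul]
    exact Finset.sum_congr rfl (fun r _ => by rw [map_mul, map_mul])
  rw [Finset.sum_congr rfl (fun x _ => h1 x), Finset.sum_comm]
  have h3 : ∀ r : ↥R, ∑ x : ↥N, ρ ((x : Γ)⁻¹ * (r : Γ) * (x : Γ))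
      = ρ (r : Γ) * tr ρ N
        + (if r = 1 then (Nat.card N) • (1 : AddMonoid.End A) - tr ρ N else 0) := by
    intro r
    by_cases hr : r = 1
    · subst hr
      rw [if_pos rfl]
      simp only [Subgroup.coe_one, mul_one, inv_mul_cancel, map_one, Finset.sum_const,
        Finset.card_univ, one_mul]
      rw [Nat.card_eq_fintype_card]
      abel
    · rw [if_neg hr, add_zero]
      have hr1 : (r : Γ) ≠ 1 := fun h => hr (Subtype.ext h)
      let ψ : ↥N → ↥N := fun x =>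
        ⟨(r : Γ)⁻¹ * (x : Γ)⁻¹ * (r : Γ) * (x : Γ),
          N.mul_mem (by simpa using hN.conj_mem _ (N.inv_mem x.2) (r : Γ)⁻¹) x.2⟩
      have hψinj : Function.Injective ψ := by
        intro x y hxy
        have h := congrArg Subtype.val hxy
        simp only [ψ] at h
        have h2 : (r : Γ) * ((x : Γ) * (y : Γ)⁻¹) * (r : Γ)⁻¹ = (x : Γ) * (y : Γ)⁻¹ := by
          have h' : (x : Γ)⁻¹ * (r : Γ) * (x : Γ) = (y : Γ)⁻¹ * (r : Γ) * (y : Γ) := by
            have := congrArg (fun t => (r : Γ) * t) h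
            simpa [mul_assoc] using this
          have h'' : (r : Γ) * (x : Γ) * (y : Γ)⁻¹ = (x : Γ) * (y : Γ)⁻¹ * (r : Γ) := by
            have := congrArg (fun t => (x : Γ) * t * (y : Γ)⁻¹) h'
            simpa [mul_assoc] using this
          rw [← mul_assoc, h'']
          simp [mul_assoc]
        have h3 := hfpf r r.2 hr1 _ (N.mul_mem x.2 (N.inv_mem y.2)) h2
        exact Subtype.ext (mul_inv_eq_one.mp h3)
      have hψbij : Function.Bijective ψ := Finite.injective_iff_bijective.mp hψinj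
      have h4 : ∀ x : ↥N, ρ ((x : Γ)⁻¹ * (r : Γ) * (x : Γ)) = ρ (r : Γ) * ρ ((ψ x : ↥N) : Γ) := by
        intro x
        rw [← map_mul]
        congr 1
        simp [ψ, mul_assoc]
      rw [Finset.sum_congr rfl (fun x _ => h4 x), ← Finset.mul_sum, tr_eq_sum]
      congr 1
      exact Fintype.sum_equiv (Equiv.ofBijective ψ hψbij) _ _ (fun x => rfl)
  rw [Finset.sum_congr rfl (fun r _ => h3 r), Finset.sum_add_distrib, ← Finset.sum_mul,
    ← tr_eq_sum, Finset.sum_ite_eq' Finset.univ (1 : ↥R), if_pos (Finset.mem_univ _)]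
  abel

theorem card_smul_mem (ρ : Γ →* AddMonoid.End A) (N R : Subgroup Γ) (hN : N.Normal)
    (hfpf : ∀ r ∈ R, r ≠ 1 → ∀ n ∈ N, r * n * r⁻¹ = n → n = 1) (a : A)
    (ha : tr ρ N a = 0) :
    (Nat.card N) • a ∈ AddSubgroup.closure
      {b : A | ∃ x ∈ N, ∃ c : A, (∀ r ∈ R, ρ r c = c) ∧ b = ρ x c} := by
  letI : Fintype ↥N := Fintype.ofFinite ↥N
  have key := congrArg (fun φ : AddMonoid.End A => φ a) (frob_sum ρ N R hN hfpf)
  rw [finsum_eq_sum_of_fintype] at key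
  have e1 : ((Nat.card N) • (1 : AddMonoid.End A) + tr ρ R * tr ρ N - tr ρ N) a
      = (Nat.card N) • a := by
    change (Nat.card N) • a + tr ρ R (tr ρ N a) - tr ρ N a = _
    rw [ha, map_zero, add_zero, sub_zero]
  have e2 : (∑ x : ↥N, ρ (x : Γ)⁻¹ * tr ρ R * ρ (x : Γ)) a
      = ∑ x : ↥N, ρ (x : Γ)⁻¹ (tr ρ R (ρ (x : Γ) a)) := by
    exact map_sum (AddMonoidHom.eval a) (fun x : ↥N => ρ (x : Γ)⁻¹ * tr ρ R * ρ (x : Γ))
      Finset.univ
  rw [← e1, ← key, e2]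
  refine sum_mem (fun x _ => AddSubgroup.subset_closure ?_)
  refine ⟨(x : Γ)⁻¹, N.inv_mem x.2, tr ρ R (ρ (x : Γ) a), fun r hr => ?_, rfl⟩
  have := congrArg (fun φ : AddMonoid.End A => φ (ρ (x : Γ) a)) (mul_tr ρ R r hr)
  exact this

theorem eq_zsmul_nsmul {ℓ n : ℕ} (hcop : Nat.Coprime n ℓ) (hA : ∀ a : A, ℓ • a = 0) (a : A) :
    a = (Nat.gcdA n ℓ) • (n • a) := by
  have h1 : (1 : ℤ) = (n : ℤ) * Nat.gcdA n ℓ + (ℓ : ℤ) * Nat.gcdB n ℓ := by
    have := Nat.gcd_eq_gcd_ab n ℓ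
    rw [hcop.gcd_eq_one] at this
    exact_mod_cast this
  calc a = (1 : ℤ) • a := (one_zsmul a).symm
    _ = (Nat.gcdA n ℓ) • (n • a) := by
      rw [h1, add_zsmul, mul_comm, mul_zsmul, mul_comm (ℓ : ℤ), mul_zsmul, natCast_zsmul,
        natCast_zsmul, hA a, zsmul_zero, add_zero]


theorem main_comm (ρ : Γ →* AddMonoid.End A) {ℓ : ℕ} (hA : ∀ a : A, ℓ • a = 0)
    (hℓΓ : (Nat.card Γ).Coprime ℓ)
    (K R : Subgroup Γ) (hKn : K.Normal) (hKnil : Group.IsNilpotent ↥K)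
    (hfpf : ∀ r ∈ R, r ≠ 1 → ∀ n ∈ K, r * n * r⁻¹ = n → n = 1)
    (hTK : ∀ a : A, tr ρ K a = 0)
    (hF : ∀ a b : A, (∀ r ∈ R, ρ r a = a) → (∀ r ∈ R, ρ r b = b) → a ≠ 0 →
      ∃ m : ℤ, b = m • a) :
    ∀ k₁ ∈ K, ∀ k₂ ∈ K, ρ k₁ * ρ k₂ = ρ k₂ * ρ k₁ := by
  intro k₁ hk₁ k₂ hk₂
  have hcopN : ∀ N : Subgroup Γ, (Nat.card N).Coprime ℓ := fun N =>
    Nat.Coprime.coprime_dvd_left (Subgroup.card_subgroup_dvd_card N) hℓΓ
  have hspanK : ∀ a : A, a ∈ AddSubgroup.closure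
      {b : A | ∃ x ∈ K, ∃ c : A, (∀ r ∈ R, ρ r c = c) ∧ b = ρ x c} := by
    intro a
    rw [eq_zsmul_nsmul (hcopN K) hA a]
    exact AddSubgroup.zsmul_mem _ (card_smul_mem ρ K R hKn hfpf a (hTK a)) _
  by_cases hF0 : ∀ c : A, (∀ r ∈ R, ρ r c = c) → c = 0
  · have hA0 : ∀ a : A, a = 0 := by
      intro a
      refine AddSubgroup.closure_induction (p := fun a _ => a = 0) ?_ ?_ ?_ ?_ (hspanK a)
      · rintro b ⟨x, hx, c, hc, rfl⟩
        rw [hF0 c hc, map_zero]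
      · rfl
      · rintro x y _ _ hx hy
        rw [hx, hy, add_zero]
      · rintro x _ hx
        rw [hx, neg_zero]
    ext a
    rw [hA0 a, map_zero, map_zero]
  push Not at hF0
  obtain ⟨w, hwR, hw0⟩ := hF0
  -- the subgroup of elements of `K` acting centrally
  let f : Γ →* (AddMonoid.End A)ˣ := ρ.toHomUnits
  let Z : Subgroup Γ :=
    K ⊓ (Subgroup.centralizer ((K.map f : Subgroup (AddMonoid.End A)ˣ) : Set (AddMonoid.End A)ˣ)).comap f
  have hZmem : ∀ z, z ∈ Z ↔ z ∈ K ∧ ∀ k ∈ K, ρ k * ρ z = ρ z * ρ k := by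
    intro z
    constructor
    · intro hz
      obtain ⟨hzK, hzc⟩ := Subgroup.mem_inf.mp hz
      refine ⟨hzK, fun k hk => ?_⟩
      have h1 := Subgroup.mem_centralizer_iff.mp (Subgroup.mem_comap.mp hzc) (f k)
        (Subgroup.mem_map_of_mem f hk)
      exact congrArg Units.val h1
    · rintro ⟨hzK, hzc⟩
      refine Subgroup.mem_inf.mpr ⟨hzK, Subgroup.mem_comap.mpr
        (Subgroup.mem_centralizer_iff.mpr ?_)⟩
      rintro _ ⟨k, hk, rfl⟩
      apply Units.ext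
      exact hzc k hk
  have hZK : Z ≤ K := inf_le_left
  have hZn : Z.Normal := by
    constructor
    intro z hz g
    rw [hZmem] at hz ⊢
    refine ⟨hKn.conj_mem z hz.1 g, fun k hk => ?_⟩
    have h1 := hz.2 (g⁻¹ * k * g) (by simpa using hKn.conj_mem k hk g⁻¹)
    have e1 : ρ k * ρ (g * z * g⁻¹) = ρ g * (ρ (g⁻¹ * k * g) * ρ z) * ρ g⁻¹ := by
      simp only [← map_mul]
      congr 1
      group
    have e2 : ρ (g * z * g⁻¹) * ρ k = ρ g * (ρ z * ρ (g⁻¹ * k * g)) * ρ g⁻¹ := by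
      simp only [← map_mul]
      congr 1
      group
    rw [e1, e2, h1]
  by_cases hK1 : ∀ k ∈ K, ρ k = 1
  · rw [hK1 k₁ hk₁, hK1 k₂ hk₂]
  push Not at hK1
  obtain ⟨k₀, hk₀, hk₀1⟩ := hK1
  obtain ⟨z₀, hz₀, hz₀1⟩ : ∃ z₀ ∈ Z, ρ z₀ ≠ 1 := by
    let fK : ↥K →* (AddMonoid.End A)ˣ := f.comp K.subtype
    haveI : Group.IsNilpotent ↥fK.range :=
      Group.nilpotent_of_surjective fK.rangeRestrict fK.rangeRestrict_surjective
    haveI : Nontrivial ↥fK.range := by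
      refine ⟨⟨⟨fK ⟨k₀, hk₀⟩, ⟨_, rfl⟩⟩, 1, ?_⟩⟩
      intro h
      have h2 := congrArg (fun u : ↥fK.range => ((u : (AddMonoid.End A)ˣ) : AddMonoid.End A)) h
      exact hk₀1 h2
    have hc := Group.IsNilpotent.center_ne_bot (G := ↥fK.range)
    obtain ⟨c, hc1⟩ := (Subgroup.ne_bot_iff_exists_ne_one).mp hc
    obtain ⟨z, hz⟩ := (c : ↥fK.range).2
    refine ⟨(z : Γ), (hZmem _).mpr ⟨z.2, fun k hk => ?_⟩, ?_⟩
    · have h1 := Subgroup.mem_center_iff.mp c.2 ⟨fK ⟨k, hk⟩, ⟨_, rfl⟩⟩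
      have h2 := congrArg (fun u : ↥fK.range => ((u : (AddMonoid.End A)ˣ) : AddMonoid.End A)) h1
      simp only [Subgroup.coe_mul, Units.val_mul, ← hz] at h2
      exact h2
    · intro h
      apply hc1
      apply Subtype.ext
      apply Subtype.ext
      apply Units.ext
      rw [← hz]
      exact h
  -- the decomposition of `w`
  have hfpfZ : ∀ r ∈ R, r ≠ 1 → ∀ n ∈ Z, r * n * r⁻¹ = n → n = 1 :=
    fun r hr hr1 n hn => hfpf r hr hr1 n (hZK hn)
  have hTw : ∀ r ∈ R, ρ r (tr ρ Z w) = tr ρ Z w := by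
    intro r hr
    have := congrArg (fun φ : AddMonoid.End A => φ w) (comm_tr ρ Z hZn r)
    change ρ r (tr ρ Z w) = tr ρ Z (ρ r w) at this
    rw [this, hwR r hr]
  by_cases hw1 : tr ρ Z w = 0
  · -- `tr ρ Z` vanishes
    have hTZ : ∀ a : A, tr ρ Z a = 0 := by
      intro a
      refine AddSubgroup.closure_induction (p := fun a _ => tr ρ Z a = 0) ?_ ?_ ?_ ?_ (hspanK a)
      · rintro b ⟨x, hx, c, hc, rfl⟩
        obtain ⟨m, rfl⟩ := hF w c hwR hc hw0
        have := congrArg (fun φ : AddMonoid.End A => φ (m • w)) (comm_tr ρ Z hZn x)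
        change ρ x (tr ρ Z (m • w)) = tr ρ Z (ρ x (m • w)) at this
        rw [← this, map_zsmul, hw1, zsmul_zero, map_zero]
      · exact map_zero _
      · rintro x y _ _ hx hy
        rw [map_add, hx, hy, add_zero]
      · rintro x _ hx
        rw [map_neg, hx, neg_zero]
    have hspanZ : ∀ a : A, a ∈ AddSubgroup.closure
        {b : A | ∃ x ∈ Z, ∃ c : A, (∀ r ∈ R, ρ r c = c) ∧ b = ρ x c} := by
      intro a
      rw [eq_zsmul_nsmul (hcopN Z) hA a]
      exact AddSubgroup.zsmul_mem _ (card_smul_mem ρ Z R hZn hfpfZ a (hTZ a)) _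
    let D : AddSubgroup (AddMonoid.End A) :=
      { carrier := {φ | (∀ k ∈ K, φ * ρ k = ρ k * φ) ∧
          ∀ ψ : AddMonoid.End A, (∀ k ∈ K, ψ * ρ k = ρ k * ψ) → φ * ψ = ψ * φ}
        zero_mem' := ⟨fun k _ => by rw [zero_mul, mul_zero],
          fun ψ _ => by rw [zero_mul, mul_zero]⟩
        add_mem' := by
          rintro φ₁ φ₂ ⟨h1, h1'⟩ ⟨h2, h2'⟩
          exact ⟨fun k hk => by rw [add_mul, mul_add, h1 k hk, h2 k hk],
            fun ψ hψ => by rw [add_mul, mul_add, h1' ψ hψ, h2' ψ hψ]⟩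
        neg_mem' := by
          rintro φ ⟨h1, h1'⟩
          exact ⟨fun k hk => by rw [neg_mul, mul_neg, h1 k hk],
            fun ψ hψ => by rw [neg_mul, mul_neg, h1' ψ hψ]⟩ }
    have hDmem : ∀ φ, φ ∈ D ↔ (∀ k ∈ K, φ * ρ k = ρ k * φ) ∧
          ∀ ψ : AddMonoid.End A, (∀ k ∈ K, ψ * ρ k = ρ k * ψ) → φ * ψ = ψ * φ :=
      fun φ => Iff.rfl
    have hρD : ∀ z ∈ Z, ρ z ∈ D := by
      intro z hz
      refine (hDmem _).mpr ⟨fun k hk => (((hZmem z).mp hz).2 k hk).symm, fun ψ hψ => ?_⟩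
      exact (hψ z (hZK hz)).symm
    have hcyc : ∀ a : A, ∃ φ ∈ D, a = φ w := by
      intro a
      refine AddSubgroup.closure_induction (p := fun a _ => ∃ φ ∈ D, a = φ w) ?_ ?_ ?_ ?_
        (hspanZ a)
      · rintro b ⟨x, hx, c, hc, rfl⟩
        obtain ⟨m, rfl⟩ := hF w c hwR hc hw0
        refine ⟨m • ρ x, D.zsmul_mem (hρD x hx) m, ?_⟩
        rw [map_zsmul]
        rfl
      · exact ⟨0, D.zero_mem, rfl⟩
      · rintro x y _ _ ⟨φ₁, h1, rfl⟩ ⟨φ₂, h2, rfl⟩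
        exact ⟨φ₁ + φ₂, D.add_mem h1 h2, rfl⟩
      · rintro x _ ⟨φ, h1, rfl⟩
        exact ⟨-φ, D.neg_mem h1, rfl⟩
    obtain ⟨φ₁, hφ₁, e₁⟩ := hcyc (ρ k₁ w)
    obtain ⟨φ₂, hφ₂, e₂⟩ := hcyc (ρ k₂ w)
    have hφ₁' := (hDmem _).mp hφ₁
    have hφ₂' := (hDmem _).mp hφ₂
    ext a
    obtain ⟨φ, hφ, rfl⟩ := hcyc a
    have hφ' := (hDmem _).mp hφ
    have app : ∀ (α β : AddMonoid.End A) (x : A), (α * β) x = α (β x) := fun _ _ _ => rfl
    have c1 : ∀ k ∈ K, ∀ (ψ : AddMonoid.End A), ψ ∈ D → ∀ x : A, ρ k (ψ x) = ψ (ρ k x) := by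
      intro k hk ψ hψ x
      have := congrArg (fun α : AddMonoid.End A => α x) (((hDmem _).mp hψ).1 k hk)
      exact this.symm
    have c2 : φ₁ (φ₂ w) = φ₂ (φ₁ w) := by
      have := congrArg (fun α : AddMonoid.End A => α w) (hφ₁'.2 φ₂ hφ₂'.1)
      exact this
    rw [app, app, c1 k₂ hk₂ φ hφ, c1 k₁ hk₁ φ hφ, c1 k₁ hk₁ φ hφ, c1 k₂ hk₂ φ hφ, e₂, e₁,
      c1 k₁ hk₁ φ₂ hφ₂, c1 k₂ hk₂ φ₁ hφ₁, e₁, e₂, c2]
  · -- `Z` acts trivially: contradiction
    exfalso
    apply hz₀1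
    have hzw : ∀ z ∈ Z, ρ z w = w := by
      intro z hz
      obtain ⟨m, hm⟩ := hF (tr ρ Z w) w hTw hwR hw1
      have h1 : ρ z (tr ρ Z w) = tr ρ Z w := by
        have := congrArg (fun φ : AddMonoid.End A => φ w) (mul_tr ρ Z z hz)
        exact this
      rw [hm, map_zsmul, h1]
    ext a
    refine AddSubgroup.closure_induction (p := fun a _ => ρ z₀ a = (1 : AddMonoid.End A) a)
      ?_ ?_ ?_ ?_ (hspanK a)
    · rintro b ⟨x, hx, c, hc, rfl⟩
      obtain ⟨m, rfl⟩ := hF w c hwR hc hw0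
      have h1 := congrArg (fun α : AddMonoid.End A => α (m • w)) (((hZmem z₀).mp hz₀).2 x hx)
      change ρ x (ρ z₀ (m • w)) = ρ z₀ (ρ x (m • w)) at h1
      rw [← h1, map_zsmul (ρ z₀), hzw z₀ hz₀]
      rfl
    · rw [map_zero, map_zero]
    · rintro x y _ _ hx hy
      rw [map_add, hx, hy, map_add]
    · rintro x _ hx
      rw [map_neg, hx, map_neg]

end abstract

section bridge

/-- The additive form of an action by automorphisms on a commutative group. -/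
def addRep {Γ W : Type*} [Group Γ] [CommGroup W] (σ : Γ →* MulAut W) :
    Γ →* AddMonoid.End (Additive W) where
  toFun g := MonoidHom.toAdditive (σ g).toMonoidHom
  map_one' := by
    rw [map_one]
    rfl
  map_mul' := fun g h => by
    rw [map_mul]
    rfl

/-- Restriction of a representation to an invariant subgroup. -/
def restrictRep {Γ A : Type*} [Group Γ] [AddCommGroup A] (ρ : Γ →* AddMonoid.End A)
    (B : AddSubgroup A) (hB : ∀ g : Γ, ∀ b ∈ B, ρ g b ∈ B) : Γ →* AddMonoid.End ↥B where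
  toFun g := (AddMonoidHom.comp (ρ g : A →+ A) B.subtype).codRestrict B (fun b => hB g b b.2)
  map_one' := by
    refine AddMonoidHom.ext (fun b => Subtype.ext ?_)
    change (ρ 1) (b : A) = b
    rw [map_one]
    rfl
  map_mul' := fun g h => by
    refine AddMonoidHom.ext (fun b => Subtype.ext ?_)
    change (ρ (g * h)) (b : A) = ρ g (ρ h (b : A))
    rw [map_mul]
    rfl

theorem comm_trivial {Γ W : Type*} [Group Γ] [Finite Γ] [CommGroup W]
    (σ : Γ →* MulAut W) {ℓ : ℕ} (hW : ∀ v : W, v ^ ℓ = 1)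
    (hℓΓ : (Nat.card Γ).Coprime ℓ)
    (K R : Subgroup Γ) (hKn : K.Normal) (hKnil : Group.IsNilpotent ↥K)
    (hfpf : ∀ r ∈ R, r ≠ 1 → ∀ n ∈ K, r * n * r⁻¹ = n → n = 1)
    (hF : ∀ a b : W, (∀ r ∈ R, σ r a = a) → (∀ r ∈ R, σ r b = b) → a ≠ 1 →
      ∃ m : ℤ, b = a ^ m) :
    ∀ k₁ ∈ K, ∀ k₂ ∈ K, ∀ v : W, σ ⁅k₁, k₂⁆ v = v := by
  intro k₁ hk₁ k₂ hk₂ v
  let ρ := addRep σ
  have hA : ∀ a : Additive W, ℓ • a = 0 := fun a => congrArg Additive.ofMul (hW a.toMul)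
  let B : AddSubgroup (Additive W) := AddMonoidHom.ker (tr ρ K : Additive W →+ Additive W)
  have hBmem : ∀ b : Additive W, b ∈ B ↔ tr ρ K b = 0 := fun b => AddMonoidHom.mem_ker
  have hB : ∀ g : Γ, ∀ b ∈ B, ρ g b ∈ B := by
    intro g b hb
    rw [hBmem] at hb ⊢
    have := congrArg (fun φ : AddMonoid.End (Additive W) => φ b) (comm_tr ρ K hKn g)
    change ρ g (tr ρ K b) = tr ρ K (ρ g b) at this
    rw [← this, hb, map_zero]
  let ρ' := restrictRep ρ B hB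
  have hTK' : ∀ b : ↥B, tr ρ' K b = 0 := by
    intro b
    letI : Fintype ↥K := Fintype.ofFinite ↥K
    apply Subtype.ext
    have h1 : ((tr ρ' K b : ↥B) : Additive W) = tr ρ K (b : Additive W) := by
      rw [tr_eq_sum, tr_eq_sum]
      have e1 : (∑ n : ↥K, ρ' (n : Γ)) b = ∑ n : ↥K, ρ' (n : Γ) b :=
        map_sum (AddMonoidHom.eval b) _ _
      have e2 : (∑ n : ↥K, ρ (n : Γ)) (b : Additive W) = ∑ n : ↥K, ρ (n : Γ) (b : Additive W) :=
        map_sum (AddMonoidHom.eval (b : Additive W)) _ _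
      have e3 : ((∑ n : ↥K, ρ' (n : Γ) b : ↥B) : Additive W)
          = ∑ n : ↥K, ((ρ' (n : Γ) b : ↥B) : Additive W) := map_sum B.subtype _ _
      rw [e1, e2, e3]
      rfl
    rw [h1]
    exact (hBmem _).mp b.2
  have hA' : ∀ b : ↥B, ℓ • b = 0 := fun b => Subtype.ext (hA (b : Additive W))
  have hF' : ∀ a b : ↥B, (∀ r ∈ R, ρ' r a = a) → (∀ r ∈ R, ρ' r b = b) → a ≠ 0 →
      ∃ m : ℤ, b = m • a := by
    intro a b ha hb ha0
    obtain ⟨m, hm⟩ := hF (a : Additive W).toMul (b : Additive W).toMul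
      (fun r hr => congrArg (fun x : ↥B => (x : Additive W).toMul) (ha r hr))
      (fun r hr => congrArg (fun x : ↥B => (x : Additive W).toMul) (hb r hr))
      (fun h => ha0 (Subtype.ext h))
    exact ⟨m, Subtype.ext (congrArg Additive.ofMul hm)⟩
  have hcomm := main_comm ρ' hA' hℓΓ K R hKn hKnil hfpf hTK' hF' k₁ hk₁ k₂ hk₂
  have hc' : ρ' ⁅k₁, k₂⁆ = 1 := by
    rw [commutatorElement_def, map_mul, map_mul, map_mul, hcomm, ← map_mul, ← map_mul,
      ← map_mul]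
    simp
  have hcK : ⁅k₁, k₂⁆ ∈ K := by
    rw [commutatorElement_def]
    exact K.mul_mem (K.mul_mem (K.mul_mem hk₁ hk₂) (K.inv_mem hk₁)) (K.inv_mem hk₂)
  have hcopK : (Nat.card K).Coprime ℓ :=
    Nat.Coprime.coprime_dvd_left (Subgroup.card_subgroup_dvd_card K) hℓΓ
  have key : ∀ a : Additive W, ρ ⁅k₁, k₂⁆ a = a := by
    intro a
    have h1 : ρ ⁅k₁, k₂⁆ ((Nat.card K) • a) = (Nat.card K) • a := by
      have hsplit : (Nat.card K) • a = tr ρ K a + ((Nat.card K) • a - tr ρ K a) := by abel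
      have hmem : (Nat.card K) • a - tr ρ K a ∈ B := by
        rw [hBmem, map_sub, map_nsmul]
        have := congrArg (fun φ : AddMonoid.End (Additive W) => φ a) (tr_mul_tr ρ K)
        change tr ρ K (tr ρ K a) = (Nat.card K) • tr ρ K a at this
        rw [this, sub_self]
      have hfix1 : ρ ⁅k₁, k₂⁆ (tr ρ K a) = tr ρ K a :=
        congrArg (fun φ : AddMonoid.End (Additive W) => φ a) (mul_tr ρ K _ hcK)
      have hfix2 : ρ ⁅k₁, k₂⁆ ((Nat.card K) • a - tr ρ K a) = (Nat.card K) • a - tr ρ K a := by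
        have := congrArg (fun φ : AddMonoid.End ↥B => ((φ ⟨_, hmem⟩ : ↥B) : Additive W)) hc'
        exact this
      rw [hsplit, map_add, hfix1, hfix2]
    rw [eq_zsmul_nsmul hcopK hA (ρ ⁅k₁, k₂⁆ a), ← map_nsmul, h1, ← eq_zsmul_nsmul hcopK hA a]
  exact congrArg Additive.toMul (key (Additive.ofMul v))

/-- The conjugation action of a subgroup on a subgroup it normalises. -/
def conjAut {X : Type*} [Group X] (G V : Subgroup X)
    (h : G ≤ Subgroup.normalizer (V : Set X)) : ↥G →* MulAut ↥V where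
  toFun g :=
    { toFun := fun v => ⟨(g : X) * v * (g : X)⁻¹,
        (Subgroup.mem_normalizer_iff.mp (h g.2) v).mp v.2⟩
      invFun := fun v => ⟨(g : X)⁻¹ * v * (g : X),
        (Subgroup.mem_normalizer_iff.mp (h g.2) _).mpr (by simpa [mul_assoc] using v.2)⟩
      left_inv := fun v => Subtype.ext (by simp [mul_assoc])
      right_inv := fun v => Subtype.ext (by simp [mul_assoc])
      map_mul' := fun v w => Subtype.ext (by simp [mul_assoc]) }
  map_one' := by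
    ext v
    simp
  map_mul' := fun g g' => by
    ext v
    simp [mul_assoc]

theorem conjAut_coe {X : Type*} [Group X] (G V : Subgroup X)
    (h : G ≤ Subgroup.normalizer (V : Set X)) (g : ↥G) (v : ↥V) :
    ((conjAut G V h g v : ↥V) : X) = (g : X) * v * (g : X)⁻¹ := rfl

end bridge

/-- Let G and V be subgroups of a finite group with G a Frobenius group with complement R of prime order and kernel K, G normalizing V, and V an elementary abelian ℓ-group for a prime ℓ not dividing the order of G. If C_V(R) has order ℓ, then the derived subgroup of K centralizes V. -/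
theorem result {X : Type*} [Group X] [Finite X] (G : Subgroup X) (V : Subgroup X) {ℓ : ℕ} (hℓ : ℓ.Prime) (hV : Cfsg.IsElementaryAbelian ℓ V) (hℓG : ¬ ℓ ∣ Nat.card G) (hGV : G ≤ Subgroup.normalizer (V : Set X)) (R : Subgroup ↥G) (hR : Cfsg.IsFrobeniusComplement R) (hRp : (Nat.card R).Prime) (hCV : Nat.card ↥(V ⊓ Subgroup.centralizer ((R.map G.subtype : Subgroup X) : Set X)) = ℓ) : ⁅Subgroup.closure (Subtype.val '' Cfsg.frobeniusKernel R), Subgroup.closure (Subtype.val '' Cfsg.frobeniusKernel R)⁆ ≤ Subgroup.centralizer (V : Set X) := by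
  obtain ⟨N, hN, hNn, hNnil⟩ := Cfsg.Agent.S0042.result R hR
  have hK : Subgroup.closure (Subtype.val '' Cfsg.frobeniusKernel R) = N.map G.subtype := by
    rw [← hN]
    have h1 : (Subtype.val '' (N : Set ↥G)) = ((N.map G.subtype : Subgroup X) : Set X) := by
      ext x
      simp
    rw [h1, Subgroup.closure_eq]
  rw [hK, ← Subgroup.map_commutator]
  have hNR : N ⊓ R = ⊥ := by
    rw [eq_bot_iff]
    intro x hx
    obtain ⟨hxN, hxR⟩ := Subgroup.mem_inf.mp hx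
    have hx' : x ∈ Cfsg.frobeniusKernel R := by
      rw [← hN]
      exact hxN
    rcases hx' with h | h
    · exact Subgroup.mem_bot.mpr h
    · exact absurd (by simpa using hxR) (h 1)
  have hfpf := Lib.helper1.ti_fpf R N hR.2.2 hNR
  let _ : CommGroup ↥V :=
    { (inferInstance : Group ↥V) with mul_comm := fun a b => hV.1.is_comm.comm a b }
  let σ : ↥G →* MulAut ↥V := conjAut G V hGV
  haveI : Fact ℓ.Prime := ⟨hℓ⟩
  have hF : ∀ a b : ↥V, (∀ r ∈ R, σ r a = a) → (∀ r ∈ R, σ r b = b) → a ≠ 1 →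
      ∃ m : ℤ, b = a ^ m := by
    intro a b ha hb ha1
    have hmemF : ∀ c : ↥V, (∀ r ∈ R, σ r c = c) →
        (c : X) ∈ V ⊓ Subgroup.centralizer ((R.map G.subtype : Subgroup X) : Set X) := by
      intro c hc
      refine Subgroup.mem_inf.mpr ⟨c.2, Subgroup.mem_centralizer_iff.mpr ?_⟩
      rintro _ ⟨r, hr, rfl⟩
      have h1 := congrArg Subtype.val (hc r hr)
      rw [conjAut_coe] at h1
      have h2 := congrArg (fun t => t * (r : X)) h1
      simpa [mul_assoc] using h2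
    have htop := zpowers_eq_top_of_prime_card hCV (g := ⟨(a : X), hmemF a ha⟩)
      (fun h => ha1 (Subtype.ext (show (a : X) = 1 from
        congrArg (fun t : ↥(V ⊓ Subgroup.centralizer
          ((R.map G.subtype : Subgroup X) : Set X)) => (t : X)) h)))
    have hbmem : (⟨(b : X), hmemF b hb⟩ :
        ↥(V ⊓ Subgroup.centralizer ((R.map G.subtype : Subgroup X) : Set X))) ∈
        Subgroup.zpowers (⟨(a : X), hmemF a ha⟩ :
          ↥(V ⊓ Subgroup.centralizer ((R.map G.subtype : Subgroup X) : Set X))) := by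
      rw [htop]
      exact Subgroup.mem_top _
    obtain ⟨m, hm⟩ := Subgroup.mem_zpowers_iff.mp hbmem
    refine ⟨m, Subtype.ext ?_⟩
    have h5 := congrArg (fun t : ↥(V ⊓ Subgroup.centralizer
          ((R.map G.subtype : Subgroup X) : Set X)) => (t : X)) hm
    simp only [Subgroup.coe_zpow] at h5
    rw [Subgroup.coe_zpow]
    exact h5.symm
  have hcop : (Nat.card ↥G).Coprime ℓ := ((Nat.Prime.coprime_iff_not_dvd hℓ).mpr hℓG).symm
  have hmain := comm_trivial σ (ℓ := ℓ) (fun v => Subtype.ext (by simpa using hV.2 v v.2)) hcop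
    N R hNn hNnil hfpf hF
  have hle : ⁅N, N⁆ ≤ σ.ker := by
    rw [Subgroup.commutator_le]
    intro k₁ hk₁ k₂ hk₂
    rw [MonoidHom.mem_ker]
    ext v
    exact congrArg Subtype.val (hmain k₁ hk₁ k₂ hk₂ v)
  rintro _ ⟨c, hc, rfl⟩
  refine Subgroup.mem_centralizer_iff.mpr (fun v hv => ?_)
  have h1 : σ c = 1 := MonoidHom.mem_ker.mp (hle hc)
  have h2 := congrArg (fun τ : MulAut ↥V => ((τ ⟨v, hv⟩ : ↥V) : X)) h1
  have h3 : (c : X) * v * (c : X)⁻¹ = v := h2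
  have h4 := congrArg (fun t => t * (c : X)) h3
  simpa [mul_assoc] using h4.symm

end Cfsg.Agent.S3770
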