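import Cfsg.Statements.S3771
import Cfsg.Agent.Lib.helper66.PGroupAction

set_option autoImplicit false
open Cfsg

namespace Cfsg.Agent.S3771

theorem comm_inf_centralizer {R : Type*} [Group R] (H : Subgroup R) :
    IsMulCommutative ↥(H ⊓ Subgroup.centralizer (H : Set R)) := by
  refine ⟨⟨fun a b => ?_⟩⟩
  have ha := (Subgroup.mem_inf.mp a.2).1
  have hb := (Subgroup.mem_inf.mp b.2).2
  apply Subtype.ext
  exact (hb a ha)

theorem card_le_of_center_large {R : Type*} [Group R] [Finite R] {p : ℕ}
    (hrank : Cfsg.PRankLE p 2 R) (hexp : ∀ x : R, x ^ p = 1) (C : Subgroup R)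
    (hZ : p ^ 2 ≤ Nat.card ↥(C ⊓ Subgroup.centralizer (C : Set R))) : Nat.card C ≤ p ^ 2 := by
  have hCc : C ≤ Subgroup.centralizer (C : Set R) := by
    by_contra h
    obtain ⟨y, hyC, hyn⟩ := SetLike.not_le_iff_exists.mp h
    set D := C ⊓ Subgroup.centralizer ({y} : Set R) with hD
    set B := D ⊓ Subgroup.centralizer (D : Set R) with hB
    have hle : C ⊓ Subgroup.centralizer (C : Set R) ≤ B := by
      intro z hz
      obtain ⟨hz1, hz2⟩ := Subgroup.mem_inf.mp hz
      refine Subgroup.mem_inf.mpr ⟨Subgroup.mem_inf.mpr ⟨hz1, ?_⟩, ?_⟩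
      · rw [Subgroup.mem_centralizer_iff]
        intro h hh
        rw [Set.mem_singleton_iff] at hh
        subst hh
        exact hz2 h hyC
      · rw [Subgroup.mem_centralizer_iff]
        intro d hd
        exact hz2 d (Subgroup.mem_inf.mp hd).1
    have hyB : y ∈ B := by
      refine Subgroup.mem_inf.mpr ⟨Subgroup.mem_inf.mpr ⟨hyC, ?_⟩, ?_⟩
      · rw [Subgroup.mem_centralizer_iff]
        intro h hh
        rw [Set.mem_singleton_iff] at hh
        subst hh
        rfl
      · rw [Subgroup.mem_centralizer_iff]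
        intro d hd
        have h1 := (Subgroup.mem_inf.mp hd).2
        rw [Subgroup.mem_centralizer_iff] at h1
        exact (h1 y rfl).symm
    have hlt : C ⊓ Subgroup.centralizer (C : Set R) < B := by
      refine lt_of_le_of_ne hle ?_
      intro heq
      rw [← heq] at hyB
      exact hyn (Subgroup.mem_inf.mp hyB).2
    have h1 := Cfsg.Agent.Lib.helper66.card_lt_card_of_lt' hlt.le hlt.ne
    have h2 := hrank B (comm_inf_centralizer D) (fun a _ => hexp a)
    omega
  have heq : C ⊓ Subgroup.centralizer (C : Set R) = C := inf_eq_left.mpr hCc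
  have h2 := hrank _ (comm_inf_centralizer C) (fun a _ => hexp a)
  rw [heq] at h2
  exact h2

/-- Let p be a prime and R a finite p-group of p-rank at most 2 (no elementary abelian subgroup of order p³) in which every element has order dividing p. Then R has order at most p³. -/
theorem result {R : Type*} [Group R] [Finite R] {p : ℕ} [Fact p.Prime] (hR : IsPGroup p R) (hrank : Cfsg.PRankLE p 2 R) (hexp : ∀ x : R, x ^ p = 1) : Nat.card R ≤ p ^ 3 := by
  classical
  have hp : p.Prime := Fact.out
  have hp2 : 2 ≤ p := hp.two_le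
  by_contra hlt
  push Not at hlt
  have htop : ((⊤ : Subgroup R) ⊓ Subgroup.centralizer (((⊤ : Subgroup R) : Subgroup R) : Set R)) =
      Subgroup.center R := by
    rw [top_inf_eq, Subgroup.coe_top, Subgroup.centralizer_univ]
  have hcardtop : Nat.card (⊤ : Subgroup R) = Nat.card R := Subgroup.card_top
  have hpow : p ^ 2 < p ^ 3 := Nat.pow_lt_pow_right hp.one_lt (by norm_num)
  have hZlt : Nat.card (Subgroup.center R) < p ^ 2 := by
    by_contra h
    push Not at h
    have h1 := card_le_of_center_large hrank hexp (⊤ : Subgroup R) (by rw [htop]; exact h)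
    rw [hcardtop] at h1
    omega
  have hRnt : Nontrivial R := by
    rw [← Finite.one_lt_card_iff_nontrivial]
    have : 1 ≤ p ^ 3 := Nat.one_le_pow _ _ hp.pos
    omega
  have hZbot : ⊥ < Subgroup.center R := hR.bot_lt_center
  obtain ⟨k, hk⟩ := (IsPGroup.iff_card (p := p)).mp (hR.to_subgroup (Subgroup.center R))
  have hk1 : 1 ≤ k := by
    by_contra h
    have hk0 : k = 0 := by omega
    rw [hk0, pow_zero] at hk
    have := (Subgroup.card_eq_one).mp hk
    exact (ne_of_gt hZbot) this
  have hk2 : k < 2 := by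
    rw [hk] at hZlt
    exact (Nat.pow_lt_pow_iff_right hp.one_lt).mp hZlt
  have hk' : k = 1 := by omega
  rw [hk', pow_one] at hk
  -- the quotient by the center is nontrivial
  have hidx : Nat.card (Subgroup.center R) * (Subgroup.center R).index = Nat.card R :=
    Subgroup.card_mul_index _
  have hQnt : Nontrivial (R ⧸ Subgroup.center R) := by
    rw [← Finite.one_lt_card_iff_nontrivial, ← Subgroup.index_eq_card]
    by_contra h
    push Not at h
    have h1 : Nat.card (Subgroup.center R) * (Subgroup.center R).index ≤ p * 1 := by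
      rw [hk]; exact Nat.mul_le_mul_left _ h
    have h3 : p ≤ p ^ 3 := by
      calc p = p ^ 1 := (pow_one p).symm
        _ ≤ p ^ 3 := Nat.pow_le_pow_right hp.pos (by norm_num)
    omega
  have hQp : IsPGroup p (R ⧸ Subgroup.center R) := hR.to_quotient _
  have hcQ : ⊥ < Subgroup.center (R ⧸ Subgroup.center R) := hQp.bot_lt_center
  obtain ⟨zbar, hzbar, hzbar1⟩ := SetLike.exists_of_lt hcQ
  obtain ⟨x, rfl⟩ := QuotientGroup.mk_surjective zbar
  have hxZ : x ∉ Subgroup.center R := by
    intro h
    apply hzbar1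
    rw [Subgroup.mem_bot]
    exact (QuotientGroup.eq_one_iff x).mpr h
  have hcomm : ∀ g : R, g * x * g⁻¹ * x⁻¹ ∈ Subgroup.center R := by
    intro g
    rw [← QuotientGroup.eq_one_iff]
    have h1 := (Subgroup.mem_center_iff.mp hzbar) (QuotientGroup.mk g)
    rw [QuotientGroup.mk_mul, QuotientGroup.mk_mul, QuotientGroup.mk_mul, QuotientGroup.mk_inv,
      QuotientGroup.mk_inv, h1]
    group
  -- the commutator homomorphism
  let f : R →* R :=
    { toFun := fun g => g * x * g⁻¹ * x⁻¹
      map_one' := by group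
      map_mul' := by
        intro g h
        have h1 := Subgroup.mem_center_iff.mp (hcomm h) g
        have h2 := Subgroup.mem_center_iff.mp (hcomm g) (h * x * h⁻¹ * x⁻¹)
        calc g * h * x * (g * h)⁻¹ * x⁻¹ = (g * (h * x * h⁻¹ * x⁻¹)) * x * g⁻¹ * x⁻¹ := by group
          _ = ((h * x * h⁻¹ * x⁻¹) * g) * x * g⁻¹ * x⁻¹ := by rw [h1]
          _ = (h * x * h⁻¹ * x⁻¹) * (g * x * g⁻¹ * x⁻¹) := by group
          _ = g * x * g⁻¹ * x⁻¹ * (h * x * h⁻¹ * x⁻¹) := h2 }
  have hfker : f.ker = Subgroup.centralizer ({x} : Set R) := by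
    ext g
    rw [MonoidHom.mem_ker, Subgroup.mem_centralizer_iff]
    constructor
    · intro hg h hh
      rw [Set.mem_singleton_iff] at hh
      subst hh
      have hg' : g * h * g⁻¹ * h⁻¹ = 1 := hg
      have e : h * g = (g * h * g⁻¹ * h⁻¹)⁻¹ * (g * h) := by group
      rw [e, hg']; group
    · intro hg
      have h1 := hg x rfl
      show g * x * g⁻¹ * x⁻¹ = 1
      rw [← h1]; group
  have hfrange : f.range ≤ Subgroup.center R := by
    rintro _ ⟨g, rfl⟩
    exact hcomm g
  set C := Subgroup.centralizer ({x} : Set R) with hC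
  have hCidx : C.index ≤ p := by
    rw [← hfker, Subgroup.index_ker, ← hk]
    exact Subgroup.card_le_of_le hfrange
  have hCcard : Nat.card C * C.index = Nat.card R := Subgroup.card_mul_index _
  have hCgt : p ^ 2 < Nat.card C := by
    by_contra h
    push Not at h
    have h1 : Nat.card C * C.index ≤ p ^ 2 * p := Nat.mul_le_mul h hCidx
    have h2 : p ^ 2 * p = p ^ 3 := by ring
    omega
  -- the center of C is large
  have hZC : Subgroup.center R < C ⊓ Subgroup.centralizer (C : Set R) := by
    have hxC : x ∈ C := by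
      rw [hC, Subgroup.mem_centralizer_iff]
      intro h hh
      rw [Set.mem_singleton_iff] at hh
      subst hh
      rfl
    have hxCC : x ∈ Subgroup.centralizer (C : Set R) := by
      rw [Subgroup.mem_centralizer_iff]
      intro d hd
      rw [SetLike.mem_coe, hC, Subgroup.mem_centralizer_iff] at hd
      exact (hd x rfl).symm
    refine lt_of_le_of_ne ?_ ?_
    · intro z hz
      refine Subgroup.mem_inf.mpr ⟨?_, ?_⟩
      · exact Subgroup.center_le_centralizer _ hz
      · exact Subgroup.center_le_centralizer _ hz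
    · intro heq
      apply hxZ
      rw [heq]
      exact Subgroup.mem_inf.mpr ⟨hxC, hxCC⟩
  have h1 := Cfsg.Agent.Lib.helper66.card_lt_card_of_lt' hZC.le hZC.ne
  rw [hk] at h1
  obtain ⟨m, hm⟩ := (IsPGroup.iff_card (p := p)).mp
    (hR.to_subgroup (C ⊓ Subgroup.centralizer (C : Set R)))
  have hm2 : 2 ≤ m := by
    by_contra h
    have hm1 : m ≤ 1 := by omega
    have : p ^ m ≤ p ^ 1 := Nat.pow_le_pow_right hp.pos hm1
    rw [pow_one] at this
    omega
  have h2 : p ^ 2 ≤ Nat.card ↥(C ⊓ Subgroup.centralizer (C : Set R)) := by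
    rw [hm]; exact Nat.pow_le_pow_right hp.pos hm2
  have h3 := card_le_of_center_large hrank hexp C h2
  omega

end Cfsg.Agent.S3771
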