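import Cfsg.Statements.S3772
import Cfsg.Agent.Lib.helper3.PGroupFrattini
import Cfsg.Agent.Lib.helper3.PGroupNormal

set_option autoImplicit false
open Cfsg

namespace Cfsg.Agent.S3772

open scoped commutatorElement

/-- The sign `±1` attached to an element: `1` for the identity, `-1` otherwise. -/
noncomputable def sgn {G : Type*} [Group G] (w : G) : ℤ := by
  classical exact if w = 1 then 1 else -1

theorem sgn_one {G : Type*} [Group G] : sgn (1 : G) = 1 := by simp [sgn]

theorem sgn_of_ne {G : Type*} [Group G] {w : G} (h : w ≠ 1) : sgn w = -1 := by simp [sgn, h]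

theorem sgn_mul_self {G : Type*} [Group G] (w : G) : sgn w * sgn w = 1 := by
  by_cases h : w = 1
  · subst h; simp [sgn_one]
  · simp [sgn_of_ne h]

theorem sgn_mul {G : Type*} [Group G] {z a b : G} (hz : z * z = 1) (hz1 : z ≠ 1)
    (ha : a = 1 ∨ a = z) (hb : b = 1 ∨ b = z) : sgn (a * b) = sgn a * sgn b := by
  rcases ha with rfl | rfl <;> rcases hb with rfl | rfl
  · simp [sgn_one]
  · simp [sgn_one]
  · simp [sgn_one]
  · rw [hz, sgn_one, sgn_of_ne hz1]; norm_num

theorem mul_mem_pair {G : Type*} [Group G] {z a b : G} (hz : z * z = 1)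
    (ha : a = 1 ∨ a = z) (hb : b = 1 ∨ b = z) : a * b = 1 ∨ a * b = z := by
  rcases ha with rfl | rfl <;> rcases hb with rfl | rfl
  · left; simp
  · right; simp
  · right; simp
  · left; exact hz

/-- The sign of the square on the centre, `0` off the centre. -/
noncomputable def csgn {G : Type*} [Group G] (u : G) : ℤ := by
  classical exact if u ∈ Subgroup.center G then sgn (u ^ 2) else 0

theorem csgn_of_mem {G : Type*} [Group G] {u : G} (h : u ∈ Subgroup.center G) :
    csgn u = sgn (u ^ 2) := by simp [csgn, h]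

theorem csgn_of_not_mem {G : Type*} [Group G] {u : G} (h : u ∉ Subgroup.center G) :
    csgn u = 0 := by simp [csgn, h]

/-- The Gauss-sum identity. -/
theorem gauss_sum {G : Type*} [Group G] [Fintype G] (z : G) (hz1 : z ≠ 1) (hzz : z * z = 1)
    (hzc : ∀ g : G, g * z = z * g) (hsq : ∀ x : G, x ^ 2 = 1 ∨ x ^ 2 = z)
    (hcomm : ∀ x y : G, ⁅x, y⁆ = 1 ∨ ⁅x, y⁆ = z) :
    (∑ x : G, sgn (x ^ 2)) ^ 2 = (Fintype.card G : ℤ) * ∑ u : G, csgn u := by
  classical
  have hcen : ∀ c : G, (c = 1 ∨ c = z) → ∀ g : G, g * c = c * g := by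
    rintro c (rfl | rfl) g
    · simp
    · exact hzc g
  have key1 : ∀ x u : G, sgn ((x * u) ^ 2) = sgn ⁅u, x⁆ * sgn (x ^ 2) * sgn (u ^ 2) := by
    intro x u
    have hc := hcomm u x
    have hcx := hcen _ hc x
    have e1 : u * x = ⁅u, x⁆ * x * u := by rw [commutatorElement_def]; group
    have e2 : (x * u) ^ 2 = ⁅u, x⁆ * (x ^ 2 * u ^ 2) := by
      calc (x * u) ^ 2 = x * (u * x) * u := by rw [pow_two]; group
        _ = x * (⁅u, x⁆ * x * u) * u := by rw [e1]
        _ = (x * ⁅u, x⁆) * x * u * u := by simp only [mul_assoc]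
        _ = (⁅u, x⁆ * x) * x * u * u := by rw [hcx]
        _ = ⁅u, x⁆ * (x ^ 2 * u ^ 2) := by rw [pow_two, pow_two]; simp only [mul_assoc]
    rw [e2, sgn_mul hzz hz1 hc (mul_mem_pair hzz (hsq x) (hsq u)),
      sgn_mul hzz hz1 (hsq x) (hsq u), mul_assoc]
  have key2 : ∀ u : G, ∑ x : G, sgn ⁅u, x⁆ =
      if u ∈ Subgroup.center G then (Fintype.card G : ℤ) else 0 := by
    intro u
    by_cases hu : u ∈ Subgroup.center G
    · rw [if_pos hu]
      have h1 : ∀ x : G, sgn ⁅u, x⁆ = 1 := by
        intro x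
        have h2 := (Subgroup.mem_center_iff.mp hu) x
        have h3 : ⁅u, x⁆ = 1 := by
          rw [commutatorElement_def]
          calc u * x * u⁻¹ * x⁻¹ = (x * u) * u⁻¹ * x⁻¹ := by rw [h2]
            _ = 1 := by group
        rw [h3, sgn_one]
      simp [h1]
    · rw [if_neg hu]
      have hx₀ : ∃ x₀ : G, ⁅u, x₀⁆ ≠ 1 := by
        by_contra hall
        push Not at hall
        apply hu
        rw [Subgroup.mem_center_iff]
        intro g
        have h2 := hall g
        rw [commutatorElement_def] at h2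
        calc g * u = (u * g * u⁻¹ * g⁻¹)⁻¹ * (u * g) := by group
          _ = u * g := by rw [h2]; group
      obtain ⟨x₀, hx₀⟩ := hx₀
      have hx₀z : ⁅u, x₀⁆ = z := (hcomm u x₀).resolve_left hx₀
      have h3 : ∀ x : G, sgn ⁅u, x * x₀⁆ = - sgn ⁅u, x⁆ := by
        intro x
        have e : ⁅u, x * x₀⁆ = ⁅u, x⁆ * ⁅u, x₀⁆ := by
          have hc2 := hcen _ (hcomm u x₀) x
          calc ⁅u, x * x₀⁆ = ⁅u, x⁆ * (x * ⁅u, x₀⁆) * x⁻¹ := by
                simp only [commutatorElement_def]; group
            _ = ⁅u, x⁆ * (⁅u, x₀⁆ * x) * x⁻¹ := by rw [hc2]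
            _ = ⁅u, x⁆ * ⁅u, x₀⁆ := by group
        rw [e, sgn_mul hzz hz1 (hcomm u x) (hcomm u x₀), hx₀z, sgn_of_ne hz1]
        ring
      have h4 : ∑ x : G, sgn ⁅u, x⁆ = ∑ x : G, sgn ⁅u, x * x₀⁆ :=
        (Equiv.sum_comp (Equiv.mulRight x₀) (fun y => sgn ⁅u, y⁆)).symm
      have h5 : ∑ x : G, sgn ⁅u, x * x₀⁆ = - ∑ x : G, sgn ⁅u, x⁆ := by
        rw [← Finset.sum_neg_distrib]
        exact Finset.sum_congr rfl (fun x _ => h3 x)
      rw [h5] at h4
      omega
  calc (∑ x : G, sgn (x ^ 2)) ^ 2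
      = ∑ x : G, ∑ y : G, sgn (x ^ 2) * sgn (y ^ 2) := by
        rw [pow_two, Finset.sum_mul_sum]
    _ = ∑ x : G, ∑ u : G, sgn (x ^ 2) * sgn ((x * u) ^ 2) := by
        apply Finset.sum_congr rfl
        intro x _
        exact (Equiv.sum_comp (Equiv.mulLeft x) (fun y => sgn (x ^ 2) * sgn (y ^ 2))).symm
    _ = ∑ x : G, ∑ u : G, sgn ⁅u, x⁆ * sgn (u ^ 2) := by
        apply Finset.sum_congr rfl
        intro x _
        apply Finset.sum_congr rfl
        intro u _
        rw [key1]
        have h := sgn_mul_self (x ^ 2)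
        calc sgn (x ^ 2) * (sgn ⁅u, x⁆ * sgn (x ^ 2) * sgn (u ^ 2))
            = sgn ⁅u, x⁆ * sgn (u ^ 2) * (sgn (x ^ 2) * sgn (x ^ 2)) := by ring
          _ = sgn ⁅u, x⁆ * sgn (u ^ 2) := by rw [h, mul_one]
    _ = ∑ u : G, ∑ x : G, sgn ⁅u, x⁆ * sgn (u ^ 2) := Finset.sum_comm
    _ = ∑ u : G, (if u ∈ Subgroup.center G then (Fintype.card G : ℤ) else 0) * sgn (u ^ 2) := by
        apply Finset.sum_congr rfl
        intro u _
        rw [← Finset.sum_mul, key2]
    _ = (Fintype.card G : ℤ) * ∑ u : G, csgn u := by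
        rw [Finset.mul_sum]
        apply Finset.sum_congr rfl
        intro u _
        by_cases hu : u ∈ Subgroup.center G
        · rw [if_pos hu, csgn_of_mem hu]
        · rw [if_neg hu, csgn_of_not_mem hu]; simp

/-- The sum over the centre is `|Z(G)|` or `0`. -/
theorem center_sum {G : Type*} [Group G] [Fintype G] (z : G) (hz1 : z ≠ 1) (hzz : z * z = 1)
    (hsq : ∀ x : G, x ^ 2 = 1 ∨ x ^ 2 = z) :
    (∑ u : G, csgn u = 0) ∨
    ((∀ u ∈ Subgroup.center G, u ^ 2 = 1) ∧
      ∑ u : G, csgn u = (Nat.card (Subgroup.center G) : ℤ)) := by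
  classical
  by_cases hall : ∀ u ∈ Subgroup.center G, u ^ 2 = 1
  · right
    refine ⟨hall, ?_⟩
    have h1 : ∀ u : G, csgn u = (if u ∈ Subgroup.center G then (1 : ℤ) else 0) := by
      intro u
      split_ifs with h
      · rw [csgn_of_mem h, hall u h, sgn_one]
      · exact csgn_of_not_mem h
    rw [Finset.sum_congr rfl (fun u _ => h1 u), Finset.sum_boole, Nat.card_eq_fintype_card,
      Fintype.card_subtype]
  · left
    push Not at hall
    obtain ⟨u₀, hu₀, hu₀sq⟩ := hall
    have hu₀z : u₀ ^ 2 = z := (hsq u₀).resolve_left hu₀sq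
    have h3 : ∀ u : G, csgn (u * u₀) = - csgn u := by
      intro u
      have hiff : u * u₀ ∈ Subgroup.center G ↔ u ∈ Subgroup.center G := by
        constructor
        · intro h
          have := (Subgroup.center G).mul_mem h ((Subgroup.center G).inv_mem hu₀)
          simpa using this
        · intro h
          exact (Subgroup.center G).mul_mem h hu₀
      by_cases hu : u ∈ Subgroup.center G
      · rw [csgn_of_mem (hiff.mpr hu), csgn_of_mem hu]
        have hc := (Subgroup.mem_center_iff.mp hu₀) u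
        have e : (u * u₀) ^ 2 = u ^ 2 * u₀ ^ 2 := by
          calc (u * u₀) ^ 2 = u * (u₀ * u) * u₀ := by rw [pow_two]; group
            _ = u * (u * u₀) * u₀ := by rw [hc]
            _ = u ^ 2 * u₀ ^ 2 := by rw [pow_two, pow_two]; group
        rw [e, sgn_mul hzz hz1 (hsq u) (hsq u₀), hu₀z, sgn_of_ne hz1]
        ring
      · rw [csgn_of_not_mem (fun h => hu (hiff.mp h)), csgn_of_not_mem hu]
        simp
    have h4 : ∑ u : G, csgn u = ∑ u : G, csgn (u * u₀) :=
      (Equiv.sum_comp (Equiv.mulRight u₀) (fun y => csgn y)).symm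
    have h5 : ∑ u : G, csgn (u * u₀) = - ∑ u : G, csgn u := by
      rw [← Finset.sum_neg_distrib]
      exact Finset.sum_congr rfl (fun u _ => h3 u)
    rw [h5] at h4
    omega

/-- The sum of signs of squares in terms of the number of solutions of `x ^ 2 = 1`. -/
theorem sum_sgn_sq {G : Type*} [Group G] [Fintype G] :
    ∑ x : G, sgn (x ^ 2) = 2 * (Nat.card {x : G // x ^ 2 = 1} : ℤ) - (Fintype.card G : ℤ) := by
  classical
  have h1 : ∀ x : G, sgn (x ^ 2) = 2 * (if x ^ 2 = 1 then (1 : ℤ) else 0) - 1 := by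
    intro x
    split_ifs with h
    · rw [h, sgn_one]; norm_num
    · rw [sgn_of_ne h]; norm_num
  rw [Finset.sum_congr rfl (fun x _ => h1 x), Finset.sum_sub_distrib, ← Finset.mul_sum,
    Finset.sum_boole, Nat.card_eq_fintype_card, Fintype.card_subtype]
  simp

theorem arith_core (j d e : ℕ)
    (h : (2 * (j : ℤ) - 2 ^ (d + 1)) ^ 2 = 2 ^ (d + 1) * 2 ^ e) :
    ∃ b : ℕ, 2 * b + 2 = d + 1 + e ∧ (j = 2 ^ d + 2 ^ b ∨ j + 2 ^ b = 2 ^ d) := by
  set t := Int.natAbs (2 * (j : ℤ) - 2 ^ (d + 1)) with ht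
  have h1 : t ^ 2 = 2 ^ (d + 1 + e) := by
    have h0 : ((t ^ 2 : ℕ) : ℤ) = ((2 ^ (d + 1 + e) : ℕ) : ℤ) := by
      push_cast
      rw [ht, Int.natCast_natAbs, sq_abs, h]
      ring
    exact_mod_cast h0
  have h2 : t ∣ 2 ^ (d + 1 + e) := ⟨t, by rw [← h1, pow_two]⟩
  obtain ⟨a, ha, hta⟩ := (Nat.dvd_prime_pow Nat.prime_two).mp h2
  have h3 : 2 * a = d + 1 + e := by
    rw [hta, ← pow_mul] at h1
    have := Nat.pow_right_injective (le_refl 2) h1
    omega
  obtain ⟨b, rfl⟩ : ∃ b, a = b + 1 := ⟨a - 1, by omega⟩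
  refine ⟨b, by omega, ?_⟩
  have h4 := Int.natAbs_eq (2 * (j : ℤ) - 2 ^ (d + 1))
  rw [← ht, hta] at h4
  push_cast at h4
  have e1 : (2 : ℤ) ^ (d + 1) = 2 * 2 ^ d := by ring
  have e2 : (2 : ℤ) ^ (b + 1) = 2 * 2 ^ b := by ring
  rw [e1, e2] at h4
  rcases h4 with h4 | h4
  · left
    have h5 : (j : ℤ) = 2 ^ d + 2 ^ b := by linarith
    exact_mod_cast h5
  · right
    have h5 : (j : ℤ) + 2 ^ b = 2 ^ d := by linarith
    exact_mod_cast h5

/-- Let G be a finite 2-group whose Frattini subgroup Φ(G) has order 2, with |G : Φ(G)| = 2^d, and let j be the number of elements x of G with x² = 1. Then j = 2^d, or j = 2^d + 2^(d−r) or j = 2^d − 2^(d−r) for some positive integer r with 2r ≤ d. Moreover if d = 2r and j is 2^d + 2^r or 2^d − 2^r, then G is extraspecial. -/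
theorem result {G : Type*} [Group G] [Finite G] (hG : IsPGroup 2 G) (hΦ : Nat.card (frattini G) = 2) (d : ℕ) (hd : (frattini G).index = 2 ^ d) : (Nat.card {x : G // x ^ 2 = 1} = 2 ^ d ∨ ∃ r : ℕ, 1 ≤ r ∧ 2 * r ≤ d ∧ (Nat.card {x : G // x ^ 2 = 1} = 2 ^ d + 2 ^ (d - r) ∨ Nat.card {x : G // x ^ 2 = 1} + 2 ^ (d - r) = 2 ^ d)) ∧ (∀ r : ℕ, d = 2 * r → (Nat.card {x : G // x ^ 2 = 1} = 2 ^ d + 2 ^ r ∨ Nat.card {x : G // x ^ 2 = 1} + 2 ^ r = 2 ^ d) → Cfsg.IsExtraspecial 2 G) := by
  classical
  have hfact : Fact (Nat.Prime 2) := ⟨Nat.prime_two⟩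
  have hfin := Fintype.ofFinite G
  have hΦn : (frattini G).Normal := Subgroup.normal_of_characteristic _
  -- the nontrivial element of the Frattini subgroup
  obtain ⟨y, hy1, hyuniq⟩ := (Nat.card_eq_two_iff' (1 : ↥(frattini G))).mp hΦ
  set z : G := (y : G) with hzdef
  have hzΦ : z ∈ frattini G := y.2
  have hz1 : z ≠ 1 := fun h => hy1 (Subtype.ext h)
  have hzall : ∀ w ∈ frattini G, w = 1 ∨ w = z := by
    intro w hw
    by_cases hw1 : w = 1
    · exact Or.inl hw1
    · right
      have h1 := hyuniq ⟨w, hw⟩ (fun h => hw1 (congrArg Subtype.val h))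
      exact congrArg Subtype.val h1
  have hzz : z * z = 1 := by
    rcases hzall _ ((frattini G).mul_mem hzΦ hzΦ) with h | h
    · exact h
    · exfalso
      apply hz1
      have h2 : z * z = z * 1 := by rw [mul_one]; exact h
      exact mul_left_cancel h2
  have hzc : ∀ g : G, g * z = z * g := by
    intro g
    rcases hzall _ (hΦn.conj_mem z hzΦ g) with h | h
    · exfalso
      apply hz1
      have h2 : z = g⁻¹ * (g * z * g⁻¹) * g := by group
      rw [h2, h]; group
    · calc g * z = g * z * g⁻¹ * g := by group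
        _ = z * g := by rw [h]
  have hsq : ∀ x : G, x ^ 2 = 1 ∨ x ^ 2 = z := fun x =>
    hzall _ (Cfsg.Agent.Lib.helper3.pow_prime_mem_frattini hG x)
  have hcomm : ∀ x y : G, ⁅x, y⁆ = 1 ∨ ⁅x, y⁆ = z := fun x y =>
    hzall _ (Cfsg.Agent.Lib.helper3.commutator_le_frattini hG
      (Subgroup.commutator_mem_commutator (Subgroup.mem_top x) (Subgroup.mem_top y)))
  have hcardG : Nat.card G = 2 ^ (d + 1) := by
    rw [← Subgroup.card_mul_index (frattini G), hΦ, hd, pow_succ, Nat.mul_comm]
  have hcardG' : (Fintype.card G : ℤ) = 2 ^ (d + 1) := by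
    rw [← Nat.card_eq_fintype_card, hcardG]; push_cast; rfl
  have hS := gauss_sum z hz1 hzz hzc hsq hcomm
  rw [sum_sgn_sq, hcardG'] at hS
  set j := Nat.card {x : G // x ^ 2 = 1} with hj
  have hj1 : 1 ≤ j := by
    have : Nonempty {x : G // x ^ 2 = 1} := ⟨⟨1, one_pow 2⟩⟩
    exact Nat.card_pos
  obtain ⟨e, he⟩ := (IsPGroup.iff_card (p := 2)).mp (hG.to_subgroup (Subgroup.center G))
  have hΦZ : frattini G ≤ Subgroup.center G := by
    intro w hw
    rw [Subgroup.mem_center_iff]
    rcases hzall w hw with rfl | rfl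
    · intro g; simp
    · exact hzc
  have hnotall : ¬ (∀ x : G, x ^ 2 = 1) := by
    intro hall
    have hcb : commutator G ≤ ⊥ := by
      rw [commutator_def, Subgroup.commutator_le]
      intro x _ y _
      rw [Subgroup.mem_bot, commutatorElement_def]
      have hx := hall x
      have hy := hall y
      have hxy := hall (x * y)
      have hxi : x⁻¹ = x := by
        rw [inv_eq_iff_mul_eq_one, ← pow_two]; exact hx
      have hyi : y⁻¹ = y := by
        rw [inv_eq_iff_mul_eq_one, ← pow_two]; exact hy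
      rw [hxi, hyi]
      calc x * y * x * y = (x * y) ^ 2 := by rw [pow_two]; group
        _ = 1 := hxy
    have h1 := Cfsg.Agent.Lib.helper3.frattini_le_of_pow_mem_of_commutator_le (p := 2)
      (⊥ : Subgroup G) (fun x => by rw [hall x]; exact Subgroup.one_mem _) hcb
    have h2 : frattini G = ⊥ := le_bot_iff.mp h1
    rw [h2, Subgroup.card_bot] at hΦ
    omega
  have hcases := center_sum z hz1 hzz hsq
  constructor
  · rcases hcases with h0 | ⟨_, hZ⟩
    · left
      rw [h0, mul_zero] at hS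
      have h1 : 2 * (j : ℤ) - 2 ^ (d + 1) = 0 := by
        exact pow_eq_zero_iff (two_ne_zero) |>.mp hS
      have e1 : (2 : ℤ) ^ (d + 1) = 2 * 2 ^ d := by ring
      rw [e1] at h1
      have h2 : (j : ℤ) = 2 ^ d := by linarith
      exact_mod_cast h2
    · rw [hZ, he] at hS
      push_cast at hS
      obtain ⟨b, hb, hjb⟩ := arith_core j d e hS
      by_cases hbd : b = d
      · exfalso
        subst hbd
        rcases hjb with hjb | hjb
        · have hjG : j = Nat.card G := by rw [hcardG, pow_succ]; omega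
          apply hnotall
          have hbij : Function.Bijective (Subtype.val : {x : G // x ^ 2 = 1} → G) := by
            rw [Fintype.bijective_iff_injective_and_card]
            refine ⟨Subtype.val_injective, ?_⟩
            rw [← Nat.card_eq_fintype_card, ← Nat.card_eq_fintype_card]
            exact hjG
          intro x
          obtain ⟨w, hw⟩ := hbij.2 x
          rw [← hw]; exact w.2
        · omega
      · right
        have hcZ : Nat.card (Subgroup.center G) ≤ Nat.card G := Subgroup.card_le_card_group _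
        rw [he, hcardG] at hcZ
        have hed : e ≤ d + 1 := (Nat.pow_le_pow_iff_right (by norm_num)).mp hcZ
        have he1 : 1 ≤ e := by
          by_contra h
          have he0 : e = 0 := by omega
          have h1 := Subgroup.card_le_of_le hΦZ
          rw [hΦ, he, he0] at h1
          norm_num at h1
        refine ⟨d - b, by omega, by omega, ?_⟩
        have hdb : d - (d - b) = b := by omega
        rw [hdb]
        exact hjb
  · intro r hdr hjr
    rcases hcases with h0 | ⟨_, hZ⟩
    · exfalso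
      rw [h0, mul_zero] at hS
      have h1 : 2 * (j : ℤ) - 2 ^ (d + 1) = 0 := by
        exact pow_eq_zero_iff (two_ne_zero) |>.mp hS
      have e1 : (2 : ℤ) ^ (d + 1) = 2 * 2 ^ d := by ring
      rw [e1] at h1
      have h2 : (j : ℤ) = 2 ^ d := by linarith
      have h3 : j = 2 ^ d := by exact_mod_cast h2
      have h4 : 0 < 2 ^ r := pow_pos (by norm_num) r
      omega
    · rw [hZ, he] at hS
      push_cast at hS
      obtain ⟨b, hb, hjb⟩ := arith_core j d e hS
      have hpb : 0 < 2 ^ b := pow_pos (by norm_num) b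
      have hpr : 0 < 2 ^ r := pow_pos (by norm_num) r
      have hbr : 2 ^ b = 2 ^ r := by omega
      have hbr' : b = r := Nat.pow_right_injective (le_refl 2) hbr
      have he1 : e = 1 := by omega
      rw [he1, pow_one] at he
      have hFZ : frattini G = Subgroup.center G :=
        Subgroup.eq_of_le_of_card_ge hΦZ (by rw [he, hΦ])
      have hCΦ : commutator G ≤ frattini G := Cfsg.Agent.Lib.helper3.commutator_le_frattini hG
      have hCne : commutator G ≠ ⊥ := by
        intro hC
        have hab : ∀ x y : G, x * y = y * x := by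
          intro x y
          have h1 : ⁅x, y⁆ ∈ commutator G :=
            Subgroup.commutator_mem_commutator (Subgroup.mem_top x) (Subgroup.mem_top y)
          rw [hC, Subgroup.mem_bot, commutatorElement_def] at h1
          calc x * y = (x * y * x⁻¹ * y⁻¹) * (y * x) := by group
            _ = y * x := by rw [h1, one_mul]
        have hZtop : Subgroup.center G = ⊤ := by
          rw [eq_top_iff]
          intro x _
          rw [Subgroup.mem_center_iff]
          intro g
          exact hab g x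
        have hG2 : Nat.card G = 2 := by
          rw [← he, hZtop, Subgroup.card_top]
        apply hnotall
        intro x
        rw [← hG2]
        exact pow_card_eq_one'
      have hCcard : Nat.card (commutator G) = 2 := by
        have h1 : Nat.card (commutator G) ∣ 2 := by
          rw [← hΦ]; exact Subgroup.card_dvd_of_le hCΦ
        have h2 : Nat.card (commutator G) ≠ 1 := fun h => hCne (Subgroup.card_eq_one.mp h)
        rcases (Nat.dvd_prime Nat.prime_two).mp h1 with h | h
        · exact absurd h h2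
        · exact h
      have hCZ : commutator G = Subgroup.center G := by
        rw [← hFZ]
        exact Subgroup.eq_of_le_of_card_ge hCΦ (by rw [hCcard, hΦ])
      exact ⟨⟨hG, hFZ, hCZ⟩, he⟩

end Cfsg.Agent.S3772
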