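import Cfsg.Statements.S3773
import Mathlib
import Cfsg.Agent.Lib.helper66.QuadGroup
import Cfsg.Agent.Lib.helper3.PGroupFrattini
import Cfsg.Agent.Lib.helper3.PGroupNormal

set_option autoImplicit false
open Cfsg

namespace Cfsg.Agent.S3773

open Cfsg.Agent.Lib.helper66
open scoped commutatorElement

/-- Let G be a finite 2-group of nilpotency class at most 2 and exponent dividing 4 in which the elements x with x² = 1 form a subgroup N. Then |G| ≤ |N|³, and |G| < |N|³ unless G is special. -/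
theorem result {G : Type*} [Group G] [Finite G] (hG : IsPGroup 2 G) (hcl : (⊤ : Subgroup G).lowerCentralSeries 2 = ⊥) (hexp : ∀ x : G, x ^ 4 = 1) (hN : ∀ x y : G, x ^ 2 = 1 → y ^ 2 = 1 → (x * y) ^ 2 = 1) : Nat.card G ≤ Nat.card {x : G // x ^ 2 = 1} ^ 3 ∧ (¬ Cfsg.IsSpecial 2 G → Nat.card G < Nat.card {x : G // x ^ 2 = 1} ^ 3) := by
  classical
  haveI : Fact (Nat.Prime 2) := ⟨Nat.prime_two⟩
  -- commutators are central
  have hcent : ∀ x y : G, ⁅x, y⁆ ∈ Subgroup.center G := by
    intro x y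
    rw [Subgroup.mem_center_iff]
    intro g
    have h1 : ⁅⁅x, y⁆, g⁆ ∈ (⊤ : Subgroup G).lowerCentralSeries 2 := by
      show ⁅⁅x, y⁆, g⁆ ∈ ⁅⁅(⊤ : Subgroup G), ⊤⁆, ⊤⁆
      exact Subgroup.commutator_mem_commutator (Subgroup.commutator_mem_commutator
        (Subgroup.mem_top x) (Subgroup.mem_top y)) (Subgroup.mem_top g)
    rw [hcl, Subgroup.mem_bot, commutatorElement_eq_one_iff_commute] at h1
    exact h1.eq.symm
  -- the subgroup of involutions
  let Nsub : Subgroup G :=
    { carrier := {x | x ^ 2 = 1}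
      mul_mem' := fun {a b} ha hb => hN a b ha hb
      one_mem' := one_pow 2
      inv_mem' := fun {a} ha => by
        show (a⁻¹) ^ 2 = 1
        rw [inv_pow, show a ^ 2 = 1 from ha, inv_one] }
  have hNcard : Nat.card {x : G // x ^ 2 = 1} = Nat.card Nsub := rfl
  have hsqN : ∀ x : G, x ^ 2 ∈ Nsub := fun x => by
    show (x ^ 2) ^ 2 = 1
    rw [← pow_mul]; exact hexp x
  have hcN : ∀ x y : G, ⁅x, y⁆ ∈ Nsub := by
    intro x y
    have h1 := sq_mul_of_central (hcent x y)
    have h2 : ⁅x, y⁆ = (y * x) ^ 2 * (x ^ 2)⁻¹ * (y ^ 2)⁻¹ := by rw [h1]; group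
    rw [h2]
    exact Nsub.mul_mem (Nsub.mul_mem (hsqN _) (Nsub.inv_mem (hsqN _))) (Nsub.inv_mem (hsqN _))
  have hsqc : ∀ x : G, x ^ 2 ∈ Subgroup.center G := by
    intro x
    rw [Subgroup.mem_center_iff]
    intro g
    have h1 : ⁅x ^ 2, g⁆ = 1 := by
      rw [commutator_sq_left_of_central (hcent x g)]; exact hcN x g
    rw [commutatorElement_eq_one_iff_commute] at h1
    exact h1.eq.symm
  -- the central involutions
  set W : Subgroup G := Subgroup.center G ⊓ Nsub with hWdef
  have hWc : W ≤ Subgroup.center G := inf_le_left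
  have hWN : W ≤ Nsub := inf_le_right
  have hW2 : ∀ w ∈ W, w ^ 2 = 1 := fun w hw => hw.2
  have hsq : ∀ x : G, x ^ 2 ∈ W := fun x => ⟨hsqc x, hsqN x⟩
  have hcomm : ∀ x y : G, ⁅x, y⁆ ∈ W := fun x y => ⟨hcent x y, hcN x y⟩
  obtain ⟨V, T, iV, mV, fV, iT, mT, fT, π, τ, hm, hτs⟩ := exists_quadModel W hWc hW2 hsq hcomm
  have hVW : Nat.card V * Nat.card W = Nat.card G := hm.card_mul_card
  have hMW : Nat.card (hm.image Nsub) * Nat.card W = Nat.card Nsub := hm.card_image Nsub hWN
  have hTW : Nat.card T = Nat.card W :=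
    (Nat.card_congr (Equiv.ofBijective τ ⟨hm.tau_inj, hτs⟩)).symm
  have hWleN : Nat.card W ≤ Nat.card Nsub := Subgroup.card_le_of_le hWN
  have key1 : Nat.card V ≤ Nat.card (hm.image Nsub) * Nat.card T ^ 2 :=
    card_le_of_quadratic hm.q hm.β hm.hq hm.hβ (hm.image Nsub) (by
      intro v hv
      obtain ⟨x, rfl⟩ := hm.pi_surj v
      exact ⟨x, (hm.q_eq_zero_iff x).mp hv, rfl⟩)
  have hGle : Nat.card G ≤ Nat.card Nsub * Nat.card W ^ 2 := by
    rw [hTW] at key1
    calc Nat.card G = Nat.card V * Nat.card W := hVW.symm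
      _ ≤ Nat.card (hm.image Nsub) * Nat.card W ^ 2 * Nat.card W :=
          Nat.mul_le_mul_right _ key1
      _ = Nat.card (hm.image Nsub) * Nat.card W * Nat.card W ^ 2 := by ring
      _ = Nat.card Nsub * Nat.card W ^ 2 := by rw [hMW]
  rw [hNcard]
  refine ⟨?_, ?_⟩
  · calc Nat.card G ≤ Nat.card Nsub * Nat.card W ^ 2 := hGle
      _ ≤ Nat.card Nsub * Nat.card Nsub ^ 2 :=
          Nat.mul_le_mul_left _ (Nat.pow_le_pow_left hWleN 2)
      _ = Nat.card Nsub ^ 3 := by ring
  · intro hns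
    by_contra hlt
    push Not at hlt
    have hposN : 0 < Nat.card Nsub := Nat.card_pos
    have hposW : 0 < Nat.card W := Nat.card_pos
    have hNW : Nat.card Nsub ≤ Nat.card W := by
      have h1 : Nat.card Nsub * Nat.card Nsub ^ 2 ≤ Nat.card Nsub * Nat.card W ^ 2 := by
        calc Nat.card Nsub * Nat.card Nsub ^ 2 = Nat.card Nsub ^ 3 := by ring
          _ ≤ Nat.card G := hlt
          _ ≤ _ := hGle
      have h2 := Nat.le_of_mul_le_mul_left h1 hposN
      exact (pow_le_pow_iff_left₀ (Nat.zero_le _) (Nat.zero_le _) (by norm_num)).mp h2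
    have hWeq : W = Nsub := Subgroup.eq_of_le_of_card_ge hWN hNW
    have hcardW : Nat.card W = Nat.card Nsub := le_antisymm hWleN hNW
    have hGeq : Nat.card G = Nat.card W ^ 3 := by
      apply le_antisymm
      · calc Nat.card G ≤ Nat.card Nsub * Nat.card W ^ 2 := hGle
          _ = Nat.card W ^ 3 := by rw [← hcardW]; ring
      · rw [hcardW]; exact hlt
    have hVeq : Nat.card V = Nat.card T ^ 2 := by
      have h1 : Nat.card V * Nat.card W = Nat.card W ^ 2 * Nat.card W := by
        rw [hVW, hGeq]; ring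
      rw [hTW]
      exact Nat.eq_of_mul_eq_mul_right hposW h1
    have h0 : ∀ v, hm.q v = 0 → v = 0 := by
      intro v hv
      obtain ⟨x, rfl⟩ := hm.pi_surj v
      have hx : x ∈ Nsub := (hm.q_eq_zero_iff x).mp hv
      rw [← hWeq] at hx
      exact (hm.pi_ker x).mpr hx
    have hcenter : Subgroup.center G = W := by
      apply le_antisymm _ hWc
      intro z hz
      by_contra hzW
      have hz0 : π z ≠ 0 := fun h => hzW ((hm.pi_ker z).mp h)
      have h1 := two_mul_card_le_of_radical hm.q hm.β hm.hq hm.hβ h0 (π z) hz0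
        (fun v => hm.β_center z hz v)
      rw [← hVeq] at h1
      have hposV : 0 < Nat.card V := Nat.card_pos
      omega
    have hcomm_le : commutator G ≤ W := by
      rw [commutator_eq_closure, Subgroup.closure_le]
      rintro _ ⟨x, y, rfl⟩
      exact hcomm x y
    have hcomm_eq : commutator G = W := by
      apply le_antisymm hcomm_le
      let T₀ : Submodule (ZMod 2) T := AddSubgroup.toZModSubmodule 2
        { carrier := {t | ∃ w : ↥W, (w : G) ∈ commutator G ∧ τ w = t}
          zero_mem' := ⟨1, Subgroup.one_mem _, hm.tau_one⟩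
          add_mem' := by
            rintro _ _ ⟨a, ha, rfl⟩ ⟨b, hb, rfl⟩
            exact ⟨a * b, Subgroup.mul_mem _ ha hb, hm.tau_mul a b⟩
          neg_mem' := by
            rintro _ ⟨a, ha, rfl⟩
            exact ⟨a⁻¹, Subgroup.inv_mem _ ha, hm.tau_inv a⟩ }
      have hT₀ : ∀ u v, hm.β u v ∈ T₀ := by
        intro u v
        obtain ⟨x, rfl⟩ := hm.pi_surj u
        obtain ⟨y, rfl⟩ := hm.pi_surj v
        rw [hm.β_apply]
        refine ⟨⟨⁅y, x⁆, hcomm y x⟩, ?_, rfl⟩
        show ⁅y, x⁆ ∈ ⁅(⊤ : Subgroup G), ⊤⁆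
        exact Subgroup.commutator_mem_commutator (Subgroup.mem_top y) (Subgroup.mem_top x)
      have hle := card_le_of_polar_mem hm.q hm.β hm.hq hm.hβ h0 T₀ hT₀
      rw [hVeq] at hle
      have hposT : 0 < Nat.card T := Nat.card_pos
      have hTle : Nat.card T ≤ Nat.card T₀ := by
        have h1 : Nat.card T * Nat.card T ≤ Nat.card T₀ * Nat.card T := by
          rw [← pow_two]; exact hle
        exact Nat.le_of_mul_le_mul_right h1 hposT
      have hsurj : Function.Surjective (Subtype.val : ↥T₀ → T) :=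
        (Function.Injective.bijective_of_nat_card_le Subtype.val_injective hTle).2
      intro w hw
      obtain ⟨⟨t, w', hw', hτw⟩, ht⟩ := hsurj (τ ⟨w, hw⟩)
      have h1 : τ w' = τ ⟨w, hw⟩ := by rw [hτw]; exact ht
      have h2 : w' = ⟨w, hw⟩ := hm.tau_inj h1
      rw [h2] at hw'
      exact hw'
    apply hns
    refine ⟨hG, ?_, ?_⟩
    · rw [hcenter]
      apply le_antisymm
      · exact Cfsg.Agent.Lib.helper3.frattini_le_of_pow_mem_of_commutator_le W hsq hcomm_le
      · rw [← hcomm_eq]; exact Cfsg.Agent.Lib.helper3.commutator_le_frattini hG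
    · rw [hcenter]; exact hcomm_eq

end Cfsg.Agent.S3773
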