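import Cfsg.Statements.S3774
import Mathlib
-- import your own Cfsg.Agent.* helpers here

set_option autoImplicit false
open Cfsg

namespace Cfsg.Agent.S3774

section aux

variable {G : Type*} [Group G]

/-- The power of `x` that is an involution when `x` is a nontrivial 2-element. -/
noncomputable def invPow (x : G) : G := x ^ (orderOf x / 2)

theorem invPow_map (a : MulAut G) (x : G) : invPow (a x) = a (invPow x) := by
  unfold invPow
  rw [MulEquiv.orderOf_eq, map_pow]

theorem invPow_sq (hG : IsPGroup 2 G) (x : G) : invPow x ^ 2 = 1 := by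
  unfold invPow
  have : Fact (Nat.Prime 2) := ⟨Nat.prime_two⟩
  obtain ⟨k, hk⟩ := (IsPGroup.iff_orderOf.mp hG) x
  rcases k with _ | k
  · simp [hk]
  · rw [← pow_mul, hk, pow_succ, Nat.mul_div_cancel _ (by norm_num), ← pow_succ, ← hk]
    exact pow_orderOf_eq_one x

theorem invPow_ne_one (hG : IsPGroup 2 G) {x : G} (hx : x ≠ 1) : invPow x ≠ 1 := by
  unfold invPow
  have : Fact (Nat.Prime 2) := ⟨Nat.prime_two⟩
  obtain ⟨k, hk⟩ := (IsPGroup.iff_orderOf.mp hG) x
  rcases k with _ | k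
  · exfalso; apply hx; rw [← orderOf_eq_one_iff]; simpa using hk
  · intro h
    rw [hk, pow_succ, Nat.mul_div_cancel _ (by norm_num)] at h
    have h1 := orderOf_dvd_of_pow_eq_one h
    rw [hk] at h1
    have h2 := (Nat.pow_dvd_pow_iff_le_right (by norm_num : 1 < 2)).mp h1
    omega

theorem dvd_of_two_pow_sub_one_dvd {a n : ℕ} (h : 2 ^ n - 1 ∣ 2 ^ a - 1) : n ∣ a := by
  have h1 : Nat.gcd (2 ^ a - 1) (2 ^ n - 1) = 2 ^ n - 1 := Nat.gcd_eq_right h
  rw [Nat.pow_sub_one_gcd_pow_sub_one] at h1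
  have h2 : 2 ^ Nat.gcd a n = 2 ^ n := by
    have := Nat.one_le_two_pow (n := Nat.gcd a n)
    have := Nat.one_le_two_pow (n := n)
    omega
  have h3 : Nat.gcd a n = n := Nat.pow_right_injective (le_refl 2) h2
  exact Nat.gcd_eq_right_iff_dvd.mp h3

end aux

/-- Let G be a nontrivial finite 2-group whose automorphism group permutes the involutions of G transitively. Then every involution of G is central, so that the involutions together with 1 form the subgroup Ω₁(Z(G)), and if this subgroup has order q then |G| is a power of q. -/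
theorem result {G : Type*} [Group G] [Finite G] [Nontrivial G] (hG : IsPGroup 2 G) (htrans : ∀ x y : G, x ≠ 1 → x ^ 2 = 1 → y ≠ 1 → y ^ 2 = 1 → ∃ a : MulAut G, a x = y) : (∀ x : G, x ^ 2 = 1 → x ∈ Subgroup.center G) ∧ ∃ m : ℕ, Nat.card G = Nat.card {z : G // z ^ 2 = 1} ^ m := by
  classical
  have : Fact (Nat.Prime 2) := ⟨Nat.prime_two⟩
  -- a central involution
  have := hG.center_nontrivial
  obtain ⟨⟨z, hz⟩, hz1⟩ := exists_ne (1 : Subgroup.center G)
  have hz1' : z ≠ 1 := fun h => hz1 (Subtype.ext h)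
  have hz0c : invPow z ∈ Subgroup.center G := Subgroup.pow_mem _ hz _
  have hz0ne : invPow z ≠ 1 := invPow_ne_one hG hz1'
  have hz0sq : invPow z ^ 2 = 1 := invPow_sq hG z
  have hcentral : ∀ x : G, x ^ 2 = 1 → x ∈ Subgroup.center G := by
    intro x hx
    by_cases hx1 : x = 1
    · rw [hx1]; exact Subgroup.one_mem _
    obtain ⟨a, ha⟩ := htrans (invPow z) x hz0ne hz0sq hx1 hx
    rw [← ha]
    rw [Subgroup.mem_center_iff] at hz0c ⊢
    intro g
    have h2 := congrArg a (hz0c (a.symm g))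
    simpa using h2
  refine ⟨hcentral, ?_⟩
  -- the subgroup of involutions
  let N : Subgroup G :=
    { carrier := {z | z ^ 2 = 1}
      mul_mem' := by
        intro a b ha hb
        have ha' : a ^ 2 = 1 := ha
        have hb' : b ^ 2 = 1 := hb
        have hcomm : Commute a b := (Subgroup.mem_center_iff.mp (hcentral a ha') b).symm
        show (a * b) ^ 2 = 1
        rw [hcomm.mul_pow, ha', hb', one_mul]
      one_mem' := by simp
      inv_mem' := by
        intro a ha
        have ha' : a ^ 2 = 1 := ha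
        show (a⁻¹) ^ 2 = 1
        rw [inv_pow, ha', inv_one] }
  have hNcard : Nat.card N = Nat.card {z : G // z ^ 2 = 1} := rfl
  rw [← hNcard]
  have hmemN : ∀ x : G, x ∈ N ↔ x ^ 2 = 1 := fun x => Iff.rfl
  -- the fibration
  let f : {x : G // x ≠ 1} → {t : N // t ≠ 1} := fun x =>
    ⟨⟨invPow x.1, invPow_sq hG x.1⟩, fun h => invPow_ne_one hG x.2 (congrArg Subtype.val h)⟩
  let t₀ : {t : N // t ≠ 1} := ⟨⟨invPow z, hz0sq⟩, fun h => hz0ne (congrArg Subtype.val h)⟩
  have key : ∀ t : {t : N // t ≠ 1},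
      Nonempty ({x : {x : G // x ≠ 1} // f x = t₀} ≃ {x : {x : G // x ≠ 1} // f x = t}) := by
    intro t
    have ht1 : (t.1 : G) ≠ 1 := fun h => t.2 (Subtype.ext h)
    obtain ⟨a, ha⟩ := htrans (invPow z) (t.1 : G) hz0ne hz0sq ht1 t.1.2
    refine ⟨?_⟩
    let e : {x : G // x ≠ 1} ≃ {x : G // x ≠ 1} :=
      a.toEquiv.subtypeEquiv (fun x => by simp)
    refine e.subtypeEquiv (fun x => ?_)
    have h1 : (f x = t₀) ↔ invPow x.1 = invPow z := by
      constructor
      · intro h; exact congrArg (fun u => ((u.1 : N) : G)) h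
      · intro h; exact Subtype.ext (Subtype.ext h)
    have h2 : (f (e x) = t) ↔ invPow (a x.1) = (t.1 : G) := by
      constructor
      · intro h; exact congrArg (fun u => ((u.1 : N) : G)) h
      · intro h; exact Subtype.ext (Subtype.ext h)
    rw [h1, h2, invPow_map, ← ha]
    exact (a.injective.eq_iff).symm
  have hcardS : Nat.card {x : G // x ≠ 1} =
      Nat.card {t : N // t ≠ 1} * Nat.card {x : {x : G // x ≠ 1} // f x = t₀} := by
    have e1 : {x : G // x ≠ 1} ≃ Σ t : {t : N // t ≠ 1}, {x : {x : G // x ≠ 1} // f x = t} :=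
      (Equiv.sigmaFiberEquiv f).symm
    have e2 : (Σ t : {t : N // t ≠ 1}, {x : {x : G // x ≠ 1} // f x = t}) ≃
        Σ _t : {t : N // t ≠ 1}, {x : {x : G // x ≠ 1} // f x = t₀} :=
      Equiv.sigmaCongrRight (fun t => (key t).some.symm)
    have e3 := Equiv.sigmaEquivProd {t : N // t ≠ 1} {x : {x : G // x ≠ 1} // f x = t₀}
    rw [Nat.card_congr (e1.trans (e2.trans e3)), Nat.card_prod]
  have hG1 : Nat.card G = Nat.card {x : G // x ≠ 1} + 1 := by
    rw [Nat.card_congr (Equiv.optionSubtypeNe (1 : G)).symm, Finite.card_option]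
  have hN1 : Nat.card N = Nat.card {t : N // t ≠ 1} + 1 := by
    rw [Nat.card_congr (Equiv.optionSubtypeNe (1 : N)).symm, Finite.card_option]
  obtain ⟨a, ha⟩ := (IsPGroup.iff_card).mp hG
  obtain ⟨n, hn⟩ := (IsPGroup.iff_card).mp (hG.to_subgroup N)
  have hdvd : 2 ^ n - 1 ∣ 2 ^ a - 1 := by
    rw [← hn, ← ha, hG1, hN1, Nat.add_sub_cancel, Nat.add_sub_cancel, hcardS]
    exact Dvd.intro _ rfl
  obtain ⟨m, rfl⟩ := dvd_of_two_pow_sub_one_dvd hdvd
  exact ⟨m, by rw [ha, hn, pow_mul]⟩

end Cfsg.Agent.S3774
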