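import Cfsg.Statements.S3775
import Mathlib
import Cfsg.Agent.Lib.helper66.AbelianCoprime

set_option autoImplicit false
open Cfsg

namespace Cfsg.Agent.S3775

open Cfsg.Agent.Lib.helper66

/-- If `X` acts irreducibly on `Ω₁(A)` then every invariant subgroup is some `Ω_i(A)`. -/
theorem omega_of_irreducible {A : Type*} [CommGroup A] [Finite A] {p : ℕ} [Fact p.Prime]
    (hA : IsPGroup p A) (X : Subgroup (MulAut A))
    (h3 : ∀ B : Subgroup A, AutInv X B → (∀ b ∈ B, b ^ p = 1) →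
      B = ⊥ ∨ ∀ a : A, a ∈ B ↔ a ^ p = 1)
    (B : Subgroup A) (hB : AutInv X B) : ∃ i : ℕ, ∀ a : A, a ∈ B ↔ a ^ p ^ i = 1 := by
  classical
  have hex : ∃ i : ℕ, ∀ b ∈ B, b ^ p ^ i = 1 := by
    obtain ⟨n, hn⟩ := IsPGroup.iff_card.mp hA
    exact ⟨n, fun b _ => by rw [← hn]; exact pow_card_eq_one'⟩
  have hi : ∀ b ∈ B, b ^ p ^ Nat.find hex = 1 := Nat.find_spec hex
  refine ⟨Nat.find hex, fun a => ⟨hi a, ?_⟩⟩
  rcases Nat.eq_zero_or_pos (Nat.find hex) with h0 | hpos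
  · intro ha
    rw [h0, pow_zero, pow_one] at ha
    rw [ha]
    exact B.one_mem
  · obtain ⟨k, hk⟩ : ∃ k, Nat.find hex = k + 1 := ⟨Nat.find hex - 1, by omega⟩
    have hmin : ¬ ∀ b ∈ B, b ^ p ^ k = 1 := Nat.find_min hex (by omega)
    have hBkinv : AutInv X (B.map (powMonoidHom (p ^ k))) := hB.map_pow _
    have hBkp : ∀ c ∈ B.map (powMonoidHom (p ^ k)), c ^ p = 1 := by
      rintro _ ⟨b, hb, rfl⟩
      rw [powMonoidHom_apply, ← pow_mul, ← pow_succ, ← hk]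
      exact hi b hb
    have hBk0 : B.map (powMonoidHom (p ^ k)) ≠ ⊥ := by
      intro h
      apply hmin
      intro b hb
      have h1 : b ^ p ^ k ∈ B.map (powMonoidHom (p ^ k)) := ⟨b, hb, rfl⟩
      rw [h, Subgroup.mem_bot] at h1
      exact h1
    have hBkeq : ∀ a : A, a ∈ B.map (powMonoidHom (p ^ k)) ↔ a ^ p = 1 :=
      (h3 _ hBkinv hBkp).resolve_left hBk0
    have sub : ∀ j, j ≤ k + 1 → ∀ a : A, a ^ p ^ j = 1 → a ∈ B := by
      intro j
      induction j with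
      | zero =>
        intro _ a ha
        rw [pow_zero, pow_one] at ha
        rw [ha]
        exact B.one_mem
      | succ j ih =>
        intro hj a ha
        have h1 : a ^ p ^ j ∈ B.map (powMonoidHom (p ^ k)) :=
          (hBkeq _).mpr (by rw [← pow_mul, ← pow_succ]; exact ha)
        obtain ⟨b, hb, hb'⟩ := h1
        rw [powMonoidHom_apply] at hb'
        have hkj : k = (k - j) + j := by omega
        have h2 : (b ^ p ^ (k - j)) ^ p ^ j = a ^ p ^ j := by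
          rw [← pow_mul, ← pow_add, ← hkj]
          exact hb'
        have h3' : (a * (b ^ p ^ (k - j))⁻¹) ^ p ^ j = 1 := by
          rw [mul_pow, inv_pow, h2, mul_inv_cancel]
        have h4 : a * (b ^ p ^ (k - j))⁻¹ ∈ B := ih (by omega) _ h3'
        have h5 : a = (a * (b ^ p ^ (k - j))⁻¹) * b ^ p ^ (k - j) := by
          rw [inv_mul_cancel_right]
        rw [h5]
        exact B.mul_mem h4 (B.pow_mem hb _)
    intro ha
    rw [hk] at ha
    exact sub (k + 1) le_rfl a ha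

/-- Let A be a finite abelian p-group and X a group of automorphisms of A of order prime to p. Call a subgroup of A invariant when every element of X maps it onto itself. Then the following are equivalent: (i) A is not the direct product of two nontrivial invariant subgroups; (ii) every invariant subgroup of A is one of the subgroups Ω_i(A) = {a : a^(p^i) = 1}; (iii) the subgroup Ω₁(A) of elements of order dividing p has no invariant subgroups other than 1 and itself. -/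
theorem result {A : Type*} [CommGroup A] [Finite A] {p : ℕ} [Fact p.Prime] (hA : IsPGroup p A) (X : Subgroup (MulAut A)) (hX : (Nat.card X).Coprime p) : ((¬ ∃ B C : Subgroup A, B ≠ ⊥ ∧ C ≠ ⊥ ∧ (∀ x ∈ X, B.map x.toMonoidHom = B) ∧ (∀ x ∈ X, C.map x.toMonoidHom = C) ∧ B ⊓ C = ⊥ ∧ B ⊔ C = ⊤) ↔ (∀ B : Subgroup A, (∀ x ∈ X, B.map x.toMonoidHom = B) → ∃ i : ℕ, ∀ a : A, a ∈ B ↔ a ^ p ^ i = 1)) ∧ ((∀ B : Subgroup A, (∀ x ∈ X, B.map x.toMonoidHom = B) → ∃ i : ℕ, ∀ a : A, a ∈ B ↔ a ^ p ^ i = 1) ↔ (∀ B : Subgroup A, (∀ x ∈ X, B.map x.toMonoidHom = B) → (∀ b ∈ B, b ^ p = 1) → B = ⊥ ∨ ∀ a : A, a ∈ B ↔ a ^ p = 1)) := by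
  have hp : p.Prime := Fact.out
  -- (iii) ⇒ (ii)
  have h32 : (∀ B : Subgroup A, (∀ x ∈ X, B.map x.toMonoidHom = B) → (∀ b ∈ B, b ^ p = 1) →
      B = ⊥ ∨ ∀ a : A, a ∈ B ↔ a ^ p = 1) →
      (∀ B : Subgroup A, (∀ x ∈ X, B.map x.toMonoidHom = B) →
        ∃ i : ℕ, ∀ a : A, a ∈ B ↔ a ^ p ^ i = 1) := by
    intro h3 B hB
    exact omega_of_irreducible hA X
      (fun B' hB' => h3 B' ((autInv_iff_map_eq X B').mp hB')) B ((autInv_iff_map_eq X B).mpr hB)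
  -- (ii) ⇒ (iii)
  have h23 : (∀ B : Subgroup A, (∀ x ∈ X, B.map x.toMonoidHom = B) →
        ∃ i : ℕ, ∀ a : A, a ∈ B ↔ a ^ p ^ i = 1) →
      (∀ B : Subgroup A, (∀ x ∈ X, B.map x.toMonoidHom = B) → (∀ b ∈ B, b ^ p = 1) →
      B = ⊥ ∨ ∀ a : A, a ∈ B ↔ a ^ p = 1) := by
    intro h2 B hB hBp
    obtain ⟨i, hi⟩ := h2 B hB
    rcases Nat.eq_zero_or_pos i with h0 | hpos
    · left
      rw [eq_bot_iff]
      intro a ha
      have h1 := (hi a).mp ha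
      rw [h0, pow_zero, pow_one] at h1
      rw [Subgroup.mem_bot]
      exact h1
    · right
      intro a
      refine ⟨hBp a, fun ha => (hi a).mpr ?_⟩
      obtain ⟨k, rfl⟩ : ∃ k, i = k + 1 := ⟨i - 1, by omega⟩
      rw [pow_succ', pow_mul, ha, one_pow]
  -- (ii) ⇒ (i)
  have h21 : (∀ B : Subgroup A, (∀ x ∈ X, B.map x.toMonoidHom = B) →
        ∃ i : ℕ, ∀ a : A, a ∈ B ↔ a ^ p ^ i = 1) →
      ¬ ∃ B C : Subgroup A, B ≠ ⊥ ∧ C ≠ ⊥ ∧ (∀ x ∈ X, B.map x.toMonoidHom = B) ∧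
        (∀ x ∈ X, C.map x.toMonoidHom = C) ∧ B ⊓ C = ⊥ ∧ B ⊔ C = ⊤ := by
    rintro h2 ⟨B, C, hB0, hC0, hB, hC, hBC, -⟩
    obtain ⟨i, hi⟩ := h2 B hB
    obtain ⟨j, hj⟩ := h2 C hC
    have key : ∀ (i j : ℕ) (a : A), i ≤ j → a ^ p ^ i = 1 → a ^ p ^ j = 1 := by
      intro i j a hij ha
      obtain ⟨d, rfl⟩ := Nat.exists_eq_add_of_le hij
      rw [pow_add, pow_mul, ha, one_pow]
    rcases le_total i j with hij | hji
    · apply hB0
      rw [eq_bot_iff, ← hBC]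
      intro a ha
      exact ⟨ha, (hj a).mpr (key i j a hij ((hi a).mp ha))⟩
    · apply hC0
      rw [eq_bot_iff, ← hBC]
      intro a ha
      exact ⟨(hi a).mpr (key j i a hji ((hj a).mp ha)), ha⟩
  -- (i) ⇒ (iii)
  have h13 : (¬ ∃ B C : Subgroup A, B ≠ ⊥ ∧ C ≠ ⊥ ∧ (∀ x ∈ X, B.map x.toMonoidHom = B) ∧
        (∀ x ∈ X, C.map x.toMonoidHom = C) ∧ B ⊓ C = ⊥ ∧ B ⊔ C = ⊤) →
      (∀ B : Subgroup A, (∀ x ∈ X, B.map x.toMonoidHom = B) → (∀ b ∈ B, b ^ p = 1) →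
      B = ⊥ ∨ ∀ a : A, a ∈ B ↔ a ^ p = 1) := by
    intro h1 B hB hBp
    by_contra hcon
    have hB0 : B ≠ ⊥ := fun h => hcon (Or.inl h)
    have hBne : ¬ ∀ a : A, a ∈ B ↔ a ^ p = 1 := fun h => hcon (Or.inr h)
    apply h1
    have hBle : B ≤ ⊤ ⊓ (powMonoidHom p : A →* A).ker := by
      intro b hb
      exact Subgroup.mem_inf.mpr ⟨Subgroup.mem_top b, by
        rw [MonoidHom.mem_ker, powMonoidHom_apply]; exact hBp b hb⟩
    have hBne' : B ≠ ⊤ ⊓ (powMonoidHom p : A →* A).ker := by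
      intro h
      apply hBne
      intro a
      rw [h, top_inf_eq, MonoidHom.mem_ker, powMonoidHom_apply]
    obtain ⟨F₁, F₂, hF₁, hF₂, hF₁0, hF₂0, hF12, hFsup⟩ :=
      decomposable_of_reducible hA X hX _ ⊤ rfl (autInv_top X)
        ⟨B, (autInv_iff_map_eq X B).mpr hB, hBle, hB0, hBne'⟩
    exact ⟨F₁, F₂, hF₁0, hF₂0, (autInv_iff_map_eq X F₁).mp hF₁, (autInv_iff_map_eq X F₂).mp hF₂,
      hF12, hFsup⟩
  exact ⟨⟨fun h1 => h32 (h13 h1), h21⟩, ⟨h23, h32⟩⟩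

end Cfsg.Agent.S3775
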