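import Cfsg.Statements.S3778
import Mathlib

set_option autoImplicit false
open Cfsg

namespace Cfsg.Agent.S3778

open scoped commutatorElement

variable {G : Type*} [Group G]

/-- Elements `x` with `⁅x, g⁆ ∈ N` for all `g ∈ K`. -/
def commSub (K N : Subgroup G) [hN : N.Normal] : Subgroup G where
  carrier := {x | ∀ g ∈ K, ⁅x, g⁆ ∈ N}
  one_mem' := by
    intro g _
    have : ⁅(1 : G), g⁆ = 1 := by simp [commutatorElement_def]
    rw [this]; exact N.one_mem
  mul_mem' := by
    intro x y hx hy g hg
    have : ⁅x * y, g⁆ = x * ⁅y, g⁆ * x⁻¹ * ⁅x, g⁆ := by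
      simp only [commutatorElement_def]; group
    rw [this]
    exact N.mul_mem (hN.conj_mem _ (hy g hg) x) (hx g hg)
  inv_mem' := by
    intro x hx g hg
    have : ⁅x⁻¹, g⁆ = x⁻¹ * ⁅x, g⁆⁻¹ * x⁻¹⁻¹ := by
      simp only [commutatorElement_def]; group
    rw [this]
    exact hN.conj_mem _ (N.inv_mem (hx g hg)) x⁻¹

theorem mem_commSub (K N : Subgroup G) [N.Normal] (x : G) :
    x ∈ commSub K N ↔ ∀ g ∈ K, ⁅x, g⁆ ∈ N := Iff.rfl

/-- Elements `g` with `⁅x, g⁆ ∈ N`. -/
def centSub (x : G) (N : Subgroup G) [hN : N.Normal] : Subgroup G where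
  carrier := {g | ⁅x, g⁆ ∈ N}
  one_mem' := by
    have : ⁅x, (1 : G)⁆ = 1 := by simp [commutatorElement_def]
    show ⁅x, (1 : G)⁆ ∈ N
    rw [this]; exact N.one_mem
  mul_mem' := by
    intro g h hg hh
    have : ⁅x, g * h⁆ = ⁅x, g⁆ * (g * ⁅x, h⁆ * g⁻¹) := by
      simp only [commutatorElement_def]; group
    show ⁅x, g * h⁆ ∈ N
    rw [this]
    exact N.mul_mem hg (hN.conj_mem _ hh g)
  inv_mem' := by
    intro g hg
    have : ⁅x, g⁻¹⁆ = g⁻¹ * ⁅x, g⁆⁻¹ * g⁻¹⁻¹ := by
      simp only [commutatorElement_def]; group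
    show ⁅x, g⁻¹⁆ ∈ N
    rw [this]
    exact hN.conj_mem _ (N.inv_mem hg) g⁻¹

theorem mem_centSub (x : G) (N : Subgroup G) [N.Normal] (g : G) :
    g ∈ centSub x N ↔ ⁅x, g⁆ ∈ N := Iff.rfl

/-- The lower central series of `G`. -/
abbrev L (G : Type*) [Group G] (j : ℕ) : Subgroup G := (⊤ : Subgroup G).lowerCentralSeries j

theorem L_succ (j : ℕ) : L G (j + 1) = ⁅L G j, (⊤ : Subgroup G)⁆ := rfl

theorem L_antitone {i j : ℕ} (h : i ≤ j) : L G j ≤ L G i :=
  Subgroup.lowerCentralSeries_antitone (S := (⊤ : Subgroup G)) h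

theorem comm_mem_L_succ {j : ℕ} (x : G) {g : G} (hg : g ∈ L G j) : ⁅x, g⁆ ∈ L G (j + 1) := by
  rw [L_succ, ← commutatorElement_inv]
  exact Subgroup.inv_mem _ (Subgroup.commutator_mem_commutator hg (Subgroup.mem_top x))

theorem centSub_antitone (x : G) {i j : ℕ} (h : i ≤ j) : centSub x (L G j) ≤ centSub x (L G i) :=
  fun _ hg => L_antitone h hg

theorem card_mul_le_of_ne [Finite G] {p : ℕ} [Fact p.Prime] (hG : IsPGroup p G)
    {H K : Subgroup G} (hHK : H ≤ K) (hne : H ≠ K) : Nat.card H * p ≤ Nat.card K := by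
  have hp : p.Prime := Fact.out
  have h1 : Nat.card H * H.relIndex K = Nat.card K := by
    rw [← Nat.card_congr (Subgroup.subgroupOfEquivOfLe hHK).toEquiv]
    exact Subgroup.card_mul_index (H.subgroupOf K)
  obtain ⟨n, hn⟩ : ∃ n, H.relIndex K = p ^ n := by
    have hd : H.relIndex K ∣ Nat.card G :=
      (Subgroup.relIndex_dvd_card H K).trans (Subgroup.card_subgroup_dvd_card K)
    obtain ⟨m, hm⟩ := IsPGroup.iff_card.mp hG
    rw [hm] at hd
    obtain ⟨n, _, hn⟩ := (Nat.dvd_prime_pow hp).mp hd
    exact ⟨n, hn⟩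
  have hn0 : n ≠ 0 := by
    rintro rfl
    rw [pow_zero, Subgroup.relIndex_eq_one] at hn
    exact hne (le_antisymm hHK hn)
  rw [← h1, hn]
  exact Nat.mul_le_mul_left _ (Nat.le_self_pow hn0 p)

/-- The number of `j < k` with `x ∉ commSub (L j) (L (j+2))`. -/
noncomputable def cnt (x : G) (k : ℕ) : ℕ :=
  by classical exact ((Finset.range k).filter (fun j => x ∉ commSub (L G j) (L G (j + 2)))).card

theorem cnt_zero (x : G) : cnt x 0 = 0 := by
  classical
  simp only [cnt, Finset.range_zero, Finset.filter_empty, Finset.card_empty]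

theorem cnt_succ_of_mem (x : G) (k : ℕ) (h : x ∈ commSub (L G k) (L G (k + 2))) :
    cnt x (k + 1) = cnt x k := by
  classical
  simp only [cnt]
  rw [Finset.range_add_one, Finset.filter_insert, if_neg (not_not.mpr h)]

theorem cnt_succ_of_not_mem (x : G) (k : ℕ) (h : x ∉ commSub (L G k) (L G (k + 2))) :
    cnt x (k + 1) = cnt x k + 1 := by
  classical
  simp only [cnt]
  rw [Finset.range_add_one, Finset.filter_insert, if_pos h, Finset.card_insert_of_notMem]
  intro hk
  rw [Finset.mem_filter, Finset.mem_range] at hk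
  exact lt_irrefl _ hk.1

theorem card_centSub_mul [Finite G] {p : ℕ} [Fact p.Prime] (hG : IsPGroup p G) (x : G) (k : ℕ) :
    Nat.card (centSub x (L G (k + 1))) * p ^ cnt x k ≤ Nat.card G := by
  induction k with
  | zero =>
    rw [cnt_zero, pow_zero, mul_one]
    exact Subgroup.card_le_card_group _
  | succ k ih =>
    by_cases h : x ∈ commSub (L G k) (L G (k + 2))
    · rw [cnt_succ_of_mem x k h]
      refine le_trans (Nat.mul_le_mul_right _ ?_) ih
      exact Subgroup.card_le_of_le (centSub_antitone x (by omega))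
    · rw [cnt_succ_of_not_mem x k h]
      rw [mem_commSub] at h
      push Not at h
      obtain ⟨g, hg, hg2⟩ := h
      have hne : centSub x (L G (k + 1 + 1)) ≠ centSub x (L G (k + 1)) := by
        intro heq
        have : g ∈ centSub x (L G (k + 1)) := comm_mem_L_succ x hg
        rw [← heq] at this
        exact hg2 this
      have h1 := card_mul_le_of_ne hG (centSub_antitone x (by omega : k + 1 ≤ k + 1 + 1)) hne
      calc Nat.card (centSub x (L G (k + 1 + 1))) * p ^ (cnt x k + 1)
          = (Nat.card (centSub x (L G (k + 1 + 1))) * p) * p ^ cnt x k := by ring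
        _ ≤ Nat.card (centSub x (L G (k + 1))) * p ^ cnt x k := Nat.mul_le_mul_right _ h1
        _ ≤ Nat.card G := ih

theorem cnt_le [Finite G] {p : ℕ} [Fact p.Prime] (hG : IsPGroup p G) (x : G) (b : ℕ)
    (hb : (Subgroup.centralizer ({x} : Set G)).index ≤ p ^ b) (k : ℕ) : cnt x k ≤ b := by
  have hp : p.Prime := Fact.out
  have h1 := card_centSub_mul hG x k
  have h2 : Subgroup.centralizer ({x} : Set G) ≤ centSub x (L G (k + 1)) := by
    intro g hg
    rw [mem_centSub]
    have : ⁅x, g⁆ = 1 := by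
      rw [commutatorElement_eq_one_iff_mul_comm]
      exact (Subgroup.mem_centralizer_singleton_iff.mp hg).symm
    rw [this]; exact Subgroup.one_mem _
  have h3 : Nat.card (Subgroup.centralizer ({x} : Set G)) * p ^ cnt x k ≤
      Nat.card (Subgroup.centralizer ({x} : Set G)) * p ^ b := by
    calc Nat.card (Subgroup.centralizer ({x} : Set G)) * p ^ cnt x k
        ≤ Nat.card (centSub x (L G (k + 1))) * p ^ cnt x k :=
          Nat.mul_le_mul_right _ (Subgroup.card_le_of_le h2)
      _ ≤ Nat.card G := h1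
      _ = Nat.card (Subgroup.centralizer ({x} : Set G)) *
            (Subgroup.centralizer ({x} : Set G)).index := (Subgroup.card_mul_index _).symm
      _ ≤ _ := Nat.mul_le_mul_left _ hb
  have h4 : p ^ cnt x k ≤ p ^ b := Nat.le_of_mul_le_mul_left h3 Nat.card_pos
  exact (Nat.pow_le_pow_iff_right hp.one_lt).mp h4

theorem commSub_ne_top {c : ℕ} (hc : L G c = ⊥) (hmin : ∀ m < c, L G m ≠ ⊥) {j : ℕ}
    (hj : j + 1 < c) : commSub (L G j) (L G (j + 2)) ≠ ⊤ := by
  intro htop
  have h1 : L G (j + 1) ≤ L G (j + 2) := by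
    rw [L_succ, Subgroup.commutator_le]
    intro g₁ hg₁ g₂ _
    have : g₂ ∈ commSub (L G j) (L G (j + 2)) := by rw [htop]; exact Subgroup.mem_top _
    rw [← commutatorElement_inv]
    exact Subgroup.inv_mem _ (this g₁ hg₁)
  have h2 : ∀ k, L G (j + 1) ≤ L G (j + 1 + k) := by
    intro k
    induction k with
    | zero => exact le_rfl
    | succ k ih =>
      refine h1.trans ?_
      have : L G (j + 1 + (k + 1)) = ⁅L G (j + 1 + k), (⊤ : Subgroup G)⁆ := rfl
      rw [this, show j + 2 = j + 1 + 1 from rfl, L_succ]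
      exact Subgroup.commutator_mono ih le_rfl
  apply hmin (j + 1) hj
  rw [eq_bot_iff, ← hc]
  have := h2 (c - (j + 1))
  rwa [show j + 1 + (c - (j + 1)) = c by omega] at this

theorem one_mem_cnt (k : ℕ) : cnt (1 : G) k = 0 := by
  classical
  simp only [cnt]
  rw [Finset.card_eq_zero, Finset.filter_eq_empty_iff]
  intro j _ h
  exact h (Subgroup.one_mem _)

theorem sum_cnt [Fintype G] (k : ℕ) :
    ∑ x : G, cnt x k + ∑ j ∈ Finset.range k, Nat.card (commSub (L G j) (L G (j + 2))) =
      k * Nat.card G := by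
  classical
  have h1 : ∀ x : G, cnt x k =
      ∑ j ∈ Finset.range k, if x ∉ commSub (L G j) (L G (j + 2)) then 1 else 0 := by
    intro x
    simp only [cnt]
    rw [Finset.card_filter]
  simp_rw [h1]
  rw [Finset.sum_comm, ← Finset.sum_add_distrib]
  rw [show k * Nat.card G = ∑ _j ∈ Finset.range k, Nat.card G by simp]
  apply Finset.sum_congr rfl
  intro j _
  rw [← Finset.card_filter, Nat.card_eq_fintype_card, Nat.card_eq_fintype_card,
    Fintype.card_subtype, ← Finset.card_univ (α := G)]
  rw [add_comm]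
  exact Finset.card_filter_add_card_filter_not (s := Finset.univ)
    (fun x => x ∈ commSub (L G j) (L G (j + 2)))

/-- If G is a finite p-group in which every conjugacy class has at most p^b elements (every element has centralizer of index at most p^b), then G is abelian when b = 0, and when b ≥ 1 its nilpotency class c satisfies (c − 1)(p − 1) < bp, that is c < bp/(p − 1) + 1, and hence c ≤ 2b. -/
theorem result {G : Type*} [Group G] [Finite G] {p : ℕ} [Fact p.Prime] (hG : IsPGroup p G) (b : ℕ) (hb : ∀ x : G, (Subgroup.centralizer ({x} : Set G)).index ≤ p ^ b) : ∃ c : ℕ, (⊤ : Subgroup G).lowerCentralSeries c = ⊥ ∧ (b ≠ 0 → (c - 1) * (p - 1) < b * p ∧ c ≤ 2 * b) ∧ (b = 0 → c ≤ 1) := by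
  classical
  have hp : p.Prime := Fact.out
  have : Fintype G := Fintype.ofFinite G
  have hnil : Group.IsNilpotent G := hG.isNilpotent
  have hex : ∃ n, L G n = ⊥ := Subgroup.nilpotent_iff_lowerCentralSeries.mp hnil
  refine ⟨Nat.find hex, Nat.find_spec hex, ?_, ?_⟩
  · intro hb0
    set c := Nat.find hex with hcdef
    have hc : L G c = ⊥ := Nat.find_spec hex
    have hmin : ∀ m < c, L G m ≠ ⊥ := fun m hm => Nat.find_min hex hm
    have key : (c - 1) * (p - 1) < b * p := by
      obtain ⟨q, rfl⟩ : ∃ q, p = q + 1 := ⟨p - 1, by have := hp.pos; omega⟩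
      set d := c - 1 with hd
      set N := Nat.card G with hN
      have hNpos : 0 < N := Nat.card_pos
      have hsum := sum_cnt (G := G) d
      have hA : ∀ j ∈ Finset.range d,
          Nat.card (commSub (L G j) (L G (j + 2))) * (q + 1) ≤ N := by
        intro j hj
        rw [Finset.mem_range] at hj
        have hne := commSub_ne_top hc hmin (j := j) (by omega)
        have := card_mul_le_of_ne hG (le_top : commSub (L G j) (L G (j + 2)) ≤ ⊤) hne
        rwa [Subgroup.card_top] at this
      have hA' : (∑ j ∈ Finset.range d, Nat.card (commSub (L G j) (L G (j + 2)))) * (q + 1)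
          ≤ d * N := by
        rw [Finset.sum_mul]
        calc ∑ j ∈ Finset.range d, Nat.card (commSub (L G j) (L G (j + 2))) * (q + 1)
            ≤ ∑ _j ∈ Finset.range d, N := Finset.sum_le_sum hA
          _ = d * N := by simp
      have hS : ∑ x : G, cnt x d + b ≤ b * N := by
        have h1 : ∑ x : G, cnt x d = ∑ x ∈ Finset.univ.erase (1 : G), cnt x d := by
          rw [← Finset.add_sum_erase Finset.univ _ (Finset.mem_univ (1 : G)), one_mem_cnt,
            zero_add]
        have h2 : ∑ x ∈ Finset.univ.erase (1 : G), cnt x d ≤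
            ∑ _x ∈ Finset.univ.erase (1 : G), b :=
          Finset.sum_le_sum (fun x _ => cnt_le hG x b (hb x) d)
        have h3 : ∑ _x ∈ Finset.univ.erase (1 : G), b = (N - 1) * b := by
          rw [Finset.sum_const, Finset.card_erase_of_mem (Finset.mem_univ _), Finset.card_univ,
            smul_eq_mul, hN, Nat.card_eq_fintype_card]
        rw [h1]
        calc ∑ x ∈ Finset.univ.erase (1 : G), cnt x d + b ≤ (N - 1) * b + b := by
              rw [← h3]; exact Nat.add_le_add_right h2 b
          _ = b * N := by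
              obtain ⟨M, hM⟩ : ∃ M, N = M + 1 := ⟨N - 1, by omega⟩
              rw [hM]; simp; ring
      -- combine
      set S := ∑ x : G, cnt x d with hSdef
      set T := ∑ j ∈ Finset.range d, Nat.card (commSub (L G j) (L G (j + 2))) with hTdef
      have hbpos : 0 < b := Nat.pos_of_ne_zero hb0
      rw [Nat.add_sub_cancel]
      -- S + T = d * N, T * (q+1) ≤ d * N, S + b ≤ b * N
      have e1 : (S + T) * (q + 1) = d * N * (q + 1) := by rw [hsum]
      have e2 : d * N * (q + 1) ≤ S * (q + 1) + d * N := by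
        rw [← e1, add_mul]; exact Nat.add_le_add_left hA' _
      have e3 : S * (q + 1) + b * (q + 1) ≤ b * N * (q + 1) := by
        rw [← add_mul]; exact Nat.mul_le_mul_right _ hS
      have e4 : d * q * N < b * (q + 1) * N := by nlinarith
      exact lt_of_mul_lt_mul_right e4 (Nat.zero_le N)
    refine ⟨key, ?_⟩
    obtain ⟨q, hq⟩ : ∃ q, p = q + 2 := ⟨p - 2, by have := hp.two_le; omega⟩
    subst hq
    by_contra hcon
    push Not at hcon
    have h1 : 2 * b ≤ c - 1 := by omega
    have h2 : 2 * b * (q + 1) ≤ (c - 1) * (q + 2 - 1) := by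
      rw [show q + 2 - 1 = q + 1 by omega]
      exact Nat.mul_le_mul_right _ h1
    nlinarith
  · intro hb0
    apply Nat.find_min' hex
    show L G 1 = ⊥
    rw [L_succ, Subgroup.commutator_eq_bot_iff_le_centralizer]
    intro x _
    rw [Subgroup.mem_centralizer_iff]
    intro y _
    have h1 := hb y
    rw [hb0, pow_zero] at h1
    have h2 : (Subgroup.centralizer ({y} : Set G)).index = 1 := by
      have : (Subgroup.centralizer ({y} : Set G)).index ≠ 0 := Subgroup.index_ne_zero_of_finite
      omega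
    rw [Subgroup.index_eq_one] at h2
    have : x ∈ Subgroup.centralizer ({y} : Set G) := by rw [h2]; exact Subgroup.mem_top _
    exact (Subgroup.mem_centralizer_singleton_iff.mp this).symm

end Cfsg.Agent.S3778
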