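import Cfsg.Statements.S3779
import Cfsg.Agent.S0033
import Cfsg.Agent.Lib.helper70.OC4A
import Cfsg.Agent.Lib.helper68.KrekC
import Cfsg.Agent.Lib.helper68.GrLieC

set_option autoImplicit false
open Cfsg

namespace Cfsg.Agent.S3779

/-- Let G be a finite group with an automorphism of prime order p fixing only the identity. Then G is nilpotent; if p = 2 then G is abelian, if p = 3 then G has class at most 2, and in general the class of G is at most ξ = 1 + (p−1) + (p−1)² + ⋯ + (p−1)^(n−1) with n = 2^(p−1) − 1 (the Higman–Kreknin–Kostrikin bound). -/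
theorem result {G : Type*} [Group G] [Finite G] {p : ℕ} (hp : p.Prime) (α : MulAut G) (hα : orderOf α = p) (hfpf : ∀ g : G, α g = g → g = 1) : (p = 2 → (⊤ : Subgroup G).lowerCentralSeries 1 = ⊥) ∧ (p = 3 → (⊤ : Subgroup G).lowerCentralSeries 2 = ⊥) ∧ (⊤ : Subgroup G).lowerCentralSeries (Finset.sum (Finset.range (2 ^ (p - 1) - 1)) (fun i => (p - 1) ^ i)) = ⊥ := by
  have : Fact p.Prime := ⟨hp⟩
  have hnil : Group.IsNilpotent G :=
    Cfsg.Agent.S0033.result α (fun g hg => hfpf g hg) p hp hα
  have hαp : α ^ p = 1 := by rw [← hα]; exact pow_orderOf_eq_one α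
  have hcop : (Nat.card G).Coprime p := by
    have hZ : IsPGroup p (Subgroup.zpowers α) :=
      IsPGroup.of_card (n := 1) (by rw [Nat.card_zpowers, hα, pow_one])
    have h1 := hZ.card_modEq_card_fixedPoints G
    have h2 : MulAction.fixedPoints (Subgroup.zpowers α) G = {1} := by
      ext g
      simp only [MulAction.mem_fixedPoints, Set.mem_singleton_iff]
      constructor
      · intro h
        exact hfpf g (h ⟨α, Subgroup.mem_zpowers α⟩)
      · rintro rfl a
        exact map_one (a : MulAut G)
    rw [h2] at h1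
    have h3 : Nat.card (({1} : Set G) : Type _) = 1 := by simp
    rw [h3] at h1
    rw [Nat.coprime_comm, Nat.Prime.coprime_iff_not_dvd hp]
    intro hd
    have h4 : Nat.card G % p = 0 := Nat.mod_eq_zero_of_dvd hd
    have h5 : Nat.card G % p = 1 % p := h1
    rw [h4, Nat.mod_eq_of_lt hp.one_lt] at h5
    exact absurd h5 (by norm_num)
  have main : (⊤ : Subgroup G).lowerCentralSeries
      (Finset.sum (Finset.range (2 ^ (p - 1) - 1)) (fun i => (p - 1) ^ i)) = ⊥ := by
    apply Lib.helper68.GrLie.lcs_eq_bot_of_le_succ hnil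
    apply Lib.helper68.GrLie.lcs_le_succ_of_nil
    intro u us hl
    exact Lib.helper68.HK.higman_lie (Lib.helper68.GrLie.Φ α) (Lib.helper68.GrLie.Φ_lie α)
      (Lib.helper68.GrLie.Φ_periodic α p hαp) (Lib.helper68.GrLie.Φ_fix α hfpf)
      (Lib.helper68.GrLie.tor_free p hcop) u us hl
  refine ⟨?_, ?_, main⟩
  · intro h2
    subst h2
    have e : Finset.sum (Finset.range (2 ^ (2 - 1) - 1)) (fun i => (2 - 1) ^ i) = 1 := by decide
    rw [e] at main
    exact main
  · intro h3
    subst h3
    have h3' : ∀ g : G, α (α (α g)) = g := by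
      intro g
      have := congrArg (fun β : MulAut G => β g) hαp
      simpa [pow_succ, MulAut.mul_apply] using this
    have hc := Lib.helper70.fpf3_class2 (α.toMonoidHom) h3' hfpf
    show ⁅⁅(⊤ : Subgroup G), ⊤⁆, ⊤⁆ = ⊥
    rw [Subgroup.commutator_top_right_eq_bot_iff_le_center, Subgroup.commutator_le]
    intro g₁ _ g₂ _
    rw [Subgroup.mem_center_iff]
    intro g
    rw [commutatorElement_def]
    exact (hc g₁ g₂ g).symm

end Cfsg.Agent.S3779
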