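import Cfsg.Statements.S3780

set_option autoImplicit false
open Cfsg

namespace Cfsg.Agent.S3780

theorem delta_pow_eq {A : Type*} [AddCommGroup A] {p : ℕ} (hp : p.Prime) (a : AddMonoid.End A)
    (ha : a ^ p = 1) : ∃ r : AddMonoid.End A, (a - 1) ^ p = (p : AddMonoid.End A) * r := by
  have hc : Commute a (-1 : AddMonoid.End A) := (Commute.one_right a).neg_right
  obtain ⟨r, hr⟩ := hc.exists_add_pow_prime_eq hp
  rw [← sub_eq_add_neg, ha] at hr
  rcases hp.eq_two_or_odd' with h2 | hodd
  · subst h2
    refine ⟨1 + a * -1 * r, ?_⟩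
    rw [hr]
    have e : ((-1 : AddMonoid.End A)) ^ 2 = 1 := by simp
    rw [e, mul_add, mul_one, mul_assoc, mul_assoc, mul_assoc]
    push_cast
    rw [← two_mul, mul_one]
  · refine ⟨a * -1 * r, ?_⟩
    rw [hr, hodd.neg_one_pow, mul_assoc, mul_assoc, mul_assoc]
    simp

theorem delta_pow_apply {A : Type*} [AddCommGroup A] {p : ℕ} (hp : p.Prime) (a : AddMonoid.End A)
    (ha : a ^ p = 1) (x : A) (hx : p • x = 0) : ((a - 1) ^ p) x = 0 := by
  obtain ⟨r, hr⟩ := delta_pow_eq hp a ha
  rw [hr, AddMonoid.End.coe_mul, Function.comp_apply, AddMonoid.End.natCast_apply, ← map_nsmul, hx,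
    map_zero]

theorem card_subtype_le {α : Type*} [Finite α] {P Q : α → Prop} (h : ∀ x, P x → Q x) :
    Nat.card {x // P x} ≤ Nat.card {x // Q x} := by
  apply Nat.card_le_card_of_injective (fun x : {x // P x} => (⟨x.1, h x.1 x.2⟩ : {x // Q x}))
  intro x y hxy
  have h1 := congrArg (fun z : {x // Q x} => (z : α)) hxy
  exact Subtype.ext h1

theorem card_ker_comp_le {A : Type*} [AddCommGroup A] [Finite A] (f g : A →+ A) :
    Nat.card {x : A // g (f x) = 0} ≤ Nat.card {x : A // f x = 0} * Nat.card {x : A // g x = 0} := by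
  have key : Nat.card (g.comp f).ker ≤ Nat.card f.ker * Nat.card g.ker := by
    rw [← AddMonoidHom.comap_ker]
    set K := g.ker
    let f' : K.comap f →+ K := f.addSubgroupComap K
    have h1 : Nat.card f'.ker * f'.ker.index = Nat.card (K.comap f) := AddSubgroup.card_mul_index _
    have h2 : f'.ker.index = Nat.card f'.range := AddSubgroup.index_ker f'
    have h3 : Nat.card f'.range ≤ Nat.card K := AddSubgroup.card_le_card_addGroup _
    have h4 : Nat.card f'.ker ≤ Nat.card f.ker := by
      apply Nat.card_le_card_of_injective (fun x : f'.ker => (⟨x.1.1, by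
        have := x.2
        rw [AddMonoidHom.mem_ker] at this ⊢
        exact congrArg Subtype.val this⟩ : f.ker))
      intro x y hxy
      have h := congrArg (fun z : f.ker => (z : A)) hxy
      exact Subtype.ext (Subtype.ext h)
    rw [← h1, h2]
    exact Nat.mul_le_mul h4 h3
  exact key

theorem card_ker_pow_le {A : Type*} [AddCommGroup A] [Finite A] (f : AddMonoid.End A) (k : ℕ) :
    Nat.card {x : A // (f ^ k) x = 0} ≤ (Nat.card {x : A // f x = 0}) ^ k := by
  induction k with
  | zero =>
    rw [pow_zero, pow_zero]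
    have : Subsingleton {x : A // (1 : AddMonoid.End A) x = 0} := by
      constructor
      intro x y
      apply Subtype.ext
      have hx : x.1 = 0 := x.2
      have hy : y.1 = 0 := y.2
      rw [hx, hy]
    exact Finite.card_le_one_iff_subsingleton.mpr this
  | succ k ih =>
    rw [pow_succ, pow_succ]
    have h1 := card_ker_comp_le (A := A) f (f ^ k : AddMonoid.End A)
    calc Nat.card {x : A // (f ^ k * f) x = 0}
        ≤ Nat.card {x : A // f x = 0} * Nat.card {x : A // (f ^ k) x = 0} := h1
      _ ≤ Nat.card {x : A // f x = 0} * (Nat.card {x : A // f x = 0}) ^ k :=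
          Nat.mul_le_mul_left _ ih
      _ = (Nat.card {x : A // f x = 0}) ^ k * Nat.card {x : A // f x = 0} := Nat.mul_comm _ _

theorem card_ker_natCast_le {A : Type*} [AddCommGroup A] [Finite A] {p : ℕ} (hp : p.Prime)
    (a : AddMonoid.End A) (ha : a ^ p = 1) :
    Nat.card {x : A // p • x = 0} ≤ (Nat.card {x : A // a x = x}) ^ p := by
  have h1 : Nat.card {x : A // p • x = 0} ≤ Nat.card {x : A // ((a - 1) ^ p) x = 0} :=
    card_subtype_le (fun x hx => delta_pow_apply hp a ha x hx)
  have h2 : Nat.card {x : A // (a - 1) x = 0} ≤ Nat.card {x : A // a x = x} :=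
    card_subtype_le (fun x hx => by
      have h3 : a x - x = 0 := hx
      exact sub_eq_zero.mp h3)
  exact h1.trans ((card_ker_pow_le (a - 1) p).trans (Nat.pow_le_pow_left h2 p))

/-- Greedy generation: a finite `p`-group is generated modulo `H` by at most `log_p |G : H|`
elements. -/
theorem greedy {V : Type*} [Group V] [Finite V] {p : ℕ} [Fact p.Prime] (hV : IsPGroup p V) :
    ∀ (m : ℕ) (H : Subgroup V), H.index = m →
      ∃ S : Finset V, Subgroup.closure (S : Set V) ⊔ H = ⊤ ∧ p ^ S.card ≤ H.index := by
  classical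
  have hp : p.Prime := Fact.out
  intro m
  induction m using Nat.strong_induction_on with
  | _ m ih =>
  intro H hm
  by_cases hH : H = ⊤
  · refine ⟨∅, ?_, ?_⟩
    · rw [hH]; simp
    · simp [hH]
  · obtain ⟨x, hx⟩ : ∃ x, x ∉ H := by
      by_contra h
      push Not at h
      exact hH (eq_top_iff.mpr (fun x _ => h x))
    set H' := Subgroup.closure ({x} : Set V) ⊔ H with hH'
    have hxH' : x ∈ H' := (le_sup_left : _ ≤ H') (Subgroup.subset_closure rfl)
    have hle : H ≤ H' := le_sup_right
    have hne : H ≠ H' := fun h => hx (h ▸ hxH')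
    have hcard : Nat.card H < Nat.card H' :=
      lt_of_not_ge (fun h => hne (Subgroup.eq_of_le_of_card_ge hle h))
    have e1 : Nat.card H * H.index = Nat.card V := Subgroup.card_mul_index H
    have e2 : Nat.card H' * H'.index = Nat.card V := Subgroup.card_mul_index H'
    have hidx : H'.index < H.index := by
      by_contra h
      push Not at h
      have hpos : 0 < H'.index := Nat.pos_of_ne_zero Subgroup.index_ne_zero_of_finite
      have := Nat.mul_lt_mul_of_lt_of_le hcard h hpos
      omega
    obtain ⟨S', hS', hc'⟩ := ih H'.index (hm ▸ hidx) H' rfl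
    refine ⟨insert x S', ?_, ?_⟩
    · rw [Finset.coe_insert, Set.insert_eq, Subgroup.closure_union,
        sup_comm (Subgroup.closure ({x} : Set V)), sup_assoc]
      exact hS'
    · obtain ⟨a, ha⟩ := hV.index H
      obtain ⟨b, hb⟩ := hV.index H'
      have hba : b < a := by
        rw [ha, hb] at hidx
        exact (Nat.pow_lt_pow_iff_right hp.one_lt).mp hidx
      calc p ^ (insert x S').card ≤ p ^ (S'.card + 1) :=
            Nat.pow_le_pow_right hp.pos (Finset.card_insert_le _ _)
        _ = p ^ S'.card * p := pow_succ _ _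
        _ ≤ H'.index * p := Nat.mul_le_mul_right _ hc'
        _ = p ^ b * p := by rw [hb]
        _ = p ^ (b + 1) := (pow_succ _ _).symm
        _ ≤ p ^ a := Nat.pow_le_pow_right hp.pos (by omega)
        _ = H.index := ha.symm

/-- In a finite abelian `p`-group, the `p`-th powers are non-generators. -/
theorem eq_top_of_sup_pow {V : Type*} [CommGroup V] [Finite V] {p : ℕ} [Fact p.Prime]
    (hV : IsPGroup p V) (H : Subgroup V)
    (h : H ⊔ (powMonoidHom p : V →* V).range = ⊤) : H = ⊤ := by
  have key : ∀ k : ℕ, ∀ v : V, ∃ h ∈ H, ∃ u : V, v = h * u ^ (p ^ k) := by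
    intro k
    induction k with
    | zero =>
      intro v
      exact ⟨1, H.one_mem, v, by simp⟩
    | succ k ih =>
      intro v
      obtain ⟨h₁, hh₁, u, rfl⟩ := ih v
      have hu : u ∈ H ⊔ (powMonoidHom p : V →* V).range := h ▸ Subgroup.mem_top u
      obtain ⟨h₂, hh₂, z, ⟨w, rfl⟩, rfl⟩ := Subgroup.mem_sup.mp hu
      refine ⟨h₁ * h₂ ^ (p ^ k), H.mul_mem hh₁ (H.pow_mem hh₂ _), w, ?_⟩
      rw [powMonoidHom_apply, mul_pow, ← pow_mul, mul_assoc, pow_succ']
  obtain ⟨m, hm⟩ := (IsPGroup.iff_card (p := p)).mp hV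
  rw [eq_top_iff]
  intro v _
  obtain ⟨h₁, hh₁, u, rfl⟩ := key m v
  rw [← hm, pow_card_eq_one', mul_one]
  exact hh₁

/-- Let V be a finite abelian p-group and α an automorphism of V of order p whose fixed-point subgroup has order p^n. Then V can be generated by pn elements: some subset of V with at most pn elements generates V. -/
theorem result {V : Type*} [CommGroup V] [Finite V] {p : ℕ} [Fact p.Prime] (hV : IsPGroup p V) (α : MulAut V) (hα : orderOf α = p) (n : ℕ) (hfix : Nat.card {v : V // α v = v} = p ^ n) : ∃ S : Finset V, S.card ≤ p * n ∧ Subgroup.closure (S : Set V) = ⊤ := by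
  classical
  have hp : p.Prime := Fact.out
  let a : AddMonoid.End (Additive V) := MonoidHom.toAdditive (α : V →* V)
  have hαp : α ^ p = 1 := hα ▸ pow_orderOf_eq_one α
  have ha_pow : ∀ k : ℕ, ∀ x : Additive V,
      (a ^ k) x = Additive.ofMul ((α ^ k) (Additive.toMul x)) := by
    intro k
    induction k with
    | zero => intro x; simp
    | succ k ih =>
      intro x
      rw [pow_succ, AddMonoid.End.coe_mul, Function.comp_apply, ih, pow_succ, MulAut.mul_apply]
      rfl
  have ha : a ^ p = 1 := by
    apply AddMonoidHom.ext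
    intro x
    have h0 := ha_pow p x
    rw [hαp] at h0
    exact h0
  have h1 := card_ker_natCast_le hp a ha
  have h2 : Nat.card {x : Additive V // a x = x} = p ^ n := by
    rw [← hfix]
    exact Nat.card_congr (Equiv.subtypeEquiv Additive.toMul (fun x => Iff.rfl))
  have h3 : Nat.card {x : Additive V // p • x = 0} = Nat.card (powMonoidHom p : V →* V).ker :=
    Nat.card_congr (Equiv.subtypeEquiv Additive.toMul (fun x => Iff.rfl))
  rw [h2, h3] at h1
  set φ : V →* V := powMonoidHom p with hφ
  have e1 : Nat.card φ.ker * φ.ker.index = Nat.card V := Subgroup.card_mul_index _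
  have e2 : φ.ker.index = Nat.card φ.range := Subgroup.index_ker φ
  have e3 : Nat.card φ.range * φ.range.index = Nat.card V := Subgroup.card_mul_index _
  have hidx : φ.range.index = Nat.card φ.ker := by
    have hpos : 0 < Nat.card φ.range := Nat.card_pos
    have : Nat.card φ.range * φ.range.index = Nat.card φ.range * Nat.card φ.ker := by
      rw [e3, ← e1, e2, Nat.mul_comm]
    exact Nat.eq_of_mul_eq_mul_left hpos this
  obtain ⟨S, hS, hc⟩ := greedy hV _ φ.range rfl
  refine ⟨S, ?_, eq_top_of_sup_pow hV _ hS⟩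
  have h4 : p ^ S.card ≤ p ^ (p * n) := by
    calc p ^ S.card ≤ φ.range.index := hc
      _ = Nat.card φ.ker := hidx
      _ ≤ (p ^ n) ^ p := h1
      _ = p ^ (p * n) := by rw [← pow_mul, Nat.mul_comm]
  exact (Nat.pow_le_pow_iff_right hp.one_lt).mp h4

end Cfsg.Agent.S3780
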