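import Cfsg.Statements.S3781
-- import your own Cfsg.Agent.* helpers here

set_option autoImplicit false
open Cfsg

namespace Cfsg.Agent.S3781

section aux

variable {G : Type*} [Group G]

/-- The iterated commutator `[K, G, …, G]` with `j` copies of `G`. -/
def iterTop (K : Subgroup G) : ℕ → Subgroup G
  | 0 => K
  | j + 1 => ⁅iterTop K j, ⊤⁆

theorem iterTop_normal (K : Subgroup G) [hK : K.Normal] (j : ℕ) : (iterTop K j).Normal := by
  induction j with
  | zero => exact hK
  | succ j ih =>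
    have := ih
    show (⁅iterTop K j, (⊤ : Subgroup G)⁆).Normal
    infer_instance

theorem iterTop_mono {K K' : Subgroup G} (h : K ≤ K') (j : ℕ) : iterTop K j ≤ iterTop K' j := by
  induction j with
  | zero => exact h
  | succ j ih => exact Subgroup.commutator_mono ih le_rfl

theorem iterTop_succ' (K : Subgroup G) (j : ℕ) :
    iterTop K (j + 1) = iterTop ⁅K, (⊤ : Subgroup G)⁆ j := by
  induction j with
  | zero => rfl
  | succ j ih =>
    show ⁅iterTop K (j + 1), (⊤ : Subgroup G)⁆ = ⁅iterTop ⁅K, (⊤ : Subgroup G)⁆ j, (⊤ : Subgroup G)⁆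
    rw [ih]

theorem iterTop_le (K : Subgroup G) [hK : K.Normal] (j : ℕ) : iterTop K j ≤ K := by
  induction j with
  | zero => exact le_rfl
  | succ j ih =>
    have := iterTop_normal K j
    exact (Subgroup.commutator_le_left (H₁ := iterTop K j) (H₂ := ⊤)).trans ih

/-- The three subgroups lemma modulo a normal subgroup. -/
theorem three_subgroups_mod (M : Subgroup G) [M.Normal] {H₁ H₂ H₃ : Subgroup G}
    (h1 : ⁅⁅H₂, H₃⁆, H₁⁆ ≤ M) (h2 : ⁅⁅H₃, H₁⁆, H₂⁆ ≤ M) : ⁅⁅H₁, H₂⁆, H₃⁆ ≤ M := by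
  have key : ∀ A B C : Subgroup G, ⁅⁅A, B⁆, C⁆ ≤ M ↔
      ⁅⁅A.map (QuotientGroup.mk' M), B.map (QuotientGroup.mk' M)⁆,
        C.map (QuotientGroup.mk' M)⁆ = ⊥ := by
    intro A B C
    rw [← Subgroup.map_commutator, ← Subgroup.map_commutator, Subgroup.map_eq_bot_iff,
      QuotientGroup.ker_mk']
  rw [key] at h1 h2 ⊢
  exact Subgroup.commutator_commutator_eq_bot_of_rotate h1 h2

theorem comm_lcs_le (j : ℕ) : ∀ (K : Subgroup G) [K.Normal],
    ⁅K, (⊤ : Subgroup G).lowerCentralSeries j⁆ ≤ iterTop K (j + 1) := by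
  induction j with
  | zero => intro K _; exact le_rfl
  | succ j ih =>
    intro K _
    rw [Subgroup.lowerCentralSeries_succ, Subgroup.commutator_comm]
    have := iterTop_normal K (j + 2)
    apply three_subgroups_mod (iterTop K (j + 2))
    · rw [Subgroup.commutator_comm ⊤ K]
      have := ih ⁅K, (⊤ : Subgroup G)⁆
      rwa [← iterTop_succ'] at this
    · exact Subgroup.commutator_mono (ih K) le_rfl

theorem eq_bot_of_le_comm_top [hnil : Group.IsNilpotent G] (H : Subgroup G)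
    (h : H ≤ ⁅H, (⊤ : Subgroup G)⁆) : H = ⊥ := by
  obtain ⟨n, hn⟩ := Subgroup.nilpotent_iff_lowerCentralSeries.mp hnil
  have key : ∀ j, H ≤ (⊤ : Subgroup G).lowerCentralSeries j := by
    intro j
    induction j with
    | zero => exact le_top
    | succ j ih => exact h.trans (Subgroup.commutator_mono ih le_rfl)
  exact le_bot_iff.mp (hn ▸ key n)

theorem iterTop_le_of_relIndex [Finite G] {p : ℕ} [hp : Fact p.Prime] (hG : IsPGroup p G)
    (L : Subgroup G) [L.Normal] :
    ∀ (m : ℕ) (K : Subgroup G) [K.Normal], L ≤ K → L.relIndex K ∣ p ^ m → iterTop K m ≤ L := by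
  have : Group.IsNilpotent G := hG.isNilpotent
  intro m
  induction m with
  | zero =>
    intro K _ hLK hdvd
    have h1 : L.relIndex K = 1 := by simpa using hdvd
    exact Subgroup.relIndex_eq_one.mp h1
  | succ m ih =>
    intro K _ hLK hdvd
    have hK₁n : (⁅K, (⊤ : Subgroup G)⁆ ⊔ L).Normal := inferInstance
    have hLK₁ : L ≤ ⁅K, (⊤ : Subgroup G)⁆ ⊔ L := le_sup_right
    have hK₁K : ⁅K, (⊤ : Subgroup G)⁆ ⊔ L ≤ K := sup_le (Subgroup.commutator_le_left K ⊤) hLK
    by_cases hEq : K ≤ ⁅K, (⊤ : Subgroup G)⁆ ⊔ L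
    · have hKL : K ≤ L := by
        have hmap : K.map (QuotientGroup.mk' L) ≤
            ⁅K.map (QuotientGroup.mk' L), (⊤ : Subgroup (G ⧸ L))⁆ := by
          calc K.map (QuotientGroup.mk' L)
              ≤ (⁅K, (⊤ : Subgroup G)⁆ ⊔ L).map (QuotientGroup.mk' L) := Subgroup.map_mono hEq
            _ = ⁅K.map (QuotientGroup.mk' L), (⊤ : Subgroup (G ⧸ L))⁆ := by
              rw [Subgroup.map_sup, Subgroup.map_commutator,
                (Subgroup.map_eq_bot_iff L).mpr (by rw [QuotientGroup.ker_mk']), sup_bot_eq,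
                Subgroup.map_top_of_surjective _ (QuotientGroup.mk'_surjective L)]
        have h0 := eq_bot_of_le_comm_top _ hmap
        rwa [Subgroup.map_eq_bot_iff, QuotientGroup.ker_mk'] at h0
      exact (iterTop_le K (m + 1)).trans hKL
    · have hmul := Subgroup.relIndex_mul_relIndex L (⁅K, (⊤ : Subgroup G)⁆ ⊔ L) K hLK₁ hK₁K
      have h1 : (⁅K, (⊤ : Subgroup G)⁆ ⊔ L).relIndex K ≠ 1 := by
        intro h; exact hEq (Subgroup.relIndex_eq_one.mp h)
      have h2 : (⁅K, (⊤ : Subgroup G)⁆ ⊔ L).relIndex K ∣ p ^ (m + 1) :=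
        Dvd.dvd.trans ⟨_, by rw [mul_comm]; exact hmul.symm⟩ hdvd
      obtain ⟨j, hj, hjeq⟩ := (Nat.dvd_prime_pow hp.out).mp h2
      have hj1 : 1 ≤ j := by
        rcases j with _ | j
        · simp at hjeq; exact absurd hjeq hEq
        · omega
      have h3 : L.relIndex (⁅K, (⊤ : Subgroup G)⁆ ⊔ L) ∣ p ^ m := by
        have h4 : L.relIndex (⁅K, (⊤ : Subgroup G)⁆ ⊔ L) * p ^ j ∣ p ^ (m + 1 - j) * p ^ j := by
          rw [← hjeq, hmul, hjeq, ← pow_add, Nat.sub_add_cancel hj]; exact hdvd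
        have h5 := Nat.dvd_of_mul_dvd_mul_right (pow_pos hp.out.pos j) h4
        exact h5.trans (pow_dvd_pow p (by omega))
      have h6 := ih (⁅K, (⊤ : Subgroup G)⁆ ⊔ L) hLK₁ h3
      calc iterTop K (m + 1) = iterTop ⁅K, (⊤ : Subgroup G)⁆ m := iterTop_succ' K m
        _ ≤ iterTop (⁅K, (⊤ : Subgroup G)⁆ ⊔ L) m := iterTop_mono le_sup_left m
        _ ≤ L := h6

theorem lcs_normal (N : Subgroup G) [hN : N.Normal] (j : ℕ) : (N.lowerCentralSeries j).Normal := by
  induction j with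
  | zero => exact hN
  | succ j ih =>
    have := ih
    rw [Subgroup.lowerCentralSeries_succ]
    infer_instance

end aux

/-- Let G be a finite p-group and n ≥ 1, and write γ_1(G) = G, γ_{k+1}(G) = [γ_k(G), G], and likewise γ_k(N) for a subgroup N. Let N be a normal subgroup of G contained in γ_n(G). If i > 1 and γ_{i+1}(N) ≠ 1, then |γ_i(N) : γ_{i+1}(N)| ≥ p^n. -/
theorem result {G : Type*} [Group G] [Finite G] {p : ℕ} [Fact p.Prime] (hG : IsPGroup p G) (n : ℕ) (hn : 1 ≤ n) (N : Subgroup G) [N.Normal] (hN : N ≤ (⊤ : Subgroup G).lowerCentralSeries (n - 1)) (i : ℕ) (hi : 1 < i) (hne : N.lowerCentralSeries i ≠ ⊥) : p ^ n ≤ (N.lowerCentralSeries i).relIndex (N.lowerCentralSeries (i - 1)) := by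
  have : Group.IsNilpotent G := hG.isNilpotent
  obtain ⟨i', rfl⟩ : ∃ i', i = i' + 1 := ⟨i - 1, by omega⟩
  simp only [Nat.add_sub_cancel] at *
  have : (N.lowerCentralSeries i').Normal := lcs_normal N i'
  have : (N.lowerCentralSeries (i' + 1)).Normal := lcs_normal N (i' + 1)
  have hLK : N.lowerCentralSeries (i' + 1) ≤ N.lowerCentralSeries i' :=
    N.lowerCentralSeries_antitone (Nat.le_succ i')
  obtain ⟨k, hk⟩ := (IsPGroup.iff_card).mp hG
  have hdvd : (N.lowerCentralSeries (i' + 1)).relIndex (N.lowerCentralSeries i') ∣ p ^ k := by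
    rw [← hk]
    exact (Subgroup.relIndex_dvd_card _ _).trans (Subgroup.card_subgroup_dvd_card _)
  obtain ⟨m, -, hm⟩ := (Nat.dvd_prime_pow (Fact.out : p.Prime)).mp hdvd
  rw [hm]
  by_contra hlt
  rw [not_le] at hlt
  have hmn : m < n := (Nat.pow_lt_pow_iff_right (Fact.out : p.Prime).one_lt).mp hlt
  have h1 : iterTop (N.lowerCentralSeries i') m ≤ N.lowerCentralSeries (i' + 1) :=
    iterTop_le_of_relIndex hG _ m _ hLK (by rw [hm])
  have h2 : N.lowerCentralSeries (i' + 1) ≤ ⁅N.lowerCentralSeries (i' + 1), (⊤ : Subgroup G)⁆ := by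
    calc N.lowerCentralSeries (i' + 1) = ⁅N.lowerCentralSeries i', N⁆ := rfl
      _ ≤ ⁅N.lowerCentralSeries i', (⊤ : Subgroup G).lowerCentralSeries m⁆ :=
          Subgroup.commutator_mono le_rfl
            (hN.trans (Subgroup.lowerCentralSeries_antitone _ (by omega)))
      _ ≤ iterTop (N.lowerCentralSeries i') (m + 1) := comm_lcs_le m _
      _ = ⁅iterTop (N.lowerCentralSeries i') m, (⊤ : Subgroup G)⁆ := rfl
      _ ≤ ⁅N.lowerCentralSeries (i' + 1), (⊤ : Subgroup G)⁆ := Subgroup.commutator_mono h1 le_rfl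
  exact hne (eq_bot_of_le_comm_top _ h2)

end Cfsg.Agent.S3781
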