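import Cfsg.Statements.S3784
import Mathlib
-- import your own Cfsg.Agent.* helpers here

set_option autoImplicit false
open Cfsg

namespace Cfsg.Agent.S3784

theorem odd_pow_modEq {x c : ℕ} (hx : 2 ^ (c + 1) ∣ x ^ 2 - 1) (hx1 : 1 ≤ x) {n : ℕ}
    (hn : Odd n) : x ^ n ≡ x [MOD 2 ^ (c + 1)] := by
  obtain ⟨k, rfl⟩ := hn
  have h1 : x ^ 2 ≡ 1 [MOD 2 ^ (c + 1)] :=
    ((Nat.modEq_iff_dvd' (Nat.one_le_pow _ _ hx1)).mpr hx).symm
  calc x ^ (2 * k + 1) = (x ^ 2) ^ k * x := by ring
    _ ≡ 1 ^ k * x [MOD 2 ^ (c + 1)] := (h1.pow k).mul_right x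
    _ = x := by simp

theorem two_pow_eq_of_modEq {a c : ℕ} (hca : c ≤ a) (h : 2 ^ a ≡ 2 ^ c [MOD 2 ^ (c + 1)]) :
    a = c := by
  by_contra hne
  have hlt : c + 1 ≤ a := by omega
  have h1 : 2 ^ (c + 1) ∣ 2 ^ a := pow_dvd_pow 2 hlt
  have h2 : 2 ^ (c + 1) ∣ 2 ^ c := (Nat.modEq_zero_iff_dvd.mp
    (h.symm.trans (Nat.modEq_zero_iff_dvd.mpr h1)))
  have h3 := (Nat.pow_dvd_pow_iff_le_right (by norm_num : 1 < 2)).mp h2
  omega

theorem lemmaA {q c a b : ℕ} (hq : 2 ≤ q) (hqo : Odd q) (hc : q + 1 = 2 ^ c) (hca : c ≤ a)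
    (hb : Odd b) (h : 2 ^ a = q ^ b + 1) : b = 1 := by
  have hdvd : 2 ^ (c + 1) ∣ q ^ 2 - 1 := by
    obtain ⟨m, hm⟩ := hqo
    have h1 : q ^ 2 - 1 = (q + 1) * (q - 1) := by
      have := Nat.sq_sub_sq q 1
      simpa using this
    rw [h1, hc, pow_succ]
    exact Nat.mul_dvd_mul_left _ ⟨m, by omega⟩
  have h2 := odd_pow_modEq hdvd (by omega) hb
  have h3 : 2 ^ a ≡ 2 ^ c [MOD 2 ^ (c + 1)] := by
    rw [h, ← hc]
    exact h2.add_right 1
  have hac := two_pow_eq_of_modEq hca h3
  subst hac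
  have h4 : q ^ b = q ^ 1 := by rw [pow_one]; omega
  exact Nat.pow_right_injective hq h4

theorem lemmaB {p c a b : ℕ} (hp : 3 ≤ p) (hpo : Odd p) (hc : p = 2 ^ c + 1) (hcb : c ≤ b)
    (ha : Odd a) (h : p ^ a = 2 ^ b + 1) : a = 1 := by
  have hdvd : 2 ^ (c + 1) ∣ p ^ 2 - 1 := by
    obtain ⟨m, hm⟩ := hpo
    have h1 : p ^ 2 - 1 = (p + 1) * (p - 1) := by
      have := Nat.sq_sub_sq p 1
      simpa using this
    have h5 : p - 1 = 2 ^ c := by omega
    rw [h1, h5, pow_succ, mul_comm (p + 1)]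
    exact Nat.mul_dvd_mul_left _ ⟨m + 1, by omega⟩
  have h2 := odd_pow_modEq hdvd (by omega) ha
  have h3 : 2 ^ b ≡ 2 ^ c [MOD 2 ^ (c + 1)] := by
    have h4 : 2 ^ b + 1 ≡ 2 ^ c + 1 [MOD 2 ^ (c + 1)] := by
      rw [← h, ← hc]; exact h2
    exact Nat.ModEq.add_right_cancel' 1 h4
  have hbc := two_pow_eq_of_modEq hcb h3
  subst hbc
  have h4 : p ^ a = p ^ 1 := by rw [pow_one]; omega
  exact Nat.pow_right_injective (by omega) h4

/-- Let p, q be primes and a, b positive integers with p^a = q^b + 1. Then either p = 2, b = 1, a is prime and q = 2^a − 1; or q = 2, a = 1, b is a power of 2 and p = 2^b + 1; or p^a = 9 and q^b = 8. -/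
theorem result (p q a b : ℕ) (hp : p.Prime) (hq : q.Prime) (ha : 1 ≤ a) (hb : 1 ≤ b) (h : p ^ a = q ^ b + 1) : (p = 2 ∧ b = 1 ∧ a.Prime ∧ q + 1 = 2 ^ a) ∨ (q = 2 ∧ a = 1 ∧ (∃ m : ℕ, b = 2 ^ m) ∧ p = 2 ^ b + 1) ∨ (p ^ a = 9 ∧ q ^ b = 8) := by
  have hp2 := hp.two_le
  have hq2 := hq.two_le
  rcases Nat.even_or_odd p with hpe | hpo
  · -- p = 2
    have hp2' : p = 2 := (Nat.Prime.even_iff hp).mp hpe
    subst hp2'
    left
    have hqo : Odd q := by
      by_contra hne
      rw [Nat.not_odd_iff_even] at hne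
      have h1 : Even (q ^ b) := (Nat.even_pow.mpr ⟨hne, by omega⟩)
      have h2 : Even (2 ^ a) := (Nat.even_pow.mpr ⟨even_two, by omega⟩)
      rw [h, Nat.even_add_one] at h2
      exact h2 h1
    have hbo : Odd b := by
      by_contra hne
      rw [Nat.not_odd_iff_even] at hne
      obtain ⟨k, rfl⟩ := hne
      have hq4 : q ^ 2 % 4 = 1 := by
        have h1 : q % 4 = 1 ∨ q % 4 = 3 := by
          have := Nat.odd_iff.mp hqo
          omega
        rcases h1 with h1 | h1 <;> simp [Nat.pow_mod, h1]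
      have h4 : (q ^ (k + k)) % 4 = 1 := by
        rw [← two_mul, pow_mul, Nat.pow_mod, hq4]
        simp
      have ha1 : a = 1 := by
        by_contra hne
        have h5 : 4 ∣ 2 ^ a := by
          have : (2 : ℕ) ^ 2 ∣ 2 ^ a := pow_dvd_pow 2 (by omega)
          simpa using this
        omega
      subst ha1
      have h6 : q ≤ q ^ (k + k) := Nat.le_self_pow (by omega) q
      omega
    have hdvd : q + 1 ∣ 2 ^ a := by
      have := Odd.nat_add_dvd_pow_add_pow q 1 hbo
      rw [one_pow, ← h] at this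
      exact this
    obtain ⟨c, hca, hc⟩ := (Nat.dvd_prime_pow Nat.prime_two).mp hdvd
    have hb1 : b = 1 := lemmaA hq2 hqo hc hca hbo h
    subst hb1
    rw [pow_one] at h
    refine ⟨rfl, rfl, ?_, h.symm⟩
    have ha1 : a ≠ 1 := by
      rintro rfl
      omega
    have hP : (2 ^ a - 1).Prime := by
      have : 2 ^ a - 1 = q := by omega
      rw [this]; exact hq
    exact (Nat.prime_of_pow_sub_one_prime ha1 hP).2
  · -- p odd, so q = 2
    have hqe : q = 2 := by
      have h1 : Odd (p ^ a) := hpo.pow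
      rw [h] at h1
      have h2 : Even (q ^ b) := by
        by_contra hne
        rw [Nat.not_even_iff_odd] at hne
        have := hne.add_one
        exact (Nat.not_even_iff_odd.mpr h1) this
      exact (Nat.Prime.even_iff hq).mp (Nat.even_pow.mp h2).1
    subst hqe
    right
    have hp3 : 3 ≤ p := by
      rcases hpo with ⟨m, rfl⟩
      omega
    by_cases ha1 : a = 1
    · left
      subst ha1
      rw [pow_one] at h
      refine ⟨rfl, rfl, ?_, h⟩
      exact Nat.pow_of_pow_add_prime (by norm_num) (by omega) (h ▸ hp)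
    · right
      have hdvd : p - 1 ∣ 2 ^ b := by
        have := Nat.sub_dvd_pow_sub_pow p 1 a
        rw [one_pow, h] at this
        simpa using this
      obtain ⟨c, hcb, hc⟩ := (Nat.dvd_prime_pow Nat.prime_two).mp hdvd
      rcases Nat.even_or_odd a with hae | hao
      · obtain ⟨k, rfl⟩ := hae
        have hk : 1 ≤ k := by omega
        have hpk : 3 ≤ p ^ k := le_trans hp3 (Nat.le_self_pow (by omega) p)
        have hfac : (p ^ k - 1) * (p ^ k + 1) = 2 ^ b := by
          have h1 : p ^ (k + k) = p ^ k * p ^ k := pow_add p k k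
          have h2 : (p ^ k - 1) * (p ^ k + 1) = p ^ k * p ^ k - 1 := by
            obtain ⟨t, ht⟩ : ∃ t, p ^ k = t + 1 := ⟨p ^ k - 1, by omega⟩
            rw [ht]
            simp only [Nat.add_sub_cancel]
            ring_nf
            omega
          rw [h2, ← h1, h]
          simp
        obtain ⟨u, -, hu⟩ := (Nat.dvd_prime_pow Nat.prime_two).mp (Dvd.intro _ hfac)
        obtain ⟨v, -, hv⟩ := (Nat.dvd_prime_pow Nat.prime_two).mp (Dvd.intro_left _ hfac)
        have huv : 2 ^ v = 2 ^ u + 2 := by omega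
        have hu1 : u = 1 := by
          rcases u with _ | _ | u
          · simp at hu; omega
          · rfl
          · exfalso
            have h4 : 4 ∣ 2 ^ (u + 1 + 1) := by
              have : (2 : ℕ) ^ 2 ∣ 2 ^ (u + 1 + 1) := pow_dvd_pow 2 (by omega)
              simpa using this
            rcases v with _ | _ | v
            · simp at huv
            · simp at huv
            · have h5 : 4 ∣ 2 ^ (v + 1 + 1) := by
                have : (2 : ℕ) ^ 2 ∣ 2 ^ (v + 1 + 1) := pow_dvd_pow 2 (by omega)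
                simpa using this
              omega
        subst hu1
        have hpk3 : p ^ k = 3 := by omega
        have hp3' : p = 3 := by
          have h1 : p ∣ 3 := by
            rw [← hpk3]; exact dvd_pow_self p (by omega)
          exact (Nat.prime_dvd_prime_iff_eq hp Nat.prime_three).mp h1
        subst hp3'
        have hk1 : k = 1 := by
          have : 3 ^ k = 3 ^ 1 := by simpa using hpk3
          exact Nat.pow_right_injective (le_refl 2 |>.trans (by norm_num)) this
        subst hk1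
        constructor
        · norm_num
        · have : 3 ^ (1 + 1) = 9 := by norm_num
          omega
      · exfalso
        exact ha1 (lemmaB hp3 hpo (by omega) hcb hao h)

end Cfsg.Agent.S3784
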