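import Cfsg.Statements.S3786
import Mathlib
import Cfsg.Agent.Lib.helper5.HHTwoLayerB
import Cfsg.Agent.Lib.helper86.HHKC
import Cfsg.Agent.Lib.helper66.PLengthSeries
-- import your own Cfsg.Agent.* helpers here

set_option autoImplicit false
open Cfsg

namespace Cfsg.Agent.S3786

open Cfsg.Agent.Lib.helper3 Cfsg.Agent.Lib.helper40.HHD Cfsg.Agent.Lib.helper38.HHB
open Cfsg.Agent.Lib.helper66 Cfsg.Agent.Lib.helper5

universe u

/-- The cyclic group generated by a `p`-element is a `p`-group. -/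
theorem zpowers_isPGroup {G : Type u} [Group G] {p : ℕ} (g : G) (hg : ∃ k : ℕ, g ^ p ^ k = 1) :
    IsPGroup p (Subgroup.zpowers g) := by
  obtain ⟨k₀, hk₀⟩ := hg
  rintro ⟨y, hy⟩
  obtain ⟨j, rfl⟩ := Subgroup.mem_zpowers_iff.mp hy
  refine ⟨k₀, Subtype.ext ?_⟩
  show (g ^ j) ^ p ^ k₀ = 1
  rw [← zpow_natCast, ← zpow_mul, mul_comm, zpow_mul, zpow_natCast, hk₀, one_zpow]

/-- `p`-elements of a quotient lift to `p`-elements. -/
theorem lift_pelement {G : Type u} [Group G] [Finite G] {p : ℕ} [Fact p.Prime] (N : Subgroup G)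
    [N.Normal] (y : G ⧸ N) (hy : ∃ k : ℕ, y ^ p ^ k = 1) :
    ∃ g : G, (∃ k : ℕ, g ^ p ^ k = 1) ∧ QuotientGroup.mk' N g = y := by
  obtain ⟨Q, hQ⟩ := (zpowers_isPGroup y hy).exists_le_sylow
  obtain ⟨S, rfl⟩ := Sylow.mapSurjective_surjective (QuotientGroup.mk'_surjective N) p Q
  have h1 := hQ (Subgroup.mem_zpowers y)
  rw [Sylow.coe_mapSurjective] at h1
  obtain ⟨s, hs, rfl⟩ := h1
  refine ⟨s, ?_, rfl⟩
  obtain ⟨k, hk⟩ := S.isPGroup' ⟨s, hs⟩
  exact ⟨k, by have := congrArg Subtype.val hk; simpa using this⟩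

/-- **One-layer lemma** (from Hall–Higman Theorem B). -/
theorem one_layer {G : Type u} [Group G] [Finite G] {p : ℕ} [Fact p.Prime] (hp2 : p ≠ 2)
    (hsol : Cfsg.IsPSolvable p G) (hOp' : Cfsg.pPrimeCore p G = ⊥)
    (hnf : (¬ ∃ k : ℕ, p = 2 ^ k + 1) ∨ ∀ S : Sylow 2 G, IsMulCommutative (S : Subgroup G))
    (n : ℕ) (hn : 1 ≤ n) (hexp : ∀ g : G, (∃ k : ℕ, g ^ p ^ k = 1) → g ^ p ^ n = 1) :
    ∀ g : G, (∃ k : ℕ, g ^ p ^ k = 1) → g ^ p ^ (n - 1) ∈ Cfsg.pCore p G := by
  classical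
  have hp : p.Prime := Fact.out
  intro g hg
  by_contra hnot
  obtain ⟨π, hπdef⟩ : ∃ π : G →* G ⧸ Cfsg.pCore p G, π = QuotientGroup.mk' (Cfsg.pCore p G) :=
    ⟨_, rfl⟩
  have hπ : Function.Surjective π := by rw [hπdef]; exact QuotientGroup.mk'_surjective _
  obtain ⟨S, hS⟩ := (zpowers_isPGroup g hg).exists_le_sylow
  have hgS : g ∈ (S : Subgroup G) := hS (Subgroup.mem_zpowers g)
  have hSexp : ∀ s ∈ (S : Subgroup G), s ^ p ^ n = 1 := by
    intro s hs
    apply hexp
    obtain ⟨k, hk⟩ := S.isPGroup' ⟨s, hs⟩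
    exact ⟨k, by have := congrArg Subtype.val hk; simpa using this⟩
  have hRS : Cfsg.pCore p G ≤ (S : Subgroup G) := Cfsg.Agent.Lib.helper55.pCore_le_sylow S
  obtain ⟨ρ, hρinj, hρ⟩ := exists_dual_rep hsol hOp'
  have hsolH : Cfsg.IsPSolvable p (G ⧸ Cfsg.pCore p G) :=
    Cfsg.Agent.Lib.helper38.isPSolvable_quotient (Cfsg.pCore p G) hsol
  have hOpH : Cfsg.pCore p (G ⧸ Cfsg.pCore p G) = ⊥ :=
    Cfsg.Agent.Lib.helper51.pCore_quotient_pCore_eq_bot p
  have hfin : Finite (Additive ↥(Cfsg.pCore p G) →+ ZMod p) :=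
    Finite.of_injective (fun f => (f : Additive ↥(Cfsg.pCore p G) → ZMod p))
      DFunLike.coe_injective
  have hfd : FiniteDimensional (ZMod p) (Additive ↥(Cfsg.pCore p G) →+ ZMod p) :=
    Module.Finite.of_finite
  have hexc : (ρ (π g) - 1) ^ (p ^ n - 1) = 0 := by
    rw [hπdef, hρ]
    have h1 := tl_exceptional p (Cfsg.pCore p G) g⁻¹ n
      (hSexp _ ((S : Subgroup G).inv_mem hgS))
      (fun r hr => hSexp _ ((S : Subgroup G).mul_mem ((S : Subgroup G).inv_mem hgS) (hRS hr)))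
    rwa [inv_inv] at h1
  have hord : orderOf (π g) = p ^ n := by
    have h1 := orderOf_eq_prime_pow (p := p) (n := n - 1) (x := π g)
      (by
        intro h
        apply hnot
        rw [← map_pow, hπdef, QuotientGroup.mk'_apply, QuotientGroup.eq_one_iff] at h
        exact h)
      (by rw [Nat.sub_add_cancel hn, ← map_pow, hSexp g hgS, map_one])
    rwa [Nat.sub_add_cancel hn] at h1
  have hB := theoremB_rep ρ hρinj hsolH hOpH (π g) n hn hord (p ^ n - 1) hexc
  rcases hB with h | ⟨n₀, q, m, h1, h2, hq, hqp, hm, h5, hnab, h6⟩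
  · have : 0 < p ^ n := pow_pos hp.pos _
    omega
  · have hq2 : q = 2 := by
      have hodd : Odd (p ^ n₀) := (hp.odd_of_ne_two hp2).pow
      have heven : Even (p ^ n₀ - 1) := Nat.Odd.sub_odd hodd odd_one
      rw [h5] at heven
      have h2dvd : 2 ∣ q ^ m := even_iff_two_dvd.mp heven
      exact ((Nat.prime_dvd_prime_iff_eq Nat.prime_two hq).mp
        (Nat.Prime.dvd_of_dvd_pow Nat.prime_two h2dvd)).symm
    subst hq2
    rcases hnf with hnf | hnf
    · apply hnf
      have hdvd : p - 1 ∣ 2 ^ m := by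
        have h7 := Nat.sub_dvd_pow_sub_pow p 1 n₀
        rw [one_pow, h5] at h7
        exact h7
      obtain ⟨k, -, hk⟩ := (Nat.dvd_prime_pow Nat.prime_two).mp hdvd
      refine ⟨k, ?_⟩
      have := hp.pos
      omega
    · obtain ⟨S₂⟩ : Nonempty (Sylow 2 G) := inferInstance
      apply hnab (S₂.mapSurjective hπ)
      have : IsMulCommutative (S₂ : Subgroup G) := hnf S₂
      show IsMulCommutative ((S₂ : Subgroup G).map π)
      infer_instance

/-- The induction on the exponent. -/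
theorem plength_induct {p : ℕ} [Fact p.Prime] (c : ℕ)
    (Pr : ∀ (G : Type u) [Group G] [Finite G], Prop)
    (hquot : ∀ (G : Type u) [Group G] [Finite G] (N : Subgroup G) [N.Normal], Pr G → Pr (G ⧸ N))
    (hlayer : ∀ (G : Type u) [Group G] [Finite G], Pr G → Cfsg.pPrimeCore p G = ⊥ →
      ∀ n : ℕ, 1 ≤ n → (∀ g : G, (∃ k : ℕ, g ^ p ^ k = 1) → g ^ p ^ n = 1) →
      ∀ g : G, (∃ k : ℕ, g ^ p ^ k = 1) →
        g ^ p ^ (n - 1) ∈ (Cfsg.upperPSeries p G (2 * c + 2)).1) :
    ∀ (e : ℕ) (G : Type u) [Group G] [Finite G], Pr G →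
      (∀ g : G, (∃ k : ℕ, g ^ p ^ k = 1) → g ^ p ^ e = 1) →
      Cfsg.PLengthLE p ((c + 1) * e) G := by
  have hp : p.Prime := Fact.out
  intro e
  induction e with
  | zero =>
    intro G _ _ _ hexp
    rw [Nat.mul_zero]
    apply PLengthLE.zero_of_coprime
    rw [Nat.coprime_comm, hp.coprime_iff_not_dvd]
    intro hdvd
    obtain ⟨g, hg⟩ := exists_prime_orderOf_dvd_card' p hdvd
    have h1 : g ^ p ^ 0 = 1 := hexp g ⟨1, by rw [pow_one, ← hg, pow_orderOf_eq_one]⟩
    rw [pow_zero, pow_one] at h1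
    rw [h1, orderOf_one] at hg
    exact hp.one_lt.ne hg
  | succ e ih =>
    intro G _ _ hPr hexp
    -- the quotient by `O_{p'}(G)`
    have hN₀n : (Cfsg.pPrimeCore p G).Normal := Cfsg.Agent.Lib.helper40.pPrimeCore_normal' p G
    have hN₀ : Cfsg.PLengthLE p 0 ↥(Cfsg.pPrimeCore p G) :=
      PLengthLE.zero_of_coprime (Cfsg.Agent.Lib.helper40.pPrimeCore_card_coprime p G)
    have hlay := hlayer (G ⧸ Cfsg.pPrimeCore p G) (hquot G _ hPr)
      (pPrimeCore_quotient_pPrimeCore p) (e + 1) (by omega)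
      (by
        intro y hy
        obtain ⟨g, hg, rfl⟩ := lift_pelement _ y hy
        rw [← map_pow, hexp g hg, map_one])
    have hcm := comap_upperPSeries_quotient_le p (Cfsg.pPrimeCore p G) 0 hN₀ (2 * c + 1)
    have hmem : ∀ g : G, (∃ k : ℕ, g ^ p ^ k = 1) →
        g ^ p ^ e ∈ (Cfsg.upperPSeries p G (2 * c + 2)).1 := by
      intro g hg
      have h1 := hlay (QuotientGroup.mk' _ g) (by
        obtain ⟨k, hk⟩ := hg
        exact ⟨k, by rw [← map_pow, hk, map_one]⟩)
      rw [Nat.add_sub_cancel, ← map_pow] at h1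
      have h2 := hcm (Subgroup.mem_comap.mpr h1)
      have h3 : 2 * 0 + 1 + (2 * c + 1) = 2 * c + 2 := by ring
      rwa [h3] at h2
    -- the normal subgroup `N = U_{2c+2}(G)` has `p`-length at most `c + 1`
    have hN : Cfsg.PLengthLE p (c + 1) ↥(Cfsg.upperPSeries p G (2 * c + 2)).1 := by
      unfold Cfsg.PLengthLE
      have h1 := subgroupOf_upperPSeries_le p (Cfsg.upperPSeries p G (2 * c + 2)).1
        (2 * (c + 1) + 1)
      have h2 : (Cfsg.upperPSeries p G (2 * c + 2)).1 ≤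
          (Cfsg.upperPSeries p G (2 * (c + 1) + 1)).1 := upperPSeries_le_succ p G (2 * c + 2)
      rw [Subgroup.subgroupOf_eq_top.mpr h2] at h1
      exact top_le_iff.mp h1
    -- the quotient
    have hQ : Cfsg.PLengthLE p ((c + 1) * e) (G ⧸ (Cfsg.upperPSeries p G (2 * c + 2)).1) := by
      apply ih _ (hquot G _ hPr)
      intro y hy
      obtain ⟨g, hg, rfl⟩ := lift_pelement _ y hy
      rw [← map_pow, QuotientGroup.mk'_apply, QuotientGroup.eq_one_iff]
      exact hmem g hg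
    have h4 := PLengthLE.of_normal_of_quotient _ hN hQ
    have h5 : (c + 1) + (c + 1) * e = (c + 1) * (e + 1) := by ring
    rwa [h5] at h4

/-- The Hall–Higman bound on p-length. Let p be an odd prime and G a finite p-soluble group whose Sylow p-subgroups have exponent dividing p^e. (a) If p is not of the form 2^k + 1, or if the Sylow 2-subgroups of G are abelian, then G has p-length at most e. (b) In every case G has p-length at most 2e. -/
theorem result {G : Type*} [Group G] [Finite G] {p : ℕ} [Fact p.Prime] (hp : p ≠ 2) (hG : Cfsg.IsPSolvable p G) (e : ℕ) (hexp : ∀ (P : Sylow p G), ∀ x ∈ (P : Subgroup G), x ^ p ^ e = 1) : (((¬ ∃ k : ℕ, p = 2 ^ k + 1) ∨ ∀ S : Sylow 2 G, IsMulCommutative (S : Subgroup G)) → Cfsg.PLengthLE p e G) ∧ Cfsg.PLengthLE p (2 * e) G := by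
  have hexp' : ∀ g : G, (∃ k : ℕ, g ^ p ^ k = 1) → g ^ p ^ e = 1 := by
    intro g hg
    obtain ⟨S, hS⟩ := (zpowers_isPGroup g hg).exists_le_sylow
    exact hexp S g (hS (Subgroup.mem_zpowers g))
  refine ⟨fun hnf => ?_, ?_⟩
  · have h1 := plength_induct (p := p) 0
      (fun (H : Type _) [Group H] [Finite H] => Cfsg.IsPSolvable p H ∧
        ((¬ ∃ k : ℕ, p = 2 ^ k + 1) ∨ ∀ S : Sylow 2 H, IsMulCommutative (S : Subgroup H)))
      (by
        intro H _ _ N _ hH
        refine ⟨Cfsg.Agent.Lib.helper38.isPSolvable_quotient N hH.1, ?_⟩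
        rcases hH.2 with h | h
        · exact Or.inl h
        · right
          intro Q
          obtain ⟨S, rfl⟩ := Sylow.mapSurjective_surjective (QuotientGroup.mk'_surjective N) 2 Q
          have : IsMulCommutative (S : Subgroup H) := h S
          show IsMulCommutative ((S : Subgroup H).map (QuotientGroup.mk' N))
          infer_instance)
      (by
        intro H _ _ hH hOp' n hn hex g hg
        have h2 : Cfsg.pCore p H ≤ (Cfsg.upperPSeries p H 2).1 := by
          apply le_upperPSeries_succ p 1 ⊥ (Cfsg.pCore p H) bot_le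
          rw [isStepFactor_of_not_even (by decide), Subgroup.relIndex_bot_left]
          exact IsPGroup.iff_card.mp (Cfsg.Agent.Lib.helper40.pCore_isPGroup p H)
        exact h2 (one_layer hp hH.1 hOp' hH.2 n hn hex g hg))
      e G ⟨hG, hnf⟩ hexp'
    rwa [Nat.zero_add, Nat.one_mul] at h1
  · have h1 := plength_induct (p := p) 1
      (fun (H : Type _) [Group H] [Finite H] => Cfsg.IsPSolvable p H)
      (by
        intro H _ _ N _ hH
        exact Cfsg.Agent.Lib.helper38.isPSolvable_quotient N hH)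
      (by
        intro H _ _ hH hOp' n hn hex g hg
        exact two_layer_of_kc hp
          (fun H _ _ V _ _ _ ρ hinj hsol hOp x' x'' hD n hn h1 h2 hs1 hs2 =>
            Cfsg.Agent.Lib.helper86.HHKC.kc hp ρ hinj hsol hOp x' x'' hD n hn h1 h2 hs1 hs2)
          hH hOp' n hn hex g hg)
      e G hG hexp'
    exact h1

end Cfsg.Agent.S3786
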