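import Cfsg.Statements.S3788
import Mathlib
import Cfsg.Agent.Lib.helper66.FrobIdentity
import Cfsg.Agent.Lib.helper66.DualHH
import Cfsg.Agent.Lib.helper66.PLengthSeries
import Cfsg.Agent.Lib.helper66.ConjRep
import Cfsg.Agent.Lib.helper66.CyclicNormal
import Cfsg.Agent.Lib.helper66.FourGroupS4
import Cfsg.Agent.Lib.helper38.HallHigman
import Cfsg.Agent.Lib.helper38.HallHigman2
import Cfsg.Agent.Lib.helper69.CoprimeAut
import Cfsg.Agent.Lib.helper3.PGroupFrattini
import Cfsg.Agent.Lib.helper40.Cores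
import Cfsg.Agent.Lib.helper51.Involves
import Cfsg.Agent.Lib.helper53.PIrr

set_option autoImplicit false
set_option linter.style.haveILetI false
set_option linter.unusedSectionVars false
open Cfsg

namespace Cfsg.Agent.S3788

open Cfsg.Agent.Lib.helper66 Cfsg.Agent.Lib.helper27

open scoped commutatorElement

open scoped IsMulCommutative in
/-- The main step: `V = O_p(G)` elementary abelian and self-centralising, `a^p ∈ V` and
`[a, V] ≤ ⟨a^p⟩`; then `a ∈ V` (for `p` odd, or `G` being `S₄`-free). -/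
theorem mainThm {G : Type*} [Group G] [Finite G] {p : ℕ} [hp : Fact p.Prime]
    (hG : Cfsg.IsPSolvable p G)
    (hVc : ∀ v ∈ Cfsg.pCore p G, ∀ w ∈ Cfsg.pCore p G, v * w = w * v)
    (hVp : ∀ v ∈ Cfsg.pCore p G, v ^ p = 1)
    (hCV : Subgroup.centralizer (Cfsg.pCore p G : Set G) ≤ Cfsg.pCore p G)
    (a : G) (hap : a ^ p ∈ Cfsg.pCore p G)
    (hcomm : ∀ v ∈ Cfsg.pCore p G, ∃ m : ℤ, a * v * a⁻¹ * v⁻¹ = (a ^ p) ^ m)
    (hS4 : p ≠ 2 ∨ ¬ Cfsg.Involves (Equiv.Perm (Fin 4)) G) : a ∈ Cfsg.pCore p G := by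
  classical
  set V := Cfsg.pCore p G with hV
  by_contra haV
  set α : G ⧸ V := QuotientGroup.mk a with hα
  have hα1 : α ≠ 1 := fun h => haV ((QuotientGroup.eq_one_iff a).mp h)
  have hαp : α ^ p = 1 := by
    rw [hα, ← QuotientGroup.mk_pow]
    exact (QuotientGroup.eq_one_iff _).mpr hap
  have hαord : orderOf α = p := orderOf_eq_prime hαp hα1
  have hOp : Cfsg.pCore p (G ⧸ V) = ⊥ := pCore_quotient_pCore p
  have hGb : Cfsg.IsPSolvable p (G ⧸ V) := Cfsg.Agent.Lib.helper38.isPSolvable_quotient V hG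
  have hCK := centralizer_pPrimeCore_le_of_isPSolvable hGb hOp
  set K := Cfsg.pPrimeCore p (G ⧸ V) with hK
  have hKcop : (Nat.card K).Coprime p := pPrimeCore_coprime p
  have hαK : α ∉ K := by
    intro hmem
    have h1 : orderOf α ∣ Nat.card K := by
      have := orderOf_dvd_natCard (⟨α, hmem⟩ : ↥K)
      rwa [Subgroup.orderOf_mk] at this
    rw [hαord] at h1
    exact hp.out.one_lt.ne' (Nat.Coprime.eq_one_of_dvd hKcop.symm h1)
  have hnc : ¬ ∀ k ∈ K, α * k * α⁻¹ = k := by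
    intro hall
    apply hαK
    apply hCK
    rw [Subgroup.mem_centralizer_iff]
    intro k hk
    have h1 := hall k hk
    have h2 := congrArg (fun t => t * α) h1
    simpa using h2.symm
  by_cases hp2 : p = 2
  · subst hp2
    have hS4' : ¬ Cfsg.Involves (Equiv.Perm (Fin 4)) G := by
      rcases hS4 with h | h
      · exact absurd rfl h
      · exact h
    apply hS4'
    push Not at hnc
    obtain ⟨k, hkK, hk⟩ := hnc
    obtain ⟨g, rfl⟩ := QuotientGroup.mk_surjective k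
    set m := Nat.card K with hm
    have hmodd : Odd m := Nat.coprime_two_right.mp hKcop
    have e : (QuotientGroup.mk (a * g * a⁻¹ * g⁻¹) : G ⧸ V)
        = (α * QuotientGroup.mk g * α⁻¹) * (QuotientGroup.mk g)⁻¹ := rfl
    refine involves_s4_of_quadratic_pair V hVc hVp hCV a hap hcomm g m hmodd ?_ ?_
    · rw [← QuotientGroup.eq_one_iff, QuotientGroup.mk_pow]
      have hmem : (QuotientGroup.mk (a * g * a⁻¹ * g⁻¹) : G ⧸ V) ∈ K := by
        rw [e]
        exact K.mul_mem ((inferInstance : K.Normal).conj_mem _ hkK α) (K.inv_mem hkK)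
      have h1 : (⟨_, hmem⟩ : ↥K) ^ m = 1 := pow_card_eq_one'
      simpa using congrArg Subtype.val h1
    · intro hmem
      apply hk
      have h1 := (QuotientGroup.eq_one_iff _).mpr hmem
      rw [e] at h1
      exact mul_inv_eq_one.mp h1
  · apply hnc
    haveI : IsMulCommutative ↥V := ⟨⟨fun v w => Subtype.ext (hVc v v.2 w w.2)⟩⟩
    set ρ := conjRep V with hρ
    have hfaith : ∀ γ, ρ γ = 1 → γ = 1 := conjRep_faithful V hCV
    have hW : ∀ w : Additive ↥V, p • w = 0 := nsmul_additive_eq_zero V hVp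
    set c : Additive ↥V := Additive.ofMul ⟨a ^ p, hap⟩ with hc
    have hδ : ∀ w, ∃ m : ℤ, ρ α w - w = m • c := by
      intro w
      obtain ⟨v, rfl⟩ : ∃ v : ↥V, Additive.ofMul v = w := ⟨Additive.toMul w, rfl⟩
      obtain ⟨m, hm⟩ := hcomm v v.2
      refine ⟨m, ?_⟩
      rw [hρ, hα, conjRep_mk, ← ofMul_div, hc, ← ofMul_zpow]
      congr 1
      apply Subtype.ext
      rw [div_eq_mul_inv]
      simp only [Subgroup.coe_mul, Subgroup.coe_inv, MulAut.conjNormal_apply, Subgroup.coe_zpow]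
      exact hm
    have hαc : ρ α c = c := by
      rw [hρ, hα, hc, conjRep_mk]
      congr 1
      apply Subtype.ext
      rw [MulAut.conjNormal_apply]
      show a * a ^ p * a⁻¹ = a ^ p
      rw [← pow_succ', pow_succ, mul_inv_cancel_right]
    have hpEnd : ∀ φ : AddMonoid.End (Additive ↥V), p • φ = 0 := by
      intro φ
      refine AddMonoidHom.ext (fun w => ?_)
      exact hW (φ w)
    have hδ2 : (ρ α - 1) * (ρ α - 1) = 0 := by
      refine AddMonoidHom.ext (fun w => ?_)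
      obtain ⟨m, hm⟩ := hδ w
      change ρ α (ρ α w - w) - (ρ α w - w) = 0
      rw [hm, map_zsmul, hαc, sub_self]
    have hsum : ∑ i ∈ Finset.range p, ρ α ^ i = 0 := by
      have h1 : ∀ i : ℕ, ρ α ^ i = 1 + i • (ρ α - 1) := by
        intro i
        have := one_add_pow_of_mul_self_eq_zero (ρ α - 1) hδ2 i
        rwa [add_sub_cancel] at this
      rw [Finset.sum_congr rfl (fun i _ => h1 i), Finset.sum_add_distrib, Finset.sum_const,
        Finset.card_range, hpEnd, zero_add, ← Finset.sum_smul]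
      obtain ⟨j, hj⟩ : ∃ j, p = 2 * j + 1 := (hp.out.eq_two_or_odd'.resolve_left hp2)
      have h2 : ∑ i ∈ Finset.range p, i = j * p := by
        rw [Finset.sum_range_id, hj]
        have : (2 * j + 1) * (2 * j + 1 - 1) = (j * (2 * j + 1)) * 2 := by
          rw [Nat.add_sub_cancel]
          ring
        rw [this, Nat.mul_div_cancel _ (by norm_num : 0 < 2)]
      rw [h2, mul_nsmul, hpEnd]
    have hfix : ∀ γ, Commute γ α → ρ γ c = c := by
      intro γ hγ
      obtain ⟨g, rfl⟩ := QuotientGroup.mk_surjective γ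
      have hv₀ : g * a * g⁻¹ * a⁻¹ ∈ V := by
        rw [← QuotientGroup.eq_one_iff]
        have e : (QuotientGroup.mk (g * a * g⁻¹ * a⁻¹) : G ⧸ V)
            = QuotientGroup.mk g * α * (QuotientGroup.mk g)⁻¹ * α⁻¹ := rfl
        rw [e, hγ.eq]
        group
      have h1 := conjRep_sum_pow V a ⟨_, hv₀⟩ p
      rw [← hα, ← hρ, hsum] at h1
      have h2 : ((g * a * g⁻¹ * a⁻¹) * a) ^ p * (a ^ p)⁻¹ = 1 := by
        have := congrArg (fun w : Additive ↥V => ((Additive.toMul w : ↥V) : G)) h1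
        exact this.symm
      rw [hρ, hc, conjRep_mk]
      congr 1
      apply Subtype.ext
      rw [MulAut.conjNormal_apply]
      show g * a ^ p * g⁻¹ = a ^ p
      have h3 : (g * a * g⁻¹ * a⁻¹) * a = g * a * g⁻¹ := by group
      rw [h3, conj_pow] at h2
      exact mul_inv_eq_one.mp h2
    have hkey : ∀ (q : ℕ) [Fact q.Prime], q ≠ p → ∀ Q : Subgroup (G ⧸ V), IsPGroup q ↥Q →
        (∀ k ∈ Q, α * k * α⁻¹ ∈ Q) → ∀ k ∈ Q, α * k * α⁻¹ = k := by
      intro q _ hqp Q hQq hQα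
      exact centralizes_invariant_qGroup ρ hfaith hW α hαp c hδ hsum hfix hqp (Nat.card Q) Q
        le_rfl hQq hQα
    exact centralizes_normal_pPrime K hKcop α hαp hkey

/-- The reduction to the Frattini quotient of `O_p(G)` when `O_{p'}(G) = 1`. -/
theorem mem_pCore_of_cyclic {G : Type*} [Group G] [Finite G] {p : ℕ} [hp : Fact p.Prime]
    (hG : Cfsg.IsPSolvable p G) (hO : Cfsg.pPrimeCore p G = ⊥)
    (hS4 : p ≠ 2 ∨ ¬ Cfsg.Involves (Equiv.Perm (Fin 4)) G)
    (g : G) (hgp : ∃ n : ℕ, g ^ p ^ n = 1)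
    (hnorm : ∀ h ∈ Cfsg.pCore p G, ∃ n : ℤ, h * g * h⁻¹ = g ^ n) : g ∈ Cfsg.pCore p G := by
  classical
  set H := Cfsg.pCore p G with hH
  by_contra hgH
  have hHp : IsPGroup p ↥H := pCore_isPGroup p
  have hCH := Cfsg.Agent.Lib.helper38.centralizer_pCore_le_of_isPSolvable hG hO
  have hex : ∃ j : ℕ, g ^ p ^ j ∈ H := by
    obtain ⟨n, hn⟩ := hgp
    exact ⟨n, by rw [hn]; exact H.one_mem⟩
  set j := Nat.find hex with hj
  have hjspec : g ^ p ^ j ∈ H := Nat.find_spec hex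
  have hj0 : j ≠ 0 := by
    intro h0
    rw [h0, pow_zero, pow_one] at hjspec
    exact hgH hjspec
  obtain ⟨j', hj'⟩ := Nat.exists_eq_succ_of_ne_zero hj0
  set a := g ^ p ^ j' with ha
  have haH : a ∉ H := by
    intro h
    have := Nat.find_min hex (m := j') (by omega)
    exact this h
  have hap : a ^ p ∈ H := by
    rw [ha, ← pow_mul, ← pow_succ, ← Nat.succ_eq_add_one, ← hj']
    exact hjspec
  have hcomm : ∀ h ∈ H, ∃ m : ℤ, a * h * a⁻¹ * h⁻¹ = (a ^ p) ^ m := by
    intro h hh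
    obtain ⟨n, hn⟩ := hnorm h hh
    have h1 : h * a * h⁻¹ = a ^ n := by
      rw [ha, ← conj_pow, hn, ← zpow_natCast, ← zpow_natCast, ← zpow_mul, ← zpow_mul, mul_comm]
    have h2 : a * h * a⁻¹ * h⁻¹ = a ^ (1 - n) := by
      rw [zpow_sub, zpow_one, ← h1]
      group
    have h3 : a ^ (1 - n) ∈ H := by
      rw [← h2]
      exact H.mul_mem ((inferInstance : H.Normal).conj_mem h hh a) (H.inv_mem hh)
    have hord : orderOf (QuotientGroup.mk a : G ⧸ H) = p :=
      orderOf_eq_prime (by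
        rw [← QuotientGroup.mk_pow]
        exact (QuotientGroup.eq_one_iff _).mpr hap)
        (fun h => haH ((QuotientGroup.eq_one_iff a).mp h))
    have h4 : (p : ℤ) ∣ 1 - n := by
      rw [← hord, orderOf_dvd_iff_zpow_eq_one, ← QuotientGroup.mk_zpow]
      exact (QuotientGroup.eq_one_iff _).mpr h3
    obtain ⟨m, hm⟩ := h4
    refine ⟨m, ?_⟩
    rw [h2, hm, zpow_mul, zpow_natCast]
  -- the Frattini quotient
  set Φ : Subgroup G := (frattini ↥H).map H.subtype with hΦ
  haveI hΦn : Φ.Normal := ConjAct.normal_of_characteristic_of_normal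
  have hΦH : Φ ≤ H := Subgroup.map_subtype_le _
  have hΦp : IsPGroup p ↥Φ := hHp.to_le hΦH
  have hcomap : (Cfsg.pCore p (G ⧸ Φ)).comap (QuotientGroup.mk' Φ) = H :=
    Cfsg.Agent.Lib.helper53.comap_pCore_quotient Φ hΦp
  have hmemV : ∀ x : G, (QuotientGroup.mk x : G ⧸ Φ) ∈ Cfsg.pCore p (G ⧸ Φ) ↔ x ∈ H := by
    intro x
    rw [← hcomap]
    rfl
  have hGq : Cfsg.IsPSolvable p (G ⧸ Φ) := Cfsg.Agent.Lib.helper38.isPSolvable_quotient Φ hG
  have hS4q : p ≠ 2 ∨ ¬ Cfsg.Involves (Equiv.Perm (Fin 4)) (G ⧸ Φ) := by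
    rcases hS4 with h | h
    · exact Or.inl h
    · exact Or.inr (fun hq => h (Cfsg.Agent.Lib.helper51.involves_of_involves_quotient Φ hq))
  have hmemΦ : ∀ x : ↥H, (x : G) ∈ Φ ↔ x ∈ frattini ↥H := by
    intro x
    constructor
    · rintro ⟨y, hy, hyx⟩
      have : y = x := Subtype.ext hyx
      rw [← this]
      exact hy
    · intro hx
      exact ⟨x, hx, rfl⟩
  have hVc : ∀ v ∈ Cfsg.pCore p (G ⧸ Φ), ∀ w ∈ Cfsg.pCore p (G ⧸ Φ), v * w = w * v := by
    intro v hv w hw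
    obtain ⟨x, rfl⟩ := QuotientGroup.mk_surjective v
    obtain ⟨y, rfl⟩ := QuotientGroup.mk_surjective w
    have hx := (hmemV x).mp hv
    have hy := (hmemV y).mp hw
    have h1 : ⁅(⟨x, hx⟩ : ↥H), ⟨y, hy⟩⁆ ∈ frattini ↥H :=
      Cfsg.Agent.Lib.helper3.commutator_le_frattini hHp
        (Subgroup.commutator_mem_commutator (Subgroup.mem_top _) (Subgroup.mem_top _))
    have h2 : x * y * x⁻¹ * y⁻¹ ∈ Φ := (hmemΦ _).mpr h1
    have h3 := (QuotientGroup.eq_one_iff _).mpr h2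
    have e : (QuotientGroup.mk (x * y * x⁻¹ * y⁻¹) : G ⧸ Φ)
        = QuotientGroup.mk x * QuotientGroup.mk y * (QuotientGroup.mk x)⁻¹
          * (QuotientGroup.mk y)⁻¹ := rfl
    rw [e] at h3
    have h4 := congrArg (fun t => t * (QuotientGroup.mk y : G ⧸ Φ) * QuotientGroup.mk x) h3
    simpa using h4
  have hVp : ∀ v ∈ Cfsg.pCore p (G ⧸ Φ), v ^ p = 1 := by
    intro v hv
    obtain ⟨x, rfl⟩ := QuotientGroup.mk_surjective v
    have hx := (hmemV x).mp hv
    have h1 : (⟨x, hx⟩ : ↥H) ^ p ∈ frattini ↥H :=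
      Cfsg.Agent.Lib.helper3.pow_prime_mem_frattini hHp _
    rw [← QuotientGroup.mk_pow]
    exact (QuotientGroup.eq_one_iff _).mpr ((hmemΦ _).mpr h1)
  have hCV : Subgroup.centralizer (Cfsg.pCore p (G ⧸ Φ) : Set (G ⧸ Φ))
      ≤ Cfsg.pCore p (G ⧸ Φ) := by
    set C : Subgroup G := (Subgroup.centralizer
      (Cfsg.pCore p (G ⧸ Φ) : Set (G ⧸ Φ))).comap (QuotientGroup.mk' Φ) with hC
    haveI hCn : C.Normal := Subgroup.Normal.comap inferInstance _
    have hCmem : ∀ x ∈ C, ∀ h ∈ H, x * h * x⁻¹ * h⁻¹ ∈ Φ := by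
      intro x hx h hh
      rw [← QuotientGroup.eq_one_iff]
      have h1 := Subgroup.mem_centralizer_iff.mp hx (QuotientGroup.mk h) ((hmemV h).mpr hh)
      have e : (QuotientGroup.mk (x * h * x⁻¹ * h⁻¹) : G ⧸ Φ)
          = QuotientGroup.mk x * QuotientGroup.mk h * (QuotientGroup.mk x)⁻¹
            * (QuotientGroup.mk h)⁻¹ := rfl
      have h1' : (QuotientGroup.mk h : G ⧸ Φ) * QuotientGroup.mk x
          = QuotientGroup.mk x * QuotientGroup.mk h := h1
      rw [e, ← h1']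
      group
    have hCp : IsPGroup p ↥C := by
      apply IsPGroup.of_card (n := (Nat.card ↥C).primeFactorsList.length)
      apply Nat.eq_prime_pow_of_unique_prime_dvd Nat.card_pos.ne'
      intro q hq hqd
      by_contra hqp
      haveI : Fact q.Prime := ⟨hq⟩
      obtain ⟨x, hx⟩ := exists_prime_orderOf_dvd_card' q hqd
      have hxq : (x : G) ^ q = 1 := by
        have h0 := pow_orderOf_eq_one x
        rw [hx] at h0
        simpa using congrArg Subtype.val h0
      have hβq : (MulAut.conjNormal (x : G) : MulAut ↥H) ^ q = 1 := by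
        rw [← map_pow, hxq, map_one]
      have hβ : (MulAut.conjNormal (x : G) : MulAut ↥H) = 1 := by
        refine Cfsg.Agent.Lib.helper69.mulAut_eq_one_of_trivial_mod_frattini
          (fun h => hqp h.symm) hHp _ hβq ?_
        intro h
        rw [← hmemΦ]
        have := hCmem x x.2 h h.2
        simpa [MulAut.conjNormal_apply] using this
      have hxH : (x : G) ∈ H := by
        apply hCH
        rw [Subgroup.mem_centralizer_iff]
        intro h hh
        have h2 := congrArg (fun β : MulAut ↥H => ((β ⟨h, hh⟩ : ↥H) : G)) hβ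
        simp only [MulAut.conjNormal_apply, MulAut.one_apply] at h2
        have h3 := congrArg (fun t => t * (x : G)) h2
        simpa using h3.symm
      obtain ⟨e, he⟩ := mem_pow_of_isPGroup hHp hxH
      have hx1 : (x : G) = 1 :=
        eq_one_of_pow_prime_of_pow_prime_pow hq hp.out (fun h => hqp h.symm) hxq he
      have hx1' : x = 1 := Subtype.ext hx1
      rw [hx1', orderOf_one] at hx
      exact hq.one_lt.ne' hx.symm
    have hCH' : C ≤ H := le_sSup ⟨hCn, hCp⟩
    intro γ hγ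
    obtain ⟨x, rfl⟩ := QuotientGroup.mk_surjective γ
    exact (hmemV x).mpr (hCH' hγ)
  have hâ := mainThm hGq hVc hVp hCV (QuotientGroup.mk a : G ⧸ Φ) (by
    rw [← QuotientGroup.mk_pow]
    exact (hmemV _).mpr hap) (by
    intro v hv
    obtain ⟨x, rfl⟩ := QuotientGroup.mk_surjective v
    obtain ⟨m, hm⟩ := hcomm x ((hmemV x).mp hv)
    refine ⟨m, ?_⟩
    rw [← QuotientGroup.mk_pow, ← QuotientGroup.mk_zpow, ← hm]
    rfl) hS4q
  exact haH ((hmemV a).mp hâ)

/-- Let G be a finite p-soluble group, P a Sylow p-subgroup of G and A a cyclic normal subgroup of P. If p is odd, or if no section of G is isomorphic to the symmetric group of degree 4, then A ≤ O_{p',p}(G). -/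
theorem result {G : Type*} [Group G] [Finite G] {p : ℕ} [Fact p.Prime] (hG : Cfsg.IsPSolvable p G) (P : Sylow p G) (A : Subgroup G) (hAP : A ≤ (P : Subgroup G)) (hAn : (P : Subgroup G) ≤ Subgroup.normalizer (A : Set G)) (hA : IsCyclic A) (h : p ≠ 2 ∨ ¬ Cfsg.Involves (Equiv.Perm (Fin 4)) G) : A ≤ Cfsg.pPrimePCore p G := by
  classical
  intro x hxA
  change QuotientGroup.mk' (Cfsg.pPrimeCore p G) x ∈ Cfsg.pCore p (G ⧸ Cfsg.pPrimeCore p G)
  set O := Cfsg.pPrimeCore p G with hO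
  have hG₁ : Cfsg.IsPSolvable p (G ⧸ O) := Cfsg.Agent.Lib.helper38.isPSolvable_quotient O hG
  have hO₁ : Cfsg.pPrimeCore p (G ⧸ O) = ⊥ := pPrimeCore_quotient_pPrimeCore p
  have hS4₁ : p ≠ 2 ∨ ¬ Cfsg.Involves (Equiv.Perm (Fin 4)) (G ⧸ O) := by
    rcases h with h | h
    · exact Or.inl h
    · exact Or.inr (fun hq => h (Cfsg.Agent.Lib.helper51.involves_of_involves_quotient O hq))
  obtain ⟨g₀, hg₀⟩ := hA.exists_generator
  set P₁ : Sylow p (G ⧸ O) := P.mapSurjective (QuotientGroup.mk'_surjective O) with hP₁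
  have hHP₁ : Cfsg.pCore p (G ⧸ O) ≤ (P₁ : Subgroup (G ⧸ O)) :=
    (pCore_isPGroup p).le_sylow_of_normal P₁
  have hg₁ : (QuotientGroup.mk (g₀ : G) : G ⧸ O) ∈ Cfsg.pCore p (G ⧸ O) := by
    apply mem_pCore_of_cyclic hG₁ hO₁ hS4₁
    · obtain ⟨n, hn⟩ := mem_pow_of_isPGroup P.isPGroup' (hAP g₀.2)
      exact ⟨n, by rw [← QuotientGroup.mk_pow, hn]; rfl⟩
    · intro h hh
      have hhP := hHP₁ hh
      obtain ⟨h₀, hh₀P, rfl⟩ : ∃ h₀ ∈ (P : Subgroup G), QuotientGroup.mk' O h₀ = h := hhP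
      have hmem : h₀ * (g₀ : G) * h₀⁻¹ ∈ A :=
        (Subgroup.mem_normalizer_iff.mp (hAn hh₀P) g₀).mp g₀.2
      obtain ⟨n, hn⟩ := Subgroup.mem_zpowers_iff.mp (hg₀ ⟨_, hmem⟩)
      refine ⟨n, ?_⟩
      have h1 : (g₀ : G) ^ n = h₀ * (g₀ : G) * h₀⁻¹ := by
        simpa using congrArg Subtype.val hn
      rw [← QuotientGroup.mk_zpow, h1]
      rfl
  obtain ⟨n, hn⟩ := Subgroup.mem_zpowers_iff.mp (hg₀ ⟨x, hxA⟩)
  have hx : x = (g₀ : G) ^ n := by
    simpa using (congrArg Subtype.val hn).symm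
  rw [hx, map_zpow]
  exact Subgroup.zpow_mem _ hg₁ n

end Cfsg.Agent.S3788
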