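import Cfsg.Statements.S3789
-- import your own Cfsg.Agent.* helpers here
import Cfsg.Agent.Lib.helper40.HHGL
import Cfsg.Agent.Lib.helper14.PConstrained

set_option autoImplicit false
open Cfsg

namespace Cfsg.Agent.S3789

open scoped commutatorElement

theorem D_succ {G : Type*} [Group G] (P : Subgroup G) (j : ℕ) :
    (derivedSeries ↥P (j + 1)).map P.subtype =
      ⁅(derivedSeries ↥P j).map P.subtype, (derivedSeries ↥P j).map P.subtype⁆ := by
  rw [derivedSeries_succ, Subgroup.map_commutator]

open Cfsg.Agent.Lib.helper14 Cfsg.Agent.Lib.helper40 in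
theorem derived_le_upperP {G : Type*} [Group G] [Finite G] {p : ℕ} [Fact p.Prime] (hp : p ≠ 2)
    (hsol : Cfsg.IsPSolvable p G) (S : Sylow p G) (d : ℕ)
    (hd : derivedSeries ↥(S : Subgroup G) d = ⊥) (k : ℕ) :
    ∀ j : ℕ, j + k = d →
      (derivedSeries ↥(S : Subgroup G) j).map (S : Subgroup G).subtype ≤
        (Cfsg.upperPSeries p G (2 * k)).1 := by
  induction k with
  | zero =>
    intro j hj
    have : j = d := by omega
    subst this
    rw [hd, Subgroup.map_bot]
    exact bot_le
  | succ k ih =>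
    intro j hj
    have h2 : 2 * (k + 1) = 2 * k + 2 := by ring
    rw [h2]
    have ih1 := ih (j + 1) (by omega)
    -- notation
    obtain ⟨M, hM⟩ : ∃ M : Subgroup G, M = (Cfsg.upperPSeries p G (2 * k + 1)).1 := ⟨_, rfl⟩
    have hle : (Cfsg.upperPSeries p G (2 * k)).1 ≤ (Cfsg.upperPSeries p G (2 * k + 1)).1 := by
      rw [upperPSeries_odd]
      exact le_comap_mk'_self _ _
    have hsurj := QuotientGroup.mk'_surjective (Cfsg.upperPSeries p G (2 * k + 1)).1
    have hsolbar : Cfsg.IsPSolvable p (G ⧸ (Cfsg.upperPSeries p G (2 * k + 1)).1) :=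
      Cfsg.Agent.Lib.helper38.isPSolvable_quotient _ hsol
    have hOp' : Cfsg.pPrimeCore p (G ⧸ (Cfsg.upperPSeries p G (2 * k + 1)).1) = ⊥ :=
      pPrimeCore_quotient_upperPSeries_odd p G k
    have hRS : Cfsg.pCore p (G ⧸ (Cfsg.upperPSeries p G (2 * k + 1)).1) ≤
        (S : Subgroup G).map (QuotientGroup.mk' (Cfsg.upperPSeries p G (2 * k + 1)).1) := by
      intro y hy
      have := Cfsg.Agent.Lib.helper55.pCore_le_sylow (S.mapSurjective hsurj) hy
      simpa using this
    rw [upperPSeries_even_succ, ← Subgroup.map_le_iff_le_comap]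
    rcases Nat.eq_zero_or_pos j with hj0 | hjpos
    · -- the image of `S` is abelian
      subst hj0
      rw [derivedSeries_zero, ← MonoidHom.range_eq_map, Subgroup.range_subtype]
      have hab : ∀ z ∈ (S : Subgroup G), ∀ s ∈ (S : Subgroup G),
          (QuotientGroup.mk' (Cfsg.upperPSeries p G (2 * k + 1)).1) z *
            (QuotientGroup.mk' (Cfsg.upperPSeries p G (2 * k + 1)).1) s =
          (QuotientGroup.mk' (Cfsg.upperPSeries p G (2 * k + 1)).1) s *
            (QuotientGroup.mk' (Cfsg.upperPSeries p G (2 * k + 1)).1) z := by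
        intro z hz s hs
        have h3 : z * s * z⁻¹ * s⁻¹ ∈
            (derivedSeries ↥(S : Subgroup G) (0 + 1)).map (S : Subgroup G).subtype := by
          rw [derivedSeries_succ, derivedSeries_zero]
          refine ⟨⁅(⟨z, hz⟩ : ↥(S : Subgroup G)), ⟨s, hs⟩⁆,
            Subgroup.commutator_mem_commutator (Subgroup.mem_top _) (Subgroup.mem_top _), ?_⟩
          rw [commutatorElement_def]
          rfl
        have h4 : z * s * z⁻¹ * s⁻¹ ∈ (Cfsg.upperPSeries p G (2 * k + 1)).1 := hle (ih1 h3)
        have h5 : (QuotientGroup.mk' (Cfsg.upperPSeries p G (2 * k + 1)).1)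
            (z * s * z⁻¹ * s⁻¹) = 1 := by
          rw [QuotientGroup.mk'_apply, QuotientGroup.eq_one_iff]; exact h4
        simp only [map_mul, map_inv] at h5
        generalize (QuotientGroup.mk' (Cfsg.upperPSeries p G (2 * k + 1)).1) z = a at h5 ⊢
        generalize (QuotientGroup.mk' (Cfsg.upperPSeries p G (2 * k + 1)).1) s = b at h5 ⊢
        calc a * b = (a * b * a⁻¹ * b⁻¹) * (b * a) := by group
          _ = b * a := by rw [h5, one_mul]
      rintro _ ⟨z, hz, rfl⟩
      apply centralizer_upperPSeries_le hsol k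
      rw [Subgroup.mem_centralizer_iff]
      intro y hy
      obtain ⟨s, hs, rfl⟩ := hRS hy
      exact (hab z hz s hs).symm
    · obtain ⟨j', rfl⟩ : ∃ j', j = j' + 1 := ⟨j - 1, by omega⟩
      rw [D_succ, Subgroup.map_commutator]
      apply Cfsg.Agent.Lib.helper40.HHD.comm_le_pCore hp hsolbar hOp'
      · exact ((S.isPGroup'.to_subgroup _).map _).map _
      · intro r hr b hb
        obtain ⟨s, hs, rfl⟩ := hRS hr
        obtain ⟨_, ⟨x, hx, rfl⟩, rfl⟩ := hb
        refine ⟨s * (x : G) * s⁻¹, ⟨(⟨s, hs⟩ : ↥(S : Subgroup G)) * x * (⟨s, hs⟩)⁻¹, ?_, rfl⟩, ?_⟩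
        · exact (derivedSeries_normal ↥(S : Subgroup G) j').conj_mem x hx _
        · simp only [map_mul, map_inv]
          rfl
      · rw [← Subgroup.map_commutator, ← D_succ]
        rintro _ ⟨x, hx, rfl⟩ _ ⟨y, hy, rfl⟩
        have h3 : x * y * x⁻¹ * y⁻¹ ∈
            (derivedSeries ↥(S : Subgroup G) (j' + 1 + 1)).map (S : Subgroup G).subtype := by
          rw [D_succ (S : Subgroup G) (j' + 1)]
          have := Subgroup.commutator_mem_commutator hx hy
          rw [commutatorElement_def] at this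
          exact this
        have h4 : x * y * x⁻¹ * y⁻¹ ∈ (Cfsg.upperPSeries p G (2 * k + 1)).1 := hle (ih1 h3)
        have h5 : (QuotientGroup.mk' (Cfsg.upperPSeries p G (2 * k + 1)).1)
            (x * y * x⁻¹ * y⁻¹) = 1 := by
          rw [QuotientGroup.mk'_apply, QuotientGroup.eq_one_iff]; exact h4
        simp only [map_mul, map_inv] at h5
        generalize (QuotientGroup.mk' (Cfsg.upperPSeries p G (2 * k + 1)).1) x = a at h5 ⊢
        generalize (QuotientGroup.mk' (Cfsg.upperPSeries p G (2 * k + 1)).1) y = b at h5 ⊢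
        calc a * b = (a * b * a⁻¹ * b⁻¹) * (b * a) := by group
          _ = b * a := by rw [h5, one_mul]

/-- Let p be an odd prime and G a finite p-soluble group whose Sylow p-subgroups have derived length at most d. Then G has p-length at most d. -/
theorem result {G : Type*} [Group G] [Finite G] {p : ℕ} [Fact p.Prime] (hp : p ≠ 2) (hG : Cfsg.IsPSolvable p G) (d : ℕ) (hd : ∀ P : Sylow p G, derivedSeries ↥(P : Subgroup G) d = ⊥) : Cfsg.PLengthLE p d G := by
  obtain ⟨S⟩ := (Sylow.nonempty : Nonempty (Sylow p G))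
  have h1 := derived_le_upperP hp hG S d (hd S) d 0 (by omega)
  rw [derivedSeries_zero, ← MonoidHom.range_eq_map, Subgroup.range_subtype] at h1
  unfold Cfsg.PLengthLE
  rw [Cfsg.Agent.Lib.helper14.upperPSeries_odd]
  have h2 : ¬ p ∣ (Cfsg.upperPSeries p G (2 * d)).1.index := fun h =>
    S.not_dvd_index (dvd_trans h (Subgroup.index_dvd_of_le h1))
  have h3 : (Nat.card ((⊤ : Subgroup (G ⧸ (Cfsg.upperPSeries p G (2 * d)).1)))).Coprime p := by
    rw [Subgroup.card_top, ← Subgroup.index_eq_card]
    exact ((Nat.Prime.coprime_iff_not_dvd Fact.out).mpr h2).symm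
  have h4 := Cfsg.Agent.Lib.helper40.le_pPrimeCore _ Subgroup.normal_top h3
  rw [top_le_iff.mp h4]
  exact Subgroup.comap_top _

end Cfsg.Agent.S3789
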