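import Cfsg.Statements.S3790
import Mathlib
import Cfsg.Agent.Lib.helper66.PLengthSeries

set_option autoImplicit false
open Cfsg

namespace Cfsg.Agent.S3790

open Cfsg.Agent.Lib.helper66 Cfsg.Agent.Lib.helper27

universe u

theorem main (p : ℕ) [Fact p.Prime] (r : ℕ) (q : Fin r → ℕ) (hq : ∀ i, (q i).Prime ∧ q i ≠ p)
    (l : Fin r → ℕ) (s : Finset (Fin r)) :
    ∀ (H : Type u) [Group H] [Finite H],
      (∀ t : ℕ, t.Prime → t ∣ Nat.card H → t ≠ p → ∃ i ∈ s, q i = t) →
      (∀ i ∈ s, Cfsg.PLengthLE (q i) (l i) H) →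
      Cfsg.PLengthLE p (∏ i ∈ s, (1 + l i)) H := by
  induction s using Finset.induction_on with
  | empty =>
    intro H _ _ hcov _
    rw [Finset.prod_empty]
    have hcard : Nat.card H = p ^ (Nat.card H).primeFactorsList.length :=
      Nat.eq_prime_pow_of_unique_prime_dvd Nat.card_pos.ne' (fun {t} ht hdvd => by
        by_contra hne
        obtain ⟨i, hi, -⟩ := hcov t ht hdvd hne
        exact absurd hi (Finset.notMem_empty i))
    exact PLengthLE.one_of_card_eq_pow hcard
  | insert j s' hj ih =>
    have hqj : Fact (q j).Prime := ⟨(hq j).1⟩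
    have hpq : (q j).Coprime p :=
      (Nat.coprime_primes (hq j).1 Fact.out).mpr (hq j).2
    -- reduction to the quotient by `O_{q'}`
    have reduce : ∀ (H : Type u) [Group H] [Finite H],
        (∀ t : ℕ, t.Prime → t ∣ Nat.card H → t ≠ p → ∃ i ∈ insert j s', q i = t) →
        (∀ i ∈ s', Cfsg.PLengthLE (q i) (l i) H) → ∀ c : ℕ,
        Cfsg.PLengthLE p c (H ⧸ Cfsg.pPrimeCore (q j) H) →
        Cfsg.PLengthLE p (∏ i ∈ s', (1 + l i) + c) H := by
      intro H _ _ hcov hl c hc
      refine PLengthLE.of_normal_of_quotient (Cfsg.pPrimeCore (q j) H) ?_ hc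
      refine ih ↥(Cfsg.pPrimeCore (q j) H) ?_ ?_
      · intro t ht hdvd hne
        obtain ⟨i, hi, hit⟩ := hcov t ht (hdvd.trans (Subgroup.card_subgroup_dvd_card _)) hne
        rcases Finset.mem_insert.mp hi with rfl | hi'
        · exfalso
          have h3 := pPrimeCore_coprime (G := H) (q i)
          have h4 : q i ∣ 1 := by
            rw [← h3.gcd_eq_one]
            exact Nat.dvd_gcd (hit ▸ hdvd) dvd_rfl
          exact (hq i).1.one_lt.ne' (Nat.dvd_one.mp h4)
        · exact ⟨i, hi', hit⟩
      · intro i hi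
        haveI : Fact (q i).Prime := ⟨(hq i).1⟩
        exact PLengthLE.normal_subgroup _ (hl i hi)
    have inner : ∀ (m : ℕ) (H : Type u) [Group H] [Finite H],
        (∀ t : ℕ, t.Prime → t ∣ Nat.card H → t ≠ p → ∃ i ∈ insert j s', q i = t) →
        (∀ i ∈ s', Cfsg.PLengthLE (q i) (l i) H) →
        Cfsg.PLengthLE (q j) m H →
        Cfsg.PLengthLE p ((1 + m) * ∏ i ∈ s', (1 + l i)) H := by
      intro m
      induction m with
      | zero =>
        intro H _ _ hcov hl hm
        have h0 : (1 + 0) * ∏ i ∈ s', (1 + l i) = ∏ i ∈ s', (1 + l i) + 0 := by ring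
        rw [h0]
        refine reduce H hcov hl 0 ?_
        have htop : (⊤ : Subgroup (H ⧸ Cfsg.pPrimeCore (q j) H)) = ⊥ :=
          PLengthLE.top_eq_bot_of_zero (pPrimeCore_quotient_pPrimeCore (q j))
            (PLengthLE.quotient _ hm)
        have hcard1 : Nat.card (H ⧸ Cfsg.pPrimeCore (q j) H) = 1 := by
          rw [← Subgroup.card_top, htop, Subgroup.card_bot]
        refine PLengthLE.zero_of_coprime ?_
        rw [hcard1]
        exact Nat.coprime_one_left p
      | succ m ihm =>
        intro H _ _ hcov hl hm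
        have h0 : (1 + (m + 1)) * ∏ i ∈ s', (1 + l i) =
            ∏ i ∈ s', (1 + l i) + (0 + (1 + m) * ∏ i ∈ s', (1 + l i)) := by ring
        rw [h0]
        refine reduce H hcov hl _ ?_
        have hbot := pPrimeCore_quotient_pPrimeCore (G := H) (q j)
        have hm' : Cfsg.PLengthLE (q j) (m + 1) (H ⧸ Cfsg.pPrimeCore (q j) H) :=
          PLengthLE.quotient _ hm
        refine PLengthLE.of_normal_of_quotient
          (Cfsg.pCore (q j) (H ⧸ Cfsg.pPrimeCore (q j) H)) ?_ ?_
        · refine PLengthLE.zero_of_coprime ?_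
          obtain ⟨e, he⟩ := IsPGroup.iff_card.mp
            (pCore_isPGroup (G := H ⧸ Cfsg.pPrimeCore (q j) H) (q j))
          rw [he]
          exact Nat.Coprime.pow_left e hpq
        · refine ihm _ ?_ ?_ (PLengthLE.quotient_pCore hbot hm')
          · intro t ht hdvd hne
            exact hcov t ht ((hdvd.trans (Subgroup.card_quotient_dvd_card _)).trans
              (Subgroup.card_quotient_dvd_card _)) hne
          · intro i hi
            exact PLengthLE.quotient _ (PLengthLE.quotient _ (hl i hi))
    intro H _ _ hcov hl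
    rw [Finset.prod_insert hj]
    exact inner (l j) H hcov (fun i hi => hl i (Finset.mem_insert_of_mem hi))
      (hl j (Finset.mem_insert_self j s'))

/-- Let G be a finite solvable group and p a prime. Suppose p₁, …, p_r are distinct primes, all different from p, that include every prime dividing the order of G other than p, and that G has p_i-length at most l_i for each i. Then G has p-length at most the product of the numbers 1 + l_i. -/
theorem result {G : Type*} [Group G] [Finite G] (hG : Group.IsSolvable G) (p : ℕ) [Fact p.Prime] (r : ℕ) (q : Fin r → ℕ) (hq : ∀ i, (q i).Prime ∧ q i ≠ p) (hinj : Function.Injective q) (hcover : ∀ s : ℕ, s.Prime → s ∣ Nat.card G → s ≠ p → ∃ i, q i = s) (l : Fin r → ℕ) (hl : ∀ i, Cfsg.PLengthLE (q i) (l i) G) : Cfsg.PLengthLE p (Finset.univ.prod fun i => 1 + l i) G := by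
  refine main p r q hq l Finset.univ G ?_ (fun i _ => hl i)
  intro t ht hdvd hne
  obtain ⟨i, hi⟩ := hcover t ht hdvd hne
  exact ⟨i, Finset.mem_univ i, hi⟩

end Cfsg.Agent.S3790
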