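import Cfsg.Statements.S3791
import Mathlib
import Cfsg.Agent.Lib.helper66.PLength
import Cfsg.Agent.Lib.helper28.Fitting

set_option autoImplicit false
open Cfsg

namespace Cfsg.Agent.S3791

open Cfsg.Agent.Lib.helper66 Cfsg.Agent.Lib.helper27

universe u

theorem main (r : ℕ) (q : Fin r → ℕ) (hq : ∀ i, (q i).Prime) (d : Fin r → ℕ) :
    ∀ (n : ℕ) (G : Type u) [Group G] [Finite G] (l : Fin r → ℕ),
      Nat.card G + ∑ i, l i = n →
      (∀ s : ℕ, s.Prime → s ∣ Nat.card G → ∃ i, q i = s) →
      (∀ i, ∀ S : Sylow (q i) G, derivedSeries ↥(S : Subgroup G) (d i) = ⊥) →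
      (∀ i, Cfsg.PLengthLE (q i) (l i) G) →
      derivedSeries G (∑ i, d i * l i) = ⊥ := by
  intro n
  induction n using Nat.strong_induction_on with
  | _ n ih =>
  intro G _ _ l hn hcover hd hl
  by_cases htriv : (⊤ : Subgroup G) = ⊥
  · exact le_bot_iff.mp (htriv ▸ le_top)
  by_cases hcase : ∃ i, Cfsg.pPrimeCore (q i) G = ⊥
  · obtain ⟨i, hi⟩ := hcase
    haveI : Fact (q i).Prime := ⟨hq i⟩
    obtain ⟨k, hk⟩ : ∃ k, l i = k + 1 := by
      rcases Nat.eq_zero_or_eq_succ_pred (l i) with h0 | h0
      · exfalso
        have := hl i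
        rw [h0] at this
        exact htriv (PLengthLE.top_eq_bot_of_zero hi this)
      · exact ⟨_, h0⟩
    set P : Subgroup G := Cfsg.pCore (q i) G with hP
    set l' : Fin r → ℕ := Function.update l i k with hl'
    have hsum1 : ∑ j, l j = ∑ j, l' j + 1 := by
      rw [hl', Finset.sum_update_of_mem (Finset.mem_univ i),
        Finset.sum_eq_add_sum_sdiff_singleton_of_mem (Finset.mem_univ i) l, hk]
      ring
    have hsum2 : ∑ j, d j * l j = ∑ j, d j * l' j + d i := by
      have hfun : (fun j => d j * l' j) = Function.update (fun j => d j * l j) i (d i * k) := by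
        funext j
        by_cases hj : j = i
        · subst hj; simp [hl']
        · simp [hl', Function.update_of_ne hj]
      rw [hfun, Finset.sum_update_of_mem (Finset.mem_univ i),
        Finset.sum_eq_add_sum_sdiff_singleton_of_mem (Finset.mem_univ i) (fun j => d j * l j), hk]
      ring
    have hcard : Nat.card (G ⧸ P) ≤ Nat.card G :=
      Nat.le_of_dvd Nat.card_pos (Subgroup.card_quotient_dvd_card P)
    have hIH := ih (Nat.card (G ⧸ P) + ∑ j, l' j) (by omega) (G ⧸ P) l' rfl
      (fun s hs hdvd => hcover s hs (hdvd.trans (Subgroup.card_quotient_dvd_card P)))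
      (fun j Q => by
        haveI : Fact (q j).Prime := ⟨hq j⟩
        exact derivedSeries_sylow_of_surjective (QuotientGroup.mk' P)
          (QuotientGroup.mk'_surjective P) (d j) (hd j) Q)
      (fun j => by
        by_cases hj : j = i
        · subst hj
          have h1 : l' j = k := by simp [hl']
          rw [h1]
          have h2 := hl j
          rw [hk] at h2
          exact PLengthLE.quotient_pCore hi h2
        · have h1 : l' j = l j := by simp [hl', Function.update_of_ne hj]
          rw [h1]
          exact PLengthLE.quotient P (hl j))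
    have hle : derivedSeries G (∑ j, d j * l' j) ≤ P := by
      have h1 := map_derivedSeries_eq (QuotientGroup.mk'_surjective P) (∑ j, d j * l' j)
      rw [hIH, Subgroup.map_eq_bot_iff, QuotientGroup.ker_mk'] at h1
      exact h1
    obtain ⟨S, hS⟩ := (pCore_isPGroup (G := G) (q i)).exists_le_sylow
    rw [hsum2]
    exact derivedSeries_add_eq_bot P _ _ hle (derivedSeries_eq_bot_of_le hS (d i) (hd i S))
  · push Not at hcase
    have hle : ∀ i, derivedSeries G (∑ j, d j * l j) ≤ Cfsg.pPrimeCore (q i) G := by
      intro i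
      have hcard : Nat.card (G ⧸ Cfsg.pPrimeCore (q i) G) < Nat.card G :=
        Cfsg.Agent.Lib.helper28.card_quotient_lt_of_ne_bot (hcase i)
      have hIH := ih (Nat.card (G ⧸ Cfsg.pPrimeCore (q i) G) + ∑ j, l j) (by omega)
        (G ⧸ Cfsg.pPrimeCore (q i) G) l rfl
        (fun s hs hdvd => hcover s hs (hdvd.trans (Subgroup.card_quotient_dvd_card _)))
        (fun j Q => by
          haveI : Fact (q j).Prime := ⟨hq j⟩
          exact derivedSeries_sylow_of_surjective (QuotientGroup.mk' _)
            (QuotientGroup.mk'_surjective _) (d j) (hd j) Q)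
        (fun j => PLengthLE.quotient _ (hl j))
      have h1 := map_derivedSeries_eq (QuotientGroup.mk'_surjective (Cfsg.pPrimeCore (q i) G))
        (∑ j, d j * l j)
      rw [hIH, Subgroup.map_eq_bot_iff, QuotientGroup.ker_mk'] at h1
      exact h1
    by_contra hne
    have hcardne : Nat.card ↥(derivedSeries G (∑ j, d j * l j)) ≠ 1 := by
      intro h1
      exact hne (Subgroup.card_eq_one.mp h1)
    obtain ⟨s, hs, hsdvd⟩ := Nat.exists_prime_and_dvd hcardne
    obtain ⟨i, rfl⟩ := hcover s hs (hsdvd.trans (Subgroup.card_subgroup_dvd_card _))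
    have h2 : q i ∣ Nat.card ↥(Cfsg.pPrimeCore (q i) G) :=
      hsdvd.trans (Subgroup.card_dvd_of_le (hle i))
    have h3 := pPrimeCore_coprime (G := G) (q i)
    have h4 : q i ∣ 1 := by
      rw [← h3.gcd_eq_one]
      exact Nat.dvd_gcd h2 dvd_rfl
    exact hs.one_lt.ne' (Nat.dvd_one.mp h4)

/-- The Hall–Higman bound on derived length: let G be a finite solvable group, let p₁, …, p_r be distinct primes that include every prime dividing the order of G, and suppose that for each i the Sylow p_i-subgroups of G have derived length at most d_i and G has p_i-length at most l_i. Then G has derived length at most Σ d_i l_i. -/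
theorem result {G : Type*} [Group G] [Finite G] (hG : Group.IsSolvable G) (r : ℕ) (q : Fin r → ℕ) (hq : ∀ i, (q i).Prime) (hinj : Function.Injective q) (hcover : ∀ s : ℕ, s.Prime → s ∣ Nat.card G → ∃ i, q i = s) (d l : Fin r → ℕ) (hd : ∀ i, ∀ P : Subgroup G, (haveI := Fact.mk (hq i); ∃ S : Sylow (q i) G, (S : Subgroup G) = P) → derivedSeries ↥P (d i) = ⊥) (hl : ∀ i, Cfsg.PLengthLE (q i) (l i) G) : derivedSeries G (Finset.univ.sum fun i => d i * l i) = ⊥ := by
  exact main r q hq d _ G l rfl hcover (fun i S => hd i S ⟨S, rfl⟩) hl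

end Cfsg.Agent.S3791
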