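import Cfsg.Statements.S3799
import Mathlib
import Cfsg.Agent.Lib.helper3.PGroupFrattini
import Cfsg.Agent.Lib.helper3.PGroupNormal
import Cfsg.Agent.Lib.helper92.Simple

set_option autoImplicit false
open Cfsg

namespace Cfsg.Agent.S3799

open scoped commutatorElement

/-- The Heisenberg group over `ZMod p` on `2n + 1` coordinates. -/
@[ext] structure Heis (n p : ℕ) where
  a : Fin n → ZMod p
  b : Fin n → ZMod p
  c : ZMod p

variable {n p : ℕ}

instance heisMul : Mul (Heis n p) :=
  ⟨fun x y => ⟨x.a + y.a, x.b + y.b, x.c + y.c + x.a ⬝ᵥ y.b⟩⟩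

instance heisOne : One (Heis n p) := ⟨⟨0, 0, 0⟩⟩

instance heisInv : Inv (Heis n p) := ⟨fun x => ⟨-x.a, -x.b, -x.c + x.a ⬝ᵥ x.b⟩⟩

@[simp] theorem heis_mul_a (x y : Heis n p) : (x * y).a = x.a + y.a := rfl
@[simp] theorem heis_mul_b (x y : Heis n p) : (x * y).b = x.b + y.b := rfl
@[simp] theorem heis_mul_c (x y : Heis n p) : (x * y).c = x.c + y.c + x.a ⬝ᵥ y.b := rfl
@[simp] theorem heis_one_a : (1 : Heis n p).a = 0 := rfl
@[simp] theorem heis_one_b : (1 : Heis n p).b = 0 := rfl
@[simp] theorem heis_one_c : (1 : Heis n p).c = 0 := rfl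
@[simp] theorem heis_inv_a (x : Heis n p) : (x⁻¹).a = -x.a := rfl
@[simp] theorem heis_inv_b (x : Heis n p) : (x⁻¹).b = -x.b := rfl
@[simp] theorem heis_inv_c (x : Heis n p) : (x⁻¹).c = -x.c + x.a ⬝ᵥ x.b := rfl

instance heisGroup : Group (Heis n p) :=
  Group.ofLeftAxioms
    (fun x y z => by
      ext1
      · simp [add_assoc]
      · simp [add_assoc]
      · simp [add_dotProduct, dotProduct_add]; ring)
    (fun x => by ext1 <;> simp)
    (fun x => by ext1 <;> simp)

theorem heis_pow (x : Heis n p) (k : ℕ) :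
    x ^ k = ⟨k • x.a, k • x.b, k • x.c + (k.choose 2) • (x.a ⬝ᵥ x.b)⟩ := by
  induction k with
  | zero => rw [pow_zero]; ext1 <;> simp
  | succ k ih =>
    rw [pow_succ, ih]
    ext1
    · exact (succ_nsmul x.a k).symm
    · exact (succ_nsmul x.b k).symm
    · have h2 : (k + 1).choose 2 = k + k.choose 2 := by
        rw [Nat.choose_succ_succ, Nat.choose_one_right]
      simp only [heis_mul_c, h2, smul_dotProduct, succ_nsmul, add_nsmul]
      ring

theorem heis_pow_p [Fact p.Prime] (hp : p ≠ 2) (x : Heis n p) : x ^ p = 1 := by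
  have hpp : p.Prime := Fact.out
  have h2 : p ∣ p.choose 2 :=
    hpp.dvd_choose_self (by norm_num) (lt_of_le_of_ne hpp.two_le (Ne.symm hp))
  have h2' : ((p.choose 2 : ℕ) : ZMod p) = 0 := (ZMod.natCast_eq_zero_iff _ _).mpr h2
  rw [heis_pow]
  ext1
  · funext i; simp
  · funext i; simp
  · simp [h2']

theorem heis_isPGroup [Fact p.Prime] (hp : p ≠ 2) : IsPGroup p (Heis n p) :=
  fun g => ⟨1, by rw [pow_one]; exact heis_pow_p hp g⟩

/-- The underlying equivalence to a product. -/
def heisEquiv (n p : ℕ) : Heis n p ≃ (Fin n → ZMod p) × (Fin n → ZMod p) × ZMod p where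
  toFun x := (x.a, x.b, x.c)
  invFun t := ⟨t.1, t.2.1, t.2.2⟩
  left_inv _ := rfl
  right_inv _ := rfl

theorem heis_card [Fact p.Prime] : Nat.card (Heis n p) = p ^ (1 + 2 * n) := by
  rw [Nat.card_congr (heisEquiv n p), Nat.card_prod, Nat.card_prod, Nat.card_fun, Nat.card_zmod,
    Nat.card_fin]
  ring

instance heisFinite [Fact p.Prime] : Finite (Heis n p) :=
  Nat.finite_of_card_ne_zero (by
    rw [heis_card]
    exact pow_ne_zero _ (Fact.out : p.Prime).ne_zero)

theorem heis_mem_center (z : Heis n p) :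
    z ∈ Subgroup.center (Heis n p) ↔ z.a = 0 ∧ z.b = 0 := by
  rw [Subgroup.mem_center_iff]
  constructor
  · intro h
    constructor
    · funext i
      have := congrArg Heis.c (h ⟨0, Pi.single i 1, 0⟩)
      simpa using this.symm
    · funext i
      have := congrArg Heis.c (h ⟨Pi.single i 1, 0, 0⟩)
      simpa using this
  · rintro ⟨ha, hb⟩ g
    ext1
    · simp [ha]
    · simp [hb]
    · simp [ha, hb]; ring

theorem heis_card_center [Fact p.Prime] : Nat.card (Subgroup.center (Heis n p)) = p := by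
  have e : Subgroup.center (Heis n p) ≃ ZMod p :=
    { toFun := fun z => z.1.c
      invFun := fun c => ⟨⟨0, 0, c⟩, (heis_mem_center _).mpr ⟨rfl, rfl⟩⟩
      left_inv := by
        rintro ⟨z, hz⟩
        obtain ⟨ha, hb⟩ := (heis_mem_center z).mp hz
        apply Subtype.ext
        ext1
        · exact ha.symm
        · exact hb.symm
        · rfl
      right_inv := fun c => rfl }
  rw [Nat.card_congr e, Nat.card_zmod]

theorem heis_commutator (hn : 1 ≤ n) :
    commutator (Heis n p) = Subgroup.center (Heis n p) := by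
  apply le_antisymm
  · rw [commutator_def, Subgroup.commutator_le]
    intro g₁ _ g₂ _
    rw [heis_mem_center, commutatorElement_def]
    constructor
    · simp
    · simp
  · intro z hz
    obtain ⟨ha, hb⟩ := (heis_mem_center z).mp hz
    have key : z = ⁅(⟨Pi.single ⟨0, hn⟩ 1, 0, 0⟩ : Heis n p), ⟨0, Pi.single ⟨0, hn⟩ z.c, 0⟩⁆ := by
      rw [commutatorElement_def]
      ext1
      · simp [ha]
      · simp [hb]
      · simp
    rw [key, commutator_def]
    exact Subgroup.commutator_mem_commutator (Subgroup.mem_top _) (Subgroup.mem_top _)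

theorem heis_frattini [Fact p.Prime] (hp : p ≠ 2) (hn : 1 ≤ n) :
    frattini (Heis n p) = Subgroup.center (Heis n p) := by
  apply le_antisymm
  · apply Cfsg.Agent.Lib.helper3.frattini_le_of_pow_mem_of_commutator_le (p := p)
    · intro x
      rw [heis_pow_p hp]
      exact Subgroup.one_mem _
    · exact (heis_commutator hn).le
  · rw [← heis_commutator hn]
    exact Cfsg.Agent.Lib.helper3.commutator_le_frattini (heis_isPGroup hp)

theorem heis_extraspecial [Fact p.Prime] (hp : p ≠ 2) (hn : 1 ≤ n) :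
    Cfsg.IsExtraspecial p (Heis n p) :=
  ⟨⟨heis_isPGroup hp, heis_frattini hp hn, heis_commutator hn⟩, heis_card_center⟩

/-- The natural module. -/
abbrev HW (n p : ℕ) : Type := ZMod p × (Fin n → ZMod p) × ZMod p

/-- The action of a Heisenberg element. -/
def rho (h : Heis n p) : HW n p →ₗ[ZMod p] HW n p where
  toFun w := (w.1 + h.a ⬝ᵥ w.2.1 + h.c * w.2.2, w.2.1 + w.2.2 • h.b, w.2.2)
  map_add' w w' := by
    refine Prod.ext ?_ (Prod.ext ?_ rfl)
    · simp [dotProduct_add]; ring
    · simp [add_smul]; abel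
  map_smul' r w := by
    refine Prod.ext ?_ (Prod.ext ?_ rfl)
    · simp [dotProduct_smul]; ring
    · simp [mul_smul]

theorem rho_apply (h : Heis n p) (w : HW n p) :
    rho h w = (w.1 + h.a ⬝ᵥ w.2.1 + h.c * w.2.2, w.2.1 + w.2.2 • h.b, w.2.2) := rfl

/-- `rho` as a monoid homomorphism. -/
def rhoHom (n p : ℕ) : Heis n p →* (HW n p →ₗ[ZMod p] HW n p) where
  toFun := rho
  map_one' := by
    apply LinearMap.ext
    intro w
    rw [rho_apply]
    simp
  map_mul' h h' := by
    apply LinearMap.ext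
    intro w
    rw [Module.End.mul_apply, rho_apply, rho_apply, rho_apply]
    refine Prod.ext ?_ (Prod.ext ?_ rfl)
    · simp [dotProduct_add, add_dotProduct, dotProduct_smul]; ring
    · simp; abel

theorem rhoHom_injective : Function.Injective (rhoHom n p).toHomUnits := by
  intro h h' hh
  have hh' : rho h = rho h' := by
    have := congrArg (fun u : (HW n p →ₗ[ZMod p] HW n p)ˣ => (u : HW n p →ₗ[ZMod p] HW n p)) hh
    simp only [MonoidHom.coe_toHomUnits] at this
    exact this
  have h1 := congrArg (fun f : HW n p →ₗ[ZMod p] HW n p => f (0, 0, 1)) hh'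
  simp only [rho_apply] at h1
  have hc : h.c = h'.c := by simpa using congrArg Prod.fst h1
  have hb : h.b = h'.b := by simpa using congrArg (fun t => t.2.1) h1
  have ha : h.a = h'.a := by
    funext i
    have h2 := congrArg (fun f : HW n p →ₗ[ZMod p] HW n p => f (0, Pi.single i 1, 0)) hh'
    simp only [rho_apply] at h2
    simpa using congrArg Prod.fst h2
  exact Heis.ext ha hb hc

theorem hw_finrank [Fact p.Prime] : Module.finrank (ZMod p) (HW n p) = n + 2 := by
  simp [HW]
  ring

/-- For every odd prime p and every n ≥ 1 there is an extraspecial p-group of order p^(1+2n) and exponent p; concretely, the general linear group of degree n + 2 over the field with p elements contains such a subgroup. -/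
theorem result (p : ℕ) [Fact p.Prime] (hp : p ≠ 2) (n : ℕ) (hn : 1 ≤ n) : ∃ E : Subgroup (Matrix.GeneralLinearGroup (Fin (n + 2)) (ZMod p)), Cfsg.IsExtraspecial p ↥E ∧ Nat.card E = p ^ (1 + 2 * n) ∧ ∀ x ∈ E, x ^ p = 1 := by
  classical
  let bas : Module.Basis (Fin (n + 2)) (ZMod p) (HW n p) :=
    Module.finBasisOfFinrankEq (ZMod p) (HW n p) hw_finrank
  let e : (HW n p →ₗ[ZMod p] HW n p) ≃ₐ[ZMod p] Matrix (Fin (n + 2)) (Fin (n + 2)) (ZMod p) :=
    LinearMap.toMatrixAlgEquiv bas
  let Φ : (HW n p →ₗ[ZMod p] HW n p)ˣ ≃* Matrix.GeneralLinearGroup (Fin (n + 2)) (ZMod p) :=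
    Units.mapEquiv (e : (HW n p →ₗ[ZMod p] HW n p) ≃* Matrix (Fin (n + 2)) (Fin (n + 2)) (ZMod p))
  let f : Heis n p →* Matrix.GeneralLinearGroup (Fin (n + 2)) (ZMod p) :=
    Φ.toMonoidHom.comp (rhoHom n p).toHomUnits
  have hf : Function.Injective f := Φ.injective.comp rhoHom_injective
  let e' : Heis n p ≃* f.range := MonoidHom.ofInjective hf
  refine ⟨f.range, Cfsg.Agent.Lib.helper92.isExtraspecial_of_mulEquiv e' (heis_extraspecial hp hn),
    ?_, ?_⟩
  · rw [← Nat.card_congr e'.toEquiv, heis_card]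
  · rintro x ⟨h, rfl⟩
    rw [← map_pow, heis_pow_p hp, map_one]

end Cfsg.Agent.S3799
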