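import Cfsg.Statements.S3800
import Cfsg.Agent.Lib.helper66.Basic

set_option autoImplicit false
open Cfsg

namespace Cfsg.Agent.S3800

open Cfsg.Agent.Lib.helper66 in
/-- Let G be a finite group, N a normal subgroup of G whose order is prime to p, and P a p-subgroup of G. Then in G/N the normalizer of the image of P is the image of N_G(P), and the centralizer of the image of P is the image of C_G(P). -/
theorem result {G : Type*} [Group G] [Finite G] {p : ℕ} [Fact p.Prime] (N : Subgroup G) [N.Normal] (hN : (Nat.card N).Coprime p) (P : Subgroup G) (hP : IsPGroup p P) : Subgroup.normalizer ((P.map (QuotientGroup.mk' N)) : Set (G ⧸ N)) = (Subgroup.normalizer (P : Set G)).map (QuotientGroup.mk' N) ∧ Subgroup.centralizer ((P.map (QuotientGroup.mk' N)) : Set (G ⧸ N)) = (Subgroup.centralizer (P : Set G)).map (QuotientGroup.mk' N) := by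
  have hker : (QuotientGroup.mk' N).ker = N := QuotientGroup.ker_mk' N
  have hdisj : P ⊓ N = ⊥ := by
    apply Disjoint.eq_bot
    apply Subgroup.disjoint_of_coprime_natCard
    obtain ⟨k, hk⟩ := IsPGroup.iff_card.mp hP
    rw [hk]
    exact Nat.Coprime.pow_left k hN.symm
  have h1 : Subgroup.normalizer ((P.map (QuotientGroup.mk' N)) : Set (G ⧸ N)) =
      (Subgroup.normalizer (P : Set G)).map (QuotientGroup.mk' N) := by
    apply le_antisymm
    · intro y hy
      obtain ⟨g, rfl⟩ := QuotientGroup.mk'_surjective N y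
      have hgH : g ∈ Subgroup.normalizer ((P ⊔ N : Subgroup G) : Set G) := by
        have h0 := Subgroup.le_normalizer_comap (QuotientGroup.mk' N) (Subgroup.mem_comap.mpr hy)
        rwa [Subgroup.comap_map_eq, hker] at h0
      have hQH : P.map (MulAut.conj g).toMonoidHom ≤ P ⊔ N :=
        map_conj_le_of_mem_normalizer hgH le_sup_left
      have hidx : ¬ p ∣ P.relIndex (P ⊔ N) := by
        rw [relIndex_sup_of_disjoint P N hdisj]
        intro hdvd
        exact (Fact.out : p.Prime).one_lt.ne' (Nat.Coprime.eq_one_of_dvd hN.symm hdvd)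
      obtain ⟨h, hh, hQ⟩ := sylow_conj_in_subgroup le_sup_left hQH hP (isPGroup_map_conj hP g)
        (card_map_conj P g).symm hidx
      -- h⁻¹ * g normalizes P
      have hn : h⁻¹ * g ∈ Subgroup.normalizer (P : Set G) := by
        rw [mem_normalizer_iff_map_conj, map_conj_mul, hQ, ← map_conj_mul, inv_mul_cancel,
          map_conj_one]
      -- the image of h lies in the image of P
      have hh' : QuotientGroup.mk' N h ∈ P.map (QuotientGroup.mk' N) := by
        have h0 : QuotientGroup.mk' N h ∈ (P ⊔ N).map (QuotientGroup.mk' N) :=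
          Subgroup.mem_map_of_mem _ hh
        rwa [Subgroup.map_sup, (Subgroup.map_eq_bot_iff N).mpr (le_of_eq hker.symm),
          sup_bot_eq] at h0
      obtain ⟨x, hx, hxh⟩ := hh'
      refine ⟨x * (h⁻¹ * g), Subgroup.mul_mem _ (Subgroup.le_normalizer hx) hn, ?_⟩
      rw [map_mul, hxh, ← map_mul]
      congr 1
      group
    · exact Subgroup.le_normalizer_map _
  refine ⟨h1, ?_⟩
  apply le_antisymm
  · intro y hy
    have hyN : y ∈ Subgroup.normalizer ((P.map (QuotientGroup.mk' N)) : Set (G ⧸ N)) :=
      Subgroup.centralizer_le_normalizer _ hy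
    rw [h1] at hyN
    obtain ⟨n, hn, rfl⟩ := hyN
    have hn' : n ∈ Subgroup.normalizer (P : Set G) := hn
    refine ⟨n, ?_, rfl⟩
    show n ∈ Subgroup.centralizer (P : Set G)
    rw [Subgroup.mem_centralizer_iff]
    intro x hx
    have hP' : n * x * n⁻¹ ∈ P := (Subgroup.mem_normalizer_iff.mp hn' x).mp hx
    have hcomm := Subgroup.mem_centralizer_iff.mp hy (QuotientGroup.mk' N x)
      (Subgroup.mem_map_of_mem _ hx)
    have hcN : n * x * n⁻¹ * x⁻¹ ∈ N := by
      rw [← hker, MonoidHom.mem_ker]
      simp only [map_mul, map_inv]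
      rw [← hcomm]
      group
    have hc : n * x * n⁻¹ * x⁻¹ ∈ P ⊓ N :=
      Subgroup.mem_inf.mpr ⟨P.mul_mem hP' (P.inv_mem hx), hcN⟩
    rw [hdisj, Subgroup.mem_bot] at hc
    have : n * x = x * n := by
      have h5 : n * x * n⁻¹ = x := by
        rw [mul_inv_eq_one] at hc
        exact hc
      calc n * x = n * x * n⁻¹ * n := by group
        _ = x * n := by rw [h5]
    exact this.symm
  · rintro _ ⟨c, hc, rfl⟩
    rw [Subgroup.mem_centralizer_iff]
    rintro _ ⟨x, hx, rfl⟩
    rw [← map_mul, ← map_mul, Subgroup.mem_centralizer_iff.mp hc x hx]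

end Cfsg.Agent.S3800
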