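import Cfsg.Statements.S3802
import Cfsg.Agent.Lib.helper66.Basic

set_option autoImplicit false
open Cfsg

namespace Cfsg.Agent.S3802

open Cfsg.Agent.Lib.helper66

theorem exists_min_nat {α : Type*} (f : α → ℕ) (s : Set α) (hs : s.Nonempty) :
    ∃ a ∈ s, ∀ b ∈ s, f a ≤ f b :=
  ⟨Function.argminOn f s hs, Function.argminOn_mem f s hs,
    fun _ hb => Function.argminOn_le f s hb⟩

theorem le_normalizer_of_conj_mem {G : Type*} [Group G] {K X : Subgroup G}
    (h : ∀ k ∈ K, ∀ x ∈ X, k * x * k⁻¹ ∈ X) : K ≤ Subgroup.normalizer (X : Set G) := by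
  intro k hk
  rw [Subgroup.mem_normalizer_iff]
  intro x
  constructor
  · exact h k hk x
  · intro hx
    have h1 := h k⁻¹ (K.inv_mem hk) _ hx
    have e : k⁻¹ * (k * x * k⁻¹) * k⁻¹⁻¹ = x := by group
    rwa [e] at h1

theorem conj_mem_of_le_normalizer {G : Type*} [Group G] {K X : Subgroup G}
    (h : K ≤ Subgroup.normalizer (X : Set G)) {k x : G} (hk : k ∈ K) (hx : x ∈ X) :
    k * x * k⁻¹ ∈ X :=
  (Subgroup.mem_normalizer_iff.mp (h hk) x).mp hx

/-- Relative form of Wielandt's lemma: a minimal `K`-invariant subgroup `S` of `K` normalizes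
every subnormal subgroup `H` of `K`. -/
theorem wielandt_rel {G : Type*} [Group G] [Finite G] :
    ∀ (n : ℕ) (K : Subgroup G), Nat.card K = n → ∀ H : Subgroup G, H ≤ K →
      (H.subgroupOf K).IsSubnormal →
      ∀ S : Subgroup G, S ≤ K → S ≠ ⊥ → (∀ k ∈ K, ∀ x ∈ S, k * x * k⁻¹ ∈ S) →
      (∀ T : Subgroup G, T ≤ S → T ≠ ⊥ → (∀ k ∈ K, ∀ x ∈ T, k * x * k⁻¹ ∈ T) → T = S) →
      ∀ s ∈ S, ∀ h ∈ H, s * h * s⁻¹ ∈ H := by
  intro n
  induction n using Nat.strong_induction_on with
  | _ n ih =>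
  intro K hKn H hHK hsub S hSK hS1 hKS hmin
  rcases hsub.lt_normal with htop | ⟨K', hK'n, hHK', hK'lt⟩
  · have hKH : K ≤ H := Subgroup.subgroupOf_eq_top.mp htop
    intro s hs h hh
    exact H.mul_mem (H.mul_mem (hKH (hSK hs)) hh) (H.inv_mem (hKH (hSK hs)))
  · set L := K'.map K.subtype with hL
    have hLK : L ≤ K := Subgroup.map_subtype_le K'
    have hHL : H ≤ L := by
      intro h hh
      exact ⟨⟨h, hHK hh⟩, hHK' (Subgroup.mem_subgroupOf.mpr hh), rfl⟩
    have hLne : L ≠ K := by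
      intro h
      apply ne_of_lt hK'lt
      rw [eq_top_iff]
      intro x _
      have hx : (x : G) ∈ L := by rw [h]; exact x.2
      obtain ⟨y, hy, hyx⟩ := hx
      have hyx' : y = x := Subtype.ext hyx
      rw [← hyx']
      exact hy
    have hKL : ∀ k ∈ K, ∀ x ∈ L, k * x * k⁻¹ ∈ L := by
      intro k hk x hx
      obtain ⟨y, hy, hyx⟩ := hx
      refine ⟨⟨k, hk⟩ * y * ⟨k, hk⟩⁻¹, hK'n.conj_mem y hy ⟨k, hk⟩, ?_⟩
      rw [← hyx]
      rfl
    have hLcard : Nat.card L < n := by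
      rw [← hKn]
      exact lt_of_not_ge (fun h => hLne (Subgroup.eq_of_le_of_card_ge hLK h))
    have hsubL : (H.subgroupOf L).IsSubnormal := by
      have := hsub.comap (Subgroup.inclusion hLK)
      rwa [Subgroup.comap_inclusion_subgroupOf] at this
    by_cases hSL : S ⊓ L = ⊥
    · intro s hs h hh
      have hc : s * h * s⁻¹ * h⁻¹ ∈ S ⊓ L := by
        refine Subgroup.mem_inf.mpr ⟨?_, ?_⟩
        · have h1 := hKS h (hLK (hHL hh)) s⁻¹ (S.inv_mem hs)
          have e : s * h * s⁻¹ * h⁻¹ = s * (h * s⁻¹ * h⁻¹) := by group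
          rw [e]
          exact S.mul_mem hs h1
        · exact L.mul_mem (hKL s (hSK hs) h (hHL hh)) (L.inv_mem (hHL hh))
      rw [hSL, Subgroup.mem_bot] at hc
      have e : s * h * s⁻¹ = (s * h * s⁻¹ * h⁻¹) * h := by group
      rw [e, hc, one_mul]
      exact hh
    · have hSleL : S ≤ L := by
        have h1 : S ⊓ L = S := by
          apply hmin _ inf_le_left hSL
          intro k hk x hx
          exact Subgroup.mem_inf.mpr ⟨hKS k hk x (Subgroup.mem_inf.mp hx).1,
            hKL k hk x (Subgroup.mem_inf.mp hx).2⟩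
        exact inf_eq_left.mp h1
      -- the `L`-invariant nontrivial subgroups of `S`
      let Y : Set (Subgroup G) :=
        {X | X ≤ S ∧ X ≠ ⊥ ∧ ∀ l ∈ L, ∀ x ∈ X, l * x * l⁻¹ ∈ X}
      have hSY : S ∈ Y := ⟨le_rfl, hS1, fun l hl x hx => hKS l (hLK hl) x hx⟩
      obtain ⟨X₀, hX₀, hX₀min⟩ := exists_min_nat (fun X : Subgroup G => Nat.card X) Y ⟨S, hSY⟩
      let 𝒳 : Set (Subgroup G) := {X | X ∈ Y ∧ Nat.card X = Nat.card X₀}
      have hconj : ∀ k ∈ K, ∀ X ∈ 𝒳, X.map (MulAut.conj k).toMonoidHom ∈ 𝒳 := by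
        rintro k hk X ⟨⟨hXS, hX1, hXL⟩, hXc⟩
        refine ⟨⟨?_, ?_, ?_⟩, ?_⟩
        · rintro _ ⟨x, hx, rfl⟩
          exact hKS k hk x (hXS hx)
        · intro h
          apply hX1
          exact (Subgroup.map_eq_bot_iff_of_injective X (MulAut.conj k).injective).mp h
        · rintro l hl _ ⟨x, hx, rfl⟩
          have h1 : k⁻¹ * l * k⁻¹⁻¹ ∈ L := hKL k⁻¹ (K.inv_mem hk) l hl
          have h2 := hXL _ h1 x hx
          refine ⟨_, h2, ?_⟩
          simp only [MulEquiv.coe_toMonoidHom, MulAut.conj_apply]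
          group
        · rw [card_map_conj]; exact hXc
      set T := sSup 𝒳 with hT
      have hTS : T ≤ S := sSup_le (fun X hX => hX.1.1)
      have hX₀T : X₀ ≤ T := le_sSup ⟨hX₀, rfl⟩
      have hT1 : T ≠ ⊥ := by
        intro h
        apply hX₀.2.1
        rw [eq_bot_iff, ← h]
        exact hX₀T
      have hKT : ∀ k ∈ K, ∀ x ∈ T, k * x * k⁻¹ ∈ T := by
        intro k hk
        have h1 : T ≤ T.comap (MulAut.conj k).toMonoidHom := by
          apply sSup_le
          intro X hX x hx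
          rw [Subgroup.mem_comap]
          exact (le_sSup (hconj k hk X hX)) (Subgroup.mem_map_of_mem _ hx)
        intro x hx
        exact h1 hx
      have hTeq : T = S := hmin T hTS hT1 hKT
      have hXnorm : ∀ X ∈ 𝒳, X ≤ Subgroup.normalizer (H : Set G) := by
        rintro X ⟨⟨hXS, hX1, hXL⟩, hXc⟩
        apply le_normalizer_of_conj_mem
        apply ih (Nat.card L) hLcard L rfl H hHL hsubL X (hXS.trans hSleL) hX1 hXL
        intro T' hT'X hT'1 hT'L
        have hT'Y : T' ∈ Y := ⟨hT'X.trans hXS, hT'1, hT'L⟩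
        have h1 := hX₀min T' hT'Y
        exact Subgroup.eq_of_le_of_card_ge hT'X (by rw [hXc]; exact h1)
      have hSnorm : S ≤ Subgroup.normalizer (H : Set G) := by
        rw [← hTeq]
        exact sSup_le hXnorm
      intro s hs h hh
      exact conj_mem_of_le_normalizer hSnorm hs hh

/-- Wielandt: a minimal normal subgroup normalizes every subnormal subgroup. -/
theorem wielandt {G : Type*} [Group G] [Finite G] (H : Subgroup G) (hH : H.IsSubnormal)
    (S : Subgroup G) (hSn : S.Normal) (hS1 : S ≠ ⊥)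
    (hmin : ∀ T : Subgroup G, T.Normal → T ≤ S → T ≠ ⊥ → T = S) :
    ∀ s ∈ S, ∀ h ∈ H, s * h * s⁻¹ ∈ H := by
  apply wielandt_rel (Nat.card (⊤ : Subgroup G)) ⊤ rfl H le_top hH.subgroupOf S le_top hS1
  · intro k _ x hx
    exact hSn.conj_mem x hx k
  · intro T hTS hT1 hTn
    exact hmin T ⟨fun x hx k => hTn k (Subgroup.mem_top k) x hx⟩ hTS hT1

/-- Let G be a finite group, M a maximal subgroup of G and N a subnormal subgroup of G contained in M. Then N is contained in every conjugate of M, that is, N lies in the core of M in G. -/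
theorem result {G : Type*} [Group G] [Finite G] (M N : Subgroup G) (hM : IsCoatom M) (hN : N.IsSubnormal) (hNM : N ≤ M) :
    N ≤ Subgroup.normalCore M := by
  classical
  set C := Subgroup.normalCore M with hC
  have hCM : C ≤ M := Subgroup.normalCore_le M
  have hCn : C.Normal := Subgroup.normalCore_normal M
  have hCtop : C < ⊤ := lt_of_le_of_lt hCM hM.lt_top
  obtain ⟨S, ⟨hSn, hCS⟩, hSmin⟩ := exists_min_nat (fun X : Subgroup G => Nat.card X)
    {X | X.Normal ∧ C < X} ⟨⊤, Subgroup.normal_top, hCtop⟩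
  have hSM : ¬ S ≤ M := by
    intro h
    have h1 : S ≤ C := Subgroup.normal_le_normalCore.mpr h
    exact (not_le_of_gt hCS) h1
  have hsup : M ⊔ S = ⊤ := by
    apply hM.2
    refine lt_of_le_of_ne le_sup_left ?_
    intro h
    apply hSM
    rw [h]
    exact le_sup_right
  let π := QuotientGroup.mk' C
  have hπ : Function.Surjective π := QuotientGroup.mk'_surjective C
  have hker : π.ker = C := QuotientGroup.ker_mk' C
  have hmem : ∀ x : G, π x = 1 ↔ x ∈ C := fun x => by
    rw [← MonoidHom.mem_ker, hker]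
  have hS'n : (S.map π).Normal := hSn.map π hπ
  have hS'1 : S.map π ≠ ⊥ := by
    intro h
    rw [Subgroup.map_eq_bot_iff, hker] at h
    exact (not_le_of_gt hCS) h
  have hS'min : ∀ T : Subgroup (G ⧸ C), T.Normal → T ≤ S.map π → T ≠ ⊥ → T = S.map π := by
    intro T' hT'n hT'S hT'1
    have hTn : (T'.comap π).Normal := hT'n.comap π
    have hCT : C ≤ T'.comap π := by
      intro c hc
      rw [Subgroup.mem_comap, (hmem c).mpr hc]
      exact T'.one_mem
    have hCT' : C < T'.comap π := by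
      refine lt_of_le_of_ne hCT ?_
      intro h
      apply hT'1
      rw [← Subgroup.map_comap_eq_self_of_surjective hπ T', ← h, Subgroup.map_eq_bot_iff, hker]
    have hTS : T'.comap π ≤ S := by
      intro t ht
      obtain ⟨s, hs, hst⟩ := hT'S (Subgroup.mem_comap.mp ht)
      have h1 : s⁻¹ * t ∈ C := by
        rw [← hmem, map_mul, map_inv, hst]
        group
      have h2 := S.mul_mem hs (hCS.le h1)
      simpa using h2
    have hTeq : T'.comap π = S :=
      Subgroup.eq_of_le_of_card_ge hTS (hSmin _ ⟨hTn, hCT'⟩)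
    rw [← hTeq, Subgroup.map_comap_eq_self_of_surjective hπ T']
  have hW := wielandt (N.map π) (hN.map hπ) (S.map π) hS'n hS'1 hS'min
  have hSN : ∀ s ∈ S, ∀ n ∈ N, s * n * s⁻¹ ∈ M := by
    intro s hs n hn
    obtain ⟨n₂, hn₂, hn₂e⟩ := hW (π s) (Subgroup.mem_map_of_mem π hs) (π n)
      (Subgroup.mem_map_of_mem π hn)
    have h1 : n₂⁻¹ * (s * n * s⁻¹) ∈ C := by
      rw [← hmem, map_mul, map_inv, hn₂e, map_mul, map_mul, map_inv]
      group
    have h2 := M.mul_mem (hNM hn₂) (hCM h1)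
    simpa using h2
  intro n hn g
  have hg : g ∈ M ⊔ S := hsup ▸ Subgroup.mem_top g
  obtain ⟨m, hm, s, hs, rfl⟩ := (Subgroup.mem_sup_of_normal_right (ht := hSn)).mp hg
  have e : m * s * n * (m * s)⁻¹ = m * (s * n * s⁻¹) * m⁻¹ := by group
  rw [e]
  exact M.mul_mem (M.mul_mem hm (hSN s hs n hn)) (M.inv_mem hm)

end Cfsg.Agent.S3802
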