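import Cfsg.Statements.S3803
import Cfsg.Agent.Lib.helper66.PGroupAction

set_option autoImplicit false
open Cfsg

namespace Cfsg.Agent.S3803

open Cfsg.Agent.Lib.helper66

/-- If a `q`-group `B` (`q` odd) normalizes all subgroups of order `2 ^ k` of a 2-group `P` of
order at least `2 ^ (k + 1)`, then `B` centralizes every element of `P` of order at most `2 ^ k`. -/
theorem small_fixed {X : Type*} [Group X] [Finite X] {q : ℕ} [Fact q.Prime] (hq2 : q ≠ 2)
    {B P : Subgroup X} (hB : IsPGroup q B) (hP : IsPGroup 2 P) {k : ℕ}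
    (hk : 2 ^ (k + 1) ∣ Nat.card P)
    (hinv : ∀ E : Subgroup X, E ≤ P → Nat.card E = 2 ^ k → B ≤ Subgroup.normalizer (E : Set X))
    {x : X} (hx : x ∈ P) {j : ℕ} (hj : j ≤ k) (hxj : Nat.card (Subgroup.zpowers x) = 2 ^ j) :
    ∀ b ∈ B, b * x * b⁻¹ = x := by
  have : Fact (Nat.Prime 2) := ⟨Nat.prime_two⟩
  have hxP : Subgroup.zpowers x ≤ P := Subgroup.zpowers_le.mpr hx
  obtain ⟨E, hxE, hEP, hEcard⟩ := exists_between_card hxP hxj hj
    ((pow_dvd_pow 2 (Nat.le_succ k)).trans hk)
  obtain ⟨F, hEF, hFP, hFcard⟩ := exists_between_card hEP hEcard (Nat.le_succ k) hk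
  have hxE' : x ∈ E := hxE (Subgroup.mem_zpowers x)
  have fin : ∀ K : Subgroup X, x ∈ K → B ≤ Subgroup.centralizer (K : Set X) →
      ∀ b ∈ B, b * x * b⁻¹ = x := by
    intro K hxK hBK b hb
    have h1 := Subgroup.mem_centralizer_iff.mp (hBK hb) x hxK
    rw [← h1]; group
  by_cases hBF : B ≤ Subgroup.normalizer (F : Set X)
  · exact fin F (hEF hxE') (le_centralizer_of_normalizes_index_two hq2 hB hBF hFcard
      (fun M hMF hMcard => hinv M (hMF.trans hFP) hMcard))
  · have huniq : ∀ M : Subgroup X, M ≤ F → Nat.card M = 2 ^ k → M = E := by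
      intro M hMF hMcard
      by_contra hne
      apply hBF
      have hsup : E ⊔ M = F := by
        apply Subgroup.eq_of_le_of_card_ge (sup_le hEF hMF)
        have hlt : Nat.card E < Nat.card ↥(E ⊔ M) := by
          apply card_lt_card_of_lt' le_sup_left
          intro h
          have hME : M ≤ E := by rw [h]; exact le_sup_right
          exact hne (Subgroup.eq_of_le_of_card_ge hME (by rw [hEcard, hMcard]))
        have hdvd : Nat.card ↥(E ⊔ M) ∣ 2 ^ (k + 1) :=
          hFcard ▸ Subgroup.card_dvd_of_le (sup_le hEF hMF)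
        obtain ⟨c, hc, hcc⟩ := (Nat.dvd_prime_pow Nat.prime_two).mp hdvd
        rw [hcc, hEcard] at hlt
        have h1 : k < c := (Nat.pow_lt_pow_iff_right (by norm_num)).mp hlt
        have h2 : c = k + 1 := by omega
        rw [hFcard, hcc, h2]
      rw [← hsup]
      intro b hb
      rw [mem_normalizer_iff_map_conj, Subgroup.map_sup,
        (mem_normalizer_iff_map_conj E b).mp (hinv E hEP hEcard hb),
        (mem_normalizer_iff_map_conj M b).mp (hinv M (hMF.trans hFP) hMcard hb)]
    have hEF' : E ≠ F := by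
      intro h
      rw [h, hFcard] at hEcard
      have h1 := Nat.pow_right_injective (le_refl 2) hEcard
      omega
    obtain ⟨y, hyF, hyE⟩ : ∃ y ∈ F, y ∉ E := by
      by_contra hcon
      push Not at hcon
      exact hEF' (le_antisymm hEF hcon)
    have hyF' : Subgroup.zpowers y ≤ F := Subgroup.zpowers_le.mpr hyF
    have hcyc : Subgroup.zpowers y = F := by
      apply Subgroup.eq_of_le_of_card_ge hyF'
      have hdvd : Nat.card (Subgroup.zpowers y) ∣ 2 ^ (k + 1) :=
        hFcard ▸ Subgroup.card_dvd_of_le hyF'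
      obtain ⟨c, hc, hcc⟩ := (Nat.dvd_prime_pow Nat.prime_two).mp hdvd
      by_cases hck : c ≤ k
      · exfalso
        obtain ⟨M, hyM, hMF, hMcard⟩ := exists_between_card hyF' hcc hck
          (by rw [hFcard]; exact pow_dvd_pow 2 (Nat.le_succ k))
        rw [huniq M hMF hMcard] at hyM
        exact hyE (hyM (Subgroup.mem_zpowers y))
      · have h2 : c = k + 1 := by omega
        rw [hFcard, hcc, h2]
    have hFc : IsCyclic F := by
      rw [← hcyc]; infer_instance
    have hEc : IsCyclic E := Subgroup.isCyclic_of_le hEF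
    exact fin E hxE' (le_centralizer_of_normalizes_cyclic hq2 hB (hP.to_le hEP)
      (hinv E hEP hEcard))

/-- Let P be a 2-subgroup and A a subgroup of odd order of a finite group, with A normalizing P. Let D ≤ P with 1 < |D| < |P|. If every subgroup of P of order |D|, and also every subgroup of P of order 4 in case |D| = 2, is normalized by A, then A centralizes P. -/
theorem result {X : Type*} [Group X] [Finite X] (P A D : Subgroup X) (hP : IsPGroup 2 P) (hA : Odd (Nat.card A))
    (hAP : A ≤ Subgroup.normalizer (P : Set X)) (hDP : D ≤ P) (hD1 : 1 < Nat.card D) (hD2 : Nat.card D < Nat.card P)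
    (hinv : ∀ E : Subgroup X, E ≤ P → (Nat.card E = Nat.card D ∨ (Nat.card D = 2 ∧ Nat.card E = 4)) → A ≤ Subgroup.normalizer (E : Set X)) :
    A ≤ Subgroup.centralizer (P : Set X) := by
  classical
  have : Fact (Nat.Prime 2) := ⟨Nat.prime_two⟩
  obtain ⟨n, hn⟩ := IsPGroup.iff_card.mp hP
  obtain ⟨k, hk⟩ := IsPGroup.iff_card.mp (hP.to_le hDP)
  rw [hk] at hD1
  rw [hk, hn] at hD2
  have hk1 : 1 ≤ k := by
    by_contra h
    have h0 : k = 0 := by omega
    subst h0
    simp at hD1
  have hkn : k < n := (Nat.pow_lt_pow_iff_right (by norm_num)).mp hD2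
  have claim : ∀ (q : ℕ) [Fact q.Prime], q ≠ 2 → ∀ B : Subgroup X, IsPGroup q B → B ≤ A →
      B ≤ Subgroup.centralizer (P : Set X) := by
    intro q _ hq2 B hB hBA
    have hBP : B ≤ Subgroup.normalizer (P : Set X) := hBA.trans hAP
    by_cases hcase : n = 2
    · have hk' : k = 1 := by omega
      apply le_centralizer_of_normalizes_index_two hq2 hB hBP (k := 1) (by rw [hn, hcase])
      intro M hMP hMcard
      exact hBA.trans (hinv M hMP (Or.inl (by rw [hMcard, hk, hk'])))
    · obtain ⟨k', hk'2, hk'n, hk'inv⟩ : ∃ k', 2 ≤ k' ∧ k' < n ∧ ∀ E : Subgroup X, E ≤ P →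
          Nat.card E = 2 ^ k' → B ≤ Subgroup.normalizer (E : Set X) := by
        by_cases hk2 : 2 ≤ k
        · exact ⟨k, hk2, hkn, fun E hEP hE => hBA.trans (hinv E hEP (Or.inl (by rw [hE, hk])))⟩
        · have hk' : k = 1 := by omega
          exact ⟨2, le_rfl, by omega, fun E hEP hE => hBA.trans (hinv E hEP
            (Or.inr ⟨by rw [hk, hk']; norm_num, by rw [hE]; norm_num⟩))⟩
      have h4 : ∀ b ∈ B, ∀ x ∈ P, x ^ 4 = 1 → b * x * b⁻¹ = x := by
        intro b hb x hx hx4
        have hdvd : orderOf x ∣ 2 ^ 2 := orderOf_dvd_of_pow_eq_one (by norm_num; exact hx4)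
        obtain ⟨j, hj, hjj⟩ := (Nat.dvd_prime_pow Nat.prime_two).mp hdvd
        exact small_fixed hq2 hB hP ((pow_dvd_pow 2 (by omega)).trans (dvd_of_eq hn.symm)) hk'inv
          hx (hj.trans hk'2) (by rw [Nat.card_zpowers, hjj]) b hb
      intro b hb
      have hbodd : Odd (orderOf b) := by
        obtain ⟨e, he⟩ := (IsPGroup.iff_orderOf.mp hB) ⟨b, hb⟩
        have he' : orderOf b = q ^ e := by
          rw [← he]; exact (Subgroup.orderOf_mk b hb).symm
        rw [he']
        exact Odd.pow ((Fact.out : q.Prime).odd_of_ne_two hq2)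
      have h5 := conj_eq_of_fixes_order_four hP hbodd (hBP hb) (h4 b hb)
      rw [Subgroup.mem_centralizer_iff]
      intro x hx
      have h6 := h5 x hx
      calc x * b = b * x * b⁻¹ * b := by rw [h6]
        _ = b * x := by group
  have hC : A ⊓ Subgroup.centralizer (P : Set X) = A := by
    apply eq_of_forall_sylow_le inf_le_left
    intro q _
    obtain ⟨S⟩ : Nonempty (Sylow q A) := inferInstance
    refine ⟨S, le_inf (Subgroup.map_subtype_le _) ?_⟩
    by_cases hq2 : q = 2
    · subst hq2
      have hS1 : Nat.card ((S : Subgroup A).map A.subtype) = 1 := by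
        obtain ⟨e, he⟩ := IsPGroup.iff_card.mp (S.isPGroup'.map A.subtype)
        have hdvd : Nat.card ((S : Subgroup A).map A.subtype) ∣ Nat.card A :=
          Subgroup.card_dvd_of_le (Subgroup.map_subtype_le _)
        rw [he] at hdvd ⊢
        rcases e with _ | e
        · simp
        · exfalso
          have h2 : 2 ∣ Nat.card A := (dvd_pow_self 2 (Nat.succ_ne_zero e)).trans hdvd
          exact (Nat.not_even_iff_odd.mpr hA) (even_iff_two_dvd.mpr h2)
      rw [Subgroup.card_eq_one.mp hS1]
      exact bot_le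
    · exact claim q hq2 _ (S.isPGroup'.map _) (Subgroup.map_subtype_le _)
  rw [← hC]
  exact inf_le_right

end Cfsg.Agent.S3803
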