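import Cfsg.Statements.S3806
import Cfsg.Agent.Lib.helper12.MCCore
import Cfsg.Agent.Lib.helper22.S3806_TR1
import Cfsg.Agent.Lib.helper22.S3806_TR2
import Cfsg.Agent.Lib.helper15.MaxClass

set_option autoImplicit false
open Cfsg

namespace Cfsg.Agent.S3806

/-- Let p be a prime and S a finite p-group of order pⁿ (n ≥ 2) of maximal nilpotency class n − 1 whose sectional p-rank is exactly k (every section has p-rank at most k, and some section has p-rank k). If p ≥ k + 2 then the order of S is at most p^(2k). -/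
theorem result {S : Type*} [Group S] [Finite S] (p : ℕ) [Fact p.Prime] (hS : IsPGroup p S) [Group.IsNilpotent S]
    (n : ℕ) (hn : 2 ≤ n) (hcard : Nat.card S = p ^ n) (hmax : Group.nilpotencyClass S = n - 1)
    (k : ℕ) (hk : 1 ≤ k) (hsr : Cfsg.SectionalPRankLE p k S ∧ ¬ Cfsg.SectionalPRankLE p (k - 1) S)
    (hpk : k + 2 ≤ p) : Nat.card S ≤ p ^ (2 * k) := by
  by_contra hcon
  have hp := (Fact.out : p.Prime)
  have hnk : 2 * k + 1 ≤ n := by
    by_contra h
    apply hcon
    rw [hcard]
    exact Nat.pow_le_pow_right hp.pos (by omega)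
  have hn3 : 3 ≤ n := by omega
  have hanti := Subgroup.lowerCentralSeries_antitone (⊤ : Subgroup S)
  have hI : ∀ i, 1 ≤ i → i ≤ n - 1 →
      ((⊤ : Subgroup S).lowerCentralSeries i).index = p ^ (i + 1) := fun i hi1 hi =>
    Cfsg.Agent.Lib.helper15.MaxClass.index_lcs_of_maxClass (G := S) hcard hmax hn3 i hi1 hi
  rcases Nat.lt_or_ge k 2 with hk1 | hk2
  · -- k = 1
    have hk' : k = 1 := by omega
    subst hk'
    refine Cfsg.Agent.Lib.helper12.MC.not_sectionalPRankLE_of_section p 1 ⊤ ((⊤ : Subgroup S).lowerCentralSeries 1)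
      le_top ?_ ?_ ?_ hsr.1
    · rw [Subgroup.relIndex_top_right]
      exact hI 1 le_rfl (by omega)
    · intro x _
      exact Cfsg.Agent.Lib.helper26.helper26_mc_pow_mem p n hn3 hcard (hI 1 le_rfl (by omega)) x
    · intro x _ y _
      rw [Subgroup.lowerCentralSeries_succ]
      exact Subgroup.commutator_mem_commutator (Subgroup.mem_top x) (Subgroup.mem_top y)
  · -- k ≥ 2
    obtain ⟨hidxT, hbotT, hmapT⟩ := Cfsg.Agent.Lib.helper12.MC.quot_hyps p n k hk hnk hcard hmax
    have hcore := Cfsg.Agent.Lib.helper12.MC.core p k hk2 hpk hidxT hbotT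
    have hcommT := Cfsg.Agent.Lib.helper12.MC.h12_lcs_comm_of_index p k hk2 hidxT hbotT
    have hle : (⊤ : Subgroup S).lowerCentralSeries (2 * k) ≤
        (⊤ : Subgroup S).lowerCentralSeries (k - 1) := hanti (by omega)
    have hmem : ∀ x ∈ (⊤ : Subgroup S).lowerCentralSeries (k - 1),
        (QuotientGroup.mk' ((⊤ : Subgroup S).lowerCentralSeries (2 * k)) x) ∈
          (⊤ : Subgroup (S ⧸ (⊤ : Subgroup S).lowerCentralSeries (2 * k))).lowerCentralSeries
            (k - 1) := by
      intro x hx
      rw [hmapT]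
      exact Subgroup.mem_map_of_mem _ hx
    refine Cfsg.Agent.Lib.helper12.MC.not_sectionalPRankLE_of_section p k ((⊤ : Subgroup S).lowerCentralSeries (k - 1))
      ((⊤ : Subgroup S).lowerCentralSeries (2 * k)) hle ?_ ?_ ?_ hsr.1
    · have h1 := Subgroup.relIndex_mul_index hle
      rw [hI (2 * k) (by omega) (by omega), hI (k - 1) (by omega) (by omega)] at h1
      have h2 : p ^ (2 * k + 1) = p ^ (k + 1) * p ^ (k - 1 + 1) := by
        rw [← pow_add]; congr 1; omega
      rw [h2] at h1
      exact Nat.eq_of_mul_eq_mul_right (pow_pos hp.pos _) h1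
    · intro x hx
      have h1 := hcore _ (hmem x hx)
      rw [← map_pow] at h1
      exact (QuotientGroup.eq_one_iff _).mp h1
    · intro x hx y hy
      have h1 := hcommT _ (hmem x hx) _ (hmem y hy)
      have h2 : (QuotientGroup.mk' ((⊤ : Subgroup S).lowerCentralSeries (2 * k)))
          (x * y * x⁻¹ * y⁻¹) = 1 := by
        rw [map_mul, map_mul, map_mul, map_inv, map_inv, h1]
        group
      exact (QuotientGroup.eq_one_iff _).mp h2

end Cfsg.Agent.S3806
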