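import Cfsg.Statements.S3807
import Cfsg.Agent.S0127
import Cfsg.Agent.Lib.helper3.Extraspecial
import Cfsg.Agent.Lib.helper3.PGroupFrattini
import Cfsg.Agent.Lib.helper15.MaxClass

set_option autoImplicit false
open Cfsg

namespace Cfsg.Agent.S3807

section aux

open scoped commutatorElement

variable {S : Type*} [Group S] [Finite S] {p : ℕ} [hp : Fact p.Prime]

omit [Finite S] in
/-- an abelian index-`p` subgroup of a nonabelian group contains the center -/
theorem center_le_of_abelian_index (hna : ¬ IsMulCommutative S)
    (B : Subgroup S) (hB : IsMulCommutative ↥B) (hBi : B.index = p) :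
    Subgroup.center S ≤ B := by
  intro z hz
  by_contra hzB
  have hlt : B < B ⊔ Subgroup.zpowers z := by
    refine lt_of_le_of_ne le_sup_left fun h => hzB ?_
    rw [h]
    exact Subgroup.mem_sup_right (Subgroup.mem_zpowers z)
  have htop := Cfsg.Agent.S0127.eq_top_of_lt_of_index_prime hp.out hBi hlt
  apply hna
  have hcl : (⊤ : Subgroup S) = Subgroup.closure ((B : Set S) ∪ {z}) := by
    rw [Subgroup.closure_union, Subgroup.closure_eq, ← Subgroup.zpowers_eq_closure, htop]
  have hc : IsMulCommutative ↥(Subgroup.closure ((B : Set S) ∪ {z})) := by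
    apply Subgroup.isMulCommutative_closure
    intro a ha b hb
    rcases ha with ha | ha
    · rcases hb with hb | hb
      · have := hB.is_comm.comm ⟨a, ha⟩ ⟨b, hb⟩
        exact congrArg Subtype.val this
      · rw [Set.mem_singleton_iff] at hb
        rw [hb]
        exact Subgroup.mem_center_iff.mp hz a
    · rw [Set.mem_singleton_iff] at ha
      rw [ha]
      exact (Subgroup.mem_center_iff.mp hz b).symm
  rw [← hcl] at hc
  refine ⟨⟨fun a b => ?_⟩⟩
  have := hc.is_comm.comm ⟨a, Subgroup.mem_top a⟩ ⟨b, Subgroup.mem_top b⟩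
  exact congrArg Subtype.val this

omit [Finite S] in
theorem mem_center_of_sup {B : Subgroup S} {z : S} (htop : B ⊔ Subgroup.zpowers z = ⊤) {g : S}
    (hgB : ∀ b ∈ B, b * g = g * b) (hgz : z * g = g * z) : g ∈ Subgroup.center S := by
  have h1 : B ⊔ Subgroup.zpowers z ≤ Subgroup.centralizer {g} := by
    refine sup_le ?_ ?_
    · intro b hb
      rw [Subgroup.mem_centralizer_iff]
      intro h hh
      rw [Set.mem_singleton_iff] at hh
      rw [hh]
      exact (hgB b hb).symm
    · rw [Subgroup.zpowers_le, Subgroup.mem_centralizer_iff]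
      intro h hh
      rw [Set.mem_singleton_iff] at hh
      rw [hh]
      exact hgz.symm
  rw [htop] at h1
  rw [Subgroup.mem_center_iff]
  intro h
  have := h1 (Subgroup.mem_top h)
  rw [Subgroup.mem_centralizer_iff] at this
  exact (this g rfl).symm

omit [Finite S] in
theorem sup_zpowers_eq_top {B : Subgroup S} (hBi : B.index = p) {z : S} (hz : z ∉ B) :
    B ⊔ Subgroup.zpowers z = ⊤ := by
  have hlt : B < B ⊔ Subgroup.zpowers z := by
    refine lt_of_le_of_ne le_sup_left fun h => hz ?_
    rw [h]
    exact Subgroup.mem_sup_right (Subgroup.mem_zpowers z)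
  exact Cfsg.Agent.S0127.eq_top_of_lt_of_index_prime hp.out hBi hlt

theorem index_center_eq (hS : IsPGroup p S) (hna : ¬ IsMulCommutative S)
    (A : Subgroup S) (hA : IsMulCommutative ↥A) (hAi : A.index = p) :
    (Subgroup.center S).index = p * Nat.card (commutator S) := by
  have hAco := Cfsg.Agent.S0127.isCoatom_of_index_prime hp.out hAi
  have hAn : A.Normal := (Cfsg.Agent.Lib.helper3.coatom_normal_index hS hAco).1
  obtain ⟨x, hx⟩ : ∃ x : S, x ∉ A := by
    by_contra h
    push Not at h
    exact hAco.1 (eq_top_iff.mpr fun g _ => h g)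
  have htop : A ⊔ Subgroup.zpowers x = ⊤ := sup_zpowers_eq_top hAi hx
  have hZle := center_le_of_abelian_index hna A hA hAi
  have hcA : ∀ a ∈ A, ⁅a, x⁆ ∈ A := by
    intro a ha
    have h1 := hAn.conj_mem a⁻¹ (A.inv_mem ha) x
    have h2 : ⁅a, x⁆ = a * (x * a⁻¹ * x⁻¹) := by
      rw [commutatorElement_def]; group
    rw [h2]; exact A.mul_mem ha h1
  have hAc : ∀ a ∈ A, ∀ b ∈ A, a * b = b * a := by
    intro a ha b hb
    have := hA.is_comm.comm ⟨a, ha⟩ ⟨b, hb⟩
    exact congrArg Subtype.val this
  let θ : A →* S := MonoidHom.mk' (fun a => ⁅(a : S), x⁆) (by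
    intro a b
    have h1 : ⁅((a * b : A) : S), x⁆ = (a : S) * ⁅(b : S), x⁆ * (a : S)⁻¹ * ⁅(a : S), x⁆ := by
      simp only [commutatorElement_def, Subgroup.coe_mul]; group
    have h2 : (a : S) * ⁅(b : S), x⁆ = ⁅(b : S), x⁆ * (a : S) := hAc _ a.2 _ (hcA b b.2)
    have h3 : ⁅(a : S), x⁆ * ⁅(b : S), x⁆ = ⁅(b : S), x⁆ * ⁅(a : S), x⁆ :=
      hAc _ (hcA a a.2) _ (hcA b b.2)
    rw [h1, h2, mul_inv_cancel_right, h3])
  have hθ : ∀ a : A, θ a = ⁅(a : S), x⁆ := fun a => rfl
  -- kernel
  have hker : (θ.ker).map A.subtype = Subgroup.center S := by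
    ext z
    rw [Subgroup.mem_map]
    constructor
    · rintro ⟨k, hk, rfl⟩
      rw [MonoidHom.mem_ker, hθ, commutatorElement_eq_one_iff_mul_comm] at hk
      refine mem_center_of_sup htop ?_ hk.symm
      intro b hb
      exact hAc b hb _ k.2
    · intro hz
      refine ⟨⟨z, hZle hz⟩, ?_, rfl⟩
      rw [MonoidHom.mem_ker, hθ, commutatorElement_eq_one_iff_mul_comm]
      exact (Subgroup.mem_center_iff.mp hz x).symm
  have hkercard : Nat.card θ.ker = Nat.card (Subgroup.center S) := by
    rw [← hker]
    exact (Subgroup.card_map_of_injective A.subtype_injective).symm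
  -- range
  have hrangeA : θ.range ≤ A := by
    rintro _ ⟨a, rfl⟩
    exact hcA a a.2
  have hrange : θ.range = commutator S := by
    apply le_antisymm
    · rintro _ ⟨a, rfl⟩
      rw [hθ, commutator_def]
      exact Subgroup.commutator_mem_commutator (Subgroup.mem_top _) (Subgroup.mem_top _)
    · have hnorm : Subgroup.normalizer (θ.range : Set S) = ⊤ := by
        rw [eq_top_iff, ← htop]
        refine sup_le ?_ ?_
        · intro a ha
          apply Cfsg.Agent.Lib.helper3.mem_normalizer_of_conj_mem
          intro k hk
          have : a * k * a⁻¹ = k := by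
            rw [hAc a ha k (hrangeA hk), mul_inv_cancel_right]
          rw [this]; exact hk
        · rw [Subgroup.zpowers_le]
          apply Cfsg.Agent.Lib.helper3.mem_normalizer_of_conj_mem
          rintro _ ⟨a, rfl⟩
          have hxa : x * (a : S) * x⁻¹ ∈ A := hAn.conj_mem a a.2 x
          refine ⟨⟨_, hxa⟩, ?_⟩
          rw [hθ, hθ]
          simp only [commutatorElement_def]
          group
      have hN : θ.range.Normal := Subgroup.normalizer_eq_top_iff.mp hnorm
      have hcl : (⊤ : Subgroup (S ⧸ θ.range)) =
          Subgroup.closure ((QuotientGroup.mk' θ.range) '' ((A : Set S) ∪ {x})) := by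
        rw [← MonoidHom.map_closure, Subgroup.closure_union, Subgroup.closure_eq,
          ← Subgroup.zpowers_eq_closure, htop, ← MonoidHom.range_eq_map,
          MonoidHom.range_eq_top.mpr (QuotientGroup.mk'_surjective _)]
      have hxa : ∀ a ∈ A, (QuotientGroup.mk' θ.range) a * (QuotientGroup.mk' θ.range) x =
          (QuotientGroup.mk' θ.range) x * (QuotientGroup.mk' θ.range) a := by
        intro a ha
        rw [← map_mul, ← map_mul]
        have : a * x = ⁅a, x⁆ * (x * a) := by
          rw [commutatorElement_def]; group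
        rw [this, map_mul]
        have h1 : (QuotientGroup.mk' θ.range) ⁅a, x⁆ = 1 := by
          rw [QuotientGroup.mk'_apply, QuotientGroup.eq_one_iff]
          exact ⟨⟨a, ha⟩, rfl⟩
        rw [h1, one_mul]
      have hc : IsMulCommutative ↥(Subgroup.closure
          ((QuotientGroup.mk' θ.range) '' ((A : Set S) ∪ {x}))) := by
        apply Subgroup.isMulCommutative_closure
        rintro _ ⟨a, ha, rfl⟩ _ ⟨b, hb, rfl⟩
        rcases ha with ha | ha
        · rcases hb with hb | hb
          · rw [← map_mul, ← map_mul, hAc a ha b hb]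
          · rw [Set.mem_singleton_iff] at hb
            rw [hb]
            exact hxa a ha
        · rw [Set.mem_singleton_iff] at ha
          rw [ha]
          rcases hb with hb | hb
          · exact (hxa b hb).symm
          · rw [Set.mem_singleton_iff] at hb
            rw [hb]
      rw [← hcl] at hc
      rw [commutator_def, Subgroup.commutator_le]
      intro g _ h _
      rw [← QuotientGroup.eq_one_iff, ← QuotientGroup.mk'_apply, map_commutatorElement,
        commutatorElement_eq_one_iff_mul_comm]
      have := hc.is_comm.comm ⟨_, Subgroup.mem_top ((QuotientGroup.mk' θ.range) g)⟩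
        ⟨_, Subgroup.mem_top ((QuotientGroup.mk' θ.range) h)⟩
      exact congrArg Subtype.val this
  -- counting
  have h1 : Nat.card θ.ker * θ.ker.index = Nat.card A := Subgroup.card_mul_index _
  rw [Subgroup.index_ker, hrange, hkercard] at h1
  have h2 : Nat.card A * A.index = Nat.card S := Subgroup.card_mul_index _
  have h3 : Nat.card (Subgroup.center S) * (Subgroup.center S).index = Nat.card S :=
    Subgroup.card_mul_index _
  rw [← h2, ← h1, hAi, mul_assoc] at h3
  have hpos : 0 < Nat.card (Subgroup.center S) := Nat.card_pos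
  rw [Nat.mul_left_cancel hpos h3, mul_comm]

end aux

/-- Let S be a non-abelian finite p-group with an abelian subgroup A of index p. Then [S : Z(S)] = p·#[S,S], and either [S,S] has order p, S/Z(S) is elementary abelian of order p², and S has exactly p + 1 abelian subgroups of index p; or [S,S] has order at least p² and A is the only abelian subgroup of index p in S. -/
theorem result {S : Type*} [Group S] [Finite S] (p : ℕ) [Fact p.Prime] (hS : IsPGroup p S) (hna : ¬ IsMulCommutative S)
    (A : Subgroup S) (hA : IsMulCommutative ↥A) (hAi : A.index = p) :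
    (Subgroup.center S).index = p * Nat.card (commutator S) ∧
      ((Nat.card (commutator S) = p ∧ Cfsg.IsElementaryAbelian p (⊤ : Subgroup (S ⧸ Subgroup.center S)) ∧
          Nat.card (S ⧸ Subgroup.center S) = p ^ 2 ∧
          Nat.card {B : Subgroup S // IsMulCommutative ↥B ∧ B.index = p} = p + 1) ∨
        (p ^ 2 ≤ Nat.card (commutator S) ∧ ∀ B : Subgroup S, IsMulCommutative ↥B → B.index = p → B = A)) := by
  have hp : p.Prime := Fact.out
  have hidx := index_center_eq hS hna A hA hAi
  refine ⟨hidx, ?_⟩
  obtain ⟨j, hj⟩ := IsPGroup.iff_card.mp (hS.to_subgroup (commutator S))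
  have hj0 : j ≠ 0 := by
    rintro rfl
    rw [pow_zero] at hj
    have h1 : commutator S = ⊥ := Subgroup.card_eq_one.mp hj
    rw [commutator_eq_bot_iff_center_eq_top] at h1
    apply hna
    refine ⟨⟨fun a b => ?_⟩⟩
    have hb : b ∈ Subgroup.center S := h1 ▸ Subgroup.mem_top b
    exact Subgroup.mem_center_iff.mp hb a
  rcases Nat.lt_or_ge j 2 with hj2 | hj2
  · left
    have hj1 : j = 1 := by omega
    subst hj1
    rw [pow_one] at hj
    rw [hj] at hidx
    have hcardQ : Nat.card (S ⧸ Subgroup.center S) = p ^ 2 := by
      rw [← Subgroup.index_eq_card, hidx, sq]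
    have hncyc : ¬ IsCyclic (S ⧸ Subgroup.center S) := by
      intro hc
      apply hna
      exact (QuotientGroup.mk' (Subgroup.center S)).isMulCommutative_of_isCyclic_of_ker_le_center
        (by rw [QuotientGroup.ker_mk'])
    have hQcomm : IsMulCommutative (S ⧸ Subgroup.center S) :=
      IsPGroup.isMulCommutative_of_card_eq_prime_sq hcardQ
    refine ⟨hj, ⟨?_, ?_⟩, hcardQ, ?_⟩
    · refine ⟨⟨fun a b => ?_⟩⟩
      ext
      exact hQcomm.is_comm.comm a.1 b.1
    · intro q _
      have h1 : orderOf q ∣ p ^ 2 := hcardQ ▸ orderOf_dvd_natCard q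
      obtain ⟨i, hi, hio⟩ := (Nat.dvd_prime_pow hp).mp h1
      have hi2 : i ≠ 2 := by
        rintro rfl
        exact hncyc (isCyclic_of_orderOf_eq_card q (by rw [hio, hcardQ]))
      have h2 : orderOf q ∣ p := by
        rw [hio]
        interval_cases i
        · simp
        · simp
        · exact absurd rfl hi2
      exact orderOf_dvd_iff_pow_eq_one.mp h2
    · let π := QuotientGroup.mk' (Subgroup.center S)
      have hπs : Function.Surjective π := QuotientGroup.mk'_surjective _
      have hkerπ : π.ker = Subgroup.center S := QuotientGroup.ker_mk' _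
      have hcomapab : ∀ H : Subgroup (S ⧸ Subgroup.center S), H.index = p →
          IsMulCommutative ↥(H.comap π) := by
        intro H hH
        have hHc : Nat.card H = p := by
          have h1 := H.card_mul_index
          rw [hcardQ, hH, sq] at h1
          exact Nat.eq_of_mul_eq_mul_right hp.pos h1
        have hcyc : IsCyclic H := isCyclic_of_prime_card hHc
        obtain ⟨g, hg⟩ := hcyc.exists_generator
        obtain ⟨g0, hg0⟩ := hπs (g : S ⧸ Subgroup.center S)
        have hform : ∀ k ∈ H.comap π, ∃ i : ℤ, ∃ z ∈ Subgroup.center S, k = g0 ^ i * z := by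
          intro k hk
          obtain ⟨i, hi⟩ := Subgroup.mem_zpowers_iff.mp (hg ⟨π k, hk⟩)
          refine ⟨i, (g0 ^ i)⁻¹ * k, ?_, by group⟩
          rw [← hkerπ, MonoidHom.mem_ker, map_mul, map_inv, map_zpow, hg0]
          have h2 : (g : S ⧸ Subgroup.center S) ^ i = π k := by
            have h3 := congrArg Subtype.val hi
            simpa using h3
          rw [h2, inv_mul_cancel]
        refine ⟨⟨fun a b => ?_⟩⟩
        obtain ⟨i, z, hz, hk1⟩ := hform a a.2
        obtain ⟨j, w, hw, hk2⟩ := hform b b.2
        ext
        rw [Subgroup.coe_mul, Subgroup.coe_mul, hk1, hk2]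
        have hz' := Subgroup.mem_center_iff.mp hz
        have hw' := Subgroup.mem_center_iff.mp hw
        calc g0 ^ i * z * (g0 ^ j * w) = g0 ^ i * (z * g0 ^ j) * w := by group
          _ = g0 ^ i * (g0 ^ j * z) * w := by rw [hz' (g0 ^ j)]
          _ = (g0 ^ i * g0 ^ j) * (z * w) := by group
          _ = (g0 ^ j * g0 ^ i) * (w * z) := by rw [← zpow_add, ← zpow_add, add_comm, hz' w]
          _ = g0 ^ j * (g0 ^ i * w) * z := by group
          _ = g0 ^ j * (w * g0 ^ i) * z := by rw [hw' (g0 ^ i)]
          _ = g0 ^ j * w * (g0 ^ i * z) := by group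
      have hequiv : {B : Subgroup S // IsMulCommutative ↥B ∧ B.index = p} ≃
          {H : Subgroup (S ⧸ Subgroup.center S) // H.index = p} :=
        { toFun := fun B => ⟨B.1.map π, by
              have hle : π.ker ≤ B.1 := by
                rw [hkerπ]
                exact center_le_of_abelian_index hna B.1 B.2.1 B.2.2
              rw [Subgroup.index_map_eq _ hπs hle]
              exact B.2.2⟩
          invFun := fun H => ⟨H.1.comap π, hcomapab H.1 H.2, by
              rw [Subgroup.index_comap_of_surjective _ hπs]; exact H.2⟩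
          left_inv := fun B => by
              apply Subtype.ext
              show (B.1.map π).comap π = B.1
              rw [Subgroup.comap_map_eq, hkerπ, sup_eq_left]
              exact center_le_of_abelian_index hna B.1 B.2.1 B.2.2
          right_inv := fun H => by
              apply Subtype.ext
              exact Subgroup.map_comap_eq_self_of_surjective hπs H.1 }
      rw [Nat.card_congr hequiv]
      exact Cfsg.Agent.Lib.helper15.MaxClass.card_index_p_subgroups hcardQ hncyc
  · right
    refine ⟨?_, ?_⟩
    · rw [hj]; exact Nat.pow_le_pow_right hp.pos hj2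
    · intro B hB hBi
      by_contra hne
      have hBco := Cfsg.Agent.S0127.isCoatom_of_index_prime hp hBi
      have hAco := Cfsg.Agent.S0127.isCoatom_of_index_prime hp hAi
      have hsup : A ⊔ B = ⊤ := by
        by_contra h
        have h1 : A ⊔ B = A := by
          by_contra h2
          exact h (hAco.2 _ (lt_of_le_of_ne le_sup_left (Ne.symm h2)))
        have h2 : B ≤ A := h1 ▸ le_sup_right
        exact hAco.1 (hBco.2 _ (lt_of_le_of_ne h2 hne))
      have hle : A ⊓ B ≤ Subgroup.center S := by
        intro g hg
        have h1 : A ⊔ B ≤ Subgroup.centralizer {g} := by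
          refine sup_le ?_ ?_
          · intro a ha
            rw [Subgroup.mem_centralizer_iff]
            intro h hh
            rw [Set.mem_singleton_iff] at hh
            rw [hh]
            have h2 := hA.is_comm.comm ⟨g, hg.1⟩ ⟨a, ha⟩
            exact congrArg Subtype.val h2
          · intro a ha
            rw [Subgroup.mem_centralizer_iff]
            intro h hh
            rw [Set.mem_singleton_iff] at hh
            rw [hh]
            have h2 := hB.is_comm.comm ⟨g, hg.2⟩ ⟨a, ha⟩
            exact congrArg Subtype.val h2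
        rw [hsup] at h1
        rw [Subgroup.mem_center_iff]
        intro h
        have h2 := h1 (Subgroup.mem_top h)
        rw [Subgroup.mem_centralizer_iff] at h2
        exact (h2 g rfl).symm
      have h1 : (Subgroup.center S).index ∣ (A ⊓ B).index := Subgroup.index_dvd_of_le hle
      have h2 : (A ⊓ B).index ≤ p * p := by
        have h := Subgroup.index_inf_le (H := A) (K := B)
        rwa [hAi, hBi] at h
      have h3 : (A ⊓ B).index ≠ 0 := Subgroup.index_ne_zero_of_finite
      have h4 := Nat.le_of_dvd (Nat.pos_of_ne_zero h3) h1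
      rw [hidx, hj] at h4
      have h5 : p ^ j ≤ p := Nat.le_of_mul_le_mul_left (h4.trans h2) hp.pos
      have h6 : p ^ 2 ≤ p ^ j := Nat.pow_le_pow_right hp.pos hj2
      have h7 : p < p ^ 2 := by
        have := hp.one_lt; nlinarith
      omega

end Cfsg.Agent.S3807
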