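import Cfsg.Statements.S3808
import Mathlib

set_option autoImplicit false
open Cfsg

namespace Cfsg.Agent.S3808

theorem card_mul_relIndex' {G : Type*} [Group G] (H K : Subgroup G) (h : H ≤ K) :
    Nat.card H * H.relIndex K = Nat.card K := by
  have := Subgroup.relIndex_mul_relIndex (⊥ : Subgroup G) H K bot_le h
  rwa [Subgroup.relIndex_bot_left, Subgroup.relIndex_bot_left] at this

/-- Let S be a finite p-group with an extraspecial subgroup Q of index p. Then either Z(S) = Z(Q), or S = Q·Z(S) and Z(S) has order p². -/
theorem result {S : Type*} [Group S] [Finite S] (p : ℕ) [Fact p.Prime] (hS : IsPGroup p S) (Q : Subgroup S) (hQ : Cfsg.IsExtraspecial p ↥Q) (hQi : Q.index = p) :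
    Subgroup.center S = (Subgroup.center ↥Q).map Q.subtype ∨
      (Q ⊔ Subgroup.center S = ⊤ ∧ Nat.card (Subgroup.center S) = p ^ 2) := by
  have hp : p.Prime := Fact.out
  have hZQ : Nat.card (Subgroup.center ↥Q) = p := hQ.2
  have hcardmap : Nat.card ((Subgroup.center ↥Q).map Q.subtype) = p := by
    rw [Subgroup.card_map_of_injective Q.subtype_injective, hZQ]
  -- Z(S) ∩ Q ≤ Z(Q)
  have hle : Subgroup.center S ⊓ Q ≤ (Subgroup.center ↥Q).map Q.subtype := by
    intro z hz
    obtain ⟨hz1, hz2⟩ := hz
    refine ⟨⟨z, hz2⟩, ?_, rfl⟩
    rw [SetLike.mem_coe, Subgroup.mem_center_iff]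
    intro g
    apply Subtype.ext
    exact (Subgroup.mem_center_iff.mp hz1) g
  by_cases hc : Subgroup.center S ≤ Q
  · left
    have hle' : Subgroup.center S ≤ (Subgroup.center ↥Q).map Q.subtype := by
      intro z hz
      exact hle ⟨hz, hc hz⟩
    apply Subgroup.eq_of_le_of_card_ge hle'
    rw [hcardmap]
    haveI : Nontrivial S := by
      by_contra hnt
      rw [not_nontrivial_iff_subsingleton] at hnt
      have : Q = ⊤ := Subsingleton.elim _ _
      rw [this, Subgroup.index_top] at hQi
      exact hp.one_lt.ne hQi
    haveI := hS.center_nontrivial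
    have hZp : IsPGroup p (Subgroup.center S) := hS.to_subgroup _
    rcases hZp.card_eq_or_dvd with h1 | h1
    · exfalso
      have := (Finite.one_lt_card_iff_nontrivial (α := Subgroup.center S)).mpr inferInstance
      omega
    · exact Nat.le_of_dvd Nat.card_pos h1
  · right
    have htop : Q ⊔ Subgroup.center S = ⊤ := by
      have h1 := Subgroup.relIndex_mul_index (le_sup_left : Q ≤ Q ⊔ Subgroup.center S)
      rw [hQi] at h1
      have h2 : Q.relIndex (Q ⊔ Subgroup.center S) ∣ p := Dvd.intro _ h1
      rcases (Nat.dvd_prime hp).mp h2 with h3 | h3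
      · exfalso
        apply hc
        rw [Subgroup.relIndex_eq_one] at h3
        exact le_sup_right.trans h3
      · rw [h3] at h1
        have h4 : (Q ⊔ Subgroup.center S).index = 1 := by
          have hp0 : 0 < p := hp.pos
          nlinarith [Nat.eq_of_mul_eq_mul_left hp0 (by rw [h1, mul_one] : p * (Q ⊔ Subgroup.center S).index = p * 1)]
        exact Subgroup.index_eq_one.mp h4
    refine ⟨htop, ?_⟩
    have heq : Subgroup.center S ⊓ Q = (Subgroup.center ↥Q).map Q.subtype := by
      apply le_antisymm hle
      rintro z ⟨z', hz', rfl⟩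
      refine ⟨?_, z'.2⟩
      change (z' : S) ∈ Subgroup.center S
      have hz' : z' ∈ Subgroup.center ↥Q := hz'
      rw [Subgroup.mem_center_iff]
      have hcent : Q ⊔ Subgroup.center S ≤ Subgroup.centralizer {(z' : S)} := by
        apply sup_le
        · intro q hq
          rw [Subgroup.mem_centralizer_iff]
          intro h hh
          rw [Set.mem_singleton_iff] at hh
          subst hh
          have := (Subgroup.mem_center_iff.mp hz') ⟨q, hq⟩
          exact (congrArg Subtype.val this).symm
        · intro c hc'
          rw [Subgroup.mem_centralizer_iff]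
          intro h hh
          exact (Subgroup.mem_center_iff.mp hc' h)
      intro g
      have hg : g ∈ Subgroup.centralizer {(z' : S)} := hcent (htop ▸ Subgroup.mem_top g)
      rw [Subgroup.mem_centralizer_iff] at hg
      exact (hg _ rfl).symm
    -- counting
    have hcardS : Nat.card Q * p = Nat.card S := by
      rw [← hQi]; exact Subgroup.card_mul_index Q
    have h1 : Nat.card (Subgroup.center S) * (Subgroup.center S).relIndex Q = Nat.card S := by
      have := card_mul_relIndex' (Subgroup.center S) (Q ⊔ Subgroup.center S) le_sup_right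
      rw [Subgroup.relIndex_sup_right] at this
      rw [this, htop, Subgroup.card_top]
    have h2 : p * (Subgroup.center S).relIndex Q = Nat.card Q := by
      have := card_mul_relIndex' (Subgroup.center S ⊓ Q) Q inf_le_right
      rw [Subgroup.inf_relIndex_right, heq, hcardmap] at this
      exact this
    have hr : 0 < (Subgroup.center S).relIndex Q := by
      rcases Nat.eq_zero_or_pos ((Subgroup.center S).relIndex Q) with h | h
      · rw [h, mul_zero] at h2
        have := Nat.card_pos (α := Q)
        omega
      · exact h
    have h3 : Nat.card (Subgroup.center S) * (Subgroup.center S).relIndex Q =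
        p ^ 2 * (Subgroup.center S).relIndex Q := by
      rw [h1, ← hcardS, ← h2]; ring
    exact Nat.eq_of_mul_eq_mul_right hr h3

end Cfsg.Agent.S3808
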