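import Cfsg.Statements.S3809
import Cfsg.Agent.S0127
import Cfsg.Agent.Lib.helper3.Extraspecial
import Cfsg.Agent.Lib.helper3.PGroupFrattini

set_option autoImplicit false
open Cfsg

namespace Cfsg.Agent.S3809

open Cfsg.Agent.Lib.helper3
open scoped commutatorElement

/-- Let S be a finite p-group with an extraspecial subgroup of index p. Then S has order p^(2+2n) for some n ≥ 1, derived length at most 3, and exponent dividing p³. -/
theorem result {S : Type*} [Group S] [Finite S] (p : ℕ) [Fact p.Prime] (hS : IsPGroup p S) (Q : Subgroup S) (hQ : Cfsg.IsExtraspecial p ↥Q) (hQi : Q.index = p) :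
    (∃ n : ℕ, 1 ≤ n ∧ Nat.card S = p ^ (2 + 2 * n)) ∧ derivedSeries S 3 = ⊥ ∧ ∀ x : S, x ^ (p ^ 3) = 1 := by
  have hpP : p.Prime := Fact.out
  obtain ⟨z, hz⟩ := exists_esdata hQ
  obtain ⟨k, x, y, -, -, hcard⟩ := hz.exists_symplectic_basis
  obtain ⟨⟨hQp, hfr, hcm⟩, hZcard⟩ := hQ
  have hQco : IsCoatom Q := Cfsg.Agent.S0127.isCoatom_of_index_prime hpP hQi
  have hcomS : commutator S ≤ Q := commutator_le_coatom hS hQco
  have hpowS : ∀ x : S, x ^ p ∈ Q := fun x => pow_prime_mem_coatom hS hQco x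
  have hk : 1 ≤ k := by
    by_contra hk0
    have hk0' : k = 0 := by omega
    rw [hk0', mul_zero, zero_add, pow_one] at hcard
    have h1 : Subgroup.center ↥Q = ⊤ := Subgroup.eq_top_of_card_eq _ (by rw [hZcard, hcard])
    have h2 : commutator ↥Q = ⊥ := by
      rw [commutator_def, Subgroup.commutator_top_left_eq_bot_iff_le_center, h1]
    rw [h2] at hcm
    rw [← hcm, Subgroup.card_bot] at hZcard
    exact hpP.one_lt.ne hZcard
  refine ⟨⟨k, hk, ?_⟩, ?_, ?_⟩
  · rw [← Subgroup.card_mul_index Q, hQi, hcard]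
    ring
  · have h1 : derivedSeries S 1 ≤ Q := by
      rw [derivedSeries_succ, derivedSeries_zero, ← commutator_def]; exact hcomS
    have h2 : derivedSeries S 2 ≤ (Subgroup.center ↥Q).map Q.subtype := by
      rw [derivedSeries_succ]
      refine (Subgroup.commutator_mono h1 h1).trans ?_
      rw [Subgroup.commutator_le]
      intro a ha b hb
      refine ⟨⁅(⟨a, ha⟩ : Q), (⟨b, hb⟩ : Q)⁆, ?_, rfl⟩
      rw [SetLike.mem_coe, ← hcm, commutator_def]
      exact Subgroup.commutator_mem_commutator (Subgroup.mem_top _) (Subgroup.mem_top _)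
    rw [derivedSeries_succ, eq_bot_iff]
    refine (Subgroup.commutator_mono h2 h2).trans ?_
    rw [Subgroup.commutator_le]
    rintro _ ⟨a, ha, rfl⟩ _ ⟨b, hb, rfl⟩
    rw [Subgroup.mem_bot, commutatorElement_eq_one_iff_commute]
    have h3 := Subgroup.mem_center_iff.mp ha b
    exact (congrArg Subtype.val h3).symm
  · have hQ2 : ∀ q : Q, q ^ (p ^ 2) = 1 := by
      intro q
      have h1 : q ^ p ∈ Subgroup.center ↥Q := by
        rw [← hfr]; exact pow_prime_mem_frattini hQp q
      have h2 : (⟨q ^ p, h1⟩ : Subgroup.center ↥Q) ^ p = 1 := by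
        have := pow_card_eq_one' (G := Subgroup.center ↥Q) (x := ⟨q ^ p, h1⟩)
        rwa [hZcard] at this
      have h3 := congrArg Subtype.val h2
      rw [sq, pow_mul]
      exact h3
    intro x
    have h1 := hQ2 ⟨x ^ p, hpowS x⟩
    have h2 := congrArg Subtype.val h1
    rw [show p ^ 3 = p * p ^ 2 by ring, pow_mul]
    exact h2

end Cfsg.Agent.S3809
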