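import Cfsg.Statements.S3810
import Cfsg.Agent.S0127
import Cfsg.Agent.Lib.helper3.Extraspecial
import Cfsg.Agent.Lib.helper3.PGroupFrattini
import Cfsg.Agent.Lib.helper3.PGroupNormal

set_option autoImplicit false
open Cfsg

namespace Cfsg.Agent.S3810

open Cfsg.Agent.Lib.helper3
open scoped commutatorElement

/-- An extraspecial group with an abelian subgroup of index at most `p` has order at most
`p ^ 3`. -/
theorem card_le_of_abelian_index {E : Type*} [Group E] [Finite E] {p : ℕ} [Fact p.Prime] {z : E}
    (hz : ESData p z) (hE : IsPGroup p E) (B : Subgroup E)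
    (hB : ∀ a ∈ B, ∀ b ∈ B, a * b = b * a) (hBi : B.index ≤ p) : Nat.card E ≤ p ^ 3 := by
  have hpP : p.Prime := Fact.out
  have hzc : Nat.card (Subgroup.zpowers z) = p := by rw [Nat.card_zpowers, hz.order]
  by_cases hBt : B = ⊤
  · have hall : ∀ g : E, g ∈ Subgroup.zpowers z := fun g =>
      hz.center g (fun h => hB g (by rw [hBt]; trivial) h (by rw [hBt]; trivial))
    have h1 : Subgroup.zpowers z = ⊤ := eq_top_iff.mpr fun g _ => hall g
    rw [← Subgroup.card_top (G := E), ← h1, hzc]
    calc p = p ^ 1 := (pow_one p).symm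
      _ ≤ p ^ 3 := Nat.pow_le_pow_right hpP.pos (by norm_num)
  · have hidx : B.index = p := by
      obtain ⟨j, hj⟩ := hE.index B
      rcases j with _ | _ | j
      · exact absurd (Subgroup.index_eq_one.mp (by simpa using hj)) hBt
      · simpa using hj
      · exfalso
        rw [hj] at hBi
        have h2 : p ^ 2 ≤ p ^ (j + 1 + 1) := Nat.pow_le_pow_right hpP.pos (by omega)
        have := hpP.one_lt
        nlinarith
    obtain ⟨x, hx⟩ : ∃ x : E, x ∉ B := by
      by_contra hcon
      push Not at hcon
      exact hBt (eq_top_iff.mpr fun g _ => hcon g)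
    have hsup : B ⊔ Subgroup.zpowers x = ⊤ := by
      apply Cfsg.Agent.S0127.eq_top_of_lt_of_index_prime hpP hidx
      refine lt_of_le_of_ne le_sup_left ?_
      intro h
      apply hx
      rw [h]
      exact Subgroup.mem_sup_right (Subgroup.mem_zpowers x)
    let φ : B →* E := MonoidHom.mk' (fun b => ⁅(b : E), x⁆) (fun a b => by
      show ⁅((a * b : B) : E), x⁆ = _
      rw [Subgroup.coe_mul, hz.comm_mul_left])
    have hφ : ∀ b : B, φ b = ⁅(b : E), x⁆ := fun b => rfl
    have hrange : φ.range ≤ Subgroup.zpowers z := by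
      rintro _ ⟨b, rfl⟩
      exact hz.comm _ _
    have hcr : Nat.card φ.range ≤ p := by
      rw [← hzc]; exact Subgroup.card_le_of_le hrange
    have hmem : ∀ b : φ.ker, ((b : B) : E) ∈ Subgroup.zpowers z := by
      intro b
      apply hz.center
      have hbx : ⁅((b : B) : E), x⁆ = 1 := by
        have := MonoidHom.mem_ker.mp b.2
        rwa [hφ] at this
      have hbx' : ((b : B) : E) * x = x * ((b : B) : E) :=
        commutatorElement_eq_one_iff_mul_comm.mp hbx
      have hle : B ⊔ Subgroup.zpowers x ≤ Subgroup.centralizer {((b : B) : E)} := by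
        refine sup_le ?_ ?_
        · intro c hc
          rw [Subgroup.mem_centralizer_iff]
          intro h hh
          rw [Set.mem_singleton_iff] at hh
          rw [hh]
          exact hB _ (b : B).2 c hc
        · rw [Subgroup.zpowers_le, Subgroup.mem_centralizer_iff]
          intro h hh
          rw [Set.mem_singleton_iff] at hh
          rw [hh]
          exact hbx'
      intro h
      have h1 : h ∈ Subgroup.centralizer {((b : B) : E)} := hle (by rw [hsup]; trivial)
      rw [Subgroup.mem_centralizer_iff] at h1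
      exact h1 _ rfl
    have hker : Nat.card φ.ker ≤ p := by
      rw [← hzc]
      exact Nat.card_le_card_of_injective
        (fun b : φ.ker => (⟨((b : B) : E), hmem b⟩ : Subgroup.zpowers z)) (by
          intro a b h
          have h' := congrArg (fun w : Subgroup.zpowers z => (w : E)) h
          exact Subtype.ext (Subtype.ext h'))
    have h1 := Subgroup.card_mul_index φ.ker
    rw [Subgroup.index_ker] at h1
    have hBc : Nat.card B ≤ p * p := by
      rw [← h1]; exact Nat.mul_le_mul hker hcr
    rw [← Subgroup.card_mul_index B, hidx]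
    calc Nat.card B * p ≤ p * p * p := Nat.mul_le_mul_right p hBc
      _ = p ^ 3 := by ring

/-- Let S be a finite p-group with an extraspecial subgroup of index p. Then S has an abelian subgroup of index p if and only if S has order p⁴. -/
theorem result {S : Type*} [Group S] [Finite S] (p : ℕ) [Fact p.Prime] (hS : IsPGroup p S) (Q : Subgroup S) (hQ : Cfsg.IsExtraspecial p ↥Q) (hQi : Q.index = p) :
    (∃ A : Subgroup S, IsMulCommutative ↥A ∧ A.index = p) ↔ Nat.card S = p ^ 4 := by
  have hpP : p.Prime := Fact.out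
  obtain ⟨z, hz⟩ := exists_esdata hQ
  obtain ⟨k, x, y, -, -, hcard⟩ := hz.exists_symplectic_basis
  obtain ⟨⟨hQp, hfr, hcm⟩, hZcard⟩ := hQ
  have hQco : IsCoatom Q := Cfsg.Agent.S0127.isCoatom_of_index_prime hpP hQi
  have hQn : Q.Normal := (coatom_normal_index hS hQco).1
  have hScard : Nat.card S = p ^ (2 * k + 2) := by
    rw [← Subgroup.card_mul_index Q, hQi, hcard]; ring
  constructor
  · rintro ⟨A, hA, hAi⟩
    have hB : ∀ a ∈ A.subgroupOf Q, ∀ b ∈ A.subgroupOf Q, a * b = b * a := by
      intro a ha b hb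
      apply Subtype.ext
      have := hA.is_comm.comm (⟨(a : S), ha⟩ : A) ⟨(b : S), hb⟩
      show (a : S) * (b : S) = (b : S) * (a : S)
      exact congrArg Subtype.val this
    have hBi : (A.subgroupOf Q).index ≤ p := by
      have h1 : (A.subgroupOf Q).index = A.relIndex Q := rfl
      rw [h1, ← hAi, ← Subgroup.relIndex_top_right]
      apply Subgroup.relIndex_le_of_le_right le_top
      rw [Subgroup.relIndex_top_right, hAi]
      exact hpP.ne_zero
    have h2 := card_le_of_abelian_index hz hQp (A.subgroupOf Q) hB hBi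
    rw [hcard] at h2
    have hk1 : 2 * k + 1 ≤ 3 := (Nat.pow_le_pow_iff_right hpP.one_lt).mp h2
    have hk0 : 1 ≤ k := by
      by_contra hk0
      have hk0' : k = 0 := by omega
      rw [hk0', mul_zero, zero_add, pow_one] at hcard
      have h1 : Subgroup.center ↥Q = ⊤ := Subgroup.eq_top_of_card_eq _ (by rw [hZcard, hcard])
      have h3 : commutator ↥Q = ⊥ := by
        rw [commutator_def, Subgroup.commutator_top_left_eq_bot_iff_le_center, h1]
      rw [h3] at hcm
      rw [← hcm, Subgroup.card_bot] at hZcard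
      exact hpP.one_lt.ne hZcard
    have : k = 1 := by omega
    rw [hScard, this]
  · intro h4
    have hk1 : k = 1 := by
      rw [hScard] at h4
      have := Nat.pow_right_injective hpP.two_le h4
      omega
    rw [hk1] at hcard
    -- the centre of Q inside S
    have hZmn : ((Subgroup.center ↥Q).map Q.subtype).Normal := by
      refine ⟨fun w hw g => ?_⟩
      obtain ⟨c, hc, rfl⟩ := hw
      refine ⟨⟨g * c * g⁻¹, hQn.conj_mem c c.2 g⟩, ?_, rfl⟩
      rw [SetLike.mem_coe, Subgroup.mem_center_iff]
      intro q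
      apply Subtype.ext
      have h1 := Subgroup.mem_center_iff.mp hc ⟨g⁻¹ * q * g, by
        have := hQn.conj_mem q q.2 g⁻¹
        simpa using this⟩
      have h2 : g⁻¹ * (q : S) * g * (c : S) = (c : S) * (g⁻¹ * (q : S) * g) :=
        congrArg Subtype.val h1
      show (q : S) * (g * (c : S) * g⁻¹) = g * (c : S) * g⁻¹ * (q : S)
      have e1 : (q : S) * (g * (c : S) * g⁻¹) = g * (g⁻¹ * (q : S) * g * (c : S)) * g⁻¹ := by
        group
      rw [e1, h2]
      group
    have hZmcard : Nat.card ((Subgroup.center ↥Q).map Q.subtype) = p := by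
      rw [Subgroup.card_map_of_injective (Subgroup.subtype_injective _)]; exact hZcard
    have hZmbot : (Subgroup.center ↥Q).map Q.subtype ≠ ⊥ := by
      intro h
      rw [h, Subgroup.card_bot] at hZmcard
      exact hpP.one_lt.ne hZmcard
    have hZmc : (Subgroup.center ↥Q).map Q.subtype ≤ Subgroup.center S := by
      obtain ⟨z₀, hz₀Z, hz₀c, hz₀1, -⟩ := exists_central_of_normal_ne_bot hS _ hZmbot
      intro w hw
      have h1 : (⟨w, hw⟩ : (Subgroup.center ↥Q).map Q.subtype) ∈
          Subgroup.zpowers (⟨z₀, hz₀Z⟩ : (Subgroup.center ↥Q).map Q.subtype) :=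
        mem_zpowers_of_prime_card hZmcard (fun h => hz₀1 (congrArg Subtype.val h))
      obtain ⟨n, hn⟩ := Subgroup.mem_zpowers_iff.mp h1
      have h2 : z₀ ^ n = w := by
        have := congrArg Subtype.val hn
        simpa using this
      rw [← h2]
      exact Subgroup.zpow_mem _ hz₀c n
    have hZQ : (Subgroup.center ↥Q).map Q.subtype < Q := by
      refine lt_of_le_of_ne (Subgroup.map_subtype_le _) ?_
      intro h
      rw [h, hcard] at hZmcard
      have h5 : p ^ (2 * 1 + 1) = p ^ 1 := by rw [hZmcard, pow_one]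
      have := Nat.pow_right_injective hpP.two_le h5
      omega
    obtain ⟨x, hxQ, hxZ, -, hxc⟩ := exists_mem_not_mem_of_normal_lt hS _ Q hZQ
    have hcx : ∀ t g : S, ⁅t, x⁆ * g = g * ⁅t, x⁆ := by
      intro t g
      have h1 : ⁅t, x⁆ ∈ (Subgroup.center ↥Q).map Q.subtype := by
        rw [← commutatorElement_inv]
        exact Subgroup.inv_mem _ (hxc t)
      exact ((Subgroup.mem_center_iff.mp (hZmc h1)) g).symm
    let ψ : S →* S := MonoidHom.mk' (fun s => ⁅s, x⁆) (fun s t => by
      have e : ⁅s * t, x⁆ = s * ⁅t, x⁆ * s⁻¹ * ⁅s, x⁆ := by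
        simp only [commutatorElement_def]; group
      rw [e, ← hcx t s, mul_inv_cancel_right, hcx t])
    have hψ : ∀ s : S, ψ s = ⁅s, x⁆ := fun s => rfl
    have hrange : ψ.range ≤ (Subgroup.center ↥Q).map Q.subtype := by
      rintro _ ⟨s, rfl⟩
      rw [hψ, ← commutatorElement_inv]
      exact Subgroup.inv_mem _ (hxc s)
    have hkermem : ∀ s : S, s ∈ ψ.ker ↔ s * x = x * s := by
      intro s
      rw [MonoidHom.mem_ker, hψ, commutatorElement_eq_one_iff_mul_comm]
    have hidx : ψ.ker.index = p := by
      rw [Subgroup.index_ker]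
      have h1 : Nat.card ψ.range ∣ p := by
        rw [← hZmcard]; exact Subgroup.card_dvd_of_le hrange
      rcases (Nat.dvd_prime hpP).mp h1 with h2 | h2
      · exfalso
        apply hxZ
        have h3 : ψ.ker = ⊤ := by
          rw [← Subgroup.index_eq_one, Subgroup.index_ker]; exact h2
        refine ⟨⟨x, hxQ⟩, ?_, rfl⟩
        rw [SetLike.mem_coe, Subgroup.mem_center_iff]
        intro q
        apply Subtype.ext
        have h4 : (q : S) ∈ ψ.ker := by rw [h3]; trivial
        exact (hkermem _).mp h4
      · exact h2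
    have hAcard : Nat.card ψ.ker = p ^ 3 := by
      have h1 := Subgroup.card_mul_index ψ.ker
      rw [hidx, h4] at h1
      have h2 : Nat.card ψ.ker * p = p ^ 3 * p := by rw [h1]; ring
      exact Nat.eq_of_mul_eq_mul_right hpP.pos h2
    -- the centre of A = ker ψ
    have hxA : x ∈ ψ.ker := (hkermem x).mpr rfl
    have hxcen : (⟨x, hxA⟩ : ψ.ker) ∈ Subgroup.center ψ.ker := by
      rw [Subgroup.mem_center_iff]
      intro a
      apply Subtype.ext
      exact (hkermem _).mp a.2
    have hZmA : (Subgroup.center ↥Q).map Q.subtype ≤ ψ.ker := by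
      intro w hw
      rw [hkermem]
      exact (Subgroup.mem_center_iff.mp (hZmc hw) x).symm
    have hZm'le : ((Subgroup.center ↥Q).map Q.subtype).subgroupOf ψ.ker ≤ Subgroup.center ψ.ker := by
      intro w hw
      rw [Subgroup.mem_center_iff]
      intro a
      apply Subtype.ext
      exact Subgroup.mem_center_iff.mp (hZmc (Subgroup.mem_subgroupOf.mp hw)) a
    have hZm'card : Nat.card (((Subgroup.center ↥Q).map Q.subtype).subgroupOf ψ.ker) = p := by
      rw [Nat.card_congr (Subgroup.subgroupOfEquivOfLe hZmA).toEquiv]; exact hZmcard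
    have hdvd : Nat.card (Subgroup.center ψ.ker) ∣ p ^ 3 := by
      rw [← hAcard]; exact Subgroup.card_subgroup_dvd_card (Subgroup.center ψ.ker)
    obtain ⟨j, hj3, hj⟩ := (Nat.dvd_prime_pow hpP).mp hdvd
    have hj2 : 2 ≤ j := by
      by_contra hlt
      have hj1 : j ≤ 1 := by omega
      have h1 : Nat.card (Subgroup.center ψ.ker) ≤ p := by
        rw [hj]
        calc p ^ j ≤ p ^ 1 := Nat.pow_le_pow_right hpP.pos hj1
          _ = p := pow_one p
      have h2 : ((Subgroup.center ↥Q).map Q.subtype).subgroupOf ψ.ker = Subgroup.center ψ.ker :=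
        Subgroup.eq_of_le_of_card_ge hZm'le (by rw [hZm'card]; exact h1)
      apply hxZ
      have h3 : (⟨x, hxA⟩ : ψ.ker) ∈
          ((Subgroup.center ↥Q).map Q.subtype).subgroupOf ψ.ker := by rw [h2]; exact hxcen
      exact Subgroup.mem_subgroupOf.mp h3
    have hqc : Nat.card (ψ.ker ⧸ Subgroup.center ψ.ker) * p ^ j = p ^ 3 := by
      rw [← hj, ← hAcard]
      exact (Subgroup.card_eq_card_quotient_mul_card_subgroup (Subgroup.center ψ.ker)).symm
    have hcyc : IsCyclic (ψ.ker ⧸ Subgroup.center ψ.ker) := by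
      have hj' : j = 2 ∨ j = 3 := by omega
      rcases hj' with rfl | rfl
      · have h1 : Nat.card (ψ.ker ⧸ Subgroup.center ψ.ker) = p := by
          have h2 : Nat.card (ψ.ker ⧸ Subgroup.center ψ.ker) * p ^ 2 = p * p ^ 2 := by
            rw [hqc]; ring
          exact Nat.eq_of_mul_eq_mul_right (pow_pos hpP.pos 2) h2
        exact isCyclic_of_prime_card h1
      · have h1 : Nat.card (ψ.ker ⧸ Subgroup.center ψ.ker) = 1 := by
          have h2 : Nat.card (ψ.ker ⧸ Subgroup.center ψ.ker) * p ^ 3 = 1 * p ^ 3 := by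
            rw [hqc]; ring
          exact Nat.eq_of_mul_eq_mul_right (pow_pos hpP.pos 3) h2
        have : Subsingleton (ψ.ker ⧸ Subgroup.center ψ.ker) :=
          (Nat.card_eq_one_iff_unique.mp h1).1
        exact isCyclic_of_subsingleton
    have hcomm := (QuotientGroup.mk' (Subgroup.center ψ.ker)).isMulCommutative_of_isCyclic_of_ker_le_center
      (by rw [QuotientGroup.ker_mk'])
    exact ⟨ψ.ker, hcomm, hidx⟩

end Cfsg.Agent.S3810
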