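import Cfsg.Statements.S3815

set_option autoImplicit false
open Cfsg

namespace Cfsg.Agent.S3815

/-- The submonoid of all `d` such that `d * g` is a `p'`-element for every `p'`-element `g`. -/
def goodSub (G : Type*) [Group G] (p : ℕ) : Submonoid G where
  carrier := {d | ∀ g : G, (orderOf g).Coprime p → (orderOf (d * g)).Coprime p}
  one_mem' := by
    intro g hg
    simpa using hg
  mul_mem' := by
    intro a b ha hb g hg
    rw [mul_assoc]
    exact ha _ (hb g hg)

theorem orderOf_conj_eq {G : Type*} [Group G] (c a : G) : orderOf (c * a * c⁻¹) = orderOf a :=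
  (SemiconjBy.orderOf_eq c (x := a) (y := c * a * c⁻¹) (by simp [SemiconjBy])).symm

/-- Let G be a finite group, p a prime and d ∈ G an element of order prime to p. If dg has order prime to p for every element g ∈ G of order prime to p, then d ∈ O_{p'}(G). -/
theorem result {G : Type*} [Group G] [Finite G] {p : ℕ} [Fact p.Prime]
    (d : G) (hd : (orderOf d).Coprime p)
    (h : ∀ g : G, (orderOf g).Coprime p → (orderOf (d * g)).Coprime p) :
    d ∈ Cfsg.pPrimeCore p G := by
  classical
  -- the subgroup of good elements
  let D : Subgroup G :=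
    { goodSub G p with
      inv_mem' := by
        intro a ha
        have hfin : IsOfFinOrder a := isOfFinOrder_of_finite a
        have : a⁻¹ = a ^ (orderOf a - 1) := by
          rw [inv_eq_iff_mul_eq_one, ← pow_succ']
          have hpos : 0 < orderOf a := hfin.orderOf_pos
          have : orderOf a - 1 + 1 = orderOf a := by omega
          rw [this, pow_orderOf_eq_one]
        rw [this]
        exact (goodSub G p).pow_mem ha _ }
  have hmemD : ∀ a : G, a ∈ D ↔ ∀ g : G, (orderOf g).Coprime p → (orderOf (a * g)).Coprime p :=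
    fun a => Iff.rfl
  have hDnormal : D.Normal := by
    constructor
    intro a ha c
    rw [hmemD] at ha ⊢
    intro g hg
    have h1 : (orderOf (c⁻¹ * g * c)).Coprime p := by
      have : c⁻¹ * g * c = c⁻¹ * g * c⁻¹⁻¹ := by simp
      rw [this, orderOf_conj_eq]
      exact hg
    have h2 := ha _ h1
    have : c * a * c⁻¹ * g = c * (a * (c⁻¹ * g * c)) * c⁻¹ := by group
    rw [this, orderOf_conj_eq]
    exact h2
  have hDcop : (Nat.card D).Coprime p := by
    have hp : p.Prime := Fact.out
    rw [Nat.coprime_comm, Nat.Prime.coprime_iff_not_dvd hp]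
    intro hdvd
    obtain ⟨x, hx⟩ := exists_prime_orderOf_dvd_card' (G := D) p hdvd
    have hxD : (x : G) ∈ D := x.2
    have h3 := (hmemD _).1 hxD 1 (by simp)
    rw [mul_one, Subgroup.orderOf_coe, hx] at h3
    exact hp.ne_one (Nat.coprime_self p |>.1 h3)
  have hdD : d ∈ D := (hmemD d).2 h
  have hle : D ≤ Cfsg.pPrimeCore p G := le_sSup ⟨hDnormal, hDcop⟩
  exact hle hdD

end Cfsg.Agent.S3815
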