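import Cfsg.Statements.S3820

set_option autoImplicit false
open Cfsg

namespace Cfsg.Agent.S3820

theorem map_conj_mul {G : Type*} [Group G] (H : Subgroup G) (a b : G) :
    H.map (MulAut.conj (a * b)).toMonoidHom =
      (H.map (MulAut.conj b).toMonoidHom).map (MulAut.conj a).toMonoidHom := by
  rw [Subgroup.map_map]
  congr 1
  ext x
  simp [mul_assoc]

theorem map_conj_one {G : Type*} [Group G] (H : Subgroup G) :
    H.map (MulAut.conj (1 : G)).toMonoidHom = H := by
  ext y
  simp

theorem mem_map_conj {G : Type*} [Group G] (H : Subgroup G) (a y : G) :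
    y ∈ H.map (MulAut.conj a).toMonoidHom ↔ a⁻¹ * y * a ∈ H := by
  constructor
  · rintro ⟨h, hh, rfl⟩
    simpa [mul_assoc] using hh
  · intro hy
    exact ⟨a⁻¹ * y * a, hy, by simp [mul_assoc]⟩

theorem mem_normalizer_of_map_conj_eq {G : Type*} [Group G] (S : Subgroup G) (n : G)
    (h : S.map (MulAut.conj n).toMonoidHom = S) : n ∈ Subgroup.normalizer (S : Set G) := by
  rw [Subgroup.mem_normalizer_iff]
  intro s
  constructor
  · intro hs
    have : n * s * n⁻¹ ∈ S.map (MulAut.conj n).toMonoidHom := by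
      rw [mem_map_conj]; simpa [mul_assoc] using hs
    rwa [h] at this
  · intro hs
    rw [← h, mem_map_conj] at hs
    simpa [mul_assoc] using hs

/-- Call a subgroup H of G pronormal if H and gHg⁻¹ are conjugate inside ⟨H, gHg⁻¹⟩ for every g ∈ G. Let S ≤ H ≤ G be subgroups of a finite group with S pronormal in G (for instance S a Sylow subgroup). Then H is pronormal in G if and only if H and gHg⁻¹ are conjugate inside ⟨H, gHg⁻¹⟩ for every g ∈ N_G(S). In particular H is pronormal whenever N_G(S) ≤ H. -/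
theorem result {G : Type*} [Group G] [Finite G] (S H : Subgroup G) (hSH : S ≤ H)
    (hS : Cfsg.IsPronormal S) :
    Cfsg.IsPronormal H ↔
      ∀ g ∈ Subgroup.normalizer (S : Set G), ∃ w ∈ H ⊔ H.map (MulAut.conj g).toMonoidHom,
        H.map (MulAut.conj g).toMonoidHom = H.map (MulAut.conj w).toMonoidHom := by
  constructor
  · intro hH g _
    exact hH g
  · intro hyp g
    obtain ⟨x, hx, hSx⟩ := hS g
    -- n = x⁻¹ g normalizes S
    have hn : x⁻¹ * g ∈ Subgroup.normalizer (S : Set G) := by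
      apply mem_normalizer_of_map_conj_eq
      rw [map_conj_mul, hSx, ← map_conj_mul, inv_mul_cancel, map_conj_one]
    obtain ⟨w, hw, hHw⟩ := hyp _ hn
    have hle : S ⊔ S.map (MulAut.conj g).toMonoidHom ≤ H ⊔ H.map (MulAut.conj g).toMonoidHom :=
      sup_le_sup hSH (Subgroup.map_mono hSH)
    have hx' : x ∈ H ⊔ H.map (MulAut.conj g).toMonoidHom := hle hx
    have hle2 : H ⊔ H.map (MulAut.conj (x⁻¹ * g)).toMonoidHom ≤ H ⊔ H.map (MulAut.conj g).toMonoidHom := by
      apply sup_le le_sup_left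
      intro y hy
      rw [map_conj_mul, mem_map_conj] at hy
      have hy2 : x⁻¹⁻¹ * y * x⁻¹ ∈ H ⊔ H.map (MulAut.conj g).toMonoidHom :=
        (le_sup_right : H.map (MulAut.conj g).toMonoidHom ≤ _) hy
      have : y = x⁻¹ * (x⁻¹⁻¹ * y * x⁻¹) * x := by group
      rw [this]
      exact Subgroup.mul_mem _ (Subgroup.mul_mem _ (Subgroup.inv_mem _ hx') hy2) hx'
    refine ⟨x * w, Subgroup.mul_mem _ hx' (hle2 hw), ?_⟩
    rw [map_conj_mul H x w, ← hHw, ← map_conj_mul, mul_inv_cancel_left]

end Cfsg.Agent.S3820
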