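import Cfsg.Statements.S3821

set_option autoImplicit false
open Cfsg
open scoped Pointwise

namespace Cfsg.Agent.S3821

theorem map_conj_mul {G : Type*} [Group G] (H : Subgroup G) (a b : G) :
    H.map (MulAut.conj (a * b)).toMonoidHom =
      (H.map (MulAut.conj b).toMonoidHom).map (MulAut.conj a).toMonoidHom := by
  rw [Subgroup.map_map]
  congr 1
  ext x
  simp [mul_assoc]

theorem map_conj_one {G : Type*} [Group G] (H : Subgroup G) :
    H.map (MulAut.conj (1 : G)).toMonoidHom = H := by
  ext y
  simp

theorem mem_map_conj {G : Type*} [Group G] (H : Subgroup G) (a y : G) :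
    y ∈ H.map (MulAut.conj a).toMonoidHom ↔ a⁻¹ * y * a ∈ H := by
  constructor
  · rintro ⟨h, hh, rfl⟩
    simpa [mul_assoc] using hh
  · intro hy
    exact ⟨a⁻¹ * y * a, hy, by simp [mul_assoc]⟩

theorem mem_normalizer_of_map_conj_eq {G : Type*} [Group G] (S : Subgroup G) (n : G)
    (h : S.map (MulAut.conj n).toMonoidHom = S) : n ∈ Subgroup.normalizer (S : Set G) := by
  rw [Subgroup.mem_normalizer_iff]
  intro s
  constructor
  · intro hs
    have : n * s * n⁻¹ ∈ S.map (MulAut.conj n).toMonoidHom := by
      rw [mem_map_conj]; simpa [mul_assoc] using hs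
    rwa [h] at this
  · intro hs
    rw [← h, mem_map_conj] at hs
    simpa [mul_assoc] using hs

theorem map_conj_eq_of_mem_normalizer {G : Type*} [Group G] (S : Subgroup G) (n : G)
    (h : n ∈ Subgroup.normalizer (S : Set G)) : S.map (MulAut.conj n).toMonoidHom = S := by
  ext y
  rw [mem_map_conj]
  rw [Subgroup.mem_normalizer_iff] at h
  rw [h (n⁻¹ * y * n)]
  have : n * (n⁻¹ * y * n) * n⁻¹ = y := by group
  rw [this]

/-- conjugates of a subgroup of a normal subgroup stay inside -/
theorem map_conj_le_of_normal {G : Type*} [Group G] (A H : Subgroup G) [A.Normal] (hHA : H ≤ A) (g : G) :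
    H.map (MulAut.conj g).toMonoidHom ≤ A := by
  rintro y ⟨h, hh, rfl⟩
  exact Subgroup.Normal.conj_mem inferInstance h (hHA hh) g

/-- transport of a conjugate of `H.subgroupOf A` to the ambient group -/
theorem map_subtype_map_conj {G : Type*} [Group G] (A H : Subgroup G) (hHA : H ≤ A) (a : A) :
    ((H.subgroupOf A).map (MulAut.conj a).toMonoidHom).map A.subtype =
      H.map (MulAut.conj (a : G)).toMonoidHom := by
  ext y
  constructor
  · rintro ⟨z, ⟨h, hh, rfl⟩, rfl⟩
    refine ⟨(h : G), ?_, ?_⟩
    · exact Subgroup.mem_subgroupOf.1 hh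
    · simp
  · rintro ⟨h, hh, rfl⟩
    refine ⟨a * ⟨h, hHA hh⟩ * a⁻¹, ⟨⟨h, hHA hh⟩, ?_, ?_⟩, ?_⟩
    · exact Subgroup.mem_subgroupOf.2 hh
    · simp
    · simp

theorem map_subtype_subgroupOf {G : Type*} [Group G] (A H : Subgroup G) (hHA : H ≤ A) :
    (H.subgroupOf A).map A.subtype = H := by
  rw [Subgroup.map_subgroupOf_eq_of_le hHA]

/-- Let A be a normal subgroup of the finite group G and H a subgroup of A. Then H is pronormal in G (H and gHg⁻¹ conjugate inside ⟨H, gHg⁻¹⟩ for every g ∈ G) if and only if H is pronormal in A and G = A · N_G(H). -/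
theorem result {G : Type*} [Group G] [Finite G] (A H : Subgroup G) [A.Normal] (hHA : H ≤ A) :
    Cfsg.IsPronormal H ↔ (Cfsg.IsPronormal (H.subgroupOf A) ∧ A ⊔ Subgroup.normalizer (H : Set G) = ⊤) := by
  have hinj : Function.Injective A.subtype := A.subtype_injective
  constructor
  · intro hH
    refine ⟨?_, ?_⟩
    · intro a
      obtain ⟨x, hx, hHx⟩ := hH (a : G)
      have hxA : x ∈ A := (sup_le hHA (map_conj_le_of_normal A H hHA _)) hx
      refine ⟨⟨x, hxA⟩, ?_, ?_⟩
      · rw [← Subgroup.mem_map_iff_mem hinj, Subgroup.map_sup, map_subtype_subgroupOf A H hHA,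
          map_subtype_map_conj A H hHA]
        exact hx
      · apply Subgroup.map_injective hinj
        rw [map_subtype_map_conj A H hHA, map_subtype_map_conj A H hHA]
        exact hHx
    · rw [eq_top_iff]
      intro g _
      obtain ⟨x, hx, hHx⟩ := hH g
      have hxA : x ∈ A := (sup_le hHA (map_conj_le_of_normal A H hHA _)) hx
      have hn : x⁻¹ * g ∈ Subgroup.normalizer (H : Set G) := by
        apply mem_normalizer_of_map_conj_eq
        rw [map_conj_mul, hHx, ← map_conj_mul, inv_mul_cancel, map_conj_one]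
      have : g = x * (x⁻¹ * g) := by group
      rw [this]
      exact Subgroup.mul_mem _ ((le_sup_left : A ≤ _) hxA) ((le_sup_right : Subgroup.normalizer (H : Set G) ≤ _) hn)
  · rintro ⟨hHA', htop⟩ g
    have hg : g ∈ A ⊔ Subgroup.normalizer (H : Set G) := by rw [htop]; trivial
    have hg' : g ∈ (A : Set G) * (Subgroup.normalizer (H : Set G) : Set G) := by
      rw [← Subgroup.normal_mul]
      exact hg
    obtain ⟨a, ha, n, hn, rfl⟩ := hg'
    have hconj : H.map (MulAut.conj (a * n)).toMonoidHom = H.map (MulAut.conj a).toMonoidHom := by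
      rw [map_conj_mul, map_conj_eq_of_mem_normalizer H n hn]
    obtain ⟨x, hx, hHx⟩ := hHA' ⟨a, ha⟩
    refine ⟨(x : G), ?_, ?_⟩
    · rw [hconj]
      rw [← Subgroup.mem_map_iff_mem hinj, Subgroup.map_sup, map_subtype_subgroupOf A H hHA,
          map_subtype_map_conj A H hHA] at hx
      exact hx
    · rw [hconj]
      have := congrArg (Subgroup.map A.subtype) hHx
      rw [map_subtype_map_conj A H hHA, map_subtype_map_conj A H hHA] at this
      exact this

end Cfsg.Agent.S3821
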