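import Cfsg.Statements.S3824
import Cfsg.Agent.Lib.helper4.Burnside2
import Mathlib

set_option autoImplicit false
open Cfsg

namespace Cfsg.Agent.S3824

universe u

theorem card_mul_relIndex' {G : Type*} [Group G] (H K : Subgroup G) (h : H ≤ K) :
    Nat.card H * H.relIndex K = Nat.card K := by
  have := Subgroup.relIndex_mul_relIndex (⊥ : Subgroup G) H K bot_le h
  rwa [Subgroup.relIndex_bot_left, Subgroup.relIndex_bot_left] at this

/-- For `N` normal, `[N : N ∩ A]` divides `[G : A]`. -/
theorem relIndex_dvd_index_of_normal' {G : Type*} [Group G] [Finite G] (A N : Subgroup G) [N.Normal] :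
    A.relIndex N ∣ A.index := by
  have h1 : Nat.card A * A.relIndex (A ⊔ N) = Nat.card ↥(A ⊔ N) :=
    card_mul_relIndex' A (A ⊔ N) le_sup_left
  have h2 : Nat.card N * N.relIndex (A ⊔ N) = Nat.card ↥(A ⊔ N) :=
    card_mul_relIndex' N (A ⊔ N) le_sup_right
  rw [Subgroup.relIndex_sup_right] at h2
  have h3 : Nat.card ↥(A ⊓ N) * N.relIndex A = Nat.card A := by
    have := card_mul_relIndex' (A ⊓ N) A inf_le_left
    rwa [Subgroup.inf_relIndex_left] at this
  have h4 : Nat.card ↥(A ⊓ N) * A.relIndex N = Nat.card N := by
    have := card_mul_relIndex' (A ⊓ N) N inf_le_right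
    rwa [Subgroup.inf_relIndex_right] at this
  have h5 : A.relIndex (A ⊔ N) = A.relIndex N := by
    have hpos : 0 < Nat.card A := Nat.card_pos
    apply Nat.eq_of_mul_eq_mul_left hpos
    rw [h1, ← h2, ← h4, ← h3]; ring
  rw [← h5]
  exact Subgroup.relIndex_dvd_index_of_le le_sup_left

theorem aux : ∀ n : ℕ, ∀ (G : Type u) [Group G] [Finite G], Nat.card G = n →
    ∀ A : Subgroup G, IsMulCommutative A → (∃ k : ℕ, A.index = 2 ^ k) → Group.IsSolvable G := by
  intro n
  induction n using Nat.strong_induction_on with
  | _ n ih =>
    intro G _ _ hn A hA hidx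
    obtain ⟨k, hk⟩ := hidx
    by_cases hex : ∃ N : Subgroup G, N.Normal ∧ N ≠ ⊥ ∧ N ≠ ⊤
    · obtain ⟨N, hNn, hNbot, hNtop⟩ := hex
      haveI := hNn
      have hNlt : Nat.card N < n := by
        rw [← hn]
        apply lt_of_le_of_ne (Subgroup.card_le_card_group N)
        intro h
        exact hNtop ((Subgroup.card_eq_iff_eq_top N).mp h)
      have hQlt : Nat.card (G ⧸ N) < n := by
        rw [← hn, ← Subgroup.index_eq_card]
        have h1 := Subgroup.card_mul_index N
        have h2 : 1 < Nat.card N := by
          rw [Subgroup.one_lt_card_iff_ne_bot]; exact hNbot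
        have h3 : 0 < N.index := Nat.pos_of_ne_zero (Subgroup.index_ne_zero_of_finite)
        nlinarith
      have hsolN : Group.IsSolvable N := by
        refine ih _ hNlt N rfl (A.subgroupOf N) inferInstance ?_
        have : (A.subgroupOf N).index ∣ 2 ^ k := by
          rw [← hk]; exact relIndex_dvd_index_of_normal' A N
        obtain ⟨j, -, hj⟩ := (Nat.dvd_prime_pow Nat.prime_two).mp this
        exact ⟨j, hj⟩
      have hsolQ : Group.IsSolvable (G ⧸ N) := by
        refine ih _ hQlt (G ⧸ N) rfl (A.map (QuotientGroup.mk' N)) inferInstance ?_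
        have : (A.map (QuotientGroup.mk' N)).index ∣ 2 ^ k := by
          rw [← hk]; exact Subgroup.index_map_dvd A (QuotientGroup.mk'_surjective N)
        obtain ⟨j, -, hj⟩ := (Nat.dvd_prime_pow Nat.prime_two).mp this
        exact ⟨j, hj⟩
      exact Group.isSolvable_of_ker_le_range N.subtype (QuotientGroup.mk' N) (by simp)
    · push Not at hex
      by_cases hsub : Subsingleton G
      · exact Group.isSolvable_of_top_eq_bot G (Subsingleton.elim _ _)
      · rw [not_subsingleton_iff_nontrivial] at hsub
        haveI : IsSimpleGroup G := ⟨fun N hN => by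
          by_contra h
          push Not at h
          exact h.2 (hex N hN h.1)⟩
        by_cases hAbot : A = ⊥
        · subst hAbot
          rw [Subgroup.index_bot] at hk
          haveI : Fact (Nat.Prime 2) := ⟨Nat.prime_two⟩
          have hnil : Group.IsNilpotent G := (IsPGroup.of_card hk).isNilpotent
          exact IsNilpotent.to_isSolvable
        · obtain ⟨a, haA, ha1⟩ : ∃ a ∈ A, a ≠ 1 := by
            by_contra hcon
            push Not at hcon
            exact hAbot (eq_bot_iff.mpr (fun x hx => by rw [Subgroup.mem_bot]; exact hcon x hx))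
          have hle : A ≤ Subgroup.centralizer ({a} : Set G) := by
            intro x hx
            rw [Subgroup.mem_centralizer_iff]
            intro y hy
            rw [Set.mem_singleton_iff] at hy
            subst hy
            exact setLike_mul_comm haA hx
          have hdvd : (Subgroup.centralizer ({a} : Set G)).index ∣ 2 ^ k := by
            rw [← hk]; exact Subgroup.index_dvd_of_le hle
          obtain ⟨j, -, hj⟩ := (Nat.dvd_prime_pow Nat.prime_two).mp hdvd
          have hprime := Cfsg.Agent.Lib.helper4.prime_card_of_simple_of_class_prime_pow 2 j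
            Nat.prime_two a ha1 hj
          haveI : Fact (Nat.card G).Prime := ⟨hprime⟩
          have hcyc : IsCyclic G := isCyclic_of_prime_card rfl
          letI := IsCyclic.commGroup (α := G)
          exact Group.isSolvable_of_comm (fun x y => mul_comm x y)

/-- Every finite group having an abelian subgroup whose index is a power of 2 is solvable. -/
theorem result {G : Type*} [Group G] [Finite G]
    (A : Subgroup G) (hA : IsMulCommutative A) (hidx : ∃ k : ℕ, A.index = 2 ^ k) : Group.IsSolvable G := by
  exact aux _ G rfl A hA hidx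

end Cfsg.Agent.S3824
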