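import Cfsg.Statements.S3825
import Mathlib

set_option autoImplicit false
open Cfsg

namespace Cfsg.Agent.S3825

open scoped commutatorElement

/-- A fixed-point-free involutory automorphism of a finite group inverts every element. -/
theorem fpf_inverts {X : Type*} [Group X] [Finite X] (τ : X →* X) (hτ : ∀ x, τ (τ x) = x)
    (hfix : ∀ x, τ x = x → x = 1) : ∀ x, τ x = x⁻¹ := by
  have hinj : Function.Injective (fun x : X => x⁻¹ * τ x) := by
    intro a b hab
    simp only at hab
    have h1 : τ (b * a⁻¹) = b * a⁻¹ := by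
      rw [map_mul, map_inv]
      have h2 : τ b = b * (a⁻¹ * τ a) := by rw [hab]; group
      rw [h2]; group
    have h3 := hfix _ h1
    exact (mul_inv_eq_one.mp h3).symm
  have hsurj := Finite.surjective_of_injective hinj
  intro x
  obtain ⟨a, rfl⟩ := hsurj x
  simp only [map_mul, map_inv, hτ]
  group

/-- Let U be a subgroup of a finite group H and w an involution of H normalizing U and commuting with exactly two elements of U, the identity and y. If V is a non-cyclic elementary abelian 2-subgroup of U containing y which is normal in U and invariant under w, then V is a Sylow 2-subgroup of U, V has order 4, and U/V is abelian. -/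
theorem result {H : Type*} [Group H] [Finite H] (U : Subgroup H) (w : H) (hw : orderOf w = 2)
    (hwU : w ∈ Subgroup.normalizer (U : Set H)) (y : H) (hy : y ≠ 1) (hyU : y ∈ U)
    (hfix : ∀ u ∈ U, w * u * w⁻¹ = u ↔ (u = 1 ∨ u = y))
    (V : Subgroup H) (hVU : V ≤ U) (hVn : (V.subgroupOf U).Normal) (hVw : ∀ v ∈ V, w * v * w⁻¹ ∈ V)
    (hVe : Cfsg.IsElementaryAbelian 2 V) (hVc : ¬ IsCyclic ↥V) (hyV : y ∈ V) :
    ¬ 2 ∣ V.relIndex U ∧ Nat.card ↥V = 4 ∧ ⁅U, U⁆ ≤ V := by
  obtain ⟨hVcomm, hVexp⟩ := hVe
  have hww : w * w = 1 := by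
    have := pow_orderOf_eq_one w
    rw [hw, pow_two] at this
    exact this
  have hwinv : w⁻¹ = w := inv_eq_of_mul_eq_one_left hww
  have hUw : ∀ u ∈ U, w * u * w⁻¹ ∈ U := by
    intro u hu
    exact (Subgroup.mem_normalizer_iff.mp hwU u).mp hu
  have hcc : ∀ u : H, w * (w * u * w⁻¹) * w⁻¹ = u := by
    intro u
    rw [hwinv]
    calc w * (w * u * w) * w = (w * w) * u * (w * w) := by group
      _ = u := by rw [hww]; group
  have hcmul : ∀ a b : H, w * (a * b) * w⁻¹ = (w * a * w⁻¹) * (w * b * w⁻¹) := by
    intro a b; group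
  have hcinv : ∀ a : H, w * a⁻¹ * w⁻¹ = (w * a * w⁻¹)⁻¹ := by
    intro a; group
  have hcomm : ∀ a ∈ V, ∀ b ∈ V, a * b = b * a := by
    intro a ha b hb
    have := hVcomm.is_comm.comm (⟨a, ha⟩ : V) ⟨b, hb⟩
    exact congrArg Subtype.val this
  have hinvV : ∀ a ∈ V, a⁻¹ = a := by
    intro a ha
    have := hVexp a ha
    rw [pow_two] at this
    exact inv_eq_of_mul_eq_one_left this
  have hyy : y * y = 1 := by
    have := hVexp y hyV
    rwa [pow_two] at this
  -- an element of V outside {1, y}
  have hexv : ∃ v ∈ V, v ≠ 1 ∧ v ≠ y := by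
    by_contra hcon
    push Not at hcon
    apply hVc
    rw [isCyclic_iff_exists_zpowers_eq_top]
    refine ⟨⟨y, hyV⟩, ?_⟩
    rw [eq_top_iff]
    rintro ⟨x, hx⟩ -
    by_cases hx1 : x = 1
    · subst hx1
      exact one_mem _
    · have := hcon x hx hx1
      subst this
      exact Subgroup.mem_zpowers _
  obtain ⟨v, hvV, hv1, hvy⟩ := hexv
  -- the action of w on V
  have hstep2 : ∀ u ∈ V, w * u * w⁻¹ = u ∨ w * u * w⁻¹ = u * y := by
    intro u hu
    have h1 : w * (u * (w * u * w⁻¹)) * w⁻¹ = u * (w * u * w⁻¹) := by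
      rw [hcmul, hcc]
      exact hcomm _ (hVw u hu) _ hu
    have h2 := (hfix _ (hVU (mul_mem hu (hVw u hu)))).mp h1
    rcases h2 with h2 | h2
    · left
      have : w * u * w⁻¹ = u⁻¹ := (inv_eq_of_mul_eq_one_right h2).symm
      rw [this, hinvV u hu]
    · right
      have : w * u * w⁻¹ = u⁻¹ * y := by rw [← h2]; group
      rw [this, hinvV u hu]
  have hvw : w * v * w⁻¹ = v * y := by
    rcases hstep2 v hvV with h | h
    · rcases (hfix v (hVU hvV)).mp h with h' | h'
      · exact absurd h' hv1
      · exact absurd h' hvy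
    · exact h
  have hyv : y * v = v * y := hcomm y hyV v hvV
  -- elements u with w u w⁻¹ = u y
  have hkey : ∀ u ∈ U, w * u * w⁻¹ = u * y → u * v = 1 ∨ u * v = y := by
    intro u hu h
    have h1 : w * (u * v) * w⁻¹ = u * v := by
      rw [hcmul, h, hvw]
      calc u * y * (v * y) = u * (y * v) * y := by group
        _ = u * (v * y) * y := by rw [hyv]
        _ = u * v * (y * y) := by group
        _ = u * v := by rw [hyy, mul_one]
    exact (hfix _ (mul_mem hu (hVU hvV))).mp h1
  -- (*)
  have hstar : ∀ u ∈ U, u⁻¹ * (w * u * w⁻¹) ∈ V → u ∈ V := by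
    intro u hu hd
    have h1 : w * (u⁻¹ * (w * u * w⁻¹)) * w⁻¹ = u⁻¹ * (w * u * w⁻¹) := by
      rw [hcmul, hcc, hcinv]
      have := hinvV _ hd
      rw [← this]
      group
    have hdU : u⁻¹ * (w * u * w⁻¹) ∈ U := hVU hd
    rcases (hfix _ hdU).mp h1 with h2 | h2
    · have h3 : w * u * w⁻¹ = u := by
        have := congrArg (fun t => u * t) h2
        simpa using this
      rcases (hfix u hu).mp h3 with h4 | h4
      · rw [h4]; exact one_mem _
      · rw [h4]; exact hyV
    · have h3 : w * u * w⁻¹ = u * y := by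
        have := congrArg (fun t => u * t) h2
        simpa using this
      have h4 : u * v ∈ V := by
        rcases hkey u hu h3 with h5 | h5
        · rw [h5]; exact one_mem _
        · rw [h5]; exact hyV
      have : u = (u * v) * v⁻¹ := by group
      rw [this]
      exact mul_mem h4 (inv_mem hvV)
  -- quotient
  haveI := hVn
  let σ : ↥U →* ↥U :=
    { toFun := fun u => ⟨w * u * w⁻¹, hUw u u.2⟩
      map_one' := by ext; simp
      map_mul' := by intro a b; ext; simp [mul_assoc] }
  have hσV : V.subgroupOf U ≤ (V.subgroupOf U).comap σ := by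
    intro u hu
    rw [Subgroup.mem_comap, Subgroup.mem_subgroupOf]
    exact hVw _ (Subgroup.mem_subgroupOf.mp hu)
  let τ : (↥U ⧸ V.subgroupOf U) →* (↥U ⧸ V.subgroupOf U) :=
    QuotientGroup.map (V.subgroupOf U) (V.subgroupOf U) σ hσV
  have hτmk : ∀ u : ↥U, τ (QuotientGroup.mk u) = QuotientGroup.mk (σ u) := fun u => rfl
  have hτ : ∀ q, τ (τ q) = q := by
    intro q
    induction q using QuotientGroup.induction_on with
    | H u =>
      rw [hτmk, hτmk]
      congr 1
      ext
      exact hcc _
  have hτfix : ∀ q, τ q = q → q = 1 := by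
    intro q hq
    induction q using QuotientGroup.induction_on with
    | H u =>
      rw [hτmk] at hq
      have h1 := QuotientGroup.eq.mp hq.symm
      rw [Subgroup.mem_subgroupOf] at h1
      have h2 : (u : H) ∈ V := hstar u u.2 h1
      rw [QuotientGroup.eq_one_iff, Subgroup.mem_subgroupOf]
      exact h2
  have hinv := fpf_inverts τ hτ hτfix
  refine ⟨?_, ?_, ?_⟩
  · intro hdvd
    haveI : Fact (Nat.Prime 2) := ⟨Nat.prime_two⟩
    have hdvd' : 2 ∣ Nat.card (↥U ⧸ V.subgroupOf U) := hdvd
    obtain ⟨x, hx⟩ := exists_prime_orderOf_dvd_card' 2 hdvd'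
    have hxx : x * x = 1 := by
      have := pow_orderOf_eq_one x
      rwa [hx, pow_two] at this
    have h1 : τ x = x := by
      rw [hinv x]
      exact inv_eq_of_mul_eq_one_left hxx
    have h2 := hτfix x h1
    rw [h2, orderOf_one] at hx
    omega
  · have hVset : (V : Set H) = {1, y, v, v * y} := by
      ext u
      simp only [SetLike.mem_coe, Set.mem_insert_iff, Set.mem_singleton_iff]
      constructor
      · intro hu
        rcases hstep2 u hu with h | h
        · rcases (hfix u (hVU hu)).mp h with h' | h'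
          · left; exact h'
          · right; left; exact h'
        · rcases hkey u (hVU hu) h with h' | h'
          · right; right; left
            have : u = v⁻¹ := eq_inv_of_mul_eq_one_left h'
            rw [this, hinvV v hvV]
          · right; right; right
            have : u = y * v⁻¹ := by rw [← h']; group
            rw [this, hinvV v hvV, hyv]
      · rintro (h | h | h | h)
        · rw [h]; exact one_mem _
        · rw [h]; exact hyV
        · rw [h]; exact hvV
        · rw [h]; exact mul_mem hvV hyV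
    have hcard : Nat.card ↥V = (V : Set H).ncard := (Nat.card_coe_set_eq (V : Set H))
    rw [hcard, hVset]
    have hvy1 : v * y ≠ 1 := by
      intro h
      have : v = y⁻¹ := eq_inv_of_mul_eq_one_left h
      rw [hinvV y hyV] at this
      exact hvy this
    have hvyy : v * y ≠ y := by
      intro h
      apply hv1
      have := congrArg (fun t => t * y⁻¹) h
      simpa using this
    have hvyv : v * y ≠ v := by
      intro h
      apply hy
      have := congrArg (fun t => v⁻¹ * t) h
      simpa using this
    rw [Set.ncard_insert_of_notMem, Set.ncard_insert_of_notMem, Set.ncard_pair]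
    · exact fun h => hvyv h.symm
    · simp only [Set.mem_insert_iff, Set.mem_singleton_iff, not_or]
      exact ⟨fun h => hvy h.symm, fun h => hvyy h.symm⟩
    · simp only [Set.mem_insert_iff, Set.mem_singleton_iff, not_or]
      exact ⟨fun h => hy h.symm, fun h => hv1 h.symm, fun h => hvy1 h.symm⟩
  · rw [Subgroup.commutator_le]
    intro a ha b hb
    have hc : ∀ p q : (↥U ⧸ V.subgroupOf U), p * q = q * p := by
      intro p q
      have h1 := hinv (p * q)
      rw [map_mul, hinv p, hinv q] at h1
      have h2 := congrArg (fun t => t⁻¹) h1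
      simp only [mul_inv_rev, inv_inv] at h2
      exact h2.symm
    have h1 := hc (QuotientGroup.mk (⟨b⁻¹, inv_mem hb⟩ : ↥U)) (QuotientGroup.mk (⟨a⁻¹, inv_mem ha⟩ : ↥U))
    rw [← QuotientGroup.mk_mul, ← QuotientGroup.mk_mul] at h1
    have h2 := QuotientGroup.eq.mp h1
    rw [Subgroup.mem_subgroupOf] at h2
    have h3 : ⁅a, b⁆ = (b⁻¹ * a⁻¹)⁻¹ * (a⁻¹ * b⁻¹) := by
      rw [commutatorElement_def]; group
    rw [h3]
    exact h2

end Cfsg.Agent.S3825
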