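import Cfsg.Statements.S3835
import Cfsg.Agent.Lib.helper99.QdAlt

set_option autoImplicit false
open Cfsg

namespace Cfsg.Agent.S3835

/-- Let p be an odd prime and n a natural number. The alternating group of degree n has a subgroup isomorphic to Qd(p) (the natural semidirect product of an elementary abelian group of order p² by SL₂(p)) if and only if n ≥ p²; and if n < p² then Qd(p) is not even involved in it. -/
theorem result {p : ℕ} [Fact p.Prime] (hp : p ≠ 2) (n : ℕ) : ((∃ H : Subgroup (alternatingGroup (Fin n)), Nonempty (↥H ≃* ↥(Cfsg.qd p))) ↔ p ^ 2 ≤ n) ∧ (n < p ^ 2 → ¬ Cfsg.Involves ↥(Cfsg.qd p) ↥(alternatingGroup (Fin n))) := by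
  have hfin : Finite ↥(alternatingGroup (Fin n)) := inferInstance
  have hno : n < p ^ 2 → ¬ Cfsg.Involves ↥(Cfsg.qd p) ↥(alternatingGroup (Fin n)) := fun hn =>
    Cfsg.Agent.Lib.helper99.not_involves_of_pab hp
      ((Cfsg.Agent.Lib.helper99.perm_pab n hn).subgroup _)
  refine ⟨⟨?_, ?_⟩, hno⟩
  · rintro ⟨H, ⟨e⟩⟩
    by_contra hcon
    push Not at hcon
    exact hno hcon (Cfsg.Agent.Lib.helper99.involves_of_surj H e.toMonoidHom e.surjective)
  · intro hn
    exact Cfsg.Agent.Lib.helper99.exists_qd_in_alt hp n hn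

end Cfsg.Agent.S3835
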