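import Cfsg.Statements.S3836
import Cfsg.Agent.Lib.helper40.Cores
import Mathlib

set_option autoImplicit false
open Cfsg

namespace Cfsg.Agent.S3836

open Cfsg.Agent.Lib.helper40

/-- Let G be a finite group that is p-stable in the normalizer form: for every p-subgroup Q and every x ∈ N_G(Q) with [Q, x, x] = 1, the image of x in N_G(Q)/C_G(Q) lies in O_p(N_G(Q)/C_G(Q)). Then every subgroup of G is p-stable in the same sense. -/
theorem result {G : Type*} [Group G] [Finite G] {p : ℕ} [Fact p.Prime] (hst : Cfsg.IsNormalizerPStable p G) (H : Subgroup G) : Cfsg.IsNormalizerPStable p ↥H := by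
  intro P hP g hg hquad
  set P' : Subgroup G := P.map H.subtype with hP'
  have hP'p : IsPGroup p P' := hP.map H.subtype
  have hmemP' : ∀ x : H, (x : G) ∈ P' ↔ x ∈ P := by
    intro x
    rw [hP', Subgroup.mem_map]
    constructor
    · rintro ⟨y, hy, hyx⟩
      have : y = x := Subtype.ext hyx
      rwa [← this]
    · intro hx
      exact ⟨x, hx, rfl⟩
  have hnorm : ∀ x : H, x ∈ Subgroup.normalizer (P : Set H) →
      (x : G) ∈ Subgroup.normalizer (P' : Set G) := by
    intro x hx
    rw [Subgroup.mem_normalizer_iff] at hx ⊢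
    intro y
    constructor
    · intro hy
      obtain ⟨z, hz, rfl⟩ := Subgroup.mem_map.mp hy
      have := (hx z).mp hz
      exact ⟨x * z * x⁻¹, this, rfl⟩
    · intro hy
      obtain ⟨z, hz, hzy⟩ := Subgroup.mem_map.mp hy
      have h1 : y = (x⁻¹ * z * x : H) := by
        simp only [Subgroup.coe_mul, Subgroup.coe_inv]
        rw [show (H.subtype z : G) = (z : G) from rfl] at hzy
        rw [hzy]; group
      rw [h1]
      refine ⟨x⁻¹ * z * x, ?_, rfl⟩
      refine (hx _).mpr ?_
      convert hz using 1
      group
  have hg' : (g : G) ∈ Subgroup.normalizer (P' : Set G) := hnorm g hg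
  have hquad' : ⁅⁅P', Subgroup.zpowers (g : G)⁆, Subgroup.zpowers (g : G)⁆ = ⊥ := by
    have h1 : Subgroup.zpowers (g : G) = (Subgroup.zpowers g).map H.subtype := by
      rw [MonoidHom.map_zpowers]; rfl
    rw [h1, hP', ← Subgroup.map_commutator, ← Subgroup.map_commutator, hquad, Subgroup.map_bot]
  have key := hst P' hP'p (g : G) hg' hquad'
  let φ : ↥(Subgroup.normalizer (P : Set H)) →* ↥(Subgroup.normalizer (P' : Set G)) :=
    { toFun := fun x => ⟨((x : H) : G), hnorm x x.2⟩
      map_one' := rfl
      map_mul' := fun _ _ => rfl }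
  have hcent : ∀ x : ↥(Subgroup.normalizer (P : Set H)),
      x ∈ (Subgroup.centralizer (P : Set H)).subgroupOf (Subgroup.normalizer (P : Set H)) ↔
      φ x ∈ (Subgroup.centralizer (P' : Set G)).subgroupOf (Subgroup.normalizer (P' : Set G)) := by
    intro x
    rw [Subgroup.mem_subgroupOf, Subgroup.mem_subgroupOf, Subgroup.mem_centralizer_iff,
      Subgroup.mem_centralizer_iff]
    constructor
    · intro h y hy
      obtain ⟨z, hz, rfl⟩ := Subgroup.mem_map.mp hy
      have := h z hz
      have h2 := congrArg (fun t : H => (t : G)) this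
      exact h2
    · intro h z hz
      have := h (z : G) ((hmemP' z).mpr hz)
      apply Subtype.ext
      exact this
  let ψ := QuotientGroup.map
    ((Subgroup.centralizer (P : Set H)).subgroupOf (Subgroup.normalizer (P : Set H)))
    ((Subgroup.centralizer (P' : Set G)).subgroupOf (Subgroup.normalizer (P' : Set G))) φ
    (fun x hx => (hcent x).mp hx)
  have hψinj : Function.Injective ψ := by
    rw [← MonoidHom.ker_eq_bot_iff, eq_bot_iff]
    intro x hx
    induction x using QuotientGroup.induction_on with
    | H x =>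
      rw [MonoidHom.mem_ker] at hx
      change (QuotientGroup.mk (φ x) : _ ⧸ _) = 1 at hx
      rw [QuotientGroup.eq_one_iff] at hx
      rw [Subgroup.mem_bot, QuotientGroup.eq_one_iff]
      exact (hcent x).mpr hx
  have hKp : IsPGroup p ((pCore p (↥(Subgroup.normalizer (P' : Set G)) ⧸
          (Subgroup.centralizer (P' : Set G)).subgroupOf (Subgroup.normalizer (P' : Set G)))).comap ψ) :=
    (pCore_isPGroup p _).comap_of_injective ψ hψinj
  have hKn : ((pCore p (↥(Subgroup.normalizer (P' : Set G)) ⧸
          (Subgroup.centralizer (P' : Set G)).subgroupOf (Subgroup.normalizer (P' : Set G)))).comap ψ).Normal := by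
    have := pCore_normal' p (↥(Subgroup.normalizer (P' : Set G)) ⧸
          (Subgroup.centralizer (P' : Set G)).subgroupOf (Subgroup.normalizer (P' : Set G)))
    infer_instance
  apply le_pCore _ hKn hKp
  rw [Subgroup.mem_comap]
  exact key

end Cfsg.Agent.S3836
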