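import Cfsg.Statements.S3838
import Cfsg.Agent.Lib.helper67.PNilp
import Mathlib

set_option autoImplicit false
open Cfsg

namespace Cfsg.Agent.S3838

open Cfsg.Agent.Lib.helper67 Cfsg.Agent.Lib.helper1
open scoped commutatorElement

/-- If `N_G(P)` has a normal `p`-complement then `N_G(P) = P C_G(P)`. -/
theorem normalizer_decomp {G : Type*} [Group G] [Finite G] {p : ℕ} [Fact p.Prime] (P : Sylow p G)
    (hN : Cfsg.HasNormalPComplement p ↥(Subgroup.normalizer ((P : Subgroup G) : Set G))) :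
    ∀ n ∈ Subgroup.normalizer ((P : Subgroup G) : Set G), ∃ x ∈ (P : Subgroup G),
      ∃ c ∈ Subgroup.centralizer ((P : Subgroup G) : Set G), n = x * c := by
  obtain ⟨P₁, K, hKn, hKc⟩ := hN
  let P₀ : Sylow p ↥(Subgroup.normalizer ((P : Subgroup G) : Set G)) := P.subtype Subgroup.le_normalizer
  have hP₀coe : (P₀ : Subgroup ↥(Subgroup.normalizer ((P : Subgroup G) : Set G))) =
      (P : Subgroup G).subgroupOf (Subgroup.normalizer ((P : Subgroup G) : Set G)) :=
    Sylow.coe_subtype P Subgroup.le_normalizer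
  haveI hP₀n : (P₀ : Subgroup ↥(Subgroup.normalizer ((P : Subgroup G) : Set G))).Normal := by
    rw [hP₀coe]; exact Subgroup.normal_in_normalizer
  have hP₁ : P₁ = P₀ := by
    obtain ⟨g, hg⟩ := MulAction.exists_smul_eq ↥(Subgroup.normalizer ((P : Subgroup G) : Set G)) P₀ P₁
    rw [← hg, Sylow.smul_eq_of_normal]
  rw [hP₁] at hKc
  intro n hn
  have hsup : (P₀ : Subgroup ↥(Subgroup.normalizer ((P : Subgroup G) : Set G))) ⊔ K = ⊤ := by
    rw [sup_comm]; exact hKc.sup_eq_top
  obtain ⟨x, hx, k, hk, hnxk⟩ := mem_sup_normal_left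
    (N := (P₀ : Subgroup ↥(Subgroup.normalizer ((P : Subgroup G) : Set G)))) (H := K)
    Subgroup.le_normalizer_of_normal
    (hsup ▸ Subgroup.mem_top (⟨n, hn⟩ : ↥(Subgroup.normalizer ((P : Subgroup G) : Set G))))
  refine ⟨x, ?_, k, ?_, ?_⟩
  · have := hx
    rw [hP₀coe, Subgroup.mem_subgroupOf] at this
    exact this
  · rw [Subgroup.mem_centralizer_iff]
    intro y hy
    have hyNP : y ∈ Subgroup.normalizer ((P : Subgroup G) : Set G) := Subgroup.le_normalizer hy
    have hy₀ : (⟨y, hyNP⟩ : ↥(Subgroup.normalizer ((P : Subgroup G) : Set G))) ∈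
        (P₀ : Subgroup ↥(Subgroup.normalizer ((P : Subgroup G) : Set G))) := by
      rw [hP₀coe, Subgroup.mem_subgroupOf]; exact hy
    set y' : ↥(Subgroup.normalizer ((P : Subgroup G) : Set G)) := ⟨y, hyNP⟩ with hy'
    have hcomm : y' * k * y'⁻¹ * k⁻¹ ∈
        K ⊓ (P₀ : Subgroup ↥(Subgroup.normalizer ((P : Subgroup G) : Set G))) := by
      refine Subgroup.mem_inf.mpr ⟨?_, ?_⟩
      · exact mul_mem (hKn.conj_mem k hk _) (inv_mem hk)
      · have : y' * k * y'⁻¹ * k⁻¹ = y' * (k * y'⁻¹ * k⁻¹) := by group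
        rw [this]
        exact mul_mem hy₀ (hP₀n.conj_mem _ (inv_mem hy₀) k)
    rw [hKc.disjoint.eq_bot, Subgroup.mem_bot] at hcomm
    have h3 : y' * k = k * y' := by
      have := congrArg (fun t => t * k * y') hcomm
      simpa [mul_assoc] using this
    exact congrArg Subtype.val h3
  · exact congrArg Subtype.val hnxk

/-- Let G be a finite group with Sylow p-subgroup P such that N_G(P) has a normal p-complement. Then N_G(Q) has a normal p-complement for every subgroup Q with [P, P] ≤ Q ≤ Φ(P). -/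
theorem result {G : Type*} [Group G] [Finite G] {p : ℕ} [Fact p.Prime] (P : Sylow p G) (hN : Cfsg.HasNormalPComplement p ↥(Subgroup.normalizer ((P : Subgroup G) : Set G))) (Q : Subgroup G) (h1 : (commutator ↥(P : Subgroup G)).map (P : Subgroup G).subtype ≤ Q) (h2 : Q ≤ (frattini ↥(P : Subgroup G)).map (P : Subgroup G).subtype) : Cfsg.HasNormalPComplement p ↥(Subgroup.normalizer (Q : Set G)) := by
  have hdecomp := normalizer_decomp P hN
  have hQP : Q ≤ (P : Subgroup G) := h2.trans (Subgroup.map_subtype_le _)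
  have hcommG : ∀ x ∈ (P : Subgroup G), ∀ y ∈ (P : Subgroup G), x * y * x⁻¹ * y⁻¹ ∈ Q := by
    intro x hx y hy
    apply h1
    refine ⟨⁅(⟨x, hx⟩ : (P : Subgroup G)), ⟨y, hy⟩⁆, ?_, ?_⟩
    · rw [SetLike.mem_coe, commutator_def]
      exact Subgroup.commutator_mem_commutator (Subgroup.mem_top _) (Subgroup.mem_top _)
    · simp [commutatorElement_def]
  have hPN : (P : Subgroup G) ≤ Subgroup.normalizer (Q : Set G) := by
    rw [Subgroup.le_normalizer_iff]
    intro x hx q hq
    have : x * q * x⁻¹ = (x * q * x⁻¹ * q⁻¹) * q := by group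
    rw [this]
    exact mul_mem (hcommG x hx q (hQP hq)) hq
  have hΦG : ∀ R : Subgroup G, R ≤ (P : Subgroup G) → (P : Subgroup G) ≤ Q ⊔ R →
      (P : Subgroup G) ≤ R := by
    intro R hRP hPQR
    have hRn : R ≤ Subgroup.normalizer (Q : Set G) := hRP.trans hPN
    have h3 : R.subgroupOf (P : Subgroup G) ⊔ frattini ↥(P : Subgroup G) = ⊤ := by
      rw [eq_top_iff]
      rintro ⟨y, hy⟩ -
      obtain ⟨q, hq, r, hr, hyqr⟩ := mem_sup_normal_left (N := Q) (H := R) hRn (hPQR hy)
      obtain ⟨f, hf, hfq⟩ := h2 hq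
      have : (⟨y, hy⟩ : (P : Subgroup G)) = f * ⟨r, hRP hr⟩ := by
        apply Subtype.ext
        simp only [Subgroup.coe_mul]
        rw [hyqr, ← hfq]; rfl
      rw [this]
      exact mul_mem (Subgroup.mem_sup_right hf)
        (Subgroup.mem_sup_left (Subgroup.mem_subgroupOf.mpr hr))
    have h4 := frattini_nongenerating h3
    intro y hy
    have : (⟨y, hy⟩ : (P : Subgroup G)) ∈ R.subgroupOf (P : Subgroup G) := by
      rw [h4]; exact Subgroup.mem_top _
    exact Subgroup.mem_subgroupOf.mp this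
  -- move to `M = N_G(Q)`
  let PM : Sylow p ↥(Subgroup.normalizer (Q : Set G)) := P.subtype hPN
  have hPMcoe : (PM : Subgroup ↥(Subgroup.normalizer (Q : Set G))) =
      (P : Subgroup G).subgroupOf (Subgroup.normalizer (Q : Set G)) := Sylow.coe_subtype P hPN
  have hmemPM : ∀ x : ↥(Subgroup.normalizer (Q : Set G)),
      x ∈ (PM : Subgroup ↥(Subgroup.normalizer (Q : Set G))) ↔ (x : G) ∈ (P : Subgroup G) := by
    intro x; rw [hPMcoe, Subgroup.mem_subgroupOf]
  let QM : Subgroup ↥(Subgroup.normalizer (Q : Set G)) := Q.subgroupOf (Subgroup.normalizer (Q : Set G))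
  haveI hQMn : QM.Normal := Subgroup.normal_in_normalizer
  have hQPM : QM ≤ (PM : Subgroup ↥(Subgroup.normalizer (Q : Set G))) := by
    intro x hx
    rw [hmemPM]
    exact hQP (Subgroup.mem_subgroupOf.mp hx)
  have hcommM : ∀ x ∈ (PM : Subgroup ↥(Subgroup.normalizer (Q : Set G))),
      ∀ y ∈ (PM : Subgroup ↥(Subgroup.normalizer (Q : Set G))), x * y * x⁻¹ * y⁻¹ ∈ QM := by
    intro x hx y hy
    rw [hmemPM] at hx hy
    rw [Subgroup.mem_subgroupOf]
    simpa using hcommG x hx y hy
  have hΦM : ∀ R : Subgroup ↥(Subgroup.normalizer (Q : Set G)),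
      R ≤ (PM : Subgroup ↥(Subgroup.normalizer (Q : Set G))) →
      (PM : Subgroup ↥(Subgroup.normalizer (Q : Set G))) ≤ QM ⊔ R →
      R = (PM : Subgroup ↥(Subgroup.normalizer (Q : Set G))) := by
    intro R hR hPR
    apply le_antisymm hR
    have hR' : R.map (Subgroup.normalizer (Q : Set G)).subtype ≤ (P : Subgroup G) := by
      rintro _ ⟨r, hr, rfl⟩
      exact (hmemPM r).mp (hR hr)
    have hP' : (P : Subgroup G) ≤ Q ⊔ R.map (Subgroup.normalizer (Q : Set G)).subtype := by
      intro y hy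
      have hyN : y ∈ Subgroup.normalizer (Q : Set G) := hPN hy
      have h5 : (⟨y, hyN⟩ : ↥(Subgroup.normalizer (Q : Set G))) ∈ QM ⊔ R :=
        hPR ((hmemPM _).mpr hy)
      have h6 : (Subgroup.normalizer (Q : Set G)).subtype ⟨y, hyN⟩ ∈
          (QM ⊔ R).map (Subgroup.normalizer (Q : Set G)).subtype := Subgroup.mem_map_of_mem _ h5
      rw [Subgroup.map_sup] at h6
      have h7 : QM.map (Subgroup.normalizer (Q : Set G)).subtype ≤ Q := by
        rintro _ ⟨q, hq, rfl⟩
        exact Subgroup.mem_subgroupOf.mp hq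
      exact (sup_le_sup_right h7 _) h6
    have h8 := hΦG _ hR' hP'
    intro x hx
    rw [hmemPM] at hx
    obtain ⟨r, hr, hrx⟩ := h8 hx
    have : r = x := Subtype.ext hrx
    rwa [← this]
  have hNM : ∀ n ∈ Subgroup.normalizer ((PM : Subgroup ↥(Subgroup.normalizer (Q : Set G))) : Set ↥(Subgroup.normalizer (Q : Set G))),
      ∃ x ∈ (PM : Subgroup ↥(Subgroup.normalizer (Q : Set G))),
      ∃ c ∈ Subgroup.centralizer ((PM : Subgroup ↥(Subgroup.normalizer (Q : Set G))) : Set ↥(Subgroup.normalizer (Q : Set G))),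
        n = x * c := by
    intro n hn
    have hnG : (n : G) ∈ Subgroup.normalizer ((P : Subgroup G) : Set G) := by
      rw [Subgroup.mem_normalizer_iff] at hn ⊢
      intro h
      constructor
      · intro hh
        have := (hn ⟨h, hPN hh⟩).mp ((hmemPM _).mpr hh)
        rw [hmemPM] at this
        simpa using this
      · intro hh
        have hhN : h ∈ Subgroup.normalizer (Q : Set G) := by
          have : h = (n : G)⁻¹ * ((n : G) * h * (n : G)⁻¹) * (n : G) := by group
          rw [this]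
          exact mul_mem (mul_mem (inv_mem n.2) (hPN hh)) n.2
        have := (hn ⟨h, hhN⟩).mpr ((hmemPM _).mpr (by simpa using hh))
        exact (hmemPM _).mp this
    obtain ⟨x, hx, c, hc, hnxc⟩ := hdecomp (n : G) hnG
    have hcN : c ∈ Subgroup.normalizer (Q : Set G) := by
      have : c = x⁻¹ * (n : G) := by rw [hnxc]; group
      rw [this]
      exact mul_mem (inv_mem (hPN hx)) n.2
    refine ⟨⟨x, hPN hx⟩, (hmemPM _).mpr hx, ⟨c, hcN⟩, ?_, ?_⟩
    · rw [Subgroup.mem_centralizer_iff]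
      intro y hy
      rw [SetLike.mem_coe, hmemPM] at hy
      apply Subtype.ext
      exact (Subgroup.mem_centralizer_iff.mp hc) (y : G) hy
    · exact Subtype.ext hnxc
  obtain ⟨K₁, hK₁n, hQK, hK₁P, hK₁sup⟩ :=
    exists_normal_supplement_of_abelian_quotient PM QM hQPM hcommM hNM
  haveI := hK₁n
  obtain ⟨L, hLn, hLc⟩ :=
    exists_normal_complement_of_nongenerating PM QM hQPM hΦM K₁ hQK hK₁P hK₁sup
  exact ⟨PM, L, hLn, hLc⟩

end Cfsg.Agent.S3838
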