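import Cfsg.Statements.S3857
import Mathlib
import Cfsg.Agent.S0068
import Cfsg.Agent.Lib.helper12.FrobTools
import Cfsg.Agent.Lib.helper12.MinNormal
import Cfsg.Agent.Lib.helper12.Supersolvable
import Cfsg.Agent.Lib.helper12.SylowNormal
import Cfsg.Agent.Lib.helper28.Fitting
-- import your own Cfsg.Agent.* helpers here

set_option autoImplicit false
open Cfsg

namespace Cfsg.Agent.S3857

open Cfsg.Agent.Lib.helper12 Cfsg.Agent.Lib.helper1 Cfsg.Agent.Lib.helper28
open scoped commutatorElement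

/-- all prime divisors of `n` lie in `σ` -/
def Sn (σ : Set ℕ) (n : ℕ) : Prop := ∀ p : ℕ, p.Prime → p ∣ n → p ∈ σ

theorem Sn.of_dvd {σ : Set ℕ} {m n : ℕ} (h : Sn σ n) (hd : m ∣ n) : Sn σ m :=
  fun p hp hpm => h p hp (hpm.trans hd)

theorem Sn.mul {σ : Set ℕ} {m n : ℕ} (hm : Sn σ m) (hn : Sn σ n) : Sn σ (m * n) :=
  fun p hp hpmn => (hp.dvd_mul.mp hpmn).elim (hm p hp) (hn p hp)

theorem Sn.coprime {σ : Set ℕ} {m n : ℕ} (hm : Sn σ m) (hn : Sn σᶜ n) : Nat.Coprime m n := by
  by_contra h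
  obtain ⟨p, hp, hpd⟩ := Nat.exists_prime_and_dvd h
  exact hn p hp (hpd.trans (Nat.gcd_dvd_right m n)) (hm p hp (hpd.trans (Nat.gcd_dvd_left m n)))

theorem Sn_prime {σ : Set ℕ} {p : ℕ} (hp : p.Prime) (h : p ∈ σ) : Sn σ p := by
  intro r hr hrd
  rw [(Nat.prime_dvd_prime_iff_eq hr hp).mp hrd]; exact h

/-- no element has order divisible by primes from both `σ` and its complement -/
def NM (σ : Set ℕ) (X : Type*) [Group X] : Prop :=
  ∀ x : X, Sn σ (orderOf x) ∨ Sn σᶜ (orderOf x)

theorem NM.compl {σ : Set ℕ} {X : Type*} [Group X] (h : NM σ X) : NM σᶜ X := by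
  intro x
  rcases h x with h1 | h1
  · right; rw [compl_compl]; exact h1
  · left; exact h1

theorem NM.false_of_commute {σ : Set ℕ} {X : Type*} [Group X] [Finite X] (h : NM σ X) {x y : X}
    (hc : Commute x y) (hx1 : x ≠ 1) (hy1 : y ≠ 1) (hx : Sn σ (orderOf x))
    (hy : Sn σᶜ (orderOf y)) : False := by
  have hox : orderOf x ≠ 1 := fun h => hx1 (orderOf_eq_one_iff.mp h)
  have hoy : orderOf y ≠ 1 := fun h => hy1 (orderOf_eq_one_iff.mp h)
  obtain ⟨p, hp, hpx⟩ := Nat.exists_prime_and_dvd hox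
  obtain ⟨q, hq, hqy⟩ := Nat.exists_prime_and_dvd hoy
  have hpσ := hx p hp hpx
  have hqσ : q ∉ σ := hy q hq hqy
  have hpq : p ≠ q := fun h => hqσ (h ▸ hpσ)
  have hx' : orderOf (x ^ (orderOf x / p)) = p :=
    orderOf_pow_orderOf_div (orderOf_pos x).ne' hpx
  have hy' : orderOf (y ^ (orderOf y / q)) = q :=
    orderOf_pow_orderOf_div (orderOf_pos y).ne' hqy
  have hc' : Commute (x ^ (orderOf x / p)) (y ^ (orderOf y / q)) := hc.pow_pow _ _
  have ho := hc'.orderOf_mul_eq_mul_orderOf_of_coprime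
    (by rw [hx', hy']; exact (Nat.coprime_primes hp hq).mpr hpq)
  rw [hx', hy'] at ho
  rcases h (x ^ (orderOf x / p) * y ^ (orderOf y / q)) with h1 | h1
  · exact hqσ (h1 q hq (by rw [ho]; exact dvd_mul_left q p))
  · exact h1 p hp (by rw [ho]; exact dvd_mul_right p q) hpσ

theorem NM.quotient {σ : Set ℕ} {X : Type*} [Group X] (h : NM σ X) (N : Subgroup X) [N.Normal] :
    NM σ (X ⧸ N) := by
  intro x
  obtain ⟨g, rfl⟩ := QuotientGroup.mk_surjective x
  have hd : orderOf (g : X ⧸ N) ∣ orderOf g := orderOf_map_dvd (QuotientGroup.mk' N) g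
  exact (h g).imp (fun h => h.of_dvd hd) (fun h => h.of_dvd hd)

theorem NM.subgroup {σ : Set ℕ} {X : Type*} [Group X] (h : NM σ X) (H : Subgroup X) :
    NM σ H := by
  intro x
  have := h (x : X)
  rwa [Subgroup.orderOf_coe] at this

theorem Sn_card_of_forall {σ : Set ℕ} {X : Type*} [Group X] [Finite X]
    (h : ∀ x : X, Sn σ (orderOf x)) : Sn σ (Nat.card X) := by
  intro p hp hpd
  have : Fact p.Prime := ⟨hp⟩
  obtain ⟨x, hx⟩ := exists_prime_orderOf_dvd_card' p hpd
  exact h x p hp (by rw [hx])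

theorem NM.sn_or_of_isNilpotent {σ : Set ℕ} {X : Type*} [Group X] [Finite X] (h : NM σ X)
    [Group.IsNilpotent X] : Sn σ (Nat.card X) ∨ Sn σᶜ (Nat.card X) := by
  by_contra hcon
  rw [not_or] at hcon
  obtain ⟨h1, h2⟩ := hcon
  simp only [Sn, not_forall] at h1 h2
  obtain ⟨p, hp, hpd, hpσ⟩ := h1
  obtain ⟨q, hq, hqd, hqσ⟩ := h2
  have hqσ' : q ∈ σ := by simpa using hqσ
  have : Fact p.Prime := ⟨hp⟩
  have : Fact q.Prime := ⟨hq⟩
  obtain ⟨x, hx⟩ := exists_prime_orderOf_dvd_card' q hqd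
  obtain ⟨y, hy⟩ := exists_prime_orderOf_dvd_card' p hpd
  have hpq : q ≠ p := fun h => hpσ (h ▸ hqσ')
  have hc := commute_of_coprime_orderOf_of_isNilpotent X x y
    (by rw [hx, hy]; exact (Nat.coprime_primes hq hp).mpr hpq)
  refine h.false_of_commute hc ?_ ?_ ?_ ?_
  · intro h1; rw [h1, orderOf_one] at hx; exact hq.one_lt.ne hx
  · intro h1; rw [h1, orderOf_one] at hy; exact hp.one_lt.ne hy
  · rw [hx]; exact Sn_prime hq hqσ'
  · rw [hy]; exact Sn_prime hp hpσ

theorem NM.isNilpotent_of_normal {σ : Set ℕ} {X : Type*} [Group X] [Finite X] (h : NM σ X)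
    (N : Subgroup X) [N.Normal] (hN : Sn σ (Nat.card N)) (y : X) (q : ℕ) (hq : q.Prime)
    (hqσ : q ∉ σ) (hy : orderOf y = q) : Group.IsNilpotent N := by
  apply isNilpotent_of_fpf_conj N y q hq (by rw [← hy]; exact pow_orderOf_eq_one y)
  intro n hn hcomm
  by_contra hn1
  have hy1 : y ≠ 1 := by
    intro h1; rw [h1, orderOf_one] at hy; exact hq.one_lt.ne hy
  refine h.false_of_commute (x := n) (y := y) (Commute.symm hcomm) hn1 hy1 ?_ ?_
  · refine hN.of_dvd ?_
    have := orderOf_dvd_natCard (⟨n, hn⟩ : N)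
    rwa [Subgroup.orderOf_mk] at this
  · rw [hy]; exact Sn_prime hq hqσ

theorem fitting_ne_bot {X : Type*} [Group X] [Finite X] [Nontrivial X]
    (hsol : Group.IsSolvable X) : Cfsg.fittingSubgroup X ≠ ⊥ := by
  obtain ⟨M, hM1, hMn, hmin⟩ := exists_minimal_normal (G := X)
  have hab : IsMulCommutative M := minimal_normal_isMulCommutative M hM1 hmin
  have hnil : Group.IsNilpotent M :=
    ⟨⟨1, Subgroup.upperCentralSeries_one_eq_top_iff.mpr hab⟩⟩
  have hle := le_fittingSubgroup hMn hnil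
  intro h
  rw [h] at hle
  exact hM1 (le_bot_iff.mp hle)

theorem normal_of_commutator_le {X : Type*} [Group X] (M : Subgroup X)
    (h : commutator X ≤ M) : M.Normal := by
  refine ⟨fun m hm g => ?_⟩
  have h1 : g * m * g⁻¹ = ⁅g, m⁆ * m := by
    rw [commutatorElement_def]; group
  rw [h1]
  refine M.mul_mem (h ?_) hm
  rw [commutator_def]
  exact Subgroup.commutator_mem_commutator (Subgroup.mem_top g) (Subgroup.mem_top m)

theorem main_aux {G : Type*} [Group G] [Finite G] (hsol : Group.IsSolvable G) (σ : Set ℕ)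
    (hNM : NM σ G) (hF : Sn σ (Nat.card (Cfsg.fittingSubgroup G)))
    (hF1 : Cfsg.fittingSubgroup G ≠ ⊥)
    (q : ℕ) (hq : q.Prime) (hqσ : q ∉ σ) (hqG : q ∣ Nat.card G) :
    (∃ C : Subgroup G, Cfsg.IsFrobeniusComplement C) ∨
    (∃ (H K : Subgroup G) (_ : H.Normal), K.Normal ∧ H < K ∧
      (∃ C : Subgroup ↥K, Cfsg.IsFrobeniusComplement C ∧ Cfsg.frobeniusKernel C = (H.subgroupOf K : Set ↥K)) ∧
      (∃ C : Subgroup (G ⧸ H), Cfsg.IsFrobeniusComplement C ∧ Cfsg.frobeniusKernel C = (K.map (QuotientGroup.mk' H) : Set (G ⧸ H)))) := by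
  classical
  set F := Cfsg.fittingSubgroup G with hFdef
  have hFn : F.Normal := inferInstance
  have hqf : Fact q.Prime := ⟨hq⟩
  obtain ⟨y, hy⟩ := exists_prime_orderOf_dvd_card' q hqG
  -- elements of order prime to σ act fixed-point-freely on F
  have step1 : ∀ h : G, h ≠ 1 → Sn σᶜ (orderOf h) → ∀ n ∈ F, h * n = n * h → n = 1 := by
    intro h h1 hT n hn hcomm
    by_contra hn1
    refine hNM.false_of_commute (x := n) (y := h) (Commute.symm hcomm) hn1 h1 ?_ hT
    refine hF.of_dvd ?_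
    have := orderOf_dvd_natCard (⟨n, hn⟩ : F)
    rwa [Subgroup.orderOf_mk] at this
  -- every normal σ-subgroup lies in F
  have hle : ∀ N : Subgroup G, N.Normal → Sn σ (Nat.card N) → N ≤ F := by
    intro N hNn hNσ
    exact le_fittingSubgroup hNn (hNM.isNilpotent_of_normal N hNσ y q hq hqσ hy)
  by_cases hcase : Sn σᶜ F.index
  · -- Case 1: G/F is a σ'-group: G is Frobenius
    left
    have hcop : Nat.Coprime (Nat.card F) F.index := hF.coprime hcase
    obtain ⟨C, hC⟩ := Subgroup.exists_right_complement'_of_coprime hcop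
    have hCcard : Nat.card C = F.index := (hC.symm.index_eq_card).symm
    have hCne : C ≠ ⊥ := by
      intro hC0
      have h1 : F.index = 1 := by rw [← hCcard, hC0]; exact Subgroup.card_bot
      have h2 : F = ⊤ := Subgroup.index_eq_one.mp h1
      have h3 : q ∣ Nat.card F := by rw [h2, Subgroup.card_top]; exact hqG
      exact hqσ (hF q hq h3)
    refine ⟨C, (frob_of_fpf_complement F C hC hF1 hCne ?_).1⟩
    intro h hh h1 n hn hcomm
    refine step1 h h1 (hcase.of_dvd ?_) n hn hcomm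
    rw [← hCcard]
    have := orderOf_dvd_natCard (⟨h, hh⟩ : C)
    rwa [Subgroup.orderOf_mk] at this
  · -- Case 2
    right
    simp only [Sn, not_forall] at hcase
    obtain ⟨p, hp, hpd, hpσ⟩ := hcase
    have hpσ' : p ∈ σ := by simpa using hpσ
    have hQcard : Nat.card (G ⧸ F) = F.index := (Subgroup.index_eq_card F).symm
    have hpf : Fact p.Prime := ⟨hp⟩
    obtain ⟨x₀, hx₀⟩ := exists_prime_orderOf_dvd_card' (G := G ⧸ F) p (by rw [hQcard]; exact hpd)
    have hx₀1 : x₀ ≠ 1 := by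
      intro h1; rw [h1, orderOf_one] at hx₀; exact hp.one_lt.ne hx₀
    have hNMQ : NM σ (G ⧸ F) := hNM.quotient F
    have hQsol : Group.IsSolvable (G ⧸ F) := inferInstance
    have hQnt : Nontrivial (G ⧸ F) := ⟨⟨x₀, 1, hx₀1⟩⟩
    set V := Cfsg.fittingSubgroup (G ⧸ F) with hVdef
    have hVn : V.Normal := inferInstance
    have hVnil : Group.IsNilpotent V := fittingSubgroup_isNilpotent (G ⧸ F)
    have hV1 : V ≠ ⊥ := fitting_ne_bot hQsol
    set K := V.comap (QuotientGroup.mk' F) with hKdef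
    have hKn : K.Normal := inferInstance
    have hFK : F ≤ K := by
      intro f hf
      rw [hKdef, Subgroup.mem_comap]
      have : (QuotientGroup.mk' F) f = 1 := (QuotientGroup.eq_one_iff f).mpr hf
      rw [this]; exact V.one_mem
    have hKmap : K.map (QuotientGroup.mk' F) = V :=
      Subgroup.map_comap_eq_self_of_surjective (QuotientGroup.mk'_surjective F) V
    have hKcard : Nat.card K = Nat.card V * Nat.card F := card_comap_mk' F V
    -- V is a σ'-group
    have hVT : Sn σᶜ (Nat.card V) := by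
      rcases (hNMQ.subgroup V).sn_or_of_isNilpotent with h | h
      · exfalso
        have hKF : K ≤ F := hle K hKn (by rw [hKcard]; exact h.mul hF)
        apply hV1
        rw [← hKmap, eq_bot_iff]
        rintro _ ⟨k, hk, rfl⟩
        rw [Subgroup.mem_bot]
        exact (QuotientGroup.eq_one_iff k).mpr (hKF hk)
      · exact h
    have hVelt : ∀ v ∈ V, Sn σᶜ (orderOf v) := by
      intro v hv
      refine hVT.of_dvd ?_
      have := orderOf_dvd_natCard (⟨v, hv⟩ : V)
      rwa [Subgroup.orderOf_mk] at this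
    have hFltK : F < K := by
      refine lt_of_le_of_ne hFK ?_
      intro hFK'
      apply hV1
      rw [← hKmap, ← hFK', eq_bot_iff]
      rintro _ ⟨k, hk, rfl⟩
      rw [Subgroup.mem_bot]
      exact (QuotientGroup.eq_one_iff k).mpr hk
    -- Part A: K is Frobenius with kernel F
    have hFKcard : Nat.card (F.subgroupOf K) = Nat.card F :=
      Nat.card_congr (Subgroup.subgroupOfEquivOfLe hFK).toEquiv
    have hFKindex : (F.subgroupOf K).index = Nat.card V := by
      have h1 : (F.subgroupOf K).index = F.relIndex K := rfl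
      have h2 := card_mul_relIndex hFK
      rw [hKcard, mul_comm] at h2
      rw [h1]
      exact Nat.eq_of_mul_eq_mul_right Nat.card_pos h2
    have hcopK : Nat.Coprime (Nat.card (F.subgroupOf K)) (F.subgroupOf K).index := by
      rw [hFKcard, hFKindex]; exact hF.coprime hVT
    obtain ⟨C₀, hC₀⟩ := Subgroup.exists_right_complement'_of_coprime hcopK
    have hC₀card : Nat.card C₀ = Nat.card V := by
      rw [← hFKindex]; exact (hC₀.symm.index_eq_card).symm
    have hVcard1 : Nat.card V ≠ 1 := fun h => hV1 (Subgroup.card_eq_one.mp h)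
    have hC₀ne : C₀ ≠ ⊥ := by
      intro h0
      apply hVcard1
      rw [← hC₀card, h0]; exact Subgroup.card_bot
    have hFKne : F.subgroupOf K ≠ ⊥ := by
      intro h0
      apply hF1
      apply Subgroup.card_eq_one.mp
      rw [← hFKcard, h0]; exact Subgroup.card_bot
    have hfpfK : ∀ h ∈ C₀, h ≠ 1 → ∀ n ∈ F.subgroupOf K, h * n = n * h → n = 1 := by
      intro h hh h1 n hn hcomm
      have hT : Sn σᶜ (orderOf (h : G)) := by
        rw [Subgroup.orderOf_coe]
        refine hVT.of_dvd ?_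
        rw [← hC₀card]
        have := orderOf_dvd_natCard (⟨h, hh⟩ : C₀)
        rwa [Subgroup.orderOf_mk] at this
      have h1' : (h : G) ≠ 1 := fun h0 => h1 (Subtype.ext h0)
      have := step1 (h : G) h1' hT (n : G) (Subgroup.mem_subgroupOf.mp hn)
        (by have := congrArg Subtype.val hcomm; simpa using this)
      exact Subtype.ext this
    have hFrobK := frob_of_fpf_complement (F.subgroupOf K) C₀ hC₀ hFKne hC₀ne hfpfK
    -- the isomorphism C₀ ≃ V
    let ψ₀ : ↥C₀ →* G ⧸ F := (QuotientGroup.mk' F).comp (K.subtype.comp C₀.subtype)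
    have hψ₀V : ∀ c : ↥C₀, ψ₀ c ∈ V := by
      intro c
      have : ((c : ↥K) : G) ∈ K := (c : ↥K).2
      exact Subgroup.mem_comap.mp this
    let ψ : ↥C₀ →* ↥V := ψ₀.codRestrict V hψ₀V
    have hψinj : Function.Injective ψ := by
      rw [injective_iff_map_eq_one]
      intro c hc
      have h1 : ψ₀ c = 1 := by
        have := congrArg Subtype.val hc
        simpa [ψ] using this
      have h2 : ((c : ↥K) : G) ∈ F := (QuotientGroup.eq_one_iff _).mp h1
      have h3 : (c : ↥K) ∈ F.subgroupOf K := Subgroup.mem_subgroupOf.mpr h2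
      have h4 : (c : ↥K) = 1 := by
        have := hC₀.disjoint
        rw [Subgroup.disjoint_def] at this
        exact this h3 c.2
      exact Subtype.ext h4
    have hψsurj : Function.Surjective ψ := by
      rintro ⟨v, hv⟩
      obtain ⟨g, rfl⟩ := QuotientGroup.mk_surjective v
      have hgK : g ∈ K := by rw [hKdef, Subgroup.mem_comap]; exact hv
      obtain ⟨⟨n, c⟩, hnc⟩ := hC₀.2 (⟨g, hgK⟩ : ↥K)
      refine ⟨c, ?_⟩
      apply Subtype.ext
      have h1 : ((n : ↥K) : G) * ((c : ↥K) : G) = g := by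
        have := congrArg Subtype.val hnc
        simpa using this
      have h2 : ((n : ↥K) : G) ∈ F := Subgroup.mem_subgroupOf.mp n.2
      show (QuotientGroup.mk' F) ((c : ↥K) : G) = (QuotientGroup.mk' F) g
      have h5 : (QuotientGroup.mk' F) ((n : ↥K) : G) = 1 := (QuotientGroup.eq_one_iff _).mpr h2
      rw [← h1, map_mul, h5, one_mul]
    -- |C₀| is odd
    have hC₀odd : ¬ 2 ∣ Nat.card C₀ := by
      intro heven
      obtain ⟨⟨s, hsC, hso, hsuniq, -⟩, -⟩ := Cfsg.Agent.S0068.result (F.subgroupOf K) C₀ hC₀ hFKne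
        (inf_centralizer_eq_bot_of_fpf _ _ hfpfK) heven
      set sb : G ⧸ F := ψ₀ ⟨s, hsC⟩ with hsb
      have hsbV : sb ∈ V := hψ₀V ⟨s, hsC⟩
      have hψ₀inj : Function.Injective ψ₀ := by
        intro a b hab
        apply hψinj
        exact Subtype.ext hab
      have hsbo : orderOf sb = 2 := by
        rw [hsb, orderOf_injective ψ₀ hψ₀inj, ← Subgroup.orderOf_coe]
        exact hso
      have hconjV : x₀ * sb * x₀⁻¹ ∈ V := hVn.conj_mem sb hsbV x₀
      obtain ⟨t, ht⟩ := hψsurj ⟨x₀ * sb * x₀⁻¹, hconjV⟩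
      have ht' : ψ₀ t = x₀ * sb * x₀⁻¹ := congrArg Subtype.val ht
      have hto : orderOf (t : ↥K) = 2 := by
        rw [Subgroup.orderOf_coe, ← orderOf_injective ψ₀ hψ₀inj, ht']
        rw [← hsbo]
        exact orderOf_injective (MulAut.conj x₀).toMonoidHom (MulAut.conj x₀).injective sb
      have hts : (t : ↥K) = s := hsuniq t t.2 hto
      have hts' : t = ⟨s, hsC⟩ := Subtype.ext hts
      rw [hts'] at ht'
      have hcomm : Commute x₀ sb := by
        show x₀ * sb = sb * x₀
        calc x₀ * sb = x₀ * sb * x₀⁻¹ * x₀ := by group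
          _ = sb * x₀ := by rw [← ht']
      have hsb1 : sb ≠ 1 := by
        intro h1; rw [h1, orderOf_one] at hsbo; omega
      exact hNMQ.false_of_commute hcomm hx₀1 hsb1 (by rw [hx₀]; exact Sn_prime hp hpσ')
        (hVelt sb hsbV)
    -- C₀ is cyclic, hence V is cyclic
    have hC₀nil : Group.IsNilpotent C₀ :=
      Group.nilpotent_of_mulEquiv (MulEquiv.ofBijective ψ ⟨hψinj, hψsurj⟩).symm
    have hC₀Z : IsZGroup C₀ := by
      refine ⟨fun r hr P => ?_⟩
      have hrf : Fact r.Prime := ⟨hr⟩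
      rcases Cfsg.Agent.Lib.helper75.frob_sylow_cyclic_or_quat C₀ hFrobK.1 r P with h | ⟨h2, -⟩
      · exact h
      · subst h2
        have h3 : Nat.card P = 1 := by
          obtain ⟨k, hk⟩ := (IsPGroup.iff_card.mp P.isPGroup')
          have hd : Nat.card P ∣ Nat.card C₀ := Subgroup.card_subgroup_dvd_card _
          rcases Nat.eq_zero_or_pos k with h0 | h0
          · rw [hk, h0, pow_zero]
          · exfalso
            apply hC₀odd
            refine dvd_trans ?_ hd
            rw [hk]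
            exact dvd_pow_self 2 h0.ne'
        have : Subsingleton P := (Nat.card_eq_one_iff_unique.mp h3).1
        exact isCyclic_of_subsingleton
    have hC₀cyc : IsCyclic C₀ := inferInstance
    have hVcyc : IsCyclic V := isCyclic_of_surjective ψ hψsurj
    -- Part C: commutators centralize V
    obtain ⟨gv, hgv⟩ := hVcyc.exists_generator
    set g₀ : G ⧸ F := (gv : G ⧸ F) with hg₀
    have hVpow : ∀ v ∈ V, ∃ k : ℤ, g₀ ^ k = v := by
      intro v hv
      obtain ⟨k, hk⟩ := Subgroup.mem_zpowers_iff.mp (hgv ⟨v, hv⟩)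
      refine ⟨k, ?_⟩
      have := congrArg Subtype.val hk
      simpa using this
    have hconj : ∀ a : G ⧸ F, ∃ i : ℤ, a * g₀ * a⁻¹ = g₀ ^ i := by
      intro a
      obtain ⟨i, hi⟩ := hVpow _ (hVn.conj_mem g₀ gv.2 a)
      exact ⟨i, hi.symm⟩
    have hP : ∀ a b : G ⧸ F, (a * b) * g₀ * (a * b)⁻¹ = (b * a) * g₀ * (b * a)⁻¹ := by
      intro a b
      obtain ⟨i, hi⟩ := hconj a
      obtain ⟨j, hj⟩ := hconj b
      have h1 : (a * b) * g₀ * (a * b)⁻¹ = a * (b * g₀ * b⁻¹) * a⁻¹ := by group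
      have h2 : (b * a) * g₀ * (b * a)⁻¹ = b * (a * g₀ * a⁻¹) * b⁻¹ := by group
      have h3 : ∀ (c : G ⧸ F) (k : ℤ), c * g₀ ^ k * c⁻¹ = (c * g₀ * c⁻¹) ^ k := by
        intro c k
        rw [conj_zpow]
      rw [h1, h2, hj, hi, h3, h3, hi, hj, ← zpow_mul, ← zpow_mul, mul_comm]
    have hcomm_g₀ : ∀ a b : G ⧸ F, ⁅a, b⁆ * g₀ = g₀ * ⁅a, b⁆ := by
      intro a b
      have h := hP a⁻¹ b⁻¹
      have e1 : ⁅a, b⁆ = (b⁻¹ * a⁻¹)⁻¹ * (a⁻¹ * b⁻¹) := by
        rw [commutatorElement_def]; group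
      have e2 : (b⁻¹ * a⁻¹)⁻¹ * (a⁻¹ * b⁻¹) * g₀
          = (b⁻¹ * a⁻¹)⁻¹ * ((a⁻¹ * b⁻¹) * g₀ * (a⁻¹ * b⁻¹)⁻¹) * (a⁻¹ * b⁻¹) := by group
      rw [e1, e2, h]
      group
    have hcomm_le : commutator (G ⧸ F) ≤ Subgroup.centralizer (V : Set (G ⧸ F)) := by
      rw [commutator_def, Subgroup.commutator_le]
      intro a _ b _
      rw [Subgroup.mem_centralizer_iff]
      intro v hv
      obtain ⟨k, rfl⟩ := hVpow v hv
      have hc : Commute ⁅a, b⁆ g₀ := hcomm_g₀ a b
      exact ((hc.zpow_right k).eq).symm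
    -- normal σ'-subgroups of G/F lie in V
    have hleQ : ∀ M : Subgroup (G ⧸ F), M.Normal → Sn σᶜ (Nat.card M) → M ≤ V := by
      intro M hMn hMσ
      exact le_fittingSubgroup hMn
        (hNMQ.compl.isNilpotent_of_normal M hMσ x₀ p hp (fun h => h hpσ') hx₀)
    obtain ⟨v₁, hv₁V, hv₁1⟩ : ∃ v ∈ V, v ≠ 1 := by
      by_contra hcon
      apply hV1
      rw [Subgroup.eq_bot_iff_forall]
      intro v hv
      by_contra hv1
      exact hcon ⟨v, hv, hv1⟩
    have hcent_le : Subgroup.centralizer (V : Set (G ⧸ F)) ≤ V := by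
      have hZn : (Subgroup.centralizer (V : Set (G ⧸ F))).Normal := Subgroup.normal_centralizer
      refine hleQ _ hZn (Sn_card_of_forall ?_)
      intro z
      rw [← Subgroup.orderOf_coe]
      rcases hNMQ (z : G ⧸ F) with h | h
      · by_cases hz1 : (z : G ⧸ F) = 1
        · rw [hz1, orderOf_one]
          intro r hr hrd
          exact absurd (Nat.dvd_one.mp hrd) hr.one_lt.ne'
        · exfalso
          have hc : Commute (z : G ⧸ F) v₁ :=
            ((Subgroup.mem_centralizer_iff.mp z.2) v₁ hv₁V).symm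
          exact hNMQ.false_of_commute hc hz1 hv₁1 h (hVelt v₁ hv₁V)
      · exact h
    have hcommV : commutator (G ⧸ F) ≤ V := hcomm_le.trans hcent_le
    -- Part D: every σ'-element of G/F lies in V
    have hTV : ∀ t : G ⧸ F, Sn σᶜ (orderOf t) → t ∈ V := by
      intro t ht
      have hMn : (Subgroup.zpowers t ⊔ V).Normal :=
        normal_of_commutator_le _ (hcommV.trans le_sup_right)
      have hMcard : Sn σᶜ (Nat.card (Subgroup.zpowers t ⊔ V : Subgroup (G ⧸ F))) := by
        have h1 := card_mul_relIndex (le_sup_right : V ≤ Subgroup.zpowers t ⊔ V)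
        rw [← h1, Subgroup.relIndex_sup_right]
        refine hVT.mul (ht.of_dvd ?_)
        rw [← Nat.card_zpowers]
        exact Subgroup.relIndex_dvd_card _ _
      exact hleQ _ hMn hMcard (le_sup_left (a := Subgroup.zpowers t)
        (Subgroup.mem_zpowers t))
    -- Part E: V is a Hall subgroup of G/F
    have hVidx : Sn σ V.index := by
      intro r hr hrd
      have hrf : Fact r.Prime := ⟨hr⟩
      rw [Subgroup.index_eq_card] at hrd
      obtain ⟨yb, hyb⟩ := exists_prime_orderOf_dvd_card' (G := (G ⧸ F) ⧸ V) r hrd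
      obtain ⟨t, rfl⟩ := QuotientGroup.mk_surjective yb
      have hd : orderOf (t : (G ⧸ F) ⧸ V) ∣ orderOf t :=
        orderOf_map_dvd (QuotientGroup.mk' V) t
      rcases hNMQ t with h | h
      · exact h r hr (hyb ▸ hd)
      · exfalso
        have htV := hTV t h
        have h1 : (t : (G ⧸ F) ⧸ V) = 1 := (QuotientGroup.eq_one_iff t).mpr htV
        rw [h1, orderOf_one] at hyb
        exact hr.one_lt.ne hyb
    have hcopV : Nat.Coprime (Nat.card V) V.index := (hVidx.coprime hVT).symm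
    obtain ⟨D, hD⟩ := Subgroup.exists_right_complement'_of_coprime hcopV
    have hDcard : Nat.card D = V.index := (hD.symm.index_eq_card).symm
    have hDne : D ≠ ⊥ := by
      intro hD0
      have h1 : V.index = 1 := by rw [← hDcard, hD0]; exact Subgroup.card_bot
      have h2 : V = ⊤ := Subgroup.index_eq_one.mp h1
      have h3 : x₀ ∈ V := by rw [h2]; exact Subgroup.mem_top x₀
      have h4 := hVelt x₀ h3
      rw [hx₀] at h4
      exact h4 p hp dvd_rfl hpσ'
    have hfpfQ : ∀ h ∈ D, h ≠ 1 → ∀ n ∈ V, h * n = n * h → n = 1 := by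
      intro h hh h1 n hn hcomm
      by_contra hn1
      refine hNMQ.false_of_commute (x := h) (y := n) hcomm h1 hn1 ?_ (hVelt n hn)
      refine hVidx.of_dvd ?_
      rw [← hDcard]
      have := orderOf_dvd_natCard (⟨h, hh⟩ : D)
      rwa [Subgroup.orderOf_mk] at this
    have hFrobQ := frob_of_fpf_complement V D hD hV1 hDne hfpfQ
    refine ⟨F, K, hFn, hKn, hFltK, ⟨C₀, hFrobK.1, hFrobK.2⟩, ⟨D, hFrobQ.1, ?_⟩⟩
    rw [hKmap]
    exact hFrobQ.2

/-- A finite solvable group whose prime graph (prime divisors of the order, two distinct primes joined when there is an element of order their product) is disconnected is a Frobenius group or a 2-Frobenius group (it has normal subgroups H < K with K a Frobenius group with kernel H and G/H a Frobenius group with kernel K/H). -/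
theorem result {G : Type*} [Group G] [Finite G] (hsol : Group.IsSolvable G)
    (hdisc : (∃ A : Set ℕ, (∃ a ∈ A, a.Prime ∧ a ∣ Nat.card G) ∧ (∃ b ∉ A, b.Prime ∧ b ∣ Nat.card G) ∧
      ∀ a ∈ A, ∀ b ∉ A, a.Prime → b.Prime → a ∣ Nat.card G → b ∣ Nat.card G → ¬ ∃ g : G, orderOf g = a * b)) :
    (∃ C : Subgroup G, Cfsg.IsFrobeniusComplement C) ∨
    (∃ (H K : Subgroup G) (_ : H.Normal), K.Normal ∧ H < K ∧
      (∃ C : Subgroup ↥K, Cfsg.IsFrobeniusComplement C ∧ Cfsg.frobeniusKernel C = (H.subgroupOf K : Set ↥K)) ∧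
      (∃ C : Subgroup (G ⧸ H), Cfsg.IsFrobeniusComplement C ∧ Cfsg.frobeniusKernel C = (K.map (QuotientGroup.mk' H) : Set (G ⧸ H)))) := by
  obtain ⟨A, ⟨a, haA, hap, haG⟩, ⟨b, hbA, hbp, hbG⟩, hno⟩ := hdisc
  have hNM : NM A G := by
    intro x
    by_contra hcon
    rw [not_or] at hcon
    obtain ⟨h1, h2⟩ := hcon
    simp only [Sn, not_forall] at h1 h2
    obtain ⟨p, hp, hpd, hpσ⟩ := h1
    obtain ⟨q, hq, hqd, hqσ⟩ := h2
    have hqσ' : q ∈ A := by simpa using hqσ
    have hpq : q ≠ p := fun h => hpσ (h ▸ hqσ')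
    have hdvd : q * p ∣ orderOf x :=
      Nat.Coprime.mul_dvd_of_dvd_of_dvd ((Nat.coprime_primes hq hp).mpr hpq) hqd hpd
    have ho : orderOf (x ^ (orderOf x / (q * p))) = q * p :=
      orderOf_pow_orderOf_div (orderOf_pos x).ne' hdvd
    exact hno q hqσ' p hpσ hq hp (hqd.trans (orderOf_dvd_natCard x))
      (hpd.trans (orderOf_dvd_natCard x)) ⟨_, ho⟩
  have hGnt : Nontrivial G := by
    rw [← Finite.one_lt_card_iff_nontrivial]
    exact lt_of_lt_of_le hap.one_lt (Nat.le_of_dvd Nat.card_pos haG)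
  have hF1 : Cfsg.fittingSubgroup G ≠ ⊥ := fitting_ne_bot hsol
  have hFnil : Group.IsNilpotent (Cfsg.fittingSubgroup G) := fittingSubgroup_isNilpotent G
  rcases (hNM.subgroup (Cfsg.fittingSubgroup G)).sn_or_of_isNilpotent with h | h
  · exact main_aux hsol A hNM h hF1 b hbp hbA hbG
  · exact main_aux hsol Aᶜ hNM.compl h hF1 a hap (fun h => h haA) haG

end Cfsg.Agent.S3857
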