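import Cfsg.Statements.S3858

set_option autoImplicit false
open Cfsg

namespace Cfsg.Agent.S3858

theorem mem_map_conj {G : Type*} [Group G] (H : Subgroup G) (a y : G) :
    y ∈ H.map (MulAut.conj a).toMonoidHom ↔ a⁻¹ * y * a ∈ H := by
  constructor
  · rintro ⟨h, hh, rfl⟩
    simpa [mul_assoc] using hh
  · intro hy
    exact ⟨a⁻¹ * y * a, hy, by simp [mul_assoc]⟩

theorem map_conj_mul {G : Type*} [Group G] (H : Subgroup G) (a b : G) :
    H.map (MulAut.conj (a * b)).toMonoidHom =
      (H.map (MulAut.conj b).toMonoidHom).map (MulAut.conj a).toMonoidHom := by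
  rw [Subgroup.map_map]
  congr 1
  ext x
  simp [mul_assoc]

theorem map_conj_one {G : Type*} [Group G] (H : Subgroup G) :
    H.map (MulAut.conj (1 : G)).toMonoidHom = H := by
  ext y
  simp

theorem map_conj_eq_of_mem {G : Type*} [Group G] (M : Subgroup G) (g : G) (hg : g ∈ M) :
    M.map (MulAut.conj g).toMonoidHom = M := by
  ext y
  rw [mem_map_conj]
  constructor
  · intro h
    have : y = g * (g⁻¹ * y * g) * g⁻¹ := by group
    rw [this]
    exact M.mul_mem (M.mul_mem hg h) (M.inv_mem hg)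
  · intro h
    exact M.mul_mem (M.mul_mem (M.inv_mem hg) h) hg

theorem isCoatom_map_conj {G : Type*} [Group G] (M : Subgroup G) (g : G) (hM : IsCoatom M) :
    IsCoatom (M.map (MulAut.conj g).toMonoidHom) :=
  ((MulAut.conj g).mapSubgroup.isCoatom_iff M).2 hM

theorem not_dvd_index_of_le {G : Type*} [Group G] [Finite G] {r : ℕ} [Fact r.Prime] (R : Sylow r G)
    (M : Subgroup G) (h : (R : Subgroup G) ≤ M) : ¬ r ∣ M.index := by
  intro hdvd
  exact R.not_dvd_index (hdvd.trans (Subgroup.index_dvd_of_le h))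

theorem exists_conj_le {G : Type*} [Group G] [Finite G] {r : ℕ} [Fact r.Prime] (R : Sylow r G)
    (M : Subgroup G) (h : ¬ r ∣ M.index) : ∃ g : G, (R : Subgroup G) ≤ M.map (MulAut.conj g).toMonoidHom := by
  have hP : IsPGroup r (R : Subgroup G) := R.isPGroup'
  have hcard : ¬ r ∣ Nat.card (G ⧸ M) := h
  obtain ⟨q, hq⟩ := hP.nonempty_fixed_point_of_prime_not_dvd_card (G ⧸ M) hcard
  obtain ⟨g, rfl⟩ := QuotientGroup.mk_surjective q
  refine ⟨g, ?_⟩
  intro x hx
  rw [mem_map_conj]
  have h1 := hq ⟨x⁻¹, (R : Subgroup G).inv_mem hx⟩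
  have h2 : ((x⁻¹ * g : G) : G ⧸ M) = (g : G ⧸ M) := h1
  rw [QuotientGroup.eq] at h2
  simpa [mul_assoc] using h2

theorem mem_of_sylow_le_conj {G : Type*} [Group G] [Finite G] {r : ℕ} [Fact r.Prime] (R : Sylow r G)
    (M : Subgroup G) (hN : Subgroup.normalizer ((R : Subgroup G) : Set G) ≤ M) (g : G)
    (h2 : (R : Subgroup G) ≤ M.map (MulAut.conj g).toMonoidHom) : g ∈ M := by
  have h1 : (R : Subgroup G) ≤ M := le_trans Subgroup.le_normalizer hN
  have h2' : ((g⁻¹ • R : Sylow r G) : Subgroup G) ≤ M := by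
    intro y hy
    rw [Sylow.coe_subgroup_smul, Subgroup.mem_pointwise_smul_iff_inv_smul_mem] at hy
    have hy' : g * y * g⁻¹ ∈ (R : Subgroup G) := by simpa [MulAut.smul_def] using hy
    have := h2 hy'
    rw [mem_map_conj] at this
    simpa [mul_assoc] using this
  obtain ⟨h, hh⟩ := MulAction.exists_smul_eq M (R.subtype h1) ((g⁻¹ • R).subtype h2')
  rw [Sylow.smul_subtype] at hh
  have h3 : h • R = g⁻¹ • R := Sylow.subtype_injective hh
  have h4 : (g * (h : G)) • R = R := by
    rw [mul_smul]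
    have : (h : G) • R = g⁻¹ • R := h3
    rw [this, smul_smul, mul_inv_cancel, one_smul]
  have h5 : g * (h : G) ∈ Subgroup.normalizer ((R : Subgroup G) : Set G) :=
    Sylow.smul_eq_iff_mem_normalizer.1 h4
  have h6 : g * (h : G) ∈ M := hN h5
  have : g = g * (h : G) * (h : G)⁻¹ := by group
  rw [this]
  exact M.mul_mem h6 (M.inv_mem h.2)

theorem normalizer_ne_top {G : Type*} [Group G] [Finite G] (T : Subgroup G) [T.Normal] (hT : IsSimpleGroup T)
    (hna : ¬ IsMulCommutative T) {r : ℕ} [Fact r.Prime] (R : Sylow r G) (hR0 : (R : Subgroup G) ⊓ T ≠ ⊥) :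
    Subgroup.normalizer ((R : Subgroup G) : Set G) ≠ ⊤ := by
  intro htop
  haveI := hT
  haveI hRn : (R : Subgroup G).Normal := Subgroup.normalizer_eq_top_iff.1 htop
  haveI hK : (((R : Subgroup G) ⊓ T).subgroupOf T).Normal := inferInstance
  rcases hK.eq_bot_or_eq_top with hbot | htop'
  · apply hR0
    rw [Subgroup.subgroupOf_eq_bot] at hbot
    have := hbot.eq_bot
    rwa [inf_of_le_left inf_le_right] at this
  · rw [Subgroup.subgroupOf_eq_top] at htop'
    have hTR : T ≤ (R : Subgroup G) := le_trans htop' inf_le_left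
    have hTp : IsPGroup r T := R.isPGroup'.to_le hTR
    haveI : Nontrivial T := IsSimpleGroup.toNontrivial
    haveI hcn : Nontrivial (Subgroup.center T) := hTp.center_nontrivial
    have hc : (Subgroup.center T) = ⊤ := by
      rcases (inferInstance : (Subgroup.center T).Normal).eq_bot_or_eq_top with hb | ht
      · exact absurd hb ((Subgroup.nontrivial_iff_ne_bot _).1 hcn)
      · exact ht
    apply hna
    rw [isMulCommutative_iff]
    intro a b
    have ha : a ∈ Subgroup.center T := by rw [hc]; trivial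
    exact ((Subgroup.mem_center_iff.1 ha) b).symm

/-- Let G be a finite group with a normal non-abelian simple subgroup T whose centralizer is trivial (G almost simple with socle T), r a prime and R a Sylow r-subgroup of G meeting T nontrivially. Then R lies in exactly one maximal subgroup of G if and only if G has exactly one conjugacy class of maximal subgroups whose index is prime to r. -/
theorem result {G : Type*} [Group G] [Finite G] (T : Subgroup G) [T.Normal] (hT : IsSimpleGroup T) (hna : ¬ IsMulCommutative T)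
    (hC : Subgroup.centralizer (T : Set G) = ⊥) {r : ℕ} [Fact r.Prime] (R : Sylow r G) (hR0 : (R : Subgroup G) ⊓ T ≠ ⊥) :
    (∃! M : Subgroup G, IsCoatom M ∧ (R : Subgroup G) ≤ M) ↔
      ((∃ M : Subgroup G, IsCoatom M ∧ ¬ r ∣ M.index) ∧
        ∀ M₁ M₂ : Subgroup G, IsCoatom M₁ → ¬ r ∣ M₁.index → IsCoatom M₂ → ¬ r ∣ M₂.index → ∃ g : G, M₂ = M₁.map (MulAut.conj g).toMonoidHom) := by
  constructor
  · rintro ⟨M, ⟨hMc, hRM⟩, huniq⟩
    refine ⟨⟨M, hMc, not_dvd_index_of_le R M hRM⟩, ?_⟩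
    intro M₁ M₂ hM₁ hi₁ hM₂ hi₂
    -- each Mᵢ is a conjugate of M
    have key : ∀ M' : Subgroup G, IsCoatom M' → ¬ r ∣ M'.index →
        ∃ g : G, M = M'.map (MulAut.conj g).toMonoidHom := by
      intro M' hM' hi'
      obtain ⟨g, hg⟩ := exists_conj_le R M' hi'
      exact ⟨g, (huniq _ ⟨isCoatom_map_conj M' g hM', hg⟩).symm⟩
    obtain ⟨g₁, h₁⟩ := key M₁ hM₁ hi₁
    obtain ⟨g₂, h₂⟩ := key M₂ hM₂ hi₂
    refine ⟨g₂⁻¹ * g₁, ?_⟩
    rw [map_conj_mul, ← h₁, h₂, ← map_conj_mul, inv_mul_cancel, map_conj_one]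
  · rintro ⟨-, hconj⟩
    have hN := normalizer_ne_top T hT hna R hR0
    obtain ⟨M, hMc, hNM⟩ := (eq_top_or_exists_le_coatom _).resolve_left hN
    have hRM : (R : Subgroup G) ≤ M := le_trans Subgroup.le_normalizer hNM
    refine ⟨M, ⟨hMc, hRM⟩, ?_⟩
    rintro M' ⟨hM'c, hRM'⟩
    obtain ⟨g, hg⟩ := hconj M M' hMc (not_dvd_index_of_le R M hRM) hM'c (not_dvd_index_of_le R M' hRM')
    rw [hg] at hRM'
    have hgM : g ∈ M := mem_of_sylow_le_conj R M hNM g hRM'
    rw [hg, map_conj_eq_of_mem M g hgM]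

end Cfsg.Agent.S3858
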