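import Cfsg.Statements.S3859

set_option autoImplicit false
open Cfsg
open scoped Pointwise

namespace Cfsg.Agent.S3859

/-- a simple `r`-group is commutative -/
theorem isMulCommutative_of_simple_pgroup {T : Type*} [Group T] [Finite T] (hT : IsSimpleGroup T)
    {r : ℕ} [Fact r.Prime] (hTp : IsPGroup r T) : IsMulCommutative T := by
  haveI := hT
  haveI : Nontrivial T := IsSimpleGroup.toNontrivial
  have hcn : Nontrivial (Subgroup.center T) := hTp.center_nontrivial
  have hc : (Subgroup.center T) = ⊤ := by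
    rcases (inferInstance : (Subgroup.center T).Normal).eq_bot_or_eq_top with hb | ht
    · exact absurd hb ((Subgroup.nontrivial_iff_ne_bot _).1 hcn)
    · exact ht
  rw [isMulCommutative_iff]
  intro a b
  have ha : a ∈ Subgroup.center T := by rw [hc]; trivial
  exact ((Subgroup.mem_center_iff.1 ha) b).symm

/-- Let G be a finite group with a normal non-abelian simple subgroup T whose centralizer is trivial (G almost simple with socle T), r a prime and R a Sylow r-subgroup of G meeting T nontrivially. If R lies in exactly one maximal subgroup of G, then G/T is an r-group. -/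
theorem result {G : Type*} [Group G] [Finite G] (T : Subgroup G) [T.Normal] (hT : IsSimpleGroup T) (hna : ¬ IsMulCommutative T)
    (hC : Subgroup.centralizer (T : Set G) = ⊥) {r : ℕ} [Fact r.Prime] (R : Sylow r G) (hR0 : (R : Subgroup G) ⊓ T ≠ ⊥)
    (huniq : ∃! M : Subgroup G, IsCoatom M ∧ (R : Subgroup G) ≤ M) : IsPGroup r (G ⧸ T) := by
  classical
  haveI := hT
  obtain ⟨M, ⟨hMc, hRM⟩, hMuniq⟩ := huniq
  -- `T` is not an `r`-group
  have hTnot : ¬ IsPGroup r T := fun h => hna (isMulCommutative_of_simple_pgroup hT h)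
  -- `r` divides `|T|`
  have hrT : r ∣ Nat.card T := by
    have hp : IsPGroup r (((R : Subgroup G) ⊓ T : Subgroup G)) := R.isPGroup'.to_le inf_le_left
    have hnt : Nontrivial (((R : Subgroup G) ⊓ T : Subgroup G)) := (Subgroup.nontrivial_iff_ne_bot _).2 hR0
    obtain ⟨n, hn0, hn⟩ := hp.nontrivial_iff_card.1 hnt
    have h1 : Nat.card (((R : Subgroup G) ⊓ T : Subgroup G)) ∣ Nat.card T :=
      Subgroup.card_dvd_of_le inf_le_right
    rw [hn] at h1
    exact (dvd_pow_self r (Nat.pos_iff_ne_zero.1 hn0)).trans h1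
  -- `R` acts on the Sylow `r`-subgroups of `T` and fixes one of them
  letI act : MulAction (R : Subgroup G) (Sylow r T) :=
    MulAction.compHom (Sylow r T) ((MulAut.conjNormal (H := T)).comp (R : Subgroup G).subtype)
  have hfix := (R.isPGroup').nonempty_fixed_point_of_prime_not_dvd_card (Sylow r T)
    (not_dvd_card_sylow r T)
  obtain ⟨P₀, hP₀⟩ := hfix
  have hP₀' : ∀ x : (R : Subgroup G), (MulAut.conjNormal (H := T) (x : G)) • P₀ = P₀ := fun x => hP₀ x
  -- the image of `P₀` in `G`
  set Q : Subgroup G := (P₀ : Subgroup T).map T.subtype with hQ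
  have hRN : (R : Subgroup G) ≤ Subgroup.normalizer (Q : Set G) := by
    intro x hx
    have hx1 := hP₀' ⟨x, hx⟩
    have hx2 : (MulAut.conjNormal (H := T) x) • (P₀ : Subgroup T) = (P₀ : Subgroup T) := by
      have := congrArg (fun S : Sylow r T => (S : Subgroup T)) hx1
      simpa [Sylow.pointwise_smul_def] using this
    have hmem : ∀ t : T, t ∈ (P₀ : Subgroup T) → (MulAut.conjNormal (H := T) x) t ∈ (P₀ : Subgroup T) := by
      intro t ht
      have : (MulAut.conjNormal (H := T) x) • t ∈ (MulAut.conjNormal (H := T) x) • (P₀ : Subgroup T) :=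
        Subgroup.smul_mem_pointwise_smul _ _ _ ht
      rw [hx2] at this
      exact this
    have hmem' : ∀ t : T, (MulAut.conjNormal (H := T) x) t ∈ (P₀ : Subgroup T) → t ∈ (P₀ : Subgroup T) := by
      intro t ht
      have h3 : (MulAut.conjNormal (H := T) x) • t ∈ (MulAut.conjNormal (H := T) x) • (P₀ : Subgroup T) := by
        rw [hx2]; exact ht
      exact (Subgroup.smul_mem_pointwise_smul_iff).1 h3
    rw [Subgroup.mem_normalizer_iff]
    intro y
    constructor
    · rintro ⟨t, ht, rfl⟩
      refine ⟨(MulAut.conjNormal (H := T) x) t, hmem t ht, ?_⟩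
      simp [MulAut.conjNormal_apply]
    · rintro ⟨t, ht, htx⟩
      have hyT : y ∈ T := by
        have h4 : x⁻¹ * (x * y * x⁻¹) * x⁻¹⁻¹ ∈ T :=
          Subgroup.Normal.conj_mem inferInstance _ (by rw [← htx]; exact t.2) x⁻¹
        have h5 : x⁻¹ * (x * y * x⁻¹) * x⁻¹⁻¹ = y := by group
        rwa [h5] at h4
      refine ⟨⟨y, hyT⟩, ?_, rfl⟩
      apply hmem'
      have h6 : (MulAut.conjNormal (H := T) x) ⟨y, hyT⟩ = t := by
        apply Subtype.ext
        rw [MulAut.conjNormal_apply]
        exact htx.symm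
      rw [h6]
      exact ht
  -- `N_G(Q)` is proper
  have hNtop : Subgroup.normalizer (Q : Set G) ≠ ⊤ := by
    intro htop
    have hQn : Q.Normal := Subgroup.normalizer_eq_top_iff.1 htop
    have hP₀n : (P₀ : Subgroup T).Normal := by
      have h7 : (P₀ : Subgroup T) = Q.comap T.subtype := by
        rw [hQ, Subgroup.comap_map_eq_self_of_injective T.subtype_injective]
      rw [h7]
      exact hQn.comap _
    rcases hP₀n.eq_bot_or_eq_top with hb | ht
    · exact P₀.ne_bot_of_dvd_card hrT hb
    · apply hTnot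
      have := P₀.isPGroup'
      rw [ht] at this
      exact this.of_equiv Subgroup.topEquiv
  -- so `N_G(Q) ≤ M`
  obtain ⟨M', hM'c, hNM'⟩ := (eq_top_or_exists_le_coatom _).resolve_left hNtop
  have hM' : M' = M := hMuniq M' ⟨hM'c, le_trans hRN hNM'⟩
  rw [hM'] at hNM'
  -- Frattini
  have hfrat : Subgroup.normalizer (Q : Set G) ⊔ T = ⊤ := Sylow.normalizer_sup_eq_top P₀
  have hMT : M ⊔ T = ⊤ := by
    rw [eq_top_iff, ← hfrat]
    exact sup_le_sup_right hNM' T
  -- `R ⊔ T = ⊤`
  have hRT : (R : Subgroup G) ⊔ T = ⊤ := by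
    by_contra hne
    obtain ⟨M'', hM''c, hRTM''⟩ := (eq_top_or_exists_le_coatom _).resolve_left hne
    have hM'' : M'' = M := hMuniq M'' ⟨hM''c, le_trans le_sup_left hRTM''⟩
    rw [hM''] at hRTM''
    have hTM : T ≤ M := le_trans le_sup_right hRTM''
    have : M = ⊤ := by rw [← hMT]; exact (sup_eq_left.2 hTM).symm
    exact hMc.1 this
  -- conclude
  have hsurj : Function.Surjective ((QuotientGroup.mk' T).comp (R : Subgroup G).subtype) := by
    intro q
    obtain ⟨g, rfl⟩ := QuotientGroup.mk_surjective q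
    have hg : g ∈ ((R : Subgroup G) ⊔ T : Subgroup G) := by rw [hRT]; trivial
    have hg' : g ∈ ((R : Subgroup G) : Set G) * (T : Set G) := by
      rw [← Subgroup.mul_normal]
      exact hg
    obtain ⟨x, hx, t, ht, rfl⟩ := hg'
    refine ⟨⟨x, hx⟩, ?_⟩
    simp only [MonoidHom.coe_comp, Function.comp_apply, Subgroup.subtype_apply, QuotientGroup.mk'_apply]
    rw [QuotientGroup.eq]
    simpa using ht
  exact (R.isPGroup').of_surjective _ hsurj

end Cfsg.Agent.S3859
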