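import Mathlib
import Cfsg.Statements.S3863

set_option autoImplicit false
open Cfsg

namespace Cfsg.Agent.S3863

/-- a 2-power-torsion element of a group of odd order is trivial -/
theorem eq_one_of_pow_two_pow_of_odd {Q : Type*} [Group Q] [Finite Q] (hodd : Odd (Nat.card Q))
    (q : Q) (j : ℕ) (h : q ^ (2 ^ j) = 1) : q = 1 := by
  have h1 : orderOf q ∣ 2 ^ j := orderOf_dvd_of_pow_eq_one h
  have h2 : orderOf q ∣ Nat.card Q := orderOf_dvd_natCard q
  have hcop : Nat.Coprime (2 ^ j) (Nat.card Q) :=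
    Nat.Coprime.pow_left j (Nat.coprime_two_left.2 hodd)
  have : orderOf q = 1 := Nat.eq_one_of_dvd_coprimes hcop h1 h2
  exact orderOf_eq_one_iff.1 this

/-- if `g` inverts `x`, a 2-element also inverts `x` -/
theorem exists_two_elt_inverting {G : Type*} [Group G] [Finite G] (x g : G) (hg : g * x * g⁻¹ = x⁻¹) :
    ∃ t : G, (∃ j : ℕ, orderOf t = 2 ^ j) ∧ t * x * t⁻¹ = x⁻¹ := by
  have hpos : orderOf g ≠ 0 := (isOfFinOrder_of_finite g).orderOf_pos.ne'
  obtain ⟨k, m, hm, hkm⟩ := Nat.exists_eq_two_pow_mul_odd hpos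
  obtain ⟨i, hi⟩ := hm
  -- g^2 commutes with x
  have hc2 : Commute (g ^ 2) x := by
    have h1 : g * x⁻¹ * g⁻¹ = x := by
      have := congrArg (fun y => y⁻¹) hg
      simp only [mul_inv_rev, inv_inv] at this
      rw [← mul_assoc] at this
      exact this
    have h2 : g ^ 2 * x * (g ^ 2)⁻¹ = x := by
      have : g ^ 2 * x * (g ^ 2)⁻¹ = g * (g * x * g⁻¹) * g⁻¹ := by
        rw [pow_two]; group
      rw [this, hg, h1]
    have h3 : g ^ 2 * x = x * g ^ 2 := by
      calc g ^ 2 * x = g ^ 2 * x * (g ^ 2)⁻¹ * g ^ 2 := by group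
        _ = x * g ^ 2 := by rw [h2]
    exact h3
  have hci : Commute ((g ^ 2) ^ i) x := hc2.pow_left i
  refine ⟨g ^ m, ?_, ?_⟩
  · have hpow : (g ^ m) ^ (2 ^ k) = 1 := by
      rw [← pow_mul, mul_comm, ← hkm, pow_orderOf_eq_one]
    have hdvd : orderOf (g ^ m) ∣ 2 ^ k := orderOf_dvd_of_pow_eq_one hpow
    obtain ⟨j, -, hj⟩ := (Nat.dvd_prime_pow Nat.prime_two).1 hdvd
    exact ⟨j, hj⟩
  · have hgm : g ^ m = (g ^ 2) ^ i * g := by
      rw [hi, pow_succ, pow_mul]
    have hci' : (g ^ 2) ^ i * x⁻¹ * ((g ^ 2) ^ i)⁻¹ = x⁻¹ := by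
      have := hci.inv_right
      rw [this.eq]
      group
    calc g ^ m * x * (g ^ m)⁻¹ = (g ^ 2) ^ i * (g * x * g⁻¹) * ((g ^ 2) ^ i)⁻¹ := by
          rw [hgm]; group
      _ = x⁻¹ := by rw [hg, hci']

theorem card_orbit_eq_index {G : Type*} [Group G] [Finite G] (x : G) :
    Nat.card (MulAction.orbit (ConjAct G) x) = (Subgroup.centralizer ({x} : Set G)).index := by
  have h1 : Nat.card (Subgroup.centralizer ({x} : Set G)) * (Subgroup.centralizer ({x} : Set G)).index
      = Nat.card G := Subgroup.card_mul_index _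
  have h2 : Nat.card (MulAction.stabilizer (ConjAct G) x) * (MulAction.stabilizer (ConjAct G) x).index
      = Nat.card (ConjAct G) := Subgroup.card_mul_index _
  have h3 : Nat.card (ConjAct G) = Nat.card G := Nat.card_congr (ConjAct.ofConjAct (G := G)).toEquiv
  have h4 := Subgroup.nat_card_centralizer_nat_card_stabilizer x
  have h5 : (MulAction.stabilizer (ConjAct G) x).index = Nat.card (MulAction.orbit (ConjAct G) x) := by
    rw [MulAction.index_stabilizer, Nat.card_coe_set_eq]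
  rw [← h5]
  rw [h3, ← h1, ← h4] at h2
  exact Nat.eq_of_mul_eq_mul_left Nat.card_pos h2

/-- Let x be an element of the finite group G that is conjugate to its inverse. Then some 2-element conjugates x to its inverse; if the conjugacy class of x has odd size then x ^ 2 = 1; and x lies in, and is conjugate to its inverse inside, every normal subgroup of odd index. -/
theorem result {G : Type*} [Group G] [Finite G] (x : G) (hx : IsConj x x⁻¹) : (∃ t : G, (∃ j : ℕ, orderOf t = 2 ^ j) ∧ t * x * t⁻¹ = x⁻¹) ∧ (Odd (Subgroup.centralizer ({x} : Set G)).index → x ^ 2 = 1) ∧ ∀ (N : Subgroup G) [N.Normal], Odd N.index → ∃ hxN : x ∈ N, IsConj (⟨x, hxN⟩ : N) (⟨x, hxN⟩ : N)⁻¹ := by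
  classical
  obtain ⟨g, hg⟩ := isConj_iff.1 hx
  obtain ⟨t, ⟨j, hj⟩, ht⟩ := exists_two_elt_inverting x g hg
  refine ⟨⟨t, ⟨j, hj⟩, ht⟩, ?_, ?_⟩
  · intro hodd
    rw [← card_orbit_eq_index] at hodd
    -- inversion acts on the class of x
    have hmem : ∀ y : G, y ∈ MulAction.orbit (ConjAct G) x → y⁻¹ ∈ MulAction.orbit (ConjAct G) x := by
      intro y hy
      rw [ConjAct.mem_orbit_conjAct] at hy ⊢
      obtain ⟨c, hc⟩ := isConj_iff.1 hy
      -- c * y * c⁻¹ = x
      rw [isConj_iff]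
      refine ⟨g⁻¹ * c, ?_⟩
      have h1 : c * y⁻¹ * c⁻¹ = x⁻¹ := by
        rw [← hc]; group
      have h2 : g⁻¹ * x⁻¹ * g = x := by
        rw [← hg]; group
      calc g⁻¹ * c * y⁻¹ * (g⁻¹ * c)⁻¹ = g⁻¹ * (c * y⁻¹ * c⁻¹) * g := by group
        _ = x := by rw [h1, h2]
    let f : MulAction.orbit (ConjAct G) x → MulAction.orbit (ConjAct G) x :=
      fun y => ⟨(y : G)⁻¹, hmem y y.2⟩
    have hf : Function.Involutive f := by
      intro y
      apply Subtype.ext
      simp [f]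
    let σ : Equiv.Perm (MulAction.orbit (ConjAct G) x) := hf.toPerm f
    have hσ : σ ^ 2 ^ 1 = 1 := by
      ext y
      simp [σ, pow_two, f]
    haveI : Fintype (MulAction.orbit (ConjAct G) x) := Fintype.ofFinite _
    have hcard : ¬ 2 ∣ Fintype.card (MulAction.orbit (ConjAct G) x) := by
      rw [← Nat.card_eq_fintype_card]
      intro h2
      exact (Nat.not_even_iff_odd.2 hodd) (even_iff_two_dvd.2 h2)
    haveI : Fact (Nat.Prime 2) := ⟨Nat.prime_two⟩
    obtain ⟨y, hy⟩ := Equiv.Perm.exists_fixed_point_of_prime hcard hσ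
    have hy' : (y : G)⁻¹ = (y : G) := congrArg Subtype.val hy
    have hyo := y.2
    rw [ConjAct.mem_orbit_conjAct] at hyo
    obtain ⟨c, hc⟩ := isConj_iff.1 hyo
    have h3 : x⁻¹ = x := by
      rw [← hc]
      have : (c * (y : G) * c⁻¹)⁻¹ = c * (y : G)⁻¹ * c⁻¹ := by group
      rw [this, hy']
    rw [pow_two]
    calc x * x = x⁻¹ * x := by rw [h3]
      _ = 1 := inv_mul_cancel x
  · intro N _ hodd
    have hoddc : Odd (Nat.card (G ⧸ N)) := hodd
    have htN : t ∈ N := by
      have h1 : ((t : G) : G ⧸ N) ^ (2 ^ j) = 1 := by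
        rw [← QuotientGroup.mk_pow, ← hj, pow_orderOf_eq_one]; rfl
      have h2 := eq_one_of_pow_two_pow_of_odd hoddc _ j h1
      exact (QuotientGroup.eq_one_iff t).1 h2
    have hxN : x ∈ N := by
      have h1 : ((x : G) : G ⧸ N) ^ (2 ^ 1) = 1 := by
        have h3 : ((t * x * t⁻¹ : G) : G ⧸ N) = ((x⁻¹ : G) : G ⧸ N) := by rw [ht]
        have h4 : ((t : G) : G ⧸ N) = 1 := (QuotientGroup.eq_one_iff t).2 htN
        rw [QuotientGroup.mk_mul, QuotientGroup.mk_mul, QuotientGroup.mk_inv, h4] at h3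
        simp only [one_mul, inv_one, mul_one] at h3
        rw [pow_one, pow_two]
        nth_rewrite 1 [h3]
        rw [QuotientGroup.mk_inv, inv_mul_cancel]
      have h2 := eq_one_of_pow_two_pow_of_odd hoddc _ 1 h1
      exact (QuotientGroup.eq_one_iff x).1 h2
    refine ⟨hxN, ?_⟩
    rw [isConj_iff]
    refine ⟨⟨t, htN⟩, ?_⟩
    apply Subtype.ext
    simpa using ht

end Cfsg.Agent.S3863
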