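import Mathlib
import Cfsg.Statements.S3861
import Cfsg.Agent.S3863

set_option autoImplicit false
open Cfsg

namespace Cfsg.Agent.S3861

universe u

/-- no nontrivial real element of odd order -/
def NoRealOdd (G : Type*) [Group G] : Prop :=
  ∀ x : G, x ≠ 1 → Odd (orderOf x) → ¬ IsConj x x⁻¹

theorem NoRealOdd.subgroup {G : Type*} [Group G] (hG : NoRealOdd G) (H : Subgroup G) : NoRealOdd H := by
  intro x hx hodd hconj
  apply hG (x : G)
  · intro h
    apply hx
    exact Subtype.ext h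
  · rwa [Subgroup.orderOf_coe]
  · obtain ⟨c, hc⟩ := isConj_iff.1 hconj
    rw [isConj_iff]
    refine ⟨(c : G), ?_⟩
    have := congrArg Subtype.val hc
    simpa using this

/-- a 2-power-torsion element of odd order is trivial -/
theorem eq_one_of_odd_of_pow {G : Type*} [Group G] (x : G) (hodd : Odd (orderOf x)) (k : ℕ)
    (h : x ^ (2 ^ k) = 1) : x = 1 := by
  have h1 : orderOf x ∣ 2 ^ k := orderOf_dvd_of_pow_eq_one h
  have hcop : Nat.Coprime (2 ^ k) (orderOf x) :=
    Nat.Coprime.pow_left k (Nat.coprime_two_left.2 hodd)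
  have : orderOf x = 1 := Nat.eq_one_of_dvd_coprimes hcop h1 dvd_rfl
  exact orderOf_eq_one_iff.1 this

/-- two involutions generate a 2-group when there are no real elements of odd order -/
theorem isPGroup_closure_pair {G : Type*} [Group G] [Finite G] (hG : NoRealOdd G) (s t : G)
    (hs : s ^ 2 = 1) (ht : t ^ 2 = 1) : IsPGroup 2 (Subgroup.closure ({s, t} : Set G)) := by
  have hs' : s⁻¹ = s := by
    rw [inv_eq_iff_mul_eq_one, ← pow_two, hs]
  have ht' : t⁻¹ = t := by
    rw [inv_eq_iff_mul_eq_one, ← pow_two, ht]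
  set x := s * t with hx
  have hinv : s * x * s⁻¹ = x⁻¹ := by
    rw [hx, mul_inv_rev, ht', hs']
    have : s * (s * t) * s = (s * s) * t * s := by group
    rw [this, ← pow_two, hs, one_mul]
  have hpos : orderOf x ≠ 0 := (isOfFinOrder_of_finite x).orderOf_pos.ne'
  obtain ⟨k, m, hm, hkm⟩ := Nat.exists_eq_two_pow_mul_odd hpos
  -- x^(2^k) has odd order and is real
  have hxk : x ^ (2 ^ k) = 1 := by
    by_contra hne
    apply hG (x ^ (2 ^ k)) hne
    · have h1 : (x ^ (2 ^ k)) ^ m = 1 := by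
        rw [← pow_mul, ← hkm, pow_orderOf_eq_one]
      have h2 : orderOf (x ^ (2 ^ k)) ∣ m := orderOf_dvd_of_pow_eq_one h1
      exact Odd.of_dvd_nat hm h2
    · rw [isConj_iff]
      refine ⟨s, ?_⟩
      rw [← conj_pow, hinv, inv_pow]
  have hZ : IsPGroup 2 (Subgroup.zpowers x) := by
    rintro ⟨z, hz⟩
    obtain ⟨n, rfl⟩ := Subgroup.mem_zpowers_iff.1 hz
    refine ⟨k, ?_⟩
    apply Subtype.ext
    simp only [Subgroup.coe_pow, Subgroup.coe_one]
    rw [← zpow_natCast, ← zpow_mul, mul_comm, zpow_mul, zpow_natCast, hxk, one_zpow]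
  have hS : IsPGroup 2 (Subgroup.zpowers s) := by
    rintro ⟨z, hz⟩
    obtain ⟨n, rfl⟩ := Subgroup.mem_zpowers_iff.1 hz
    refine ⟨1, ?_⟩
    apply Subtype.ext
    simp only [Subgroup.coe_pow, Subgroup.coe_one]
    rw [← zpow_natCast, ← zpow_mul, mul_comm, zpow_mul, zpow_natCast, pow_one, hs, one_zpow]
  have hconjn : ∀ n : ℤ, s * x ^ n * s⁻¹ = (x⁻¹) ^ n := by
    intro n
    rw [← hinv, conj_zpow]
  have hnorm : Subgroup.zpowers s ≤ Subgroup.normalizer (Subgroup.zpowers x : Set G) := by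
    rw [Subgroup.zpowers_le]
    rw [Subgroup.mem_normalizer_iff]
    intro h
    constructor
    · intro hh
      obtain ⟨n, rfl⟩ := Subgroup.mem_zpowers_iff.1 hh
      rw [hconjn]
      exact Subgroup.zpow_mem _ (Subgroup.inv_mem _ (Subgroup.mem_zpowers x)) n
    · intro hh
      obtain ⟨n, hn⟩ := Subgroup.mem_zpowers_iff.1 hh
      have h1 : h = s * (x ^ n) * s⁻¹ := by
        rw [hn]
        have h0 : h = s⁻¹ * (s * h * s⁻¹) * s := by group
        rw [hs'] at h0 ⊢
        exact h0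
      rw [h1, hconjn]
      exact Subgroup.zpow_mem _ (Subgroup.inv_mem _ (Subgroup.mem_zpowers x)) n
  have hsup : IsPGroup 2 (Subgroup.zpowers s ⊔ Subgroup.zpowers x : Subgroup G) :=
    hS.to_sup_of_normal_right' hZ hnorm
  apply hsup.to_le
  rw [Subgroup.closure_le]
  intro z hz
  rcases hz with rfl | rfl
  · exact (le_sup_left : Subgroup.zpowers z ≤ _) (Subgroup.mem_zpowers z)
  · have : z = s⁻¹ * x := by rw [hx]; group
    rw [this]
    exact Subgroup.mul_mem _
      (Subgroup.inv_mem _ ((le_sup_left : Subgroup.zpowers s ≤ _) (Subgroup.mem_zpowers s)))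
      ((le_sup_right : Subgroup.zpowers x ≤ _) (Subgroup.mem_zpowers x))

/-- normalizers grow in 2-groups -/
theorem exists_normalizer_not_mem {G : Type*} [Group G] [Finite G] (P : Subgroup G) (hP : IsPGroup 2 P)
    (I : Subgroup G) (hIP : I ≤ P) (hne : I ≠ P) :
    ∃ y, y ∈ P ∧ y ∈ Subgroup.normalizer (I : Set G) ∧ y ∉ I := by
  haveI : Fact (Nat.Prime 2) := ⟨Nat.prime_two⟩
  haveI : Group.IsNilpotent P := hP.isNilpotent
  have hnc : NormalizerCondition P := Group.normalizerCondition_of_isNilpotent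
  have hlt : I.subgroupOf P < ⊤ := by
    rw [lt_top_iff_ne_top]
    intro h
    rw [Subgroup.subgroupOf_eq_top] at h
    exact hne (le_antisymm hIP h)
  have h2 := hnc _ hlt
  obtain ⟨y', hy', hy'n⟩ := SetLike.exists_of_lt h2
  rw [← Subgroup.subgroupOf_normalizer_eq hIP] at hy'
  exact ⟨(y' : G), y'.2, Subgroup.mem_subgroupOf.1 hy', fun h => hy'n (Subgroup.mem_subgroupOf.2 h)⟩

/-- lifting: quotients by normal 2-subgroups inherit the absence of real elements of odd order -/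
theorem NoRealOdd.quotient {G : Type*} [Group G] [Finite G] (hG : NoRealOdd G) (I : Subgroup G) [I.Normal]
    (hI : IsPGroup 2 I) : NoRealOdd (G ⧸ I) := by
  classical
  intro xb hx1 hodd hconj
  -- prime order reduction
  have hord1 : orderOf xb ≠ 1 := fun h => hx1 (orderOf_eq_one_iff.1 h)
  obtain ⟨q, hq, hqdvd⟩ := Nat.exists_prime_and_dvd hord1
  haveI : Fact q.Prime := ⟨hq⟩
  have hqodd : Odd q := Odd.of_dvd_nat hodd hqdvd
  have hq2 : q ≠ 2 := fun h => by rw [h] at hqodd; exact absurd hqodd (by decide)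
  set yb := xb ^ (orderOf xb / q) with hyb
  have hyb_ord : orderOf yb = q :=
    orderOf_pow_orderOf_div (isOfFinOrder_of_finite xb).orderOf_pos.ne' hqdvd
  obtain ⟨gb, hgb⟩ := isConj_iff.1 hconj
  have hgyb : gb * yb * gb⁻¹ = yb⁻¹ := by rw [hyb, ← conj_pow, hgb, inv_pow]
  have hgyb' : gb⁻¹ * yb * gb = yb⁻¹ := by
    have h1 : gb⁻¹ * (gb * yb * gb⁻¹) * gb = yb := by group
    rw [hgyb] at h1
    have h2 : gb⁻¹ * yb * gb = (gb⁻¹ * yb⁻¹ * gb)⁻¹ := by group
    rw [h2, h1]
  obtain ⟨g, rfl⟩ := QuotientGroup.mk_surjective gb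
  -- conjugation by `g` and `g⁻¹` preserves powers of `yb`
  have hzp : ∀ n : ℤ, (g : G ⧸ I) * yb ^ n * (g : G ⧸ I)⁻¹ = (yb ^ n)⁻¹ := by
    intro n
    rw [← conj_zpow, hgyb, inv_zpow]
  have hzp' : ∀ n : ℤ, (g : G ⧸ I)⁻¹ * yb ^ n * (g : G ⧸ I) = (yb ^ n)⁻¹ := by
    intro n
    have := conj_zpow (a := (g : G ⧸ I)⁻¹) (b := yb) (i := n)
    rw [inv_inv] at this
    rw [← this, hgyb', inv_zpow]
  -- the subgroup H
  let H : Subgroup G := (Subgroup.zpowers yb).comap (QuotientGroup.mk' I)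
  have hmemH : ∀ a : G, a ∈ H ↔ (a : G ⧸ I) ∈ Subgroup.zpowers yb := fun a => Iff.rfl
  have hconjH : ∀ a : G, a ∈ H → g * a * g⁻¹ ∈ H := by
    intro a ha
    rw [hmemH] at ha ⊢
    obtain ⟨n, hn⟩ := Subgroup.mem_zpowers_iff.1 ha
    rw [QuotientGroup.mk_mul, QuotientGroup.mk_mul, QuotientGroup.mk_inv, ← hn, hzp]
    exact Subgroup.inv_mem _ (Subgroup.zpow_mem _ (Subgroup.mem_zpowers yb) n)
  have hconjH' : ∀ a : G, a ∈ H → g⁻¹ * a * g ∈ H := by
    intro a ha
    rw [hmemH] at ha ⊢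
    obtain ⟨n, hn⟩ := Subgroup.mem_zpowers_iff.1 ha
    rw [QuotientGroup.mk_mul, QuotientGroup.mk_mul, QuotientGroup.mk_inv, ← hn, hzp']
    exact Subgroup.inv_mem _ (Subgroup.zpow_mem _ (Subgroup.mem_zpowers yb) n)
  -- the automorphism of H induced by g
  let φ : MulAut H :=
    { toFun := fun a => ⟨g * a * g⁻¹, hconjH a a.2⟩
      invFun := fun a => ⟨g⁻¹ * a * g, hconjH' a a.2⟩
      left_inv := by intro a; apply Subtype.ext; simp [mul_assoc]
      right_inv := by intro a; apply Subtype.ext; simp [mul_assoc]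
      map_mul' := by intro a b; apply Subtype.ext; simp [mul_assoc] }
  have hφ : ∀ a : H, ((φ a : H) : G) = g * a * g⁻¹ := fun a => rfl
  -- q divides |H|
  obtain ⟨y₀, hy₀⟩ := QuotientGroup.mk_surjective yb
  have hy₀H : y₀ ∈ H := by
    rw [hmemH, hy₀]; exact Subgroup.mem_zpowers yb
  have hqH : q ∣ Nat.card H := by
    have h1 : orderOf yb ∣ orderOf y₀ := by
      rw [← hy₀]; exact orderOf_map_dvd (QuotientGroup.mk' I) y₀
    have h2 : orderOf (⟨y₀, hy₀H⟩ : H) ∣ Nat.card H := orderOf_dvd_natCard _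
    rw [← Subgroup.orderOf_coe] at h2
    rw [hyb_ord] at h1
    exact h1.trans h2
  -- an element of order q in H, inside a Sylow q-subgroup S of H
  obtain ⟨y', hy'⟩ := exists_prime_orderOf_dvd_card' (G := H) q hqH
  have hZq : IsPGroup q (Subgroup.zpowers y') := by
    rintro ⟨z, hz⟩
    obtain ⟨n, rfl⟩ := Subgroup.mem_zpowers_iff.1 hz
    refine ⟨1, ?_⟩
    apply Subtype.ext
    simp only [Subgroup.coe_pow, Subgroup.coe_one]
    rw [← zpow_natCast, ← zpow_mul, mul_comm, zpow_mul, zpow_natCast, pow_one, ← hy', pow_orderOf_eq_one,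
      one_zpow]
  obtain ⟨S, hS⟩ := hZq.exists_le_sylow
  have hy'S : y' ∈ (S : Subgroup H) := hS (Subgroup.mem_zpowers y')
  -- Sylow conjugacy in H
  obtain ⟨h, hh⟩ := MulAction.exists_smul_eq H (φ • S) S
  have hw : h * φ y' * h⁻¹ ∈ (S : Subgroup H) := by
    have h1 : φ y' ∈ ((φ • S : Sylow q H) : Subgroup H) := by
      rw [Sylow.pointwise_smul_def]
      have := Subgroup.smul_mem_pointwise_smul y' φ (S : Subgroup H) hy'S
      simpa [MulAut.smul_def] using this
    have h2 : h * φ y' * h⁻¹ ∈ ((h • (φ • S) : Sylow q H) : Subgroup H) := by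
      rw [Sylow.coe_subgroup_smul]
      have := Subgroup.smul_mem_pointwise_smul (φ y') (MulAut.conj h) ((φ • S : Sylow q H) : Subgroup H) h1
      simpa [MulAut.smul_def] using this
    rw [hh] at h2
    exact h2
  have hz : h * φ y' * h⁻¹ * y' ∈ (S : Subgroup H) := Subgroup.mul_mem _ hw hy'S
  -- the image of this element in G lies in I
  have hzI : (((h * φ y' * h⁻¹ * y' : H) : G)) ∈ I := by
    rw [← QuotientGroup.eq_one_iff]
    obtain ⟨a, ha⟩ := Subgroup.mem_zpowers_iff.1 ((hmemH _).1 y'.2)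
    obtain ⟨b, hb⟩ := Subgroup.mem_zpowers_iff.1 ((hmemH _).1 h.2)
    simp only [Subgroup.coe_mul, Subgroup.coe_inv, hφ, QuotientGroup.mk_mul, QuotientGroup.mk_inv]
    rw [← ha, ← hb, hzp]
    have hc : Commute (yb ^ b) (yb ^ a) := Commute.zpow_zpow_self yb b a
    have hc' : Commute (yb ^ b) ((yb ^ a)⁻¹) := hc.inv_right
    rw [hc'.eq, mul_assoc (yb ^ a)⁻¹, mul_inv_cancel, mul_one, inv_mul_cancel]
  -- hence it is trivial
  have hz1 : (((h * φ y' * h⁻¹ * y' : H) : G)) = 1 := by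
    obtain ⟨k, hk⟩ := S.isPGroup' ⟨_, hz⟩
    obtain ⟨j, hj⟩ := hI ⟨_, hzI⟩
    have hk' : (((h * φ y' * h⁻¹ * y' : H) : G)) ^ (q ^ k) = 1 := by
      have := congrArg (fun w : (S : Subgroup H) => ((w : H) : G)) hk
      simpa using this
    have hj' : (((h * φ y' * h⁻¹ * y' : H) : G)) ^ (2 ^ j) = 1 := by
      have := congrArg (fun w : I => (w : G)) hj
      simpa using this
    have h1 := orderOf_dvd_of_pow_eq_one hk'
    have h2 := orderOf_dvd_of_pow_eq_one hj'
    have hcop : Nat.Coprime (q ^ k) (2 ^ j) :=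
      Nat.Coprime.pow _ _ ((Nat.coprime_primes hq Nat.prime_two).2 hq2)
    exact orderOf_eq_one_iff.1 (Nat.eq_one_of_dvd_coprimes hcop h1 h2)
  -- so y is real in G
  have hyord : orderOf (y' : G) = q := by rw [Subgroup.orderOf_coe, hy']
  apply hG (y' : G)
  · intro h1
    rw [h1, orderOf_one] at hyord
    exact hq.one_lt.ne hyord
  · rw [hyord]; exact hqodd
  · rw [isConj_iff]
    refine ⟨(h : G) * g, ?_⟩
    simp only [Subgroup.coe_mul, Subgroup.coe_inv, hφ] at hz1
    rw [eq_inv_iff_mul_eq_one, ← hz1]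
    group

/-- main induction: no real elements of odd order forces a unique Sylow 2-subgroup -/
theorem sylow_two_unique : ∀ (n : ℕ) (G : Type u) [Group G] [Finite G], Nat.card G = n → NoRealOdd G →
    ∀ P Q : Sylow 2 G, P = Q := by
  intro n
  induction n using Nat.strong_induction_on with
  | _ n ih =>
  intro G _ _ hn hG
  classical
  haveI : Fact (Nat.Prime 2) := ⟨Nat.prime_two⟩
  by_contra hcon
  simp only [not_forall] at hcon
  obtain ⟨P₀, Q₀, hPQ₀⟩ := hcon
  -- choose a pair of distinct Sylow subgroups with maximal intersection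
  let T : Set (Sylow 2 G × Sylow 2 G) := {pq | pq.1 ≠ pq.2}
  obtain ⟨⟨P, Q⟩, hPQ, hmax⟩ := Set.exists_max_image T
    (fun pq => Nat.card (((pq.1 : Subgroup G) ⊓ (pq.2 : Subgroup G) : Subgroup G))) (Set.toFinite T)
    ⟨(P₀, Q₀), hPQ₀⟩
  have hPQ' : P ≠ Q := hPQ
  set I : Subgroup G := (P : Subgroup G) ⊓ (Q : Subgroup G) with hI
  have hIP : I ≤ (P : Subgroup G) := inf_le_left
  have hIQ : I ≤ (Q : Subgroup G) := inf_le_right
  -- key: a Sylow subgroup meeting P (resp. Q) in more than I equals P (resp. Q)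
  have keyP : ∀ R : Sylow 2 G, I ≤ (R : Subgroup G) →
      (∃ y, y ∈ (R : Subgroup G) ∧ y ∈ (P : Subgroup G) ∧ y ∉ I) → R = P := by
    intro R hIR ⟨y, hyR, hyP, hyI⟩
    by_contra hRP
    have h1 : Nat.card (((R : Subgroup G) ⊓ (P : Subgroup G) : Subgroup G)) ≤ Nat.card I :=
      hmax (R, P) hRP
    have h2 : I ≤ (R : Subgroup G) ⊓ (P : Subgroup G) := le_inf hIR hIP
    have h3 : I = (R : Subgroup G) ⊓ (P : Subgroup G) := Subgroup.eq_of_le_of_card_ge h2 h1
    apply hyI
    rw [h3]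
    exact ⟨hyR, hyP⟩
  have keyQ : ∀ R : Sylow 2 G, I ≤ (R : Subgroup G) →
      (∃ y, y ∈ (R : Subgroup G) ∧ y ∈ (Q : Subgroup G) ∧ y ∉ I) → R = Q := by
    intro R hIR ⟨y, hyR, hyQ, hyI⟩
    by_contra hRQ
    have h1 : Nat.card (((R : Subgroup G) ⊓ (Q : Subgroup G) : Subgroup G)) ≤ Nat.card I :=
      hmax (R, Q) hRQ
    have h2 : I ≤ (R : Subgroup G) ⊓ (Q : Subgroup G) := le_inf hIR hIQ
    have h3 : I = (R : Subgroup G) ⊓ (Q : Subgroup G) := Subgroup.eq_of_le_of_card_ge h2 h1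
    apply hyI
    rw [h3]
    exact ⟨hyR, hyQ⟩
  have hcardPQ : Nat.card (P : Subgroup G) = Nat.card (Q : Subgroup G) := by
    rw [Sylow.card_eq_multiplicity, Sylow.card_eq_multiplicity]
  have hIneP : I ≠ (P : Subgroup G) := by
    intro h
    have hle : (P : Subgroup G) ≤ (Q : Subgroup G) := h ▸ hIQ
    have := Subgroup.eq_of_le_of_card_ge hle (le_of_eq hcardPQ.symm)
    exact hPQ' (Sylow.ext this)
  have hIneQ : I ≠ (Q : Subgroup G) := by
    intro h
    have hle : (Q : Subgroup G) ≤ (P : Subgroup G) := h ▸ hIP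
    have := Subgroup.eq_of_le_of_card_ge hle (le_of_eq hcardPQ)
    exact hPQ' (Sylow.ext this.symm)
  by_cases hIbot : I = ⊥
  · -- Sylow 2-subgroups intersect trivially: use involutions
    have hPbot : (P : Subgroup G) ≠ ⊥ := fun h => hIneP (by rw [hIbot, h])
    have hQbot : (Q : Subgroup G) ≠ ⊥ := fun h => hIneQ (by rw [hIbot, h])
    have hinvol : ∀ R : Sylow 2 G, (R : Subgroup G) ≠ ⊥ → ∃ s : G, s ∈ (R : Subgroup G) ∧ s ≠ 1 ∧ s ^ 2 = 1 := by
      intro R hR
      have hnt : Nontrivial (R : Subgroup G) := (Subgroup.nontrivial_iff_ne_bot _).2 hR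
      obtain ⟨k, hk0, hk⟩ := (R.isPGroup').nontrivial_iff_card.1 hnt
      have h2 : 2 ∣ Nat.card (R : Subgroup G) := by
        rw [hk]; exact dvd_pow_self 2 (Nat.pos_iff_ne_zero.1 hk0)
      obtain ⟨s', hs'⟩ := exists_prime_orderOf_dvd_card' (G := (R : Subgroup G)) 2 h2
      refine ⟨(s' : G), s'.2, ?_, ?_⟩
      · intro h1
        have : orderOf (s' : G) = 2 := by rw [Subgroup.orderOf_coe, hs']
        rw [h1, orderOf_one] at this
        omega
      · have : orderOf (s' : G) = 2 := by rw [Subgroup.orderOf_coe, hs']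
        have h := pow_orderOf_eq_one (s' : G)
        rw [this] at h
        exact h
    obtain ⟨s, hsP, hs1, hs2⟩ := hinvol P hPbot
    obtain ⟨t, htQ, ht1, ht2⟩ := hinvol Q hQbot
    have hcl := isPGroup_closure_pair hG s t hs2 ht2
    obtain ⟨R, hR⟩ := hcl.exists_le_sylow
    have hsR : s ∈ (R : Subgroup G) := hR (Subgroup.subset_closure (by simp))
    have htR : t ∈ (R : Subgroup G) := hR (Subgroup.subset_closure (by simp))
    have hIR : I ≤ (R : Subgroup G) := by rw [hIbot]; exact bot_le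
    have h1 : R = P := keyP R hIR ⟨s, hsR, hsP, by rw [hIbot, Subgroup.mem_bot]; exact hs1⟩
    have h2 : R = Q := keyQ R hIR ⟨t, htR, htQ, by rw [hIbot, Subgroup.mem_bot]; exact ht1⟩
    exact hPQ' (h1.symm.trans h2)
  · -- I ≠ ⊥
    have hI2 : IsPGroup 2 I := P.isPGroup'.to_le hIP
    by_cases hNtop : Subgroup.normalizer (I : Set G) = ⊤
    · -- I is normal: pass to the quotient
      haveI hIn : I.Normal := Subgroup.normalizer_eq_top_iff.1 hNtop
      have hcard : Nat.card (G ⧸ I) < n := by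
        rw [← hn, ← Subgroup.card_mul_index I]
        have h1 : 1 < Nat.card I := by
          rw [Finite.one_lt_card_iff_nontrivial]
          exact (Subgroup.nontrivial_iff_ne_bot _).2 hIbot
        have h2 : 0 < I.index := Nat.pos_of_ne_zero (Subgroup.index_ne_zero_of_finite)
        have h3 : Nat.card (G ⧸ I) = I.index := rfl
        rw [h3]
        nlinarith
      have hquot := ih _ hcard (G ⧸ I) rfl (hG.quotient I hI2)
      have hsurj : Function.Surjective (QuotientGroup.mk' I) := QuotientGroup.mk'_surjective I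
      have h1 := hquot (P.mapSurjective hsurj) (Q.mapSurjective hsurj)
      have h2 : (P : Subgroup G).map (QuotientGroup.mk' I) = (Q : Subgroup G).map (QuotientGroup.mk' I) := by
        have := congrArg (fun S : Sylow 2 (G ⧸ I) => (S : Subgroup (G ⧸ I))) h1
        simpa using this
      have h3 := congrArg (Subgroup.comap (QuotientGroup.mk' I)) h2
      rw [Subgroup.comap_map_eq, Subgroup.comap_map_eq, QuotientGroup.ker_mk', sup_eq_left.2 hIP,
        sup_eq_left.2 hIQ] at h3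
      exact hPQ' (Sylow.ext h3)
    · -- N = N_G(I) is a proper subgroup
      set N : Subgroup G := Subgroup.normalizer (I : Set G) with hN
      have hIN : I ≤ N := Subgroup.le_normalizer
      have hcard : Nat.card N < n := by
        rw [← hn]
        have h1 : Nat.card N ≤ Nat.card G := Subgroup.card_le_card_group N
        have h2 : Nat.card N ≠ Nat.card G := fun h => hNtop (Subgroup.eq_top_of_card_eq N h)
        omega
      have hsub := ih _ hcard N rfl (hG.subgroup N)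
      obtain ⟨y₁, hy₁P, hy₁N, hy₁I⟩ := exists_normalizer_not_mem (P : Subgroup G) P.isPGroup' I hIP hIneP
      obtain ⟨y₂, hy₂Q, hy₂N, hy₂I⟩ := exists_normalizer_not_mem (Q : Subgroup G) Q.isPGroup' I hIQ hIneQ
      have hA₁ : IsPGroup 2 (((P : Subgroup G).subgroupOf N : Subgroup N)) :=
        P.isPGroup'.comap_of_injective N.subtype N.subtype_injective
      have hA₂ : IsPGroup 2 (((Q : Subgroup G).subgroupOf N : Subgroup N)) :=
        Q.isPGroup'.comap_of_injective N.subtype N.subtype_injective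
      obtain ⟨S₁, hS₁⟩ := hA₁.exists_le_sylow
      obtain ⟨S₂, hS₂⟩ := hA₂.exists_le_sylow
      have hS : S₁ = S₂ := hsub S₁ S₂
      have hR₀ : IsPGroup 2 ((S₁ : Subgroup N).map N.subtype) := S₁.isPGroup'.map N.subtype
      obtain ⟨R, hR⟩ := hR₀.exists_le_sylow
      have hmemR₁ : ∀ y : G, y ∈ (P : Subgroup G) → y ∈ N → y ∈ (R : Subgroup G) := by
        intro y hyP hyN
        apply hR
        exact ⟨⟨y, hyN⟩, hS₁ (Subgroup.mem_subgroupOf.2 hyP), rfl⟩
      have hmemR₂ : ∀ y : G, y ∈ (Q : Subgroup G) → y ∈ N → y ∈ (R : Subgroup G) := by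
        intro y hyQ hyN
        apply hR
        refine ⟨⟨y, hyN⟩, ?_, rfl⟩
        rw [hS]
        exact hS₂ (Subgroup.mem_subgroupOf.2 hyQ)
      have hIR : I ≤ (R : Subgroup G) := fun i hi => hmemR₁ i (hIP hi) (hIN hi)
      have h1 : R = P := keyP R hIR ⟨y₁, hmemR₁ y₁ hy₁P hy₁N, hy₁P, hy₁I⟩
      have h2 : R = Q := keyQ R hIR ⟨y₂, hmemR₂ y₂ hy₂Q hy₂N, hy₂Q, hy₂I⟩
      exact hPQ' (h1.symm.trans h2)

/-- A finite group G has no non-identity element of odd order that is conjugate to its inverse if and only if the Sylow 2-subgroups of G are normal. -/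
theorem result {G : Type*} [Group G] [Finite G] (P : Sylow 2 G) : (∀ x : G, x ≠ 1 → Odd (orderOf x) → ¬ IsConj x x⁻¹) ↔ (P : Subgroup G).Normal := by
  haveI : Fact (Nat.Prime 2) := ⟨Nat.prime_two⟩
  constructor
  · intro hG
    haveI : Subsingleton (Sylow 2 G) := ⟨sylow_two_unique _ G rfl hG⟩
    exact Sylow.normal_of_subsingleton P
  · intro hP x hx1 hodd hconj
    obtain ⟨g, hg⟩ := isConj_iff.1 hconj
    obtain ⟨t, ⟨j, hj⟩, ht⟩ := Cfsg.Agent.S3863.exists_two_elt_inverting x g hg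
    -- t lies in P
    have hZ : IsPGroup 2 (Subgroup.zpowers t) := by
      rintro ⟨z, hz⟩
      obtain ⟨n, rfl⟩ := Subgroup.mem_zpowers_iff.1 hz
      refine ⟨j, ?_⟩
      apply Subtype.ext
      simp only [Subgroup.coe_pow, Subgroup.coe_one]
      rw [← zpow_natCast, ← zpow_mul, mul_comm, zpow_mul, zpow_natCast, ← hj, pow_orderOf_eq_one, one_zpow]
    obtain ⟨Q, hQ⟩ := hZ.exists_le_sylow
    have hQP : Q = P := by
      obtain ⟨c, rfl⟩ := MulAction.exists_smul_eq G P Q
      exact Sylow.smul_eq_of_normal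
    have htP : t ∈ (P : Subgroup G) := by
      rw [← hQP]; exact hQ (Subgroup.mem_zpowers t)
    -- x⁻¹ * x⁻¹ ∈ P
    have h1 : x⁻¹ * x⁻¹ ∈ (P : Subgroup G) := by
      have h2 : x * t⁻¹ * x⁻¹ ∈ (P : Subgroup G) := hP.conj_mem _ (Subgroup.inv_mem _ htP) x
      have h3 : x⁻¹ * x⁻¹ = t * (x * t⁻¹ * x⁻¹) := by
        rw [← ht]; group
      rw [h3]
      exact Subgroup.mul_mem _ htP h2
    obtain ⟨k, hk⟩ := P.isPGroup' ⟨_, h1⟩
    have hk' : (x⁻¹ * x⁻¹) ^ (2 ^ k) = 1 := by
      have := congrArg (fun w : (P : Subgroup G) => (w : G)) hk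
      simpa using this
    have hk'' : x ^ (2 ^ (k + 1)) = 1 := by
      have h4 : x⁻¹ * x⁻¹ = (x ^ 2)⁻¹ := by group
      rw [h4, inv_pow, inv_eq_one, ← pow_mul] at hk'
      rw [pow_succ, mul_comm]
      exact hk'
    exact hx1 (eq_one_of_odd_of_pow x hodd (k + 1) hk'')

end Cfsg.Agent.S3861
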