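import Mathlib
import Cfsg.Statements.S3862
import Cfsg.Agent.Lib.helper67.Frobenius

set_option autoImplicit false
open Cfsg

namespace Cfsg.Agent.S3862

/-- key step: an odd-order element normalizing a 2-subgroup centralizes it, when real 2-elements are central -/
theorem commute_of_real_central {G : Type*} [Group G] [Finite G]
    (h : ∀ x : G, (∃ j : ℕ, orderOf x = 2 ^ j) → IsConj x x⁻¹ → x ∈ Subgroup.center G)
    (Q : Subgroup G) (hQ : IsPGroup 2 Q) (a : G) (ha : a ∈ Subgroup.normalizer (Q : Set G))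
    (hcop : (orderOf a).Coprime 2) :
    ∀ (n : ℕ) (x : G), x ∈ Q → orderOf x = n → a * x = x * a := by
  intro n
  induction n using Nat.strong_induction_on with
  | _ n ih =>
  intro x hx hn
  by_cases hx1 : x = 1
  · rw [hx1]; simp
  -- x is a 2-element
  have h2elt : ∀ y : G, y ∈ Q → ∃ j : ℕ, orderOf y = 2 ^ j := by
    intro y hy
    obtain ⟨k, hk⟩ := hQ ⟨y, hy⟩
    have hk' : y ^ (2 ^ k) = 1 := by
      have := congrArg (fun w : Q => (w : G)) hk
      simpa using this
    obtain ⟨j, -, hj⟩ := (Nat.dvd_prime_pow Nat.prime_two).1 (orderOf_dvd_of_pow_eq_one hk')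
    exact ⟨j, hj⟩
  obtain ⟨i, hi⟩ := h2elt x hx
  have hi0 : i ≠ 0 := by
    intro h0
    rw [h0, pow_zero] at hi
    exact hx1 (orderOf_eq_one_iff.1 hi)
  -- order of x^2 is smaller
  have hx2Q : x ^ 2 ∈ Q := Subgroup.pow_mem _ hx 2
  have hord2 : orderOf (x ^ 2) < n := by
    rw [← hn]
    have hpos : 0 < orderOf x := (isOfFinOrder_of_finite x).orderOf_pos
    have h2dvd : 2 ∣ orderOf x := by
      rw [hi]; exact dvd_pow_self 2 hi0
    have : orderOf (x ^ 2) = orderOf x / 2 := by
      rw [orderOf_pow' x (by norm_num : (2:ℕ) ≠ 0), Nat.gcd_eq_right h2dvd]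
    rw [this]
    exact Nat.div_lt_self hpos (by norm_num)
  have hcomm2 : a * x ^ 2 = x ^ 2 * a := ih _ hord2 (x ^ 2) hx2Q rfl
  -- w = a x a⁻¹, u = x⁻¹ w
  have hwQ : a * x * a⁻¹ ∈ Q := (Subgroup.mem_normalizer_iff.1 ha x).1 hx
  set w := a * x * a⁻¹ with hw
  set u := x⁻¹ * w with hu
  have huQ : u ∈ Q := Subgroup.mul_mem _ (Subgroup.inv_mem _ hx) hwQ
  have hww : w * w = x * x := by
    have : w * w = a * x ^ 2 * a⁻¹ := by rw [hw, pow_two]; group
    rw [this, hcomm2, pow_two]; group
  have hreal : IsConj u u⁻¹ := by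
    rw [isConj_iff]
    refine ⟨x, ?_⟩
    have h1 : x * u * x⁻¹ = w * x⁻¹ := by rw [hu]; group
    have h2 : u⁻¹ = w⁻¹ * x := by rw [hu]; group
    have h3 : w * x⁻¹ = w⁻¹ * (w * w) * x⁻¹ := by group
    have h4 : w⁻¹ * x = w⁻¹ * (x * x) * x⁻¹ := by group
    rw [h1, h2, h3, h4, hww]
  have hucen : u ∈ Subgroup.center G := h u (h2elt u huQ) hreal
  have hucomm : ∀ z : G, z * u = u * z := fun z => (Subgroup.mem_center_iff.1 hucen z)
  have hwxu : a * x * a⁻¹ = x * u := by rw [hu, ← hw]; group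
  -- iterate
  have hiter : ∀ m : ℕ, a ^ m * x * (a ^ m)⁻¹ = x * u ^ m := by
    intro m
    induction m with
    | zero => simp
    | succ m ihm =>
      have hum : ∀ z : G, z * u ^ m = u ^ m * z := fun z => by
        have hc : Commute z u := hucomm z
        exact (hc.pow_right m).eq
      have : a ^ (m + 1) * x * (a ^ (m + 1))⁻¹ = a * (a ^ m * x * (a ^ m)⁻¹) * a⁻¹ := by
        rw [pow_succ']; group
      rw [this, ihm]
      have : a * (x * u ^ m) * a⁻¹ = (a * x * a⁻¹) * (a * u ^ m) * a⁻¹ := by group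
      rw [this, hwxu, hum a]
      rw [pow_succ']
      group
  have h5 := hiter (orderOf a)
  rw [pow_orderOf_eq_one] at h5
  have h6 : u ^ orderOf a = 1 := by
    have : x = x * u ^ orderOf a := by simpa using h5
    exact (mul_eq_left (a := x)).1 this.symm
  obtain ⟨j, hj⟩ := h2elt u huQ
  have h7 : orderOf u ∣ orderOf a := orderOf_dvd_of_pow_eq_one h6
  have h8 : orderOf u = 1 := by
    have hc : Nat.Coprime (orderOf u) (orderOf u) := by
      have : Nat.Coprime (orderOf a) (2 ^ j) := Nat.Coprime.pow_right j hcop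
      rw [← hj] at this
      exact Nat.Coprime.coprime_dvd_left h7 this
    exact (Nat.coprime_self _).1 hc
  have hu1 : u = 1 := orderOf_eq_one_iff.1 h8
  rw [hu1, mul_one] at hwxu
  calc a * x = (a * x * a⁻¹) * a := by group
    _ = x * a := by rw [hwxu]

open Cfsg.Agent.Lib.helper67 in
/-- If every 2-element of the finite group G that is conjugate to its inverse lies in the centre of G, then G has a normal 2-complement. -/
theorem result {G : Type*} [Group G] [Finite G] (h : ∀ x : G, (∃ j : ℕ, orderOf x = 2 ^ j) → IsConj x x⁻¹ → x ∈ Subgroup.center G) : Cfsg.HasNormalPComplement 2 G := by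
  haveI : Fact (Nat.Prime 2) := ⟨Nat.prime_two⟩
  have hF : FrobCond 2 G := by
    intro Q hQ a ha hcop
    rw [Subgroup.mem_centralizer_iff]
    intro x hx
    exact (commute_of_real_central h Q hQ a ha hcop _ x hx rfl).symm
  exact hF.hasNormalPComplement

end Cfsg.Agent.S3862
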