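import Cfsg.Statements.S3864
import Cfsg.Agent.S0111
import Cfsg.Agent.Lib.helper67.Frobenius
import Cfsg.Agent.Lib.helper1.SZ
import Mathlib

set_option autoImplicit false
open Cfsg

namespace Cfsg.Agent.S3864

open DihedralGroup

theorem zmod2_sub : ∀ x y : ZMod 2, x - y = x + y := by decide
theorem zmod2_add_self : ∀ x : ZMod 2, x + x = 0 := by decide

/-- the linear characters of a dihedral group with values in `ZMod 2` -/
def chi {m : ℕ} (c : ZMod m →+ ZMod 2) (a : ZMod 2) : DihedralGroup m →* Multiplicative (ZMod 2) where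
  toFun d := match d with
    | r i => Multiplicative.ofAdd (c i)
    | sr i => Multiplicative.ofAdd (c i + a)
  map_one' := by
    show Multiplicative.ofAdd (c 0) = 1
    simp
  map_mul' := by
    intro x y
    cases x with
    | r i =>
      cases y with
      | r j =>
        show Multiplicative.ofAdd (c (i + j)) = Multiplicative.ofAdd (c i + c j)
        rw [c.map_add]
      | sr j =>
        show Multiplicative.ofAdd (c (j - i) + a) = Multiplicative.ofAdd (c i + (c j + a))
        rw [c.map_sub, zmod2_sub]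
        congr 1
        abel
    | sr i =>
      cases y with
      | r j =>
        show Multiplicative.ofAdd (c (i + j) + a) = Multiplicative.ofAdd ((c i + a) + c j)
        rw [c.map_add]
        congr 1
        abel
      | sr j =>
        show Multiplicative.ofAdd (c (j - i)) = Multiplicative.ofAdd ((c i + a) + (c j + a))
        rw [c.map_sub, zmod2_sub]
        congr 1
        have := zmod2_add_self a
        calc c j + c i = c j + c i + (a + a) := by rw [this, add_zero]
          _ = c i + a + (c j + a) := by abel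

theorem chi_r {m : ℕ} (c : ZMod m →+ ZMod 2) (a : ZMod 2) (i : ZMod m) :
    chi c a (r i) = Multiplicative.ofAdd (c i) := rfl

theorem chi_sr {m : ℕ} (c : ZMod m →+ ZMod 2) (a : ZMod 2) (i : ZMod m) :
    chi c a (sr i) = Multiplicative.ofAdd (c i + a) := rfl


theorem conj_sr_even {m : ℕ} (j : ZMod m) : r j * sr (j + j) * (r j)⁻¹ = sr 0 := by
  simp [r_mul_sr, sr_mul_r, inv_r]

theorem conj_sr_odd {m : ℕ} (j : ZMod m) : r j * sr (j + j + 1) * (r j)⁻¹ = sr 1 := by
  simp [r_mul_sr, sr_mul_r, inv_r]
  abel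

theorem r_double {m : ℕ} (j : ZMod m) : r (j + j) = r j * r j := by simp [r_mul_r]

theorem r_double_comm {m : ℕ} (j : ZMod m) : r (j + j) = r j * sr 0 * (r j)⁻¹ * (sr 0)⁻¹ := by
  simp [r_mul_sr, sr_mul_r, inv_r, sr_mul_sr]

theorem sr_even {m : ℕ} (j : ZMod m) : sr (j + j) = sr 0 * (r j * r j) := by simp [r_mul_r, sr_mul_r]
theorem sr_odd {m : ℕ} (j : ZMod m) : sr (j + j + 1) = sr 1 * (r j * r j) := by
  simp [r_mul_r, sr_mul_r]; abel
theorem r_eq_sr_mul_sr {m : ℕ} (i : ZMod m) : r i = sr 0 * sr i := by simp [sr_mul_sr]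

theorem parity {m : ℕ} [NeZero m] (i : ZMod m) : ∃ j : ZMod m, i = j + j ∨ i = j + j + 1 := by
  rcases Nat.even_or_odd' i.val with ⟨q, hq | hq⟩
  · refine ⟨(q : ZMod m), Or.inl ?_⟩
    have := ZMod.natCast_zmod_val i
    rw [hq] at this
    rw [← this]; push_cast; ring
  · refine ⟨(q : ZMod m), Or.inr ?_⟩
    have := ZMod.natCast_zmod_val i
    rw [hq] at this
    rw [← this]; push_cast; ring


theorem mult_zmod2_cases : ∀ x y : Multiplicative (ZMod 2), x ≠ 1 → y = 1 ∨ y = x := by decide
theorem ofAdd_one_ne : Multiplicative.ofAdd (1 : ZMod 2) ≠ 1 := by decide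

theorem zmod_involution {k : ℕ} (hk : 0 < k) (i : ZMod (4 * k)) (h2 : i + i = 0) (h0 : i ≠ 0) :
    i = ((2 * k : ℕ) : ZMod (4 * k)) := by
  haveI : NeZero (4 * k) := ⟨by omega⟩
  have hv := ZMod.natCast_zmod_val i
  have h1 : ((i.val + i.val : ℕ) : ZMod (4 * k)) = 0 := by
    push_cast; rw [hv]; exact h2
  rw [ZMod.natCast_eq_zero_iff] at h1
  have hlt : i.val < 4 * k := ZMod.val_lt i
  have hne : i.val ≠ 0 := by
    intro h; apply h0; rw [← hv, h]; simp
  obtain ⟨q, hq⟩ := h1
  have hval : i.val = 2 * k := by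
    rcases q with _ | _ | q
    · omega
    · omega
    · exfalso
      have : 4 * k * 2 ≤ 4 * k * (q + 1 + 1) := Nat.mul_le_mul_left _ (by omega)
      omega
  rw [← hv, hval]

theorem card_le_two_of_forall {Q : Type*} (c₀ d₀ : Q) (h : ∀ q : Q, q = d₀ ∨ q = c₀) :
    Nat.card Q ≤ 2 := by
  have h1 : (Set.univ : Set Q) ⊆ {d₀, c₀} := by
    intro q _
    rcases h q with h | h <;> simp [h]
  have h2 : (Set.univ : Set Q).ncard ≤ ({d₀, c₀} : Set Q).ncard :=
    Set.ncard_le_ncard h1 (Set.toFinite _)
  rw [Set.ncard_univ] at h2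
  have h3 : ({d₀, c₀} : Set Q).ncard ≤ ({c₀} : Set Q).ncard + 1 := Set.ncard_insert_le d₀ {c₀}
  rw [Set.ncard_singleton] at h3
  omega

theorem card_three_cover {T : Type*} (a b c : T) (h : ∀ x : T, x = a ∨ x = b ∨ x = c) :
    (a = b → a = c → Nat.card T = 1) ∧ (a ≠ b → a ≠ c → b ≠ c → Nat.card T = 3) ∧
    (a = b → a ≠ c → Nat.card T = 2) ∧ (a ≠ b → a = c → Nat.card T = 2) ∧
    (a ≠ b → b = c → Nat.card T = 2) := by
  have huniv : (Set.univ : Set T) = {a, b, c} := by
    ext x
    simp only [Set.mem_univ, Set.mem_insert_iff, Set.mem_singleton_iff, true_iff]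
    exact h x
  have hcard : Nat.card T = ({a, b, c} : Set T).ncard := by rw [← huniv, Set.ncard_univ]
  refine ⟨?_, ?_, ?_, ?_, ?_⟩
  · intro hab hac; subst hab; subst hac; rw [hcard]; simp
  · intro hab hac hbc
    rw [hcard, Set.ncard_insert_of_notMem, Set.ncard_pair hbc]
    simp [hab, hac]
  · intro hab hac; subst hab; rw [hcard]; simp [Set.ncard_pair hac]
  · intro hab hac; subst hac
    have : ({a, b, a} : Set T) = {a, b} := by
      ext x; simp only [Set.mem_insert_iff, Set.mem_singleton_iff]; tauto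
    rw [hcard, this, Set.ncard_pair hab]
  · intro hab hbc; subst hbc; rw [hcard]; simp [Set.ncard_pair hab]

theorem main {G : Type*} [Group G] [Finite G] (P : Sylow 2 G) (k : ℕ) (hk : 0 < k)
    (e : ↥(P : Subgroup G) ≃* DihedralGroup (4 * k)) :
    (Nat.card {C : ConjClasses G // ∃ g : G, ConjClasses.mk g = C ∧ orderOf g = 2} = 1 ∧ ∀ N : Subgroup G, N.Normal → N.index ≠ 2) ∨ (Nat.card {C : ConjClasses G // ∃ g : G, ConjClasses.mk g = C ∧ orderOf g = 2} = 2 ∧ (∃ N : Subgroup G, N.Normal ∧ N.index = 2) ∧ ∀ N : Subgroup G, N.Normal → N.index ≠ 4) ∨ (Nat.card {C : ConjClasses G // ∃ g : G, ConjClasses.mk g = C ∧ orderOf g = 2} = 3 ∧ Cfsg.HasNormalPComplement 2 G) := by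
  classical
  haveI : Fact (Nat.Prime 2) := ⟨Nat.prime_two⟩
  haveI : NeZero (4 * k) := ⟨by omega⟩
  let φ : DihedralGroup (4 * k) →* G := (P : Subgroup G).subtype.comp e.symm.toMonoidHom
  have hφinj : Function.Injective φ := fun a b hab => e.symm.injective (Subtype.ext hab)
  have hφP : ∀ d, φ d ∈ (P : Subgroup G) := fun d => (e.symm d).2
  have hφsurj : ∀ x ∈ (P : Subgroup G), ∃ d, φ d = x := by
    intro x hx
    refine ⟨e ⟨x, hx⟩, ?_⟩
    show ((e.symm (e ⟨x, hx⟩) : ↥(P : Subgroup G)) : G) = x
    rw [e.symm_apply_apply]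
  have hφord : ∀ d, orderOf (φ d) = orderOf d := fun d => orderOf_injective φ hφinj d
  have hconjord : ∀ g x : G, orderOf (g * x * g⁻¹) = orderOf x := by
    intro g x
    have := orderOf_injective (MulAut.conj g).toMonoidHom (MulAut.conj g).injective x
    simpa using this
  set zz : ZMod (4 * k) := ((2 * k : ℕ) : ZMod (4 * k)) with hzz
  set hh : ZMod (4 * k) := ((k : ℕ) : ZMod (4 * k)) with hhh
  have hzz2 : zz = hh + hh := by rw [hzz, hhh]; push_cast; ring
  have hzz0 : zz ≠ 0 := by
    rw [hzz, Ne, ZMod.natCast_eq_zero_iff]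
    intro h
    have := Nat.le_of_dvd (by omega) h
    omega
  have hzzzz : zz + zz = 0 := by
    rw [hzz, ← Nat.cast_add]
    have : 2 * k + 2 * k = 4 * k := by ring
    rw [this, ZMod.natCast_self]
  set z : G := φ (r zz) with hz
  set s : G := φ (sr 0) with hs
  set t : G := φ (sr 1) with ht
  have hzord : orderOf z = 2 := by
    rw [hz, hφord]
    apply orderOf_eq_prime
    · rw [pow_two, r_mul_r, hzzzz, r_zero]
    · rw [one_def]; intro h; exact hzz0 (r.inj h)
  have hsord : orderOf s = 2 := by rw [hs, hφord, orderOf_sr]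
  have htord : orderOf t = 2 := by rw [ht, hφord, orderOf_sr]
  have hrinv : ∀ i, orderOf (φ (r i)) = 2 → φ (r i) = z := by
    intro i hd
    rw [hφord] at hd
    have h1 : r i * r i = (1 : DihedralGroup (4 * k)) := by
      have := pow_orderOf_eq_one (r i : DihedralGroup (4 * k))
      rwa [hd, pow_two] at this
    rw [r_mul_r, one_def] at h1
    have h2 : i + i = 0 := r.inj h1
    have h3 : i ≠ 0 := by
      rintro rfl
      rw [r_zero, orderOf_one] at hd
      omega
    rw [zmod_involution hk i h2 h3]
  have hsrconj : ∀ i, IsConj (φ (sr i)) s ∨ IsConj (φ (sr i)) t := by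
    intro i
    obtain ⟨j, hj | hj⟩ := parity i
    · left
      rw [isConj_iff]
      refine ⟨φ (r j), ?_⟩
      rw [hj, ← map_inv, ← map_mul, ← map_mul, conj_sr_even]
    · right
      rw [isConj_iff]
      refine ⟨φ (r j), ?_⟩
      rw [hj, ← map_inv, ← map_mul, ← map_mul, conj_sr_odd]
  have hinv : ∀ x : G, orderOf x = 2 → IsConj x z ∨ IsConj x s ∨ IsConj x t := by
    intro x hx
    have hxp : IsPGroup 2 (Subgroup.zpowers x) := by
      apply IsPGroup.of_card (n := 1)
      rw [Nat.card_zpowers, hx, pow_one]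
    obtain ⟨R, hR⟩ := hxp.exists_le_sylow
    obtain ⟨g, rfl⟩ := MulAction.exists_smul_eq G P R
    have hxg : g⁻¹ * x * g ∈ (P : Subgroup G) := by
      rw [← Cfsg.Agent.Lib.helper67.mem_smul_sylow_iff]
      exact hR (Subgroup.mem_zpowers x)
    obtain ⟨d, hd⟩ := hφsurj _ hxg
    have hdord : orderOf (φ d) = 2 := by
      rw [hd, ← hx]
      have := hconjord g⁻¹ x
      rwa [inv_inv] at this
    have hconj : IsConj x (φ d) := by
      rw [isConj_iff]; exact ⟨g⁻¹, by rw [hd, inv_inv]⟩
    cases d with
    | r i => left; rw [← hrinv i hdord]; exact hconj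
    | sr i =>
      rcases hsrconj i with h | h
      · right; left; exact hconj.trans h
      · right; right; exact hconj.trans h
  -- Thompson transfer for the index two subgroup given by a character
  have hthompson : ∀ (c : ZMod (4 * k) →+ ZMod 2) (a : ZMod 2) (u : DihedralGroup (4 * k)),
      orderOf u = 2 → chi c a u ≠ 1 →
      (∀ g : G, ∀ d : DihedralGroup (4 * k), chi c a d = 1 → g * φ u * g⁻¹ ≠ φ d) →
      ∃ M : Subgroup G, M.Normal ∧ M.index = 2 ∧ φ u ∉ M := by
    intro c a u hu hcu hno
    let ψ : ↥(P : Subgroup G) →* Multiplicative (ZMod 2) := (chi c a).comp e.toMonoidHom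
    have hψ : ∀ d, ψ (e.symm d) = chi c a d := by
      intro d
      show chi c a (e (e.symm d)) = chi c a d
      rw [e.apply_symm_apply]
    set Q : Subgroup G := ψ.ker.map (P : Subgroup G).subtype with hQ
    have hQP : Q ≤ (P : Subgroup G) := Subgroup.map_subtype_le _
    have hmemQ : ∀ d, φ d ∈ Q ↔ chi c a d = 1 := by
      intro d
      rw [hQ, Subgroup.mem_map]
      constructor
      · rintro ⟨y, hy, hyd⟩
        have : y = e.symm d := Subtype.ext hyd
        rw [MonoidHom.mem_ker, this, hψ] at hy
        exact hy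
      · intro hd
        refine ⟨e.symm d, ?_, rfl⟩
        rw [MonoidHom.mem_ker, hψ]
        exact hd
    have hsurjψ : Function.Surjective ψ := by
      intro y
      rcases mult_zmod2_cases _ y hcu with h | h
      · exact ⟨1, by rw [map_one, h]⟩
      · exact ⟨e.symm u, by rw [h, hψ]⟩
    have h1 : ψ.ker.index = 2 := by
      rw [Subgroup.index_ker, MonoidHom.range_eq_top.mpr hsurjψ, Subgroup.card_top,
        Nat.card_eq_fintype_card]
      rfl
    have hQi : Q.relIndex (P : Subgroup G) = 2 := by
      have : Q.subgroupOf (P : Subgroup G) = ψ.ker := by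
        ext y
        rw [Subgroup.mem_subgroupOf, hQ, Subgroup.mem_map]
        constructor
        · rintro ⟨y', hy', hyy⟩
          have : y' = y := Subtype.ext hyy
          rwa [← this]
        · intro hy
          exact ⟨y, hy, rfl⟩
      rw [Subgroup.relIndex, this, h1]
    have huQ : φ u ∉ Q := by
      rw [hmemQ]; exact hcu
    rcases Cfsg.Agent.S0111.result P Q hQP hQi (φ u) (by rw [hφord, hu]) (hφP u) huQ with h | ⟨g, hg⟩
    · exact h
    · exfalso
      obtain ⟨d, hd⟩ := hφsurj _ (hQP hg)
      rw [← hd, hmemQ] at hg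
      exact hno g d hg hd.symm
  have hone : Multiplicative.ofAdd (1 : ZMod 2) ≠ 1 := ofAdd_one_ne
  let cR : ZMod (4 * k) →+* ZMod 2 := ZMod.castHom (Dvd.intro (2 * k) (by ring) : 2 ∣ 4 * k) (ZMod 2)
  let c₁ : ZMod (4 * k) →+ ZMod 2 := cR.toAddMonoidHom
  have hc₁even : ∀ j, c₁ (j + j) = 0 := by
    intro j
    rw [map_add]; exact zmod2_add_self _
  have hc₁odd : ∀ j, c₁ (j + j + 1) = 1 := by
    intro j
    show cR (j + j + 1) = 1
    rw [map_add, map_add, map_one, zmod2_add_self, zero_add]
  have hTa : ¬ IsConj z s → ∃ M : Subgroup G, M.Normal ∧ M.index = 2 ∧ s ∉ M := by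
    intro hA
    apply hthompson 0 1 (sr 0) (orderOf_sr 0)
    · rw [chi_sr, AddMonoidHom.zero_apply, zero_add]; exact hone
    · intro g d hd hgd
      cases d with
      | r i =>
        have h1 : orderOf (φ (r i)) = 2 := by rw [← hgd, hconjord]; exact hsord
        rw [hrinv i h1] at hgd
        exact hA (isConj_iff.mpr ⟨g, hgd⟩).symm
      | sr i =>
        rw [chi_sr, AddMonoidHom.zero_apply, zero_add] at hd
        exact hone hd
  have hTb : ¬ IsConj z t → ∃ M : Subgroup G, M.Normal ∧ M.index = 2 ∧ t ∉ M := by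
    intro hB
    apply hthompson 0 1 (sr 1) (orderOf_sr 1)
    · rw [chi_sr, AddMonoidHom.zero_apply, zero_add]; exact hone
    · intro g d hd hgd
      cases d with
      | r i =>
        have h1 : orderOf (φ (r i)) = 2 := by rw [← hgd, hconjord]; exact htord
        rw [hrinv i h1] at hgd
        exact hB (isConj_iff.mpr ⟨g, hgd⟩).symm
      | sr i =>
        rw [chi_sr, AddMonoidHom.zero_apply, zero_add] at hd
        exact hone hd
  have hTc : ¬ IsConj z t → ¬ IsConj s t → ∃ M : Subgroup G, M.Normal ∧ M.index = 2 ∧ t ∉ M := by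
    intro hB hC
    apply hthompson c₁ 0 (sr 1) (orderOf_sr 1)
    · rw [chi_sr]
      have : c₁ 1 = 1 := by simpa using hc₁odd 0
      rw [this, add_zero]; exact hone
    · intro g d hd hgd
      cases d with
      | r i =>
        have h1 : orderOf (φ (r i)) = 2 := by rw [← hgd, hconjord]; exact htord
        rw [hrinv i h1] at hgd
        exact hB (isConj_iff.mpr ⟨g, hgd⟩).symm
      | sr i =>
        obtain ⟨j, hj | hj⟩ := parity i
        · have h1 : IsConj (φ (sr i)) s := by
            rw [isConj_iff]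
            refine ⟨φ (r j), ?_⟩
            rw [hj, ← map_inv, ← map_mul, ← map_mul, conj_sr_even]
          have h2 : IsConj t (φ (sr i)) := isConj_iff.mpr ⟨g, hgd⟩
          exact hC (h2.trans h1).symm
        · rw [chi_sr, hj, hc₁odd, add_zero] at hd
          exact hone hd
  -- squares lie in subgroups of index two
  have hsq : ∀ (N : Subgroup G), N.index = 2 → ∀ j, φ (r (j + j)) ∈ N := by
    intro N hN j
    rw [r_double, map_mul]
    exact Subgroup.mul_self_mem_of_index_two hN _
  -- (I)
  have hI : IsConj z s → IsConj z t → ∀ N : Subgroup G, N.Normal → N.index ≠ 2 := by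
    intro hA hB N hNn hN2
    have hzN : z ∈ N := by rw [hz, hzz2]; exact hsq N hN2 hh
    have hinvN : ∀ x : G, orderOf x = 2 → x ∈ N := by
      intro x hx
      have hxz : IsConj z x := by
        rcases hinv x hx with h | h | h
        · exact h.symm
        · exact hA.trans h.symm
        · exact hB.trans h.symm
      obtain ⟨g, hg⟩ := isConj_iff.mp hxz
      rw [← hg]
      exact hNn.conj_mem z hzN g
    have hPN : (P : Subgroup G) ≤ N := by
      intro x hx
      obtain ⟨d, rfl⟩ := hφsurj x hx
      cases d with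
      | r i =>
        rw [r_eq_sr_mul_sr, map_mul]
        exact mul_mem (hinvN _ (by rw [hφord, orderOf_sr])) (hinvN _ (by rw [hφord, orderOf_sr]))
      | sr i => exact hinvN _ (by rw [hφord, orderOf_sr])
    have := Subgroup.index_dvd_of_le hPN
    rw [hN2] at this
    exact P.not_dvd_index this
  -- (II) existence
  have hIIe : ¬ (IsConj z s ∧ IsConj z t) → ∃ N : Subgroup G, N.Normal ∧ N.index = 2 := by
    intro hnot
    by_cases hA : IsConj z s
    · have hB : ¬ IsConj z t := fun h => hnot ⟨hA, h⟩
      have hC : ¬ IsConj s t := fun h => hB (hA.trans h)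
      obtain ⟨M, hMn, hMi, -⟩ := hTc hB hC
      exact ⟨M, hMn, hMi⟩
    · obtain ⟨M, hMn, hMi, -⟩ := hTa hA
      exact ⟨M, hMn, hMi⟩
  -- (II) no normal subgroup of index four
  have hIIn : (IsConj z s ∨ IsConj z t ∨ IsConj s t) → ∀ N : Subgroup G, N.Normal → N.index ≠ 4 := by
    intro hABC N hNn hN4
    haveI := hNn
    have hQcard : Nat.card (G ⧸ N) = 2 ^ 2 := by rw [← Subgroup.index_eq_card, hN4]; norm_num
    have hQc : IsMulCommutative (G ⧸ N) := IsPGroup.isMulCommutative_of_card_eq_prime_sq hQcard
    have hQcomm : ∀ a b : G ⧸ N, a * b = b * a := fun a b => hQc.is_comm.comm a b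
    have hπsq : ∀ j, QuotientGroup.mk' N (φ (r (j + j))) = 1 := by
      intro j
      rw [r_double_comm]
      simp only [map_mul, map_inv]
      rw [hQcomm (QuotientGroup.mk' N (φ (r j))) (QuotientGroup.mk' N (φ (sr 0)))]
      group
    set a := QuotientGroup.mk' N s with ha
    set b := QuotientGroup.mk' N t with hb
    have haa : a * a = 1 := by
      rw [ha, hs, ← map_mul, ← map_mul, sr_mul_self, map_one, map_one]
    have hbb : b * b = 1 := by
      rw [hb, ht, ← map_mul, ← map_mul, sr_mul_self, map_one, map_one]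
    have hπφ : ∀ d, QuotientGroup.mk' N (φ d) = 1 ∨ QuotientGroup.mk' N (φ d) = a ∨
        QuotientGroup.mk' N (φ d) = b ∨ QuotientGroup.mk' N (φ d) = a * b := by
      intro d
      cases d with
      | r i =>
        obtain ⟨j, hj | hj⟩ := parity i
        · left; rw [hj]; exact hπsq j
        · right; right; right
          rw [hj, r_eq_sr_mul_sr, sr_odd, ← r_double]
          simp only [map_mul]
          rw [hπsq j, mul_one]
      | sr i =>
        obtain ⟨j, hj | hj⟩ := parity i
        · right; left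
          rw [hj, sr_even, ← r_double]
          simp only [map_mul]
          rw [hπsq j, mul_one]
        · right; right; left
          rw [hj, sr_odd, ← r_double]
          simp only [map_mul]
          rw [hπsq j, mul_one]
    have hPN : (P : Subgroup G) ⊔ N = ⊤ := by
      have h1 : ((P : Subgroup G) ⊔ N).index ∣ N.index := Subgroup.index_dvd_of_le le_sup_right
      have h2 : ((P : Subgroup G) ⊔ N).index ∣ (P : Subgroup G).index :=
        Subgroup.index_dvd_of_le le_sup_left
      rw [hN4] at h1
      have hcop : Nat.Coprime 4 (P : Subgroup G).index := by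
        have : Nat.Coprime 2 (P : Subgroup G).index :=
          (Nat.Prime.coprime_iff_not_dvd Nat.prime_two).mpr P.not_dvd_index
        exact Nat.Coprime.pow_left 2 this
      exact Subgroup.index_eq_one.mp (Nat.eq_one_of_dvd_coprimes hcop h1 h2)
    have hall : ∀ q : G ⧸ N, q = 1 ∨ q = a ∨ q = b ∨ q = a * b := by
      intro q
      obtain ⟨g, rfl⟩ := QuotientGroup.mk'_surjective N q
      have hg : g ∈ N ⊔ (P : Subgroup G) := by rw [sup_comm, hPN]; exact Subgroup.mem_top g
      obtain ⟨n, hn, x, hx, rfl⟩ := Cfsg.Agent.Lib.helper1.mem_sup_normal_left (N := N)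
        (H := (P : Subgroup G)) Subgroup.le_normalizer_of_normal hg
      obtain ⟨d, rfl⟩ := hφsurj x hx
      have h1 : QuotientGroup.mk' N (n * φ d) = QuotientGroup.mk' N (φ d) := by
        rw [map_mul]
        have : QuotientGroup.mk' N n = 1 := (QuotientGroup.eq_one_iff n).mpr hn
        rw [this, one_mul]
      rw [h1]; exact hπφ d
    have hzπ : QuotientGroup.mk' N z = 1 := by rw [hz, hzz2]; exact hπsq hh
    have hcollapse : ∃ c₀ : G ⧸ N, ∀ q : G ⧸ N, q = 1 ∨ q = c₀ := by
      rcases hABC with hA | hB | hC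
      · have ha1 : a = 1 := by
          obtain ⟨g, hg⟩ := isConj_iff.mp hA
          rw [ha, ← hg]
          simp only [map_mul, map_inv]
          rw [hzπ]; group
        refine ⟨b, fun q => ?_⟩
        rcases hall q with h | h | h | h
        · left; exact h
        · left; rw [h, ha1]
        · right; exact h
        · right; rw [h, ha1, one_mul]
      · have hb1 : b = 1 := by
          obtain ⟨g, hg⟩ := isConj_iff.mp hB
          rw [hb, ← hg]
          simp only [map_mul, map_inv]
          rw [hzπ]; group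
        refine ⟨a, fun q => ?_⟩
        rcases hall q with h | h | h | h
        · left; exact h
        · right; exact h
        · left; rw [h, hb1]
        · right; rw [h, hb1, mul_one]
      · have hab : b = a := by
          obtain ⟨g, hg⟩ := isConj_iff.mp hC
          rw [hb, ← hg]
          simp only [map_mul, map_inv]
          rw [hQcomm (QuotientGroup.mk' N g) (QuotientGroup.mk' N s), mul_inv_cancel_right]
        refine ⟨a, fun q => ?_⟩
        rcases hall q with h | h | h | h
        · left; exact h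
        · right; exact h
        · right; rw [h, hab]
        · left; rw [h, hab, haa]
    obtain ⟨c₀, hc₀⟩ := hcollapse
    have := card_le_two_of_forall c₀ 1 hc₀
    rw [hQcard] at this
    omega
  -- (III)
  have hIII : ¬ IsConj z s → ¬ IsConj z t → ¬ IsConj s t → Cfsg.HasNormalPComplement 2 G := by
    intro hA hB hC
    obtain ⟨N₁, hN₁n, hN₁i, hsN₁⟩ := hTa hA
    obtain ⟨N₂, hN₂n, hN₂i, htN₂⟩ := hTb hB
    haveI := hN₁n
    haveI := hN₂n
    set N := N₁ ⊓ N₂ with hN
    haveI hNn : N.Normal := Subgroup.normal_inf_normal N₁ N₂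
    have hPNrot : ∀ x ∈ (P : Subgroup G), x ∈ N → x ∈ Subgroup.zpowers (φ (r 1)) := by
      intro x hxP hxN
      obtain ⟨d, rfl⟩ := hφsurj x hxP
      cases d with
      | r i =>
        rw [Subgroup.mem_zpowers_iff]
        refine ⟨(i.val : ℤ), ?_⟩
        rw [← map_zpow, zpow_natCast, r_one_pow, ZMod.natCast_zmod_val]
      | sr i =>
        exfalso
        obtain ⟨j, hj | hj⟩ := parity i
        · apply hsN₁
          have h1 : φ (sr i) ∈ N₁ := (Subgroup.mem_inf.mp hxN).1
          rw [hj, sr_even, ← r_double, map_mul] at h1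
          exact (Subgroup.mul_mem_cancel_right N₁ (hsq N₁ hN₁i j)).mp h1
        · apply htN₂
          have h1 : φ (sr i) ∈ N₂ := (Subgroup.mem_inf.mp hxN).2
          rw [hj, sr_odd, ← r_double, map_mul] at h1
          exact (Subgroup.mul_mem_cancel_right N₂ (hsq N₂ hN₂i j)).mp h1
    have hzN : z ∈ N := by
      refine Subgroup.mem_inf.mpr ⟨?_, ?_⟩
      · rw [hz, hzz2]; exact hsq N₁ hN₁i hh
      · rw [hz, hzz2]; exact hsq N₂ hN₂i hh
    have heven : 2 ∣ Nat.card N := by
      have := orderOf_dvd_natCard (⟨z, hzN⟩ : N)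
      rwa [Subgroup.orderOf_mk, hzord] at this
    have hminFac : (Nat.card N).minFac = 2 := (Nat.minFac_eq_two_iff _).mpr heven
    obtain ⟨R⟩ : Nonempty (Sylow 2 N) := inferInstance
    have hRcyc : IsCyclic R := by
      have hRp : IsPGroup 2 ((R : Subgroup N).map N.subtype) := R.2.map N.subtype
      obtain ⟨R₂, hR₂⟩ := hRp.exists_le_sylow
      obtain ⟨g, rfl⟩ := MulAction.exists_smul_eq G P R₂
      let f : ↥(R : Subgroup N) →* G :=
        (MulAut.conj g⁻¹).toMonoidHom.comp (N.subtype.comp (R : Subgroup N).subtype)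
      have hfx : ∀ x : ↥(R : Subgroup N), f x = g⁻¹ * ((x : N) : G) * g := by
        intro x
        show (MulAut.conj g⁻¹) ((x : N) : G) = _
        rw [MulAut.conj_apply, inv_inv]
      have hf : ∀ x, f x ∈ Subgroup.zpowers (φ (r 1)) := by
        intro x
        apply hPNrot
        · have : ((x : N) : G) ∈ ((g • P : Sylow 2 G) : Subgroup G) := hR₂ ⟨(x : N), x.2, rfl⟩
          rw [Cfsg.Agent.Lib.helper67.mem_smul_sylow_iff] at this
          rw [hfx]; exact this
        · rw [hfx]
          have := hNn.conj_mem _ (x : N).2 g⁻¹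
          rwa [inv_inv] at this
      have hfinj : Function.Injective (f.codRestrict (Subgroup.zpowers (φ (r 1))) hf) := by
        intro x y hxy
        have h1 : f x = f y := congrArg Subtype.val hxy
        rw [hfx, hfx] at h1
        have h2 : ((x : N) : G) = ((y : N) : G) := by
          have := congrArg (fun w => g * w * g⁻¹) h1
          simpa [mul_assoc] using this
        exact Subtype.ext (Subtype.ext h2)
      exact isCyclic_of_injective _ hfinj
    have hcompl := IsCyclic.isComplement' hminFac hRcyc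
    set K' : Subgroup N := (MonoidHom.transferSylow R (hRcyc.normalizer_le_centralizer hminFac)).ker
      with hK'
    have hK'mem : ∀ g : N, g ∈ K' ↔ (orderOf g).Coprime 2 :=
      fun g => Cfsg.Agent.Lib.helper67.mem_iff_coprime_of_isComplement' K' R hcompl g
    let K : Subgroup G := K'.map N.subtype
    have hK : ∀ g : G, g ∈ K ↔ (orderOf g).Coprime 2 := by
      intro g
      constructor
      · rintro ⟨k', hk', rfl⟩
        have := (hK'mem k').mp hk'
        rwa [← Subgroup.orderOf_coe] at this
      · intro hg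
        have hodd : Odd (orderOf g) := Nat.coprime_two_right.mp hg
        obtain ⟨j, hj⟩ := hodd
        have hgpow : g = (g * g) ^ (j + 1) := by
          rw [← pow_two, ← pow_mul]
          have : 2 * (j + 1) = orderOf g + 1 := by omega
          rw [this, pow_succ, pow_orderOf_eq_one, one_mul]
        have hgN : g ∈ N := by
          rw [hgpow]
          exact pow_mem (Subgroup.mem_inf.mpr ⟨Subgroup.mul_self_mem_of_index_two hN₁i g,
            Subgroup.mul_self_mem_of_index_two hN₂i g⟩) _
        refine ⟨⟨g, hgN⟩, (hK'mem _).mpr ?_, rfl⟩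
        rwa [Subgroup.orderOf_mk]
    have hKn : K.Normal := by
      constructor
      intro x hx g
      rw [hK] at hx ⊢
      rwa [hconjord]
    haveI := hKn
    exact Cfsg.Agent.Lib.helper40.hasNormalPComplement_of_pprime_elements K hK
  -- classes
  let cz : {C : ConjClasses G // ∃ g : G, ConjClasses.mk g = C ∧ orderOf g = 2} :=
    ⟨ConjClasses.mk z, z, rfl, hzord⟩
  let cs : {C : ConjClasses G // ∃ g : G, ConjClasses.mk g = C ∧ orderOf g = 2} :=
    ⟨ConjClasses.mk s, s, rfl, hsord⟩
  let ct : {C : ConjClasses G // ∃ g : G, ConjClasses.mk g = C ∧ orderOf g = 2} :=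
    ⟨ConjClasses.mk t, t, rfl, htord⟩
  have hcover : ∀ C : {C : ConjClasses G // ∃ g : G, ConjClasses.mk g = C ∧ orderOf g = 2},
      C = cz ∨ C = cs ∨ C = ct := by
    rintro ⟨C, g, rfl, hg⟩
    rcases hinv g hg with h | h | h
    · left; exact Subtype.ext (ConjClasses.mk_eq_mk_iff_isConj.mpr h)
    · right; left; exact Subtype.ext (ConjClasses.mk_eq_mk_iff_isConj.mpr h)
    · right; right; exact Subtype.ext (ConjClasses.mk_eq_mk_iff_isConj.mpr h)
  have hczs : cz = cs ↔ IsConj z s := by
    rw [Subtype.ext_iff]; exact ConjClasses.mk_eq_mk_iff_isConj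
  have hczt : cz = ct ↔ IsConj z t := by
    rw [Subtype.ext_iff]; exact ConjClasses.mk_eq_mk_iff_isConj
  have hcst : cs = ct ↔ IsConj s t := by
    rw [Subtype.ext_iff]; exact ConjClasses.mk_eq_mk_iff_isConj
  obtain ⟨k1, k3, k2a, k2b, k2c⟩ := card_three_cover cz cs ct hcover
  by_cases hA : IsConj z s
  · by_cases hB : IsConj z t
    · left
      exact ⟨k1 (hczs.mpr hA) (hczt.mpr hB), hI hA hB⟩
    · right; left
      exact ⟨k2a (hczs.mpr hA) (fun h => hB (hczt.mp h)), hIIe (fun h => hB h.2),
        hIIn (Or.inl hA)⟩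
  · by_cases hB : IsConj z t
    · right; left
      exact ⟨k2b (fun h => hA (hczs.mp h)) (hczt.mpr hB), hIIe (fun h => hA h.1),
        hIIn (Or.inr (Or.inl hB))⟩
    · by_cases hC : IsConj s t
      · right; left
        exact ⟨k2c (fun h => hA (hczs.mp h)) (hcst.mpr hC), hIIe (fun h => hA h.1),
          hIIn (Or.inr (Or.inr hC))⟩
      · right; right
        exact ⟨k3 (fun h => hA (hczs.mp h)) (fun h => hB (hczt.mp h)) (fun h => hC (hcst.mp h)),
          hIII hA hB hC⟩

/-- Let G be a finite group whose Sylow 2-subgroups are dihedral of order 2 ^ n with n ≥ 3, and count the conjugacy classes of involutions of G. Then exactly one of the following holds: there is one class of involutions and no normal subgroup of index 2; there are two classes of involutions, a normal subgroup of index 2 and none of index 4; there are three classes of involutions and G has a normal 2-complement. -/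
theorem result {G : Type*} [Group G] [Finite G] (P : Sylow 2 G) (n : ℕ) (hn : 3 ≤ n) (hdih : Nonempty (↥(P : Subgroup G) ≃* DihedralGroup (2 ^ (n - 1)))) : (Nat.card {C : ConjClasses G // ∃ g : G, ConjClasses.mk g = C ∧ orderOf g = 2} = 1 ∧ ∀ N : Subgroup G, N.Normal → N.index ≠ 2) ∨ (Nat.card {C : ConjClasses G // ∃ g : G, ConjClasses.mk g = C ∧ orderOf g = 2} = 2 ∧ (∃ N : Subgroup G, N.Normal ∧ N.index = 2) ∧ ∀ N : Subgroup G, N.Normal → N.index ≠ 4) ∨ (Nat.card {C : ConjClasses G // ∃ g : G, ConjClasses.mk g = C ∧ orderOf g = 2} = 3 ∧ Cfsg.HasNormalPComplement 2 G) := by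
  obtain ⟨e⟩ := hdih
  have h : 2 ^ (n - 1) = 4 * 2 ^ (n - 3) := by
    obtain ⟨j, rfl⟩ : ∃ j, n = j + 3 := ⟨n - 3, by omega⟩
    simp only [Nat.add_sub_cancel]
    have : j + 3 - 1 = j + 2 := by omega
    rw [this, pow_add]; ring
  rw [h] at e
  exact main P (2 ^ (n - 3)) (by positivity) e

end Cfsg.Agent.S3864
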