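import Mathlib
import Cfsg.Statements.S3866

set_option autoImplicit false
open Cfsg

namespace Cfsg.Agent.S3866

/-- The additivity of `a ↦ x a x⁻¹ a⁻¹` on a commutative normal subgroup. -/
theorem comm_mul {G : Type*} [Group G] (A : Subgroup G) [A.Normal] (hA : IsMulCommutative A)
    (x : G) (a b : G) (ha : a ∈ A) (hb : b ∈ A) :
    x * (a * b) * x⁻¹ * (a * b)⁻¹ = (x * a * x⁻¹ * a⁻¹) * (x * b * x⁻¹ * b⁻¹) := by
  have hxb : x * b * x⁻¹ * b⁻¹ ∈ A :=
    A.mul_mem (‹A.Normal›.conj_mem b hb x) (A.inv_mem hb)
  have hc : (x * b * x⁻¹ * b⁻¹) * a⁻¹ = a⁻¹ * (x * b * x⁻¹ * b⁻¹) :=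
    setLike_mul_comm hxb (A.inv_mem ha)
  calc x * (a * b) * x⁻¹ * (a * b)⁻¹ = x * a * x⁻¹ * ((x * b * x⁻¹ * b⁻¹) * a⁻¹) := by group
    _ = x * a * x⁻¹ * (a⁻¹ * (x * b * x⁻¹ * b⁻¹)) := by rw [hc]
    _ = _ := by group

/-- The homomorphism `a ↦ x a x⁻¹ a⁻¹`. -/
def commHom {G : Type*} [Group G] (A : Subgroup G) [A.Normal] (hA : IsMulCommutative A) (x : G) :
    A →* G :=
  MonoidHom.mk' (fun a => x * (a : G) * x⁻¹ * (a : G)⁻¹) (fun a b => by
    simpa using comm_mul A hA x a b a.2 b.2)

theorem commHom_apply {G : Type*} [Group G] (A : Subgroup G) [A.Normal] (hA : IsMulCommutative A)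
    (x : G) (a : A) : commHom A hA x a = x * (a : G) * x⁻¹ * (a : G)⁻¹ := rfl

theorem range_le {G : Type*} [Group G] (A : Subgroup G) [A.Normal] (hA : IsMulCommutative A)
    (x : G) : (commHom A hA x).range ≤ A := by
  rintro _ ⟨a, rfl⟩
  rw [commHom_apply]
  exact A.mul_mem (‹A.Normal›.conj_mem a a.2 x) (A.inv_mem a.2)

theorem mem_range_iff {G : Type*} [Group G] (A : Subgroup G) [A.Normal] (hA : IsMulCommutative A)
    (x : G) (c : G) : c ∈ (commHom A hA x).range ↔ ∃ a ∈ A, x * a * x⁻¹ * a⁻¹ = c := by
  constructor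
  · rintro ⟨a, rfl⟩
    exact ⟨a, a.2, rfl⟩
  · rintro ⟨a, ha, rfl⟩
    exact ⟨⟨a, ha⟩, rfl⟩

theorem range_normal {G : Type*} [Group G] (A : Subgroup G) [A.Normal] (hA : IsMulCommutative A)
    (x : G) (hgen : A ⊔ Subgroup.zpowers x = ⊤) : (commHom A hA x).range.Normal := by
  rw [← Subgroup.normalizer_eq_top_iff, eq_top_iff, ← hgen, sup_le_iff, Subgroup.zpowers_le]
  constructor
  · intro a ha
    rw [Subgroup.mem_normalizer_iff]
    intro h
    constructor
    · intro hh
      have h1 : a * h = h * a := setLike_mul_comm ha (range_le A hA x hh)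
      rw [h1, mul_inv_cancel_right]
      exact hh
    · intro hh
      have h2 : h ∈ A := by
        have : a⁻¹ * (a * h * a⁻¹) * a ∈ A :=
          A.mul_mem (A.mul_mem (A.inv_mem ha) (range_le A hA x hh)) ha
        simpa [mul_assoc] using this
      have h1 : a * h = h * a := setLike_mul_comm ha h2
      rw [h1, mul_inv_cancel_right] at hh
      exact hh
  · rw [Subgroup.mem_normalizer_iff]
    intro h
    constructor
    · rintro ⟨a, rfl⟩
      refine ⟨⟨x * a * x⁻¹, ‹A.Normal›.conj_mem a a.2 x⟩, ?_⟩
      rw [commHom_apply, commHom_apply]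
      group
    · rintro ⟨a, ha⟩
      refine ⟨⟨x⁻¹ * a * x, by simpa using ‹A.Normal›.conj_mem a a.2 x⁻¹⟩, ?_⟩
      rw [commHom_apply] at ha ⊢
      have : h = x⁻¹ * (x * h * x⁻¹) * x := by group
      rw [this, ← ha]
      group

/-- Let A be a commutative normal subgroup of the finite group G with G generated by A and an element x. Then a ↦ x a x⁻¹ a⁻¹ is a surjective homomorphism from A onto the commutator subgroup of G whose kernel is the centralizer of x in A; in particular the commutator subgroup has order equal to the index in A of that centralizer. -/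
theorem result {G : Type*} [Group G] [Finite G] (A : Subgroup G) [A.Normal] (hA : IsMulCommutative A) (x : G) (hgen : A ⊔ Subgroup.zpowers x = ⊤) : (∀ a ∈ A, x * a * x⁻¹ * a⁻¹ ∈ commutator G) ∧ (∀ c ∈ commutator G, ∃ a ∈ A, x * a * x⁻¹ * a⁻¹ = c) ∧ (∀ a ∈ A, ∀ b ∈ A, x * (a * b) * x⁻¹ * (a * b)⁻¹ = (x * a * x⁻¹ * a⁻¹) * (x * b * x⁻¹ * b⁻¹)) ∧ Nat.card (commutator G) * Nat.card ↥(A ⊓ Subgroup.centralizer ({x} : Set G)) = Nat.card A := by
  have h1 : ∀ a ∈ A, x * a * x⁻¹ * a⁻¹ ∈ commutator G := by
    intro a _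
    rw [commutator_def]
    exact Subgroup.commutator_mem_commutator (Subgroup.mem_top x) (Subgroup.mem_top a)
  set I := (commHom A hA x).range with hI
  have hIn : I.Normal := range_normal A hA x hgen
  -- the quotient by I is commutative
  have hcomm : ∀ g h : G, (QuotientGroup.mk g : G ⧸ I) * QuotientGroup.mk h =
      QuotientGroup.mk h * QuotientGroup.mk g := by
    -- elements of A are central modulo I
    have hAc : ∀ a ∈ A, ∀ h : G, (QuotientGroup.mk a : G ⧸ I) * QuotientGroup.mk h =
        QuotientGroup.mk h * QuotientGroup.mk a := by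
      intro a ha
      have hle : (⊤ : Subgroup G) ≤ (Subgroup.centralizer {(QuotientGroup.mk a : G ⧸ I)}).comap
          (QuotientGroup.mk' I) := by
        rw [← hgen, sup_le_iff, Subgroup.zpowers_le]
        constructor
        · intro b hb
          rw [Subgroup.mem_comap, Subgroup.mem_centralizer_iff]
          intro y hy
          rw [Set.mem_singleton_iff] at hy
          rw [hy, QuotientGroup.mk'_apply, ← QuotientGroup.mk_mul, ← QuotientGroup.mk_mul,
            setLike_mul_comm ha hb]
        · rw [Subgroup.mem_comap, Subgroup.mem_centralizer_iff]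
          intro y hy
          rw [Set.mem_singleton_iff] at hy
          rw [hy, QuotientGroup.mk'_apply, ← QuotientGroup.mk_mul, ← QuotientGroup.mk_mul,
            QuotientGroup.eq]
          -- (a x)⁻¹ (x a) = x⁻¹ a⁻¹ x a ∈ I
          have hxa : x⁻¹ * a⁻¹ * x ∈ A := by
            simpa using ‹A.Normal›.conj_mem a⁻¹ (A.inv_mem ha) x⁻¹
          have hc : (x⁻¹ * a⁻¹ * x) * a = a * (x⁻¹ * a⁻¹ * x) := setLike_mul_comm hxa ha
          refine ⟨⟨x⁻¹ * a * x, by simpa using ‹A.Normal›.conj_mem a ha x⁻¹⟩, ?_⟩
          rw [commHom_apply]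
          calc x * (x⁻¹ * a * x) * x⁻¹ * (x⁻¹ * a * x)⁻¹ = a * (x⁻¹ * a⁻¹ * x) := by group
            _ = (x⁻¹ * a⁻¹ * x) * a := hc.symm
            _ = (a * x)⁻¹ * (x * a) := by group
      intro h
      have := hle (Subgroup.mem_top h)
      rw [Subgroup.mem_comap, Subgroup.mem_centralizer_iff] at this
      exact this _ rfl
    -- x is central modulo I
    have hxc : ∀ h : G, (QuotientGroup.mk x : G ⧸ I) * QuotientGroup.mk h =
        QuotientGroup.mk h * QuotientGroup.mk x := by
      have hle : (⊤ : Subgroup G) ≤ (Subgroup.centralizer {(QuotientGroup.mk x : G ⧸ I)}).comap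
          (QuotientGroup.mk' I) := by
        rw [← hgen, sup_le_iff, Subgroup.zpowers_le]
        constructor
        · intro b hb
          rw [Subgroup.mem_comap, Subgroup.mem_centralizer_iff]
          intro y hy
          rw [Set.mem_singleton_iff] at hy
          rw [hy, QuotientGroup.mk'_apply]
          exact (hAc b hb x).symm
        · rw [Subgroup.mem_comap, Subgroup.mem_centralizer_iff]
          intro y hy
          rw [Set.mem_singleton_iff] at hy
          rw [hy, QuotientGroup.mk'_apply]
      intro h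
      have := hle (Subgroup.mem_top h)
      rw [Subgroup.mem_comap, Subgroup.mem_centralizer_iff] at this
      exact this _ rfl
    intro g
    have hle : (⊤ : Subgroup G) ≤ (Subgroup.center (G ⧸ I)).comap (QuotientGroup.mk' I) := by
      rw [← hgen, sup_le_iff, Subgroup.zpowers_le]
      constructor
      · intro a ha
        rw [Subgroup.mem_comap, Subgroup.mem_center_iff]
        intro q
        obtain ⟨h, rfl⟩ := QuotientGroup.mk_surjective q
        exact (hAc a ha h).symm
      · rw [Subgroup.mem_comap, Subgroup.mem_center_iff]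
        intro q
        obtain ⟨h, rfl⟩ := QuotientGroup.mk_surjective q
        exact (hxc h).symm
    have hg := hle (Subgroup.mem_top g)
    rw [Subgroup.mem_comap, Subgroup.mem_center_iff] at hg
    intro h
    exact (hg _).symm
  have hle : commutator G ≤ I := by
    rw [commutator_eq_closure, Subgroup.closure_le]
    rintro _ ⟨g, h, rfl⟩
    rw [SetLike.mem_coe, ← QuotientGroup.eq_one_iff, commutatorElement_def]
    simp only [QuotientGroup.mk_mul, QuotientGroup.mk_inv]
    rw [hcomm g h]
    group
  have heq : commutator G = I := by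
    apply le_antisymm hle
    rintro _ ⟨a, rfl⟩
    exact h1 a a.2
  refine ⟨h1, ?_, fun a ha b hb => comm_mul A hA x a b ha hb, ?_⟩
  · intro c hc
    exact (mem_range_iff A hA x c).mp (hle hc)
  · rw [heq, hI, ← Subgroup.index_ker]
    have hker : (commHom A hA x).ker = (Subgroup.centralizer ({x} : Set G)).subgroupOf A := by
      ext a
      rw [MonoidHom.mem_ker, commHom_apply, Subgroup.mem_subgroupOf, Subgroup.mem_centralizer_iff]
      constructor
      · intro h y hy
        rw [Set.mem_singleton_iff] at hy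
        rw [hy]
        have : x * (a : G) * x⁻¹ = a := by
          rw [mul_inv_eq_one] at h; exact h
        rw [mul_inv_eq_iff_eq_mul] at this
        exact this
      · intro h
        have := h x rfl
        rw [this]; group
    have hcard : Nat.card (commHom A hA x).ker =
        Nat.card ↥(A ⊓ Subgroup.centralizer ({x} : Set G)) := by
      rw [hker, ← Subgroup.inf_subgroupOf_left]
      exact Nat.card_congr (Subgroup.subgroupOfEquivOfLe inf_le_left).toEquiv
    rw [← hcard, mul_comm]
    exact Subgroup.card_mul_index _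

end Cfsg.Agent.S3866
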