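import Cfsg.Statements.S3867
import Cfsg.Agent.Lib.helper76.Hall

set_option autoImplicit false
open Cfsg

namespace Cfsg.Agent.S3867

open scoped Pointwise
open Cfsg.Agent.Lib.helper76

/-- Elements of `P ⊔ M` are `p`-elements modulo `M`. -/
theorem exists_pow_mem_of_mem_sup {G : Type*} [Group G] (p : ℕ) (P : Sylow p G)
    (M : Subgroup G) [M.Normal] (y : G) (hy : y ∈ (P : Subgroup G) ⊔ M) :
    ∃ a : ℕ, y ^ (p ^ a) ∈ M := by
  obtain ⟨u, hu, m, hm, rfl⟩ := Subgroup.mem_sup_of_normal_right.mp hy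
  obtain ⟨a, ha⟩ := P.isPGroup' ⟨u, hu⟩
  refine ⟨a, ?_⟩
  rw [← QuotientGroup.eq_one_iff]
  have h1 : ((u * m : G) : G ⧸ M) = (u : G ⧸ M) := by
    rw [QuotientGroup.mk_mul, (QuotientGroup.eq_one_iff m).mpr hm, mul_one]
  rw [QuotientGroup.mk_pow, h1, ← QuotientGroup.mk_pow]
  have h2 : u ^ (p ^ a) = 1 := by
    have := congrArg Subtype.val ha
    simpa using this
  rw [h2]; rfl

/-- Let M and N be nontrivial normal subgroups of the finite group G with M ⊓ N trivial, and let p be a prime. Writing n(X) for the number of Sylow p-subgroups of a group X, one has n(G) · n(G/MN) = n(G/M) · n(G/N). -/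
theorem result {G : Type*} [Group G] [Finite G] (p : ℕ) [Fact p.Prime] (M N : Subgroup G) [M.Normal] [N.Normal] (hM : M ≠ ⊥) (hN : N ≠ ⊥) (hMN : M ⊓ N = ⊥) : Nat.card (Sylow p G) * Nat.card (Sylow p (G ⧸ (M ⊔ N))) = Nat.card (Sylow p (G ⧸ M)) * Nat.card (Sylow p (G ⧸ N)) := by
  obtain ⟨P⟩ := (inferInstance : Nonempty (Sylow p G))
  set A : Subgroup G := Subgroup.normalizer (P : Set G) with hA
  have hPA : (P : Subgroup G) ≤ A := Subgroup.le_normalizer (H := (P : Subgroup G))
  -- the key inclusion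
  have hkey : M ⊓ (A ⊔ N) ≤ A := by
    intro m hm
    obtain ⟨hmM, hmAN⟩ := hm
    obtain ⟨x, hx, n, hn, rfl⟩ := Subgroup.mem_sup_of_normal_right.mp hmAN
    -- it suffices to show that `n` normalizes `P`
    suffices hnA : n ∈ A from mul_mem hx hnA
    -- the intersection `(P ⊔ M) ⊓ (P ⊔ N)` is a `p`-group, hence equals `P`
    have hQ : IsPGroup p (((P : Subgroup G) ⊔ M) ⊓ ((P : Subgroup G) ⊔ N) : Subgroup G) := by
      rintro ⟨y, hy1, hy2⟩
      obtain ⟨a, ha⟩ := exists_pow_mem_of_mem_sup p P M y hy1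
      obtain ⟨b, hb⟩ := exists_pow_mem_of_mem_sup p P N y hy2
      refine ⟨a + b, ?_⟩
      apply Subtype.ext
      have h1 : y ^ (p ^ (a + b)) ∈ M := by
        rw [pow_add, pow_mul]; exact Subgroup.pow_mem _ ha _
      have h2 : y ^ (p ^ (a + b)) ∈ N := by
        rw [pow_add, mul_comm, pow_mul]; exact Subgroup.pow_mem _ hb _
      have h3 : y ^ (p ^ (a + b)) ∈ M ⊓ N := ⟨h1, h2⟩
      rw [hMN, Subgroup.mem_bot] at h3
      simpa using h3
    have hQP : ((P : Subgroup G) ⊔ M) ⊓ ((P : Subgroup G) ⊔ N) = (P : Subgroup G) :=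
      P.is_maximal' hQ (le_inf le_sup_left le_sup_left)
    -- `n • P` lies in this intersection
    have hxn : x * n ∈ M := hmM
    have hle : ((n • P : Sylow p G) : Subgroup G) ≤ (P : Subgroup G) := by
      rw [← hQP]
      intro r hr
      have hr' : r ∈ n • P := hr
      rw [mem_smul_sylow] at hr'
      constructor
      · -- r = (x⁻¹ (x n)) u (x⁻¹ (x n))⁻¹, with x normalizing P and M
        have h1 : r = x⁻¹ * ((x * n) * (n⁻¹ * r * n) * (x * n)⁻¹) * x := by group
        -- (x n) u (x n)⁻¹ ∈ P ⊔ M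
        have h2 : (x * n) * (n⁻¹ * r * n) * (x * n)⁻¹ ∈ (P : Subgroup G) ⊔ M := by
          have e : (x * n) * (n⁻¹ * r * n) * (x * n)⁻¹ =
              (n⁻¹ * r * n) * ((n⁻¹ * r * n)⁻¹ * (x * n) * (n⁻¹ * r * n) * (x * n)⁻¹) := by group
          rw [e]
          refine mul_mem (Subgroup.mem_sup_left hr') (Subgroup.mem_sup_right ?_)
          exact mul_mem (‹M.Normal›.conj_mem' _ hxn _) (inv_mem hxn)
        -- conjugate back by x⁻¹, which normalizes P ⊔ M
        have h3 : x⁻¹ ∈ Subgroup.normalizer ((((P : Subgroup G) ⊔ M : Subgroup G)) : Set G) := by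
          rw [normalizer_sylow_sup_eq]
          exact Subgroup.mem_sup_left (inv_mem hx)
        have h4 := (Subgroup.mem_normalizer_iff.mp h3 _).mp h2
        rw [inv_inv] at h4
        rw [h1]; exact h4
      · have e : r = (n⁻¹ * r * n) * ((n⁻¹ * r * n)⁻¹ * n * (n⁻¹ * r * n) * n⁻¹) := by group
        rw [e]
        refine mul_mem (Subgroup.mem_sup_left hr') (Subgroup.mem_sup_right ?_)
        exact mul_mem (‹N.Normal›.conj_mem' _ hn _) (inv_mem hn)
    have hnP : n • P = P := (Sylow.ext ((n • P).is_maximal' P.isPGroup' hle)).symm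
    exact Sylow.smul_eq_iff_mem_normalizer.mp hnP
  have hrel : A.relIndex M = (A ⊔ N).relIndex M := by
    rw [← Subgroup.inf_relIndex_right A M, ← Subgroup.inf_relIndex_right (A ⊔ N) M]
    congr 1
    apply le_antisymm
    · exact le_inf (inf_le_left.trans le_sup_left) inf_le_right
    · refine le_inf ?_ inf_le_right
      rw [inf_comm]; exact hkey
  have h1 := index_eq_relIndex_mul_index_sup A M
  have h2 := index_eq_relIndex_mul_index_sup (A ⊔ N) M
  rw [Sylow.card_eq_index_normalizer P, card_sylow_quotient_eq_index p P (M ⊔ N),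
    card_sylow_quotient_eq_index p P M, card_sylow_quotient_eq_index p P N]
  have e : A ⊔ (M ⊔ N) = A ⊔ N ⊔ M := by
    rw [sup_comm M N, sup_assoc]
  rw [e, h1, h2, hrel]
  ring

end Cfsg.Agent.S3867
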