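import Cfsg.Statements.S3868
import Cfsg.Agent.Lib.helper77.MinNonPClosed

set_option autoImplicit false
open Cfsg

namespace Cfsg.Agent.S3868

/-- In a minimal non-`p`-closed group with non-normal Sylow `p`-subgroup `P`, a proper nontrivial
normal subgroup `N` is a `p'`-group with `N ⊔ P = ⊤`. -/
theorem facts {G : Type*} [Group G] [Finite G] {p : ℕ} [Fact p.Prime]
    (hsub : ∀ H : Subgroup G, H ≠ ⊤ → Cfsg.IsPClosed p ↥H)
    (hquo : ∀ (N : Subgroup G) [N.Normal], N ≠ ⊥ → Cfsg.IsPClosed p (G ⧸ N))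
    (P : Sylow p G) (hP : ¬ (P : Subgroup G).Normal)
    (N : Subgroup G) [N.Normal] (hN0 : N ≠ ⊥) (hN1 : N ≠ ⊤) :
    ¬ p ∣ Nat.card N ∧ N ⊔ (P : Subgroup G) = ⊤ := by
  constructor
  · intro hdvd
    obtain ⟨Q⟩ : Nonempty (Sylow p ↥N) := inferInstance
    have hQn := hsub N hN1 Q
    have hchar := Sylow.characteristic_of_normal Q hQn
    have hQ'n : ((Q : Subgroup ↥N).map N.subtype).Normal := inferInstance
    have hQ'p : IsPGroup p ((Q : Subgroup ↥N).map N.subtype) := Q.isPGroup'.map N.subtype
    have hQ'ne : (Q : Subgroup ↥N).map N.subtype ≠ ⊥ := by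
      intro h
      rw [Subgroup.map_eq_bot_iff_of_injective _ N.subtype_injective] at h
      exact Q.ne_bot_of_dvd_card hdvd h
    exact hP (Cfsg.Agent.Lib.helper77.sylow_normal_of_quotient_by_pGroup _ hQ'p
      (hquo _ hQ'ne) P)
  · by_contra hne
    have hn := Cfsg.Agent.Lib.helper77.sup_sylow_normal_of_quotient N (hquo N hN0) P
    exact hP (Cfsg.Agent.Lib.helper77.sylow_normal_of_le_normal (N ⊔ P) (hsub _ hne) P
      le_sup_right)

/-- Structure of the non-simple minimal non-p-closed groups. Call a finite group p-closed when its Sylow p-subgroups are normal, and minimal non-p-closed when it is not p-closed but every proper subgroup and every proper quotient is. If such a group G is not simple, then there is a prime q ≠ p such that G has order p · q^e, where e is the multiplicative order of q modulo p, and G has a normal subgroup A of order q^e that is elementary abelian and is a minimal normal subgroup of G (so G is the semidirect product of A by a group of order p acting irreducibly).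 -/
theorem result {G : Type*} [Group G] [Finite G] {p : ℕ} [Fact p.Prime]
    (hnc : ¬ Cfsg.IsPClosed p G) (hsub : ∀ H : Subgroup G, H ≠ ⊤ → Cfsg.IsPClosed p ↥H)
    (hquo : ∀ (N : Subgroup G) [N.Normal], N ≠ ⊥ → Cfsg.IsPClosed p (G ⧸ N)) (hns : ¬ IsSimpleGroup G) :
    ∃ q : ℕ, q.Prime ∧ q ≠ p ∧ Nat.card G = p * q ^ orderOf (q : ZMod p) ∧
      ∃ A : Subgroup G, A.Normal ∧ Nat.card ↥A = q ^ orderOf (q : ZMod p) ∧ Cfsg.IsElementaryAbelian q A ∧
        ∀ B : Subgroup G, B.Normal → B ≤ A → B = ⊥ ∨ B = A := by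
  classical
  have hp : p.Prime := Fact.out
  -- a non-normal Sylow `p`-subgroup
  obtain ⟨P, hP⟩ : ∃ P : Sylow p G, ¬ (P : Subgroup G).Normal := by
    by_contra h
    apply hnc
    intro P
    by_contra hPn
    exact h ⟨P, hPn⟩
  have hnt : Nontrivial G := by
    by_contra h
    rw [not_nontrivial_iff_subsingleton] at h
    apply hP
    exact ⟨fun n hn g => by rwa [Subsingleton.elim (g * n * g⁻¹) n]⟩
  obtain ⟨N, hNn, hN0, hN1⟩ : ∃ N : Subgroup G, N.Normal ∧ N ≠ ⊥ ∧ N ≠ ⊤ := by
    by_contra h
    apply hns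
    exact { eq_bot_or_eq_top_of_normal := fun M hM => by
              by_contra h2
              rw [not_or] at h2
              exact h ⟨M, hM, h2.1, h2.2⟩ }
  have hpG : p ∣ Nat.card G := by
    by_contra h
    exact hnc (Cfsg.Agent.S3869.isPClosed_of_not_dvd h)
  obtain ⟨y, hy⟩ := exists_prime_orderOf_dvd_card' (G := G) p hpG
  have hyp : y ^ p = 1 := by rw [← hy]; exact pow_orderOf_eq_one y
  -- facts for all proper nontrivial normal subgroups
  have F : ∀ (M : Subgroup G) [M.Normal], M ≠ ⊥ → M ≠ ⊤ →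
      ¬ p ∣ Nat.card M ∧ M.index = p ∧ (∃ n ∈ M, y * n * y⁻¹ ≠ n) := by
    intro M hMn hM0 hM1
    obtain ⟨f1, f2⟩ := facts hsub hquo P hP M hM0 hM1
    have hcent : ∃ n ∈ M, y * n * y⁻¹ ≠ n := by
      by_contra hcon
      have hall : ∀ n ∈ M, y * n * y⁻¹ = n := by
        intro n hn
        by_contra hne
        exact hcon ⟨n, hn, hne⟩
      have hyC : y ∈ Subgroup.centralizer (M : Set G) := by
        rw [Subgroup.mem_centralizer_iff]
        intro n hn
        have h1 := hall n hn
        calc n * y = y * n * y⁻¹ * y := by rw [h1]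
          _ = y * n := by simp
      have hC0 : Subgroup.centralizer (M : Set G) ≠ ⊥ := by
        intro h
        rw [h, Subgroup.mem_bot] at hyC
        rw [hyC, orderOf_one] at hy
        exact hp.one_lt.ne hy
      have hCtop : Subgroup.centralizer (M : Set G) = ⊤ := by
        by_contra hC1
        obtain ⟨g1, -⟩ := facts hsub hquo P hP (Subgroup.centralizer (M : Set G)) hC0 hC1
        apply g1
        have h1 := orderOf_dvd_natCard (⟨y, hyC⟩ : Subgroup.centralizer (M : Set G))
        rwa [Subgroup.orderOf_mk, hy] at h1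
      have hMc : M ≤ Subgroup.center G := by
        intro n hn
        rw [Subgroup.mem_center_iff]
        intro g
        have hg : g ∈ Subgroup.centralizer (M : Set G) := hCtop ▸ Subgroup.mem_top g
        rw [Subgroup.mem_centralizer_iff] at hg
        exact (hg n hn).symm
      exact hP (Cfsg.Agent.Lib.helper77.normal_of_sup_central_eq_top M P hMc f2)
    have htop : M ⊔ Subgroup.zpowers y = ⊤ := by
      by_contra hne
      obtain ⟨n, hn, hne2⟩ := hcent
      apply hne2
      exact Cfsg.Agent.Lib.helper77.conj_eq_of_sylow_normal M f1 _ (hsub _ hne)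
        (le_sup_right (a := M) (Subgroup.mem_zpowers y)) hyp
        (le_sup_left (b := Subgroup.zpowers y) hn) hn
    exact ⟨f1, Cfsg.Agent.Lib.helper77.index_eq_of_sup_zpowers_eq_top M hM1 y hy htop, hcent⟩
  obtain ⟨f1, f3, hyN⟩ := F N hN0 hN1
  have hmin : ∀ B : Subgroup G, B.Normal → B ≤ N → B = ⊥ ∨ B = N := by
    intro B hBn hBN
    by_cases hB : B = ⊥
    · exact Or.inl hB
    · right
      have hB1 : B ≠ ⊤ := fun h => hN1 (top_le_iff.mp (h ▸ hBN))
      obtain ⟨-, g3, -⟩ := F B hB hB1
      apply Subgroup.eq_of_le_of_card_ge hBN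
      have h1 := Subgroup.card_mul_index B
      have h2 := Subgroup.card_mul_index N
      rw [g3] at h1
      rw [f3] at h2
      have h3 : Nat.card B * p = Nat.card N * p := h1.trans h2.symm
      exact (Nat.eq_of_mul_eq_mul_right hp.pos h3).ge
  have hstar : ∀ R : Subgroup G, R ≤ N → (∀ n ∈ R, y * n * y⁻¹ ∈ R) →
      R ⊔ Subgroup.zpowers y ≠ ⊤ → ∀ n ∈ R, y * n * y⁻¹ = n := by
    intro R hRN _ hne n hn
    exact Cfsg.Agent.Lib.helper77.conj_eq_of_sylow_normal N f1 _ (hsub _ hne)
      (le_sup_right (a := R) (Subgroup.mem_zpowers y)) hyp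
      (le_sup_left (b := Subgroup.zpowers y) hn) (hRN hn)
  obtain ⟨q, hq, hqp, hG, hNc, hEA⟩ :=
    Cfsg.Agent.Lib.helper77.structure_of_minimal N f3 f1 hmin y hy hyN hstar
  exact ⟨q, hq, hqp, hG, N, hNn, hNc, hEA, hmin⟩

end Cfsg.Agent.S3868
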