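import Cfsg.Statements.S3869
import Cfsg.Agent.Lib.helper77.IrredPrime

set_option autoImplicit false
open Cfsg

namespace Cfsg.Agent.S3869

theorem isPClosed_of_isPGroup {H : Type*} [Group H] {p : ℕ} (h : IsPGroup p H) :
    Cfsg.IsPClosed p H := by
  intro Q
  have h1 : IsPGroup p (⊤ : Subgroup H) := fun g => by
    obtain ⟨k, hk⟩ := h (g : H)
    exact ⟨k, Subtype.ext (by simpa using hk)⟩
  have h2 : (⊤ : Subgroup H) = Q := Q.is_maximal' h1 le_top
  rw [← h2]
  infer_instance

theorem isPClosed_of_not_dvd {H : Type*} [Group H] [Finite H] {p : ℕ} [Fact p.Prime]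
    (h : ¬ p ∣ Nat.card H) : Cfsg.IsPClosed p H := by
  intro Q
  have h1 : (Q : Subgroup H) = ⊥ := by
    obtain ⟨k, hk⟩ := IsPGroup.iff_card.mp Q.isPGroup'
    have hdvd : Nat.card (Q : Subgroup H) ∣ Nat.card H := Subgroup.card_subgroup_dvd_card _
    rw [hk] at hdvd
    have hk0 : k = 0 := by
      by_contra hne
      exact h ((dvd_pow_self p hne).trans hdvd)
    rw [hk0, pow_zero] at hk
    exact Subgroup.eq_bot_of_card_eq _ hk
  rw [h1]
  infer_instance

/-- Conjugation by powers of `y` preserves a subgroup preserved by conjugation by `y`. -/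
theorem conj_pow_mem {G : Type*} [Group G] (B : Subgroup G) (y : G)
    (h : ∀ b ∈ B, y * b * y⁻¹ ∈ B) (k : ℕ) : ∀ b ∈ B, y ^ k * b * (y ^ k)⁻¹ ∈ B := by
  induction k with
  | zero => intro b hb; simpa using hb
  | succ k ih =>
    intro b hb
    have h1 := h _ (ih b hb)
    have h2 : y * (y ^ k * b * (y ^ k)⁻¹) * y⁻¹ = y ^ (k + 1) * b * (y ^ (k + 1))⁻¹ := by
      rw [pow_succ']
      simp [mul_assoc]
    rw [← h2]
    exact h1

/-- The common set-up: `A` normal abelian of index `p` and order prime to `p`, minimal normal,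
`G` non-abelian. -/
theorem structure_facts {G : Type*} [Group G] [Finite G] {p : ℕ} [Fact p.Prime]
    (hna : ¬ IsMulCommutative G) (A : Subgroup G) [A.Normal]
    (hAcomm : ∀ a ∈ A, ∀ b ∈ A, a * b = b * a) (hpA : ¬ p ∣ Nat.card A) (hidx : A.index = p)
    (hmin : ∀ B : Subgroup G, B.Normal → B ≤ A → B = ⊥ ∨ B = A) :
    (∀ y : G, orderOf y = p → A ⊔ Subgroup.zpowers y = ⊤) ∧
    (∀ y : G, orderOf y = p → ∃ a ∈ A, y * a * y⁻¹ ≠ a) ∧
    (∀ y : G, orderOf y = p → ∀ B : Subgroup G, B ≤ A → (∀ b ∈ B, y * b * y⁻¹ ∈ B) →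
      B = ⊥ ∨ B = A) := by
  have hp : p.Prime := Fact.out
  have hG : Nat.card G = Nat.card A * p := by
    rw [← hidx]
    exact (Subgroup.card_mul_index A).symm
  have key_top : ∀ y : G, orderOf y = p → A ⊔ Subgroup.zpowers y = ⊤ := by
    intro y hy
    apply Subgroup.eq_top_of_card_eq
    have h1 : Nat.card A ∣ Nat.card (A ⊔ Subgroup.zpowers y : Subgroup G) :=
      Subgroup.card_dvd_of_le le_sup_left
    have h2 : p ∣ Nat.card (A ⊔ Subgroup.zpowers y : Subgroup G) := by
      rw [← hy, ← Nat.card_zpowers]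
      exact Subgroup.card_dvd_of_le le_sup_right
    have hcop : Nat.Coprime (Nat.card A) p :=
      (Nat.Prime.coprime_iff_not_dvd hp).mpr hpA |>.symm
    have h3 : Nat.card A * p ∣ Nat.card (A ⊔ Subgroup.zpowers y : Subgroup G) :=
      Nat.Coprime.mul_dvd_of_dvd_of_dvd hcop h1 h2
    have h4 : Nat.card (A ⊔ Subgroup.zpowers y : Subgroup G) ≤ Nat.card G :=
      Subgroup.card_le_card_group _
    rw [hG] at h4 ⊢
    exact le_antisymm h4 (Nat.le_of_dvd Nat.card_pos h3)
  have key_nc : ∀ y : G, orderOf y = p → ∃ a ∈ A, y * a * y⁻¹ ≠ a := by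
    intro y hy
    by_contra hcon
    have hall : ∀ a ∈ A, y * a * y⁻¹ = a := by
      intro a ha
      by_contra hne
      exact hcon ⟨a, ha, hne⟩
    have hya : ∀ a ∈ A, y * a = a * y := by
      intro a ha
      have h1 := hall a ha
      calc y * a = y * a * y⁻¹ * y := by simp
        _ = a * y := by rw [h1]
    have hAcen : A ≤ Subgroup.center G := by
      intro a ha
      rw [Subgroup.mem_center_iff]
      have h1 : A ⊔ Subgroup.zpowers y ≤ Subgroup.centralizer ({a} : Set G) := by
        apply sup_le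
        · intro b hb
          rw [Subgroup.mem_centralizer_iff]
          intro h hh
          rw [Set.mem_singleton_iff] at hh
          subst hh
          exact hAcomm _ ha b hb
        · rw [Subgroup.zpowers_le, Subgroup.mem_centralizer_iff]
          intro h hh
          rw [Set.mem_singleton_iff] at hh
          subst hh
          exact (hya _ ha).symm
      rw [key_top y hy] at h1
      intro g
      have h2 := h1 (Subgroup.mem_top g)
      rw [Subgroup.mem_centralizer_iff] at h2
      exact (h2 a (Set.mem_singleton a)).symm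
    have hycen : y ∈ Subgroup.center G := by
      rw [Subgroup.mem_center_iff]
      have h1 : A ⊔ Subgroup.zpowers y ≤ Subgroup.centralizer ({y} : Set G) := by
        apply sup_le
        · intro b hb
          rw [Subgroup.mem_centralizer_iff]
          intro h hh
          rw [Set.mem_singleton_iff] at hh
          subst hh
          exact hya b hb
        · rw [Subgroup.zpowers_le, Subgroup.mem_centralizer_iff]
          intro h hh
          rw [Set.mem_singleton_iff] at hh
          subst hh
          rfl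
      rw [key_top y hy] at h1
      intro g
      have h2 := h1 (Subgroup.mem_top g)
      rw [Subgroup.mem_centralizer_iff] at h2
      exact (h2 y (Set.mem_singleton y)).symm
    have hcen : Subgroup.center G = ⊤ := by
      rw [eq_top_iff, ← key_top y hy]
      exact sup_le hAcen (Subgroup.zpowers_le.mpr hycen)
    apply hna
    rw [isMulCommutative_iff]
    intro a b
    have hb : b ∈ Subgroup.center G := by
      rw [hcen]
      exact Subgroup.mem_top b
    exact Subgroup.mem_center_iff.mp hb a
  refine ⟨key_top, key_nc, ?_⟩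
  intro y hy B hBA hB
  have hyp : y ^ p = 1 := by rw [← hy]; exact pow_orderOf_eq_one y
  have hnorm : Subgroup.normalizer (B : Set G) = ⊤ := by
    rw [eq_top_iff, ← key_top y hy]
    apply sup_le
    · intro a ha
      rw [Subgroup.mem_normalizer_iff]
      intro h
      constructor
      · intro hh
        have h1 : a * h * a⁻¹ = h := by
          rw [hAcomm a ha h (hBA hh)]
          simp
        rw [h1]
        exact hh
      · intro hh
        have hhA : h ∈ A := by
          have h1 : a⁻¹ * (a * h * a⁻¹) * a ∈ A :=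
            A.mul_mem (A.mul_mem (A.inv_mem ha) (hBA hh)) ha
          have h2 : a⁻¹ * (a * h * a⁻¹) * a = h := by group
          rwa [h2] at h1
        have h1 : a * h * a⁻¹ = h := by
          rw [hAcomm a ha h hhA]
          simp
        rw [h1] at hh
        exact hh
    · rw [Subgroup.zpowers_le, Subgroup.mem_normalizer_iff]
      intro h
      constructor
      · exact hB h
      · intro hh
        have h1 := conj_pow_mem B y hB (p - 1) _ hh
        have h2 : y ^ (p - 1) * (y * h * y⁻¹) * (y ^ (p - 1))⁻¹ = h := by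
          have h3 : y ^ (p - 1) * y = 1 := by
            rw [← pow_succ, Nat.sub_add_cancel hp.pos, hyp]
          have h4 : y⁻¹ * (y ^ (p - 1))⁻¹ = 1 := by
            rw [← mul_inv_rev, h3, inv_one]
          calc y ^ (p - 1) * (y * h * y⁻¹) * (y ^ (p - 1))⁻¹
              = (y ^ (p - 1) * y) * h * (y⁻¹ * (y ^ (p - 1))⁻¹) := by group
            _ = h := by rw [h3, h4]; simp
        rwa [h2] at h1
  exact hmin B (Subgroup.normalizer_eq_top_iff.mp hnorm) hBA

/-- Let p and q be distinct primes and G a finite non-abelian group with a normal elementary abelian q-subgroup A that is a minimal normal subgroup of G and has index p. Then A has order q^e with e the multiplicative order of q modulo p, and G is minimal non-p-closed: its Sylow p-subgroups are not normal, while in every proper subgroup and in every proper quotient of G the Sylow p-subgroups are normal. -/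
theorem result {G : Type*} [Group G] [Finite G] {p q : ℕ} [Fact p.Prime] (hq : q.Prime) (hpq : q ≠ p)
    (hna : ¬ IsMulCommutative G) (A : Subgroup G) [A.Normal] (hA : Cfsg.IsElementaryAbelian q A) (hidx : A.index = p)
    (hmin : ∀ B : Subgroup G, B.Normal → B ≤ A → B = ⊥ ∨ B = A) :
    Nat.card ↥A = q ^ orderOf (q : ZMod p) ∧ ¬ Cfsg.IsPClosed p G ∧ (∀ H : Subgroup G, H ≠ ⊤ → Cfsg.IsPClosed p ↥H) ∧
      ∀ (N : Subgroup G) [N.Normal], N ≠ ⊥ → Cfsg.IsPClosed p (G ⧸ N) := by
  classical
  obtain ⟨hAc, hAexp⟩ := hA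
  have hAcomm : ∀ a ∈ A, ∀ b ∈ A, a * b = b * a := fun a ha b hb =>
    congrArg Subtype.val (isMulCommutative_iff.mp hAc ⟨a, ha⟩ ⟨b, hb⟩)
  have hp : p.Prime := Fact.out
  have hqf : Fact q.Prime := ⟨hq⟩
  have hAq : IsPGroup q A := fun a => ⟨1, by
    rw [pow_one]
    exact Subtype.ext (by simpa using hAexp a a.2)⟩
  obtain ⟨n, hn⟩ := IsPGroup.iff_card.mp hAq
  have hpA : ¬ p ∣ Nat.card A := by
    rw [hn]
    intro h
    exact hpq ((Nat.prime_dvd_prime_iff_eq hp hq).mp (hp.dvd_of_dvd_pow h)).symm
  have hG : Nat.card G = Nat.card A * p := by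
    rw [← hidx]
    exact (Subgroup.card_mul_index A).symm
  obtain ⟨key_top, key_nc, key_irr⟩ := structure_facts hna A hAcomm hpA hidx hmin
  -- an element of order `p`
  obtain ⟨x, hx⟩ := exists_prime_orderOf_dvd_card' (G := G) p (by rw [hG]; exact Dvd.intro_left _ rfl)
  have hxp : x ^ p = 1 := by rw [← hx]; exact pow_orderOf_eq_one x
  refine ⟨?_, ?_, ?_, ?_⟩
  · exact Cfsg.Agent.Lib.helper77.card_eq_pow_orderOf_of_irreducible hp hq hpq A hAcomm hAexp x hxp
      (key_nc x hx) (key_irr x hx)
  · -- not `p`-closed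
    intro hcl
    obtain ⟨P, hP⟩ := (IsPGroup.of_card (p := p) (n := 1)
      (by rw [Nat.card_zpowers, hx, pow_one]) : IsPGroup p (Subgroup.zpowers x)).exists_le_sylow
    have hPn : (P : Subgroup G).Normal := hcl P
    have hdisj : Disjoint (P : Subgroup G) A :=
      IsPGroup.disjoint_of_ne p q hpq.symm _ _ P.isPGroup' hAq
    obtain ⟨a, ha, hne⟩ := key_nc x hx
    apply hne
    have hxP : x ∈ (P : Subgroup G) := hP (Subgroup.mem_zpowers x)
    have h1 : x * a * x⁻¹ * a⁻¹ ∈ A :=
      A.mul_mem (‹A.Normal›.conj_mem a ha x) (A.inv_mem ha)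
    have h2 : x * a * x⁻¹ * a⁻¹ ∈ (P : Subgroup G) := by
      have h3 : x * (a * x⁻¹ * a⁻¹) ∈ (P : Subgroup G) :=
        (P : Subgroup G).mul_mem hxP (hPn.conj_mem x⁻¹ ((P : Subgroup G).inv_mem hxP) a)
      have h4 : x * (a * x⁻¹ * a⁻¹) = x * a * x⁻¹ * a⁻¹ := by group
      rwa [h4] at h3
    have h5 : x * a * x⁻¹ * a⁻¹ = 1 := by
      have h6 := Subgroup.disjoint_def.mp hdisj h2 h1
      exact h6
    calc x * a * x⁻¹ = x * a * x⁻¹ * a⁻¹ * a := by simp
      _ = a := by rw [h5, one_mul]
  · -- proper subgroups are `p`-closed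
    intro H hH
    by_cases hpH : p ∣ Nat.card H
    · obtain ⟨y, hy⟩ := exists_prime_orderOf_dvd_card' (G := H) p hpH
      have hy' : orderOf (y : G) = p := by rw [Subgroup.orderOf_coe]; exact hy
      have hinv : ∀ b ∈ H ⊓ A, (y : G) * b * (y : G)⁻¹ ∈ H ⊓ A := by
        intro b hb
        exact ⟨H.mul_mem (H.mul_mem y.2 hb.1) (H.inv_mem y.2), ‹A.Normal›.conj_mem b hb.2 _⟩
      rcases key_irr (y : G) hy' (H ⊓ A) inf_le_right hinv with h | h
      · -- `H` embeds in `G ⧸ A`
        have hinj : Function.Injective ((QuotientGroup.mk' A).comp H.subtype) := by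
          rw [← MonoidHom.ker_eq_bot_iff, eq_bot_iff]
          intro z hz
          rw [MonoidHom.mem_ker, MonoidHom.comp_apply, QuotientGroup.mk'_apply,
            QuotientGroup.eq_one_iff] at hz
          have h1 : (z : G) ∈ H ⊓ A := ⟨z.2, hz⟩
          rw [h, Subgroup.mem_bot] at h1
          rw [Subgroup.mem_bot]
          exact Subtype.ext h1
        have hdvd : Nat.card H ∣ Nat.card (G ⧸ A) := Subgroup.card_dvd_of_injective _ hinj
        rw [← Subgroup.index_eq_card, hidx] at hdvd
        have hcard : Nat.card H = p := by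
          rcases (Nat.dvd_prime hp).mp hdvd with h1 | h1
          · rw [h1] at hpH
            exact absurd hpH hp.not_dvd_one
          · exact h1
        exact isPClosed_of_isPGroup (IsPGroup.of_card (n := 1) (by rw [hcard, pow_one]))
      · exfalso
        apply hH
        rw [eq_top_iff, ← key_top (y : G) hy']
        exact sup_le (h ▸ inf_le_left) (Subgroup.zpowers_le.mpr y.2)
    · exact isPClosed_of_not_dvd hpH
  · -- proper quotients are `p`-closed
    intro N hNn hN
    have hNA : (N ⊓ A).Normal := inferInstance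
    rcases hmin (N ⊓ A) hNA inf_le_right with h | h
    · exfalso
      have hinj : Function.Injective ((QuotientGroup.mk' A).comp N.subtype) := by
        rw [← MonoidHom.ker_eq_bot_iff, eq_bot_iff]
        intro z hz
        rw [MonoidHom.mem_ker, MonoidHom.comp_apply, QuotientGroup.mk'_apply,
          QuotientGroup.eq_one_iff] at hz
        have h1 : (z : G) ∈ N ⊓ A := ⟨z.2, hz⟩
        rw [h, Subgroup.mem_bot] at h1
        rw [Subgroup.mem_bot]
        exact Subtype.ext h1
      have hdvd : Nat.card N ∣ Nat.card (G ⧸ A) := Subgroup.card_dvd_of_injective _ hinj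
      rw [← Subgroup.index_eq_card, hidx] at hdvd
      have hcard : Nat.card N = p := by
        rcases (Nat.dvd_prime hp).mp hdvd with h1 | h1
        · exact absurd (Subgroup.eq_bot_of_card_eq _ h1) hN
        · exact h1
      obtain ⟨y, hy⟩ := exists_prime_orderOf_dvd_card' (G := N) p (by rw [hcard])
      have hy' : orderOf (y : G) = p := by rw [Subgroup.orderOf_coe]; exact hy
      obtain ⟨a, ha, hne⟩ := key_nc (y : G) hy'
      apply hne
      have h1 : (y : G) * a * (y : G)⁻¹ * a⁻¹ ∈ A :=
        A.mul_mem (‹A.Normal›.conj_mem a ha _) (A.inv_mem ha)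
      have h2 : (y : G) * a * (y : G)⁻¹ * a⁻¹ ∈ N := by
        have h3 : (y : G) * (a * (y : G)⁻¹ * a⁻¹) ∈ N :=
          N.mul_mem y.2 (hNn.conj_mem _ (N.inv_mem y.2) a)
        have h4 : (y : G) * (a * (y : G)⁻¹ * a⁻¹) = (y : G) * a * (y : G)⁻¹ * a⁻¹ := by group
        rwa [h4] at h3
      have h5 : (y : G) * a * (y : G)⁻¹ * a⁻¹ = 1 := by
        have h6 : (y : G) * a * (y : G)⁻¹ * a⁻¹ ∈ N ⊓ A := ⟨h2, h1⟩
        rw [h, Subgroup.mem_bot] at h6
        exact h6
      calc (y : G) * a * (y : G)⁻¹ = (y : G) * a * (y : G)⁻¹ * a⁻¹ * a := by simp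
        _ = a := by rw [h5, one_mul]
    · have hAN : A ≤ N := h ▸ inf_le_left
      have hdvd : N.index ∣ p := hidx ▸ Subgroup.index_dvd_of_le hAN
      rw [Subgroup.index_eq_card] at hdvd
      rcases (Nat.dvd_prime hp).mp hdvd with h1 | h1
      · exact isPClosed_of_isPGroup (IsPGroup.of_card (n := 0) (by rw [h1, pow_zero]))
      · exact isPClosed_of_isPGroup (IsPGroup.of_card (n := 1) (by rw [h1, pow_one]))

end Cfsg.Agent.S3869
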