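import Cfsg.Statements.S3870

set_option autoImplicit false
open Cfsg

namespace Cfsg.Agent.S3870

/-- In a finite `p`-group (here: a `p`-subgroup `P` of `G`), a proper subgroup `D` is properly
contained in its normalizer: there is `u ∈ P`, `u ∉ D` normalizing `D`. -/
theorem exists_normalizing {G : Type*} [Group G] [Finite G] {p : ℕ} [Fact p.Prime]
    (P : Subgroup G) (hP : IsPGroup p P) (D : Subgroup G) (hDP : D ≤ P) (hne : D ≠ P) :
    ∃ u ∈ P, u ∉ D ∧ u ∈ Subgroup.normalizer (D : Set G) := by
  have hnil : Group.IsNilpotent P := hP.isNilpotent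
  have hnc : NormalizerCondition P := Group.normalizerCondition_of_isNilpotent
  have hlt : D.subgroupOf P < ⊤ := by
    rw [lt_top_iff_ne_top]
    intro h
    rw [Subgroup.subgroupOf_eq_top] at h
    exact hne (le_antisymm hDP h)
  obtain ⟨u, hu1, hu2⟩ := SetLike.exists_of_lt (hnc _ hlt)
  refine ⟨u, u.2, ?_, ?_⟩
  · intro h
    exact hu2 (Subgroup.mem_subgroupOf.mpr h)
  · rw [Subgroup.mem_normalizer_iff] at hu1 ⊢
    intro h
    constructor
    · intro hh
      have := (hu1 ⟨h, hDP hh⟩).mp (Subgroup.mem_subgroupOf.mpr hh)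
      exact Subgroup.mem_subgroupOf.mp this
    · intro hh
      have hhP : h ∈ P := by
        have : (u : G)⁻¹ * ((u : G) * h * (u : G)⁻¹) * (u : G) ∈ P :=
          P.mul_mem (P.mul_mem (P.inv_mem u.2) (hDP hh)) u.2
        simpa [mul_assoc] using this
      have := (hu1 ⟨h, hhP⟩).mpr (Subgroup.mem_subgroupOf.mpr hh)
      exact Subgroup.mem_subgroupOf.mp this

/-- Let G be a finite simple group whose Sylow p-subgroups are not normal but such that every proper subgroup of G has a normal Sylow p-subgroup. Then any two distinct Sylow p-subgroups of G intersect trivially, and for every Sylow p-subgroup P the normalizer of every non-identity subgroup of P lies in the normalizer of P. -/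
theorem result {G : Type*} [Group G] [Finite G] [IsSimpleGroup G] {p : ℕ} [Fact p.Prime]
    (hnc : ¬ Cfsg.IsPClosed p G) (hsub : ∀ H : Subgroup G, H ≠ ⊤ → Cfsg.IsPClosed p ↥H) :
    (∀ P Q : Sylow p G, P ≠ Q → (P : Subgroup G) ⊓ (Q : Subgroup G) = ⊥) ∧
      ∀ (P : Sylow p G) (R : Subgroup G), R ≤ P → R ≠ ⊥ →
        Subgroup.normalizer (R : Set G) ≤ Subgroup.normalizer ((P : Subgroup G) : Set G) := by
  -- no nontrivial p-subgroup is normal
  have hnotnormal : ∀ D : Subgroup G, D ≠ ⊥ → IsPGroup p D →
      Subgroup.normalizer (D : Set G) ≠ ⊤ := by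
    intro D hD hDp hN
    have hDn : D.Normal := Subgroup.normalizer_eq_top_iff.mp hN
    rcases hDn.eq_bot_or_eq_top with h | h
    · exact hD h
    · apply hnc
      intro P
      have : (P : Subgroup G) = ⊤ := by
        have h1 := P.is_maximal' (Q := D) hDp (h ▸ le_top)
        rw [← h1, h]
      rw [this]
      infer_instance
  -- key step: for a p-subgroup K of a proper subgroup H that is p-closed, all of K lies in one Sylow
  have hTI : ∀ (n : ℕ) (P Q : Sylow p G), P ≠ Q →
      Nat.card G - Nat.card ↥((P : Subgroup G) ⊓ (Q : Subgroup G)) = n →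
      (P : Subgroup G) ⊓ (Q : Subgroup G) = ⊥ := by
    intro n
    induction n using Nat.strong_induction_on with
    | _ n ih =>
    intro P Q hPQ hn
    by_contra hD
    set D := (P : Subgroup G) ⊓ (Q : Subgroup G) with hDdef
    have hDp : IsPGroup p D := P.isPGroup'.to_le inf_le_left
    have hDP : D ≠ P := by
      intro h
      have hle : (P : Subgroup G) ≤ Q := h ▸ inf_le_right
      exact hPQ (Sylow.ext (P.is_maximal' Q.isPGroup' hle).symm)
    have hDQ : D ≠ Q := by
      intro h
      have hle : (Q : Subgroup G) ≤ P := h ▸ inf_le_left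
      exact hPQ (Sylow.ext (Q.is_maximal' P.isPGroup' hle))
    obtain ⟨u, huP, huD, huN⟩ := exists_normalizing (P : Subgroup G) P.isPGroup' D inf_le_left hDP
    obtain ⟨v, hvQ, hvD, hvN⟩ := exists_normalizing (Q : Subgroup G) Q.isPGroup' D inf_le_right hDQ
    set H := Subgroup.normalizer (D : Set G) with hH
    have hHtop : H ≠ ⊤ := hnotnormal D hD hDp
    have hcl := hsub H hHtop
    let S : Sylow p H := default
    have hSn : (S : Subgroup H).Normal := hcl S
    obtain ⟨T, hT⟩ := (S.isPGroup'.map H.subtype).exists_le_sylow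
    -- every p-subgroup of H lies in T
    have hKT : ∀ K : Subgroup G, IsPGroup p K → K ≤ H → K ≤ T := by
      intro K hK hKH
      have h1 : IsPGroup p (K.subgroupOf H) := hK.comap_subtype
      obtain ⟨S', hS'⟩ := h1.exists_le_sylow
      have h2 : (S : Subgroup H) ≤ S' := S.isPGroup'.le_sylow_of_normal S'
      have h3 : (S' : Subgroup H) = S := S.is_maximal' S'.isPGroup' h2
      intro k hk
      apply hT
      refine ⟨⟨k, hKH hk⟩, ?_, rfl⟩
      have : (⟨k, hKH hk⟩ : H) ∈ (S' : Subgroup H) := hS' (Subgroup.mem_subgroupOf.mpr hk)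
      rw [h3] at this
      exact this
    have hDH : D ≤ H := Subgroup.le_normalizer
    have hDT : D ≤ T := hKT D hDp hDH
    have huT : u ∈ (T : Subgroup G) := by
      have : Subgroup.zpowers u ≤ T := by
        apply hKT
        · exact P.isPGroup'.to_le (Subgroup.zpowers_le.mpr huP)
        · exact Subgroup.zpowers_le.mpr huN
      exact this (Subgroup.mem_zpowers u)
    have hvT : v ∈ (T : Subgroup G) := by
      have : Subgroup.zpowers v ≤ T := by
        apply hKT
        · exact Q.isPGroup'.to_le (Subgroup.zpowers_le.mpr hvQ)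
        · exact Subgroup.zpowers_le.mpr hvN
      exact this (Subgroup.mem_zpowers v)
    have hcardG : ∀ K : Subgroup G, Nat.card K ≤ Nat.card G := fun K =>
      Nat.card_le_card_of_injective _ Subtype.val_injective
    -- T = P
    have hTP : T = P := by
      by_contra hne
      have hle : D ≤ (T : Subgroup G) ⊓ (P : Subgroup G) := le_inf hDT inf_le_left
      have hlt : Nat.card D < Nat.card ↥((T : Subgroup G) ⊓ (P : Subgroup G)) := by
        by_contra hge
        rw [not_lt] at hge
        have := Subgroup.eq_of_le_of_card_ge hle hge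
        exact huD (this ▸ ⟨huT, huP⟩)
      have h1 := ih (Nat.card G - Nat.card ↥((T : Subgroup G) ⊓ (P : Subgroup G)))
        (by have := hcardG ((T : Subgroup G) ⊓ (P : Subgroup G)); omega) T P hne rfl
      rw [h1] at hle
      exact hD (le_bot_iff.mp hle)
    have hTQ : T = Q := by
      by_contra hne
      have hle : D ≤ (T : Subgroup G) ⊓ (Q : Subgroup G) := le_inf hDT inf_le_right
      have hlt : Nat.card D < Nat.card ↥((T : Subgroup G) ⊓ (Q : Subgroup G)) := by
        by_contra hge
        rw [not_lt] at hge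
        have := Subgroup.eq_of_le_of_card_ge hle hge
        exact hvD (this ▸ ⟨hvT, hvQ⟩)
      have h1 := ih (Nat.card G - Nat.card ↥((T : Subgroup G) ⊓ (Q : Subgroup G)))
        (by have := hcardG ((T : Subgroup G) ⊓ (Q : Subgroup G)); omega) T Q hne rfl
      rw [h1] at hle
      exact hD (le_bot_iff.mp hle)
    exact hPQ (hTP.symm.trans hTQ)
  have hTI' : ∀ P Q : Sylow p G, P ≠ Q → (P : Subgroup G) ⊓ (Q : Subgroup G) = ⊥ :=
    fun P Q hPQ => hTI _ P Q hPQ rfl
  refine ⟨hTI', ?_⟩
  intro P R hRP hR g hg
  by_contra hgP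
  have hne : g • P ≠ P := fun h => hgP (Sylow.smul_eq_iff_mem_normalizer.mp h)
  have h1 := hTI' (g • P) P hne
  have h2 : R ≤ ((g • P : Sylow p G) : Subgroup G) ⊓ (P : Subgroup G) := by
    refine le_inf ?_ hRP
    intro r hr
    rw [Sylow.coe_subgroup_smul]
    rw [Subgroup.mem_normalizer_iff''] at hg
    have h3 : g⁻¹ * r * g ∈ R := (hg r).mp hr
    exact ⟨g⁻¹ * r * g, hRP h3, by simp [MulAut.conj_apply, mul_assoc]⟩
  rw [h1] at h2
  exact hR (le_bot_iff.mp h2)

end Cfsg.Agent.S3870
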