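import Cfsg.Statements.S3873
import Cfsg.Agent.Lib.helper77.MinNonPClosed

set_option autoImplicit false
open Cfsg

namespace Cfsg.Agent.S3873

/-- Say that a finite group is p-exponent closed when its elements of order dividing p form a subgroup. Let G be a finite group that is not p-exponent closed, but all of whose proper subgroups and proper quotients are, and suppose G is neither simple nor a p-group. Then there is a prime q ≠ p such that G has order p · q^e, where e is the multiplicative order of q modulo p, and G has a normal elementary abelian subgroup of order q^e that is a minimal normal subgroup of G. -/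
theorem result {G : Type*} [Group G] [Finite G] {p : ℕ} [Fact p.Prime]
    (hnc : ¬ (∃ H : Subgroup G, (H : Set G) = {g : G | g ^ p = 1})) (hsub : ∀ K : Subgroup G, K ≠ ⊤ → (∃ H : Subgroup ↥K, (H : Set ↥K) = {g : ↥K | g ^ p = 1}))
    (hquo : ∀ (N : Subgroup G) [N.Normal], N ≠ ⊥ → (∃ H : Subgroup (G ⧸ N), (H : Set (G ⧸ N)) = {g : (G ⧸ N) | g ^ p = 1}))
    (hns : ¬ IsSimpleGroup G) (hnp : ¬ IsPGroup p G) :
    ∃ q : ℕ, q.Prime ∧ q ≠ p ∧ Nat.card G = p * q ^ orderOf (q : ZMod p) ∧
      ∃ A : Subgroup G, A.Normal ∧ Nat.card ↥A = q ^ orderOf (q : ZMod p) ∧ Cfsg.IsElementaryAbelian q A ∧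
        ∀ B : Subgroup G, B.Normal → B ≤ A → B = ⊥ ∨ B = A := by
  classical
  have hp : p.Prime := Fact.out
  -- two elements of order dividing `p` whose product is not
  obtain ⟨x, y, hx, hy, hxy⟩ : ∃ x y : G, x ^ p = 1 ∧ y ^ p = 1 ∧ (x * y) ^ p ≠ 1 := by
    by_contra hcon
    apply hnc
    refine ⟨{ carrier := {g | g ^ p = 1}, one_mem' := one_pow p, mul_mem' := ?_,
              inv_mem' := ?_ }, rfl⟩
    · intro a b ha hb
      by_contra h
      exact hcon ⟨a, b, ha, hb, h⟩
    · intro a ha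
      show a⁻¹ ^ p = 1
      rw [inv_pow, show a ^ p = 1 from ha, inv_one]
  -- they generate `G`
  have hgen : Subgroup.closure ({x, y} : Set G) = ⊤ := by
    by_contra hne
    obtain ⟨H, hH⟩ := hsub _ hne
    have hmem : ∀ g : ↥(Subgroup.closure ({x, y} : Set G)), g ∈ H ↔ g ^ p = 1 := fun g => by
      rw [← SetLike.mem_coe, hH]
      rfl
    have hxK : x ∈ Subgroup.closure ({x, y} : Set G) := Subgroup.subset_closure (by simp)
    have hyK : y ∈ Subgroup.closure ({x, y} : Set G) := Subgroup.subset_closure (by simp)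
    have h1 : (⟨x, hxK⟩ : Subgroup.closure ({x, y} : Set G)) ∈ H :=
      (hmem _).mpr (Subtype.ext (by simpa using hx))
    have h2 : (⟨y, hyK⟩ : Subgroup.closure ({x, y} : Set G)) ∈ H :=
      (hmem _).mpr (Subtype.ext (by simpa using hy))
    have h3 := (hmem _).mp (H.mul_mem h1 h2)
    apply hxy
    have h4 := congrArg Subtype.val h3
    simpa using h4
  -- every proper quotient has exponent `p`
  have hb : ∀ (M : Subgroup G) [M.Normal], M ≠ ⊥ → ∀ g : G, g ^ p ∈ M := by
    intro M hMn hM0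
    obtain ⟨H, hH⟩ := hquo M hM0
    have hmem : ∀ g : G ⧸ M, g ∈ H ↔ g ^ p = 1 := fun g => by
      rw [← SetLike.mem_coe, hH]
      rfl
    have hle : Subgroup.closure ({x, y} : Set G) ≤ H.comap (QuotientGroup.mk' M) := by
      rw [Subgroup.closure_le]
      intro g hg
      rcases hg with rfl | rfl
      · show (QuotientGroup.mk' M g) ∈ H
        rw [hmem, ← map_pow, hx, map_one]
      · show (QuotientGroup.mk' M g) ∈ H
        rw [hmem, ← map_pow, hy, map_one]
    rw [hgen] at hle
    intro g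
    have h1 : QuotientGroup.mk' M g ∈ H := hle (Subgroup.mem_top g)
    rw [hmem, ← map_pow] at h1
    exact (QuotientGroup.eq_one_iff _).mp h1
  have hnt : Nontrivial G := by
    by_contra h
    rw [not_nontrivial_iff_subsingleton] at h
    exact hnp (fun g => ⟨0, Subsingleton.elim _ _⟩)
  obtain ⟨M, hMn, hM0, hM1⟩ : ∃ M : Subgroup G, M.Normal ∧ M ≠ ⊥ ∧ M ≠ ⊤ := by
    by_contra h
    apply hns
    exact { eq_bot_or_eq_top_of_normal := fun M hM => by
              by_contra h2
              rw [not_or] at h2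
              exact h ⟨M, hM, h2.1, h2.2⟩ }
  obtain ⟨N, hNn, hN0, hNM, hmin⟩ := Cfsg.Agent.Lib.helper77.exists_minimal_normal_le M hM0
  have hN1 : N ≠ ⊤ := fun h => hM1 (top_le_iff.mp (h ▸ hNM))
  -- `N` is a `p'`-group
  have hpN : ¬ p ∣ Nat.card N := by
    intro hdvd
    obtain ⟨H, hH⟩ := hsub N hN1
    have hmem : ∀ g : ↥N, g ∈ H ↔ g ^ p = 1 := fun g => by
      rw [← SetLike.mem_coe, hH]
      rfl
    obtain ⟨E, hEdef⟩ : ∃ E : Subgroup G, ∀ g, g ∈ E ↔ (g ∈ N ∧ g ^ p = 1) :=
      ⟨{ carrier := {g | g ∈ N ∧ g ^ p = 1}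
         one_mem' := ⟨N.one_mem, one_pow p⟩
         mul_mem' := by
           rintro a b ⟨ha, ha'⟩ ⟨hb, hb'⟩
           refine ⟨N.mul_mem ha hb, ?_⟩
           have h1 : (⟨a, ha⟩ : N) ∈ H := (hmem _).mpr (Subtype.ext (by simpa using ha'))
           have h2 : (⟨b, hb⟩ : N) ∈ H := (hmem _).mpr (Subtype.ext (by simpa using hb'))
           have h3 := (hmem _).mp (H.mul_mem h1 h2)
           have h4 := congrArg Subtype.val h3
           simpa using h4
         inv_mem' := by
           rintro a ⟨ha, ha'⟩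
           exact ⟨N.inv_mem ha, by rw [inv_pow, ha', inv_one]⟩ }, fun g => Iff.rfl⟩
    have hEn : E.Normal := ⟨fun a ha g => by
      rw [hEdef] at ha ⊢
      refine ⟨hNn.conj_mem a ha.1 g, ?_⟩
      rw [conj_pow, ha.2]
      simp⟩
    have hEne : E ≠ ⊥ := by
      obtain ⟨z, hz⟩ := exists_prime_orderOf_dvd_card' (G := N) p hdvd
      intro h
      have hzE : (z : G) ∈ E := by
        rw [hEdef]
        refine ⟨z.2, ?_⟩
        have h1 : z ^ p = 1 := by rw [← hz]; exact pow_orderOf_eq_one z
        have h2 := congrArg Subtype.val h1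
        simpa using h2
      rw [h, Subgroup.mem_bot] at hzE
      have h3 : z = 1 := Subtype.ext hzE
      rw [h3, orderOf_one] at hz
      exact hp.one_lt.ne hz
    have hEN : E = N := (hmin E hEn (fun a ha => ((hEdef a).mp ha).1)).resolve_left hEne
    apply hnp
    intro g
    refine ⟨2, ?_⟩
    have h1 : g ^ p ∈ E := hEN ▸ hb N hN0 g
    have h2 := ((hEdef _).mp h1).2
    rw [pow_two, pow_mul]
    exact h2
  -- `x` and `y` cannot both centralise `N`
  have hX : ¬ ((∀ n ∈ N, x * n * x⁻¹ = n) ∧ (∀ n ∈ N, y * n * y⁻¹ = n)) := by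
    rintro ⟨hxc, hyc⟩
    have hcen : ∀ w : G, (∀ n ∈ N, w * n * w⁻¹ = n) → w ∈ Subgroup.centralizer (N : Set G) := by
      intro w hw
      rw [Subgroup.mem_centralizer_iff]
      intro n hn
      have h1 := hw n hn
      calc n * w = w * n * w⁻¹ * w := by rw [h1]
        _ = w * n := by simp
    have hC : Subgroup.centralizer (N : Set G) = ⊤ := by
      rw [eq_top_iff, ← hgen, Subgroup.closure_le]
      intro g hg
      rcases hg with rfl | rfl
      · exact hcen _ hxc
      · exact hcen _ hyc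
    have hNc : N ≤ Subgroup.center G := by
      intro n hn
      rw [Subgroup.mem_center_iff]
      intro g
      have hg : g ∈ Subgroup.centralizer (N : Set G) := hC ▸ Subgroup.mem_top g
      rw [Subgroup.mem_centralizer_iff] at hg
      exact (hg n hn).symm
    obtain ⟨P⟩ : Nonempty (Sylow p G) := inferInstance
    have hsup : N ⊔ (P : Subgroup G) = ⊤ := by
      have hquoP : IsPGroup p (G ⧸ N) := by
        intro g
        obtain ⟨g, rfl⟩ := QuotientGroup.mk'_surjective N g
        refine ⟨1, ?_⟩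
        rw [pow_one, ← map_pow]
        exact (QuotientGroup.eq_one_iff _).mpr (hb N hN0 g)
      have h1 : IsPGroup p (⊤ : Subgroup (G ⧸ N)) := fun g => by
        obtain ⟨k, hk⟩ := hquoP (g : G ⧸ N)
        exact ⟨k, Subtype.ext (by simpa using hk)⟩
      have h2 : (⊤ : Subgroup (G ⧸ N)) = (P.mapSurjective (QuotientGroup.mk'_surjective N)) :=
        (P.mapSurjective (QuotientGroup.mk'_surjective N)).is_maximal' h1 le_top
      rw [Sylow.coe_mapSurjective] at h2
      rw [← QuotientGroup.comap_map_mk', ← h2, Subgroup.comap_top]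
    have hPn := Cfsg.Agent.Lib.helper77.normal_of_sup_central_eq_top N P hNc hsup
    have hxP : x ∈ (P : Subgroup G) :=
      Cfsg.Agent.Lib.helper77.mem_sylow_of_normal_of_pow_eq_one P hPn (k := 1) (by rwa [pow_one])
    have hyP : y ∈ (P : Subgroup G) :=
      Cfsg.Agent.Lib.helper77.mem_sylow_of_normal_of_pow_eq_one P hPn (k := 1) (by rwa [pow_one])
    have hPtop : (P : Subgroup G) = ⊤ := by
      rw [eq_top_iff, ← hgen, Subgroup.closure_le]
      intro g hg
      rcases hg with rfl | rfl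
      · exact hxP
      · exact hyP
    apply hnp
    intro g
    obtain ⟨k, hk⟩ := P.isPGroup' ⟨g, hPtop ▸ Subgroup.mem_top g⟩
    exact ⟨k, by simpa using congrArg Subtype.val hk⟩
  -- an element of order `p` acting nontrivially on `N`
  obtain ⟨z, hz, hzN⟩ : ∃ z : G, z ^ p = 1 ∧ ∃ n ∈ N, z * n * z⁻¹ ≠ n := by
    by_contra hcon
    apply hX
    constructor
    · intro n hn
      by_contra hne
      exact hcon ⟨x, hx, n, hn, hne⟩
    · intro n hn
      by_contra hne
      exact hcon ⟨y, hy, n, hn, hne⟩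
  have hz1 : z ≠ 1 := by
    rintro rfl
    obtain ⟨n, hn, hne⟩ := hzN
    apply hne
    simp
  have hzo : orderOf z = p := orderOf_eq_prime hz hz1
  have htop : N ⊔ Subgroup.zpowers z = ⊤ := by
    by_contra hne
    obtain ⟨n, hn, hne2⟩ := hzN
    apply hne2
    exact Cfsg.Agent.Lib.helper77.conj_eq_of_omega_subgroup N hpN _ (hsub _ hne)
      (le_sup_right (a := N) (Subgroup.mem_zpowers z)) hz
      (le_sup_left (b := Subgroup.zpowers z) hn) hn
  have hidx := Cfsg.Agent.Lib.helper77.index_eq_of_sup_zpowers_eq_top N hN1 z hzo htop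
  have hstar : ∀ R : Subgroup G, R ≤ N → (∀ n ∈ R, z * n * z⁻¹ ∈ R) →
      R ⊔ Subgroup.zpowers z ≠ ⊤ → ∀ n ∈ R, z * n * z⁻¹ = n := by
    intro R hRN _ hne n hn
    exact Cfsg.Agent.Lib.helper77.conj_eq_of_omega_subgroup N hpN _ (hsub _ hne)
      (le_sup_right (a := R) (Subgroup.mem_zpowers z)) hz
      (le_sup_left (b := Subgroup.zpowers z) hn) (hRN hn)
  obtain ⟨q, hq, hqp, hG, hNc, hEA⟩ :=
    Cfsg.Agent.Lib.helper77.structure_of_minimal N hidx hpN hmin z hzo hzN hstar
  exact ⟨q, hq, hqp, hG, N, hNn, hNc, hEA, hmin⟩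

end Cfsg.Agent.S3873
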