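import Cfsg.Statements.S3878
import Mathlib
import Cfsg.Agent.Lib.helper69.HallSym


set_option autoImplicit false
open Cfsg

namespace Cfsg.Agent.S3878

/-- For a set of primes π the following are equivalent: every finite group has a Hall π-subgroup; in every finite group the maximal π-subgroups are pairwise conjugate; π contains at most one prime or contains every prime. -/
theorem result (π : Set ℕ) :
    ((∀ (G : Type) [Group G] [Finite G], Cfsg.IsEPiGroup π G) ↔
      ((∀ p q : ℕ, p.Prime → q.Prime → p ∈ π → q ∈ π → p = q) ∨ ∀ p : ℕ, p.Prime → p ∈ π)) ∧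
    ((∀ (G : Type) [Group G] [Finite G], Cfsg.IsDPiGroup π G) ↔
      ((∀ p q : ℕ, p.Prime → q.Prime → p ∈ π → q ∈ π → p = q) ∨ ∀ p : ℕ, p.Prime → p ∈ π)) := by
  refine ⟨⟨fun hall => ?_, fun h G _ _ => Cfsg.Agent.Lib.helper69.isEPiGroup_of_trivial π h⟩,
    ⟨fun hall => ?_, fun h G _ _ => Cfsg.Agent.Lib.helper69.isDPiGroup_of_trivial π h⟩⟩
  · by_contra hbad
    obtain ⟨G, hGrp, hFin, hG⟩ := Cfsg.Agent.Lib.helper69.exists_not_isEPiGroup π hbad
    exact hG (hall G)
  · by_contra hbad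
    obtain ⟨G, hGrp, hFin, hG⟩ := Cfsg.Agent.Lib.helper69.exists_not_isEPiGroup π hbad
    exact hG (Cfsg.Agent.Lib.helper69.isEPiGroup_of_isDPiGroup π (hall G))

end Cfsg.Agent.S3878
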