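import Cfsg.Statements.S3881
import Mathlib
import Cfsg.Agent.Lib.helper65.MetaClass
-- import your own Cfsg.Agent.* helpers here

set_option autoImplicit false
open Cfsg

namespace Cfsg.Agent.S3881

/-- Let p be an odd prime and G a finite metacyclic p-group (G has a cyclic normal subgroup with cyclic quotient). Suppose G is non-abelian with |G'| = p^n. Then for 1 ≤ i ≤ n the number of elements of G whose conjugacy class has exactly p^i elements is |Z(G)| · (p^(2i) − p^(2i−2)). -/
theorem result {G : Type*} [Group G] [Finite G] {p : ℕ} [Fact p.Prime] (hp : p ≠ 2) (hG : IsPGroup p G) (hmc : Cfsg.IsMetacyclic G) (n : ℕ) (hn : n ≠ 0) (hGn : Nat.card ↥(commutator G) = p ^ n) (i : ℕ) (hi : 1 ≤ i) (hin : i ≤ n) :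
    Nat.card {g : G // (Subgroup.centralizer ({g} : Set G)).index = p ^ i} =
      Nat.card ↥(Subgroup.center G) * (p ^ (2 * i) - p ^ (2 * i - 2)) := by
  obtain ⟨a, b, m, t, l, k, D⟩ := Cfsg.Agent.Lib.helper65.exists_MCP_of_metacyclic hp hG hmc
  have hpr : p.Prime := Fact.out
  have hnk : n = m - k := by
    rw [D.card_commutator] at hGn
    exact (Nat.pow_right_injective hpr.two_le hGn).symm
  subst hnk
  have hnt := D.n_le_t
  have hset : {g : G | (Subgroup.centralizer ({g} : Set G)).index = p ^ i} =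
      (Cfsg.Agent.Lib.helper65.mcW p a b (m - k - i) : Set G) \
        (Cfsg.Agent.Lib.helper65.mcW p a b (m - k - i + 1) : Set G) := by
    ext g
    simp only [Set.mem_ofPred_eq, Set.mem_sdiff, SetLike.mem_coe]
    exact D.index_centralizer_eq_iff hi hin g
  have hsub : (Cfsg.Agent.Lib.helper65.mcW p a b (m - k - i + 1) : Set G) ⊆
      (Cfsg.Agent.Lib.helper65.mcW p a b (m - k - i) : Set G) := by
    exact_mod_cast Cfsg.Agent.Lib.helper65.MCP.W_le_of_le (p := p) (a := a) (b := b) (m - k - i) (m - k - i + 1) (by omega)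
  have hcard : Nat.card {g : G // (Subgroup.centralizer ({g} : Set G)).index = p ^ i} =
      Set.ncard {g : G | (Subgroup.centralizer ({g} : Set G)).index = p ^ i} := rfl
  rw [hcard, hset, Set.ncard_sdiff hsub (Set.toFinite _)]
  have c1 : Set.ncard (Cfsg.Agent.Lib.helper65.mcW p a b (m - k - i) : Set G) = p ^ (m + t - 2 * (m - k - i)) := by
    rw [← D.card_W (by omega : m - k - i ≤ m - k)]; rfl
  have c2 : Set.ncard (Cfsg.Agent.Lib.helper65.mcW p a b (m - k - i + 1) : Set G) = p ^ (m + t - 2 * (m - k - i + 1)) := by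
    rw [← D.card_W (by omega : m - k - i + 1 ≤ m - k)]; rfl
  have e1 : p ^ (m + t - 2 * (m - k - i)) = p ^ (m + t - 2 * (m - k)) * p ^ (2 * i) := by
    rw [← pow_add]; congr 1; omega
  have e2 : p ^ (m + t - 2 * (m - k - i + 1)) = p ^ (m + t - 2 * (m - k)) * p ^ (2 * i - 2) := by
    rw [← pow_add]; congr 1; omega
  rw [c1, c2, D.card_center, e1, e2]
  exact (Nat.mul_sub _ _ _).symm

end Cfsg.Agent.S3881
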