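import Cfsg.Statements.S3883
import Mathlib
import Cfsg.Agent.Lib.helper65.MetaClass
-- import your own Cfsg.Agent.* helpers here

set_option autoImplicit false
open Cfsg

namespace Cfsg.Agent.S3883

/-- Let p be an odd prime and G a finite metacyclic p-group (G has a cyclic normal subgroup with cyclic quotient). Suppose G is non-abelian. Then an element g of G lies outside the Frattini subgroup if and only if its centralizer C_G(g) is abelian. -/
theorem result {G : Type*} [Group G] [Finite G] {p : ℕ} [Fact p.Prime] (hp : p ≠ 2) (hG : IsPGroup p G) (hmc : Cfsg.IsMetacyclic G) (hna : ¬ IsMulCommutative G) (g : G) :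
    g ∉ frattini G ↔ IsMulCommutative ↥(Subgroup.centralizer ({g} : Set G)) := by
  obtain ⟨a, b, m, t, l, k, D⟩ := Cfsg.Agent.Lib.helper65.exists_MCP_of_metacyclic hp hG hmc
  have hpr : p.Prime := Fact.out
  have hn1 : 1 ≤ m - k := by
    by_contra h0
    have h1 : m - k = 0 := by omega
    have h2 := D.card_commutator
    rw [h1, pow_zero, Subgroup.card_eq_one] at h2
    exact hna ((_root_.commutator_eq_bot_iff G).mp h2)
  have hnt := D.n_le_t
  rw [D.frattini_eq hG, D.abelian_iff]
  have h1 := D.index_centralizer_le_iff (by omega : m - k - 1 ≤ m - k) g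
  have e : m - k - (m - k - 1) = 1 := by omega
  rw [e] at h1
  rw [← h1]
  obtain ⟨j, hj⟩ : ∃ j, (Subgroup.centralizer ({g} : Set G)).index = p ^ j := by
    rw [D.index_centralizer_singleton]; exact D.orderOf_mk_center g
  have h2 := Subgroup.card_mul_index (Subgroup.centralizer ({g} : Set G))
  have h3 := Subgroup.card_mul_index (commutator G)
  rw [D.card_commutator] at h3
  rw [hj] at h2 ⊢
  rw [Nat.pow_le_pow_iff_right hpr.one_lt]
  have hjle : j ≤ m + t := by
    have : p ^ j ∣ p ^ (m + t) := by rw [← D.card_G, ← h2]; exact Dvd.intro_left _ rfl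
    exact (Nat.pow_dvd_pow_iff_le_right hpr.one_lt).mp this
  have hc : Nat.card (Subgroup.centralizer ({g} : Set G)) = p ^ (m + t - j) := by
    have h4 : Nat.card (Subgroup.centralizer ({g} : Set G)) * p ^ j = p ^ (m + t - j) * p ^ j := by
      rw [h2, D.card_G, ← pow_add]; congr 1; omega
    exact Nat.eq_of_mul_eq_mul_right (pow_pos hpr.pos j) h4
  rw [hc, D.index_commutator, Nat.pow_le_pow_iff_right hpr.one_lt]
  omega

end Cfsg.Agent.S3883
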