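import Cfsg.Statements.S3884
import Mathlib
import Cfsg.Agent.Lib.helper65.MetaClass
-- import your own Cfsg.Agent.* helpers here

set_option autoImplicit false
open Cfsg

namespace Cfsg.Agent.S3884

open Subgroup Cfsg.Agent.Lib.helper65

theorem exists_solve' {G : Type*} [Group G] {p : ℕ} [hp : Fact p.Prime] {a b : G} {m t l k : ℕ}
    (D : MCP p a b m t l k) {c v c₀ : ℕ} (hc : PV p c v) (hc₀ : p ^ v ∣ c₀) :
    ∃ u' : ℕ, a ^ c₀ = a ^ (u' * c) := by
  rcases Nat.eq_zero_or_pos m with rfl | hm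
  · have ha1 : a = 1 := by rw [← orderOf_eq_one_iff, D.ha, pow_zero]
    exact ⟨0, by rw [ha1]; simp⟩
  obtain ⟨c', hc', hnd⟩ := hc.exists_eq
  obtain ⟨d, rfl⟩ := hc₀
  have hcop : Nat.Coprime c' (p ^ m) :=
    Nat.Coprime.pow_right _ ((Nat.Prime.coprime_iff_not_dvd hp.out).mpr hnd).symm
  obtain ⟨c'', -, hc''⟩ := Nat.exists_mul_mod_eq_one_of_coprime hcop
    (Nat.one_lt_pow hm.ne' hp.out.one_lt)
  refine ⟨d * c'', ?_⟩
  rw [hc', pow_eq_pow_iff_modEq, D.ha]
  have h1 : c' * c'' ≡ 1 [MOD p ^ m] := by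
    unfold Nat.ModEq
    rw [hc'', Nat.mod_eq_of_lt (Nat.one_lt_pow hm.ne' hp.out.one_lt)]
  have h2 := (h1.mul_left (p ^ v * d)).symm
  rw [mul_one] at h2
  have e : d * c'' * (p ^ v * c') = p ^ v * d * (c' * c'') := by ring
  rw [e]
  exact h2

/-- the inverse of `a^c₀` as a natural power with the same divisibility. -/
theorem inv_pow_a {G : Type*} [Group G] {p : ℕ} [hp : Fact p.Prime] {a b : G} {m t l k : ℕ}
    (D : MCP p a b m t l k) (c₀ : ℕ) : (a ^ c₀)⁻¹ = a ^ (c₀ * (p ^ m - 1)) := by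
  rw [inv_eq_iff_mul_eq_one, ← pow_add, D.pow_eq_one_iff]
  have : c₀ + c₀ * (p ^ m - 1) = c₀ * p ^ m := by
    have : 1 ≤ p ^ m := Nat.one_le_pow _ _ hp.out.pos
    obtain ⟨w, hw⟩ := Nat.exists_eq_add_of_le this
    rw [hw]; simp; ring
  rw [this]; exact Dvd.intro_left _ rfl

/-- Let p be an odd prime and G a finite metacyclic p-group (G has a cyclic normal subgroup with cyclic quotient). Then G is the product of two cyclic subgroups with trivial intersection: there are cyclic subgroups A and B with A ∩ B = 1 and |A| · |B| = |G|. -/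
theorem result {G : Type*} [Group G] [Finite G] {p : ℕ} [Fact p.Prime] (hp : p ≠ 2) (hG : IsPGroup p G) (hmc : Cfsg.IsMetacyclic G) : ∃ A B : Subgroup G, IsCyclic ↥A ∧ IsCyclic ↥B ∧ A ⊓ B = ⊥ ∧ Nat.card ↥A * Nat.card ↥B = Nat.card G := by
  obtain ⟨a, b, m, t, l, k, D⟩ := exists_MCP_of_metacyclic hp hG hmc
  have hpr : p.Prime := Fact.out
  have hN := D.normal_N
  have hbN : b ^ p ^ t ∈ zpowers a := (D.hbt _).mpr dvd_rfl
  -- orders modulo N
  have hmk : ∀ (i y j : ℕ), (a ^ i * b ^ y) ^ j ∈ zpowers a ↔ p ^ t ∣ y * j := by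
    intro i y j
    rw [← QuotientGroup.eq_one_iff, QuotientGroup.mk_pow, D.mk_eq, ← pow_mul,
      ← D.orderOf_mk_b, orderOf_dvd_iff_pow_eq_one]
  by_cases hA : ∃ c₀ : ℕ, b ^ p ^ t = a ^ c₀ ∧ p ^ t ∣ c₀
  · -- case A: N has a cyclic complement
    obtain ⟨c₀, hc₀, hdv⟩ := hA
    have hS := D.pvgeom 1 t
    obtain ⟨i, hi⟩ := exists_solve' D hS (Dvd.dvd.mul_right hdv (p ^ m - 1))
    obtain ⟨g, hg⟩ : ∃ g, g = a ^ i * b ^ 1 := ⟨_, rfl⟩
    have hgp : g ^ p ^ t = 1 := by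
      rw [hg, mc_pow D.hconj, one_mul, ← hi, ← inv_pow_a D, hc₀, inv_mul_cancel]
    refine ⟨zpowers a, zpowers g, inferInstance, inferInstance, ?_, ?_⟩
    · rw [eq_bot_iff]
      rintro x ⟨hx1, hx2⟩
      obtain ⟨j, rfl⟩ := (mem_powers_iff_mem_zpowers).mpr hx2
      have h1 : g ^ j ∈ zpowers a := hx1
      rw [hg, hmk, one_mul] at h1
      obtain ⟨j', rfl⟩ := h1
      rw [Subgroup.mem_bot]
      show g ^ (p ^ t * j') = 1
      rw [pow_mul, hgp, one_pow]
    · rw [Nat.card_zpowers, Nat.card_zpowers, D.ha, D.card_G, pow_add]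
      congr 1
      apply Nat.dvd_antisymm
      · exact orderOf_dvd_of_pow_eq_one hgp
      · have h1 : (a ^ i * b ^ 1) ^ orderOf g ∈ zpowers a := by
          rw [← hg, pow_orderOf_eq_one]; exact Subgroup.one_mem _
        rw [hmk, one_mul] at h1
        exact h1
  · -- case B: ⟨b⟩ has a cyclic complement
    obtain ⟨w, hwm, hw⟩ := subgroup_zpowers_prime_pow D.ha (zpowers (b ^ p ^ t))
      (Subgroup.zpowers_le.mpr hbN)
    have hbw : b ^ p ^ t ∈ zpowers (a ^ p ^ w) := hw ▸ Subgroup.mem_zpowers _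
    obtain ⟨c₀, hc₀⟩ := (D.mem_N _).mp hbN
    have hc₀w : p ^ w ∣ c₀ := by
      rw [hc₀, pow_mem_zpowers_prime_pow D.ha hwm] at hbw; exact hbw
    have hwt : w < t := by
      by_contra hle
      exact hA ⟨c₀, hc₀, dvd_trans (pow_dvd_pow p (by omega)) hc₀w⟩
    have hwm' : w < m := by
      by_contra hle
      have hwm2 : w = m := by omega
      have h1 : a ^ p ^ w = 1 := by rw [hwm2, D.pow_eq_one_iff]
      rw [h1, Subgroup.zpowers_one_eq_bot, Subgroup.mem_bot] at hbw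
      exact hA ⟨0, by rw [hbw]; simp, dvd_zero _⟩
    have hS := D.pvgeom (p ^ (t - w)) w
    obtain ⟨i, hi⟩ := exists_solve' D hS (Dvd.dvd.mul_right hc₀w (p ^ m - 1))
    obtain ⟨g, hg⟩ : ∃ g, g = a ^ i * b ^ p ^ (t - w) := ⟨_, rfl⟩
    have hptw : p ^ (t - w) * p ^ w = p ^ t := by rw [← pow_add]; congr 1; omega
    have hgp : g ^ p ^ w = 1 := by
      rw [hg, mc_pow D.hconj, hptw, ← hi, ← inv_pow_a D, hc₀, inv_mul_cancel]
    -- p does not divide i
    have hpi : ¬ p ∣ i := by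
      rintro ⟨i', rfl⟩
      obtain ⟨S', hS'⟩ := (hS w).mpr le_rfl
      have h1 : (b ^ p ^ t)⁻¹ ∈ zpowers (a ^ p ^ (w + 1)) := by
        rw [hc₀, inv_pow_a D, hi, hS', show p * i' * (p ^ w * S') = p ^ (w + 1) * (i' * S') by ring,
          pow_mul]
        exact Subgroup.pow_mem _ (Subgroup.mem_zpowers _) _
      have h2 : zpowers (b ^ p ^ t) ≤ zpowers (a ^ p ^ (w + 1)) := by
        rw [Subgroup.zpowers_le]
        simpa using Subgroup.inv_mem _ h1
      have h3 : a ^ p ^ w ∈ zpowers (a ^ p ^ (w + 1)) := h2 (hw ▸ Subgroup.mem_zpowers _)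
      rw [pow_mem_zpowers_prime_pow D.ha (by omega : w + 1 ≤ m),
        Nat.pow_dvd_pow_iff_le_right hpr.one_lt] at h3
      omega
    -- key: powers of g in ⟨b⟩
    have key : ∀ r : ℕ, g ^ r ∈ zpowers b → p ^ w ∣ r := by
      intro r hr
      rw [hg, mc_pow D.hconj] at hr
      have h1 : a ^ (i * ∑ q ∈ Finset.range r, l ^ (p ^ (t - w) * q)) ∈ zpowers b := by
        have := Subgroup.mul_mem _ hr (Subgroup.inv_mem _
          (Subgroup.pow_mem _ (Subgroup.mem_zpowers b) (p ^ (t - w) * r)))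
        simpa using this
      obtain ⟨j, hj⟩ := (mem_powers_iff_mem_zpowers).mpr h1
      have hj' : b ^ j = a ^ (i * ∑ q ∈ Finset.range r, l ^ (p ^ (t - w) * q)) := hj
      have h2 : b ^ j ∈ zpowers a := by
        rw [hj']; exact Subgroup.pow_mem _ (Subgroup.mem_zpowers a) _
      obtain ⟨j', rfl⟩ := (D.hbt j).mp h2
      have h3 : a ^ (i * ∑ q ∈ Finset.range r, l ^ (p ^ (t - w) * q)) ∈ zpowers (a ^ p ^ w) := by
        rw [← hj', ← hw, pow_mul]
        exact Subgroup.pow_mem _ (Subgroup.mem_zpowers _) _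
      rw [pow_mem_zpowers_prime_pow D.ha hwm] at h3
      have hcop : Nat.Coprime (p ^ w) i :=
        Nat.Coprime.pow_left _ ((Nat.Prime.coprime_iff_not_dvd hpr).mpr hpi)
      have h4 := hcop.dvd_of_dvd_mul_left h3
      exact (mc_geom_dvd D.hp2 D.hl D.hk D.hk1 _ r w).mp h4
    refine ⟨zpowers b, zpowers g, inferInstance, inferInstance, ?_, ?_⟩
    · rw [eq_bot_iff]
      rintro x ⟨hx1, hx2⟩
      obtain ⟨r, rfl⟩ := (mem_powers_iff_mem_zpowers).mpr hx2
      have h1 : g ^ r ∈ zpowers b := hx1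
      obtain ⟨r', rfl⟩ := key r h1
      rw [Subgroup.mem_bot]
      show g ^ (p ^ w * r') = 1
      rw [pow_mul, hgp, one_pow]
    · have hog : orderOf g = p ^ w := by
        apply Nat.dvd_antisymm
        · exact orderOf_dvd_of_pow_eq_one hgp
        · apply key
          rw [pow_orderOf_eq_one]; exact Subgroup.one_mem _
      have hob1 : p ^ t ∣ orderOf b := by
        apply (D.hbt _).mp
        rw [pow_orderOf_eq_one]; exact Subgroup.one_mem _
      have hob2 : orderOf (b ^ p ^ t) = p ^ (m - w) := by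
        rw [← Nat.card_zpowers, hw, card_zpowers_prime_pow D.ha hwm]
      have hob : orderOf b = p ^ t * p ^ (m - w) := by
        rw [← hob2, orderOf_pow_of_dvd (pow_pos hpr.pos t).ne' hob1, Nat.mul_div_cancel' hob1]
      rw [Nat.card_zpowers, Nat.card_zpowers, hog, hob, D.card_G, ← pow_add, ← pow_add]
      congr 1; omega

end Cfsg.Agent.S3884
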