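import Cfsg.Statements.S3885
import Mathlib
import Cfsg.Agent.Lib.helper65.MetaClass
-- import your own Cfsg.Agent.* helpers here

set_option autoImplicit false
open Cfsg

namespace Cfsg.Agent.S3885

/-- Let p be an odd prime and G a finite metacyclic p-group (G has a cyclic normal subgroup with cyclic quotient). Then every abelian subgroup K of G containing the center of G is the center of its own centralizer: K = Z(C_G(K)). -/
theorem result {G : Type*} [Group G] [Finite G] {p : ℕ} [Fact p.Prime] (hp : p ≠ 2) (hG : IsPGroup p G) (hmc : Cfsg.IsMetacyclic G) (K : Subgroup G) (hK : IsMulCommutative ↥K) (hZ : Subgroup.center G ≤ K) :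
    K = Subgroup.centralizer (K : Set G) ⊓ Subgroup.centralizer (Subgroup.centralizer (K : Set G) : Set G) := by
  obtain ⟨a, b, m, t, l, k, D⟩ := Cfsg.Agent.Lib.helper65.exists_MCP_of_metacyclic hp hG hmc
  obtain ⟨C, hC⟩ : ∃ C, C = Subgroup.centralizer (K : Set G) := ⟨_, rfl⟩
  rw [← hC]
  have hKC : K ≤ C := by
    rw [hC]
    intro x hx
    rw [Subgroup.mem_centralizer_iff]
    intro y hy
    have := hK.is_comm.comm ⟨y, hy⟩ ⟨x, hx⟩
    exact congrArg Subtype.val this
  have hKCC : K ≤ Subgroup.centralizer (C : Set G) := by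
    rw [← Subgroup.le_centralizer_iff, hC]
  have hle : K ≤ C ⊓ Subgroup.centralizer (C : Set G) := le_inf hKC hKCC
  -- the right side is the centre of C
  have hT : C ⊓ Subgroup.centralizer (C : Set G) = (Subgroup.center ↥C).map C.subtype := by
    ext x
    simp only [Subgroup.mem_inf, Subgroup.mem_map, Subgroup.coe_subtype]
    constructor
    · rintro ⟨h1, h2⟩
      refine ⟨⟨x, h1⟩, ?_, rfl⟩
      rw [Subgroup.mem_center_iff]
      intro y
      apply Subtype.ext
      exact (Subgroup.mem_centralizer_iff.mp h2) y.1 y.2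
    · rintro ⟨y, hy, rfl⟩
      refine ⟨y.2, ?_⟩
      rw [Subgroup.mem_centralizer_iff]
      intro c hc
      have := (Subgroup.mem_center_iff.mp hy) ⟨c, hc⟩
      exact congrArg Subtype.val this
  have hcardT : Nat.card (C ⊓ Subgroup.centralizer (C : Set G) : Subgroup G) = Nat.card (Subgroup.center ↥C) := by
    rw [hT]; exact Subgroup.card_map_of_injective C.subtype_injective
  have h1 := D.card_mul_card_centralizer K hZ
  rw [← hC] at h1
  have h2 := (D.card_mul_card_center C).1
  rw [D.index_commutator_sq, ← h1, mul_comm (Nat.card K)] at h2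
  have hpos : 0 < Nat.card C := Nat.card_pos
  have h3 : Nat.card (Subgroup.center ↥C) ≤ Nat.card K := Nat.le_of_mul_le_mul_left h2 hpos
  exact Subgroup.eq_of_le_of_card_ge hle (hcardT ▸ h3)

end Cfsg.Agent.S3885
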