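import Cfsg.Statements.S3886
import Mathlib
import Cfsg.Agent.Lib.helper65.MetaThms
-- import your own Cfsg.Agent.* helpers here

set_option autoImplicit false
open Cfsg

namespace Cfsg.Agent.S3886

/-- Let p be an odd prime and G a finite metacyclic p-group (G has a cyclic normal subgroup with cyclic quotient). Then the largest value of |R| · |Z(R)| over subgroups R of G is |G : G'|², and the subgroups attaining it (the centrally large subgroups) are exactly the non-abelian subgroups together with the maximal abelian subgroups of G. -/
theorem result {G : Type*} [Group G] [Finite G] {p : ℕ} [Fact p.Prime] (hp : p ≠ 2) (hG : IsPGroup p G) (hmc : Cfsg.IsMetacyclic G) : Cfsg.maxCentralProduct G = (commutator G).index ^ 2 ∧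
    ∀ R : Subgroup G, Cfsg.IsCentrallyLarge R ↔ (¬ IsMulCommutative ↥R ∨ Maximal (fun K : Subgroup G => IsMulCommutative ↥K) R) := by
  obtain ⟨a, b, m, t, l, k, D⟩ := Cfsg.Agent.Lib.helper65.exists_MCP_of_metacyclic hp hG hmc
  have hmax : Cfsg.maxCentralProduct G = (commutator G).index ^ 2 := by
    unfold Cfsg.maxCentralProduct
    apply IsGreatest.csSup_eq
    constructor
    · refine ⟨⊤, ?_⟩
      rw [(D.card_mul_card_center ⊤).2]
      by_cases hab : IsMulCommutative ↥(⊤ : Subgroup G)
      · right
        have hG' : IsMulCommutative G := by
          constructor; constructor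
          intro x y
          have := hab.is_comm.comm ⟨x, Subgroup.mem_top x⟩ ⟨y, Subgroup.mem_top y⟩
          exact congrArg Subtype.val this
        have h1 : commutator G = ⊥ := (_root_.commutator_eq_bot_iff G).mpr hG'
        rw [h1, Subgroup.index_bot]
        exact Nat.card_congr (Subgroup.topEquiv).toEquiv
      · left; exact hab
    · rintro x ⟨R, rfl⟩
      exact (D.card_mul_card_center R).1
  refine ⟨hmax, fun R => ?_⟩
  unfold Cfsg.IsCentrallyLarge
  rw [hmax, (D.card_mul_card_center R).2, D.maximal_abelian_iff R]

end Cfsg.Agent.S3886
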