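import Cfsg.Statements.S3887
import Mathlib
import Cfsg.Agent.Lib.helper65.MetaClass
-- import your own Cfsg.Agent.* helpers here

set_option autoImplicit false
open Cfsg

namespace Cfsg.Agent.S3887

theorem centralizer_sup_center {G : Type*} [Group G] (R : Subgroup G) :
    Subgroup.centralizer ((R ⊔ Subgroup.center G : Subgroup G) : Set G) = Subgroup.centralizer (R : Set G) := by
  apply le_antisymm
  · exact Subgroup.centralizer_le (by exact_mod_cast (le_sup_left : R ≤ R ⊔ Subgroup.center G))
  · rw [Subgroup.le_centralizer_iff]
    apply sup_le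
    · rw [← Subgroup.le_centralizer_iff]
    · exact Subgroup.center_le_centralizer _

/-- Let p be an odd prime and G a finite metacyclic p-group (G has a cyclic normal subgroup with cyclic quotient). Then a subgroup R of G maximizes |R| · |C_G(R)| over all subgroups of G if and only if R contains the center of G. -/
theorem result {G : Type*} [Group G] [Finite G] {p : ℕ} [Fact p.Prime] (hp : p ≠ 2) (hG : IsPGroup p G) (hmc : Cfsg.IsMetacyclic G) (R : Subgroup G) : Cfsg.IsCentralizerLarge R ↔ Subgroup.center G ≤ R := by
  obtain ⟨a, b, m, t, l, k, D⟩ := Cfsg.Agent.Lib.helper65.exists_MCP_of_metacyclic hp hG hmc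
  have hbound : ∀ S : Subgroup G, Nat.card S * Nat.card (Subgroup.centralizer (S : Set G)) ≤
      Nat.card G * Nat.card (Subgroup.center G) := by
    intro S
    have h1 := D.card_mul_card_centralizer (S ⊔ Subgroup.center G) le_sup_right
    rw [centralizer_sup_center] at h1
    rw [← h1]
    exact Nat.mul_le_mul_right _ (Subgroup.card_le_of_le le_sup_left)
  have hmax : Cfsg.maxCentralizerProduct G = Nat.card G * Nat.card (Subgroup.center G) := by
    unfold Cfsg.maxCentralizerProduct
    apply IsGreatest.csSup_eq
    constructor
    · exact ⟨⊤, D.card_mul_card_centralizer ⊤ le_top⟩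
    · rintro x ⟨S, rfl⟩
      exact hbound S
  unfold Cfsg.IsCentralizerLarge
  rw [hmax]
  constructor
  · intro h
    have h1 := D.card_mul_card_centralizer (R ⊔ Subgroup.center G) le_sup_right
    rw [centralizer_sup_center, ← h] at h1
    have hpos : 0 < Nat.card (Subgroup.centralizer (R : Set G)) := Nat.card_pos
    have h2 : Nat.card (R ⊔ Subgroup.center G : Subgroup G) = Nat.card R :=
      Nat.eq_of_mul_eq_mul_right hpos h1
    have h3 : R = R ⊔ Subgroup.center G := Subgroup.eq_of_le_of_card_ge le_sup_left h2.le
    rw [h3]; exact le_sup_right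
  · intro h
    exact D.card_mul_card_centralizer R h

end Cfsg.Agent.S3887
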