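import Cfsg.Statements.S3889

set_option autoImplicit false
open Cfsg

namespace Cfsg.Agent.S3889

/-- A finite abelian group that is the union of a family of proper subgroups any two of which intersect trivially is elementary abelian: its exponent is a prime. -/
theorem result {G : Type*} [CommGroup G] [Finite G] (𝓑 : Set (Subgroup G)) (hprop : ∀ B ∈ 𝓑, B ≠ ⊤)
    (hcov : ∀ g : G, ∃ B ∈ 𝓑, g ∈ B) (hdisj : ∀ B ∈ 𝓑, ∀ C ∈ 𝓑, B ≠ C → B ⊓ C = ⊥) :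
    (Monoid.exponent G).Prime := by
  -- if a ≠ 1 lies in the member B₁ and b does not, then b ^ orderOf a = 1
  have key : ∀ (a b : G) (B₁ : Subgroup G), B₁ ∈ 𝓑 → a ≠ 1 → a ∈ B₁ → b ∉ B₁ →
      b ^ orderOf a = 1 := by
    intro a b B₁ hB₁ ha haB hb
    by_contra hne
    obtain ⟨B₂, hB₂, hbB₂⟩ := hcov b
    obtain ⟨B₃, hB₃, habB₃⟩ := hcov (a * b)
    have h1 : (a * b) ^ orderOf a = b ^ orderOf a := by
      rw [mul_pow, pow_orderOf_eq_one, one_mul]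
    have h2 : b ^ orderOf a ∈ B₂ ⊓ B₃ :=
      ⟨B₂.pow_mem hbB₂ _, h1 ▸ B₃.pow_mem habB₃ _⟩
    have h3 : B₂ = B₃ := by
      by_contra h23
      rw [hdisj B₂ hB₂ B₃ hB₃ h23, Subgroup.mem_bot] at h2
      exact hne h2
    have h4 : a ∈ B₂ := by
      have : a * b * b⁻¹ ∈ B₂ := B₂.mul_mem (h3 ▸ habB₃) (B₂.inv_mem hbB₂)
      simpa using this
    have h5 : B₁ ≠ B₂ := fun h => hb (h ▸ hbB₂)
    have h6 : a ∈ B₁ ⊓ B₂ := ⟨haB, h4⟩
    rw [hdisj B₁ hB₁ B₂ hB₂ h5, Subgroup.mem_bot] at h6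
    exact ha h6
  -- b ∉ B₁ implies every member containing b misses a
  have key2 : ∀ (a b : G) (B₁ : Subgroup G), B₁ ∈ 𝓑 → a ≠ 1 → a ∈ B₁ → b ∉ B₁ →
      orderOf a = orderOf b := by
    intro a b B₁ hB₁ ha haB hb
    have hb1 : b ≠ 1 := fun h => hb (h ▸ B₁.one_mem)
    obtain ⟨B₂, hB₂, hbB₂⟩ := hcov b
    have ha2 : a ∉ B₂ := by
      intro h
      have h5 : B₁ ≠ B₂ := fun h' => hb (h' ▸ hbB₂)
      have h6 : a ∈ B₁ ⊓ B₂ := ⟨haB, h⟩
      rw [hdisj B₁ hB₁ B₂ hB₂ h5, Subgroup.mem_bot] at h6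
      exact ha h6
    exact Nat.dvd_antisymm (orderOf_dvd_of_pow_eq_one (key b a B₂ hB₂ hb1 hbB₂ ha2))
      (orderOf_dvd_of_pow_eq_one (key a b B₁ hB₁ ha haB hb))
  -- a nontrivial element
  obtain ⟨B₀, hB₀, -⟩ := hcov 1
  obtain ⟨b₀, hb₀⟩ : ∃ b₀ : G, b₀ ∉ B₀ := by
    by_contra h
    rw [not_exists] at h
    exact hprop B₀ hB₀ (Subgroup.eq_top_iff' B₀ |>.mpr fun x => not_not.mp (h x))
  have hb₀1 : b₀ ≠ 1 := fun h => hb₀ (h ▸ B₀.one_mem)
  set m := orderOf b₀ with hm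
  have hall : ∀ a : G, a ≠ 1 → orderOf a = m := by
    intro a ha
    obtain ⟨Ba, hBa, haBa⟩ := hcov a
    by_cases hb : b₀ ∈ Ba
    · obtain ⟨c, hc⟩ : ∃ c : G, c ∉ Ba := by
        by_contra h
        rw [not_exists] at h
        exact hprop Ba hBa (Subgroup.eq_top_iff' Ba |>.mpr fun x => not_not.mp (h x))
      rw [key2 a c Ba hBa ha haBa hc, hm, key2 b₀ c Ba hBa hb₀1 hb hc]
    · exact key2 a b₀ Ba hBa ha haBa hb
  have hm0 : m ≠ 0 := (orderOf_pos b₀).ne'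
  have hm1 : m ≠ 1 := fun h => hb₀1 (orderOf_eq_one_iff.mp h)
  have hmprime : m.Prime := by
    obtain ⟨q, hq, hqm⟩ := Nat.exists_prime_and_dvd hm1
    have h1 : orderOf (b₀ ^ (m / q)) = q := orderOf_pow_orderOf_div hm0 hqm
    have h2 : b₀ ^ (m / q) ≠ 1 := by
      intro h
      rw [h, orderOf_one] at h1
      exact hq.one_lt.ne h1
    rw [← hall _ h2, h1]
    exact hq
  have hexp : Monoid.exponent G = m := by
    apply Nat.dvd_antisymm
    · rw [Monoid.exponent_dvd]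
      intro g
      by_cases hg : g = 1
      · rw [hg, orderOf_one]; exact one_dvd _
      · rw [hall g hg]
    · exact Monoid.order_dvd_exponent b₀
  rw [hexp]
  exact hmprime

end Cfsg.Agent.S3889
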