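import Cfsg.Statements.S3890
import Cfsg.Agent.Lib.helper68.NilCover

set_option autoImplicit false
open Cfsg

namespace Cfsg.Agent.S3890

open Cfsg.Agent.Lib.helper68

/-- A cover of a group is a finite set of proper subgroups whose union is the whole group; it is minimal when no cover has fewer members, and nilpotent when all its members are nilpotent. Let G be a finite group with trivial center admitting a nilpotent minimal cover 𝓐, and let P be an abelian Sylow p-subgroup of G that is not normal. Then either P is elementary abelian of order greater than p, or P is a Sylow p-subgroup of some member A of 𝓐, the normalizer N of P is a maximal subgroup of G, N meets each of its conjugates by elements outside N in a subgroup of order prime to p, and the centralizer of P equals A. -/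
theorem result {G : Type*} [Group G] [Finite G] (hZ : Subgroup.center G = ⊥) (𝓐 : Finset (Subgroup G))
    (h𝓐 : ((∀ A ∈ 𝓐, A ≠ ⊤) ∧ (∀ g : G, ∃ A ∈ 𝓐, g ∈ A)) ∧ (∀ 𝓑 : Finset (Subgroup G), (∀ A ∈ 𝓑, A ≠ ⊤) ∧ (∀ g : G, ∃ A ∈ 𝓑, g ∈ A) → 𝓐.card ≤ 𝓑.card) ∧ (∀ A ∈ 𝓐, Group.IsNilpotent ↥A)) {p : ℕ} [Fact p.Prime] (P : Sylow p G) (hab : IsMulCommutative ↥(P : Subgroup G))
    (hnn : ¬ (P : Subgroup G).Normal) :
    (Cfsg.IsElementaryAbelian p (P : Subgroup G) ∧ p < Nat.card ↥(P : Subgroup G)) ∨
    (∃ A ∈ 𝓐, (P : Subgroup G) ≤ A ∧ ¬ p ∣ ((P : Subgroup G).subgroupOf A).index ∧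
      IsCoatom (Subgroup.normalizer ((P : Subgroup G) : Set G)) ∧
      (∀ g : G, g ∉ Subgroup.normalizer ((P : Subgroup G) : Set G) →
        ¬ p ∣ Nat.card ↥(Subgroup.normalizer ((P : Subgroup G) : Set G) ⊓
          (Subgroup.normalizer ((P : Subgroup G) : Set G)).map (MulAut.conj g).toMonoidHom)) ∧
      Subgroup.centralizer ((P : Subgroup G) : Set G) = A) := by
  have hpp : p.Prime := Fact.out
  by_cases h : Cfsg.IsElementaryAbelian p (P : Subgroup G) ∧ p < Nat.card ↥(P : Subgroup G)
  · exact Or.inl h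
  right
  have hP1 : (P : Subgroup G) ≠ ⊥ := fun h => hnn (h ▸ inferInstance)
  have hP : SylowCycOrNotExp p (P : Subgroup G) := by
    by_cases hexp : ∀ x ∈ (P : Subgroup G), x ^ p = 1
    · left
      have hcard : Nat.card ↥(P : Subgroup G) ≤ p := by
        by_contra hlt
        exact h ⟨⟨hab, hexp⟩, not_le.mp hlt⟩
      obtain ⟨k, hk⟩ := P.isPGroup'.exists_card_eq
      have hk1 : k = 1 := by
        rcases k with _ | _ | k
        · exfalso
          apply hP1
          rw [pow_zero] at hk
          exact (Subgroup.card_eq_one).mp hk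
        · rfl
        · exfalso
          have h1 : p ^ 1 < p ^ (k + 2) := Nat.pow_lt_pow_right hpp.one_lt (by omega)
          rw [pow_one] at h1
          have h2 : p ^ (k + 2) ≤ p := le_trans (le_of_eq hk.symm) hcard
          exact absurd h1 (not_lt.mpr h2)
      rw [hk1, pow_one] at hk
      have hcyc : IsCyclic ↥(P : Subgroup G) := isCyclic_of_prime_card hk
      obtain ⟨g, hg⟩ := hcyc.exists_generator
      refine ⟨g, g.2, fun y hy => ?_⟩
      obtain ⟨n, hn⟩ := Subgroup.mem_zpowers_iff.mp (hg ⟨y, hy⟩)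
      rw [Subgroup.mem_zpowers_iff]
      exact ⟨n, by simpa using congrArg Subtype.val hn⟩
    · right
      by_contra hcon
      apply hexp
      intro x hx
      by_contra hx'
      exact hcon ⟨x, hx, hx'⟩
  obtain ⟨A, hA, hPA, hCA, hco, hemb, -⟩ := cover_sylow_main hZ 𝓐 h𝓐 P hab hnn hP
  refine ⟨A, hA, hPA, ?_, hco, hemb, hCA⟩
  intro hdvd
  have h1 : ((P : Subgroup G).subgroupOf A).index ∣ (P : Subgroup G).index := by
    have := Subgroup.relIndex_mul_index hPA
    exact Dvd.intro _ this
  exact P.not_dvd_index (hdvd.trans h1)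

end Cfsg.Agent.S3890
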