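import Cfsg.Statements.S3892
import Cfsg.Agent.Lib.helper68.NilCover

set_option autoImplicit false
open Cfsg

namespace Cfsg.Agent.S3892

open Cfsg.Agent.Lib.helper68 Equiv Equiv.Perm

/-- The abstract obstruction: two non-commuting `p`-elements whose centralizers lie in a common
proper subgroup, in a group whose order is not divisible by `p ^ 2`. -/
theorem no_cover_of_pair {G : Type*} [Group G] [Finite G] {p : ℕ} [Fact p.Prime]
    (hcard : ¬ p ^ 2 ∣ Nat.card G)
    (x y : G) (hx : x ^ p = 1) (hy : y ^ p = 1) (M : Subgroup G) (hM : M ≠ ⊤)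
    (hCx : Subgroup.centralizer ({x} : Set G) ≤ M) (hCy : Subgroup.centralizer ({y} : Set G) ≤ M)
    (hxy : x * y ≠ y * x) (𝓐 : Finset (Subgroup G)) (h𝓐 : IsNilMinCover 𝓐) : False := by
  have hpp : p.Prime := Fact.out
  have hab : ∀ Q : Subgroup G, IsPGroup p Q → ∀ a ∈ Q, ∀ b ∈ Q, a * b = b * a := by
    intro Q hQ a ha b hb
    obtain ⟨k, hk⟩ := hQ.exists_card_eq
    have hk1 : k ≤ 1 := by
      by_contra hk2
      apply hcard
      have h1 : p ^ 2 ∣ p ^ k := pow_dvd_pow p (by omega)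
      exact h1.trans (hk ▸ Subgroup.card_subgroup_dvd_card Q)
    have hcyc : IsCyclic Q := by
      rcases Nat.le_one_iff_eq_zero_or_eq_one.mp hk1 with rfl | rfl
      · rw [pow_zero] at hk
        have : Subsingleton Q := (Nat.card_eq_one_iff_unique.mp hk).1
        infer_instance
      · rw [pow_one] at hk
        exact isCyclic_of_prime_card hk
    obtain ⟨g, hg⟩ := hcyc.exists_generator
    obtain ⟨m, hm⟩ := Subgroup.mem_zpowers_iff.mp (hg ⟨a, ha⟩)
    obtain ⟨n, hn⟩ := Subgroup.mem_zpowers_iff.mp (hg ⟨b, hb⟩)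
    have h1 : (⟨a, ha⟩ : Q) * ⟨b, hb⟩ = ⟨b, hb⟩ * ⟨a, ha⟩ := by
      rw [← hm, ← hn, ← zpow_add, ← zpow_add, add_comm]
    exact congrArg Subtype.val h1
  have hpg : ∀ z : G, z ^ p = 1 → IsPGroup p (Subgroup.zpowers z) := by
    intro z hz
    rcases (Nat.dvd_prime hpp).mp (orderOf_dvd_of_pow_eq_one hz) with h | h
    · exact IsPGroup.of_card (n := 0) (by rw [Nat.card_zpowers, h, pow_zero])
    · exact IsPGroup.of_card (n := 1) (by rw [Nat.card_zpowers, h, pow_one])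
  obtain ⟨A, hA, hxA⟩ := h𝓐.1.2 x
  obtain ⟨A', hA', hyA'⟩ := h𝓐.1.2 y
  have h1 := nilpotent_le_centralizer hab A (h𝓐.2.2 A hA) x hxA (hpg x hx)
  have h2 := nilpotent_le_centralizer hab A' (h𝓐.2.2 A' hA') y hyA' (hpg y hy)
  have heq := cover_unique_of_le 𝓐 h𝓐.1.2 h𝓐.1.1 h𝓐.2.1 M hM A A' hA hA' (h1.trans hCx)
    (h2.trans hCy)
  have h3 : y ∈ Subgroup.centralizer ({x} : Set G) := h1 (heq ▸ hyA')
  rw [Subgroup.mem_centralizer_iff] at h3
  exact hxy (h3 x rfl)

/-- `p ^ 2` does not divide `n !` when `n < 2 p`. -/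
theorem not_sq_dvd_factorial {p n : ℕ} (hp : p.Prime) (hn : n < 2 * p) : ¬ p ^ 2 ∣ n.factorial := by
  have hlog : Nat.log p n < 2 := by
    rcases Nat.eq_zero_or_pos n with rfl | hpos
    · simp
    · apply Nat.log_lt_of_lt_pow hpos.ne'
      have := hp.two_le
      nlinarith
  rw [hp.pow_dvd_factorial_iff hlog]
  have h1 : n / p < 2 := Nat.div_lt_of_lt_mul (by omega)
  simp
  omega

/-! ### The small cases, by computation -/

set_option maxRecDepth 100000 in
theorem s4_cent_x : ∀ g : Perm (Fin 4),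
    (swap 0 1 * swap 1 2 : Perm (Fin 4)) * g = g * (swap 0 1 * swap 1 2) → sign g = 1 := by
  decide

set_option maxRecDepth 100000 in
theorem s4_cent_y : ∀ g : Perm (Fin 4),
    (swap 0 1 * swap 1 3 : Perm (Fin 4)) * g = g * (swap 0 1 * swap 1 3) → sign g = 1 := by
  decide

theorem no_cover_S4 (𝓐 : Finset (Subgroup (Perm (Fin 4)))) (h𝓐 : IsNilMinCover 𝓐) : False := by
  have : Fact (Nat.Prime 3) := ⟨Nat.prime_three⟩
  refine no_cover_of_pair (p := 3) ?_ (swap 0 1 * swap 1 2) (swap 0 1 * swap 1 3) ?_ ?_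
    (alternatingGroup (Fin 4)) ?_ ?_ ?_ ?_ 𝓐 h𝓐
  · rw [Nat.card_eq_fintype_card, Fintype.card_perm, Fintype.card_fin]; decide
  · decide
  · decide
  · intro h
    have h1 : swap (0 : Fin 4) 1 ∈ alternatingGroup (Fin 4) := h ▸ Subgroup.mem_top _
    rw [mem_alternatingGroup] at h1
    revert h1; decide
  · intro g hg
    rw [Subgroup.mem_centralizer_iff] at hg
    exact mem_alternatingGroup.mpr (s4_cent_x g (hg _ rfl))
  · intro g hg
    rw [Subgroup.mem_centralizer_iff] at hg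
    exact mem_alternatingGroup.mpr (s4_cent_y g (hg _ rfl))
  · decide

set_option maxRecDepth 100000 in
theorem s5_cent_x : ∀ g : Perm (Fin 5),
    (swap 0 1 * swap 1 2 * swap 2 3 * swap 3 4 : Perm (Fin 5)) * g =
      g * (swap 0 1 * swap 1 2 * swap 2 3 * swap 3 4) → sign g = 1 := by
  decide

set_option maxRecDepth 100000 in
theorem s5_cent_y : ∀ g : Perm (Fin 5),
    (swap 1 0 * swap 0 2 * swap 2 3 * swap 3 4 : Perm (Fin 5)) * g =
      g * (swap 1 0 * swap 0 2 * swap 2 3 * swap 3 4) → sign g = 1 := by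
  decide

theorem no_cover_S5 (𝓐 : Finset (Subgroup (Perm (Fin 5)))) (h𝓐 : IsNilMinCover 𝓐) : False := by
  have : Fact (Nat.Prime 5) := ⟨by norm_num⟩
  refine no_cover_of_pair (p := 5) ?_ (swap 0 1 * swap 1 2 * swap 2 3 * swap 3 4)
    (swap 1 0 * swap 0 2 * swap 2 3 * swap 3 4) ?_ ?_
    (alternatingGroup (Fin 5)) ?_ ?_ ?_ ?_ 𝓐 h𝓐
  · rw [Nat.card_eq_fintype_card, Fintype.card_perm, Fintype.card_fin]; decide
  · decide
  · decide
  · intro h
    have h1 : swap (0 : Fin 5) 1 ∈ alternatingGroup (Fin 5) := h ▸ Subgroup.mem_top _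
    rw [mem_alternatingGroup] at h1
    revert h1; decide
  · intro g hg
    rw [Subgroup.mem_centralizer_iff] at hg
    exact mem_alternatingGroup.mpr (s5_cent_x g (hg _ rfl))
  · intro g hg
    rw [Subgroup.mem_centralizer_iff] at hg
    exact mem_alternatingGroup.mpr (s5_cent_y g (hg _ rfl))
  · decide

set_option maxRecDepth 100000 in
theorem a5_cent_x : ∀ g : Perm (Fin 5), sign g = 1 →
    (swap 0 1 * swap 1 2 : Perm (Fin 5)) * g = g * (swap 0 1 * swap 1 2) → g 4 = 4 := by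
  decide

set_option maxRecDepth 100000 in
theorem a5_cent_y : ∀ g : Perm (Fin 5), sign g = 1 →
    (swap 0 1 * swap 1 3 : Perm (Fin 5)) * g = g * (swap 0 1 * swap 1 3) → g 4 = 4 := by
  decide

theorem no_cover_A5 (𝓐 : Finset (Subgroup ↥(alternatingGroup (Fin 5)))) (h𝓐 : IsNilMinCover 𝓐) :
    False := by
  have : Fact (Nat.Prime 3) := ⟨Nat.prime_three⟩
  have hx : (swap 0 1 * swap 1 2 : Perm (Fin 5)) ∈ alternatingGroup (Fin 5) := by
    rw [mem_alternatingGroup]; decide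
  have hy : (swap 0 1 * swap 1 3 : Perm (Fin 5)) ∈ alternatingGroup (Fin 5) := by
    rw [mem_alternatingGroup]; decide
  have hg₀ : (swap 0 4 * swap 0 1 : Perm (Fin 5)) ∈ alternatingGroup (Fin 5) := by
    rw [mem_alternatingGroup]; decide
  refine no_cover_of_pair (p := 3) ?_ ⟨_, hx⟩ ⟨_, hy⟩ ?_ ?_
    ((MulAction.stabilizer (Perm (Fin 5)) (4 : Fin 5)).subgroupOf (alternatingGroup (Fin 5)))
    ?_ ?_ ?_ ?_ 𝓐 h𝓐
  · intro h
    have h1 : Nat.card ↥(alternatingGroup (Fin 5)) ∣ Nat.card (Perm (Fin 5)) :=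
      Subgroup.card_subgroup_dvd_card _
    rw [Nat.card_eq_fintype_card (α := Perm (Fin 5)), Fintype.card_perm, Fintype.card_fin] at h1
    have h2 := h.trans h1
    revert h2; decide
  · apply Subtype.ext
    change (swap 0 1 * swap 1 2 : Perm (Fin 5)) ^ 3 = 1
    decide
  · apply Subtype.ext
    change (swap 0 1 * swap 1 3 : Perm (Fin 5)) ^ 3 = 1
    decide
  · intro h
    have h1 : (⟨_, hg₀⟩ : alternatingGroup (Fin 5)) ∈
        (MulAction.stabilizer (Perm (Fin 5)) (4 : Fin 5)).subgroupOf (alternatingGroup (Fin 5)) :=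
      h ▸ Subgroup.mem_top _
    rw [Subgroup.mem_subgroupOf, MulAction.mem_stabilizer_iff] at h1
    change (swap 0 4 * swap 0 1 : Perm (Fin 5)) 4 = 4 at h1
    revert h1; decide
  · intro g hg
    rw [Subgroup.mem_centralizer_iff] at hg
    have h1 := congrArg Subtype.val (hg _ rfl)
    rw [Subgroup.mem_subgroupOf, MulAction.mem_stabilizer_iff]
    exact a5_cent_x g (mem_alternatingGroup.mp g.2) h1
  · intro g hg
    rw [Subgroup.mem_centralizer_iff] at hg
    have h1 := congrArg Subtype.val (hg _ rfl)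
    rw [Subgroup.mem_subgroupOf, MulAction.mem_stabilizer_iff]
    exact a5_cent_y g (mem_alternatingGroup.mp g.2) h1
  · intro h
    have h1 := congrArg Subtype.val h
    change (swap 0 1 * swap 1 2 : Perm (Fin 5)) * (swap 0 1 * swap 1 3) =
      (swap 0 1 * swap 1 3) * (swap 0 1 * swap 1 2) at h1
    revert h1; decide

/-! ### The general case: two `p`-cycles on the same support -/

/-- The points moved by `Fin.cycleRange i₀` are those of the initial segment up to `i₀`. -/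
theorem cycleRange_ne_iff {n : ℕ} (i₀ : Fin n) (h0 : (i₀ : ℕ) ≠ 0) (j : Fin n) :
    Fin.cycleRange i₀ j ≠ j ↔ j ≤ i₀ := by
  constructor
  · intro h
    by_contra hle
    exact h (Fin.cycleRange_of_gt (not_le.mp hle))
  · intro hle h
    have h1 := Fin.coe_cycleRange_of_le hle
    rw [h] at h1
    split_ifs at h1 with h2
    · rw [h2] at h1; exact h0 h1
    · omega

/-- The subgroup of permutations preserving the initial segment `{j | j ≤ i₀}`. -/
def stabLE {n : ℕ} (i₀ : Fin n) : Subgroup (Perm (Fin n)) where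
  carrier := {g | ∀ j : Fin n, j ≤ i₀ ↔ g j ≤ i₀}
  mul_mem' := fun {a b} ha hb j => (hb j).trans (ha (b j))
  one_mem' := fun _ => Iff.rfl
  inv_mem' := fun {a} ha j => by
    have := ha (a⁻¹ j)
    have h1 : a (a⁻¹ j) = j := by simp
    rw [h1] at this
    exact this.symm

theorem mem_stabLE {n : ℕ} (i₀ : Fin n) (g : Perm (Fin n)) :
    g ∈ stabLE i₀ ↔ ∀ j : Fin n, j ≤ i₀ ↔ g j ≤ i₀ := Iff.rfl

theorem commute_cycleRange_mem {n : ℕ} (i₀ : Fin n) (h0 : (i₀ : ℕ) ≠ 0) (g : Perm (Fin n))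
    (hg : Fin.cycleRange i₀ * g = g * Fin.cycleRange i₀) : g ∈ stabLE i₀ := by
  intro j
  rw [← cycleRange_ne_iff i₀ h0 j, ← cycleRange_ne_iff i₀ h0 (g j)]
  have h1 : Fin.cycleRange i₀ (g j) = g (Fin.cycleRange i₀ j) := by
    have := congrArg (fun f : Perm (Fin n) => f j) hg
    simpa using this
  rw [h1]
  exact (g.injective.ne_iff).symm

theorem exists_pair (n p : ℕ) [Fact p.Prime] (hp5 : 5 ≤ p) (hpn : p < n) :
    ∃ (x y g₁ g₂ : Perm (Fin n)) (M : Subgroup (Perm (Fin n))),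
      x ^ p = 1 ∧ y ^ p = 1 ∧ sign x = 1 ∧ sign y = 1 ∧ x * y ≠ y * x ∧
      (∀ g, x * g = g * x → g ∈ M) ∧ (∀ g, y * g = g * y → g ∈ M) ∧
      g₁ ∉ M ∧ g₂ ∉ M ∧ sign g₂ = 1 := by
  have hpp : p.Prime := Fact.out
  have : NeZero n := ⟨by omega⟩
  set i₀ : Fin n := ⟨p - 1, by omega⟩ with hi₀
  set a : Fin n := ⟨0, by omega⟩ with ha
  set b : Fin n := ⟨1, by omega⟩ with hb
  set c2 : Fin n := ⟨2, by omega⟩ with hc2
  set c3 : Fin n := ⟨3, by omega⟩ with hc3
  set c : Fin n := ⟨p, hpn⟩ with hc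
  have h0 : (i₀ : ℕ) ≠ 0 := by simp only [hi₀]; omega
  have hab : a ≠ b := by simp [ha, hb, Fin.ext_iff]
  have hac : a ≠ c := by simp only [ha, hc, ne_eq, Fin.mk.injEq]; omega
  set x : Perm (Fin n) := Fin.cycleRange i₀ with hx
  set t : Perm (Fin n) := swap a b with ht
  set y : Perm (Fin n) := t * x * t⁻¹ with hy
  have htinv : t⁻¹ = t := swap_inv a b
  have hxa : x a = b := by
    apply Fin.ext
    rw [hx, Fin.coe_cycleRange_of_lt (by simp only [ha, hi₀, Fin.lt_def]; omega)]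
  have hxb : x b = c2 := by
    apply Fin.ext
    rw [hx, Fin.coe_cycleRange_of_lt (by simp only [hb, hi₀, Fin.lt_def]; omega)]
  have hx2 : x c2 = c3 := by
    apply Fin.ext
    rw [hx, Fin.coe_cycleRange_of_lt (by simp only [hc2, hi₀, Fin.lt_def]; omega)]
  have hta : t a = b := swap_apply_left a b
  have htb : t b = a := swap_apply_right a b
  have ht2 : t c2 = c2 := by
    apply swap_apply_of_ne_of_ne
    · simp [hc2, ha, Fin.ext_iff]
    · simp [hc2, hb, Fin.ext_iff]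
  have hord : orderOf x = p := by
    have hct : x.cycleType = {p} := by
      rw [hx, Fin.cycleType_cycleRange (by
        intro h
        exact h0 (by rw [h]; rfl))]
      have : (i₀ : ℕ) + 1 = p := by simp only [hi₀]; omega
      rw [this]
    rw [← Equiv.Perm.lcm_cycleType, hct, Multiset.lcm_singleton, normalize_eq]
  have hxp : x ^ p = 1 := by rw [← hord]; exact pow_orderOf_eq_one x
  have hyp : y ^ p = 1 := by rw [hy, conj_pow, hxp, mul_one, mul_inv_cancel]
  have hsx : sign x = 1 := by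
    rw [hx, Fin.sign_cycleRange]
    have hodd : Odd p := hpp.odd_of_ne_two (by omega)
    have : Even (i₀ : ℕ) := by
      obtain ⟨m, hm⟩ := hodd
      simp only [hi₀]
      exact ⟨m, by omega⟩
    exact this.neg_one_pow
  have hsy : sign y = 1 := by
    rw [hy, Perm.sign_mul, Perm.sign_mul, sign_inv, mul_right_comm, Int.units_mul_self, one_mul, hsx]
  have htM : t ∈ stabLE i₀ := by
    intro j
    have hai : a ≤ i₀ := by simp only [ha, hi₀, Fin.le_def]; omega
    have hbi : b ≤ i₀ := by simp only [hb, hi₀, Fin.le_def]; omega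
    by_cases hja : j = a
    · rw [hja, hta]; exact ⟨fun _ => hbi, fun _ => hai⟩
    by_cases hjb : j = b
    · rw [hjb, htb]; exact ⟨fun _ => hai, fun _ => hbi⟩
    · rw [ht, swap_apply_of_ne_of_ne hja hjb]
  have hCx : ∀ g, x * g = g * x → g ∈ stabLE i₀ := fun g hg => commute_cycleRange_mem i₀ h0 g hg
  have hCy : ∀ g, y * g = g * y → g ∈ stabLE i₀ := by
    intro g hg
    have h1 : x * (t⁻¹ * g * t) = (t⁻¹ * g * t) * x := by
      have h2 : x = t⁻¹ * y * t := by rw [hy]; group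
      calc x * (t⁻¹ * g * t) = t⁻¹ * (y * g) * t := by rw [h2]; group
        _ = t⁻¹ * (g * y) * t := by rw [hg]
        _ = (t⁻¹ * g * t) * x := by rw [h2]; group
    have h3 := hCx _ h1
    have h4 : g = t * (t⁻¹ * g * t) * t⁻¹ := by group
    rw [h4]
    exact (stabLE i₀).mul_mem ((stabLE i₀).mul_mem htM h3) ((stabLE i₀).inv_mem htM)
  have hci : ¬ c ≤ i₀ := by simp only [hc, hi₀, Fin.le_def]; omega
  refine ⟨x, y, swap a c, swap a c * swap a b, stabLE i₀, hxp, hyp, hsx, hsy, ?_, hCx, hCy, ?_, ?_, ?_⟩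
  · intro h
    have h1 := congrArg (fun f : Perm (Fin n) => f a) h
    simp only [Perm.mul_apply, hy, htinv, hta, hxb, ht2, hx2, hxa, htb] at h1
    simp [hc3, ha, Fin.ext_iff] at h1
  · intro h
    have h1 := (h a).mp (by simp only [ha, hi₀, Fin.le_def]; omega)
    rw [swap_apply_left] at h1
    exact hci h1
  · intro h
    have h1 := (h b).mp (by simp only [hb, hi₀, Fin.le_def]; omega)
    rw [Perm.mul_apply, swap_apply_right, swap_apply_left] at h1
    exact hci h1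
  · rw [Perm.sign_mul, sign_swap hac, sign_swap hab]; rfl

theorem no_cover_Sn (n p : ℕ) [Fact p.Prime] (hp5 : 5 ≤ p) (hpn : p < n) (hn2 : n < 2 * p)
    (𝓐 : Finset (Subgroup (Perm (Fin n)))) (h𝓐 : IsNilMinCover 𝓐) : False := by
  have hpp : p.Prime := Fact.out
  obtain ⟨x, y, g₁, g₂, M, hxp, hyp, hsx, hsy, hxy, hCx, hCy, hg₁, hg₂, hsg₂⟩ :=
    exists_pair n p hp5 hpn
  refine no_cover_of_pair (p := p) ?_ x y hxp hyp M ?_ ?_ ?_ hxy 𝓐 h𝓐
  · rw [Nat.card_eq_fintype_card, Fintype.card_perm, Fintype.card_fin]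
    exact not_sq_dvd_factorial hpp hn2
  · intro h; exact hg₁ (h ▸ Subgroup.mem_top _)
  · intro g hg
    rw [Subgroup.mem_centralizer_iff] at hg
    exact hCx g (hg x rfl)
  · intro g hg
    rw [Subgroup.mem_centralizer_iff] at hg
    exact hCy g (hg y rfl)

theorem no_cover_An (n p : ℕ) [Fact p.Prime] (hp5 : 5 ≤ p) (hpn : p < n) (hn2 : n < 2 * p)
    (𝓐 : Finset (Subgroup ↥(alternatingGroup (Fin n)))) (h𝓐 : IsNilMinCover 𝓐) : False := by
  have hpp : p.Prime := Fact.out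
  obtain ⟨x, y, g₁, g₂, M, hxp, hyp, hsx, hsy, hxy, hCx, hCy, hg₁, hg₂, hsg₂⟩ :=
    exists_pair n p hp5 hpn
  refine no_cover_of_pair (p := p) ?_ ⟨x, mem_alternatingGroup.mpr hsx⟩
    ⟨y, mem_alternatingGroup.mpr hsy⟩ ?_ ?_
    (M.subgroupOf (alternatingGroup (Fin n))) ?_ ?_ ?_ ?_ 𝓐 h𝓐
  · intro h
    have h1 : Nat.card ↥(alternatingGroup (Fin n)) ∣ Nat.card (Perm (Fin n)) :=
      Subgroup.card_subgroup_dvd_card _
    rw [Nat.card_eq_fintype_card (α := Perm (Fin n)), Fintype.card_perm, Fintype.card_fin] at h1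
    exact not_sq_dvd_factorial hpp hn2 (h.trans h1)
  · exact Subtype.ext hxp
  · exact Subtype.ext hyp
  · intro h
    have h1 : (⟨g₂, mem_alternatingGroup.mpr hsg₂⟩ : alternatingGroup (Fin n)) ∈
        M.subgroupOf (alternatingGroup (Fin n)) := h ▸ Subgroup.mem_top _
    exact hg₂ (Subgroup.mem_subgroupOf.mp h1)
  · intro g hg
    rw [Subgroup.mem_centralizer_iff] at hg
    exact Subgroup.mem_subgroupOf.mpr (hCx g (congrArg Subtype.val (hg _ rfl)))
  · intro g hg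
    rw [Subgroup.mem_centralizer_iff] at hg
    exact Subgroup.mem_subgroupOf.mpr (hCy g (congrArg Subtype.val (hg _ rfl)))
  · intro h; exact hxy (congrArg Subtype.val h)

/-- Bertrand: a prime `p ≥ 5` with `n / 2 < p < n`, for `n ≥ 6`. -/
theorem exists_prime_between (n : ℕ) (hn : 6 ≤ n) :
    ∃ p : ℕ, p.Prime ∧ 5 ≤ p ∧ p < n ∧ n < 2 * p := by
  obtain ⟨p, hp, h1, h2⟩ := Nat.exists_prime_lt_and_le_two_mul (n / 2) (by omega)
  refine ⟨p, hp, ?_, ?_, by omega⟩
  · have h4 : p ≠ 4 := by rintro rfl; exact absurd hp (by decide)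
    omega
  · rcases Nat.lt_or_ge p n with h | h
    · exact h
    · exfalso
      have h3 : p = 2 * (n / 2) := by omega
      have h5 : 2 ∣ p := ⟨n / 2, h3⟩
      have h6 := (Nat.prime_dvd_prime_iff_eq Nat.prime_two hp).mp h5
      omega

/-- A cover of a group is a finite set of proper subgroups whose union is the whole group; it is minimal when no cover has fewer members, and nilpotent when all its members are nilpotent. The alternating groups of degree at least 5 and the symmetric groups of degree at least 4 have no nilpotent minimal cover. -/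
theorem result (n : ℕ) :
    (5 ≤ n → ¬ ∃ 𝓐 : Finset (Subgroup ↥(alternatingGroup (Fin n))), ((∀ A ∈ 𝓐, A ≠ ⊤) ∧ (∀ g : ↥(alternatingGroup (Fin n)), ∃ A ∈ 𝓐, g ∈ A)) ∧ (∀ 𝓑 : Finset (Subgroup ↥(alternatingGroup (Fin n))), (∀ A ∈ 𝓑, A ≠ ⊤) ∧ (∀ g : ↥(alternatingGroup (Fin n)), ∃ A ∈ 𝓑, g ∈ A) → 𝓐.card ≤ 𝓑.card) ∧ (∀ A ∈ 𝓐, Group.IsNilpotent ↥A)) ∧
    (4 ≤ n → ¬ ∃ 𝓐 : Finset (Subgroup (Equiv.Perm (Fin n))), ((∀ A ∈ 𝓐, A ≠ ⊤) ∧ (∀ g : (Equiv.Perm (Fin n)), ∃ A ∈ 𝓐, g ∈ A)) ∧ (∀ 𝓑 : Finset (Subgroup (Equiv.Perm (Fin n))), (∀ A ∈ 𝓑, A ≠ ⊤) ∧ (∀ g : (Equiv.Perm (Fin n)), ∃ A ∈ 𝓑, g ∈ A) → 𝓐.card ≤ 𝓑.card) ∧ (∀ A ∈ 𝓐, Group.IsNilpotent ↥A)) := by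
  constructor
  · rintro hn ⟨𝓐, h𝓐⟩
    by_cases h5 : n = 5
    · subst h5; exact no_cover_A5 𝓐 h𝓐
    · obtain ⟨p, hp, hp5, hpn, hn2⟩ := exists_prime_between n (by omega)
      have : Fact p.Prime := ⟨hp⟩
      exact no_cover_An n p hp5 hpn hn2 𝓐 h𝓐
  · rintro hn ⟨𝓐, h𝓐⟩
    by_cases h4 : n = 4
    · subst h4; exact no_cover_S4 𝓐 h𝓐
    by_cases h5 : n = 5
    · subst h5; exact no_cover_S5 𝓐 h𝓐
    · obtain ⟨p, hp, hp5, hpn, hn2⟩ := exists_prime_between n (by omega)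
      have : Fact p.Prime := ⟨hp⟩
      exact no_cover_Sn n p hp5 hpn hn2 𝓐 h𝓐

end Cfsg.Agent.S3892
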