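import Cfsg.Statements.S3893
import Cfsg.Agent.Lib.helper8.SzFix
import Cfsg.Agent.Lib.helper8.NilCover
import Cfsg.Agent.Lib.helper44.SzIso

set_option autoImplicit false
open Cfsg

namespace Cfsg.Agent.S3893

open Cfsg.Agent.Lib.helper8

/-- A cover of a group is a finite set of proper subgroups whose union is the whole group; it is minimal when no cover has fewer members, and nilpotent when all its members are nilpotent. The Suzuki groups Sz(q), q = 2^(2m+1) with m ≥ 1, have no nilpotent minimal cover. -/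
theorem result {F : Type*} [Field F] [Fintype F] (m : ℕ) (hm : 1 ≤ m) (hF : Fintype.card F = 2 ^ (2 * m + 1)) :
    ¬ ∃ 𝓐 : Finset (Subgroup ↥(Cfsg.Lie.Sz F (2 ^ (m + 1)))), ((∀ A ∈ 𝓐, A ≠ ⊤) ∧ (∀ g : ↥(Cfsg.Lie.Sz F (2 ^ (m + 1))), ∃ A ∈ 𝓐, g ∈ A)) ∧ (∀ 𝓑 : Finset (Subgroup ↥(Cfsg.Lie.Sz F (2 ^ (m + 1)))), (∀ A ∈ 𝓑, A ≠ ⊤) ∧ (∀ g : ↥(Cfsg.Lie.Sz F (2 ^ (m + 1))), ∃ A ∈ 𝓑, g ∈ A) → 𝓐.card ≤ 𝓑.card) ∧ (∀ A ∈ 𝓐, Group.IsNilpotent ↥A) := by
  classical
  have h := szHyp_of_card hF
  have h2 := h.two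
  set e := Cfsg.Agent.Lib.helper44.szIso hm hF with he
  let pt : Option (F × F) → Projectivization F (Fin 4 → F) := fun o =>
    match o with
    | none => pinf
    | some p => paff m p.1 p.2
  have hpt_mem : ∀ o, pt o ∈ Cfsg.suzukiOvoid F m := by
    intro o
    cases o with
    | none => exact pinf_mem m
    | some p => exact paff_mem m p.1 p.2
  have hpt_inj : Function.Injective pt := by
    intro o o' hoo
    cases o with
    | none =>
      cases o' with
      | none => rfl
      | some p => exact absurd hoo.symm (paff_ne_pinf m p.1 p.2)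
    | some p =>
      cases o' with
      | none => exact absurd hoo (paff_ne_pinf m p.1 p.2)
      | some p' =>
        have := paff_inj.1 hoo
        exact congrArg some (Prod.ext this.1 this.2)
  have ex : ∀ s : Finset (Option (F × F)), s.card = 2 →
      ∃ g : ↥(Cfsg.Sz F m), g ≠ 1 ∧ ∀ o ∈ s, g.1 • pt o = pt o := by
    intro s hs
    obtain ⟨o₁, o₂, hne, rfl⟩ := Finset.card_eq_two.1 hs
    obtain ⟨g, hg, hg1, hga, hgb⟩ := exists_two_fix hm hF (hpt_mem o₁) (hpt_mem o₂)
      (fun e' => hne (hpt_inj e'))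
    refine ⟨⟨g, hg⟩, fun e' => hg1 (congrArg Subtype.val e'), ?_⟩
    intro o ho
    rcases Finset.mem_insert.1 ho with rfl | ho
    · exact hga
    · rw [Finset.mem_singleton.1 ho]; exact hgb
  let d₀ : Finset (Option (F × F)) → ↥(Cfsg.Sz F m) := fun s =>
    if hs : s.card = 2 then Classical.choose (ex s hs) else 1
  have hd₀ : ∀ s : Finset (Option (F × F)), s.card = 2 →
      d₀ s ≠ 1 ∧ ∀ o ∈ s, (d₀ s).1 • pt o = pt o := by
    intro s hs
    have : d₀ s = Classical.choose (ex s hs) := dif_pos hs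
    rw [this]
    exact Classical.choose_spec (ex s hs)
  refine no_min_nilpotent_cover (Finset.univ : Finset (Option (F × F)))
    (Finset.powersetCard 2 Finset.univ)
    (fun o => (MulAction.stabilizer (Cfsg.Sz F m) (pt o)).map e.toMonoidHom)
    (fun s => e (d₀ s)) ?_ ?_ ?_ ?_
  · -- point stabilisers are proper
    intro o _ htop
    have hmove : ∃ g : ↥(Cfsg.Sz F m), g.1 • pt o ≠ pt o := by
      cases o with
      | none =>
        refine ⟨⟨sW, sW_mem h⟩, ?_⟩
        show sW • (pinf : Projectivization F (Fin 4 → F)) ≠ pinf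
        rw [sW_pinf m]
        exact paff_ne_pinf m 0 0
      | some p =>
        refine ⟨⟨sT m 1 0, sT_mem h 1 0⟩, ?_⟩
        show sT m 1 0 • paff m p.1 p.2 ≠ paff m p.1 p.2
        rw [sT_paff h]
        intro e'
        have := (paff_inj.1 e').1
        exact one_ne_zero (add_eq_left.1 this)
    obtain ⟨g, hg⟩ := hmove
    have hmem : e g ∈ (MulAction.stabilizer (Cfsg.Sz F m) (pt o)).map e.toMonoidHom := by
      rw [htop]; exact Subgroup.mem_top _
    obtain ⟨b, hb, hbe⟩ := Subgroup.mem_map.1 hmem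
    have hbg : b = g := e.injective hbe
    rw [hbg] at hb
    exact hg (MulAction.mem_stabilizer_iff.1 hb)
  · intro s hs
    have hs2 := (Finset.mem_powersetCard.1 hs).2
    intro e1
    exact (hd₀ s hs2).1 (e.map_eq_one_iff.1 e1)
  · rw [Finset.card_powersetCard, Finset.card_univ, Fintype.card_option, Fintype.card_prod, hF,
      Nat.choose_two_right]
    have hq : 8 ≤ 2 ^ (2 * m + 1) := by
      calc 8 = 2 ^ 3 := by norm_num
        _ ≤ 2 ^ (2 * m + 1) := Nat.pow_le_pow_right (by norm_num) (by omega)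
    set q := 2 ^ (2 * m + 1) with hqdef
    have h3 : 3 * (q * q + 1) ≤ (q * q + 1) * (q * q + 1 - 1) := by
      have : 3 ≤ q * q + 1 - 1 := by
        have : 8 * 8 ≤ q * q := Nat.mul_le_mul hq hq
        omega
      calc 3 * (q * q + 1) = (q * q + 1) * 3 := by ring
        _ ≤ (q * q + 1) * (q * q + 1 - 1) := Nat.mul_le_mul_left _ this
    have h4 : 4 ≤ q * q + 1 := by
      have : 8 * 8 ≤ q * q := Nat.mul_le_mul hq hq
      omega
    generalize q * q + 1 = n at h3 h4 ⊢
    generalize n * (n - 1) = k at h3 ⊢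
    omega
  · intro s hs z' y' hz1 hzd hyz
    have hs2 := (Finset.mem_powersetCard.1 hs).2
    obtain ⟨hg1, hgfix⟩ := hd₀ s hs2
    obtain ⟨o₁, o₂, hne, hs_eq⟩ := Finset.card_eq_two.1 hs2
    have hab : pt o₁ ≠ pt o₂ := fun e' => hne (hpt_inj e')
    have hga : (d₀ s).1 • pt o₁ = pt o₁ := hgfix o₁ (by rw [hs_eq]; simp)
    have hgb : (d₀ s).1 • pt o₂ = pt o₂ := hgfix o₂ (by rw [hs_eq]; simp)
    set z := e.symm z' with hz
    set y := e.symm y' with hy
    have hz1' : z.1 ≠ 1 := by
      intro e1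
      apply hz1
      have : z = 1 := Subtype.ext e1
      rw [hz] at this
      exact e.symm.map_eq_one_iff.1 this
    have hzd' : z.1 * (d₀ s).1 = (d₀ s).1 * z.1 := by
      have : z * d₀ s = d₀ s * z := by
        apply e.injective
        rw [map_mul, map_mul, hz, e.apply_symm_apply]
        exact hzd
      exact congrArg Subtype.val this
    have hyz' : y.1 * z.1 = z.1 * y.1 := by
      have : y * z = z * y := by
        apply e.injective
        rw [map_mul, map_mul, hz, hy, e.apply_symm_apply, e.apply_symm_apply]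
        exact hyz
      exact congrArg Subtype.val this
    have hg1' : (d₀ s).1 ≠ 1 := fun e1 => hg1 (Subtype.ext e1)
    obtain ⟨hza, hzb⟩ := cent_two_fix hm hF (d₀ s).2 z.2 hg1' (hpt_mem o₁) (hpt_mem o₂) hab
      hga hgb hzd'
    obtain ⟨hya, hyb⟩ := cent_two_fix hm hF z.2 y.2 hz1' (hpt_mem o₁) (hpt_mem o₂) hab
      hza hzb hyz'
    constructor
    · refine ⟨o₁, Finset.mem_univ _, ?_⟩
      refine Subgroup.mem_map.2 ⟨y, ?_, ?_⟩
      · exact MulAction.mem_stabilizer_iff.2 hya
      · show e y = y'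
        rw [hy, e.apply_symm_apply]
    · intro s' hs' hys'
      have hs2' := (Finset.mem_powersetCard.1 hs').2
      obtain ⟨hg1s, hgfixs⟩ := hd₀ s' hs2'
      obtain ⟨o₃, o₄, hne', hs_eq'⟩ := Finset.card_eq_two.1 hs2'
      have hy_eq : y = d₀ s' := by
        rw [hy, hys', e.symm_apply_apply]
      have hab' : pt o₃ ≠ pt o₄ := fun e' => hne' (hpt_inj e')
      have hga' : (d₀ s').1 • pt o₃ = pt o₃ := hgfixs o₃ (by rw [hs_eq']; simp)
      have hgb' : (d₀ s').1 • pt o₄ = pt o₄ := hgfixs o₄ (by rw [hs_eq']; simp)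
      have hg1s' : (d₀ s').1 ≠ 1 := fun e1 => hg1s (Subtype.ext e1)
      rw [hy_eq] at hya hyb
      have m1 : o₁ ∈ s' := by
        rcases fix_two hm hF (d₀ s').2 hg1s' (hpt_mem o₃) (hpt_mem o₄) (hpt_mem o₁) hab'
          hga' hgb' hya with e1 | e1
        · rw [hs_eq', hpt_inj e1]; simp
        · rw [hs_eq', hpt_inj e1]; simp
      have m2 : o₂ ∈ s' := by
        rcases fix_two hm hF (d₀ s').2 hg1s' (hpt_mem o₃) (hpt_mem o₄) (hpt_mem o₂) hab'
          hga' hgb' hyb with e1 | e1
        · rw [hs_eq', hpt_inj e1]; simp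
        · rw [hs_eq', hpt_inj e1]; simp
      have hsub : s ⊆ s' := by
        rw [hs_eq]
        intro o ho
        rcases Finset.mem_insert.1 ho with rfl | ho
        · exact m1
        · rw [Finset.mem_singleton.1 ho]; exact m2
      exact (Finset.eq_of_subset_of_card_le hsub (by rw [hs2, hs2'])).symm

end Cfsg.Agent.S3893
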