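import Cfsg.Statements.S3897

set_option autoImplicit false
open Cfsg

namespace Cfsg.Agent.S3897

/-- Orbit bound: if a finite group `N` acts on a finite set `X`, `C` is a proper subgroup of `N` and
every element outside `C` fixes at most `|X| / p` points, then the number of orbits is at most
`(p + 1) |X| / (2 p)`. -/
theorem orbit_bound {N X : Type*} [Group N] [Finite N] [MulAction N X] [Finite X]
    (C : Subgroup N) (hC : C ≠ ⊤) (p : ℕ) (hp : 1 ≤ p)
    (hfix : ∀ n : N, n ∉ C → p * Nat.card (MulAction.fixedBy X n) ≤ Nat.card X) :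
    2 * p * Nat.card (MulAction.orbitRel.Quotient N X) ≤ (p + 1) * Nat.card X := by
  classical
  have := Fintype.ofFinite N
  have := Fintype.ofFinite X
  have hB := MulAction.sum_card_fixedBy_eq_card_orbits_mul_card_group N X
  simp only [← Nat.card_eq_fintype_card] at hB
  set c := Nat.card C with hc
  set d := (Finset.univ.filter (fun n : N => n ∉ C)).card with hd
  have hcd : c + d = Nat.card N := by
    have h1 : (Finset.univ.filter (fun n : N => n ∈ C)).card = c := by
      rw [hc, Nat.card_eq_fintype_card, Fintype.card_subtype]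
    have h2 := Finset.card_filter_add_card_filter_not (s := (Finset.univ : Finset N))
      (fun n : N => n ∈ C)
    rw [h1, Finset.card_univ] at h2
    rw [Nat.card_eq_fintype_card]; exact h2
  have hcle : c ≤ d := by
    have hidx : 2 ≤ C.index := by
      have h0 : C.index ≠ 0 := Subgroup.index_ne_zero_of_finite
      have h1 : C.index ≠ 1 := fun h => hC (Subgroup.index_eq_one.mp h)
      omega
    have hmul : c * C.index = Nat.card N := Subgroup.card_mul_index C
    nlinarith
  have h1 : ∀ n : N, p * Nat.card (MulAction.fixedBy X n) ≤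
      if n ∈ C then p * Nat.card X else Nat.card X := by
    intro n
    split_ifs with h
    · exact Nat.mul_le_mul_left _ (Nat.card_le_card_of_injective _ Subtype.val_injective)
    · exact hfix n h
  have h2 : p * (Nat.card (MulAction.orbitRel.Quotient N X) * Nat.card N) ≤
      c * (p * Nat.card X) + d * Nat.card X := by
    rw [← hB, Finset.mul_sum]
    refine (Finset.sum_le_sum fun n _ => h1 n).trans ?_
    rw [Finset.sum_ite, Finset.sum_const, Finset.sum_const, smul_eq_mul, smul_eq_mul]
    have h3 : (Finset.univ.filter (fun n : N => n ∈ C)).card = c := by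
      rw [hc, Nat.card_eq_fintype_card, Fintype.card_subtype]
    rw [h3]
  have hNpos : 0 < Nat.card N := Nat.card_pos
  rw [← hcd] at h2 hNpos
  -- 2 p ω (c + d) ≤ 2 (p c + d) |X| ≤ (p + 1) (c + d) |X|
  clear_value c d
  have h4 : 2 * (c * (p * Nat.card X) + d * Nat.card X) ≤ (p + 1) * Nat.card X * (c + d) := by
    obtain ⟨e, rfl⟩ := Nat.exists_eq_add_of_le hcle
    obtain ⟨q, rfl⟩ := Nat.exists_eq_add_of_le hp
    nlinarith [Nat.zero_le (q * e * Nat.card X)]
  have h5 : 2 * p * Nat.card (MulAction.orbitRel.Quotient N X) * (c + d) ≤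
      (p + 1) * Nat.card X * (c + d) := by
    calc 2 * p * Nat.card (MulAction.orbitRel.Quotient N X) * (c + d)
        = 2 * (p * (Nat.card (MulAction.orbitRel.Quotient N X) * (c + d))) := by ring
      _ ≤ 2 * (c * (p * Nat.card X) + d * Nat.card X) := Nat.mul_le_mul_left _ h2
      _ ≤ _ := h4
  exact Nat.le_of_mul_le_mul_right h5 hNpos

/-- The conjugation action of the normalizer of a subgroup `P` on `P`. -/
@[reducible] def normAct {G : Type*} [Group G] (P : Subgroup G) :
    MulAction (Subgroup.normalizer (P : Set G)) P where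
  smul n x := ⟨(n : G) * x * (n : G)⁻¹, ((Subgroup.mem_normalizer_iff.mp n.2) x).mp x.2⟩
  one_smul x := Subtype.ext (by
    change ((1 : Subgroup.normalizer (P : Set G)) : G) * x *
      ((1 : Subgroup.normalizer (P : Set G)) : G)⁻¹ = x
    simp)
  mul_smul a b x := Subtype.ext (by
    change ((a * b : Subgroup.normalizer (P : Set G)) : G) * x *
      ((a * b : Subgroup.normalizer (P : Set G)) : G)⁻¹ =
      (a : G) * ((b : G) * x * (b : G)⁻¹) * (a : G)⁻¹
    simp [mul_assoc])

theorem normAct_smul_coe {G : Type*} [Group G] (P : Subgroup G)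
    (n : Subgroup.normalizer (P : Set G)) (x : P) :
    (((normAct P).smul n x : P) : G) = (n : G) * x * (n : G)⁻¹ := rfl

/-- The class of a `p`-element consists of `p`-elements. -/
theorem mk_pclass {G : Type*} [Group G] (p : ℕ) (x : G) (hx : ∃ k : ℕ, orderOf x = p ^ k) :
    ∀ y ∈ (ConjClasses.mk x).carrier, ∃ k : ℕ, orderOf y = p ^ k := by
  intro y hy
  rw [ConjClasses.mem_carrier_iff_mk_eq, ConjClasses.mk_eq_mk_iff_isConj, isConj_iff] at hy
  obtain ⟨c, rfl⟩ := hy
  obtain ⟨k, hk⟩ := hx
  refine ⟨k, ?_⟩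
  rw [← hk]
  exact ((MulAut.conj c).orderOf_eq y).symm

/-- Every class of `p`-elements meets a given Sylow `p`-subgroup. -/
theorem exists_mem_sylow {G : Type*} [Group G] [Finite G] {p : ℕ} [Fact p.Prime] (P : Sylow p G)
    (c : ConjClasses G) (hc : ∀ x ∈ c.carrier, ∃ k : ℕ, orderOf x = p ^ k) :
    ∃ x ∈ (P : Subgroup G), ConjClasses.mk x = c := by
  obtain ⟨y, rfl⟩ := ConjClasses.exists_rep c
  obtain ⟨k, hk⟩ := hc y ConjClasses.mem_carrier_mk
  have hy : IsPGroup p (Subgroup.zpowers y) := IsPGroup.of_card (n := k) (by rw [Nat.card_zpowers, hk])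
  obtain ⟨Q, hQ⟩ := hy.exists_le_sylow
  obtain ⟨g, rfl⟩ := MulAction.exists_smul_eq G Q P
  refine ⟨g * y * g⁻¹, ?_, ?_⟩
  · have : y ∈ (Q : Subgroup G) := hQ (Subgroup.mem_zpowers y)
    rw [Sylow.coe_subgroup_smul]
    exact ⟨y, this, by simp [MulAut.conj_apply]⟩
  · rw [ConjClasses.mk_eq_mk_iff_isConj, isConj_iff]
    exact ⟨g⁻¹, by group⟩

/-- The key step: if the classes of `p`-elements are many, the normalizer of a Sylow `p`-subgroup
centralizes it. -/
theorem normalizer_le_centralizer_of_many_classes {G : Type*} [Group G] [Finite G] {p : ℕ}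
    [Fact p.Prime] (P : Sylow p G)
    (hk : (p + 1) * Nat.card ↥(P : Subgroup G) <
      2 * p * Nat.card {c : ConjClasses G // ∀ x ∈ c.carrier, ∃ k : ℕ, orderOf x = p ^ k}) :
    Subgroup.normalizer ((P : Subgroup G) : Set G) ≤ Subgroup.centralizer (P : Set G) := by
  have hpp : p.Prime := Fact.out
  by_contra hcon
  let := normAct (P : Subgroup G)
  set C : Subgroup (Subgroup.normalizer ((P : Subgroup G) : Set G)) :=
    (Subgroup.centralizer ((P : Subgroup G) : Set G)).subgroupOf _ with hCdef
  have hC : C ≠ ⊤ := by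
    intro h
    apply hcon
    rw [hCdef, Subgroup.subgroupOf_eq_top] at h
    exact h
  have hfix : ∀ n : Subgroup.normalizer ((P : Subgroup G) : Set G), n ∉ C →
      p * Nat.card (MulAction.fixedBy (P : Subgroup G) n) ≤ Nat.card (P : Subgroup G) := by
    intro n hn
    set K : Subgroup (P : Subgroup G) :=
      (Subgroup.centralizer ({(n : G)} : Set G)).subgroupOf P with hK
    have hmem : ∀ x : (P : Subgroup G), x ∈ MulAction.fixedBy (P : Subgroup G) n ↔ x ∈ K := by
      intro x
      rw [MulAction.mem_fixedBy, hK, Subgroup.mem_subgroupOf, Subgroup.mem_centralizer_iff,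
        Subtype.ext_iff]
      change (n : G) * x * (n : G)⁻¹ = x ↔ _
      simp [mul_inv_eq_iff_eq_mul]
    have hKfix : Nat.card (MulAction.fixedBy (P : Subgroup G) n) = Nat.card K :=
      Nat.card_congr (Equiv.subtypeEquivRight hmem)
    have hKtop : K ≠ ⊤ := by
      intro h
      apply hn
      rw [hCdef, Subgroup.mem_subgroupOf, Subgroup.mem_centralizer_iff]
      intro x hx
      have : (⟨x, hx⟩ : (P : Subgroup G)) ∈ K := h ▸ Subgroup.mem_top _
      rw [hK, Subgroup.mem_subgroupOf, Subgroup.mem_centralizer_iff] at this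
      exact (this (n : G) rfl).symm
    have hidx : p ∣ K.index := by
      obtain ⟨j, hj⟩ := P.isPGroup'.index K
      rw [hj]
      rcases j with _ | j
      · exact absurd (Subgroup.index_eq_one.mp (by simpa using hj)) hKtop
      · exact dvd_pow_self p (Nat.succ_ne_zero j)
    calc p * Nat.card (MulAction.fixedBy (P : Subgroup G) n) = p * Nat.card K := by rw [hKfix]
      _ ≤ K.index * Nat.card K :=
          Nat.mul_le_mul_right _ (Nat.le_of_dvd (Nat.pos_of_ne_zero Subgroup.index_ne_zero_of_finite) hidx)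
      _ = Nat.card (P : Subgroup G) := by rw [mul_comm, Subgroup.card_mul_index]
  have hob := orbit_bound C hC p hpp.one_le hfix
  have hle : Nat.card {c : ConjClasses G // ∀ x ∈ c.carrier, ∃ k : ℕ, orderOf x = p ^ k} ≤
      Nat.card (MulAction.orbitRel.Quotient (Subgroup.normalizer ((P : Subgroup G) : Set G))
        (P : Subgroup G)) := by
    have hex := fun c : {c : ConjClasses G // ∀ x ∈ c.carrier, ∃ k : ℕ, orderOf x = p ^ k} =>
      exists_mem_sylow P c.1 c.2
    choose f hf1 hf2 using hex
    refine Nat.card_le_card_of_injective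
      (fun c => (Quotient.mk'' (⟨f c, hf1 c⟩ : (P : Subgroup G)) :
        MulAction.orbitRel.Quotient (Subgroup.normalizer ((P : Subgroup G) : Set G))
        (P : Subgroup G))) ?_
    intro c d hcd
    have h1 := Quotient.exact' hcd
    change (⟨f c, hf1 c⟩ : (P : Subgroup G)) ∈ MulAction.orbit _ (⟨f d, hf1 d⟩ : (P : Subgroup G)) at h1
    rw [MulAction.mem_orbit_iff] at h1
    obtain ⟨n, hn⟩ := h1
    have h2 : (n : G) * f d * (n : G)⁻¹ = f c := congrArg Subtype.val hn
    apply Subtype.ext
    rw [← hf2 c, ← hf2 d, ConjClasses.mk_eq_mk_iff_isConj, isConj_iff]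
    exact ⟨(n : G)⁻¹, by rw [← h2]; group⟩
  have h3 := Nat.mul_le_mul_left (2 * p) hle
  omega

/-- Elements of a Sylow `p`-subgroup have `p`-power order. -/
theorem orderOf_mem_sylow {G : Type*} [Group G] {p : ℕ} [Fact p.Prime] (P : Sylow p G) (x : G)
    (hx : x ∈ (P : Subgroup G)) : ∃ k : ℕ, orderOf x = p ^ k := by
  have hpp : p.Prime := Fact.out
  obtain ⟨k, hk⟩ := P.isPGroup' ⟨x, hx⟩
  have hk' : x ^ p ^ k = 1 := by
    have := congrArg Subtype.val hk
    simpa using this
  obtain ⟨j, -, hj⟩ := (Nat.dvd_prime_pow hpp).1 (orderOf_dvd_of_pow_eq_one hk')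
  exact ⟨j, hj⟩

/-- If `G` has a normal `p`-complement and abelian Sylow `p`-subgroups, then distinct elements of
a Sylow `p`-subgroup lie in distinct classes, so there are at least `|P|` classes of `p`-elements. -/
theorem card_le_classes_of_complement {G : Type*} [Group G] [Finite G] {p : ℕ} [Fact p.Prime]
    (P : Sylow p G) (hab : IsMulCommutative ↥(P : Subgroup G)) (hc : Cfsg.HasNormalPComplement p G) :
    Nat.card ↥(P : Subgroup G) ≤
      Nat.card {c : ConjClasses G // ∀ x ∈ c.carrier, ∃ k : ℕ, orderOf x = p ^ k} := by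
  obtain ⟨P', N, hN, hc⟩ := hc
  have hab' : ∀ x ∈ (P' : Subgroup G), ∀ y ∈ (P' : Subgroup G), x * y = y * x := by
    obtain ⟨g, rfl⟩ := MulAction.exists_smul_eq G P P'
    intro x hx y hy
    rw [Sylow.coe_subgroup_smul] at hx hy
    obtain ⟨x', hx', rfl⟩ := hx
    obtain ⟨y', hy', rfl⟩ := hy
    have h := setLike_mul_comm hx' hy'
    change MulAut.conj g x' * MulAut.conj g y' = MulAut.conj g y' * MulAut.conj g x'
    rw [← map_mul, ← map_mul, h]
  have hcard : Nat.card (P' : Subgroup G) = Nat.card (P : Subgroup G) := by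
    rw [Sylow.card_eq_multiplicity, Sylow.card_eq_multiplicity]
  rw [← hcard]
  refine Nat.card_le_card_of_injective
    (fun x : (P' : Subgroup G) => (⟨ConjClasses.mk (x : G),
      mk_pclass p (x : G) (orderOf_mem_sylow P' x x.2)⟩ :
      {c : ConjClasses G // ∀ x ∈ c.carrier, ∃ k : ℕ, orderOf x = p ^ k})) ?_
  intro x y hxy
  have h1 := congrArg Subtype.val hxy
  change ConjClasses.mk (x : G) = ConjClasses.mk (y : G) at h1
  rw [ConjClasses.mk_eq_mk_iff_isConj, isConj_iff] at h1
  obtain ⟨g, hg⟩ := h1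
  obtain ⟨⟨n, u⟩, hnu⟩ := hc.2 g
  change (n : G) * (u : G) = g at hnu
  have h2 : (u : G) * x * (u : G)⁻¹ = x := by
    rw [hab' u u.2 x x.2, mul_inv_cancel_right]
  have h3 : (n : G) * x * (n : G)⁻¹ = y := by
    rw [← hg, ← hnu, mul_inv_rev]
    calc (n : G) * x * (n : G)⁻¹ = (n : G) * ((u : G) * x * (u : G)⁻¹) * (n : G)⁻¹ := by rw [h2]
      _ = _ := by group
  have h4 : (y : G) * (x : G)⁻¹ ∈ N := by
    rw [← h3]
    have : (x : G) * (n : G)⁻¹ * (x : G)⁻¹ ∈ N := hN.conj_mem _ (N.inv_mem n.2) _
    have h5 := N.mul_mem n.2 this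
    convert h5 using 1
    group
  have h5 : (y : G) * (x : G)⁻¹ ∈ (P' : Subgroup G) := (P' : Subgroup G).mul_mem y.2 ((P' : Subgroup G).inv_mem x.2)
  have h6 := Subgroup.disjoint_def.mp hc.disjoint h4 h5
  exact Subtype.ext (by rw [mul_inv_eq_one] at h6; exact h6.symm)

/-- Let p be an odd prime and G a finite group with Sylow p-subgroup P, and write k_p(G) for the number of conjugacy classes of G consisting of p-elements (elements of p-power order, the identity included). Then k_p(G) > (p + 1)|P|/(2p) if and only if G has a normal p-complement and P is abelian. -/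
theorem result {G : Type*} [Group G] [Finite G] {p : ℕ} [Fact p.Prime] (hp : p ≠ 2) (P : Sylow p G) :
    (p + 1) * Nat.card ↥(P : Subgroup G) < 2 * p * Nat.card {c : ConjClasses G // ∀ x ∈ c.carrier, ∃ k : ℕ, orderOf x = p ^ k} ↔
      Cfsg.HasNormalPComplement p G ∧ IsMulCommutative ↥(P : Subgroup G) := by
  have hpp : p.Prime := Fact.out
  constructor
  · intro hk
    have hNC := normalizer_le_centralizer_of_many_classes P hk
    exact ⟨⟨P, (MonoidHom.transferSylow P hNC).ker, inferInstance,
      MonoidHom.ker_transferSylow_isComplement' P hNC⟩,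
      ⟨⟨fun a b => Subtype.ext (hNC (Subgroup.le_normalizer b.2) a a.2)⟩⟩⟩
  · rintro ⟨hc, hab⟩
    have h1 := card_le_classes_of_complement P hab hc
    have h2 : 0 < Nat.card ↥(P : Subgroup G) := Nat.card_pos
    have h3 := hpp.two_le
    have h4 := Nat.mul_le_mul_left (2 * p) h1
    nlinarith

end Cfsg.Agent.S3897
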