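import Cfsg.Statements.S3895
import Cfsg.Agent.S3897
import Cfsg.Agent.Lib.helper67.Frobenius
import Cfsg.Agent.Lib.helper38.WeaklyClosed2

set_option autoImplicit false
open Cfsg

namespace Cfsg.Agent.S3895

open Cfsg.Agent.Lib.helper38 Cfsg.Agent.Lib.helper67 Cfsg.Agent.S3897

/-- Counting lemma: if all fibres of a surjection `φ : X → Y` outside a set `S` have at least two
elements, the fibres through a set `T` disjoint from `S` have at least three elements, and
`3 |S| ≤ |T|`, then `2 |Y| ≤ |X|`. -/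
theorem two_mul_card_le {X Y : Type*} [Fintype X] [Fintype Y] [DecidableEq X] [DecidableEq Y]
    (φ : X → Y) (hφ : Function.Surjective φ) (S T : Finset X)
    (hS : ∀ x, x ∉ S → ∃ x', x' ≠ x ∧ φ x' = φ x)
    (hT : ∀ x ∈ T, ∃ x' x'', x' ≠ x ∧ x'' ≠ x ∧ x' ≠ x'' ∧ φ x' = φ x ∧ φ x'' = φ x)
    (hdisj : Disjoint S T) (hST : 3 * S.card ≤ T.card) :
    2 * Fintype.card Y ≤ Fintype.card X := by
  classical
  set fib : X → Finset X := fun x => Finset.univ.filter (fun x' => φ x' = φ x) with hfib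
  have hfibpos : ∀ x, 1 ≤ (fib x).card := fun x =>
    Finset.card_pos.mpr ⟨x, by simp [hfib]⟩
  have hsum : (Fintype.card Y : ℚ) = ∑ x : X, (1 : ℚ) / (fib x).card := by
    rw [← Finset.sum_fiberwise (Finset.univ : Finset X) φ (fun x => (1 : ℚ) / (fib x).card)]
    rw [← Finset.card_univ, Finset.card_eq_sum_ones, Nat.cast_sum]
    refine Finset.sum_congr rfl fun y _ => ?_
    obtain ⟨x₀, rfl⟩ := hφ y
    have h1 : ∀ x ∈ Finset.univ.filter (fun x' => φ x' = φ x₀),
        (1 : ℚ) / (fib x).card = 1 / (fib x₀).card := by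
      intro x hx
      have hx' : φ x = φ x₀ := (Finset.mem_filter.mp hx).2
      simp only [hfib, hx']
    rw [Finset.sum_congr rfl h1, Finset.sum_const, nsmul_eq_mul]
    have h0 : ((fib x₀).card : ℚ) ≠ 0 := by
      have := hfibpos x₀
      exact_mod_cast (by omega : (fib x₀).card ≠ 0)
    have h2 : (Finset.univ.filter (fun x' => φ x' = φ x₀)) = fib x₀ := rfl
    rw [h2]
    field_simp
    simp
  have hbound : ∀ x : X, (1 : ℚ) / (fib x).card ≤
      1 / 2 + (if x ∈ S then 1 / 2 else 0) - (if x ∈ T then 1 / 6 else 0) := by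
    intro x
    by_cases hxS : x ∈ S
    · have hxT : x ∉ T := fun h => (Finset.disjoint_left.mp hdisj hxS) h
      rw [if_pos hxS, if_neg hxT]
      have h1 : (1 : ℚ) ≤ (fib x).card := by exact_mod_cast hfibpos x
      have h2 : (1 : ℚ) / (fib x).card ≤ 1 / 1 := one_div_le_one_div_of_le one_pos h1
      linarith
    · rw [if_neg hxS]
      by_cases hxT : x ∈ T
      · rw [if_pos hxT]
        obtain ⟨x', x'', h1, h2, h3, h4, h5⟩ := hT x hxT
        have hsub : ({x, x', x''} : Finset X) ⊆ fib x := by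
          intro y hy
          simp only [Finset.mem_insert, Finset.mem_singleton] at hy
          rcases hy with rfl | rfl | rfl <;> simp [hfib, h4, h5]
        have hc3 : ({x, x', x''} : Finset X).card = 3 :=
          Finset.card_eq_three.mpr ⟨x, x', x'', h1.symm, h2.symm, h3, rfl⟩
        have h6 : 3 ≤ (fib x).card := hc3 ▸ Finset.card_le_card hsub
        have h7 : (3 : ℚ) ≤ (fib x).card := by exact_mod_cast h6
        have h8 : (1 : ℚ) / (fib x).card ≤ 1 / 3 := one_div_le_one_div_of_le (by norm_num) h7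
        linarith
      · rw [if_neg hxT]
        obtain ⟨x', h1, h4⟩ := hS x hxS
        have hsub : ({x, x'} : Finset X) ⊆ fib x := by
          intro y hy
          simp only [Finset.mem_insert, Finset.mem_singleton] at hy
          rcases hy with rfl | rfl <;> simp [hfib, h4]
        have hc2 : ({x, x'} : Finset X).card = 2 := Finset.card_pair h1.symm
        have h6 : 2 ≤ (fib x).card := hc2 ▸ Finset.card_le_card hsub
        have h7 : (2 : ℚ) ≤ (fib x).card := by exact_mod_cast h6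
        have h8 : (1 : ℚ) / (fib x).card ≤ 1 / 2 := one_div_le_one_div_of_le (by norm_num) h7
        linarith
  have htot : (Fintype.card Y : ℚ) ≤
      (Fintype.card X : ℚ) / 2 + (S.card : ℚ) / 2 - (T.card : ℚ) / 6 := by
    rw [hsum]
    refine (Finset.sum_le_sum fun x _ => hbound x).trans (le_of_eq ?_)
    rw [Finset.sum_sub_distrib, Finset.sum_add_distrib, Finset.sum_const, Finset.sum_ite_mem,
      Finset.sum_ite_mem, Finset.univ_inter, Finset.univ_inter, Finset.sum_const, Finset.sum_const,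
      Finset.card_univ]
    simp only [nsmul_eq_mul]
    ring
  have hST' : (3 : ℚ) * S.card ≤ T.card := by exact_mod_cast hST
  have hfin : (2 : ℚ) * Fintype.card Y ≤ Fintype.card X := by linarith
  exact_mod_cast hfin

/-- A weakly closed element of a Sylow subgroup and a conjugate of it lying in a common subgroup
`C` are conjugate in `C`. -/
theorem exists_conj_mem_of_weaklyClosed {G : Type*} [Group G] [Finite G] {p : ℕ} [Fact p.Prime]
    (S : Sylow p G) (a : G) (haS : a ∈ (S : Subgroup G))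
    (hwc : ∀ g : G, g * a * g⁻¹ ∈ (S : Subgroup G) → g * a * g⁻¹ = a)
    (C : Subgroup G) (haC : a ∈ C) (g : G) (hgC : g * a * g⁻¹ ∈ C) :
    ∃ c ∈ C, c * (g * a * g⁻¹) * c⁻¹ = a := by
  obtain ⟨k, hk⟩ := orderOf_mem_sylow S a haS
  have hpa : IsPGroup p (Subgroup.zpowers (⟨a, haC⟩ : C)) :=
    IsPGroup.of_card (n := k) (by rw [Nat.card_zpowers, Subgroup.orderOf_mk, hk])
  have hpb : IsPGroup p (Subgroup.zpowers (⟨g * a * g⁻¹, hgC⟩ : C)) := by
    refine IsPGroup.of_card (n := k) ?_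
    rw [Nat.card_zpowers, Subgroup.orderOf_mk, ← hk]
    exact (MulAut.conj g).orderOf_eq a
  obtain ⟨Q, hQ⟩ := hpa.exists_le_sylow
  obtain ⟨Q', hQ'⟩ := hpb.exists_le_sylow
  obtain ⟨c, hc⟩ := MulAction.exists_smul_eq C Q' Q
  have hbQ : c * ⟨g * a * g⁻¹, hgC⟩ * c⁻¹ ∈ (Q : Subgroup C) := by
    rw [← hc, Sylow.coe_subgroup_smul]
    exact ⟨_, hQ' (Subgroup.mem_zpowers _), by simp [MulAut.conj_apply]⟩
  have hQG : IsPGroup p ((Q : Subgroup C).map C.subtype) := Q.2.map _
  obtain ⟨R, hR⟩ := hQG.exists_le_sylow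
  obtain ⟨d, rfl⟩ := MulAction.exists_smul_eq G S R
  have haR : a ∈ ((d • S : Sylow p G) : Subgroup G) :=
    hR ⟨⟨a, haC⟩, hQ (Subgroup.mem_zpowers _), rfl⟩
  have hbR : (c : G) * (g * a * g⁻¹) * (c : G)⁻¹ ∈ ((d • S : Sylow p G) : Subgroup G) :=
    hR ⟨_, hbQ, rfl⟩
  rw [mem_smul_sylow_iff] at haR hbR
  have h1 : d⁻¹ * a * d = a := by
    have := hwc d⁻¹ (by simpa using haR)
    simpa using this
  have h2 : d⁻¹ * ((c : G) * (g * a * g⁻¹) * (c : G)⁻¹) * d = a := by
    have h3 : (d⁻¹ * (c : G) * g) * a * (d⁻¹ * (c : G) * g)⁻¹ =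
        d⁻¹ * ((c : G) * (g * a * g⁻¹) * (c : G)⁻¹) * d := by group
    have := hwc (d⁻¹ * (c : G) * g) (by rw [h3]; exact hbR)
    rw [← h3]; exact this
  refine ⟨c, c.2, ?_⟩
  have h4 : d⁻¹ * ((c : G) * (g * a * g⁻¹) * (c : G)⁻¹) * d = d⁻¹ * a * d := by rw [h2, h1]
  exact mul_left_cancel (mul_right_cancel h4)

/-- Multiplication by a weakly closed element respects fusion in the Sylow subgroup. -/
theorem isConj_mul_of_weaklyClosed {G : Type*} [Group G] [Finite G] {p : ℕ} [Fact p.Prime]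
    (P : Sylow p G) (z : G) (hz : z ∈ weaklyClosedSubgroup P) (x : G) (hx : x ∈ (P : Subgroup G))
    (h : G) (hh : h * x * h⁻¹ ∈ (P : Subgroup G)) : IsConj (z * x) (z * (h * x * h⁻¹)) := by
  obtain ⟨hzP, hwc⟩ := (mem_weaklyClosedSubgroup P z).mp hz
  have hcomm : ∀ s ∈ (P : Subgroup G), s * z = z * s := weaklyClosed_comm P z hzP hwc
  have hzC : z ∈ Subgroup.centralizer ({h * x * h⁻¹} : Set G) := by
    rw [Subgroup.mem_centralizer_iff]
    intro y hy
    rw [Set.mem_singleton_iff] at hy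
    subst hy
    exact hcomm _ hh
  have hzC' : h * z * h⁻¹ ∈ Subgroup.centralizer ({h * x * h⁻¹} : Set G) := by
    rw [Subgroup.mem_centralizer_iff]
    intro y hy
    rw [Set.mem_singleton_iff] at hy
    subst hy
    have := hcomm x hx
    calc h * x * h⁻¹ * (h * z * h⁻¹) = h * (x * z) * h⁻¹ := by group
      _ = h * (z * x) * h⁻¹ := by rw [this]
      _ = h * z * h⁻¹ * (h * x * h⁻¹) := by group
  obtain ⟨c, hc, hcz⟩ := exists_conj_mem_of_weaklyClosed P z hzP hwc _ hzC h hzC'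
  rw [Subgroup.mem_centralizer_iff] at hc
  have hcy : c * (h * x * h⁻¹) * c⁻¹ = h * x * h⁻¹ := by
    have := hc (h * x * h⁻¹) (Set.mem_singleton _)
    rw [← this]; group
  rw [isConj_iff]
  refine ⟨c * h, ?_⟩
  calc c * h * (z * x) * (c * h)⁻¹ = (c * (h * z * h⁻¹) * c⁻¹) * (c * (h * x * h⁻¹) * c⁻¹) := by
        group
    _ = z * (h * x * h⁻¹) := by rw [hcz, hcy]

/-- If a `p'`-element `a` normalizing `Q ≤ P` moves `y ∈ Q` by a weakly closed element, then it
fixes `y`. -/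
theorem conj_eq_of_mul_mem_weaklyClosed {G : Type*} [Group G] [Finite G] {p : ℕ} [Fact p.Prime]
    (P : Sylow p G) (Q : Subgroup G) (hQ : Q ≤ (P : Subgroup G)) (a : G)
    (ha : a ∈ Subgroup.normalizer (Q : Set G)) (hcop : (orderOf a).Coprime p) (y : G) (hy : y ∈ Q)
    (hz : y⁻¹ * (a * y * a⁻¹) ∈ weaklyClosedSubgroup P) : a * y * a⁻¹ = y := by
  obtain ⟨hzP, hwc⟩ := (mem_weaklyClosedSubgroup P _).mp hz
  set z := y⁻¹ * (a * y * a⁻¹) with hzdef
  have hay : a * y * a⁻¹ ∈ Q := (Subgroup.mem_normalizer_iff.mp ha y).mp hy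
  have hzQ : z ∈ Q := Q.mul_mem (Q.inv_mem hy) hay
  have haz : a * z * a⁻¹ = z := hwc a (hQ ((Subgroup.mem_normalizer_iff.mp ha z).mp hzQ))
  have hyz : a * y * a⁻¹ = y * z := by rw [hzdef]; group
  have hpow : ∀ k : ℕ, a ^ k * y * (a ^ k)⁻¹ = y * z ^ k := by
    intro k
    induction k with
    | zero => simp
    | succ k ih =>
      calc a ^ (k + 1) * y * (a ^ (k + 1))⁻¹ = a * (a ^ k * y * (a ^ k)⁻¹) * a⁻¹ := by
            rw [pow_succ']; group
        _ = a * (y * z ^ k) * a⁻¹ := by rw [ih]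
        _ = (a * y * a⁻¹) * (a * z * a⁻¹) ^ k := by rw [conj_pow]; group
        _ = y * z ^ (k + 1) := by rw [haz, hyz, pow_succ', mul_assoc]
  have h1 := hpow (orderOf a)
  rw [pow_orderOf_eq_one] at h1
  have h2 : z ^ orderOf a = 1 := by
    have : y = y * z ^ orderOf a := by simpa using h1
    exact (mul_eq_left.mp this.symm)
  obtain ⟨j, hj⟩ := orderOf_mem_sylow P z hzP
  have h3 : orderOf z ∣ orderOf a := orderOf_dvd_of_pow_eq_one h2
  have h4 : orderOf z = 1 := by
    have h5 : (orderOf z).Coprime (orderOf z) := by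
      refine Nat.Coprime.coprime_dvd_left h3 ?_
      rw [hj]
      exact Nat.Coprime.pow_right j hcop
    exact (Nat.coprime_self _).mp h5
  have h6 : z = 1 := orderOf_eq_one_iff.mp h4
  rw [hyz, h6, mul_one]

/-- The map from classes of a Sylow `2`-subgroup to the classes of `2`-elements of `G`. -/
noncomputable def classMap {G : Type*} [Group G] (P : Sylow 2 G) (c : ConjClasses ↥(P : Subgroup G)) :
    {c : ConjClasses G // ∀ x ∈ c.carrier, ∃ k : ℕ, orderOf x = 2 ^ k} :=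
  ⟨ConjClasses.map (P : Subgroup G).subtype c, by
    obtain ⟨x, rfl⟩ := ConjClasses.exists_rep c
    exact mk_pclass 2 (x : G) (orderOf_mem_sylow P x x.2)⟩

theorem classMap_surjective {G : Type*} [Group G] [Finite G] (P : Sylow 2 G) :
    Function.Surjective (classMap P) := by
  rintro ⟨c, hc⟩
  obtain ⟨x, hx, rfl⟩ := exists_mem_sylow P c hc
  exact ⟨ConjClasses.mk ⟨x, hx⟩, Subtype.ext rfl⟩

theorem classMap_injective {G : Type*} [Group G] [Finite G] (P : Sylow 2 G)
    (hc : Cfsg.HasNormalPComplement 2 G) : Function.Injective (classMap P) := by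
  obtain ⟨P', N, hN, hc'⟩ := hc
  have hc : N.IsComplement' (P : Subgroup G) :=
    Cfsg.Agent.Lib.helper40.isComplement'_of_pprime_elements N
      (fun n => mem_iff_coprime_of_isComplement' N P' hc' n) P
  intro c c' h
  obtain ⟨x, rfl⟩ := ConjClasses.exists_rep c
  obtain ⟨y, rfl⟩ := ConjClasses.exists_rep c'
  have h1 := congrArg Subtype.val h
  change ConjClasses.mk (x : G) = ConjClasses.mk (y : G) at h1
  rw [ConjClasses.mk_eq_mk_iff_isConj, isConj_iff] at h1
  obtain ⟨g, hg⟩ := h1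
  obtain ⟨⟨n, u⟩, hnu⟩ := hc.2 g
  change (n : G) * (u : G) = g at hnu
  set x' : G := (u : G) * x * (u : G)⁻¹ with hx'
  have hx'P : x' ∈ (P : Subgroup G) :=
    (P : Subgroup G).mul_mem ((P : Subgroup G).mul_mem u.2 x.2) ((P : Subgroup G).inv_mem u.2)
  have h3 : (n : G) * x' * (n : G)⁻¹ = y := by
    rw [← hg, ← hnu, hx']; group
  have h4 : (y : G) * x'⁻¹ ∈ N := by
    rw [← h3]
    have : x' * (n : G)⁻¹ * x'⁻¹ ∈ N := hN.conj_mem _ (N.inv_mem n.2) _
    have h5 := N.mul_mem n.2 this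
    convert h5 using 1
    group
  have h5 : (y : G) * x'⁻¹ ∈ (P : Subgroup G) :=
    (P : Subgroup G).mul_mem y.2 ((P : Subgroup G).inv_mem hx'P)
  have h6 := Subgroup.disjoint_def.mp hc.disjoint h4 h5
  rw [mul_inv_eq_one] at h6
  rw [ConjClasses.mk_eq_mk_iff_isConj, isConj_iff]
  exact ⟨u, Subtype.ext (by simpa [hx'] using h6.symm)⟩

/-- Without a normal `2`-complement there are at most `|P| / 2` classes of `2`-elements. -/
theorem card_le_of_not_complement {G : Type*} [Group G] [Finite G] (P : Sylow 2 G)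
    (hnc : ¬ Cfsg.HasNormalPComplement 2 G) :
    2 * Nat.card {c : ConjClasses G // ∀ x ∈ c.carrier, ∃ k : ℕ, orderOf x = 2 ^ k} ≤
      Nat.card ↥(P : Subgroup G) := by
  classical
  have hF : ¬ FrobCond 2 G := fun h => hnc h.hasNormalPComplement
  have hex : ∃ Q : Subgroup G, Q ≤ (P : Subgroup G) ∧ ∃ g ∈ Subgroup.normalizer (Q : Set G),
      Nat.Coprime (orderOf g) 2 ∧ g ∉ Subgroup.centralizer (Q : Set G) := by
    by_contra hcon
    apply hF
    apply frobCond_of_sylow P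
    intro Q hQ g hg hcop
    by_contra hgc
    exact hcon ⟨Q, hQ, g, hg, hcop, hgc⟩
  obtain ⟨Q, hQP, g, hgN, hcop, hgC⟩ := hex
  have hx0 : ∃ x₀ ∈ Q, g * x₀ * g⁻¹ ≠ x₀ := by
    by_contra hcon
    apply hgC
    rw [Subgroup.mem_centralizer_iff]
    intro q hq
    have h1 : g * q * g⁻¹ = q := by
      by_contra h2
      exact hcon ⟨q, hq, h2⟩
    calc q * g = (g * q * g⁻¹) * g := by rw [h1]
      _ = g * q := by group
  obtain ⟨x₀, hx₀Q, hx₀⟩ := hx0
  set W := weaklyClosedSubgroup P with hW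
  have hWcomm : ∀ w ∈ W, ∀ s ∈ (P : Subgroup G), s * w = w * s := by
    intro w hw s hs
    obtain ⟨hwP, hwc⟩ := (mem_weaklyClosedSubgroup P w).mp hw
    exact weaklyClosed_comm P w hwP hwc s hs
  have hgpow : ∀ j : ℕ, g ^ j ∈ Subgroup.normalizer (Q : Set G) := fun j => pow_mem hgN j
  have hcoppow : ∀ j : ℕ, (orderOf (g ^ j)).Coprime 2 := fun j =>
    Nat.Coprime.coprime_dvd_left (orderOf_pow_dvd j) hcop
  have hconjQ : ∀ i : ℕ, g ^ i * x₀ * (g ^ i)⁻¹ ∈ Q := fun i =>
    (Subgroup.mem_normalizer_iff.mp (hgpow i) x₀).mp hx₀Q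
  -- `g ^ d` does not fix `x₀` for `d = 1, 2`
  have hfix : ∀ d : ℕ, 0 < d → d < 3 → g ^ d * x₀ * (g ^ d)⁻¹ ≠ x₀ := by
    intro d hd0 hd3 h
    have hd : d = 1 ∨ d = 2 := by omega
    rcases hd with rfl | rfl
    · rw [pow_one] at h; exact hx₀ h
    · have hodd : Odd (orderOf g) := Nat.coprime_two_right.mp hcop
      obtain ⟨m, hm⟩ := hodd
      have hg : (g ^ 2) ^ (m + 1) = g := by
        rw [← pow_mul]
        have : 2 * (m + 1) = orderOf g + 1 := by omega
        rw [this, pow_succ, pow_orderOf_eq_one, one_mul]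
      have hc : Commute (g ^ 2) x₀ := by
        have : g ^ 2 * x₀ = x₀ * g ^ 2 := by
          calc g ^ 2 * x₀ = (g ^ 2 * x₀ * (g ^ 2)⁻¹) * g ^ 2 := by group
            _ = x₀ * g ^ 2 := by rw [h]
        exact this
      have hc' : Commute g x₀ := by
        have := hc.pow_left (m + 1)
        rwa [hg] at this
      apply hx₀
      rw [hc'.eq, mul_inv_cancel_right]
  -- separation of the conjugates modulo `W`
  have hsep : ∀ (i d : ℕ), 0 < d → d < 3 →
      (g ^ i * x₀ * (g ^ i)⁻¹)⁻¹ * (g ^ (i + d) * x₀ * (g ^ (i + d))⁻¹) ∉ W := by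
    intro i d hd0 hd3 h
    have heq : g ^ (i + d) * x₀ * (g ^ (i + d))⁻¹ =
        g ^ d * (g ^ i * x₀ * (g ^ i)⁻¹) * (g ^ d)⁻¹ := by
      rw [add_comm, pow_add]; group
    rw [heq] at h
    have h1 := conj_eq_of_mul_mem_weaklyClosed P Q hQP (g ^ d) (hgpow d) (hcoppow d) _ (hconjQ i) h
    apply hfix d hd0 hd3
    have hcomm : g ^ d * g ^ i = g ^ i * g ^ d := by rw [← pow_add, ← pow_add, add_comm]
    have h2 : g ^ i * (g ^ d * x₀ * (g ^ d)⁻¹) * (g ^ i)⁻¹ = g ^ i * x₀ * (g ^ i)⁻¹ := by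
      rw [← h1]
      calc g ^ i * (g ^ d * x₀ * (g ^ d)⁻¹) * (g ^ i)⁻¹
          = (g ^ i * g ^ d) * x₀ * (g ^ i * g ^ d)⁻¹ := by group
        _ = (g ^ d * g ^ i) * x₀ * (g ^ d * g ^ i)⁻¹ := by rw [hcomm]
        _ = g ^ d * (g ^ i * x₀ * (g ^ i)⁻¹) * (g ^ d)⁻¹ := by group
    exact mul_left_cancel (mul_right_cancel h2)
  set xs : Fin 3 → G := fun j => g ^ (j : ℕ) * x₀ * (g ^ (j : ℕ))⁻¹ with hxs
  have hxsP : ∀ j, xs j ∈ (P : Subgroup G) := fun j => hQP (hconjQ j)
  have hsep' : ∀ i j : Fin 3, (xs j)⁻¹ * xs i ∈ W → i = j := by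
    intro i j h
    by_contra hne
    rcases lt_or_gt_of_ne (fun h' => hne (Fin.ext h')) with hlt | hlt
    · -- i < j
      obtain ⟨d, hd⟩ := Nat.exists_eq_add_of_lt hlt
      have h' : ((xs j)⁻¹ * xs i)⁻¹ ∈ W := W.inv_mem h
      rw [mul_inv_rev, inv_inv] at h'
      apply hsep (i : ℕ) (d + 1) (by omega) (by have := j.2; omega)
      have : (i : ℕ) + (d + 1) = (j : ℕ) := by omega
      rw [this]
      exact h'
    · obtain ⟨d, hd⟩ := Nat.exists_eq_add_of_lt hlt
      apply hsep (j : ℕ) (d + 1) (by omega) (by have := i.2; omega)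
      have : (j : ℕ) + (d + 1) = (i : ℕ) := by omega
      rw [this]
      exact h
  have hxsinj : Function.Injective xs := by
    intro i j h
    apply hsep'
    rw [h, inv_mul_cancel]
    exact W.one_mem
  -- the counting set-up
  have := Fintype.ofFinite ↥(P : Subgroup G)
  have := Fintype.ofFinite {c : ConjClasses G // ∀ x ∈ c.carrier, ∃ k : ℕ, orderOf x = 2 ^ k}
  set φ : ↥(P : Subgroup G) → {c : ConjClasses G // ∀ x ∈ c.carrier, ∃ k : ℕ, orderOf x = 2 ^ k} :=
    fun x => ⟨ConjClasses.mk (x : G), mk_pclass 2 (x : G) (orderOf_mem_sylow P x x.2)⟩ with hφdef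
  have hφeq : ∀ x x' : ↥(P : Subgroup G), φ x' = φ x ↔ IsConj (x' : G) (x : G) := by
    intro x x'
    rw [hφdef, Subtype.mk.injEq, ConjClasses.mk_eq_mk_iff_isConj]
  have hφ : Function.Surjective φ := by
    rintro ⟨c, hc⟩
    obtain ⟨x, hx, rfl⟩ := exists_mem_sylow P c hc
    exact ⟨⟨x, hx⟩, rfl⟩
  set S : Finset ↥(P : Subgroup G) := Finset.univ.filter (fun x => (x : G) ∈ W) with hSdef
  set T : Finset ↥(P : Subgroup G) := Finset.univ.filter (fun x =>
    ∃ x' x'' : ↥(P : Subgroup G), x' ≠ x ∧ x'' ≠ x ∧ x' ≠ x'' ∧ φ x' = φ x ∧ φ x'' = φ x) with hTdef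
  have hS : ∀ x, x ∉ S → ∃ x', x' ≠ x ∧ φ x' = φ x := by
    intro x hx
    have hx' : (x : G) ∉ W := fun h => hx (Finset.mem_filter.mpr ⟨Finset.mem_univ _, h⟩)
    rw [hW, mem_weaklyClosedSubgroup] at hx'
    have : ∃ c : G, c * (x : G) * c⁻¹ ∈ (P : Subgroup G) ∧ c * (x : G) * c⁻¹ ≠ x := by
      by_contra hcon
      apply hx'
      refine ⟨x.2, fun c hc => ?_⟩
      by_contra h2
      exact hcon ⟨c, hc, h2⟩
    obtain ⟨c, hc1, hc2⟩ := this
    refine ⟨⟨c * (x : G) * c⁻¹, hc1⟩, fun h => hc2 (congrArg Subtype.val h), ?_⟩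
    rw [hφeq, isConj_iff]
    exact ⟨c⁻¹, by group⟩
  have hT : ∀ x ∈ T, ∃ x' x'', x' ≠ x ∧ x'' ≠ x ∧ x' ≠ x'' ∧ φ x' = φ x ∧ φ x'' = φ x :=
    fun x hx => (Finset.mem_filter.mp hx).2
  have hdisj : Disjoint S T := by
    rw [Finset.disjoint_left]
    intro x hxS hxT
    obtain ⟨x', -, h1, -, -, h4, -⟩ := hT x hxT
    have hxW : (x : G) ∈ W := (Finset.mem_filter.mp hxS).2
    obtain ⟨-, hwc⟩ := (mem_weaklyClosedSubgroup P _).mp hxW
    rw [hφeq, isConj_iff] at h4
    obtain ⟨c, hc⟩ := h4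
    have h5 : c⁻¹ * (x : G) * c⁻¹⁻¹ = x' := by rw [← hc]; group
    have h6 := hwc c⁻¹ (by rw [h5]; exact x'.2)
    rw [h5] at h6
    exact h1 (Subtype.ext h6)
  have hST : 3 * S.card ≤ T.card := by
    have hcard : (S ×ˢ (Finset.univ : Finset (Fin 3))).card = 3 * S.card := by
      rw [Finset.card_product, Finset.card_univ, Fintype.card_fin, mul_comm]
    rw [← hcard]
    have hconj0 : ∀ (z : ↥(P : Subgroup G)), z ∈ S → ∀ i : Fin 3,
        IsConj ((z : G) * x₀) ((z : G) * xs i) := by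
      intro z hz i
      exact isConj_mul_of_weaklyClosed P z (Finset.mem_filter.mp hz).2 x₀ (hQP hx₀Q)
        (g ^ (i : ℕ)) (hxsP i)
    have hconj : ∀ (z : ↥(P : Subgroup G)), z ∈ S → ∀ i j : Fin 3,
        IsConj ((z : G) * xs i) ((z : G) * xs j) :=
      fun z hz i j => (hconj0 z hz i).symm.trans (hconj0 z hz j)
    refine Finset.card_le_card_of_injOn
      (fun zj : ↥(P : Subgroup G) × Fin 3 => zj.1 * ⟨xs zj.2, hxsP zj.2⟩) ?_ ?_
    · rintro ⟨z, j⟩ hzj
      have hz : z ∈ S := (Finset.mem_product.mp (Finset.mem_coe.mp hzj)).1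
      have hj3 : ∀ j : Fin 3, j + 1 ≠ j ∧ j + 2 ≠ j ∧ j + 1 ≠ j + 2 := by decide
      have hj := hj3 j
      refine Finset.mem_coe.mpr (Finset.mem_filter.mpr ⟨Finset.mem_univ _, ?_⟩)
      refine ⟨z * ⟨xs (j + 1), hxsP (j + 1)⟩, z * ⟨xs (j + 2), hxsP (j + 2)⟩, ?_, ?_, ?_, ?_, ?_⟩
      · intro h
        have h1 := mul_left_cancel h
        exact hj.1 (hxsinj (congrArg Subtype.val h1))
      · intro h
        have h1 := mul_left_cancel h
        exact hj.2.1 (hxsinj (congrArg Subtype.val h1))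
      · intro h
        have h1 := mul_left_cancel h
        exact hj.2.2 (hxsinj (congrArg Subtype.val h1))
      · rw [hφeq]; exact hconj z hz (j + 1) j
      · rw [hφeq]; exact hconj z hz (j + 2) j
    · rintro ⟨z, i⟩ hzi ⟨z', j⟩ hzj h
      have hz : (z : G) ∈ W := (Finset.mem_filter.mp (Finset.mem_product.mp (Finset.mem_coe.mp hzi)).1).2
      have hz' : (z' : G) ∈ W := (Finset.mem_filter.mp (Finset.mem_product.mp (Finset.mem_coe.mp hzj)).1).2
      have h1 : (z : G) * xs i = (z' : G) * xs j := congrArg Subtype.val h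
      have h2 : (xs j)⁻¹ * xs i = (z : G)⁻¹ * (z' : G) := by
        have hw : (z : G)⁻¹ * (z' : G) ∈ W := W.mul_mem (W.inv_mem hz) hz'
        have h3 := hWcomm _ hw (xs j) (hxsP j)
        have h4 : xs i = (z : G)⁻¹ * (z' : G) * xs j := by
          rw [mul_assoc, ← h1]; group
        rw [h4, ← h3]; group
      have hij : i = j := hsep' i j (by rw [h2]; exact W.mul_mem (W.inv_mem hz) hz')
      subst hij
      have h5 : z = z' := Subtype.ext (mul_right_cancel h1)
      rw [h5]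
  have hmain := two_mul_card_le φ hφ S T hS hT hdisj hST
  rw [Nat.card_eq_fintype_card, Nat.card_eq_fintype_card]
  exact hmain

/-- Let G be a finite group with Sylow 2-subgroup P, and write k₂(G) for the number of conjugacy classes of G consisting of 2-elements (elements of 2-power order, the identity included). Then k₂(G) > |P|/2 if and only if G has a normal 2-complement and P has more than |P|/2 conjugacy classes. -/
theorem result {G : Type*} [Group G] [Finite G] (P : Sylow 2 G) :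
    Nat.card ↥(P : Subgroup G) < 2 * Nat.card {c : ConjClasses G // ∀ x ∈ c.carrier, ∃ k : ℕ, orderOf x = 2 ^ k} ↔
      Cfsg.HasNormalPComplement 2 G ∧ Nat.card ↥(P : Subgroup G) < 2 * Nat.card (ConjClasses ↥(P : Subgroup G)) := by
  constructor
  · intro hk
    have hle := Nat.card_le_card_of_surjective _ (classMap_surjective P)
    refine ⟨?_, by omega⟩
    by_contra hnc
    have := card_le_of_not_complement P hnc
    omega
  · rintro ⟨hc, hk⟩
    have hle := Nat.card_le_card_of_injective _ (classMap_injective P hc)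
    omega

end Cfsg.Agent.S3895
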