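import Cfsg.Statements.S3899
import Cfsg.Agent.S3897

set_option autoImplicit false
open Cfsg

namespace Cfsg.Agent.S3899

universe u

/-- The classes of `σ`-elements of a group. -/
abbrev PiCl (σ : Finset ℕ) (G : Type*) [Group G] : Type _ :=
  {c : ConjClasses G // ∀ x ∈ c.carrier, ∀ r : ℕ, r.Prime → r ∣ orderOf x → r ∈ σ}

/-- The classes of `p`-elements of a group. -/
abbrev PCl (p : ℕ) (G : Type*) [Group G] : Type _ :=
  {c : ConjClasses G // ∀ x ∈ c.carrier, ∃ k : ℕ, orderOf x = p ^ k}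

/-- Fibrewise counting. -/
theorem card_le_mul_of_fibers {α β : Type*} [Finite α] [Finite β] (Φ : α → β) (B : ℕ)
    (h : ∀ d : β, Nat.card {c : α // Φ c = d} ≤ B) : Nat.card α ≤ Nat.card β * B := by
  have := Fintype.ofFinite β
  rw [← Nat.card_congr (Equiv.sigmaFiberEquiv Φ), Nat.card_sigma]
  calc ∑ d : β, Nat.card {c : α // Φ c = d} ≤ ∑ _d : β, B := Finset.sum_le_sum fun d _ => h d
    _ = Nat.card β * B := by
      rw [Finset.sum_const, smul_eq_mul, Finset.card_univ, Nat.card_eq_fintype_card]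

/-- Exponents splitting an element of order `n` into its `r`-part and `r'`-part. -/
theorem exists_exponents (r : ℕ) (hr : r.Prime) (n : ℕ) (hn : n ≠ 0) :
    ∃ e f : ℕ, n ∣ e * r ^ n.factorization r ∧ n ∣ f * (n / r ^ n.factorization r) ∧
      e + f ≡ 1 [MOD n] := by
  set q := r ^ n.factorization r with hq
  set m := n / q with hm
  have hqm : q * m = n := Nat.ordProj_mul_ordCompl_eq_self n r
  have hco : Nat.Coprime q m := (Nat.coprime_ordCompl hr hn).pow_left _
  obtain ⟨e, he1, he0⟩ := Nat.chineseRemainder hco 1 0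
  obtain ⟨f, hf0, hf1⟩ := Nat.chineseRemainder hco 0 1
  refine ⟨e, f, ?_, ?_, ?_⟩
  · have : m ∣ e := (Nat.modEq_zero_iff_dvd).mp he0
    rw [← hqm, mul_comm q m]
    exact Nat.mul_dvd_mul this (dvd_refl q)
  · have : q ∣ f := (Nat.modEq_zero_iff_dvd).mp hf0
    rw [← hqm]
    exact Nat.mul_dvd_mul this (dvd_refl m)
  · rw [← hqm]
    refine (Nat.modEq_and_modEq_iff_modEq_mul hco).mp ⟨?_, ?_⟩
    · simpa using he1.add hf0
    · simpa using he0.add hf1

/-- The fibre lemma: the classes of `σ₀ ∪ {r}`-elements are bounded by the number of classes of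
`r`-elements times a bound for the number of classes of `σ₀`-elements in centralizers. -/
theorem card_piCl_insert_le {G : Type u} [Group G] [Finite G] (r : ℕ) (hr : r.Prime)
    (σ₀ : Finset ℕ) (B : ℕ)
    (hB : ∀ y : G, Nat.card (PiCl σ₀ (Subgroup.centralizer ({y} : Set G))) ≤ B) :
    Nat.card (PiCl (insert r σ₀) G) ≤ Nat.card (PCl r G) * B := by
  classical
  -- representatives
  have hrep : ∀ c : PiCl (insert r σ₀) G, ∃ x : G, ConjClasses.mk x = c.1 :=
    fun c => ConjClasses.exists_rep c.1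
  choose xr hxr using hrep
  have hn : ∀ c : PiCl (insert r σ₀) G, orderOf (xr c) ≠ 0 := fun c => (orderOf_pos (xr c)).ne'
  have hexp := fun c : PiCl (insert r σ₀) G => exists_exponents r hr (orderOf (xr c)) (hn c)
  choose e f he hf hef using hexp
  -- the r-part is an r-element
  have hrpart : ∀ c : PiCl (insert r σ₀) G, ∃ k : ℕ, orderOf (xr c ^ e c) = r ^ k := by
    intro c
    have h1 : (xr c ^ e c) ^ r ^ (orderOf (xr c)).factorization r = 1 := by
      rw [← pow_mul]; exact orderOf_dvd_iff_pow_eq_one.mp (he c)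
    obtain ⟨j, -, hj⟩ := (Nat.dvd_prime_pow hr).1 (orderOf_dvd_of_pow_eq_one h1)
    exact ⟨j, hj⟩
  let Φ : PiCl (insert r σ₀) G → PCl r G := fun c =>
    ⟨ConjClasses.mk (xr c ^ e c), Cfsg.Agent.S3897.mk_pclass r _ (hrpart c)⟩
  have hrepT : ∀ d : PCl r G, ∃ y : G, ConjClasses.mk y = d.1 := fun d => ConjClasses.exists_rep d.1
  choose yr hyr using hrepT
  refine card_le_mul_of_fibers Φ B fun d => ?_
  refine le_trans ?_ (hB (yr d))
  have hg : ∀ c : {c : PiCl (insert r σ₀) G // Φ c = d},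
      ∃ g : G, g * (xr c.1 ^ e c.1) * g⁻¹ = yr d := by
    rintro ⟨c, hc⟩
    have h1 : ConjClasses.mk (xr c ^ e c) = ConjClasses.mk (yr d) := by
      rw [hyr d, ← hc]
    rwa [ConjClasses.mk_eq_mk_iff_isConj, isConj_iff] at h1
  choose g hg using hg
  -- the conjugated representative
  have hyd : ∀ c : {c : PiCl (insert r σ₀) G // Φ c = d},
      yr d = (g c * xr c.1 * (g c)⁻¹) ^ e c.1 := by
    intro c; rw [conj_pow, hg c]
  have hz : ∀ c : {c : PiCl (insert r σ₀) G // Φ c = d},
      (g c * xr c.1 * (g c)⁻¹) ^ f c.1 ∈ Subgroup.centralizer ({yr d} : Set G) := by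
    intro c
    rw [Subgroup.mem_centralizer_iff]
    intro h hh
    rw [Set.mem_singleton_iff] at hh
    rw [hh, hyd c, ← pow_add, ← pow_add, add_comm]
  have hord : ∀ c : {c : PiCl (insert r σ₀) G // Φ c = d},
      orderOf (g c * xr c.1 * (g c)⁻¹) = orderOf (xr c.1) := fun c =>
    (MulAut.conj (g c)).orderOf_eq (xr c.1)
  have hsplit : ∀ c : {c : PiCl (insert r σ₀) G // Φ c = d},
      yr d * (g c * xr c.1 * (g c)⁻¹) ^ f c.1 = g c * xr c.1 * (g c)⁻¹ := by
    intro c
    rw [hyd c, ← pow_add]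
    have h1 : e c.1 + f c.1 ≡ 1 [MOD orderOf (g c * xr c.1 * (g c)⁻¹)] := by
      rw [hord c]; exact hef c.1
    have h2 := pow_eq_pow_iff_modEq.mpr h1
    rw [h2, pow_one]
  refine Nat.card_le_card_of_injective
    (fun c => (⟨ConjClasses.mk (⟨_, hz c⟩ : Subgroup.centralizer ({yr d} : Set G)), ?_⟩ :
      PiCl σ₀ (Subgroup.centralizer ({yr d} : Set G)))) ?_
  · intro w hw s hs hsw
    rw [ConjClasses.mem_carrier_iff_mk_eq, ConjClasses.mk_eq_mk_iff_isConj, isConj_iff] at hw
    obtain ⟨u, hu⟩ := hw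
    have h1 : orderOf w = orderOf ((g c * xr c.1 * (g c)⁻¹) ^ f c.1) := by
      rw [← Subgroup.orderOf_mk _ (hz c), ← hu]
      exact ((MulAut.conj u).orderOf_eq w).symm
    have h2 : ((g c * xr c.1 * (g c)⁻¹) ^ f c.1) ^
        (orderOf (xr c.1) / r ^ (orderOf (xr c.1)).factorization r) = 1 := by
      rw [← pow_mul]
      apply orderOf_dvd_iff_pow_eq_one.mp
      rw [hord c]
      exact hf c.1
    have h3 : s ∣ orderOf (xr c.1) / r ^ (orderOf (xr c.1)).factorization r :=
      (h1 ▸ hsw).trans (orderOf_dvd_of_pow_eq_one h2)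
    have h4 : s ∣ orderOf (xr c.1) := h3.trans (Nat.ordCompl_dvd _ _)
    have h5 : s ∈ insert r σ₀ :=
      c.1.2 (xr c.1) (ConjClasses.mem_carrier_iff_mk_eq.mpr (hxr c.1)) s hs h4
    rcases Finset.mem_insert.mp h5 with h6 | h6
    · exfalso
      rw [h6] at h3
      exact Nat.not_dvd_ordCompl hr (hn c.1) h3
    · exact h6
  · intro c₁ c₂ h12
    have h1 := congrArg Subtype.val h12
    change ConjClasses.mk (⟨_, hz c₁⟩ : Subgroup.centralizer ({yr d} : Set G)) =
      ConjClasses.mk (⟨_, hz c₂⟩ : Subgroup.centralizer ({yr d} : Set G)) at h1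
    rw [ConjClasses.mk_eq_mk_iff_isConj, isConj_iff] at h1
    obtain ⟨h, hh⟩ := h1
    have hh' : (h : G) * (g c₁ * xr c₁.1 * (g c₁)⁻¹) ^ f c₁.1 * (h : G)⁻¹ =
        (g c₂ * xr c₂.1 * (g c₂)⁻¹) ^ f c₂.1 := congrArg Subtype.val hh
    have hcomm : yr d * (h : G) = (h : G) * yr d :=
      (Subgroup.mem_centralizer_iff.mp h.2) (yr d) rfl
    have h2 : (h : G) * (g c₁ * xr c₁.1 * (g c₁)⁻¹) * (h : G)⁻¹ = g c₂ * xr c₂.1 * (g c₂)⁻¹ := by
      rw [← hsplit c₁, ← hsplit c₂, ← hh']
      calc (h : G) * (yr d * (g c₁ * xr c₁.1 * (g c₁)⁻¹) ^ f c₁.1) * (h : G)⁻¹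
          = ((h : G) * yr d) * (g c₁ * xr c₁.1 * (g c₁)⁻¹) ^ f c₁.1 * (h : G)⁻¹ := by group
        _ = (yr d * (h : G)) * (g c₁ * xr c₁.1 * (g c₁)⁻¹) ^ f c₁.1 * (h : G)⁻¹ := by rw [hcomm]
        _ = _ := by group
    apply Subtype.ext
    apply Subtype.ext
    rw [← hxr c₁.1, ← hxr c₂.1, ConjClasses.mk_eq_mk_iff_isConj, isConj_iff]
    refine ⟨(g c₂)⁻¹ * (h : G) * g c₁, ?_⟩
    have h3 : xr c₂.1 = (g c₂)⁻¹ * (g c₂ * xr c₂.1 * (g c₂)⁻¹) * g c₂ := by group
    rw [h3, ← h2]
    group

/-- The number of classes of `r`-elements is at most the order of a Sylow `r`-subgroup. -/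
theorem card_pCl_le {G : Type u} [Group G] [Finite G] (r : ℕ) [Fact r.Prime] :
    Nat.card (PCl r G) ≤ r ^ (Nat.card G).factorization r := by
  let R : Sylow r G := default
  rw [← Sylow.card_eq_multiplicity R]
  have hex := fun c : PCl r G => Cfsg.Agent.S3897.exists_mem_sylow R c.1 c.2
  choose f hf1 hf2 using hex
  refine Nat.card_le_card_of_injective (fun c => (⟨f c, hf1 c⟩ : (R : Subgroup G))) ?_
  intro c d hcd
  have h1 : f c = f d := congrArg Subtype.val hcd
  apply Subtype.ext
  rw [← hf2 c, ← hf2 d, h1]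

/-- The number of classes of `σ`-elements is at most the `σ`-part of the group order. -/
theorem card_piCl_le (σ : Finset ℕ) (hσ : ∀ s ∈ σ, s.Prime) :
    ∀ (G : Type u) [Group G] [Finite G],
      Nat.card (PiCl σ G) ≤ ∏ s ∈ σ, s ^ (Nat.card G).factorization s := by
  induction σ using Finset.induction_on with
  | empty =>
    intro G _ _
    rw [Finset.prod_empty]
    have hone : ∀ c : PiCl ∅ G, c.1 = ConjClasses.mk 1 := by
      intro c
      obtain ⟨x, hx⟩ := ConjClasses.exists_rep c.1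
      have h1 : orderOf x = 1 := by
        by_contra hne
        obtain ⟨s, hs, hsx⟩ := Nat.exists_prime_and_dvd hne
        have := c.2 x (ConjClasses.mem_carrier_iff_mk_eq.mpr hx) s hs hsx
        simp at this
      rw [← hx, orderOf_eq_one_iff.mp h1]
    have : Subsingleton (PiCl ∅ G) :=
      ⟨fun c d => Subtype.ext ((hone c).trans (hone d).symm)⟩
    exact Finite.card_le_one_iff_subsingleton.mpr this
  | insert r σ₀ hr ih =>
    intro G _ _
    have hrp : r.Prime := hσ r (Finset.mem_insert_self r σ₀)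
    have : Fact r.Prime := ⟨hrp⟩
    rw [Finset.prod_insert hr]
    have ih' := ih (fun s hs => hσ s (Finset.mem_insert_of_mem hs))
    refine (card_piCl_insert_le r hrp σ₀ (∏ s ∈ σ₀, s ^ (Nat.card G).factorization s) ?_).trans ?_
    · intro y
      refine (ih' (Subgroup.centralizer ({y} : Set G))).trans ?_
      apply Finset.prod_le_prod (fun _ _ => Nat.zero_le _)
      intro s hs
      have hsp : s.Prime := hσ s (Finset.mem_insert_of_mem hs)
      apply Nat.pow_le_pow_right hsp.pos
      exact (Nat.factorization_le_iff_dvd Nat.card_pos.ne' Nat.card_pos.ne').mpr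
        (Subgroup.card_subgroup_dvd_card _) s
    · exact Nat.mul_le_mul_right _ (card_pCl_le r)

/-- For every prime `r` of `π` there is a normal subgroup `K` containing all commutators whose order is
prime to `r` and whose index is a power of `r`. -/
theorem exists_normal_complement_of_mem {G : Type u} [Group G] [Finite G] (π : Finset ℕ)
    (hπ : ∀ r ∈ π, r.Prime) (p : ℕ) (hp : p ∈ π) (hmin : ∀ r ∈ π, p ≤ r)
    (hk : (p + 1) * π.prod (fun r => r ^ (Nat.card G).factorization r) <
      2 * p * Nat.card (PiCl π G)) (r : ℕ) (hr : r ∈ π) :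
    ∃ K : Subgroup G, K.Normal ∧ (∀ a b : G, a * b * a⁻¹ * b⁻¹ ∈ K) ∧ ¬ r ∣ Nat.card K ∧
      (∀ s : ℕ, s.Prime → s ∣ K.index → s = r) := by
  have hrp : r.Prime := hπ r hr
  have : Fact r.Prime := ⟨hrp⟩
  let R : Sylow r G := default
  set B := ∏ s ∈ π.erase r, s ^ (Nat.card G).factorization s with hBdef
  have hBpos : 0 < B :=
    Finset.prod_pos fun s hs => pow_pos (hπ s (Finset.mem_of_mem_erase hs)).pos _
  have h1 : Nat.card (PiCl π G) ≤ Nat.card (PCl r G) * B := by
    have h0 := card_piCl_insert_le (G := G) r hrp (π.erase r) B (by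
      intro y
      refine (card_piCl_le (π.erase r) (fun s hs => hπ s (Finset.mem_of_mem_erase hs)) _).trans ?_
      apply Finset.prod_le_prod (fun _ _ => Nat.zero_le _)
      intro s hs
      apply Nat.pow_le_pow_right (hπ s (Finset.mem_of_mem_erase hs)).pos
      exact (Nat.factorization_le_iff_dvd Nat.card_pos.ne' Nat.card_pos.ne').mpr
        (Subgroup.card_subgroup_dvd_card _) s)
    rwa [Finset.insert_erase hr] at h0
  have h2 : π.prod (fun s => s ^ (Nat.card G).factorization s) = Nat.card (R : Subgroup G) * B := by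
    rw [Sylow.card_eq_multiplicity, hBdef,
      Finset.mul_prod_erase π (fun s => s ^ (Nat.card G).factorization s) hr]
  have h3 : (r + 1) * Nat.card (R : Subgroup G) < 2 * r * Nat.card (PCl r G) := by
    have hpr : p ≤ r := hmin r hr
    have hp1 : 1 ≤ p := (hπ p hp).one_le
    rw [h2] at hk
    have h4 : (p + 1) * Nat.card (R : Subgroup G) * B < 2 * p * Nat.card (PCl r G) * B := by
      calc (p + 1) * Nat.card (R : Subgroup G) * B
          = (p + 1) * (Nat.card (R : Subgroup G) * B) := by ring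
        _ < 2 * p * Nat.card (PiCl π G) := hk
        _ ≤ 2 * p * (Nat.card (PCl r G) * B) := Nat.mul_le_mul_left _ h1
        _ = _ := by ring
    have h5 : (p + 1) * Nat.card (R : Subgroup G) < 2 * p * Nat.card (PCl r G) :=
      lt_of_mul_lt_mul_right h4 (Nat.zero_le B)
    by_contra hcon
    rw [not_lt] at hcon
    have h6 : p * (2 * r * Nat.card (PCl r G)) ≤ p * ((r + 1) * Nat.card (R : Subgroup G)) :=
      Nat.mul_le_mul_left _ hcon
    have h7 : p * ((r + 1) * Nat.card (R : Subgroup G)) ≤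
        r * ((p + 1) * Nat.card (R : Subgroup G)) := by
      have h70 : p * (r + 1) ≤ r * (p + 1) := by nlinarith
      calc p * ((r + 1) * Nat.card (R : Subgroup G))
          = (p * (r + 1)) * Nat.card (R : Subgroup G) := by ring
        _ ≤ (r * (p + 1)) * Nat.card (R : Subgroup G) := Nat.mul_le_mul_right _ h70
        _ = _ := by ring
    have h8 : r * ((p + 1) * Nat.card (R : Subgroup G)) < r * (2 * p * Nat.card (PCl r G)) :=
      Nat.mul_lt_mul_of_pos_left h5 hrp.pos
    nlinarith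
  have hNC := Cfsg.Agent.S3897.normalizer_le_centralizer_of_many_classes R h3
  refine ⟨(MonoidHom.transferSylow R hNC).ker, inferInstance, ?_,
    MonoidHom.not_dvd_card_ker_transferSylow R hNC, ?_⟩
  · intro a b
    rw [MonoidHom.mem_ker]
    have hcomm : ∀ u v : (R : Subgroup G), u * v = v * u := fun u v =>
      Subtype.ext (hNC (Subgroup.le_normalizer v.2) u u.2)
    rw [map_mul, map_mul, map_mul, map_inv, map_inv,
      hcomm (MonoidHom.transferSylow R hNC a)]
    group
  · intro s hs hsd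
    have hidx : (MonoidHom.transferSylow R hNC).ker.index = Nat.card (R : Subgroup G) :=
      (MonoidHom.ker_transferSylow_isComplement' R hNC).symm.index_eq_card
    rw [hidx, Sylow.card_eq_multiplicity] at hsd
    exact (Nat.prime_dvd_prime_iff_eq hs hrp).mp (hs.dvd_of_dvd_pow hsd)

/-- Let π be a finite non-empty set of odd primes with smallest member p and G a finite group. Write k_π(G) for the number of conjugacy classes of G consisting of π-elements (elements all of whose order's prime divisors lie in π) and |G|_π for the π-part of the order of G. If k_π(G) > (p + 1)|G|_π/(2p), then G has a normal π-complement (a normal subgroup of order prime to π whose index is a π-number) and an abelian Hall π-subgroup. -/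
theorem result {G : Type*} [Group G] [Finite G] (π : Finset ℕ) (hπ : ∀ r ∈ π, r.Prime) (h2 : 2 ∉ π) (p : ℕ) (hp : p ∈ π)
    (hmin : ∀ r ∈ π, p ≤ r) (hk : (p + 1) * π.prod (fun r => r ^ (Nat.card G).factorization r) < 2 * p * Nat.card {c : ConjClasses G // ∀ x ∈ c.carrier, ∀ r : ℕ, r.Prime → r ∣ orderOf x → r ∈ π}) :
    (∃ N : Subgroup G, N.Normal ∧ (∀ r : ℕ, r.Prime → r ∣ Nat.card ↥N → r ∉ π) ∧ ∀ r : ℕ, r.Prime → r ∣ N.index → r ∈ π) ∧ ∃ H : Subgroup G, Cfsg.IsPiHall (↑π : Set ℕ) H ∧ IsMulCommutative ↥H := by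
  have hex := fun r (hr : r ∈ π) => exists_normal_complement_of_mem π hπ p hp hmin hk r hr
  choose K hKn hKc hKd hKi using hex
  let N : Subgroup G := ⨅ r : π, K r.1 r.2
  have hNn : N.Normal := Subgroup.normal_iInf_normal fun r => hKn r.1 r.2
  have hNle : ∀ r (hr : r ∈ π), N ≤ K r hr := fun r hr =>
    iInf_le (fun r : π => K r.1 r.2) ⟨r, hr⟩
  have hN1 : ∀ r : ℕ, r.Prime → r ∣ Nat.card N → r ∉ π := by
    intro r _ hrd hr
    exact hKd r hr (hrd.trans (Subgroup.card_dvd_of_le (hNle r hr)))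
  have hN2 : ∀ s : ℕ, s.Prime → s ∣ N.index → s ∈ π := by
    intro s hs hsd
    have : Fact s.Prime := ⟨hs⟩
    rw [Subgroup.index_eq_card] at hsd
    obtain ⟨q, hq⟩ := exists_prime_orderOf_dvd_card' s hsd
    obtain ⟨g, rfl⟩ := QuotientGroup.mk_surjective q
    have hgN : g ∉ N := by
      intro h
      have h1 : (QuotientGroup.mk g : G ⧸ N) = 1 := (QuotientGroup.eq_one_iff g).mpr h
      rw [h1, orderOf_one] at hq
      exact hs.one_lt.ne hq
    have hgs : g ^ s ∈ N := by
      rw [← QuotientGroup.eq_one_iff, QuotientGroup.mk_pow, ← hq, pow_orderOf_eq_one]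
    have hexr : ∃ r : π, g ∉ K r.1 r.2 := by
      by_contra hcon
      rw [not_exists] at hcon
      exact hgN (Subgroup.mem_iInf.mpr fun r => not_not.mp (hcon r))
    obtain ⟨⟨r, hr⟩, hgr⟩ := hexr
    have := hKn r hr
    have h1 : orderOf (QuotientGroup.mk g : G ⧸ K r hr) = s := by
      apply orderOf_eq_prime
      · rw [← QuotientGroup.mk_pow]
        exact (QuotientGroup.eq_one_iff _).mpr (hNle r hr hgs)
      · intro h
        exact hgr ((QuotientGroup.eq_one_iff g).mp h)
    have h2 : s ∣ (K r hr).index := by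
      rw [Subgroup.index_eq_card, ← h1]
      exact orderOf_dvd_natCard _
    rw [hKi r hr s hs h2]
    exact hr
  refine ⟨⟨N, hNn, hN1, hN2⟩, ?_⟩
  have hcop : Nat.Coprime (Nat.card N) N.index :=
    Nat.coprime_of_dvd fun s hs h1 h2 => hN1 s hs h1 (hN2 s hs h2)
  obtain ⟨H, hH⟩ := Subgroup.exists_right_complement'_of_coprime hcop
  refine ⟨H, ⟨?_, ?_⟩, ?_⟩
  · intro s hs hsd
    rw [← hH.symm.index_eq_card] at hsd
    exact Finset.mem_coe.mpr (hN2 s hs hsd)
  · intro s hs hsπ hsd
    rw [hH.index_eq_card] at hsd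
    exact hN1 s hs hsd (Finset.mem_coe.mp hsπ)
  · refine IsMulCommutative.of_setLike_mul_comm fun a ha b hb => ?_
    have h1 : a * b * a⁻¹ * b⁻¹ ∈ N := Subgroup.mem_iInf.mpr fun r => hKc r.1 r.2 a b
    have h2 : a * b * a⁻¹ * b⁻¹ ∈ H :=
      H.mul_mem (H.mul_mem (H.mul_mem ha hb) (H.inv_mem ha)) (H.inv_mem hb)
    have h3 := Subgroup.disjoint_def.mp hH.disjoint h1 h2
    calc a * b = (a * b * a⁻¹ * b⁻¹) * (b * a) := by group
      _ = b * a := by rw [h3, one_mul]

end Cfsg.Agent.S3899
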