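import Cfsg.Statements.S3898
import Cfsg.Agent.S3895
import Cfsg.Agent.S3899

set_option autoImplicit false
open Cfsg

namespace Cfsg.Agent.S3898

open Cfsg.Agent.S3897 Cfsg.Agent.S3899 Cfsg.Agent.Lib.helper67

universe u

/-- Orbit counting: if every element outside the subgroup `C` fixes at most `|X| / p` points, then
`p · (number of orbits) · |N| ≤ p |C| |X| + (|N| - |C|) |X|`. -/
theorem orbit_bound2 {N X : Type*} [Group N] [Finite N] [MulAction N X] [Finite X]
    (C : Subgroup N) (p : ℕ)
    (hfix : ∀ n : N, n ∉ C → p * Nat.card (MulAction.fixedBy X n) ≤ Nat.card X) :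
    p * (Nat.card (MulAction.orbitRel.Quotient N X) * Nat.card N) ≤
      Nat.card C * (p * Nat.card X) + (Nat.card N - Nat.card C) * Nat.card X := by
  classical
  have := Fintype.ofFinite N
  have := Fintype.ofFinite X
  have hB := MulAction.sum_card_fixedBy_eq_card_orbits_mul_card_group N X
  simp only [← Nat.card_eq_fintype_card] at hB
  set c := Nat.card C with hc
  set d := (Finset.univ.filter (fun n : N => n ∉ C)).card with hd
  have hcd : c + d = Nat.card N := by
    have h1 : (Finset.univ.filter (fun n : N => n ∈ C)).card = c := by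
      rw [hc, Nat.card_eq_fintype_card, Fintype.card_subtype]
    have h2 := Finset.card_filter_add_card_filter_not (s := (Finset.univ : Finset N))
      (fun n : N => n ∈ C)
    rw [h1, Finset.card_univ] at h2
    rw [Nat.card_eq_fintype_card]; exact h2
  have hd' : Nat.card N - c = d := by omega
  rw [hd']
  have h1 : ∀ n : N, p * Nat.card (MulAction.fixedBy X n) ≤
      if n ∈ C then p * Nat.card X else Nat.card X := by
    intro n
    split_ifs with h
    · exact Nat.mul_le_mul_left _ (Nat.card_le_card_of_injective _ Subtype.val_injective)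
    · exact hfix n h
  rw [← hB, Finset.mul_sum]
  refine (Finset.sum_le_sum fun n _ => h1 n).trans ?_
  rw [Finset.sum_ite, Finset.sum_const, Finset.sum_const, smul_eq_mul, smul_eq_mul]
  have h3 : (Finset.univ.filter (fun n : N => n ∈ C)).card = c := by
    rw [hc, Nat.card_eq_fintype_card, Fintype.card_subtype]
  rw [h3]

/-- If there are more than `|X| / 2` orbits, the subgroup `C` has small index. -/
theorem index_bound {N X : Type*} [Group N] [Finite N] [MulAction N X] [Finite X]
    (C : Subgroup N) (p : ℕ) (hp : 2 ≤ p)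
    (hfix : ∀ n : N, n ∉ C → p * Nat.card (MulAction.fixedBy X n) ≤ Nat.card X)
    (hk : Nat.card X < 2 * Nat.card (MulAction.orbitRel.Quotient N X)) :
    (p - 2) * C.index < 2 * p - 2 := by
  have h := orbit_bound2 C p hfix
  have hcm : Nat.card C * C.index = Nat.card N := Subgroup.card_mul_index C
  have hcpos : 0 < Nat.card C := Nat.card_pos
  have hmpos : 0 < C.index := Nat.pos_of_ne_zero Subgroup.index_ne_zero_of_finite
  have hωx : Nat.card (MulAction.orbitRel.Quotient N X) ≤ Nat.card X :=
    Nat.card_le_card_of_surjective (Quotient.mk'' : X → MulAction.orbitRel.Quotient N X)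
      Quotient.mk''_surjective
  set c := Nat.card C
  set m := C.index
  set x := Nat.card X
  set ω := Nat.card (MulAction.orbitRel.Quotient N X)
  rw [← hcm] at h
  clear_value c m x ω
  obtain ⟨q, rfl⟩ := Nat.exists_eq_add_of_le hp
  obtain ⟨m', rfl⟩ := Nat.exists_eq_add_of_le (Nat.succ_le_of_lt hmpos)
  have h1 : c * (1 + m') - c = c * m' := by
    rw [mul_add, mul_one, Nat.add_sub_cancel_left]
  rw [h1] at h
  have hx : 0 < x := by omega
  have h2 : (2 + q) * (1 + m') * (c * x) < (2 * (2 + q) + 2 * m') * (c * x) := by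
    have h3 : (2 + q) * (1 + m') * (c * x) < (2 + q) * (1 + m') * (c * (2 * ω)) := by
      apply Nat.mul_lt_mul_of_pos_left
      · exact Nat.mul_lt_mul_of_pos_left hk hcpos
      · positivity
    have h4 : (2 + q) * (1 + m') * (c * (2 * ω)) = 2 * ((2 + q) * (ω * (c * (1 + m')))) := by ring
    have h5 : 2 * (c * ((2 + q) * x) + c * m' * x) = (2 * (2 + q) + 2 * m') * (c * x) := by ring
    rw [h4] at h3
    calc (2 + q) * (1 + m') * (c * x) < 2 * ((2 + q) * (ω * (c * (1 + m')))) := h3
      _ ≤ 2 * (c * ((2 + q) * x) + c * m' * x) := Nat.mul_le_mul_left _ h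
      _ = _ := h5
  have h6 : (2 + q) * (1 + m') < 2 * (2 + q) + 2 * m' := lt_of_mul_lt_mul_right h2 (Nat.zero_le _)
  have h7 : 2 + q - 2 = q := by omega
  rw [h7]
  have h8 : 2 * (2 + q) - 2 = 2 + 2 * q := by omega
  rw [h8]
  nlinarith

/-- In a group of odd order, if more than `|R| / 2` classes consist of `r`-elements, the normalizer
of a Sylow `r`-subgroup `R` centralizes it. -/
theorem normalizer_le_centralizer_of_odd {K : Type*} [Group K] [Finite K] (hodd : Odd (Nat.card K))
    {r : ℕ} [Fact r.Prime] (hr2 : r ≠ 2) (R : Sylow r K)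
    (hk : Nat.card ↥(R : Subgroup K) < 2 * Nat.card (PCl r K)) :
    Subgroup.normalizer ((R : Subgroup K) : Set K) ≤ Subgroup.centralizer (R : Set K) := by
  have hrp : r.Prime := Fact.out
  by_contra hcon
  let := normAct (R : Subgroup K)
  set C : Subgroup (Subgroup.normalizer ((R : Subgroup K) : Set K)) :=
    (Subgroup.centralizer ((R : Subgroup K) : Set K)).subgroupOf _ with hCdef
  have hC : C ≠ ⊤ := by
    intro h
    apply hcon
    rw [hCdef, Subgroup.subgroupOf_eq_top] at h
    exact h
  have hfix : ∀ n : Subgroup.normalizer ((R : Subgroup K) : Set K), n ∉ C →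
      r * Nat.card (MulAction.fixedBy (R : Subgroup K) n) ≤ Nat.card (R : Subgroup K) := by
    intro n hn
    set L : Subgroup (R : Subgroup K) :=
      (Subgroup.centralizer ({(n : K)} : Set K)).subgroupOf R with hL
    have hmem : ∀ x : (R : Subgroup K), x ∈ MulAction.fixedBy (R : Subgroup K) n ↔ x ∈ L := by
      intro x
      rw [MulAction.mem_fixedBy, hL, Subgroup.mem_subgroupOf, Subgroup.mem_centralizer_iff,
        Subtype.ext_iff]
      change (n : K) * x * (n : K)⁻¹ = x ↔ _
      simp [mul_inv_eq_iff_eq_mul]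
    have hLfix : Nat.card (MulAction.fixedBy (R : Subgroup K) n) = Nat.card L :=
      Nat.card_congr (Equiv.subtypeEquivRight hmem)
    have hLtop : L ≠ ⊤ := by
      intro h
      apply hn
      rw [hCdef, Subgroup.mem_subgroupOf, Subgroup.mem_centralizer_iff]
      intro x hx
      have : (⟨x, hx⟩ : (R : Subgroup K)) ∈ L := h ▸ Subgroup.mem_top _
      rw [hL, Subgroup.mem_subgroupOf, Subgroup.mem_centralizer_iff] at this
      exact (this (n : K) rfl).symm
    have hidx : r ∣ L.index := by
      obtain ⟨j, hj⟩ := R.isPGroup'.index L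
      rw [hj]
      rcases j with _ | j
      · exact absurd (Subgroup.index_eq_one.mp (by simpa using hj)) hLtop
      · exact dvd_pow_self r (Nat.succ_ne_zero j)
    calc r * Nat.card (MulAction.fixedBy (R : Subgroup K) n) = r * Nat.card L := by rw [hLfix]
      _ ≤ L.index * Nat.card L :=
          Nat.mul_le_mul_right _ (Nat.le_of_dvd (Nat.pos_of_ne_zero Subgroup.index_ne_zero_of_finite) hidx)
      _ = Nat.card (R : Subgroup K) := by rw [mul_comm, Subgroup.card_mul_index]
  have hle : Nat.card (PCl r K) ≤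
      Nat.card (MulAction.orbitRel.Quotient (Subgroup.normalizer ((R : Subgroup K) : Set K))
        (R : Subgroup K)) := by
    have hex := fun c : PCl r K => exists_mem_sylow R c.1 c.2
    choose f hf1 hf2 using hex
    refine Nat.card_le_card_of_injective
      (fun c => (Quotient.mk'' (⟨f c, hf1 c⟩ : (R : Subgroup K)) :
        MulAction.orbitRel.Quotient (Subgroup.normalizer ((R : Subgroup K) : Set K))
        (R : Subgroup K))) ?_
    intro c d hcd
    have h1 := Quotient.exact' hcd
    change (⟨f c, hf1 c⟩ : (R : Subgroup K)) ∈ MulAction.orbit _ (⟨f d, hf1 d⟩ : (R : Subgroup K)) at h1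
    rw [MulAction.mem_orbit_iff] at h1
    obtain ⟨n, hn⟩ := h1
    have h2 : (n : K) * f d * (n : K)⁻¹ = f c := congrArg Subtype.val hn
    apply Subtype.ext
    rw [← hf2 c, ← hf2 d, ConjClasses.mk_eq_mk_iff_isConj, isConj_iff]
    exact ⟨(n : K)⁻¹, by rw [← h2]; group⟩
  have hk' : Nat.card (R : Subgroup K) <
      2 * Nat.card (MulAction.orbitRel.Quotient (Subgroup.normalizer ((R : Subgroup K) : Set K))
        (R : Subgroup K)) := by omega
  have hib := index_bound C r hrp.two_le hfix hk'
  have hm1 : C.index ≠ 1 := fun h => hC (Subgroup.index_eq_one.mp h)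
  have hmodd : Odd C.index := by
    have h1 : C.index ∣ Nat.card K :=
      (Subgroup.index_dvd_card C).trans (Subgroup.card_subgroup_dvd_card _)
    exact Odd.of_dvd_nat hodd h1
  have hr3 : 3 ≤ r := by have := hrp.two_le; omega
  have hm3 : 3 ≤ C.index := by obtain ⟨j, hj⟩ := hmodd; omega
  have hmul : (r - 2) * 3 ≤ (r - 2) * C.index := Nat.mul_le_mul_left _ hm3
  have hr : r = 3 := by omega
  have hm : C.index = 3 := by
    have h1 : r - 2 = 1 := by omega
    have h2 : 2 * r - 2 = 4 := by omega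
    rw [h1, h2] at hib
    omega
  -- the centre of `R` has index at most `3`
  have hrel : (Subgroup.centralizer ((R : Subgroup K) : Set K)).relIndex (R : Subgroup K) ≤ 3 := by
    rw [← hm]
    exact Subgroup.relIndex_le_of_le_right Subgroup.le_normalizer (by
      change C.index ≠ 0
      omega)
  set Z' : Subgroup ↥(R : Subgroup K) :=
    (Subgroup.centralizer ((R : Subgroup K) : Set K)).subgroupOf (R : Subgroup K) with hZ'
  have hZ'le : Z' ≤ Subgroup.center ↥(R : Subgroup K) := by
    intro x hx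
    rw [hZ', Subgroup.mem_subgroupOf, Subgroup.mem_centralizer_iff] at hx
    rw [Subgroup.mem_center_iff]
    intro y
    exact Subtype.ext (hx (y : K) y.2)
  have hZ'idx : Z'.index = 1 ∨ Z'.index = 3 := by
    obtain ⟨j, hj⟩ := R.isPGroup'.index Z'
    have h3 : Z'.index ≤ 3 := hrel
    rw [hj, hr] at h3
    rw [hj, hr]
    rcases j with _ | _ | j
    · left; rfl
    · right; rfl
    · exfalso
      have : (3 : ℕ) ^ (j + 1 + 1) = 9 * 3 ^ j := by ring
      have hpos : 0 < 3 ^ j := by positivity
      omega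
  have hcidx : (Subgroup.center ↥(R : Subgroup K)).index = 1 ∨
      (Subgroup.center ↥(R : Subgroup K)).index = 3 := by
    have hdvd := Subgroup.index_dvd_of_le hZ'le
    rcases hZ'idx with h | h
    · left; rw [h] at hdvd; exact Nat.dvd_one.mp hdvd
    · rw [h] at hdvd
      exact (Nat.dvd_prime Nat.prime_three).mp hdvd
  have hab : ∀ a b : ↥(R : Subgroup K), a * b = b * a := by
    rcases hcidx with h | h
    · intro a b
      have ha : a ∈ Subgroup.center ↥(R : Subgroup K) := by
        rw [Subgroup.index_eq_one.mp h]; exact Subgroup.mem_top _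
      exact ((Subgroup.mem_center_iff.mp ha) b).symm
    · have hcard : Nat.card (↥(R : Subgroup K) ⧸ Subgroup.center ↥(R : Subgroup K)) = 3 := by
        rw [← Subgroup.index_eq_card]; exact h
      have : Fact (Nat.Prime 3) := ⟨Nat.prime_three⟩
      have hcyc : IsCyclic (↥(R : Subgroup K) ⧸ Subgroup.center ↥(R : Subgroup K)) :=
        isCyclic_of_prime_card hcard
      have hcomm := MonoidHom.isMulCommutative_of_isCyclic_of_ker_le_center
        (QuotientGroup.mk' (Subgroup.center ↥(R : Subgroup K))) (by rw [QuotientGroup.ker_mk'])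
      exact fun a b => hcomm.is_comm.comm a b
  have hRC : (R : Subgroup K) ≤ Subgroup.centralizer ((R : Subgroup K) : Set K) := by
    intro x hx
    rw [Subgroup.mem_centralizer_iff]
    intro y hy
    exact congrArg Subtype.val (hab ⟨y, hy⟩ ⟨x, hx⟩)
  have hdvd1 : C.index ∣ (R : Subgroup K).relIndex (Subgroup.normalizer ((R : Subgroup K) : Set K)) :=
    Subgroup.relIndex_dvd_of_le_left _ hRC
  have hdvd2 : (R : Subgroup K).relIndex (Subgroup.normalizer ((R : Subgroup K) : Set K)) ∣
      (R : Subgroup K).index := Subgroup.relIndex_dvd_index_of_le Subgroup.le_normalizer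
  apply R.not_dvd_index
  have h3 : r ∣ C.index := by rw [hm]; exact dvd_of_eq hr
  exact h3.trans (hdvd1.trans hdvd2)

/-- From the hypothesis on classes of `π`-elements: more than `|R| / 2` classes of `r`-elements. -/
theorem card_sylow_lt {G : Type u} [Group G] [Finite G] (π : Finset ℕ) (hπ : ∀ r ∈ π, r.Prime)
    (hk : π.prod (fun r => r ^ (Nat.card G).factorization r) < 2 * Nat.card (PiCl π G))
    (r : ℕ) (hr : r ∈ π) :
    r ^ (Nat.card G).factorization r < 2 * Nat.card (PCl r G) := by
  have hrp : r.Prime := hπ r hr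
  set B := ∏ s ∈ π.erase r, s ^ (Nat.card G).factorization s with hBdef
  have hBpos : 0 < B :=
    Finset.prod_pos fun s hs => pow_pos (hπ s (Finset.mem_of_mem_erase hs)).pos _
  have h1 : Nat.card (PiCl π G) ≤ Nat.card (PCl r G) * B := by
    have h0 := card_piCl_insert_le (G := G) r hrp (π.erase r) B (by
      intro y
      refine (card_piCl_le (π.erase r) (fun s hs => hπ s (Finset.mem_of_mem_erase hs)) _).trans ?_
      apply Finset.prod_le_prod (fun _ _ => Nat.zero_le _)
      intro s hs
      apply Nat.pow_le_pow_right (hπ s (Finset.mem_of_mem_erase hs)).pos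
      exact (Nat.factorization_le_iff_dvd Nat.card_pos.ne' Nat.card_pos.ne').mpr
        (Subgroup.card_subgroup_dvd_card _) s)
    rwa [Finset.insert_erase hr] at h0
  have h2 : π.prod (fun s => s ^ (Nat.card G).factorization s) =
      r ^ (Nat.card G).factorization r * B := by
    rw [hBdef, Finset.mul_prod_erase π (fun s => s ^ (Nat.card G).factorization s) hr]
  rw [h2] at hk
  have h3 : r ^ (Nat.card G).factorization r * B < 2 * Nat.card (PCl r G) * B := by
    calc r ^ (Nat.card G).factorization r * B < 2 * Nat.card (PiCl π G) := hk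
      _ ≤ 2 * (Nat.card (PCl r G) * B) := Nat.mul_le_mul_left _ h1
      _ = _ := by ring
  exact lt_of_mul_lt_mul_right h3 (Nat.zero_le B)

/-- Inside a normal `2`-complement `K`, an odd prime `r` with many classes of `r`-elements has a
normal `r`-complement `M` of `K`, normal in `G`, with `K / M` abelian. -/
theorem exists_normal_compl_odd {G : Type u} [Group G] [Finite G] (K : Subgroup G) [hKn : K.Normal]
    (hKmem : ∀ g : G, g ∈ K ↔ (orderOf g).Coprime 2) (a : ℕ) (hKidx : K.index = 2 ^ a)
    (r : ℕ) [Fact r.Prime] (hr2 : r ≠ 2)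
    (hkr : r ^ (Nat.card G).factorization r < 2 * Nat.card (PCl r G)) :
    ∃ M : Subgroup G, M.Normal ∧ M ≤ K ∧ ¬ r ∣ Nat.card M ∧
      (∀ s : ℕ, s.Prime → s ∣ M.index → s = 2 ∨ s = r) ∧
      (∀ x ∈ K, ∀ y ∈ K, x * y * x⁻¹ * y⁻¹ ∈ M) := by
  have hrp : r.Prime := Fact.out
  have hKodd : Odd (Nat.card K) := by
    rw [← Nat.not_even_iff_odd]
    intro he
    have h2 : 2 ∣ Nat.card K := even_iff_two_dvd.mp he
    have : Fact (Nat.Prime 2) := ⟨Nat.prime_two⟩
    obtain ⟨x, hx⟩ := exists_prime_orderOf_dvd_card' 2 h2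
    have h1 : (orderOf (x : G)).Coprime 2 := (hKmem x).mp x.2
    rw [Subgroup.orderOf_coe, hx] at h1
    exact absurd h1 (by decide)
  let R : Sylow r K := default
  have hfac : (Nat.card K).factorization r = (Nat.card G).factorization r := by
    have h1 : Nat.card G = Nat.card K * 2 ^ a := by rw [← hKidx, Subgroup.card_mul_index]
    have h2 : (2 : ℕ).factorization r = 0 :=
      Nat.factorization_eq_zero_of_not_dvd (fun h => hr2 ((Nat.prime_dvd_prime_iff_eq hrp Nat.prime_two).mp h))
    rw [h1, Nat.factorization_mul Nat.card_pos.ne' (by positivity), Nat.factorization_pow]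
    simp [h2]
  have hcardR : Nat.card (R : Subgroup K) = r ^ (Nat.card G).factorization r := by
    rw [Sylow.card_eq_multiplicity, hfac]
  have hinj : Nat.card (PCl r G) ≤ Nat.card (PCl r K) := by
    have hex : ∀ c : PCl r G, ∃ x : G, ConjClasses.mk x = c.1 := fun c => ConjClasses.exists_rep c.1
    choose f hf using hex
    have hfo : ∀ c : PCl r G, ∃ k : ℕ, orderOf (f c) = r ^ k := fun c =>
      c.2 (f c) (ConjClasses.mem_carrier_iff_mk_eq.mpr (hf c))
    have hfK : ∀ c : PCl r G, f c ∈ K := by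
      intro c
      rw [hKmem]
      obtain ⟨k, hk⟩ := hfo c
      rw [hk]
      exact Nat.Coprime.pow_left k ((Nat.coprime_primes hrp Nat.prime_two).mpr hr2)
    refine Nat.card_le_card_of_injective
      (fun c => (⟨ConjClasses.mk (⟨f c, hfK c⟩ : K), mk_pclass r _ (by
        obtain ⟨k, hk⟩ := hfo c
        exact ⟨k, by rw [Subgroup.orderOf_mk]; exact hk⟩)⟩ : PCl r K)) ?_
    intro c d hcd
    have h1 := congrArg Subtype.val hcd
    change ConjClasses.mk (⟨f c, hfK c⟩ : K) = ConjClasses.mk (⟨f d, hfK d⟩ : K) at h1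
    rw [ConjClasses.mk_eq_mk_iff_isConj, isConj_iff] at h1
    obtain ⟨u, hu⟩ := h1
    apply Subtype.ext
    rw [← hf c, ← hf d, ConjClasses.mk_eq_mk_iff_isConj, isConj_iff]
    exact ⟨(u : G), congrArg Subtype.val hu⟩
  have hk : Nat.card (R : Subgroup K) < 2 * Nat.card (PCl r K) := by rw [hcardR]; omega
  have hNC := normalizer_le_centralizer_of_odd hKodd hr2 R hk
  set T : Subgroup K := (MonoidHom.transferSylow R hNC).ker with hT
  have hTc : T.IsComplement' (R : Subgroup K) := MonoidHom.ker_transferSylow_isComplement' R hNC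
  have hTmem : ∀ x : K, x ∈ T ↔ (orderOf x).Coprime r :=
    mem_iff_coprime_of_isComplement' T R hTc
  refine ⟨T.map K.subtype, ?_, Subgroup.map_subtype_le T, ?_, ?_, ?_⟩
  · constructor
    intro x hx g
    obtain ⟨x', hx', rfl⟩ := hx
    have hgK : g * (x' : G) * g⁻¹ ∈ K := hKn.conj_mem _ x'.2 g
    refine ⟨⟨_, hgK⟩, ?_, rfl⟩
    have h1 : orderOf (g * (x' : G) * g⁻¹) = orderOf (x' : G) :=
      (MulAut.conj g).orderOf_eq (x' : G)
    have h2 := (hTmem x').mp hx'
    rw [SetLike.mem_coe, hTmem, Subgroup.orderOf_mk, h1, Subgroup.orderOf_coe]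
    exact h2
  · rw [Subgroup.card_map_of_injective (Subgroup.subtype_injective K)]
    exact MonoidHom.not_dvd_card_ker_transferSylow R hNC
  · intro s hs hsd
    have hTidx : T.index = Nat.card (R : Subgroup K) := hTc.symm.index_eq_card
    rw [Subgroup.index_map_subtype, hKidx, hTidx, hcardR] at hsd
    rcases (Nat.Prime.dvd_mul hs).mp hsd with h | h
    · right; exact (Nat.prime_dvd_prime_iff_eq hs hrp).mp (hs.dvd_of_dvd_pow h)
    · left; exact (Nat.prime_dvd_prime_iff_eq hs Nat.prime_two).mp (hs.dvd_of_dvd_pow h)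
  · intro x hx y hy
    refine ⟨(⟨x, hx⟩ : K) * ⟨y, hy⟩ * (⟨x, hx⟩ : K)⁻¹ * (⟨y, hy⟩ : K)⁻¹, ?_, rfl⟩
    rw [SetLike.mem_coe, hT, MonoidHom.mem_ker]
    have hcomm : ∀ u v : (R : Subgroup K), u * v = v * u := fun u v =>
      Subtype.ext (hNC (Subgroup.le_normalizer v.2) u u.2)
    rw [map_mul, map_mul, map_mul, map_inv, map_inv,
      hcomm (MonoidHom.transferSylow R hNC ⟨x, hx⟩)]
    group

/-- Let π be a finite set of primes containing 2 and G a finite group. Write k_π(G) for the number of conjugacy classes of G consisting of π-elements (elements all of whose order's prime divisors lie in π) and |G|_π for the π-part of the order of G. If k_π(G) > |G|_π/2, then G has a normal π-complement (a normal subgroup of order prime to π whose index is a π-number) and an abelian Hall subgroup for the set of odd primes in π. -/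
theorem result {G : Type*} [Group G] [Finite G] (π : Finset ℕ) (hπ : ∀ r ∈ π, r.Prime) (h2 : 2 ∈ π)
    (hk : π.prod (fun r => r ^ (Nat.card G).factorization r) < 2 * Nat.card {c : ConjClasses G // ∀ x ∈ c.carrier, ∀ r : ℕ, r.Prime → r ∣ orderOf x → r ∈ π}) :
    (∃ N : Subgroup G, N.Normal ∧ (∀ r : ℕ, r.Prime → r ∣ Nat.card ↥N → r ∉ π) ∧ ∀ r : ℕ, r.Prime → r ∣ N.index → r ∈ π) ∧ ∃ H : Subgroup G, Cfsg.IsPiHall ((↑π : Set ℕ) \ {2}) H ∧ IsMulCommutative ↥H := by
  have hkr := fun r (hr : r ∈ π) => card_sylow_lt π hπ hk r hr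
  have : Fact (Nat.Prime 2) := ⟨Nat.prime_two⟩
  let P₂ : Sylow 2 G := default
  have hP₂ : Nat.card (P₂ : Subgroup G) < 2 * Nat.card (PCl 2 G) := by
    rw [Sylow.card_eq_multiplicity]; exact hkr 2 h2
  obtain ⟨⟨P', K, hKn, hKc⟩, -⟩ := (Cfsg.Agent.S3895.result P₂).mp hP₂
  have hKmem : ∀ g : G, g ∈ K ↔ (orderOf g).Coprime 2 :=
    mem_iff_coprime_of_isComplement' K P' hKc
  have hKidx : K.index = 2 ^ (Nat.card G).factorization 2 := by
    rw [hKc.symm.index_eq_card, Sylow.card_eq_multiplicity]
  have hKodd : Odd (Nat.card K) := by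
    rw [← Nat.not_even_iff_odd]
    intro he
    have h2 : 2 ∣ Nat.card K := even_iff_two_dvd.mp he
    obtain ⟨x, hx⟩ := exists_prime_orderOf_dvd_card' 2 h2
    have h1 : (orderOf (x : G)).Coprime 2 := (hKmem x).mp x.2
    rw [Subgroup.orderOf_coe, hx] at h1
    exact absurd h1 (by decide)
  have hex : ∀ r ∈ π, ∃ M : Subgroup G, M.Normal ∧ M ≤ K ∧ ¬ r ∣ Nat.card M ∧
      (∀ s : ℕ, s.Prime → s ∣ M.index → s = 2 ∨ s = r) ∧
      (∀ x ∈ K, ∀ y ∈ K, x * y * x⁻¹ * y⁻¹ ∈ M) := by
    intro r hr
    by_cases hr2 : r = 2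
    · subst hr2
      refine ⟨K, hKn, le_rfl, ?_, ?_, ?_⟩
      · intro h; exact (Nat.not_even_iff_odd.mpr hKodd) (even_iff_two_dvd.mpr h)
      · intro s hs hsd
        rw [hKidx] at hsd
        left; exact (Nat.prime_dvd_prime_iff_eq hs Nat.prime_two).mp (hs.dvd_of_dvd_pow hsd)
      · intro x hx y hy
        exact K.mul_mem (K.mul_mem (K.mul_mem hx hy) (K.inv_mem hx)) (K.inv_mem hy)
    · have : Fact r.Prime := ⟨hπ r hr⟩
      exact exists_normal_compl_odd K hKmem _ hKidx r hr2 (hkr r hr)
  choose M hMn hMK hMd hMi hMc using hex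
  let N : Subgroup G := ⨅ r : π, M r.1 r.2
  have hNn : N.Normal := Subgroup.normal_iInf_normal fun r => hMn r.1 r.2
  have hNle : ∀ r (hr : r ∈ π), N ≤ M r hr := fun r hr =>
    iInf_le (fun r : π => M r.1 r.2) ⟨r, hr⟩
  have hNK : N ≤ K := (hNle 2 h2).trans (hMK 2 h2)
  have hN1 : ∀ r : ℕ, r.Prime → r ∣ Nat.card N → r ∉ π := by
    intro r _ hrd hr
    exact hMd r hr (hrd.trans (Subgroup.card_dvd_of_le (hNle r hr)))
  have hN2 : ∀ s : ℕ, s.Prime → s ∣ N.index → s ∈ π := by
    intro s hs hsd
    have : Fact s.Prime := ⟨hs⟩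
    rw [Subgroup.index_eq_card] at hsd
    obtain ⟨q, hq⟩ := exists_prime_orderOf_dvd_card' s hsd
    obtain ⟨g, rfl⟩ := QuotientGroup.mk_surjective q
    have hgN : g ∉ N := by
      intro h
      have h1 : (QuotientGroup.mk g : G ⧸ N) = 1 := (QuotientGroup.eq_one_iff g).mpr h
      rw [h1, orderOf_one] at hq
      exact hs.one_lt.ne hq
    have hgs : g ^ s ∈ N := by
      rw [← QuotientGroup.eq_one_iff, QuotientGroup.mk_pow, ← hq, pow_orderOf_eq_one]
    have hexr : ∃ r : π, g ∉ M r.1 r.2 := by
      by_contra hcon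
      rw [not_exists] at hcon
      exact hgN (Subgroup.mem_iInf.mpr fun r => not_not.mp (hcon r))
    obtain ⟨⟨r, hr⟩, hgr⟩ := hexr
    have := hMn r hr
    have h1 : orderOf (QuotientGroup.mk g : G ⧸ M r hr) = s := by
      apply orderOf_eq_prime
      · rw [← QuotientGroup.mk_pow]
        exact (QuotientGroup.eq_one_iff _).mpr (hNle r hr hgs)
      · intro h
        exact hgr ((QuotientGroup.eq_one_iff g).mp h)
    have h3 : s ∣ (M r hr).index := by
      rw [Subgroup.index_eq_card, ← h1]
      exact orderOf_dvd_natCard _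
    rcases hMi r hr s hs h3 with h | h
    · rw [h]; exact h2
    · rw [h]; exact hr
  refine ⟨⟨N, hNn, hN1, hN2⟩, ?_⟩
  have hcardN : Nat.card (N.subgroupOf K) = Nat.card N :=
    Nat.card_congr (Subgroup.subgroupOfEquivOfLe hNK).toEquiv
  have hcop : Nat.Coprime (Nat.card (N.subgroupOf K)) (N.subgroupOf K).index := by
    apply Nat.coprime_of_dvd
    intro s hs h1 h2'
    rw [hcardN] at h1
    have h4 : s ∣ N.index := h2'.trans (Subgroup.relIndex_dvd_index_of_le hNK)
    exact hN1 s hs h1 (hN2 s hs h4)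
  obtain ⟨H₀, hH₀⟩ := Subgroup.exists_right_complement'_of_coprime hcop
  have hH₀card : N.relIndex K = Nat.card H₀ := hH₀.symm.index_eq_card
  refine ⟨H₀.map K.subtype, ⟨?_, ?_⟩, ?_⟩
  · intro s hs hsd
    rw [Subgroup.card_map_of_injective (Subgroup.subtype_injective K)] at hsd
    refine ⟨Finset.mem_coe.mpr (hN2 s hs ?_), ?_⟩
    · rw [← hH₀card] at hsd
      exact hsd.trans (Subgroup.relIndex_dvd_index_of_le hNK)
    · intro h
      rw [Set.mem_singleton_iff] at h
      subst h
      have h3 : 2 ∣ Nat.card K := hsd.trans (Subgroup.card_subgroup_dvd_card H₀)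
      exact (Nat.not_even_iff_odd.mpr hKodd) (even_iff_two_dvd.mpr h3)
  · intro s hs hsπ hsd
    have h1 : H₀.index = Nat.card (N.subgroupOf K) := hH₀.index_eq_card
    rw [Subgroup.index_map_subtype, h1, hcardN, hKidx] at hsd
    rcases (Nat.Prime.dvd_mul hs).mp hsd with h | h
    · exact hN1 s hs h (Finset.mem_coe.mp hsπ.1)
    · exact hsπ.2 ((Nat.prime_dvd_prime_iff_eq hs Nat.prime_two).mp (hs.dvd_of_dvd_pow h))
  · refine IsMulCommutative.of_setLike_mul_comm fun a ha b hb => ?_
    obtain ⟨a', ha', rfl⟩ := ha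
    obtain ⟨b', hb', rfl⟩ := hb
    have h1 : (a' : G) * b' * (a' : G)⁻¹ * (b' : G)⁻¹ ∈ N :=
      Subgroup.mem_iInf.mpr fun r => hMc r.1 r.2 _ a'.2 _ b'.2
    have h2' : a' * b' * a'⁻¹ * b'⁻¹ ∈ N.subgroupOf K := by
      rw [Subgroup.mem_subgroupOf]
      simpa using h1
    have h3 : a' * b' * a'⁻¹ * b'⁻¹ ∈ H₀ :=
      H₀.mul_mem (H₀.mul_mem (H₀.mul_mem ha' hb') (H₀.inv_mem ha')) (H₀.inv_mem hb')
    have h4 := Subgroup.disjoint_def.mp hH₀.disjoint h2' h3
    have h5 : a' * b' = b' * a' := by
      calc a' * b' = (a' * b' * a'⁻¹ * b'⁻¹) * (b' * a') := by group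
        _ = b' * a' := by rw [h4, one_mul]
    change K.subtype a' * K.subtype b' = K.subtype b' * K.subtype a'
    rw [← map_mul, ← map_mul, h5]

end Cfsg.Agent.S3898
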