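import Cfsg.Statements.S3904
import Cfsg.Agent.Lib.helper68.CentMaxE

set_option autoImplicit false
open Cfsg

namespace Cfsg.Agent.S3904

open Cfsg.Agent.Lib.helper68 in
/-- Let G be a non-abelian finite group in which the centralizer of every non-central element is a maximal subgroup. Then G/Z(G) is either an elementary abelian p-group for some prime p, or a minimal non-abelian group (non-abelian with all proper subgroups abelian) of order p^a · q for distinct primes p, q with a normal Sylow p-subgroup. -/
theorem result {G : Type*} [Group G] [Finite G] (hna : ¬ IsMulCommutative G)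
    (h : ∀ x : G, x ∉ Subgroup.center G → IsCoatom (Subgroup.centralizer ({x} : Set G))) :
    (∃ p : ℕ, p.Prime ∧ Cfsg.IsElementaryAbelian p (⊤ : Subgroup (G ⧸ Subgroup.center G))) ∨
    (¬ IsMulCommutative (G ⧸ Subgroup.center G) ∧ (∀ H : Subgroup (G ⧸ Subgroup.center G), H ≠ ⊤ → IsMulCommutative ↥H) ∧
      ∃ p q a : ℕ, p.Prime ∧ q.Prime ∧ p ≠ q ∧ Nat.card (G ⧸ Subgroup.center G) = p ^ a * q ∧
        ∀ P : Subgroup (G ⧸ Subgroup.center G), Nat.card ↥P = p ^ a → P.Normal) := by
  by_cases hZ2 : ∃ a : G, a ∉ Subgroup.center G ∧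
      (a : G ⧸ Subgroup.center G) ∈ Subgroup.center (G ⧸ Subgroup.center G)
  · left
    obtain ⟨a, ha, hac⟩ := hZ2
    obtain ⟨p, hp, hcomm, hpow⟩ := elementary_of_second_center h ha hac
    exact ⟨p, hp, ⟨⟨fun a b => Subtype.ext (hcomm a.1 b.1)⟩⟩, fun a _ => hpow a⟩
  · right
    simp only [not_exists, not_and] at hZ2
    have hnt : Nontrivial (G ⧸ Subgroup.center G) := by
      by_contra hsub
      rw [not_nontrivial_iff_subsingleton] at hsub
      apply hna
      refine ⟨⟨fun a b => ?_⟩⟩
      have h1 : (a : G ⧸ Subgroup.center G) = 1 := Subsingleton.elim _ _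
      have ha := (QuotientGroup.eq_one_iff a).1 h1
      exact ((Subgroup.mem_center_iff.1 ha) b).symm
    exact structure_of_coatom_centralizers (quotient_coatom h hZ2)

end Cfsg.Agent.S3904
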