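import Cfsg.Statements.S3910
import Mathlib
-- import your own Cfsg.Agent.* helpers here

set_option autoImplicit false
open Cfsg

namespace Cfsg.Agent.S3910

open scoped commutatorElement in
/-- in a nilpotent group, elements of coprime orders commute -/
theorem commute_of_coprime_nilp (N : Type*) [Group N] [Group.IsNilpotent N] :
    ∀ x y : N, (orderOf x).Coprime (orderOf y) → Commute x y := by
  refine Group.nilpotent_center_quotient_ind
    (P := fun G _ _ => ∀ x y : G, (orderOf x).Coprime (orderOf y) → Commute x y) N ?_ ?_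
  · intro G _ _ x y _
    have : x = y := Subsingleton.elim x y
    rw [this]
  · intro G _ _ ih x y hxy
    have hx : orderOf (QuotientGroup.mk x : G ⧸ Subgroup.center G) ∣ orderOf x :=
      orderOf_dvd_of_pow_eq_one (by rw [← QuotientGroup.mk_pow, pow_orderOf_eq_one]; rfl)
    have hy : orderOf (QuotientGroup.mk y : G ⧸ Subgroup.center G) ∣ orderOf y :=
      orderOf_dvd_of_pow_eq_one (by rw [← QuotientGroup.mk_pow, pow_orderOf_eq_one]; rfl)
    have hc := ih (QuotientGroup.mk x) (QuotientGroup.mk y)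
      (Nat.Coprime.coprime_dvd_left hx (Nat.Coprime.coprime_dvd_right hy hxy))
    have hz : ⁅x, y⁆ ∈ Subgroup.center G := by
      rw [← QuotientGroup.eq_one_iff]
      show (QuotientGroup.mk' (Subgroup.center G)) ⁅x, y⁆ = 1
      rw [map_commutatorElement, commutatorElement_eq_one_iff_commute]
      exact hc
    have hzc : ∀ g, g * ⁅x, y⁆ = ⁅x, y⁆ * g := Subgroup.mem_center_iff.mp hz
    have h1 : ⁅x, y⁆ ^ orderOf y = 1 := by
      have e : x * y * x⁻¹ = ⁅x, y⁆ * y := by rw [commutatorElement_def]; group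
      have e2 : (x * y * x⁻¹) ^ orderOf y = 1 := by rw [conj_pow, pow_orderOf_eq_one]; simp
      rw [e, (show Commute ⁅x, y⁆ y from (hzc y).symm).mul_pow, pow_orderOf_eq_one, mul_one] at e2
      exact e2
    have h2 : ⁅x, y⁆ ^ orderOf x = 1 := by
      have e : y * x * y⁻¹ = ⁅x, y⁆⁻¹ * x := by rw [commutatorElement_def]; group
      have e2 : (y * x * y⁻¹) ^ orderOf x = 1 := by rw [conj_pow, pow_orderOf_eq_one]; simp
      have hcz : Commute ⁅x, y⁆⁻¹ x := (show Commute ⁅x, y⁆ x from (hzc x).symm).inv_left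
      rw [e, hcz.mul_pow, pow_orderOf_eq_one, mul_one, inv_pow, inv_eq_one] at e2
      exact e2
    have h3 : orderOf ⁅x, y⁆ = 1 :=
      (Nat.Coprime.coprime_dvd_left (orderOf_dvd_of_pow_eq_one h2) hxy).eq_one_of_dvd
        (orderOf_dvd_of_pow_eq_one h1)
    exact commutatorElement_eq_one_iff_commute.mp (orderOf_eq_one_iff.mp h3)

theorem key {G : Type*} [Group G] [Finite G]
    (hB : ∀ A B : Subgroup G, IsMulCommutative ↥A → IsMulCommutative ↥B → Nat.card ↥A = Nat.card ↥B → ∃ g : G, B = A.map (MulAut.conj g).toMonoidHom)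
    (c y : G) (hc : (Subgroup.zpowers c).Normal) (hd : orderOf y ∣ orderOf c) :
    y ∈ Subgroup.zpowers c := by
  obtain ⟨m, hm⟩ := hd
  have he_pos : 0 < orderOf c := orderOf_pos c
  have hm0 : m ≠ 0 := by
    rintro rfl
    rw [mul_zero] at hm
    omega
  have hc0 : orderOf (c ^ m) = orderOf y := by
    rw [orderOf_pow_of_dvd hm0 (Dvd.intro_left _ hm.symm), hm]
    exact Nat.mul_div_cancel _ (Nat.pos_of_ne_zero hm0)
  obtain ⟨g, hg⟩ := hB (Subgroup.zpowers (c ^ m)) (Subgroup.zpowers y) inferInstance inferInstance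
    (by rw [Nat.card_zpowers, Nat.card_zpowers, hc0])
  have hy : y ∈ (Subgroup.zpowers (c ^ m)).map (MulAut.conj g).toMonoidHom := by
    rw [← hg]; exact Subgroup.mem_zpowers y
  obtain ⟨n, hn, hny⟩ := hy
  have hn' : n ∈ Subgroup.zpowers c := by
    obtain ⟨k, hk⟩ := Subgroup.mem_zpowers_iff.mp hn
    rw [← hk]
    exact Subgroup.zpow_mem _ (Subgroup.pow_mem _ (Subgroup.mem_zpowers c) m) k
  have := hc.conj_mem n hn' g
  rw [← hny]
  simpa using this


/-- A finite nilpotent group in which any two abelian subgroups of the same order are conjugate is cyclic. -/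
theorem result {G : Type*} [Group G] [Finite G] (hB : ∀ A B : Subgroup G, IsMulCommutative ↥A → IsMulCommutative ↥B → Nat.card ↥A = Nat.card ↥B → ∃ g : G, B = A.map (MulAut.conj g).toMonoidHom) (hnil : Group.IsNilpotent G) : IsCyclic G := by
  classical
  haveI : Nonempty {c : G // (Subgroup.zpowers c).Normal} :=
    ⟨⟨1, by rw [Subgroup.zpowers_one_eq_bot]; infer_instance⟩⟩
  obtain ⟨⟨c, hcN⟩, hmax⟩ :=
    Finite.exists_max (fun c : {c : G // (Subgroup.zpowers c).Normal} => orderOf c.1)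
  by_contra hcyc
  have hne : Subgroup.zpowers c ≠ ⊤ :=
    fun h => hcyc (isCyclic_iff_exists_zpowers_eq_top.mpr ⟨c, h⟩)
  have := hcN
  set N := Subgroup.zpowers c with hN
  have he_pos : 0 < orderOf c := orderOf_pos c
  haveI : Nontrivial (G ⧸ N) := by
    by_contra hnt
    rw [not_nontrivial_iff_subsingleton] at hnt
    exact hne (QuotientGroup.subgroup_eq_top_of_subsingleton N hnt)
  have hcen := Group.IsNilpotent.center_ne_bot (G := G ⧸ N)
  obtain ⟨⟨q, hq⟩, hq1⟩ := Subgroup.ne_bot_iff_exists_ne_one.mp hcen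
  have hq1' : q ≠ 1 := fun h => hq1 (Subtype.ext h)
  have hqo : orderOf q ≠ 1 := fun h => hq1' (orderOf_eq_one_iff.mp h)
  obtain ⟨p, hp, hpq⟩ := Nat.exists_prime_and_dvd hqo
  have hqpos : 0 < orderOf q := orderOf_pos q
  set q' := q ^ (orderOf q / p) with hq'
  have hq'o : orderOf q' = p := by
    rw [hq', orderOf_pow_of_dvd (Nat.div_pos (Nat.le_of_dvd hqpos hpq) hp.pos).ne'
      (Nat.div_dvd_of_dvd hpq)]
    exact Nat.div_div_self hpq hqpos.ne'
  have hq'c : q' ∈ Subgroup.center (G ⧸ N) := Subgroup.pow_mem _ hq _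
  obtain ⟨x, hx⟩ := QuotientGroup.mk_surjective q'
  obtain ⟨a, n', hpn', hen'⟩ := Nat.exists_eq_pow_mul_and_not_dvd he_pos.ne' p hp.ne_one
  set x₁ := x ^ n' with hx₁
  have hx₁mk : (QuotientGroup.mk x₁ : G ⧸ N) = q' ^ n' := by
    rw [hx₁, QuotientGroup.mk_pow, hx]
  have hx₁N : x₁ ∉ N := by
    intro h
    have h1 : (QuotientGroup.mk x₁ : G ⧸ N) = 1 := (QuotientGroup.eq_one_iff x₁).mpr h
    rw [hx₁mk] at h1
    have := orderOf_dvd_of_pow_eq_one h1
    rw [hq'o] at this
    exact hpn' this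
  have hxp : x ^ p ∈ N := by
    rw [← QuotientGroup.eq_one_iff, QuotientGroup.mk_pow, hx, ← hq'o, pow_orderOf_eq_one]
  have hxpe : (x ^ p) ^ orderOf c = 1 := by
    obtain ⟨k, hk⟩ := Subgroup.mem_zpowers_iff.mp hxp
    rw [← hk, ← zpow_natCast, ← zpow_mul, mul_comm, zpow_mul, zpow_natCast, pow_orderOf_eq_one,
      one_zpow]
  have hx₁pow : x₁ ^ (p ^ (a + 1)) = 1 := by
    rw [hx₁, ← pow_mul]
    have : n' * p ^ (a + 1) = p * orderOf c := by rw [hen']; ring
    rw [this, pow_mul]; exact hxpe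
  obtain ⟨b, hb, hbo⟩ := (Nat.dvd_prime_pow hp).mp (orderOf_dvd_of_pow_eq_one hx₁pow)
  have hb' : b = a + 1 := by
    by_contra hne'
    have hba : b ≤ a := by omega
    apply hx₁N
    apply key hB c x₁ hcN
    rw [hbo, hen']
    exact Dvd.dvd.mul_right (pow_dvd_pow p hba) n'
  rw [hb'] at hbo
  set c₁ := c ^ (p ^ a) with hc₁
  have hc₁o : orderOf c₁ = n' := by
    rw [hc₁, orderOf_pow_of_dvd (pow_pos hp.pos a).ne' (Dvd.intro _ hen'.symm), hen']
    exact Nat.mul_div_cancel_left _ (pow_pos hp.pos a)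
  have hcop : (orderOf x₁).Coprime (orderOf c₁) := by
    rw [hbo, hc₁o]
    exact Nat.Coprime.pow_left _ ((Nat.Prime.coprime_iff_not_dvd hp).mpr hpn')
  have hcomm : Commute x₁ c₁ := commute_of_coprime_nilp G x₁ c₁ hcop
  set w := x₁ * c₁ with hw
  have hwo : orderOf w = p * orderOf c := by
    rw [hw, hcomm.orderOf_mul_eq_mul_orderOf_of_coprime hcop, hbo, hc₁o, hen']; ring
  have hc₁N : c₁ ∈ N := Subgroup.pow_mem _ (Subgroup.mem_zpowers c) _
  have hwmk : (QuotientGroup.mk w : G ⧸ N) = q' ^ n' := by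
    rw [hw, QuotientGroup.mk_mul, hx₁mk, (QuotientGroup.eq_one_iff c₁).mpr hc₁N, mul_one]
  have hwpN : w ^ p ∈ N := by
    rw [← QuotientGroup.eq_one_iff, QuotientGroup.mk_pow, hwmk, ← pow_mul, mul_comm, pow_mul,
      ← hq'o, pow_orderOf_eq_one, one_pow]
  have hwpo : orderOf (w ^ p) = orderOf c := by
    rw [orderOf_pow_of_dvd hp.pos.ne' (by rw [hwo]; exact dvd_mul_right _ _), hwo]
    exact Nat.mul_div_cancel_left _ hp.pos
  have hNle : N ≤ Subgroup.zpowers w := by
    have h1 : Subgroup.zpowers (w ^ p) ≤ N := by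
      rw [Subgroup.zpowers_le]; exact hwpN
    have h2 : Subgroup.zpowers (w ^ p) = N := by
      apply Subgroup.eq_of_le_of_card_ge h1
      rw [Nat.card_zpowers, Nat.card_zpowers, hwpo]
    rw [← h2, Subgroup.zpowers_le]
    exact Subgroup.pow_mem _ (Subgroup.mem_zpowers w) p
  have hwc : (QuotientGroup.mk w : G ⧸ N) ∈ Subgroup.center (G ⧸ N) := by
    rw [hwmk]; exact Subgroup.pow_mem _ hq'c _
  have hwN : (Subgroup.zpowers w).Normal := by
    constructor
    intro n hn g
    obtain ⟨k, rfl⟩ := Subgroup.mem_zpowers_iff.mp hn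
    have h1 : g * w ^ k * g⁻¹ = (g * w * g⁻¹) ^ k := conj_zpow.symm
    rw [h1]
    apply Subgroup.zpow_mem
    have h2 : g * w * g⁻¹ * w⁻¹ ∈ N := by
      rw [← QuotientGroup.eq_one_iff]
      have h3 := Subgroup.mem_center_iff.mp hwc (QuotientGroup.mk g)
      simp only [QuotientGroup.mk_mul, QuotientGroup.mk_inv]
      rw [h3]; group
    have h4 : g * w * g⁻¹ = (g * w * g⁻¹ * w⁻¹) * w := by group
    rw [h4]
    exact Subgroup.mul_mem _ (hNle h2) (Subgroup.mem_zpowers w)
  have hfin := hmax ⟨w, hwN⟩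
  simp only at hfin
  rw [hwo] at hfin
  have hp2 := hp.two_le
  nlinarith

end Cfsg.Agent.S3910
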