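import Cfsg.Statements.S3917

set_option autoImplicit false
open Cfsg

namespace Cfsg.Agent.S3917

open scoped Pointwise

/-- Say that a group has self-centralizing non-cyclic subgroups when every non-cyclic subgroup H satisfies C_G(H) ≤ H. A finite abelian group with self-centralizing non-cyclic subgroups is cyclic or elementary abelian of order p² for a prime p. -/
theorem result {G : Type*} [CommGroup G] [Finite G] (hX : (∀ H : Subgroup G, ¬ IsCyclic ↥H → Subgroup.centralizer (H : Set G) ≤ H)) :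
    IsCyclic G ∨ ∃ p : ℕ, p.Prime ∧ Nat.card G = p ^ 2 ∧ Monoid.exponent G = p := by
  by_cases hc : IsCyclic G
  · exact Or.inl hc
  right
  -- every non-cyclic subgroup is everything
  have hX' : ∀ H : Subgroup G, ¬ IsCyclic ↥H → H = ⊤ := by
    intro H hH
    apply top_le_iff.mp
    refine le_trans ?_ (hX H hH)
    intro g _
    rw [Subgroup.mem_centralizer_iff]
    intro h _
    exact mul_comm h g
  obtain ⟨x, hx⟩ := Monoid.exists_orderOf_eq_exponent (G := G) Monoid.ExponentExists.of_finite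
  set e := Monoid.exponent G with he
  have he0 : e ≠ 0 := Monoid.exponent_ne_zero_of_finite
  have hxtop : Subgroup.zpowers x ≠ ⊤ := by
    intro h
    apply hc
    exact ⟨x, fun g => by
      have : g ∈ Subgroup.zpowers x := h ▸ Subgroup.mem_top g
      exact this⟩
  obtain ⟨y₀, hy₀⟩ : ∃ y₀ : G, y₀ ∉ Subgroup.zpowers x := by
    by_contra h
    rw [not_exists] at h
    exact hxtop (Subgroup.eq_top_iff' _ |>.mpr fun g => not_not.mp (h g))
  -- pass to an element y outside ⟨x⟩ with y ^ q ∈ ⟨x⟩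
  set k := orderOf (QuotientGroup.mk y₀ : G ⧸ Subgroup.zpowers x) with hk
  have hk1 : k ≠ 1 := by
    intro h
    rw [hk, orderOf_eq_one_iff, QuotientGroup.eq_one_iff] at h
    exact hy₀ h
  have hk0 : k ≠ 0 := (orderOf_pos _).ne'
  obtain ⟨q, hq, hqk⟩ := Nat.exists_prime_and_dvd hk1
  set y := y₀ ^ (k / q) with hy
  have hyord : orderOf (QuotientGroup.mk y : G ⧸ Subgroup.zpowers x) = q := by
    rw [hy, QuotientGroup.mk_pow]
    exact orderOf_pow_orderOf_div hk0 hqk
  have hynot : y ∉ Subgroup.zpowers x := by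
    intro h
    rw [← QuotientGroup.eq_one_iff, ← orderOf_eq_one_iff, hyord] at h
    exact hq.one_lt.ne' h
  have hyq : y ^ q ∈ Subgroup.zpowers x := by
    rw [← QuotientGroup.eq_one_iff, QuotientGroup.mk_pow, ← hyord, pow_orderOf_eq_one]
  obtain ⟨s, hs⟩ : ∃ s : ℕ, x ^ s = y ^ q :=
    (mem_powers_iff_mem_zpowers (x := x) (y := y ^ q)).mpr hyq
  -- q divides the order of y
  have hqy : q ∣ orderOf y := by
    rw [← hyord]
    exact orderOf_dvd_of_pow_eq_one (by
      rw [← QuotientGroup.mk_pow, pow_orderOf_eq_one]; rfl)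
  have hye : orderOf y ∣ e := Monoid.order_dvd_exponent y
  have h1 : orderOf (y ^ q) = orderOf y / q := orderOf_pow_of_dvd hq.ne_zero hqy
  have h2 : orderOf (x ^ s) = e / Nat.gcd e s := by
    rw [orderOf_pow, hx]
  have hgpos : 0 < e / Nat.gcd e s :=
    Nat.div_pos (Nat.le_of_dvd (Nat.pos_of_ne_zero he0) (Nat.gcd_dvd_left e s))
      (Nat.gcd_pos_of_pos_left s (Nat.pos_of_ne_zero he0))
  have h3 : orderOf y = q * (e / Nat.gcd e s) := by
    rw [← h2, hs, h1, Nat.mul_div_cancel' hqy]
  have hqg : q ∣ Nat.gcd e s := by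
    apply Nat.dvd_of_mul_dvd_mul_right hgpos
    rw [← h3, Nat.mul_div_cancel' (Nat.gcd_dvd_left e s)]
    exact hye
  have hqs : q ∣ s := hqg.trans (Nat.gcd_dvd_right e s)
  have hqe : q ∣ e := hqg.trans (Nat.gcd_dvd_left e s)
  obtain ⟨t, rfl⟩ := hqs
  -- the element w of order q outside ⟨x⟩
  set w := y * (x ^ t)⁻¹ with hw
  have hwq : w ^ q = 1 := by
    have h : (x ^ t) ^ q = y ^ q := by rw [← pow_mul, mul_comm t q, hs]
    rw [hw, mul_pow, inv_pow, h, mul_inv_cancel]
  have hwnot : w ∉ Subgroup.zpowers x := by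
    intro h
    apply hynot
    have : w * x ^ t ∈ Subgroup.zpowers x :=
      (Subgroup.zpowers x).mul_mem h ((Subgroup.zpowers x).pow_mem (Subgroup.mem_zpowers x) t)
    simpa [hw] using this
  set x₁ := x ^ (e / q) with hx₁
  have hx₁ord : orderOf x₁ = q := by
    rw [hx₁, ← hx]
    exact orderOf_pow_orderOf_div (hx ▸ he0) (hx ▸ hqe)
  have hx₁q : x₁ ^ q = 1 := by rw [← hx₁ord, pow_orderOf_eq_one]
  have hx₁mem : x₁ ∈ Subgroup.zpowers x := (Subgroup.zpowers x).pow_mem (Subgroup.mem_zpowers x) _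
  set E := Subgroup.zpowers x₁ ⊔ Subgroup.zpowers w with hE
  -- all elements of E have q-th power 1
  have hEq : ∀ g ∈ E, g ^ q = 1 := by
    have hle : E ≤ (powMonoidHom q : G →* G).ker := by
      rw [hE, sup_le_iff, Subgroup.zpowers_le, Subgroup.zpowers_le]
      exact ⟨by simpa [MonoidHom.mem_ker] using hx₁q, by simpa [MonoidHom.mem_ker] using hwq⟩
    intro g hg
    simpa [MonoidHom.mem_ker] using hle hg
  have hwx₁ : w ∉ Subgroup.zpowers x₁ := fun h =>
    hwnot ((Subgroup.zpowers_le.mpr hx₁mem) h)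
  have hEnc : ¬ IsCyclic E := by
    intro hcyc
    obtain ⟨h, hh⟩ := hcyc.exists_generator
    have h1 : Nat.card E = orderOf h := by
      rw [← Nat.card_zpowers]
      have : Subgroup.zpowers h = ⊤ := Subgroup.eq_top_iff' _ |>.mpr hh
      rw [this, Nat.card_congr Subgroup.topEquiv.toEquiv]
    have h2 : orderOf h ∣ q := by
      apply orderOf_dvd_of_pow_eq_one
      apply Subtype.ext
      simpa using hEq h h.2
    have h3 : Nat.card E ≤ q := h1 ▸ Nat.le_of_dvd hq.pos h2
    have h4 : Subgroup.zpowers x₁ ≤ E := le_sup_left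
    have h5 : Nat.card (Subgroup.zpowers x₁) = q := by rw [Nat.card_zpowers, hx₁ord]
    have h6 := Subgroup.eq_of_le_of_card_ge h4 (by rw [h5]; exact h3)
    apply hwx₁
    rw [h6]
    exact (le_sup_right : Subgroup.zpowers w ≤ E) (Subgroup.mem_zpowers w)
  have hEtop : E = ⊤ := hX' E hEnc
  have hall : ∀ g : G, g ^ q = 1 := fun g => hEq g (hEtop ▸ Subgroup.mem_top g)
  have hexp : e = q := by
    have h1 : e ∣ q := Monoid.exponent_dvd_iff_forall_pow_eq_one.mpr hall
    rcases (Nat.dvd_prime hq).mp h1 with h | h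
    · exfalso
      have : orderOf x₁ ∣ 1 := h ▸ Monoid.order_dvd_exponent x₁
      rw [hx₁ord] at this
      exact hq.one_lt.ne' (Nat.dvd_one.mp this)
    · exact h
  refine ⟨q, hq, ?_, hexp⟩
  have hword : orderOf w = q := by
    have h1 : orderOf w ∣ q := orderOf_dvd_of_pow_eq_one hwq
    rcases (Nat.dvd_prime hq).mp h1 with h | h
    · exfalso
      apply hwnot
      rw [orderOf_eq_one_iff.mp h]
      exact Subgroup.one_mem _
    · exact h
  have hdisj : Disjoint (Subgroup.zpowers x₁) (Subgroup.zpowers w) := by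
    rw [Subgroup.disjoint_def]
    intro g hg1 hg2
    by_contra hne
    -- g generates zpowers w
    have h1 : Subgroup.zpowers g ≤ Subgroup.zpowers w := Subgroup.zpowers_le.mpr hg2
    have h2 : orderOf g = q := by
      have h3 : orderOf g ∣ q := orderOf_dvd_of_pow_eq_one (hall g)
      rcases (Nat.dvd_prime hq).mp h3 with h | h
      · exact absurd (orderOf_eq_one_iff.mp h) hne
      · exact h
    have h4 := Subgroup.eq_of_le_of_card_ge h1 (by rw [Nat.card_zpowers, Nat.card_zpowers, h2, hword])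
    apply hwx₁
    have : w ∈ Subgroup.zpowers g := h4 ▸ Subgroup.mem_zpowers w
    exact (Subgroup.zpowers_le.mpr hg1) this
  have hmul : ((Subgroup.zpowers x₁ : Subgroup G) : Set G) * (Subgroup.zpowers w : Set G) = Set.univ := by
    rw [← Subgroup.normal_mul, ← hE, hEtop]
    rfl
  have hcompl := Subgroup.isComplement'_of_disjoint_and_mul_eq_univ hdisj hmul
  rw [← hcompl.card_mul_card, Nat.card_zpowers, Nat.card_zpowers, hx₁ord, hword, sq]

end Cfsg.Agent.S3917
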