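import Cfsg.Statements.S3918
import Cfsg.Agent.Lib.helper55.NormalElemAb

set_option autoImplicit false
open Cfsg

namespace Cfsg.Agent.S3918

/-- Say that a group has self-centralizing non-cyclic subgroups when every non-cyclic subgroup H satisfies C_G(H) ≤ H. For an odd prime p, a finite non-abelian p-group has self-centralizing non-cyclic subgroups if and only if it has order p³. -/
theorem result {G : Type*} [Group G] [Finite G] {p : ℕ} [Fact p.Prime] (hp : p ≠ 2) (hG : IsPGroup p G) (hna : ¬ IsMulCommutative G) :
    (∀ H : Subgroup G, ¬ IsCyclic ↥H → Subgroup.centralizer (H : Set G) ≤ H) ↔ Nat.card G = p ^ 3 := by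
  have hpp := (Fact.out : p.Prime)
  obtain ⟨n, hn⟩ := IsPGroup.iff_card.mp hG
  -- a non-abelian `p`-group has order at least `p ^ 3`
  have hn3 : 3 ≤ n := by
    by_contra h
    apply hna
    have hn' : n = 0 ∨ n = 1 ∨ n = 2 := by omega
    rcases hn' with h0 | h1 | h2
    · rw [h0, pow_zero] at hn
      have hsub : Subsingleton G := (Nat.card_eq_one_iff_unique.mp hn).1
      exact ⟨⟨fun a b => Subsingleton.elim _ _⟩⟩
    · rw [h1, pow_one] at hn
      have hc : IsCyclic G := isCyclic_of_prime_card hn
      exact IsCyclic.isMulCommutative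
    · rw [h2] at hn
      exact ⟨⟨fun a b => IsPGroup.commutative_of_card_eq_prime_sq hn a b⟩⟩
  constructor
  · intro h
    have hnc : ¬ IsCyclic G := fun hc => hna IsCyclic.isMulCommutative
    obtain ⟨A, hAn, hAel, hAcard⟩ := Cfsg.Agent.Lib.helper55.exists_normal_elemAb_sq hp hG hnc
    have hAnc : ¬ IsCyclic ↥A := Cfsg.Agent.Lib.helper55.not_isCyclic_of_elemAb_sq A hAel hAcard
    have hcent : Subgroup.centralizer (A : Set G) ≤ A := h A hAnc
    have h1 : (Subgroup.centralizer (A : Set G)).index ≤ p :=
      Cfsg.Agent.Lib.helper3.index_centralizer_le hG A hAcard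
    have h2 : A.index ∣ (Subgroup.centralizer (A : Set G)).index := Subgroup.index_dvd_of_le hcent
    have h3 : A.index ≤ p :=
      le_trans (Nat.le_of_dvd (Nat.pos_of_ne_zero Subgroup.index_ne_zero_of_finite) h2) h1
    have h4 : Nat.card A * A.index = Nat.card G := Subgroup.card_mul_index A
    rw [hAcard, hn] at h4
    have h5 : p ^ n ≤ p ^ 3 := by
      rw [← h4, pow_succ p 2]
      exact Nat.mul_le_mul_left _ h3
    have h6 : n ≤ 3 := (Nat.pow_le_pow_iff_right hpp.one_lt).mp h5
    have h7 : n = 3 := le_antisymm h6 hn3
    rw [hn, h7]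
  · intro hcard H hH
    have hdvd : Nat.card H ∣ p ^ 3 := hcard ▸ Subgroup.card_subgroup_dvd_card H
    obtain ⟨m, hm, hHm⟩ := (Nat.dvd_prime_pow hpp).mp hdvd
    have hm' : m = 0 ∨ m = 1 ∨ m = 2 ∨ m = 3 := by omega
    rcases hm' with h0 | h1 | h2 | h3
    · exfalso
      rw [h0, pow_zero] at hHm
      have hsub : Subsingleton ↥H := (Nat.card_eq_one_iff_unique.mp hHm).1
      exact hH isCyclic_of_subsingleton
    · exfalso
      rw [h1, pow_one] at hHm
      exact hH (isCyclic_of_prime_card hHm)
    · rw [h2] at hHm
      intro x hx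
      by_contra hxH
      apply hna
      have hHc : ∀ a ∈ H, ∀ b ∈ H, a * b = b * a := fun a ha b hb =>
        congrArg Subtype.val
          (IsPGroup.commutative_of_card_eq_prime_sq hHm (⟨a, ha⟩ : H) ⟨b, hb⟩)
      -- `H ⊔ ⟨x⟩` is everything
      have hlt : Nat.card H < Nat.card ↥(H ⊔ Subgroup.zpowers x) := by
        by_contra hle
        push Not at hle
        have h4 : H = H ⊔ Subgroup.zpowers x := Subgroup.eq_of_le_of_card_ge le_sup_left hle
        apply hxH
        rw [h4]
        exact Subgroup.mem_sup_right (Subgroup.mem_zpowers x)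
      have hdvd2 : Nat.card ↥(H ⊔ Subgroup.zpowers x) ∣ p ^ 3 :=
        hcard ▸ Subgroup.card_subgroup_dvd_card _
      obtain ⟨m2, hm2, hKm⟩ := (Nat.dvd_prime_pow hpp).mp hdvd2
      rw [hHm, hKm] at hlt
      have hm2' : 2 < m2 := (Nat.pow_lt_pow_iff_right hpp.one_lt).mp hlt
      have hm23 : m2 = 3 := by omega
      have htop : H ⊔ Subgroup.zpowers x = ⊤ := by
        apply Subgroup.card_eq_iff_eq_top _ |>.mp
        rw [hKm, hm23, hcard]
      -- `H` and `x` are central
      have hHcent : H ≤ Subgroup.center G := by
        intro a ha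
        rw [Subgroup.mem_center_iff]
        have h5 : H ⊔ Subgroup.zpowers x ≤ Subgroup.centralizer ({a} : Set G) := by
          refine sup_le ?_ ?_
          · intro b hb
            rw [Subgroup.mem_centralizer_iff]
            intro c hc
            rw [Set.mem_singleton_iff] at hc
            rw [hc]
            exact hHc a ha b hb
          · rw [Subgroup.zpowers_le, Subgroup.mem_centralizer_iff]
            intro c hc
            rw [Set.mem_singleton_iff] at hc
            rw [hc]
            exact (Subgroup.mem_centralizer_iff.mp hx a ha)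
        intro g
        have h6 : g ∈ Subgroup.centralizer ({a} : Set G) := h5 (htop ▸ Subgroup.mem_top g)
        exact (Subgroup.mem_centralizer_iff.mp h6 a rfl).symm
      have hxcent : x ∈ Subgroup.center G := by
        rw [Subgroup.mem_center_iff]
        have h5 : H ⊔ Subgroup.zpowers x ≤ Subgroup.centralizer ({x} : Set G) := by
          refine sup_le ?_ ?_
          · intro b hb
            rw [Subgroup.mem_centralizer_iff]
            intro c hc
            rw [Set.mem_singleton_iff] at hc
            rw [hc]
            exact (Subgroup.mem_centralizer_iff.mp hx b hb).symm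
          · rw [Subgroup.zpowers_le, Subgroup.mem_centralizer_iff]
            intro c hc
            rw [Set.mem_singleton_iff] at hc
            rw [hc]
        intro g
        have h6 : g ∈ Subgroup.centralizer ({x} : Set G) := h5 (htop ▸ Subgroup.mem_top g)
        exact (Subgroup.mem_centralizer_iff.mp h6 x rfl).symm
      have hcenter : Subgroup.center G = ⊤ := by
        rw [eq_top_iff, ← htop]
        exact sup_le hHcent (Subgroup.zpowers_le.mpr hxcent)
      refine ⟨⟨fun a b => ?_⟩⟩
      have ha : b ∈ Subgroup.center G := hcenter ▸ Subgroup.mem_top b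
      exact Subgroup.mem_center_iff.mp ha a
    · rw [h3, ← hcard] at hHm
      have hHtop : H = ⊤ := (Subgroup.card_eq_iff_eq_top _).mp hHm
      rw [hHtop]
      exact le_top

end Cfsg.Agent.S3918
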