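import Cfsg.Statements.S3920
import Mathlib
-- import your own Cfsg.Agent.* helpers here

set_option autoImplicit false
open Cfsg

namespace Cfsg.Agent.S3920

open DihedralGroup in
theorem two_torsion_odd {n : ℕ} (hn : Odd n) (x : ZMod n) (hx : x + x = 0) : x = 0 := by
  haveI : NeZero n := ⟨by rcases hn with ⟨k, rfl⟩; omega⟩
  have h1 : ((x.val + x.val : ℕ) : ZMod n) = 0 := by
    push_cast
    rw [ZMod.natCast_zmod_val]
    exact hx
  rw [ZMod.natCast_eq_zero_iff] at h1
  have h2 : n ∣ x.val := by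
    have h3 : n ∣ 2 * x.val := by rwa [two_mul]
    exact Nat.Coprime.dvd_of_dvd_mul_left (Nat.coprime_two_right.mpr hn) h3
  have h3 : x.val = 0 := Nat.eq_zero_of_dvd_of_lt h2 (ZMod.val_lt x)
  exact (ZMod.val_eq_zero x).mp h3

theorem two_torsion_pow {k : ℕ} (b i : ZMod (2 ^ k)) (hb0 : b ≠ 0) (hb : b + b = 0)
    (hi0 : i ≠ 0) (hi : i + i = 0) : b = i := by
  haveI : NeZero (2 ^ k) := ⟨by positivity⟩
  have key : ∀ x : ZMod (2 ^ k), x ≠ 0 → x + x = 0 → x.val + x.val = 2 ^ k := by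
    intro x hx0 hx
    have h1 : ((x.val + x.val : ℕ) : ZMod (2 ^ k)) = 0 := by
      push_cast; rw [ZMod.natCast_zmod_val]; exact hx
    rw [ZMod.natCast_eq_zero_iff] at h1
    have hlt : x.val < 2 ^ k := ZMod.val_lt x
    have hpos : 0 < x.val := by
      rcases Nat.eq_zero_or_pos x.val with h | h
      · exact absurd ((ZMod.val_eq_zero x).mp h) hx0
      · exact h
    obtain ⟨c, hc⟩ := h1
    have hc0 : c ≠ 0 := by
      rintro rfl
      rw [mul_zero] at hc
      omega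
    have hc2 : c < 2 := by
      have h3 : 2 ^ k * c < 2 ^ k * 2 := by omega
      exact Nat.lt_of_mul_lt_mul_left h3
    have hc1 : c = 1 := by omega
    rw [hc1, mul_one] at hc
    exact hc
  have h1 := key b hb0 hb
  have h2 := key i hi0 hi
  exact ZMod.val_injective _ (by omega)

theorem exists_sr_r {n : ℕ} [NeZero n] (H : Subgroup (DihedralGroup n)) (hH : ¬ IsCyclic ↥H) :
    ∃ j a : ZMod n, DihedralGroup.sr j ∈ H ∧ DihedralGroup.r a ∈ H ∧ a ≠ 0 := by
  have hA : ∃ j : ZMod n, DihedralGroup.sr j ∈ H := by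
    by_contra hno
    push Not at hno
    apply hH
    have hle : H ≤ Subgroup.zpowers (DihedralGroup.r (1 : ZMod n)) := by
      intro g hg
      rcases g with i | i
      · rw [Subgroup.mem_zpowers_iff]
        refine ⟨(i.val : ℤ), ?_⟩
        rw [zpow_natCast, DihedralGroup.r_one_pow, ZMod.natCast_zmod_val]
      · exact absurd hg (hno i)
    exact Subgroup.isCyclic_of_le hle
  obtain ⟨j, hj⟩ := hA
  have hB : ∃ g ∈ H, g ≠ 1 ∧ g ≠ DihedralGroup.sr j := by
    by_contra hno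
    push Not at hno
    apply hH
    have hle : H ≤ Subgroup.zpowers (DihedralGroup.sr j) := by
      intro g hg
      by_cases h1 : g = 1
      · rw [h1]; exact Subgroup.one_mem _
      · rw [hno g hg h1]; exact Subgroup.mem_zpowers _
    exact Subgroup.isCyclic_of_le hle
  obtain ⟨g, hg, hg1, hgj⟩ := hB
  rcases g with a | j'
  · refine ⟨j, a, hj, hg, ?_⟩
    rintro rfl
    exact hg1 DihedralGroup.r_zero
  · refine ⟨j, j' - j, hj, ?_, ?_⟩
    · have := H.mul_mem hj hg
      rwa [DihedralGroup.sr_mul_sr] at this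
    · intro h0
      apply hgj
      rw [sub_eq_zero] at h0
      rw [h0]

theorem exists_two_torsion {k : ℕ} (H : Subgroup (DihedralGroup (2 ^ k))) (a : ZMod (2 ^ k))
    (ha : DihedralGroup.r a ∈ H) (ha0 : a ≠ 0) :
    ∃ b : ZMod (2 ^ k), DihedralGroup.r b ∈ H ∧ b ≠ 0 ∧ b + b = 0 := by
  haveI : NeZero (2 ^ k) := ⟨by positivity⟩
  have hdvd : orderOf (DihedralGroup.r a) ∣ 2 ^ (k + 1) := by
    have := orderOf_dvd_natCard (DihedralGroup.r a)
    rw [DihedralGroup.nat_card] at this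
    rwa [pow_succ, mul_comm]
  obtain ⟨t, ht, hto⟩ := (Nat.dvd_prime_pow Nat.prime_two).mp hdvd
  have ht0 : t ≠ 0 := by
    rintro rfl
    rw [pow_zero, orderOf_eq_one_iff, DihedralGroup.one_def] at hto
    exact ha0 (DihedralGroup.r.inj hto)
  obtain ⟨t', rfl⟩ := Nat.exists_eq_succ_of_ne_zero ht0
  have hord : orderOf (DihedralGroup.r a ^ 2 ^ t') = 2 := by
    rw [orderOf_pow_of_dvd (by positivity) (by rw [hto]; exact pow_dvd_pow 2 (Nat.le_succ t')),
      hto, pow_succ]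
    exact Nat.mul_div_cancel_left 2 (by positivity)
  rw [DihedralGroup.r_pow] at hord
  refine ⟨a * ((2 ^ t' : ℕ) : ZMod (2 ^ k)), ?_, ?_, ?_⟩
  · have := H.pow_mem ha (2 ^ t')
    rwa [DihedralGroup.r_pow] at this
  · intro h0
    rw [h0, DihedralGroup.r_zero, orderOf_one] at hord
    omega
  · have h2 := pow_orderOf_eq_one (DihedralGroup.r (a * ((2 ^ t' : ℕ) : ZMod (2 ^ k))))
    rw [hord, DihedralGroup.r_pow, DihedralGroup.one_def] at h2
    have h3 := DihedralGroup.r.inj h2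
    push_cast at h3 ⊢
    linear_combination h3

theorem easy_dir (n : ℕ) [NeZero n] (hn' : Odd n ∨ ∃ k : ℕ, n = 2 ^ k)
    (H : Subgroup (DihedralGroup n)) (hH : ¬ IsCyclic ↥H) :
    Subgroup.centralizer (H : Set (DihedralGroup n)) ≤ H := by
  intro c hc
  obtain ⟨j, a, hj, ha, ha0⟩ := exists_sr_r H hH
  rw [Subgroup.mem_centralizer_iff] at hc
  have hcj := hc _ hj
  have hca := hc _ ha
  rcases c with i | i
  · rw [DihedralGroup.sr_mul_r, DihedralGroup.r_mul_sr] at hcj
    have h2 : i + i = 0 := by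
      have := DihedralGroup.sr.inj hcj
      linear_combination this
    rcases hn' with hodd | ⟨k, rfl⟩
    · rw [two_torsion_odd hodd i h2, DihedralGroup.r_zero]; exact H.one_mem
    · by_cases hi0 : i = 0
      · rw [hi0, DihedralGroup.r_zero]; exact H.one_mem
      · obtain ⟨b, hbH, hb0, hb2⟩ := exists_two_torsion H a ha ha0
        rw [← two_torsion_pow b i hb0 hb2 hi0 h2]; exact hbH
  · rw [DihedralGroup.sr_mul_sr, DihedralGroup.sr_mul_sr] at hcj
    rw [DihedralGroup.r_mul_sr, DihedralGroup.sr_mul_r] at hca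
    have h2a : a + a = 0 := by
      have := DihedralGroup.sr.inj hca
      linear_combination -this
    have h2d : (i - j) + (i - j) = 0 := by
      have := DihedralGroup.r.inj hcj
      linear_combination this
    rcases hn' with hodd | ⟨k, rfl⟩
    · exact absurd (two_torsion_odd hodd a h2a) ha0
    · by_cases hd0 : i - j = 0
      · rw [sub_eq_zero] at hd0; rw [hd0]; exact hj
      · have hda : i - j = a := two_torsion_pow (i - j) a hd0 h2d ha0 h2a
        have : DihedralGroup.sr i = DihedralGroup.sr j * DihedralGroup.r a := by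
          rw [DihedralGroup.sr_mul_r, ← hda]; congr 1; ring
        rw [this]; exact H.mul_mem hj ha

theorem hard_dir (n : ℕ) (hn : 3 ≤ n) (hodd : ¬ Odd n) (hpow : ∀ k : ℕ, n ≠ 2 ^ k)
    (h : ∀ H : Subgroup (DihedralGroup n), ¬ IsCyclic ↥H →
      Subgroup.centralizer (H : Set (DihedralGroup n)) ≤ H) : False := by
  haveI : NeZero n := ⟨by omega⟩
  obtain ⟨e, m, hm2, hnm⟩ := Nat.exists_eq_pow_mul_and_not_dvd (show n ≠ 0 by omega) 2 (by norm_num)
  have he0 : e ≠ 0 := by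
    rintro rfl
    rw [pow_zero, one_mul] at hnm
    apply hodd; rw [hnm]; exact Nat.odd_iff.mpr (by omega)
  obtain ⟨e', rfl⟩ := Nat.exists_eq_succ_of_ne_zero he0
  have hm3 : 3 ≤ m := by
    have hm1 : m ≠ 1 := by rintro rfl; exact hpow (e' + 1) (by rw [hnm, mul_one])
    have hm0 : m ≠ 0 := by rintro rfl; rw [mul_zero] at hnm; omega
    omega
  let A : AddSubgroup (ZMod n) := AddSubgroup.zmultiples (((2 ^ (e' + 1) : ℕ) : ZMod n))
  let H : Subgroup (DihedralGroup n) :=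
    { carrier := {g | ∃ i ∈ A, g = DihedralGroup.r i ∨ g = DihedralGroup.sr i}
      mul_mem' := by
        rintro x y ⟨i, hi, rfl | rfl⟩ ⟨i', hi', rfl | rfl⟩
        · exact ⟨i + i', A.add_mem hi hi', Or.inl (DihedralGroup.r_mul_r _ _)⟩
        · exact ⟨i' - i, A.sub_mem hi' hi, Or.inr (DihedralGroup.r_mul_sr _ _)⟩
        · exact ⟨i + i', A.add_mem hi hi', Or.inr (DihedralGroup.sr_mul_r _ _)⟩
        · exact ⟨i' - i, A.sub_mem hi' hi, Or.inl (DihedralGroup.sr_mul_sr _ _)⟩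
      one_mem' := ⟨0, A.zero_mem, Or.inl DihedralGroup.one_def⟩
      inv_mem' := by
        rintro x ⟨i, hi, rfl | rfl⟩
        · exact ⟨-i, A.neg_mem hi, Or.inl (DihedralGroup.inv_r _)⟩
        · exact ⟨i, hi, Or.inr (DihedralGroup.inv_sr _)⟩ }
  have hgen : ((2 ^ (e' + 1) : ℕ) : ZMod n) ∈ A := AddSubgroup.mem_zmultiples _
  have hsr0 : DihedralGroup.sr (0 : ZMod n) ∈ H := ⟨0, A.zero_mem, Or.inr rfl⟩
  have hrx : DihedralGroup.r (((2 ^ (e' + 1) : ℕ) : ZMod n)) ∈ H := ⟨_, hgen, Or.inl rfl⟩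
  have hHnc : ¬ IsCyclic ↥H := by
    intro hcyc
    obtain ⟨g, hg⟩ := IsCyclic.exists_generator (α := H)
    obtain ⟨a, ha⟩ := Subgroup.mem_zpowers_iff.mp (hg ⟨_, hsr0⟩)
    obtain ⟨b, hb⟩ := Subgroup.mem_zpowers_iff.mp (hg ⟨_, hrx⟩)
    have hcomm : (⟨_, hsr0⟩ : H) * ⟨_, hrx⟩ = ⟨_, hrx⟩ * ⟨_, hsr0⟩ := by
      rw [← ha, ← hb, ← zpow_add, ← zpow_add, add_comm]
    have hcomm' := congrArg Subtype.val hcomm
    simp only [Subgroup.coe_mul] at hcomm'
    rw [DihedralGroup.sr_mul_r, DihedralGroup.r_mul_sr] at hcomm'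
    have h3 := DihedralGroup.sr.inj hcomm'
    have h4 : ((2 ^ (e' + 1) + 2 ^ (e' + 1) : ℕ) : ZMod n) = 0 := by
      push_cast at h3 ⊢
      linear_combination h3
    rw [ZMod.natCast_eq_zero_iff] at h4
    have h5 : 2 ^ (e' + 1) * m ∣ 2 ^ (e' + 1) * 2 := by
      rw [← hnm, mul_two]; exact h4
    have h6 : m ∣ 2 := Nat.dvd_of_mul_dvd_mul_left (by positivity) h5
    have h7 := Nat.le_of_dvd (by norm_num) h6
    omega
  have hcc : ((2 ^ e' * m : ℕ) : ZMod n) + ((2 ^ e' * m : ℕ) : ZMod n) = 0 := by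
    have : ((2 ^ e' * m + 2 ^ e' * m : ℕ) : ZMod n) = 0 := by
      rw [ZMod.natCast_eq_zero_iff]
      exact dvd_of_eq (by rw [hnm, pow_succ]; ring)
    rw [← this]; push_cast; rfl
  have hc_cent : DihedralGroup.r (((2 ^ e' * m : ℕ) : ZMod n)) ∈
      Subgroup.centralizer (H : Set (DihedralGroup n)) := by
    rw [Subgroup.mem_centralizer_iff]
    rintro g ⟨i, hi, rfl | rfl⟩
    · rw [DihedralGroup.r_mul_r, DihedralGroup.r_mul_r, add_comm]
    · rw [DihedralGroup.sr_mul_r, DihedralGroup.r_mul_sr]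
      congr 1
      linear_combination hcc
  have hc_notin : DihedralGroup.r (((2 ^ e' * m : ℕ) : ZMod n)) ∉ H := by
    rintro ⟨i, hi, hci | hci⟩
    · have hci' := DihedralGroup.r.inj hci
      rw [← hci'] at hi
      obtain ⟨z, hz⟩ := AddSubgroup.mem_zmultiples_iff.mp hi
      have h0 : ((z * 2 ^ (e' + 1) - 2 ^ e' * m : ℤ) : ZMod n) = 0 := by
        rw [zsmul_eq_mul] at hz
        push_cast at hz ⊢
        rw [hz]; ring
      have hdvd := (ZMod.intCast_zmod_eq_zero_iff_dvd _ n).mp h0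
      have h1 : (2 ^ (e' + 1) : ℤ) ∣ z * 2 ^ (e' + 1) - 2 ^ e' * m :=
        Dvd.dvd.trans ⟨(m : ℤ), by rw [hnm, Nat.succ_eq_add_one]; push_cast; ring⟩ hdvd
      have h2 : (2 ^ (e' + 1) : ℤ) ∣ 2 ^ e' * m := by
        have h3 := Dvd.dvd.sub (Dvd.intro_left z rfl : (2 ^ (e' + 1) : ℤ) ∣ z * 2 ^ (e' + 1)) h1
        simpa using h3
      rw [pow_succ] at h2
      have h4 : (2 : ℤ) ∣ (m : ℤ) := Int.dvd_of_mul_dvd_mul_left (by positivity) h2
      exact hm2 (by exact_mod_cast h4)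
    · cases hci
  exact hc_notin (h H hHnc hc_cent)


/-- Say that a group has self-centralizing non-cyclic subgroups when every non-cyclic subgroup H satisfies C_G(H) ≤ H. For n ≥ 3, the dihedral group of order 2n has self-centralizing non-cyclic subgroups if and only if n is odd or a power of 2. -/
theorem result (n : ℕ) (hn : 3 ≤ n) : (∀ H : Subgroup (DihedralGroup n), ¬ IsCyclic ↥H → Subgroup.centralizer (H : Set (DihedralGroup n)) ≤ H) ↔ (Odd n ∨ ∃ k : ℕ, n = 2 ^ k) := by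
  haveI : NeZero n := ⟨by omega⟩
  constructor
  · intro h
    by_contra hcon
    push Not at hcon
    exact hard_dir n hn hcon.1 hcon.2 h
  · intro hn' H hH
    exact easy_dir n hn' H hH

end Cfsg.Agent.S3920
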