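import Cfsg.Statements.S3928
import Mathlib
import Cfsg.Agent.Lib.helper86.IvDefs
import Cfsg.Agent.Lib.helper86.IvSTEP
import Cfsg.Agent.Lib.helper18.IvSCHUR
import Cfsg.Agent.Lib.helper85.IvMAINcore

set_option autoImplicit false
open Cfsg

namespace Cfsg.Agent.S3928

/-- There is a function f such that for every non-trivial finite group G and every automorphism α of G of order 2 with [G, α] = G (the elements g·α(g)⁻¹ generate G), the order of G is at most f(m), where m is the number of elements of odd order inverted by α. -/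
theorem result : ∃ f : ℕ → ℕ, ∀ (G : Type) [Group G] [Finite G] [Nontrivial G] (α : MulAut G), orderOf α = 2 →
    Subgroup.closure (Set.range (fun c : G => c * (α c)⁻¹)) = ⊤ →
      Nat.card G ≤ f (Nat.card {g : G // Odd (orderOf g) ∧ α g = g⁻¹}) := by
  have hmain := Cfsg.Agent.Lib.helper86.IV.h85_iv_main_core
    (fun G _ _ α h m Q hm hQ => Cfsg.Agent.Lib.helper86.IV.iv_schur α h m Q hm hQ)
    (fun G _ _ α h m b hb1 hb hm => Cfsg.Agent.Lib.helper86.IV.iv_step α h m b hb1 hb hm)
  choose f _ hf using hmain
  refine ⟨f, fun G _ _ _ α hα hgen => ?_⟩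
  have hinv : ∀ g, α (α g) = g := by
    intro g
    have h1 : α ^ 2 = 1 := by
      rw [← hα]
      exact pow_orderOf_eq_one α
    have h2 := congrArg (fun φ : MulAut G => φ g) h1
    simpa [pow_two] using h2
  exact hf _ G α ⟨hinv, hgen⟩ le_rfl

end Cfsg.Agent.S3928
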