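import Cfsg.Statements.S3937
import Cfsg.Agent.Lib.helper29.Zipper
import Cfsg.Agent.Lib.helper65.Fitting
import Cfsg.Agent.Lib.helper13.Basic

set_option autoImplicit false
open Cfsg

namespace Cfsg.Agent.S3937

open Pointwise
open scoped commutatorElement
open Cfsg.Agent.Lib.helper29 Cfsg.Agent.Lib.helper12

/-- A left Engel element generates a subnormal subgroup (in every subgroup containing it). -/
theorem engel_snChain {G : Type*} [Group G] [Finite G] (g : G)
    (hE : ∀ x : G, ∃ n : ℕ, (List.replicate n g).foldl (fun a b => a * b * a⁻¹ * b⁻¹) x = 1) :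
    ∀ (n : ℕ) (H : Subgroup G), Nat.card H = n → g ∈ H → SNChain (Subgroup.zpowers g) H := by
  intro n
  induction n using Nat.strong_induction_on with
  | _ n ih =>
  intro H hn hgH
  by_contra hns
  have hZH : Subgroup.zpowers g ≤ H := (Subgroup.zpowers_le).mpr hgH
  have hprop : ∀ L : Subgroup G, Subgroup.zpowers g ≤ L → L < H → SNChain (Subgroup.zpowers g) L :=
    fun L hL hLH => ih _ (hn ▸ card_lt_card_of_lt hLH) L rfl (hL (Subgroup.mem_zpowers g))
  obtain ⟨M, hMH, hZM, hM⟩ := zipper H _ (Subgroup.zpowers g) rfl hZH hprop hns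
  have hgM : g ∈ M := hZM (Subgroup.mem_zpowers g)
  have hNM : Subgroup.normalizer (M : Set G) ⊓ H ≤ M := by
    by_cases hcase : H ≤ Subgroup.normalizer (M : Set G)
    · exact absurd ((hprop M hZM hMH).trans (SNChain.of_normal hMH.le hcase)) hns
    · have hlt : Subgroup.normalizer (M : Set G) ⊓ H < H :=
        lt_of_le_of_ne inf_le_right (fun h => hcase (h ▸ inf_le_left))
      exact hM _ hlt (le_inf (hZM.trans Subgroup.le_normalizer) hZH)
  have key : ∀ a ∈ H, a * g * a⁻¹ * g⁻¹ ∈ M → a ∈ M := by
    intro a ha hc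
    have h1 : a * g * a⁻¹ ∈ M := by
      have := M.mul_mem hc hgM
      simpa using this
    have h2 : Subgroup.zpowers g ≤ MulAut.conj a⁻¹ • M := by
      rw [Subgroup.zpowers_le, mem_conj_smul_iff]
      simpa using h1
    have h3 : MulAut.conj a⁻¹ • M ≤ M := hM _ (conj_smul_lt_of_mem hMH (H.inv_mem ha)) h2
    have h4 : a⁻¹ ∈ Subgroup.normalizer (M : Set G) := mem_normalizer_of_conj_smul_le h3
    have h5 : a ∈ Subgroup.normalizer (M : Set G) := by
      have := Subgroup.inv_mem _ h4
      simpa using this
    exact hNM ⟨h5, ha⟩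
  have hall : ∀ (k : ℕ) (x : G), x ∈ H →
      (List.replicate k g).foldl (fun a b => a * b * a⁻¹ * b⁻¹) x = 1 → x ∈ M := by
    intro k
    induction k with
    | zero =>
      intro x _ h
      simp at h
      rw [h]; exact M.one_mem
    | succ k ihk =>
      intro x hx h
      rw [List.replicate_succ, List.foldl_cons] at h
      have hx' : x * g * x⁻¹ * g⁻¹ ∈ H :=
        H.mul_mem (H.mul_mem (H.mul_mem hx hgH) (H.inv_mem hx)) (H.inv_mem hgH)
      exact key x hx (ihk _ hx' h)
  have hHM : H ≤ M := fun x hx => by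
    obtain ⟨k, hk⟩ := hE x
    exact hall k x hx hk
  exact absurd (lt_of_lt_of_le hMH hHM) (lt_irrefl _)

/-- Iterated commutators with an element of a nilpotent normal subgroup descend along its lower
central series. -/
theorem foldl_mem_lcs {G : Type*} [Group G] (F : Subgroup G) [F.Normal] (g : G) (hg : g ∈ F)
    (x : G) : ∀ k : ℕ, (List.replicate (k + 1) g).foldl (fun a b => a * b * a⁻¹ * b⁻¹) x ∈
      F.lowerCentralSeries k := by
  intro k
  induction k with
  | zero =>
    rw [List.replicate_succ, List.foldl_cons, List.replicate_zero, List.foldl_nil,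
      Subgroup.lowerCentralSeries_zero]
    have h1 : x * g * x⁻¹ ∈ F := (inferInstance : F.Normal).conj_mem g hg x
    exact F.mul_mem h1 (F.inv_mem hg)
  | succ k ih =>
    rw [List.replicate_succ', List.foldl_append, List.foldl_cons, List.foldl_nil,
      Subgroup.lowerCentralSeries_succ]
    exact Subgroup.commutator_mem_commutator ih hg

/-- Baer's characterization of the Fitting subgroup: in a finite group G, an element g lies in the Fitting subgroup if and only if g is a left Engel element, that is, for every x there is n with [x, g, g, …, g] = 1 (n entries g, [a, b] = aba⁻¹b⁻¹). -/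
theorem result {G : Type*} [Group G] [Finite G] (g : G) :
    g ∈ Cfsg.fittingSubgroup G ↔ ∀ x : G, ∃ n : ℕ, (List.replicate n g).foldl (fun a b => a * b * a⁻¹ * b⁻¹) x = 1 := by
  constructor
  · intro hg x
    have hnil : Group.IsNilpotent (Cfsg.fittingSubgroup G) :=
      Cfsg.Agent.Lib.helper65.fittingSubgroup_isNilpotent
    obtain ⟨n, hn⟩ := (Subgroup.isNilpotent_iff_lowerCentralSeries (Cfsg.fittingSubgroup G)).mp hnil
    refine ⟨n + 1, ?_⟩
    have h1 := foldl_mem_lcs (Cfsg.fittingSubgroup G) g hg x n
    rw [hn, Subgroup.mem_bot] at h1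
    exact h1
  · intro hE
    have h1 : SNChain (Subgroup.zpowers g) ⊤ :=
      engel_snChain g hE _ ⊤ rfl (Subgroup.mem_top g)
    have h2 : (Subgroup.zpowers g).IsSubnormal := snChain_top_iff.mp h1
    have h3 : Group.IsNilpotent (Subgroup.zpowers g) :=
      Cfsg.Agent.Lib.helper13.isNilpotent_of_isMulCommutative _
    exact Cfsg.Agent.Lib.helper65.le_fittingSubgroup_of_isSubnormal_of_isNilpotent h2 h3
      (Subgroup.mem_zpowers g)

end Cfsg.Agent.S3937
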