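import Cfsg.Statements.S3939
import Mathlib
import Cfsg.Agent.Lib.helper3.PGroupNormal
-- import your own Cfsg.Agent.* helpers here

set_option autoImplicit false
open Cfsg

namespace Cfsg.Agent.S3939

open Cfsg.Agent.Lib.helper3

/-- in a nilpotent group, elements of coprime orders commute -/
theorem commute_of_coprime_of_nilpotent (H : Type*) [Group H] [Group.IsNilpotent H] :
    ∀ x h : H, (orderOf x).Coprime (orderOf h) → x * h = h * x := by
  refine Group.nilpotent_center_quotient_ind
    (P := fun H _ _ => ∀ x h : H, (orderOf x).Coprime (orderOf h) → x * h = h * x) H ?_ ?_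
  · intro H _ _ x h _
    exact Subsingleton.elim _ _
  · intro H _ _ ih x h hcop
    have h1 : (orderOf (QuotientGroup.mk' (Subgroup.center H) x)).Coprime
        (orderOf (QuotientGroup.mk' (Subgroup.center H) h)) :=
      Nat.Coprime.coprime_dvd_left (orderOf_map_dvd _ x)
        (Nat.Coprime.coprime_dvd_right (orderOf_map_dvd _ h) hcop)
    have h2 := ih _ _ h1
    have hc : x * h * x⁻¹ * h⁻¹ ∈ Subgroup.center H := by
      rw [← QuotientGroup.eq_one_iff, ← QuotientGroup.mk'_apply, map_mul, map_mul, map_mul, h2,
        map_inv, map_inv]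
      group
    set c := x * h * x⁻¹ * h⁻¹ with hcdef
    have hcc : ∀ y : H, c * y = y * c := fun y => (Subgroup.mem_center_iff.mp hc y).symm
    have e1 : x * h * x⁻¹ = c * h := by rw [hcdef]; group
    have e2 : h * x * h⁻¹ = c⁻¹ * x := by rw [hcdef]; group
    have p1 : c ^ orderOf h = 1 := by
      have : (x * h * x⁻¹) ^ orderOf h = 1 := by
        rw [conj_pow, pow_orderOf_eq_one, mul_one, mul_inv_cancel]
      rw [e1, (show Commute c h from hcc h).mul_pow, pow_orderOf_eq_one, mul_one] at this
      exact this
    have p2 : c ^ orderOf x = 1 := by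
      have : (h * x * h⁻¹) ^ orderOf x = 1 := by
        rw [conj_pow, pow_orderOf_eq_one, mul_one, mul_inv_cancel]
      have hcx : Commute c⁻¹ x := (show Commute c x from hcc x).inv_left
      rw [e2, hcx.mul_pow, pow_orderOf_eq_one, mul_one, inv_pow, inv_eq_one] at this
      exact this
    have hd : orderOf c ∣ 1 := by
      have := Nat.dvd_gcd (orderOf_dvd_of_pow_eq_one p2) (orderOf_dvd_of_pow_eq_one p1)
      rwa [hcop] at this
    have hc1 : c = 1 := orderOf_eq_one_iff.mp (Nat.dvd_one.mp hd)
    have : x * h * x⁻¹ = h := by rw [e1, hc1, one_mul]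
    calc x * h = x * h * x⁻¹ * x := by group
      _ = h * x := by rw [this]

/-- the upper central series of the ambient group meets a subgroup inside the subgroup's series -/
theorem mem_upperCentralSeries_subgroup {G : Type*} [Group G] (H : Subgroup G) :
    ∀ (n : ℕ) (y : H), (y : G) ∈ Subgroup.upperCentralSeries G n →
      y ∈ Subgroup.upperCentralSeries H n := by
  intro n
  induction n with
  | zero =>
    intro y hy
    rw [Subgroup.upperCentralSeries_zero, Subgroup.mem_bot] at hy ⊢
    exact Subtype.ext hy
  | succ n ih =>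
    intro y hy
    rw [Subgroup.mem_upperCentralSeries_succ_iff] at hy ⊢
    intro w
    exact ih _ (hy w)

theorem backward {G : Type*} [Group G] (g x : G) (hg : g ∈ ⨆ n : ℕ, Subgroup.upperCentralSeries G n) :
    Group.IsNilpotent ↥(Subgroup.closure ({x, g} : Set G)) := by
  rw [Subgroup.mem_iSup_of_directed (Monotone.directed_le (Subgroup.upperCentralSeries_mono _))] at hg
  obtain ⟨n, hn⟩ := hg
  set H : Subgroup G := Subgroup.closure ({x, g} : Set G) with hH
  have hxH : x ∈ H := Subgroup.subset_closure (by simp)
  have hgH : g ∈ H := Subgroup.subset_closure (by simp)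
  have hgZ : (⟨g, hgH⟩ : H) ∈ Subgroup.upperCentralSeries H n :=
    mem_upperCentralSeries_subgroup H n ⟨g, hgH⟩ hn
  set Z : Subgroup H := Subgroup.upperCentralSeries H n with hZ
  have key : ∀ y : H, QuotientGroup.mk' Z y ∈ Subgroup.zpowers (QuotientGroup.mk' Z ⟨x, hxH⟩) := by
    intro y
    have e : Subgroup.closure (((↑) : H → G) ⁻¹' ({x, g} : Set G)) = ⊤ :=
      Subgroup.closure_closure_coe_preimage
    have hy : y ∈ Subgroup.closure (((↑) : H → G) ⁻¹' ({x, g} : Set G)) := by
      rw [e]
      exact Subgroup.mem_top y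
    induction hy using Subgroup.closure_induction with
    | mem y hy =>
      rcases hy with hy | hy
      · have : y = ⟨x, hxH⟩ := Subtype.ext hy
        rw [this]
        exact Subgroup.mem_zpowers _
      · have : y = ⟨g, hgH⟩ := Subtype.ext hy
        rw [this]
        have h1 : QuotientGroup.mk' Z ⟨g, hgH⟩ = 1 := by
          rw [QuotientGroup.mk'_apply, QuotientGroup.eq_one_iff]
          exact hgZ
        rw [h1]
        exact Subgroup.one_mem _
    | one => rw [map_one]; exact Subgroup.one_mem _
    | mul a b _ _ iha ihb => rw [map_mul]; exact Subgroup.mul_mem _ iha ihb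
    | inv a _ iha => rw [map_inv]; exact Subgroup.inv_mem _ iha
  refine ⟨⟨n + 1, ?_⟩⟩
  rw [eq_top_iff]
  intro y _
  rw [Subgroup.mem_upperCentralSeries_succ_iff]
  intro w
  obtain ⟨i, hi⟩ := Subgroup.mem_zpowers_iff.mp (key y)
  obtain ⟨j, hj⟩ := Subgroup.mem_zpowers_iff.mp (key w)
  rw [← hZ, ← QuotientGroup.eq_one_iff, ← QuotientGroup.mk'_apply, commutatorElement_def,
    map_mul, map_mul, map_mul, map_inv, map_inv, ← hi, ← hj]
  have : Commute (QuotientGroup.mk' Z ⟨x, hxH⟩ ^ i) (QuotientGroup.mk' Z ⟨x, hxH⟩ ^ j) :=
    (Commute.refl _).zpow_zpow i j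
  rw [this.eq]
  group

/-- the key step: a group with trivial centre has no nontrivial element `g` with all `⟨x, g⟩`
nilpotent -/
theorem eq_one_of_center_eq_bot {G : Type*} [Group G] [Finite G] (hZ : Subgroup.center G = ⊥) (g : G)
    (hg : ∀ x : G, Group.IsNilpotent ↥(Subgroup.closure ({x, g} : Set G))) : g = 1 := by
  classical
  by_contra hg1
  have hord : orderOf g ≠ 1 := fun h => hg1 (orderOf_eq_one_iff.mp h)
  obtain ⟨p, hp, hpd⟩ := Nat.exists_prime_and_dvd hord
  have : Fact p.Prime := ⟨hp⟩
  set h : G := g ^ (orderOf g / p) with hh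
  have hordh : orderOf h = p := orderOf_pow_orderOf_div (orderOf_pos g).ne' hpd
  have hh1 : h ≠ 1 := by
    intro h1
    rw [h1, orderOf_one] at hordh
    exact hp.one_lt.ne hordh
  -- `h` commutes with every element of order prime to `p`
  have hcomm : ∀ x : G, (orderOf x).Coprime p → x * h = h * x := by
    intro x hx
    have := hg x
    set K : Subgroup G := Subgroup.closure ({x, g} : Set G) with hK
    have hxK : x ∈ K := Subgroup.subset_closure (by simp)
    have hgK : g ∈ K := Subgroup.subset_closure (by simp)
    have hhK : h ∈ K := Subgroup.pow_mem _ hgK _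
    have := commute_of_coprime_of_nilpotent K ⟨x, hxK⟩ ⟨h, hhK⟩ (by
      rw [Subgroup.orderOf_mk, Subgroup.orderOf_mk, hordh]
      exact hx)
    exact congrArg Subtype.val this
  -- the normal subgroup generated by the elements of order prime to p
  set R : Subgroup G := Subgroup.normalClosure {x : G | (orderOf x).Coprime p} with hR
  have hRc : R ≤ Subgroup.centralizer {h} := by
    rw [hR, Subgroup.normalClosure, Subgroup.closure_le]
    intro y hy
    rw [Group.mem_conjugatesOfSet_iff] at hy
    obtain ⟨x, hx, hxy⟩ := hy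
    obtain ⟨c, rfl⟩ := isConj_iff.mp hxy
    rw [SetLike.mem_coe, Subgroup.mem_centralizer_iff]
    intro k hk
    rw [Set.mem_singleton_iff] at hk
    rw [hk]
    have : (orderOf (c * x * c⁻¹)).Coprime p := by
      have e : orderOf (c * x * c⁻¹) = orderOf x := (MulAut.conj c).orderOf_eq x
      rw [e]
      exact hx
    exact (hcomm _ this).symm
  have hhR : ∀ r ∈ R, r * h = h * r := by
    intro r hr
    have := hRc hr
    rw [Subgroup.mem_centralizer_iff] at this
    exact (this h rfl).symm
  -- the quotient by R is a p-group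
  have hpow : ∀ y : G, ∃ k : ℕ, y ^ p ^ k ∈ R := by
    intro y
    obtain ⟨k, m, hm, hkm⟩ := Nat.exists_eq_pow_mul_and_not_dvd (orderOf_pos y).ne' p hp.ne_one
    refine ⟨k, Subgroup.subset_normalClosure ?_⟩
    show (orderOf (y ^ p ^ k)).Coprime p
    have hdvd : p ^ k ∣ orderOf y := ⟨m, hkm⟩
    rw [orderOf_pow_of_dvd (pow_ne_zero k hp.ne_zero) hdvd, hkm,
      Nat.mul_div_cancel_left m (pow_pos hp.pos k)]
    exact ((Nat.Prime.coprime_iff_not_dvd hp).mpr hm).symm
  have hQp : IsPGroup p (G ⧸ R) := by
    intro y
    obtain ⟨y, rfl⟩ := QuotientGroup.mk_surjective y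
    obtain ⟨k, hk⟩ := hpow y
    refine ⟨k, ?_⟩
    rw [← QuotientGroup.mk_pow, QuotientGroup.eq_one_iff]
    exact hk
  obtain ⟨n, hn⟩ := IsPGroup.iff_card.mp hQp
  -- a Sylow p-subgroup containing h
  have hhp : IsPGroup p (Subgroup.zpowers h) := by
    rw [IsPGroup.iff_card]
    exact ⟨1, by rw [Nat.card_zpowers, hordh, pow_one]⟩
  obtain ⟨P, hP⟩ := hhp.exists_le_sylow
  have hhP : h ∈ (P : Subgroup G) := hP (Subgroup.mem_zpowers h)
  have htop : (P : Subgroup G) ⊔ R = ⊤ := by
    rw [← Subgroup.index_eq_one]
    have d1 : ((P : Subgroup G) ⊔ R).index ∣ p ^ n := by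
      rw [← hn, ← Subgroup.index_eq_card]
      exact Subgroup.index_dvd_of_le le_sup_right
    have d2 : ((P : Subgroup G) ⊔ R).index ∣ (P : Subgroup G).index :=
      Subgroup.index_dvd_of_le le_sup_left
    obtain ⟨j, -, hj⟩ := (Nat.dvd_prime_pow hp).mp d1
    rcases Nat.eq_zero_or_pos j with h0 | hpos
    · rw [hj, h0, pow_zero]
    · exfalso
      apply P.not_dvd_index
      refine dvd_trans ?_ d2
      rw [hj]
      exact dvd_pow_self p hpos.ne'
  -- a central element of P centralizing R
  set M : Subgroup P := (Subgroup.centralizer (R : Set G)).subgroupOf P with hM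
  have hMn : M.Normal := by
    constructor
    intro c hc u
    rw [hM, Subgroup.mem_subgroupOf] at hc ⊢
    rw [Subgroup.mem_centralizer_iff] at hc ⊢
    intro r hr
    have hr' : (u : G)⁻¹ * r * (u : G) ∈ R := by
      have := (inferInstance : R.Normal).conj_mem r hr (u : G)⁻¹
      rwa [inv_inv] at this
    have := hc _ hr'
    show r * ((u : G) * (c : G) * (u : G)⁻¹) = (u : G) * (c : G) * (u : G)⁻¹ * r
    calc r * ((u : G) * (c : G) * (u : G)⁻¹)
        = (u : G) * (((u : G)⁻¹ * r * (u : G)) * (c : G)) * (u : G)⁻¹ := by group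
      _ = (u : G) * ((c : G) * ((u : G)⁻¹ * r * (u : G))) * (u : G)⁻¹ := by rw [this]
      _ = (u : G) * (c : G) * (u : G)⁻¹ * r := by group
  have hMne : M ≠ ⊥ := by
    intro hb
    have : (⟨h, hhP⟩ : P) ∈ M := by
      rw [hM, Subgroup.mem_subgroupOf, Subgroup.mem_centralizer_iff]
      intro r hr
      exact hhR r hr
    rw [hb, Subgroup.mem_bot] at this
    exact hh1 (congrArg Subtype.val this)
  obtain ⟨z, hzM, hzc, hz1, -⟩ := exists_central_of_normal_ne_bot P.isPGroup' M hMne
  have hzcent : (z : G) ∈ Subgroup.center G := by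
    have hle : (P : Subgroup G) ⊔ R ≤ Subgroup.centralizer {(z : G)} := by
      rw [sup_le_iff]
      constructor
      · intro u hu
        rw [Subgroup.mem_centralizer_iff]
        intro k hk
        rw [Set.mem_singleton_iff] at hk
        rw [hk]
        have := Subgroup.mem_center_iff.mp hzc ⟨u, hu⟩
        exact (congrArg Subtype.val this).symm
      · intro r hr
        rw [Subgroup.mem_centralizer_iff]
        intro k hk
        rw [Set.mem_singleton_iff] at hk
        rw [hk]
        rw [hM, Subgroup.mem_subgroupOf, Subgroup.mem_centralizer_iff] at hzM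
        exact (hzM r hr).symm
    rw [htop] at hle
    rw [Subgroup.mem_center_iff]
    intro y
    have := hle (Subgroup.mem_top y)
    rw [Subgroup.mem_centralizer_iff] at this
    exact (this _ rfl).symm
  rw [hZ, Subgroup.mem_bot] at hzcent
  exact hz1 (Subtype.ext hzcent)

theorem forward_aux (n : ℕ) : ∀ (G : Type*) [Group G] [Finite G], Nat.card G = n → ∀ g : G,
    (∀ x : G, Group.IsNilpotent ↥(Subgroup.closure ({x, g} : Set G))) →
    g ∈ ⨆ n : ℕ, Subgroup.upperCentralSeries G n := by
  induction n using Nat.strong_induction_on with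
  | _ n ih =>
    intro G _ _ hcard g hg
    by_cases hZ : Subgroup.center G = ⊥
    · have := eq_one_of_center_eq_bot hZ g hg
      rw [this]
      exact Subgroup.one_mem _
    · -- pass to the quotient by the centre
      have hlt : Nat.card (G ⧸ Subgroup.center G) < n := by
        rw [← hcard, ← Subgroup.index_eq_card]
        have h1 := Subgroup.card_mul_index (Subgroup.center G)
        have h2 : 1 < Nat.card (Subgroup.center G) := by
          rw [Finite.one_lt_card_iff_nontrivial, Subgroup.nontrivial_iff_ne_bot]
          exact hZ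
        have h3 : 0 < (Subgroup.center G).index := Nat.pos_of_ne_zero Subgroup.index_ne_zero_of_finite
        nlinarith
      have hq : ∀ x : G ⧸ Subgroup.center G, Group.IsNilpotent
          ↥(Subgroup.closure ({x, QuotientGroup.mk' (Subgroup.center G) g} :
            Set (G ⧸ Subgroup.center G))) := by
        intro x
        obtain ⟨x, rfl⟩ := QuotientGroup.mk_surjective x
        have := hg x
        have e : Subgroup.closure ({(x : G ⧸ Subgroup.center G),
            QuotientGroup.mk' (Subgroup.center G) g} : Set (G ⧸ Subgroup.center G)) =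
            (Subgroup.closure ({x, g} : Set G)).map (QuotientGroup.mk' (Subgroup.center G)) := by
          rw [MonoidHom.map_closure, Set.image_pair]
          rfl
        rw [e]
        exact Group.nilpotent_of_surjective
          ((QuotientGroup.mk' (Subgroup.center G)).subgroupMap (Subgroup.closure ({x, g} : Set G)))
          (MonoidHom.subgroupMap_surjective _ _)
      have := ih _ hlt (G ⧸ Subgroup.center G) rfl _ hq
      rw [Subgroup.mem_iSup_of_directed (Monotone.directed_le (Subgroup.upperCentralSeries_mono _))]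
        at this ⊢
      obtain ⟨k, hk⟩ := this
      refine ⟨k + 1, ?_⟩
      rw [← Subgroup.comap_upperCentralSeries_quotient_center]
      exact hk

/-- In a finite group G the set of elements g such that the subgroup generated by g and x is nilpotent for every x ∈ G is exactly the hypercenter of G (the last term of the upper central series). -/
theorem result {G : Type*} [Group G] [Finite G] (g : G) :
    (∀ x : G, Group.IsNilpotent ↥(Subgroup.closure ({x, g} : Set G))) ↔ g ∈ ⨆ n : ℕ, Subgroup.upperCentralSeries G n := by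
  constructor
  · intro h
    exact forward_aux _ G rfl g h
  · intro h x
    exact backward g x h

end Cfsg.Agent.S3939
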