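import Cfsg.Statements.S3941
-- import your own Cfsg.Agent.* helpers here

set_option autoImplicit false
open Cfsg

namespace Cfsg.Agent.S3941


open Equiv Equiv.Perm

section Core

variable {α : Type*} [Fintype α] [DecidableEq α]

theorem apply_ne_of_coprime (σ : Perm α) {m k : ℕ} (hm : σ ^ m = 1) (hk : Nat.Coprime k m)
    {a : α} (ha : σ a ≠ a) : (σ ^ k) a ≠ a := by
  intro h
  have h1 : Function.IsPeriodicPt σ k a := by
    show σ^[k] a = a
    rw [Equiv.Perm.iterate_eq_pow]; exact h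
  have h2 : Function.IsPeriodicPt σ m a := by
    show σ^[m] a = a
    rw [Equiv.Perm.iterate_eq_pow, hm]; rfl
  have h3 := h1.gcd h2
  have h4 : Nat.gcd k m = 1 := hk
  rw [h4] at h3
  exact ha h3

theorem swap_lemma1 {a b d : α} (hab : a ≠ b) (had : a ≠ d) (hbd : b ≠ d) :
    swap b d * swap a b * swap a d = swap a b := by
  have h1 : swap b d * swap a b * swap b d = swap d a := swap_mul_swap_mul_swap hab had
  have h2 : swap d a * swap b d * swap d a = swap a b :=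
    swap_mul_swap_mul_swap hbd (Ne.symm hab)
  have h3 : swap b d * swap a b = swap d a * swap b d := by
    rw [← h1, mul_assoc, swap_mul_self, mul_one]
  rw [h3, swap_comm a d, h2]

theorem conj_swap_mul_swap' (g : Perm α) (x x' y y' : α) :
    g * (swap x x' * swap y y') * g⁻¹ = swap (g x) (g x') * swap (g y) (g y') := by
  rw [swap_apply_apply, swap_apply_apply]; group

/-- The permutation-level core: a subgroup `Q` of `p`-elements fixing `x₀`, normalized by all even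
permutations fixing `x₀` and containing all even `p`-elements fixing `x₀`, cannot be nontrivial
(`p` odd, at least four further points). -/
theorem core (p : ℕ) [Fact p.Prime] (hp : p ≠ 2) (Q : Subgroup (Perm α)) (x₀ : α)
    (hfix : ∀ g ∈ Q, g x₀ = x₀) (hpg : ∀ g ∈ Q, ∃ k : ℕ, g ^ (p ^ k) = 1)
    (hnorm : ∀ g ∈ Q, ∀ t : Perm α, sign t = 1 → t x₀ = x₀ → t * g * t⁻¹ ∈ Q)
    (hall : ∀ t : Perm α, sign t = 1 → t x₀ = x₀ → (∃ k : ℕ, t ^ (p ^ k) = 1) → t ∈ Q)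
    (hne : Q ≠ ⊥) (a₁ a₂ a₃ a₄ : α) (h12 : a₁ ≠ a₂) (h13 : a₁ ≠ a₃) (h14 : a₁ ≠ a₄)
    (h23 : a₂ ≠ a₃) (h24 : a₂ ≠ a₄) (h34 : a₃ ≠ a₄) (h1 : a₁ ≠ x₀) (h2 : a₂ ≠ x₀)
    (h3 : a₃ ≠ x₀) (h4 : a₄ ≠ x₀) : False := by
  have hpp : p.Prime := Fact.out
  -- Step 1: `p = 3`
  have hp3 : p = 3 := by
    obtain ⟨⟨σ, hσQ⟩, hσ1⟩ := (Subgroup.ne_bot_iff_exists_ne_one).mp hne
    have hσ1' : σ ≠ 1 := fun h => hσ1 (Subtype.ext h)
    obtain ⟨k, hk⟩ := hpg σ hσQ
    obtain ⟨a, ha⟩ : ∃ a, σ a ≠ a := by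
      by_contra hcon
      push Not at hcon
      exact hσ1' (Equiv.ext hcon)
    have hσx : σ x₀ = x₀ := hfix σ hσQ
    have hab : a ≠ σ a := Ne.symm ha
    have hbd : σ a ≠ σ (σ a) := fun h => hab (σ.injective h)
    have had : a ≠ σ (σ a) := by
      have h2 : (σ ^ 2) a ≠ a := apply_ne_of_coprime σ hk
        (Nat.Coprime.pow_right k ((Nat.coprime_primes Nat.prime_two hpp).mpr (Ne.symm hp))) ha
      intro h
      apply h2
      rw [pow_two, Perm.mul_apply]; exact h.symm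
    by_contra hp3
    have h3 : (σ ^ 3) a ≠ a := apply_ne_of_coprime σ hk
      (Nat.Coprime.pow_right k ((Nat.coprime_primes Nat.prime_three hpp).mpr (Ne.symm hp3))) ha
    have hfa : σ (σ (σ a)) ≠ a := by
      intro h
      apply h3
      rw [pow_succ, pow_two, Perm.mul_apply, Perm.mul_apply]; exact h
    have hfb : σ (σ (σ a)) ≠ σ a := fun h => had (σ.injective h).symm
    have hfd : σ (σ (σ a)) ≠ σ (σ a) := fun h => hbd (σ.injective h).symm
    -- the 3-cycle `t = (a b d)`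
    have hax : a ≠ x₀ := fun h => ha (by rw [h, hσx])
    have hbx : σ a ≠ x₀ := fun h => hbd (by rw [h, hσx])
    have hdx : σ (σ a) ≠ x₀ := fun h => hfd (by rw [h, hσx])
    have htsign : sign (swap a (σ (σ a)) * swap a (σ a)) = 1 := by
      rw [Perm.sign_mul, sign_swap had, sign_swap hab]; rfl
    have htx : (swap a (σ (σ a)) * swap a (σ a)) x₀ = x₀ := by
      rw [Perm.mul_apply, swap_apply_of_ne_of_ne (Ne.symm hax) (Ne.symm hbx),
        swap_apply_of_ne_of_ne (Ne.symm hax) (Ne.symm hdx)]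
    have hmem : σ * ((swap a (σ (σ a)) * swap a (σ a)) * σ⁻¹ *
        (swap a (σ (σ a)) * swap a (σ a))⁻¹) ∈ Q :=
      Q.mul_mem hσQ (hnorm σ⁻¹ (Q.inv_mem hσQ) _ htsign htx)
    have heq : σ * ((swap a (σ (σ a)) * swap a (σ a)) * σ⁻¹ *
        (swap a (σ (σ a)) * swap a (σ a))⁻¹) =
        swap (σ a) (σ (σ (σ a))) * swap (σ a) a := by
      have e1 : σ * ((swap a (σ (σ a)) * swap a (σ a)) * σ⁻¹ *
          (swap a (σ (σ a)) * swap a (σ a))⁻¹) =
          (σ * (swap a (σ (σ a)) * swap a (σ a)) * σ⁻¹) *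
          (swap a (σ (σ a)) * swap a (σ a))⁻¹ := by group
      rw [e1, conj_swap_mul_swap', mul_inv_rev, swap_inv, swap_inv, mul_assoc,
        ← mul_assoc (swap (σ a) (σ (σ a))),
        swap_lemma1 hab had hbd, swap_comm a (σ a)]
    rw [heq] at hmem
    have h3c : IsThreeCycle (swap (σ a) (σ (σ (σ a))) * swap (σ a) a) :=
      isThreeCycle_swap_mul_swap_same (Ne.symm hfb) (Ne.symm hab) hfa
    obtain ⟨k', hk'⟩ := hpg _ hmem
    have hdvd := orderOf_dvd_of_pow_eq_one hk'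
    rw [h3c.orderOf] at hdvd
    exact hp3 ((Nat.prime_dvd_prime_iff_eq Nat.prime_three hpp).mp
      (Nat.prime_three.dvd_of_dvd_pow hdvd)).symm
  -- Step 2: two 3-cycles whose product is an involution
  subst hp3
  have ht1 : IsThreeCycle (swap a₁ a₃ * swap a₁ a₂) :=
    isThreeCycle_swap_mul_swap_same h13 h12 (Ne.symm h23)
  have ht2 : IsThreeCycle (swap a₁ a₄ * swap a₁ a₂) :=
    isThreeCycle_swap_mul_swap_same h14 h12 (Ne.symm h24)
  have hm1 : swap a₁ a₃ * swap a₁ a₂ ∈ Q := by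
    refine hall _ ?_ ?_ ⟨1, ?_⟩
    · rw [Perm.sign_mul, sign_swap h13, sign_swap h12]; rfl
    · rw [Perm.mul_apply, swap_apply_of_ne_of_ne (Ne.symm h1) (Ne.symm h2),
        swap_apply_of_ne_of_ne (Ne.symm h1) (Ne.symm h3)]
    · rw [pow_one, ← ht1.orderOf]; exact pow_orderOf_eq_one _
  have hm2 : swap a₁ a₄ * swap a₁ a₂ ∈ Q := by
    refine hall _ ?_ ?_ ⟨1, ?_⟩
    · rw [Perm.sign_mul, sign_swap h14, sign_swap h12]; rfl
    · rw [Perm.mul_apply, swap_apply_of_ne_of_ne (Ne.symm h1) (Ne.symm h2),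
        swap_apply_of_ne_of_ne (Ne.symm h1) (Ne.symm h4)]
    · rw [pow_one, ← ht2.orderOf]; exact pow_orderOf_eq_one _
  have hprod := Q.mul_mem hm1 hm2
  have heq : swap a₁ a₃ * swap a₁ a₂ * (swap a₁ a₄ * swap a₁ a₂) = swap a₁ a₃ * swap a₂ a₄ := by
    have e1 : swap a₁ a₂ * swap a₄ a₁ * swap a₁ a₂ = swap a₂ a₄ :=
      swap_mul_swap_mul_swap (Ne.symm h14) (Ne.symm h24)
    rw [mul_assoc, ← mul_assoc (swap a₁ a₂), swap_comm a₁ a₄, e1]
  rw [heq] at hprod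
  have hcomm : swap a₂ a₄ * swap a₁ a₃ = swap a₁ a₃ * swap a₂ a₄ :=
    (disjoint_swap_swap (by simp [h24, Ne.symm h12, h23, Ne.symm h14, Ne.symm h34, h13] :
      [a₂, a₄, a₁, a₃].Nodup)).commute.eq
  have hsq : (swap a₁ a₃ * swap a₂ a₄) ^ 2 = 1 := by
    rw [pow_two, mul_assoc, ← mul_assoc (swap a₂ a₄), hcomm, mul_assoc, swap_mul_self, mul_one,
      swap_mul_self]
  have hne1 : swap a₁ a₃ * swap a₂ a₄ ≠ 1 := by
    intro h
    have h5 := congrArg (fun g : Perm α => g a₁) h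
    simp only [Perm.mul_apply, Perm.one_apply] at h5
    rw [swap_apply_of_ne_of_ne h12 h14, swap_apply_left] at h5
    exact h13 h5.symm
  have hord : orderOf (swap a₁ a₃ * swap a₂ a₄) = 2 := orderOf_eq_prime hsq hne1
  obtain ⟨k, hk⟩ := hpg _ hprod
  have hdvd := orderOf_dvd_of_pow_eq_one hk
  rw [hord] at hdvd
  have := (Nat.prime_dvd_prime_iff_eq Nat.prime_two Nat.prime_three).mp
    (Nat.prime_two.dvd_of_dvd_pow hdvd)
  omega

end Core

/-- Let n ≥ 5 and p an odd prime with p ≤ n, and suppose that every proper subgroup of the alternating group of degree n whose order is divisible by p has a normal Sylow p-subgroup. Then n = p. -/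
theorem result (n p : ℕ) (hn : 5 ≤ n) [Fact p.Prime] (hp : p ≠ 2) (hpn : p ≤ n)
    (h : ∀ H : Subgroup ↥(alternatingGroup (Fin n)), H ≠ ⊤ → p ∣ Nat.card ↥H → Cfsg.IsPClosed p ↥H) : n = p := by
  by_contra hne
  have hlt : p < n := lt_of_le_of_ne hpn (Ne.symm hne)
  have hpp : p.Prime := Fact.out
  -- the base point and four further points
  obtain ⟨x₀, hx₀⟩ : ∃ x₀ : Fin n, x₀ = ⟨0, by omega⟩ := ⟨_, rfl⟩
  obtain ⟨b₁, hb₁⟩ : ∃ x : Fin n, x = ⟨1, by omega⟩ := ⟨_, rfl⟩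
  obtain ⟨b₂, hb₂⟩ : ∃ x : Fin n, x = ⟨2, by omega⟩ := ⟨_, rfl⟩
  obtain ⟨b₃, hb₃⟩ : ∃ x : Fin n, x = ⟨3, by omega⟩ := ⟨_, rfl⟩
  obtain ⟨b₄, hb₄⟩ : ∃ x : Fin n, x = ⟨4, by omega⟩ := ⟨_, rfl⟩
  have h01 : b₁ ≠ x₀ := by rw [hx₀, hb₁]; simp [Fin.ext_iff]
  have h02 : b₂ ≠ x₀ := by rw [hx₀, hb₂]; simp [Fin.ext_iff]
  have h03 : b₃ ≠ x₀ := by rw [hx₀, hb₃]; simp [Fin.ext_iff]
  have h04 : b₄ ≠ x₀ := by rw [hx₀, hb₄]; simp [Fin.ext_iff]
  have h12 : b₁ ≠ b₂ := by rw [hb₁, hb₂]; simp [Fin.ext_iff]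
  have h13 : b₁ ≠ b₃ := by rw [hb₁, hb₃]; simp [Fin.ext_iff]
  have h14 : b₁ ≠ b₄ := by rw [hb₁, hb₄]; simp [Fin.ext_iff]
  have h23 : b₂ ≠ b₃ := by rw [hb₂, hb₃]; simp [Fin.ext_iff]
  have h24 : b₂ ≠ b₄ := by rw [hb₂, hb₄]; simp [Fin.ext_iff]
  have h34 : b₃ ≠ b₄ := by rw [hb₃, hb₄]; simp [Fin.ext_iff]
  -- the point stabilizer
  obtain ⟨H, hH⟩ : ∃ H : Subgroup (alternatingGroup (Fin n)),
      H = MulAction.stabilizer (alternatingGroup (Fin n)) x₀ := ⟨_, rfl⟩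
  have hmemH : ∀ (t : Perm (Fin n)) (ht : t ∈ alternatingGroup (Fin n)),
      (⟨t, ht⟩ : alternatingGroup (Fin n)) ∈ H ↔ t x₀ = x₀ := by
    intro t ht
    rw [hH, MulAction.mem_stabilizer_iff]
    rfl
  have hHtop : H ≠ ⊤ := by
    intro htop
    have htA : swap x₀ b₁ * swap x₀ b₂ ∈ alternatingGroup (Fin n) := by
      rw [mem_alternatingGroup, Perm.sign_mul, sign_swap (Ne.symm h01), sign_swap (Ne.symm h02)]
      rfl
    have hmem : (⟨_, htA⟩ : alternatingGroup (Fin n)) ∈ H := by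
      rw [htop]; exact Subgroup.mem_top _
    rw [hmemH] at hmem
    rw [Perm.mul_apply, swap_apply_left, swap_apply_of_ne_of_ne h02 (Ne.symm h12)] at hmem
    exact h02 hmem
  have hdvd : p ∣ Nat.card H := by
    haveI : Nontrivial (Fin n) := Fin.nontrivial_iff_two_le.mpr (by omega)
    haveI : MulAction.IsPreprimitive (alternatingGroup (Fin n)) (Fin n) :=
      alternatingGroup.isPreprimitive_of_three_le_card (Fin n)
        (by rw [Nat.card_eq_fintype_card, Fintype.card_fin]; omega)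
    have h1 := Subgroup.card_mul_index H
    rw [hH, MulAction.index_stabilizer_of_transitive, Nat.card_eq_fintype_card (α := Fin n),
      Fintype.card_fin, ← hH] at h1
    have h2 : 2 * Nat.card (alternatingGroup (Fin n)) = n.factorial := by
      rw [Nat.card_eq_fintype_card, two_mul_card_alternatingGroup, Fintype.card_perm,
        Fintype.card_fin]
    have h3 : n.factorial = n * (n - 1).factorial := by
      obtain ⟨m, rfl⟩ : ∃ m, n = m + 1 := ⟨n - 1, by omega⟩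
      rw [Nat.factorial_succ]; rfl
    have h4 : 2 * Nat.card H = (n - 1).factorial := by
      have h5 : n * (2 * Nat.card H) = n * (n - 1).factorial := by
        rw [← h3, ← h2, ← h1]; ring
      exact Nat.eq_of_mul_eq_mul_left (by omega) h5
    have h6 : p ∣ (n - 1).factorial := (Nat.Prime.dvd_factorial hpp).mpr (by omega)
    rw [← h4] at h6
    rcases (Nat.Prime.dvd_mul hpp).mp h6 with h7 | h7
    · exact absurd ((Nat.prime_dvd_prime_iff_eq hpp Nat.prime_two).mp h7) hp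
    · exact h7
  have hcl := h H hHtop hdvd
  -- the normal Sylow subgroup
  obtain ⟨P⟩ : Nonempty (Sylow p H) := ⟨default⟩
  haveI hPn : (P : Subgroup H).Normal := hcl P
  have hPne := P.ne_bot_of_dvd_card hdvd
  have hallP : ∀ y : H, (∃ k : ℕ, y ^ (p ^ k) = 1) → y ∈ P := by
    rintro y ⟨k, hk⟩
    have hpg : IsPGroup p (Subgroup.zpowers y) := by
      rintro ⟨z, hz⟩
      obtain ⟨j, rfl⟩ := Subgroup.mem_zpowers_iff.mp hz
      refine ⟨k, Subtype.ext ?_⟩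
      simp only [Subgroup.coe_pow, Subgroup.coe_one]
      rw [← zpow_natCast, ← zpow_mul, mul_comm, zpow_mul, zpow_natCast, hk, one_zpow]
    obtain ⟨Q, hQ⟩ := hpg.exists_le_sylow
    obtain ⟨g, hg⟩ := MulAction.exists_smul_eq H P Q
    rw [Sylow.smul_eq_of_normal] at hg
    rw [hg]
    exact hQ (Subgroup.mem_zpowers y)
  -- transfer to permutations
  obtain ⟨φ, hφ⟩ : ∃ φ : H →* Perm (Fin n),
      φ = (alternatingGroup (Fin n)).subtype.comp H.subtype := ⟨_, rfl⟩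
  have hφinj : Function.Injective φ := by
    intro y z hyz
    rw [hφ] at hyz
    exact Subtype.ext (Subtype.ext hyz)
  have hlift : ∀ t : Perm (Fin n), sign t = 1 → t x₀ = x₀ → ∃ y : H, φ y = t := by
    intro t ht htx
    exact ⟨⟨⟨t, ht⟩, (hmemH t ht).mpr htx⟩, by rw [hφ]; rfl⟩
  refine core p hp ((P : Subgroup H).map φ) x₀ ?_ ?_ ?_ ?_ ?_ b₁ b₂ b₃ b₄ h12 h13 h14 h23 h24 h34
    h01 h02 h03 h04
  · rintro _ ⟨y, -, rfl⟩
    rw [hφ]
    exact (hmemH _ y.1.2).mp y.2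
  · rintro _ ⟨y, hy, rfl⟩
    obtain ⟨k, hk⟩ := P.isPGroup' ⟨y, hy⟩
    refine ⟨k, ?_⟩
    rw [← map_pow]
    have : y ^ p ^ k = 1 := congrArg Subtype.val hk
    rw [this, map_one]
  · rintro _ ⟨y, hy, rfl⟩ t ht htx
    obtain ⟨z, rfl⟩ := hlift t ht htx
    exact ⟨z * y * z⁻¹, hPn.conj_mem y hy z, by simp⟩
  · rintro t ht htx ⟨k, hk⟩
    obtain ⟨z, rfl⟩ := hlift t ht htx
    refine ⟨z, hallP z ⟨k, hφinj ?_⟩, rfl⟩
    rw [map_pow, hk, map_one]
  · intro hbot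
    apply hPne
    rw [eq_bot_iff]
    intro y hy
    have h1 : φ y ∈ (P : Subgroup H).map φ := ⟨y, hy, rfl⟩
    rw [hbot, Subgroup.mem_bot] at h1
    rw [Subgroup.mem_bot]
    exact hφinj (h1.trans (map_one φ).symm)

end Cfsg.Agent.S3941
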