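import Cfsg.Statements.S3949
import Mathlib
-- import your own Cfsg.Agent.* helpers here

set_option autoImplicit false
open Cfsg

namespace Cfsg.Agent.S3949

theorem alpha_sq {G : Type*} [Group G] (α : MulAut G) (hα : orderOf α = 2) (c : G) : α (α c) = c := by
  have h : α ^ 2 = 1 := by rw [← hα]; exact pow_orderOf_eq_one α
  have h2 : (α ^ 2) c = c := by rw [h]; rfl
  simpa [pow_two] using h2

theorem f_inverted {G : Type*} [Group G] (α : MulAut G) (hα : orderOf α = 2) (c : G) :
    α (c * (α c)⁻¹) = (c * (α c)⁻¹)⁻¹ := by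
  rw [map_mul, map_inv, alpha_sq α hα]
  group

theorem iter_eq_pow {G : Type*} [Group G] (α : MulAut G) (k : ℕ) :
    ∀ x : G, α x = x⁻¹ → (fun c : G => c * (α c)⁻¹)^[k] x = x ^ (2 ^ k) := by
  induction k with
  | zero => intro x _; simp
  | succ k ih =>
    intro x hx
    rw [Function.iterate_succ_apply]
    have h1 : x * (α x)⁻¹ = x ^ 2 := by rw [hx, inv_inv, pow_two]
    have h2 : α (x ^ 2) = (x ^ 2)⁻¹ := by rw [map_pow, hx, inv_pow]
    show (fun c : G => c * (α c)⁻¹)^[k] (x * (α x)⁻¹) = x ^ (2 ^ (k + 1))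
    rw [h1, ih _ h2, ← pow_mul, pow_succ, mul_comm]

/-- Let G be a finite group and α an automorphism of G of order 2 such that the elements g·α(g)⁻¹ generate G. Let j be a positive integer such that 2^j divides the order of no element inverted by α. Then the set of values of the j-th iterate of the map c ↦ c·α(c)⁻¹ is exactly the set of elements of odd order inverted by α. -/
theorem result {G : Type*} [Group G] [Finite G] (α : MulAut G) (hα : orderOf α = 2) (hG : Subgroup.closure (Set.range (fun c : G => c * (α c)⁻¹)) = ⊤)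
    (j : ℕ) (hj : ∀ g : G, α g = g⁻¹ → ¬ 2 ^ j ∣ orderOf g) :
    Set.range ((fun c : G => c * (α c)⁻¹)^[j]) = {g : G | Odd (orderOf g) ∧ α g = g⁻¹} := by
  have hj0 : j ≠ 0 := by
    intro h0
    apply hj 1 (by simp)
    rw [h0]; simp
  obtain ⟨k, rfl⟩ : ∃ k, j = k + 1 := Nat.exists_eq_succ_of_ne_zero hj0
  ext y
  simp only [Set.mem_range, Set.mem_setOf_eq]
  constructor
  · rintro ⟨c, rfl⟩
    rw [Function.iterate_succ_apply]
    set x := c * (α c)⁻¹ with hx
    have hxinv : α x = x⁻¹ := f_inverted α hα c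
    rw [iter_eq_pow α k x hxinv]
    refine ⟨?_, by rw [map_pow, hxinv, inv_pow]⟩
    have hpos : 0 < orderOf x := orderOf_pos x
    obtain ⟨i, m, hm, ho⟩ := Nat.exists_eq_two_pow_mul_odd (Nat.pos_iff_ne_zero.mp hpos)
    have hi : i ≤ k := by
      by_contra hcon
      push_neg at hcon
      apply hj x hxinv
      rw [ho]
      exact Dvd.dvd.mul_right (pow_dvd_pow 2 hcon) m
    have hdvd : orderOf (x ^ (2 ^ k)) ∣ m := by
      apply orderOf_dvd_of_pow_eq_one
      rw [← pow_mul]
      obtain ⟨d, rfl⟩ := Nat.exists_eq_add_of_le hi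
      have : 2 ^ (i + d) * m = orderOf x * 2 ^ d := by rw [ho, pow_add]; ring
      rw [this, pow_mul, pow_orderOf_eq_one, one_pow]
    exact Odd.of_dvd_nat hm hdvd
  · rintro ⟨hodd, hinv⟩
    have hcop : (2 ^ (k + 1)).Coprime (orderOf y) := by
      apply Nat.Coprime.pow_left
      exact (Nat.coprime_two_left).mpr hodd
    obtain ⟨m, hm⟩ := exists_pow_eq_self_of_coprime hcop
    refine ⟨y ^ m, ?_⟩
    have hinv' : α (y ^ m) = (y ^ m)⁻¹ := by rw [map_pow, hinv, inv_pow]
    rw [iter_eq_pow α (k + 1) _ hinv', ← pow_mul, mul_comm, pow_mul, hm]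

end Cfsg.Agent.S3949
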