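import Cfsg.Statements.S3950
import Mathlib
import Cfsg.Agent.Lib.helper69.TwExt
import Cfsg.Agent.Lib.helper69.Central

set_option autoImplicit false
open Cfsg

namespace Cfsg.Agent.S3950

open Cfsg.Agent.Lib.helper69 in
/-- A product of cyclic groups of pairwise coprime orders is cyclic. -/
theorem isCyclic_of_equiv_pi_coprime {G : Type*} [CommGroup G] {ι : Type} [Fintype ι] (n : ι → ℕ)
    (e : G ≃* ((i : ι) → Multiplicative (ZMod (n i))))
    (hcop : Pairwise (Function.onFun Nat.Coprime n)) : IsCyclic G := by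
  let r := ZMod.prodEquivPi n hcop
  let F : Multiplicative (ZMod (∏ i, n i)) →* ((i : ι) → Multiplicative (ZMod (n i))) :=
    { toFun := fun x i => Multiplicative.ofAdd (r (Multiplicative.toAdd x) i)
      map_one' := by
        funext i
        show Multiplicative.ofAdd (r 0 i) = 1
        rw [map_zero]; rfl
      map_mul' := by
        intro x y
        funext i
        show Multiplicative.ofAdd (r (Multiplicative.toAdd x + Multiplicative.toAdd y) i) =
          Multiplicative.ofAdd (r (Multiplicative.toAdd x) i) * Multiplicative.ofAdd (r (Multiplicative.toAdd y) i)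
        rw [map_add]; rfl }
  have hF : Function.Surjective (e.symm.toMonoidHom.comp F) := by
    intro g
    refine ⟨Multiplicative.ofAdd (r.symm (fun i => Multiplicative.toAdd (e g i))), ?_⟩
    show e.symm (F _) = g
    rw [MulEquiv.symm_apply_eq]
    funext i
    show Multiplicative.ofAdd (r (r.symm (fun i => Multiplicative.toAdd (e g i))) i) = e g i
    rw [RingEquiv.apply_symm_apply]; rfl
  exact isCyclic_of_surjective _ hF


/-- A finite abelian group has trivial Schur multiplier if and only if it is cyclic. -/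
theorem result {G : Type*} [CommGroup G] [Finite G] : Cfsg.HasCyclicSchurMultiplier G 1 ↔ IsCyclic G := by
  constructor
  · intro h
    by_contra hnc
    obtain ⟨ι, _, n, hn, ⟨e⟩⟩ := CommGroup.equiv_prod_multiplicative_zmod_of_finite G
    by_cases hcop : Pairwise (Function.onFun Nat.Coprime n)
    · exact hnc (isCyclic_of_equiv_pi_coprime n e hcop)
    · rw [Pairwise] at hcop
      simp only [not_forall] at hcop
      obtain ⟨i, j, hij, hnc'⟩ := hcop
      obtain ⟨p, hp, hpi, hpj⟩ := Nat.Prime.not_coprime_iff_dvd.mp hnc'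
      haveI : Fact p.Prime := ⟨hp⟩
      classical
      let π₁ : G →* Multiplicative (ZMod p) :=
        (AddMonoidHom.toMultiplicative (ZMod.castHom hpi (ZMod p)).toAddMonoidHom).comp
          ((Pi.evalMonoidHom (fun i => Multiplicative (ZMod (n i))) i).comp e.toMonoidHom)
      let π₂ : G →* Multiplicative (ZMod p) :=
        (AddMonoidHom.toMultiplicative (ZMod.castHom hpj (ZMod p)).toAddMonoidHom).comp
          ((Pi.evalMonoidHom (fun i => Multiplicative (ZMod (n i))) j).comp e.toMonoidHom)
      have hπ₁ : ∀ g : G, Multiplicative.toAdd (π₁ g) =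
          ZMod.castHom hpi (ZMod p) (Multiplicative.toAdd (e g i)) := fun g => rfl
      have hπ₂ : ∀ g : G, Multiplicative.toAdd (π₂ g) =
          ZMod.castHom hpj (ZMod p) (Multiplicative.toAdd (e g j)) := fun g => rfl
      have hstem : Cfsg.IsStemExtension (Cfsg.Agent.Lib.helper69.TwExt.proj π₁ π₂) := by
        apply Cfsg.Agent.Lib.helper69.TwExt.isStemExtension_proj π₁ π₂ (fun a b => mul_comm a b)
        intro c
        refine ⟨e.symm (Pi.mulSingle i (Multiplicative.ofAdd 1)),
          e.symm (Pi.mulSingle j (Multiplicative.ofAdd (c.val : ZMod (n j)))), ?_⟩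
        rw [hπ₁, hπ₁, hπ₂, hπ₂, MulEquiv.apply_symm_apply, MulEquiv.apply_symm_apply,
          Pi.mulSingle_eq_same, Pi.mulSingle_eq_same, Pi.mulSingle_eq_of_ne hij]
        show ZMod.castHom hpi (ZMod p) 1 * ZMod.castHom hpj (ZMod p) (c.val : ZMod (n j)) -
          ZMod.castHom hpi (ZMod p) 0 * _ = c
        rw [map_one, map_zero, map_natCast, ZMod.natCast_zmod_val]; ring
      have hker := Cfsg.Agent.Lib.helper69.ker_eq_bot_of_hasCyclicSchurMultiplier_one h
        (Cfsg.Agent.Lib.helper69.TwExt π₁ π₂) (Cfsg.Agent.Lib.helper69.TwExt.proj π₁ π₂) hstem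
      have hmem : (⟨1, 1⟩ : Cfsg.Agent.Lib.helper69.TwExt π₁ π₂) ∈
          (Cfsg.Agent.Lib.helper69.TwExt.proj π₁ π₂).ker :=
        (Cfsg.Agent.Lib.helper69.TwExt.mem_ker_proj π₁ π₂ _).mpr rfl
      rw [hker, Subgroup.mem_bot] at hmem
      have h10 : (1 : ZMod p) = 0 := congrArg Cfsg.Agent.Lib.helper69.TwExt.c hmem
      exact one_ne_zero h10
  · intro hc
    apply Cfsg.Agent.Lib.helper69.hasCyclicSchurMultiplier_one_of_forall_ker_eq_bot
    intro Γ _ _ σ hσ
    obtain ⟨hsurj, hcent, hcomm⟩ := hσ
    have hab : ∀ a b : Γ, a * b = b * a := commutative_of_cyclic_center_quotient σ hcent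
    have hbot : commutator Γ = ⊥ := by
      rw [commutator_eq_bot_iff_center_eq_top, eq_top_iff]
      intro z _
      rw [Subgroup.mem_center_iff]
      intro g
      exact hab g z
    rw [hbot] at hcomm
    exact le_bot_iff.mp hcomm

end Cfsg.Agent.S3950
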