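import Cfsg.Statements.S3951
import Mathlib
import Cfsg.Agent.Lib.helper69.TwExt

set_option autoImplicit false
open Cfsg

namespace Cfsg.Agent.S3951

/-- For positive integers `m` and `n` with `n` dividing `m`, the Schur multiplier of the abelian group `ZMod m × ZMod n` (written multiplicatively) is cyclic of order `n`. In particular the elementary abelian group of order `p ^ 2` has multiplier of order `p`. -/
theorem result (m n : ℕ) [NeZero m] [NeZero n] (hnm : n ∣ m) : Cfsg.HasCyclicSchurMultiplier (Multiplicative (ZMod m × ZMod n)) n := by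
  let π₁ : Multiplicative (ZMod m × ZMod n) →* Multiplicative (ZMod n) :=
    AddMonoidHom.toMultiplicative
      ((ZMod.castHom hnm (ZMod n)).toAddMonoidHom.comp (AddMonoidHom.fst (ZMod m) (ZMod n)))
  let π₂ : Multiplicative (ZMod m × ZMod n) →* Multiplicative (ZMod n) :=
    AddMonoidHom.toMultiplicative (AddMonoidHom.snd (ZMod m) (ZMod n))
  have hcomm : ∀ a b : Multiplicative (ZMod m × ZMod n), a * b = b * a := fun a b => mul_comm a b
  refine ⟨⟨Cfsg.Agent.Lib.helper69.TwExt π₁ π₂, inferInstance, inferInstance,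
    Cfsg.Agent.Lib.helper69.TwExt.proj π₁ π₂, ?_, ⟨Cfsg.Agent.Lib.helper69.TwExt.kerEquiv π₁ π₂⟩⟩, ?_⟩
  · apply Cfsg.Agent.Lib.helper69.TwExt.isStemExtension_proj π₁ π₂ hcomm
    intro c
    refine ⟨Multiplicative.ofAdd (1, 0), Multiplicative.ofAdd (0, c), ?_⟩
    show (ZMod.castHom hnm (ZMod n)) 1 * c - (ZMod.castHom hnm (ZMod n)) 0 * 0 = c
    rw [map_one, map_zero]; ring
  · intro Γ _ _ σ hσ
    apply Cfsg.Agent.Lib.helper69.exists_surjective_ker_of_two_gen σ hσ hcomm
      (Multiplicative.ofAdd ((1 : ZMod m), (0 : ZMod n))) (Multiplicative.ofAdd ((0 : ZMod m), (1 : ZMod n)))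
    · intro g
      refine ⟨((Multiplicative.toAdd g).1.val : ℤ), ((Multiplicative.toAdd g).2.val : ℤ), ?_⟩
      rw [zpow_natCast, zpow_natCast, ← ofAdd_nsmul, ← ofAdd_nsmul, ← ofAdd_add]
      apply Multiplicative.toAdd.injective
      show Multiplicative.toAdd g = _
      apply Prod.ext
      · simp
      · simp
    · rw [← ofAdd_nsmul]
      show Multiplicative.ofAdd (n • ((0 : ZMod m), (1 : ZMod n))) = Multiplicative.ofAdd 0
      congr 1
      apply Prod.ext
      · simp
      · simp

end Cfsg.Agent.S3951
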