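import Cfsg.Statements.S3953
import Mathlib
import Cfsg.Agent.Lib.helper69.MultTr
import Cfsg.Agent.Lib.helper69.MultTransfer


set_option autoImplicit false
open Cfsg

namespace Cfsg.Agent.S3953


open Cfsg.Agent.Lib.helper69



/-- Let `P` be a Sylow `p`-subgroup of the finite group `G`, let `A` be the Schur multiplier of `G` and `B` that of `P`. Then the `p`-primary component of `A` is isomorphic to a direct factor of `B`: there are subgroups `C` and `D` of `B` meeting trivially and generating `B`, with `C` isomorphic to the `p`-primary component of `A`. -/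
theorem result {G : Type*} [Group G] [Finite G] (p : ℕ) [Fact p.Prime] (P : Sylow p G) {A B : Type*} [CommGroup A] [CommGroup B] (hA : Cfsg.HasSchurMultiplier G A) (hB : Cfsg.HasSchurMultiplier P B) : ∃ C D : Subgroup B, C ⊓ D = ⊥ ∧ C ⊔ D = ⊤ ∧ Nonempty (CommGroup.primaryComponent A p ≃* C) := by
  classical
  have hp : p.Prime := Fact.out
  obtain ⟨eA⟩ := mulEquiv_mult_of_hasSchurMultiplier hA
  obtain ⟨eB⟩ := mulEquiv_mult_of_hasSchurMultiplier hB
  obtain ⟨tr, cor, h⟩ := exists_tr_cor G (P : Subgroup G)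
  obtain ⟨n, hn⟩ : ∃ n : ℕ, n = (P : Subgroup G).index := ⟨_, rfl⟩
  rw [← hn] at h
  have hcop : ∀ k : ℕ, Nat.Coprime n (p ^ k) := by
    intro k
    apply Nat.Coprime.pow_right
    rw [Nat.coprime_comm, Nat.Prime.coprime_iff_not_dvd hp, hn]
    exact P.not_dvd_index
  let tr' : A →* B := eB.symm.toMonoidHom.comp (tr.comp eA.toMonoidHom)
  let cor' : B →* A := eA.symm.toMonoidHom.comp (cor.comp eB.toMonoidHom)
  have hct : ∀ a : A, cor' (tr' a) = a ^ n := by
    intro a
    show eA.symm (cor (eB (eB.symm (tr (eA a))))) = a ^ n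
    rw [MulEquiv.apply_symm_apply, h, map_pow, MulEquiv.symm_apply_apply]
  -- `B` is a `p`-group
  have hBp : ∀ b : B, ∃ k : ℕ, b ^ p ^ k = 1 := by
    obtain ⟨⟨Γ, _, _, σ, ⟨hsurj, hcen, hder⟩, ⟨iso⟩⟩, -⟩ := hB
    obtain ⟨k, hk⟩ := (IsPGroup.iff_card.mp P.isPGroup')
    have hidx : σ.ker.index = p ^ k := by
      rw [Subgroup.index_ker, MonoidHom.range_eq_top.mpr hsurj, Subgroup.card_top]
      exact hk
    have hdvd : (Subgroup.center Γ).index ∣ p ^ k := by
      rw [← hidx]; exact Subgroup.index_dvd_of_le hcen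
    obtain ⟨j, -, hj⟩ := (Nat.dvd_prime_pow hp).mp hdvd
    intro b
    refine ⟨j, ?_⟩
    obtain ⟨z, rfl⟩ := iso.surjective b
    rw [← map_pow]
    have hz1 : (z : Γ) ^ p ^ j = 1 := by
      obtain ⟨hmem, hc⟩ := pow_index_mem_commutator_of_mem_center (Subgroup.center Γ) (z : Γ)
        (hcen z.2) (hder z.2)
      have hbot : commutator (Subgroup.center Γ) = ⊥ := by
        rw [eq_bot_iff, commutator_def, Subgroup.commutator_le]
        intro a _ b _
        rw [Subgroup.mem_bot, commutatorElement_eq_one_iff_commute]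
        exact Subtype.ext (Subgroup.mem_center_iff.mp b.2 (a : Γ))
      rw [hbot, Subgroup.mem_bot] at hc
      have h1 := congrArg (fun x : Subgroup.center Γ => (x : Γ)) hc
      rw [← hj]
      exact h1
    have hz2 : z ^ p ^ j = 1 := Subtype.ext hz1
    rw [hz2, map_one]
  -- the `n`-th power map is injective on `p`-elements
  have hpow : ∀ a : A, (∃ k : ℕ, a ^ p ^ k = 1) → a ^ n = 1 → a = 1 := by
    rintro a ⟨k, hk⟩ han
    have h1 : orderOf a ∣ Nat.gcd n (p ^ k) :=
      Nat.dvd_gcd (orderOf_dvd_of_pow_eq_one han) (orderOf_dvd_of_pow_eq_one hk)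
    rw [(hcop k), Nat.dvd_one, orderOf_eq_one_iff] at h1
    exact h1
  let f : ↥(CommGroup.primaryComponent A p) →* B := tr'.comp (Subgroup.subtype _)
  have hinj : Function.Injective f := by
    rw [injective_iff_map_eq_one]
    intro a ha
    have h1 : cor' (tr' (a : A)) = 1 := by
      have : tr' (a : A) = 1 := ha
      rw [this, map_one]
    rw [hct] at h1
    exact Subtype.ext (hpow (a : A) a.2 h1)
  refine ⟨f.range, cor'.ker, ?_, ?_, ⟨MonoidHom.ofInjective hinj⟩⟩
  · rw [eq_bot_iff]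
    rintro b ⟨⟨a, rfl⟩, hb⟩
    have h1 : cor' (tr' (a : A)) = 1 := MonoidHom.mem_ker.mp hb
    rw [hct] at h1
    have h2 : (a : A) = 1 := hpow (a : A) a.2 h1
    have h3 : a = 1 := Subtype.ext h2
    rw [h3, map_one]
    exact Subgroup.mem_bot.mpr rfl
  · rw [eq_top_iff]
    intro b _
    obtain ⟨k, hk⟩ := hBp b
    have ha₀ : (cor' b) ^ p ^ k = 1 := by rw [← map_pow, hk, map_one]
    -- an `n`-th root of `cor' b`
    obtain ⟨m, hm⟩ : ∃ m : ℕ, (cor' b) ^ (n * m) = cor' b := by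
      rcases Nat.lt_or_ge 1 (p ^ k) with h1 | h1
      · obtain ⟨m, -, hm⟩ := Nat.exists_mul_mod_eq_one_of_coprime (hcop k) h1
        refine ⟨m, ?_⟩
        rw [← Nat.mod_add_div (n * m) (p ^ k), hm, pow_add, pow_mul, ha₀, one_pow, mul_one,
          pow_one]
      · have h2 : p ^ k = 1 := le_antisymm h1 (Nat.one_le_pow _ _ hp.pos)
        rw [h2, pow_one] at ha₀
        exact ⟨0, by rw [ha₀, one_pow]⟩
    have hmem : (cor' b) ^ m ∈ CommGroup.primaryComponent A p :=
      ⟨k, by rw [← pow_mul, mul_comm, pow_mul, ha₀, one_pow]⟩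
    rw [Subgroup.mem_sup]
    refine ⟨f ⟨(cor' b) ^ m, hmem⟩, ⟨_, rfl⟩, (f ⟨(cor' b) ^ m, hmem⟩)⁻¹ * b, ?_, ?_⟩
    · rw [MonoidHom.mem_ker, map_mul, map_inv]
      have h1 : cor' (f ⟨(cor' b) ^ m, hmem⟩) = cor' (tr' ((cor' b) ^ m)) := rfl
      rw [h1, hct, ← pow_mul, mul_comm m n, hm, inv_mul_cancel]
    · rw [mul_inv_cancel_left]

end Cfsg.Agent.S3953
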