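import Cfsg.Statements.S3960
import Mathlib
import Cfsg.Agent.Lib.helper69.Central
-- import your own Cfsg.Agent.* helpers here

set_option autoImplicit false
universe u
open Cfsg

namespace Cfsg.Agent.S3960

open scoped commutatorElement

/-- If `p : P →* G` is onto a perfect group, every element of `P` agrees under `p` with a member of the commutator subgroup. -/
theorem exists_commutator_lift {P G : Type*} [Group P] [Group G] (p : P →* G) (hp : Function.Surjective p)
    (hG : Group.IsPerfect G) (g : G) : ∃ c ∈ commutator P, p c = g := by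
  have h1 : g ∈ (commutator P).map p := by
    rw [commutator_def, Subgroup.map_commutator, ← MonoidHom.range_eq_map,
      MonoidHom.range_eq_top_of_surjective p hp, ← commutator_def, hG.commutator_eq_top]
    exact Subgroup.mem_top _
  exact h1

/-- The commutator subgroup of a central extension of a perfect group is perfect. -/
theorem isPerfect_commutator_of_central_ext {P G : Type*} [Group P] [Group G] (p : P →* G)
    (hp : Function.Surjective p) (hker : p.ker ≤ Subgroup.center P) (hG : Group.IsPerfect G) :
    Group.IsPerfect (commutator P) := by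
  rw [Subgroup.isPerfect_iff]
  apply le_antisymm
  · exact Subgroup.commutator_mono le_top le_top
  · conv_lhs => rw [commutator_def]
    rw [Subgroup.commutator_le]
    intro x _ y _
    obtain ⟨c, hc, hcx⟩ := exists_commutator_lift p hp hG (p x)
    obtain ⟨c', hc', hcy⟩ := exists_commutator_lift p hp hG (p y)
    have : ⁅x, y⁆ = ⁅c, c'⁆ :=
      Cfsg.Agent.Lib.helper69.commutatorElement_eq_of_map_eq p hker _ _ _ _ hcx.symm hcy.symm
    rw [this]
    exact Subgroup.commutator_mem_commutator hc hc'

/-- A finite perfect group `Q` has a universal central extension: a finite perfect group `G` in the universe of `Q` and a surjective homomorphism `π : G →* Q` with central kernel such that for every group `X` in that universe and every surjective homomorphism `ξ : X →* Q` with central kernel there is exactly one homomorphism `η : G →* X` with `ξ ∘ η = π`. -/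
theorem result {Q : Type u} [Group Q] [Finite Q] (hQ : Group.IsPerfect Q) : ∃ (G : Type u) (_ : Group G) (_ : Finite G) (π : G →* Q), Group.IsPerfect G ∧ Function.Surjective π ∧ π.ker ≤ Subgroup.center G ∧ ∀ (X : Type u) [Group X] (ξ : X →* Q), Function.Surjective ξ → ξ.ker ≤ Subgroup.center X → ∃! η : G →* X, ξ.comp η = π := by
  classical
  -- the free group on `Q` and its canonical map onto `Q`
  let φ : FreeGroup Q →* Q := FreeGroup.lift id
  have hφsurj : Function.Surjective φ := fun q => ⟨FreeGroup.of q, FreeGroup.lift_apply_of⟩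
  let N : Subgroup (FreeGroup Q) := ⁅φ.ker, (⊤ : Subgroup (FreeGroup Q))⁆
  haveI hNn : N.Normal := Subgroup.commutator_normal _ _
  have hNle : N ≤ φ.ker := Subgroup.commutator_le_left _ _
  let φ' : FreeGroup Q ⧸ N →* Q := QuotientGroup.lift N φ hNle
  have hφ'surj : Function.Surjective φ' := by
    intro q
    obtain ⟨f, hf⟩ := hφsurj q
    exact ⟨(f : FreeGroup Q ⧸ N), hf⟩
  have hφ'ker : φ'.ker ≤ Subgroup.center (FreeGroup Q ⧸ N) := by
    intro e he
    rw [Subgroup.mem_center_iff]
    intro e'
    induction e using QuotientGroup.induction_on with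
    | H f =>
      induction e' using QuotientGroup.induction_on with
      | H f' =>
        have hf : f ∈ φ.ker := he
        rw [← QuotientGroup.mk_mul, ← QuotientGroup.mk_mul, QuotientGroup.eq]
        have h1 : (f' * f)⁻¹ * (f * f') = ⁅f⁻¹, f'⁻¹⁆ := by
          rw [commutatorElement_def]; group
        rw [h1]
        exact Subgroup.commutator_mem_commutator (φ.ker.inv_mem hf) (Subgroup.mem_top _)
  haveI hfin : Finite (commutator (FreeGroup Q ⧸ N)) :=
    Cfsg.Agent.Lib.helper69.finite_commutator_of_central_ext φ' hφ'ker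
  have hperf : Group.IsPerfect (commutator (FreeGroup Q ⧸ N)) :=
    isPerfect_commutator_of_central_ext φ' hφ'surj hφ'ker hQ
  let π : commutator (FreeGroup Q ⧸ N) →* Q := φ'.comp (commutator (FreeGroup Q ⧸ N)).subtype
  have hπsurj : Function.Surjective π := by
    intro q
    obtain ⟨c, hc, hcq⟩ := exists_commutator_lift φ' hφ'surj hQ q
    exact ⟨⟨c, hc⟩, hcq⟩
  have hπker : π.ker ≤ Subgroup.center (commutator (FreeGroup Q ⧸ N)) := by
    intro y hy
    rw [Subgroup.mem_center_iff]
    intro w
    have hy' : (y : FreeGroup Q ⧸ N) ∈ φ'.ker := hy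
    have := Subgroup.mem_center_iff.mp (hφ'ker hy') (w : FreeGroup Q ⧸ N)
    exact Subtype.ext this
  refine ⟨commutator (FreeGroup Q ⧸ N), inferInstance, hfin, π, hperf, hπsurj, hπker, ?_⟩
  intro X _ ξ hξ hξk
  -- a set-theoretic section of `ξ`
  let s : Q → X := Function.surjInv hξ
  have hs : ∀ q, ξ (s q) = q := Function.surjInv_eq hξ
  let ψ : FreeGroup Q →* X := FreeGroup.lift s
  have hψ : ξ.comp ψ = φ := by
    ext q
    show ξ (FreeGroup.lift s (FreeGroup.of q)) = FreeGroup.lift id (FreeGroup.of q)
    rw [FreeGroup.lift_apply_of, FreeGroup.lift_apply_of, hs]; rfl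
  have hψ' : ∀ f, ξ (ψ f) = φ f := fun f => congrArg (fun h : FreeGroup Q →* Q => h f) hψ
  have hNψ : N ≤ ψ.ker := by
    rw [Subgroup.commutator_le]
    intro r hr f _
    rw [MonoidHom.mem_ker, map_commutatorElement, commutatorElement_eq_one_iff_mul_comm]
    have hr' : ψ r ∈ ξ.ker := by
      rw [MonoidHom.mem_ker, hψ']; exact hr
    exact (Subgroup.mem_center_iff.mp (hξk hr') (ψ f)).symm
  let ψ' : FreeGroup Q ⧸ N →* X := QuotientGroup.lift N ψ hNψ
  have hψ'' : ∀ e, ξ (ψ' e) = φ' e := by
    intro e
    induction e using QuotientGroup.induction_on with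
    | H f => exact hψ' f
  refine ⟨ψ'.comp (commutator (FreeGroup Q ⧸ N)).subtype, ?_, ?_⟩
  · ext g
    exact hψ'' g
  · intro η hη
    apply Cfsg.Agent.Lib.helper69.hom_eq_of_perfect_of_central_diff hperf
    intro g
    apply hξk
    have h1 : ξ (η g) = π g := congrArg (fun h : commutator (FreeGroup Q ⧸ N) →* Q => h g) hη
    rw [MonoidHom.mem_ker, map_mul, map_inv, h1]
    show π g * (ξ (ψ' g))⁻¹ = 1
    rw [hψ'' g]
    exact mul_inv_cancel _

end Cfsg.Agent.S3960
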