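import Cfsg.Statements.S3962
import Mathlib
-- import your own Cfsg.Agent.* helpers here

set_option autoImplicit false
open Cfsg

namespace Cfsg.Agent.S3962

/-- If `g` has central commutators `⁅g, x⁆` for all `x` and `G` is perfect, then `g` is central. -/
theorem mem_center_of_commutators_central {G : Type*} [Group G] (hG : Group.IsPerfect G) (g : G)
    (h : ∀ x : G, g * x * g⁻¹ * x⁻¹ ∈ Subgroup.center G) : g ∈ Subgroup.center G := by
  -- the map x ↦ ⁅g, x⁆ is a homomorphism
  let φ : G →* G := MonoidHom.mk' (fun x => g * x * g⁻¹ * x⁻¹) (by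
    intro x y
    have hy := Subgroup.mem_center_iff.mp (h y)
    have : g * (x * y) * g⁻¹ * (x * y)⁻¹ = (g * x * g⁻¹) * (g * y * g⁻¹ * y⁻¹) * x⁻¹ := by group
    rw [this, mul_assoc (g * x * g⁻¹), ← hy x⁻¹]
    group)
  have hφ : ∀ x, φ x ∈ Subgroup.center G := h
  have hker : commutator G ≤ φ.ker := by
    rw [commutator_eq_closure, Subgroup.closure_le]
    rintro _ ⟨x, y, rfl⟩
    rw [SetLike.mem_coe, MonoidHom.mem_ker, map_commutatorElement]
    rw [commutatorElement_eq_one_iff_mul_comm]
    exact (Subgroup.mem_center_iff.mp (hφ y) (φ x))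
  rw [hG.commutator_eq_top] at hker
  rw [Subgroup.mem_center_iff]
  intro x
  have hx : φ x = 1 := hker (Subgroup.mem_top x)
  have hx' : g * x * g⁻¹ * x⁻¹ = 1 := hx
  have : g * x = x * g := by
    have h2 : g * x = (g * x * g⁻¹ * x⁻¹) * (x * g) := by group
    rw [h2, hx', one_mul]
  exact this.symm

/-- Let `G` be a perfect group and `π : G →* Q` a surjective homomorphism whose kernel is central. Then `π` maps the centre of `G` onto the centre of `Q`. Taking `π` to be the map to `G ⧸ Z(G)` shows that the central quotient of a perfect group has trivial centre. -/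
theorem result {G Q : Type*} [Group G] [Group Q] (hG : Group.IsPerfect G) (π : G →* Q) (hπ : Function.Surjective π) (hker : π.ker ≤ Subgroup.center G) : (Subgroup.center G).map π = Subgroup.center Q := by
  apply le_antisymm
  · rintro _ ⟨z, hz, rfl⟩
    rw [Subgroup.mem_center_iff]
    intro q
    obtain ⟨g, rfl⟩ := hπ q
    rw [← map_mul, ← map_mul, Subgroup.mem_center_iff.mp hz g]
  · intro q hq
    obtain ⟨g, rfl⟩ := hπ q
    refine ⟨g, ?_, rfl⟩
    apply mem_center_of_commutators_central hG
    intro x
    apply hker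
    rw [MonoidHom.mem_ker]
    have := Subgroup.mem_center_iff.mp hq (π x)
    simp only [map_mul, map_inv]
    rw [← this]
    group

end Cfsg.Agent.S3962
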