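import Cfsg.Statements.S3963
import Mathlib
import Cfsg.Agent.Lib.helper69.Schur
-- import your own Cfsg.Agent.* helpers here

set_option autoImplicit false
open Cfsg

namespace Cfsg.Agent.S3963

/-- For every `n ≥ 1` the dicyclic (generalized quaternion) group of order `4 n` has trivial Schur multiplier. -/
theorem result (n : ℕ) [NeZero n] : Cfsg.HasCyclicSchurMultiplier (QuaternionGroup n) 1 := by
  apply Cfsg.Agent.Lib.helper69.hasCyclicSchurMultiplier_one_of_forall_ker_eq_bot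
  intro Γ _ _ σ hσ
  obtain ⟨t, ht⟩ := hσ.1 (QuaternionGroup.xa 0)
  rw [Subgroup.eq_bot_iff_forall]
  intro k hk
  obtain ⟨b, i, hb, hi, rfl⟩ := Cfsg.Agent.Lib.helper69.quaternion_stem_ker n σ hσ t ht k hk
  rcases Cfsg.Agent.Lib.helper69.zmod_double_eq_zero (2 * n) n (two_mul n) i hi with hi0 | hin
  · apply Cfsg.Agent.Lib.helper69.comm_central_eq_one
    apply hσ.2.1
    rw [MonoidHom.mem_ker, hb, hi0]
    rfl
  · have hzk : b * (t * t)⁻¹ ∈ σ.ker := by
      rw [MonoidHom.mem_ker, map_mul, map_inv, map_mul, ht, hb, hin, QuaternionGroup.xa_mul_xa]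
      simp
    have hz := Subgroup.mem_center_iff.mp (hσ.2.1 hzk) t
    have hb' : b = b * (t * t)⁻¹ * (t * t) := by group
    generalize b * (t * t)⁻¹ = z at hz hb'
    rw [hb']
    calc t * (z * (t * t)) * t⁻¹ * (z * (t * t))⁻¹ = (t * z) * t⁻¹ * z⁻¹ := by group
      _ = (z * t) * t⁻¹ * z⁻¹ := by rw [hz]
      _ = 1 := by group

end Cfsg.Agent.S3963
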