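import Cfsg.Statements.S3964
import Mathlib
import Cfsg.Agent.Lib.helper69.Schur
-- import your own Cfsg.Agent.* helpers here

set_option autoImplicit false
open Cfsg

namespace Cfsg.Agent.S3964

/-- For odd `n` the dihedral group of order `2 n` has trivial Schur multiplier. -/
theorem result (n : ℕ) (hn : Odd n) : Cfsg.HasCyclicSchurMultiplier (DihedralGroup n) 1 := by
  haveI hn0 : NeZero n := ⟨by rintro rfl; exact (by decide : ¬ Odd 0) hn⟩
  apply Cfsg.Agent.Lib.helper69.hasCyclicSchurMultiplier_one_of_forall_ker_eq_bot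
  intro Γ _ _ σ hσ
  obtain ⟨t, ht⟩ := hσ.1 (DihedralGroup.sr 0)
  rw [Subgroup.eq_bot_iff_forall]
  intro k hk
  obtain ⟨b, i, hb, hi, rfl⟩ := Cfsg.Agent.Lib.helper69.dihedral_stem_ker n σ hσ t ht k hk
  have hi0 : i = 0 := Cfsg.Agent.Lib.helper69.zmod_odd_double_eq_zero hn i hi
  apply Cfsg.Agent.Lib.helper69.comm_central_eq_one
  apply hσ.2.1
  rw [MonoidHom.mem_ker, hb, hi0]
  rfl

end Cfsg.Agent.S3964
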