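import Cfsg.Statements.S3966
import Mathlib
-- import your own Cfsg.Agent.* helpers here

set_option autoImplicit false
open Cfsg

namespace Cfsg.Agent.S3966

open scoped commutatorElement

/-- The reduction map `ZMod (2 * n) →+* ZMod n`. -/
noncomputable def red (n : ℕ) : ZMod (2 * n) →+* ZMod n := ZMod.castHom (dvd_mul_left n 2) (ZMod n)

theorem red_n (n : ℕ) : red n (n : ZMod (2 * n)) = 0 := by
  rw [map_natCast]; exact ZMod.natCast_self n

theorem two_n_zero (n : ℕ) : ((n : ZMod (2 * n)) + n) = 0 := by
  have h : ((2 * n : ℕ) : ZMod (2 * n)) = 0 := ZMod.natCast_self (2 * n)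
  rw [← h]; push_cast; ring

theorem red_eq_zero_iff (n : ℕ) [NeZero n] (i : ZMod (2 * n)) :
    red n i = 0 ↔ i = 0 ∨ i = (n : ZMod (2 * n)) := by
  constructor
  · intro h
    have h1 : red n i = ((i.val : ℕ) : ZMod n) := by
      conv_lhs => rw [← ZMod.natCast_zmod_val i]
      rw [map_natCast]
    rw [h1, ZMod.natCast_eq_zero_iff] at h
    obtain ⟨k, hk⟩ := h
    have hlt : i.val < 2 * n := ZMod.val_lt i
    have hnpos : 0 < n := NeZero.pos n
    have hk2 : k < 2 := by
      by_contra hcon
      rw [not_lt] at hcon
      have : 2 * n ≤ n * k := by nlinarith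
      omega
    interval_cases k
    · left
      rw [← ZMod.natCast_zmod_val i, hk]; simp
    · right
      rw [← ZMod.natCast_zmod_val i, hk]; simp
  · rintro (rfl | rfl)
    · simp
    · exact red_n n

/-- The covering homomorphism from the dicyclic group of order `4 n` onto the dihedral group of order `2 n`. -/
noncomputable def cover (n : ℕ) : QuaternionGroup n →* DihedralGroup n where
  toFun
    | QuaternionGroup.a i => DihedralGroup.r (red n i)
    | QuaternionGroup.xa i => DihedralGroup.sr (red n i)
  map_one' := by
    show DihedralGroup.r (red n 0) = 1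
    rw [map_zero]; rfl
  map_mul' := by
    rintro (i | i) (j | j)
    · show DihedralGroup.r (red n (i + j)) = DihedralGroup.r (red n i) * DihedralGroup.r (red n j)
      rw [DihedralGroup.r_mul_r, map_add]
    · show DihedralGroup.sr (red n (j - i)) = DihedralGroup.r (red n i) * DihedralGroup.sr (red n j)
      rw [DihedralGroup.r_mul_sr, map_sub]
    · show DihedralGroup.sr (red n (i + j)) = DihedralGroup.sr (red n i) * DihedralGroup.r (red n j)
      rw [DihedralGroup.sr_mul_r, map_add]
    · show DihedralGroup.r (red n ((n : ZMod (2 * n)) + j - i)) = DihedralGroup.sr (red n i) * DihedralGroup.sr (red n j)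
      rw [DihedralGroup.sr_mul_sr, map_sub, map_add, red_n, zero_add]

theorem cover_a (n : ℕ) (i : ZMod (2 * n)) : cover n (QuaternionGroup.a i) = DihedralGroup.r (red n i) := rfl

theorem cover_xa (n : ℕ) (i : ZMod (2 * n)) : cover n (QuaternionGroup.xa i) = DihedralGroup.sr (red n i) := rfl

theorem cover_surjective (n : ℕ) : Function.Surjective (cover n) := by
  rintro (i | i)
  · obtain ⟨j, rfl⟩ := ZMod.ringHom_surjective (red n) i
    exact ⟨QuaternionGroup.a j, rfl⟩
  · obtain ⟨j, rfl⟩ := ZMod.ringHom_surjective (red n) i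
    exact ⟨QuaternionGroup.xa j, rfl⟩

theorem mem_ker_cover (n : ℕ) [NeZero n] (g : QuaternionGroup n) :
    g ∈ (cover n).ker ↔ g = 1 ∨ g = QuaternionGroup.a (n : ZMod (2 * n)) := by
  rw [MonoidHom.mem_ker]
  rcases g with i | i
  · rw [cover_a, DihedralGroup.one_def, QuaternionGroup.one_def]
    constructor
    · intro h
      have h0 : red n i = 0 := by injection h
      rcases (red_eq_zero_iff n i).mp h0 with rfl | rfl
      · left; rfl
      · right; rfl
    · rintro (h | h)
      · have : i = 0 := by injection h
        rw [this, map_zero]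
      · have : i = (n : ZMod (2 * n)) := by injection h
        rw [this, red_n]
  · rw [cover_xa, DihedralGroup.one_def, QuaternionGroup.one_def]
    constructor
    · intro h; cases h
    · rintro (h | h) <;> cases h

theorem a_n_ne_one (n : ℕ) [NeZero n] : QuaternionGroup.a (n : ZMod (2 * n)) ≠ (1 : QuaternionGroup n) := by
  rw [QuaternionGroup.one_def]
  intro h
  have h0 : (n : ZMod (2 * n)) = 0 := by injection h
  rw [ZMod.natCast_eq_zero_iff] at h0
  have hnpos : 0 < n := NeZero.pos n
  have := Nat.le_of_dvd hnpos h0
  omega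

theorem a_n_central (n : ℕ) : QuaternionGroup.a (n : ZMod (2 * n)) ∈ Subgroup.center (QuaternionGroup n) := by
  rw [Subgroup.mem_center_iff]
  have h2 := two_n_zero n
  rintro (j | j)
  · rw [QuaternionGroup.a_mul_a, QuaternionGroup.a_mul_a, add_comm]
  · rw [QuaternionGroup.xa_mul_a, QuaternionGroup.a_mul_xa]
    congr 1
    linear_combination h2

theorem a_n_mem_commutator (n : ℕ) (hn : Even n) :
    QuaternionGroup.a (n : ZMod (2 * n)) ∈ commutator (QuaternionGroup n) := by
  obtain ⟨m, hm⟩ := hn
  have h2 := two_n_zero n
  have key : ⁅QuaternionGroup.xa (0 : ZMod (2 * n)), QuaternionGroup.a (-(m : ZMod (2 * n)))⁆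
      = QuaternionGroup.a (n : ZMod (2 * n)) := by
    rw [commutatorElement_def]
    have hinv1 : (QuaternionGroup.xa (0 : ZMod (2 * n)))⁻¹ = QuaternionGroup.xa ((n : ZMod (2 * n)) + 0) := rfl
    have hinv2 : (QuaternionGroup.a (-(m : ZMod (2 * n))))⁻¹ = QuaternionGroup.a (-(-(m : ZMod (2 * n)))) := rfl
    rw [hinv1, hinv2, QuaternionGroup.xa_mul_a, QuaternionGroup.xa_mul_xa, QuaternionGroup.a_mul_a]
    congr 1
    have hm' : (n : ZMod (2 * n)) = (m : ZMod (2 * n)) + m := by rw [hm]; push_cast; ring
    linear_combination h2 - hm'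
  rw [← key, commutator_def]
  exact Subgroup.commutator_mem_commutator (Subgroup.mem_top _) (Subgroup.mem_top _)

/-- For even `n ≥ 2` the dicyclic group of order `4 n` is a stem extension of the dihedral group of order `2 n` with kernel of order `2`: there is a surjective homomorphism `QuaternionGroup n →* DihedralGroup n` whose kernel is central, lies in the commutator subgroup and has two elements. Together with the order of the multiplier this exhibits the dicyclic group as a Schur covering group of the dihedral group. -/
theorem result (n : ℕ) [NeZero n] (hn : Even n) : ∃ σ : QuaternionGroup n →* DihedralGroup n, Cfsg.IsStemExtension σ ∧ Nat.card σ.ker = 2 := by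
  refine ⟨cover n, ⟨cover_surjective n, ?_, ?_⟩, ?_⟩
  · intro g hg
    rcases (mem_ker_cover n g).mp hg with rfl | rfl
    · exact Subgroup.one_mem _
    · exact a_n_central n
  · intro g hg
    rcases (mem_ker_cover n g).mp hg with rfl | rfl
    · exact Subgroup.one_mem _
    · exact a_n_mem_commutator n hn
  · rw [Nat.card_eq_two_iff]
    refine ⟨1, ⟨QuaternionGroup.a (n : ZMod (2 * n)), (mem_ker_cover n _).mpr (Or.inr rfl)⟩, ?_, ?_⟩
    · intro h
      have := congrArg Subtype.val h
      exact a_n_ne_one n this.symm
    · ext ⟨g, hg⟩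
      simp only [Set.mem_insert_iff, Set.mem_singleton_iff, Set.mem_univ, iff_true]
      rcases (mem_ker_cover n g).mp hg with rfl | rfl
      · left; rfl
      · right; rfl

end Cfsg.Agent.S3966
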