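import Cfsg.Statements.S3965
import Mathlib
import Cfsg.Agent.Lib.helper69.Schur
import Cfsg.Agent.S3966
-- import your own Cfsg.Agent.* helpers here

set_option autoImplicit false
open Cfsg

namespace Cfsg.Agent.S3965

/-- For even `n ≥ 2` the dihedral group of order `2 n` has Schur multiplier cyclic of order `2`. -/
theorem result (n : ℕ) [NeZero n] (hn : Even n) : Cfsg.HasCyclicSchurMultiplier (DihedralGroup n) 2 := by
  constructor
  · obtain ⟨σ, hσ, hcard⟩ := Cfsg.Agent.S3966.result n hn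
    refine ⟨QuaternionGroup n, inferInstance, inferInstance, σ, hσ, ?_⟩
    haveI : Fact (Nat.Prime 2) := ⟨Nat.prime_two⟩
    have h2 : Nat.card (Multiplicative (ZMod 2)) = 2 := by
      rw [Nat.card_eq_fintype_card]; rfl
    exact ⟨mulEquivOfPrimeCardEq (p := 2) hcard h2⟩
  · intro Γ _ _ σ hσ
    obtain ⟨m, hm⟩ := hn
    obtain ⟨t, ht⟩ := hσ.1 (DihedralGroup.sr 0)
    obtain ⟨b₀, hb₀⟩ := hσ.1 (DihedralGroup.r (m : ZMod n))
    have hall : ∀ k ∈ σ.ker, k = 1 ∨ k = t * b₀ * t⁻¹ * b₀⁻¹ := by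
      intro k hk
      obtain ⟨b, i, hb, hi, rfl⟩ := Cfsg.Agent.Lib.helper69.dihedral_stem_ker n σ hσ t ht k hk
      rcases Cfsg.Agent.Lib.helper69.zmod_double_eq_zero n m hm i hi with hi0 | him
      · left
        apply Cfsg.Agent.Lib.helper69.comm_central_eq_one
        apply hσ.2.1
        rw [MonoidHom.mem_ker, hb, hi0]
        rfl
      · right
        have hzk : b₀⁻¹ * b ∈ σ.ker := by
          rw [MonoidHom.mem_ker, map_mul, map_inv, hb, hb₀, him]; group
        have hz := Subgroup.mem_center_iff.mp (hσ.2.1 hzk) t⁻¹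
        have hb' : b = b₀ * (b₀⁻¹ * b) := by group
        generalize b₀⁻¹ * b = z at hz hb'
        rw [hb']
        calc t * (b₀ * z) * t⁻¹ * (b₀ * z)⁻¹ = t * b₀ * (z * t⁻¹) * z⁻¹ * b₀⁻¹ := by group
          _ = t * b₀ * (t⁻¹ * z) * z⁻¹ * b₀⁻¹ := by rw [hz]
          _ = t * b₀ * t⁻¹ * b₀⁻¹ := by group
    generalize t * b₀ * t⁻¹ * b₀⁻¹ = k₀ at hall
    by_cases htriv : ∀ k ∈ σ.ker, k = 1
    · refine ⟨1, ?_⟩
      rintro ⟨k, hk⟩
      exact ⟨1, Subtype.ext (htriv k hk).symm⟩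
    · rw [not_forall] at htriv
      obtain ⟨k, hk'⟩ := htriv
      rw [Classical.not_imp] at hk'
      obtain ⟨hk, hk1⟩ := hk'
      have hkk₀ : k = k₀ := (hall k hk).resolve_left hk1
      have hk₀mem : k₀ ∈ σ.ker := hkk₀ ▸ hk
      have hk₀ne : k₀ ≠ 1 := hkk₀ ▸ hk1
      have hsq : k₀ ^ 2 = 1 := by
        rcases hall (k₀ * k₀) (σ.ker.mul_mem hk₀mem hk₀mem) with h | h
        · rw [pow_two]; exact h
        · exfalso
          apply hk₀ne
          exact mul_left_cancel (a := k₀) (by rw [h, mul_one])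
      apply Cfsg.Agent.Lib.helper69.exists_surjective_of_generator 2 (⟨k₀, hk₀mem⟩ : σ.ker)
      · exact Subtype.ext (by simpa using hsq)
      · rintro ⟨k', hk'⟩
        rcases hall k' hk' with h | h
        · exact ⟨0, Subtype.ext (by simpa using h)⟩
        · exact ⟨1, Subtype.ext (by simpa using h)⟩

end Cfsg.Agent.S3965
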