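import Cfsg.Statements.S3968
import Mathlib
import Cfsg.Agent.Lib.helper4.CharTheory
import Cfsg.Agent.Lib.helper4.CharDecomp
import Cfsg.Agent.Lib.helper4.Burnside2
import Cfsg.Agent.Lib.helper81.Faithful
import Cfsg.Agent.Lib.helper19.Extraspecial
import Cfsg.Agent.Lib.helper82.CharQuot


set_option autoImplicit false
open Cfsg

namespace Cfsg.Agent.S3968

/-- Let `p` be a prime and `G` a finite group with a faithful irreducible complex character of degree `p` (so `G` is an irreducible linear group in `p` variables). If `p ^ 2` divides the order of `G`, then the centre of `G` is nontrivial. -/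
theorem result {G : Type*} [Group G] [Finite G] (p : ℕ) (hp : p.Prime) (χ : Cfsg.IrrCharacter G) (hdeg : χ.1 1 = p) (hfaith : ∀ g : G, χ.1 g = χ.1 1 → g = 1) (hdiv : p ^ 2 ∣ Nat.card G) : Subgroup.center G ≠ ⊥ := by
  classical
  intro hZ
  haveI : Fact p.Prime := ⟨hp⟩
  have hdegN : charDegree (χ : G → ℂ) = p := by
    have h1 := Cfsg.Agent.Lib.helper81.irr_one_eq_charDegree χ
    rw [hdeg] at h1
    exact_mod_cast h1.symm
  obtain ⟨P⟩ : Nonempty (Sylow p G) := inferInstance
  have hPcard : Nat.card (P : Subgroup G) = p ^ (Nat.card G).factorization p :=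
    P.card_eq_multiplicity
  have hk : 2 ≤ (Nat.card G).factorization p :=
    (hp.pow_dvd_iff_le_factorization Nat.card_pos.ne').mp hdiv
  -- vanishing on the centre of `P`
  have hvan : ∀ z : G, z ∈ (P : Subgroup G) → (∀ y ∈ (P : Subgroup G), y * z = z * y) → z ≠ 1 →
      χ.1 z = 0 := by
    intro z hzP hzc hz1
    apply Cfsg.Agent.Lib.helper81.irr_vanish_of_coprime_of_faithful hZ χ hfaith z hz1
    rw [hdegN]
    have hle : (P : Subgroup G) ≤ Subgroup.centralizer ({z} : Set G) := by
      intro y hy
      rw [Subgroup.mem_centralizer_iff]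
      intro w hw
      rw [Set.mem_singleton_iff] at hw
      subst hw
      exact (hzc y hy).symm
    have hdvd := Subgroup.index_dvd_of_le hle
    exact Nat.Coprime.coprime_dvd_right hdvd ((Nat.Prime.coprime_iff_not_dvd hp).mpr P.not_dvd_index)
  have hχc : IsCharacter G χ.1 := Cfsg.Agent.Lib.helper4.isCharacter_of_isIrrCharacter χ.2
  have hθ : IsCharacter (P : Subgroup G) (fun h : (P : Subgroup G) => χ.1 h) :=
    Cfsg.Agent.Lib.helper4.isCharacter_restrict _ hχc
  obtain ⟨l, hl₀⟩ := Cfsg.Agent.Lib.helper4.exists_list_irr_of_isCharacter hθ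
  letI : DecidableEq (IrrCharacter (P : Subgroup G)) := Classical.decEq _
  have hl : (fun h : (P : Subgroup G) => χ.1 h)
      = (l.map (fun ψ : IrrCharacter (P : Subgroup G) => ψ.1)).sum := by
    rw [hl₀]
    congr 1
    simp
  have hval : ∀ x : (P : Subgroup G), χ.1 (x : G) =
      (l.map (fun ψ : IrrCharacter (P : Subgroup G) => ψ.1 x)).sum := by
    intro x
    have h1 := congrFun hl x
    rw [Pi.list_sum_apply, List.map_map] at h1
    exact h1
  have hdsum : (l.map (fun ψ : IrrCharacter (P : Subgroup G) =>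
      charDegree ψ.1)).sum = p := by
    have h1 := hval 1
    have h2 : (l.map (fun ψ : IrrCharacter (P : Subgroup G) => ψ.1 1))
        = (l.map (fun ψ : IrrCharacter (P : Subgroup G) =>
          ((charDegree ψ.1 : ℕ) : ℂ))) :=
      List.map_congr_left (fun ψ _ => Cfsg.Agent.Lib.helper81.irr_one_eq_charDegree ψ)
    rw [h2] at h1
    have h3 : χ.1 ((1 : (P : Subgroup G)) : G) = (p : ℂ) := hdeg
    rw [h3] at h1
    have h4 : ((l.map (fun ψ : IrrCharacter (P : Subgroup G) =>
        ((charDegree ψ.1 : ℕ) : ℂ))).sum)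
        = (((l.map (fun ψ : IrrCharacter (P : Subgroup G) =>
          charDegree ψ.1)).sum : ℕ) : ℂ) := by
      rw [Nat.cast_list_sum, List.map_map]; rfl
    rw [h4] at h1
    exact_mod_cast h1.symm
  have hPnt : Nontrivial (P : Subgroup G) := by
    rw [← Finite.one_lt_card_iff_nontrivial, hPcard]
    exact Nat.one_lt_pow (by omega) hp.one_lt
  by_cases hall : ∀ ψ ∈ l, charDegree (ψ : IrrCharacter (P : Subgroup G)).1 = 1
  · -- all constituents linear: `P` is abelian
    have hcomm : ∀ g h : (P : Subgroup G), g * h = h * g := by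
      intro g h
      have h1 : χ.1 ((g * h * g⁻¹ * h⁻¹ : (P : Subgroup G)) : G) = χ.1 ((1 : (P : Subgroup G)) : G) := by
        rw [hval, hval]
        congr 1
        apply List.map_congr_left
        intro ψ hψ
        have hψ1 : ψ.1 1 = 1 := by
          rw [Cfsg.Agent.Lib.helper81.irr_one_eq_charDegree, hall ψ hψ]; simp
        obtain ⟨f, hf⟩ := Cfsg.Agent.Lib.helper82.exists_hom_of_linear
          (Cfsg.Agent.Lib.helper4.isCharacter_of_isIrrCharacter ψ.2) hψ1
        rw [hf, hf]
        have : f (g * h * g⁻¹ * h⁻¹) = f 1 := by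
          rw [map_mul, map_mul, map_mul, map_inv, map_inv, map_one]
          rw [mul_comm (f g) (f h), mul_assoc (f h), mul_inv_cancel, mul_one, mul_inv_cancel]
        rw [this]
      have h2 := hfaith _ h1
      have h3 : g * h * g⁻¹ * h⁻¹ = 1 := Subtype.ext h2
      calc g * h = (g * h * g⁻¹ * h⁻¹) * (h * g) := by group
        _ = h * g := by rw [h3, one_mul]
    have hvanP : ∀ x : (P : Subgroup G), x ≠ 1 → χ.1 (x : G) = 0 := by
      intro x hx
      apply hvan x x.2
      · intro y hy
        exact congrArg Subtype.val (hcomm ⟨y, hy⟩ x)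
      · intro h; exact hx (Subtype.ext h)
    haveI : Fintype (P : Subgroup G) := Fintype.ofFinite _
    have hone : IsIrrCharacter (P : Subgroup G) (fun _ => (1 : ℂ)) :=
      Cfsg.Agent.Lib.helper4.isIrrCharacter_one
    have h1 : classInner (fun h : (P : Subgroup G) => χ.1 h) (fun _ => (1 : ℂ))
        = (Nat.card (P : Subgroup G) : ℂ)⁻¹ * p := by
      unfold classInner
      congr 1
      rw [Finset.sum_eq_single (1 : (P : Subgroup G))]
      · simp [hdeg]
      · intro x _ hx
        beta_reduce
        rw [hvanP x hx, zero_mul]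
      · intro h; exact absurd (Finset.mem_univ _) h
    have key : ∀ l' : List (IrrCharacter (P : Subgroup G)), ∃ m : ℕ,
        classInner ((l'.map (fun ψ : IrrCharacter (P : Subgroup G) =>
          ψ.1)).sum) (fun _ => (1 : ℂ)) = m := by
      intro l'
      induction l' with
      | nil =>
        refine ⟨0, ?_⟩
        rw [List.map_nil, List.sum_nil, Cfsg.Agent.Lib.helper4.classInner_zero_left]; simp
      | cons a t ih =>
        obtain ⟨m, hm⟩ := ih
        rw [List.map_cons, List.sum_cons, Cfsg.Agent.Lib.helper4.classInner_add_left, hm,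
          Cfsg.Agent.Lib.helper4.classInner_irr a.2 hone]
        by_cases ha : a.1 = fun _ => (1 : ℂ)
        · refine ⟨1 + m, ?_⟩
          rw [if_pos ha]; push_cast; ring
        · refine ⟨m, ?_⟩
          rw [if_neg ha, zero_add]
    obtain ⟨m, hm⟩ := key l
    rw [← hl, h1] at hm
    have hc0 : (Nat.card (P : Subgroup G) : ℂ) ≠ 0 := by
      exact_mod_cast (Nat.card_pos (α := (P : Subgroup G))).ne'
    have h2 : (p : ℂ) = ((Nat.card (P : Subgroup G) * m : ℕ) : ℂ) := by
      push_cast
      rw [← hm, ← mul_assoc, mul_inv_cancel₀ hc0, one_mul]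
    have h3 : p = Nat.card (P : Subgroup G) * m := by exact_mod_cast h2
    have h4 : p ^ 2 ∣ p := by
      have : p ^ 2 ∣ Nat.card (P : Subgroup G) := by
        rw [hPcard]; exact pow_dvd_pow p hk
      exact this.trans ⟨m, h3⟩
    have h5 := Nat.le_of_dvd hp.pos h4
    have h6 := hp.two_le
    nlinarith
  · -- some constituent is non-linear: the restriction is irreducible
    simp only [not_forall] at hall
    obtain ⟨ψ₀, hψ₀l, hψ₀⟩ := hall
    have hdvd0 : charDegree ψ₀.1 ∣ p ^ (Nat.card G).factorization p := by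
      rw [← hPcard]; exact Cfsg.Agent.Lib.helper82.irr_degree_dvd_card ψ₀
    obtain ⟨j, hj, hdj⟩ := (Nat.dvd_prime_pow hp).mp hdvd0
    have hj0 : j ≠ 0 := by
      rintro rfl
      rw [pow_zero] at hdj
      exact hψ₀ hdj
    have hpd : p ≤ charDegree ψ₀.1 := by
      rw [hdj]
      calc p = p ^ 1 := (pow_one p).symm
        _ ≤ p ^ j := Nat.pow_le_pow_right hp.pos (by omega)
    obtain ⟨l₁, hperm⟩ : ∃ l₁ : List (IrrCharacter (P : Subgroup G)), l.Perm (ψ₀ :: l₁) :=
      ⟨_, List.perm_cons_erase hψ₀l⟩
    have hsplit : charDegree ψ₀.1 + (l₁.map (fun ψ : IrrCharacter (P : Subgroup G) =>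
        charDegree ψ.1)).sum = p := by
      have h := (hperm.map (fun ψ : IrrCharacter (P : Subgroup G) => charDegree ψ.1)).sum_eq
      rw [List.map_cons, List.sum_cons] at h
      rw [← h]; exact hdsum
    have hrest : (l₁.map (fun ψ : IrrCharacter (P : Subgroup G) =>
        charDegree ψ.1)).sum = 0 := by
      generalize (l₁.map (fun ψ : IrrCharacter (P : Subgroup G) =>
        charDegree ψ.1)).sum = r at hsplit
      generalize charDegree ψ₀.1 = d at hsplit hpd
      omega
    have hnil : l₁ = [] := by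
      rw [List.eq_nil_iff_forall_not_mem]
      intro b hb
      have h0 : charDegree b.1 = 0 :=
        List.sum_eq_zero_iff.mp hrest _ (List.mem_map_of_mem hb)
      have := Cfsg.Agent.Lib.helper81.irr_charDegree_pos b
      omega
    subst hnil
    have hfun : ψ₀.1 = (fun h : (P : Subgroup G) => χ.1 h) := by
      rw [hl, (hperm.map _).sum_eq, List.map_cons, List.sum_cons, List.map_nil, List.sum_nil,
        add_zero]
    -- a nontrivial central element of `P`
    haveI := P.isPGroup'.center_nontrivial
    obtain ⟨zc, hzc⟩ := exists_ne (1 : Subgroup.center (P : Subgroup G))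
    have hz1 : (zc : (P : Subgroup G)) ≠ 1 := fun h => hzc (Subtype.ext h)
    have hzG : ((zc : (P : Subgroup G)) : G) ≠ 1 := fun h => hz1 (Subtype.ext h)
    have hzero : χ.1 ((zc : (P : Subgroup G)) : G) = 0 := by
      apply hvan _ (zc : (P : Subgroup G)).2 _ hzG
      intro y hy
      have := Subgroup.mem_center_iff.mp zc.2 ⟨y, hy⟩
      exact congrArg Subtype.val this
    obtain ⟨c, hc⟩ := Cfsg.Agent.Lib.helper19.irr_mul_center ψ₀ (zc : (P : Subgroup G)) zc.2
    have hψ1 : ψ₀.1 1 = p := by
      rw [hfun]; exact hdeg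
    have hp0 : (p : ℂ) ≠ 0 := by exact_mod_cast hp.ne_zero
    have e1 := hc 1
    rw [one_mul, hψ1] at e1
    have e2 := hc (zc : (P : Subgroup G))⁻¹
    rw [inv_mul_cancel, hψ1] at e2
    have hc0 : c ≠ 0 := by
      rintro rfl
      rw [zero_mul] at e2
      exact hp0 e2
    have e3 : ψ₀.1 (zc : (P : Subgroup G)) = χ.1 ((zc : (P : Subgroup G)) : G) := by
      rw [hfun]
    rw [e3, hzero] at e1
    exact mul_ne_zero hc0 hp0 e1.symm

end Cfsg.Agent.S3968
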