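import Cfsg.Statements.S3969
import Mathlib
import Cfsg.Agent.Lib.helper69.CoprimeAut


set_option autoImplicit false
open Cfsg

namespace Cfsg.Agent.S3969

/-- Let `P` be an abelian Sylow `p`-subgroup of the finite group `G`, generated by `d` elements (`d` its minimal number of generators). If the order of `G` is coprime to `(p - 1)(p ^ 2 - 1) ⋯ (p ^ d - 1)`, then `G` has a normal `p`-complement. (The classical statement needs only the largest number of cyclic factors of `P` of equal order in place of `d`; the form here follows from it.) -/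
theorem result {G : Type*} [Group G] [Finite G] (p : ℕ) [Fact p.Prime] (P : Sylow p G) (hab : IsMulCommutative (P : Subgroup G)) (hcop : Nat.Coprime (Nat.card G) (∏ i ∈ Finset.Icc 1 (Group.rank (P : Subgroup G)), (p ^ i - 1))) : Cfsg.HasNormalPComplement p G := by
  classical
  have hP : IsPGroup p (P : Subgroup G) := P.isPGroup'
  obtain ⟨S, hScard, hS⟩ := Group.rank_spec (P : Subgroup G)
  have hd : (frattini (P : Subgroup G)).index ∣ p ^ Group.rank (P : Subgroup G) :=
    hScard ▸ Cfsg.Agent.Lib.helper69.index_frattini_dvd_pow hP S hS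
  have hNC : Subgroup.normalizer ((P : Subgroup G) : Set G) ≤ Subgroup.centralizer (P : Set G) := by
    intro g hg
    let g' : Subgroup.normalizer ((P : Subgroup G) : Set G) := ⟨g, hg⟩
    let β : MulAut (P : Subgroup G) := (P : Subgroup G).normalizerMonoidHom g'
    have h0 : orderOf β ∣ ((Subgroup.centralizer ((P : Subgroup G) : Set G)).subgroupOf
        (Subgroup.normalizer ((P : Subgroup G) : Set G))).index := by
      rw [← Subgroup.normalizerMonoidHom_ker, Subgroup.index_eq_card]
      have : β = QuotientGroup.kerLift (P : Subgroup G).normalizerMonoidHom (QuotientGroup.mk g') := rfl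
      rw [this]
      exact (orderOf_map_dvd _ _).trans (orderOf_dvd_natCard _)
    have h1 : (orderOf β).Coprime p := by
      apply Nat.Coprime.coprime_dvd_left h0
      apply Nat.Coprime.coprime_dvd_left
        (Subgroup.relIndex_dvd_of_le_left _ (P : Subgroup G).le_centralizer)
      apply Nat.Coprime.coprime_dvd_left (Subgroup.relIndex_dvd_index_of_le Subgroup.le_normalizer)
      rw [Nat.coprime_comm, Nat.Prime.coprime_iff_not_dvd Fact.out]
      exact P.not_dvd_index
    have h2 : (orderOf β).Coprime (∏ i ∈ Finset.Icc 1 (Group.rank (P : Subgroup G)), (p ^ i - 1)) := by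
      have h3 : orderOf β ∣ orderOf g' := orderOf_map_dvd _ g'
      exact Nat.Coprime.coprime_dvd_left (h3.trans (orderOf_dvd_natCard g')) (Nat.Coprime.coprime_dvd_left (Subgroup.card_subgroup_dvd_card _) hcop)
    have hβ : β = 1 := Cfsg.Agent.Lib.helper69.mulAut_eq_one_of_coprime hP _ hd β h1 h2
    have hker : g' ∈ (P : Subgroup G).normalizerMonoidHom.ker := hβ
    rw [Subgroup.normalizerMonoidHom_ker] at hker
    exact hker
  exact ⟨P, (MonoidHom.transferSylow P hNC).ker, inferInstance,
    MonoidHom.ker_transferSylow_isComplement' P hNC⟩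

end Cfsg.Agent.S3969
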