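import Cfsg.Statements.S3970
import Mathlib
import Cfsg.Agent.S3969


set_option autoImplicit false
open Cfsg

namespace Cfsg.Agent.S3970

universe u

theorem aux (n : ℕ) : ∀ (G : Type u) [Group G] [Finite G], Nat.card G = n →
    (∀ p : ℕ, p.Prime → p ∣ Nat.card G → (∃ q : ℕ, q.Prime ∧ q ∣ Nat.card G ∧ p < q) →
      ∀ P : Sylow p G, IsMulCommutative (P : Subgroup G) ∧ Group.rank (P : Subgroup G) ≤ 2) →
    ¬ 12 ∣ Nat.card G → Group.IsSolvable G := by
  induction n using Nat.strong_induction_on with
  | _ n ih =>
    intro G _ _ hn h h12
    classical
    by_cases h1 : Nat.card G = 1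
    · haveI : Subsingleton G := (Nat.card_eq_one_iff_unique.mp h1).1
      infer_instance
    have hG0 : Nat.card G ≠ 0 := Nat.card_pos.ne'
    obtain ⟨p, hp_def⟩ : ∃ p, p = (Nat.card G).minFac := ⟨_, rfl⟩
    have hp : p.Prime := hp_def ▸ Nat.minFac_prime h1
    haveI : Fact p.Prime := ⟨hp⟩
    have hpdvd : p ∣ Nat.card G := hp_def ▸ Nat.minFac_dvd _
    have hmin : ∀ r : ℕ, r.Prime → r ∣ Nat.card G → p ≤ r := fun r hr hrd =>
      hp_def ▸ Nat.minFac_le_of_dvd hr.two_le hrd
    by_cases hq : ∃ q : ℕ, q.Prime ∧ q ∣ Nat.card G ∧ p < q
    · obtain ⟨P⟩ : Nonempty (Sylow p G) := inferInstance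
      obtain ⟨hab, hrank⟩ := h p hp hpdvd hq P
      have hcop : Nat.Coprime (Nat.card G)
          (∏ i ∈ Finset.Icc 1 (Group.rank (P : Subgroup G)), (p ^ i - 1)) := by
        apply Nat.Coprime.prod_right
        intro i hi
        rw [Finset.mem_Icc] at hi
        have hc1 : Nat.Coprime (Nat.card G) (p - 1) := by
          by_contra hne
          obtain ⟨r, hr, hrd⟩ := Nat.exists_prime_and_dvd hne
          have h1' : r ∣ Nat.card G := hrd.trans (Nat.gcd_dvd_left _ _)
          have h2' : r ∣ p - 1 := hrd.trans (Nat.gcd_dvd_right _ _)
          have h3 := hmin r hr h1'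
          have h4 := Nat.le_of_dvd (by have := hp.two_le; omega) h2'
          have h5 := hp.two_le
          omega
        rcases Nat.lt_or_ge i 2 with hi2 | hi2
        · have hi1 : i = 1 := by omega
          subst hi1
          simpa using hc1
        · have hi2' : i = 2 := by omega
          subst hi2'
          have hfac : p ^ 2 - 1 = (p - 1) * (p + 1) := by
            obtain ⟨m, rfl⟩ : ∃ m, p = m + 1 := ⟨p - 1, by have := hp.two_le; omega⟩
            simp only [Nat.add_sub_cancel]
            have : (m + 1) ^ 2 = m * (m + 1 + 1) + 1 := by ring
            rw [this, Nat.add_sub_cancel]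
          rw [hfac]
          apply Nat.Coprime.mul_right hc1
          by_contra hne
          obtain ⟨r, hr, hrd⟩ := Nat.exists_prime_and_dvd hne
          have h1' : r ∣ Nat.card G := hrd.trans (Nat.gcd_dvd_left _ _)
          have h2' : r ∣ p + 1 := hrd.trans (Nat.gcd_dvd_right _ _)
          have h3 := hmin r hr h1'
          have h4 := Nat.le_of_dvd (by omega) h2'
          have hrp : r ≠ p := by
            rintro rfl
            have : r ∣ 1 := (Nat.dvd_add_right dvd_rfl).mp h2'
            exact hr.one_lt.ne' (Nat.dvd_one.mp this)
          have hr1 : r = p + 1 := by omega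
          have hp2 : p = 2 := by
            rcases hp.eq_two_or_odd with h | h
            · exact h
            · exfalso
              have h5 : 2 ∣ r := by omega
              have h6 := (Nat.prime_dvd_prime_iff_eq Nat.prime_two hr).mp h5
              have h7 := hp.two_le
              omega
          have h3dvd : 3 ∣ Nat.card G := by
            rw [hr1, hp2] at h1'; exact h1'
          have hcardP : Nat.card (P : Subgroup G) = 2 := by
            have hk := P.card_eq_multiplicity
            have hkpos : 0 < (Nat.card G).factorization p :=
              hp.factorization_pos_of_dvd hG0 hpdvd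
            have hk' : p ^ (Nat.card G).factorization p ∣ Nat.card G := Nat.ordProj_dvd _ _
            have hkle : (Nat.card G).factorization p ≤ 1 := by
              by_contra hk2
              have h5 : p ^ 2 ∣ Nat.card G := (pow_dvd_pow p (by omega)).trans hk'
              rw [hp2] at h5
              apply h12
              have h6 : Nat.Coprime 4 3 := by norm_num
              exact h6.mul_dvd_of_dvd_of_dvd h5 h3dvd
            have hk1 : (Nat.card G).factorization p = 1 := by omega
            rw [hk, hk1, hp2, pow_one]
          have hrk : Group.rank (P : Subgroup G) ≤ 1 := by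
            haveI : Fact (Nat.Prime 2) := ⟨Nat.prime_two⟩
            haveI : IsCyclic (P : Subgroup G) := isCyclic_of_prime_card hcardP
            obtain ⟨g, hg⟩ := IsCyclic.exists_generator (α := (P : Subgroup G))
            have hcl : Subgroup.closure (({g} : Finset (P : Subgroup G)) : Set (P : Subgroup G)) = ⊤ := by
              rw [Finset.coe_singleton, ← Subgroup.zpowers_eq_closure]
              exact (Subgroup.eq_top_iff' _).mpr hg
            simpa using Group.rank_le hcl
          omega
      obtain ⟨P', N, hN, hcompl⟩ := Cfsg.Agent.S3969.result p P hab hcop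
      haveI := hN
      have hcard : Nat.card N * Nat.card (P' : Subgroup G) = Nat.card G := hcompl.card_mul_card
      have hkpos : 0 < (Nat.card G).factorization p := hp.factorization_pos_of_dvd hG0 hpdvd
      have hP'card : Nat.card (P' : Subgroup G) = p ^ (Nat.card G).factorization p :=
        P'.card_eq_multiplicity
      have hP'lt : 1 < Nat.card (P' : Subgroup G) := by
        rw [hP'card]; exact Nat.one_lt_pow hkpos.ne' hp.one_lt
      have hNpos : 0 < Nat.card N := Nat.card_pos
      have hNlt : Nat.card N < n := by
        rw [← hn, ← hcard]; exact lt_mul_of_one_lt_right hNpos hP'lt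
      have hpN : ¬ p ∣ Nat.card N := by
        rw [← hcompl.index_eq_card]; exact P'.not_dvd_index
      haveI hNsolv : Group.IsSolvable N := by
        apply ih (Nat.card N) hNlt N rfl
        · intro r hr hrN hq' R
          haveI : Fact r.Prime := ⟨hr⟩
          obtain ⟨q, hq1, hq2, hq3⟩ := hq'
          have hNG : Nat.card N ∣ Nat.card G := Subgroup.card_subgroup_dvd_card N
          have hrp : r ≠ p := by rintro rfl; exact hpN hrN
          have hfac : (Nat.card G).factorization r = (Nat.card N).factorization r := by
            rw [← hcard, Nat.factorization_mul hNpos.ne' (by omega), Finsupp.add_apply, hP'card]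
            have : (p ^ (Nat.card G).factorization p).factorization r = 0 := by
              apply Nat.factorization_eq_zero_of_not_dvd
              intro hdvd
              exact hrp ((Nat.prime_dvd_prime_iff_eq hr hp).mp (hr.dvd_of_dvd_pow hdvd))
            rw [this, add_zero]
          let e : (R : Subgroup N) ≃* ((R : Subgroup N).map N.subtype) :=
            Subgroup.equivMapOfInjective _ N.subtype N.subtype_injective
          have hcardR : Nat.card ((R : Subgroup N).map N.subtype) = r ^ (Nat.card G).factorization r := by
            rw [← Nat.card_congr e.toEquiv, R.card_eq_multiplicity, hfac]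
          obtain ⟨hab', hrank'⟩ := h r hr (hrN.trans hNG) ⟨q, hq1, hq2.trans hNG, hq3⟩
            (Sylow.ofCard ((R : Subgroup N).map N.subtype) hcardR)
          have hab'' : IsMulCommutative ((R : Subgroup N).map N.subtype) := hab'
          have hrank'' : Group.rank ((R : Subgroup N).map N.subtype) ≤ 2 := hrank'
          refine ⟨⟨⟨fun a b => e.injective ?_⟩⟩, ?_⟩
          · rw [map_mul, map_mul]; exact mul_comm' _ _
          · rw [Group.rank_congr e]; exact hrank''
        · intro h12N
          exact h12 (h12N.trans (Subgroup.card_subgroup_dvd_card N))
      haveI : Group.IsSolvable (G ⧸ N) := by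
        have hpg : IsPGroup p (G ⧸ N) := by
          apply IsPGroup.of_card (n := (Nat.card G).factorization p)
          rw [← Subgroup.index_eq_card]
          have h5 := N.card_mul_index
          rw [← hcard] at h5
          have h6 := Nat.eq_of_mul_eq_mul_left hNpos h5
          rw [h6, hP'card]
        haveI := hpg.isNilpotent
        infer_instance
      exact Group.isSolvable_of_ker_le_range N.subtype (QuotientGroup.mk' N) (by simp)
    · have hpg : IsPGroup p G := by
        apply IsPGroup.of_card (n := (Nat.card G).primeFactorsList.length)
        apply Nat.eq_prime_pow_of_unique_prime_dvd hG0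
        intro d hd hdd
        by_contra hne
        exact hq ⟨d, hd, hdd, lt_of_le_of_ne (hmin d hd hdd) (Ne.symm hne)⟩
      haveI := hpg.isNilpotent
      infer_instance


/-- Let `G` be a finite group such that for every prime `p` dividing its order, other than the largest such prime, the Sylow `p`-subgroups are abelian and generated by at most two elements, and suppose `12` does not divide the order of `G`. Then `G` is solvable. In particular a group of cube-free order not divisible by `12` is solvable. -/
theorem result {G : Type*} [Group G] [Finite G] (h : ∀ p : ℕ, p.Prime → p ∣ Nat.card G → (∃ q : ℕ, q.Prime ∧ q ∣ Nat.card G ∧ p < q) → ∀ P : Sylow p G, IsMulCommutative (P : Subgroup G) ∧ Group.rank (P : Subgroup G) ≤ 2) (h12 : ¬ 12 ∣ Nat.card G) : Group.IsSolvable G := by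
  exact aux (Nat.card G) G rfl h h12

end Cfsg.Agent.S3970
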