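import Cfsg.Statements.S3971
import Cfsg.Agent.Lib.helper67.Frobenius
import Cfsg.Agent.Lib.helper97.PNilp2

set_option autoImplicit false
open Cfsg

namespace Cfsg.Agent.S3971

/-- Let `G` be a finite group of order `2 ^ a * n` with `n` odd and not divisible by `3`, and suppose `G` has an element of order `2 ^ (a - 1)` (so a Sylow `2`-subgroup has a cyclic subgroup of index at most `2`). Then `G` has a normal subgroup of order `n`. -/
theorem result {G : Type*} [Group G] [Finite G] (a n : ℕ) (hG : Nat.card G = 2 ^ a * n) (hn : Odd n) (h3 : ¬ 3 ∣ n) (hx : ∃ x : G, orderOf x = 2 ^ (a - 1)) : ∃ N : Subgroup G, N.Normal ∧ Nat.card N = n := by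
  have : Fact (Nat.Prime 2) := ⟨Nat.prime_two⟩
  obtain ⟨x, hx⟩ := hx
  have hn0 : n ≠ 0 := by rintro rfl; simp at hn
  -- a Sylow 2-subgroup containing `x`
  have hxp : IsPGroup 2 (Subgroup.zpowers x) := by
    apply IsPGroup.of_card (n := a - 1)
    rw [Nat.card_zpowers, hx]
  obtain ⟨P, hP⟩ := hxp.exists_le_sylow
  have hcardP : Nat.card (P : Subgroup G) = 2 ^ a := by
    rw [P.card_eq_multiplicity, hG]
    congr 1
    rw [Nat.factorization_mul (pow_ne_zero a (by norm_num)) hn0]
    simp only [Finsupp.coe_add, Pi.add_apply, Nat.Prime.factorization_pow Nat.prime_two,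
      Finsupp.single_eq_same]
    have : n.factorization 2 = 0 := by
      apply Nat.factorization_eq_zero_of_not_dvd
      exact Nat.not_even_iff_odd.mpr hn ∘ even_iff_two_dvd.mpr
    omega
  -- index of `zpowers x` in `P`
  have hidxP : (Subgroup.zpowers x).relIndex (P : Subgroup G) ≤ 2 := by
    have h1 := Subgroup.relIndex_mul_relIndex (H := ⊥) (K := Subgroup.zpowers x)
      (L := (P : Subgroup G)) bot_le hP
    rw [Subgroup.relIndex_bot_left, Subgroup.relIndex_bot_left, Nat.card_zpowers, hx, hcardP,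
      mul_comm] at h1
    have h2 : (2 : ℕ) ^ a ≤ 2 * 2 ^ (a - 1) := by
      rw [← pow_succ']
      exact Nat.pow_le_pow_right (by norm_num) (by omega)
    rw [← h1] at h2
    exact Nat.le_of_mul_le_mul_right h2 (pow_pos (by norm_num) (a - 1))
  have hF : Cfsg.Agent.Lib.helper67.FrobCond 2 G := by
    apply Cfsg.Agent.Lib.helper67.frobCond_of_sylow P
    intro Q hQP g hgN hcop
    have hQ : IsPGroup 2 Q := P.isPGroup'.to_le hQP
    have hdvd : orderOf g ∣ n := by
      have h1 : orderOf g ∣ 2 ^ a * n := hG ▸ orderOf_dvd_natCard g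
      exact (Nat.Coprime.pow_right a hcop).dvd_of_dvd_mul_left h1
    have hcop3 : (orderOf g).Coprime 3 := by
      rw [Nat.coprime_comm, Nat.Prime.coprime_iff_not_dvd Nat.prime_three]
      exact fun h => h3 (h.trans hdvd)
    have hcop6 : (orderOf g).Coprime 6 := by
      have : (6 : ℕ) = 2 * 3 := by norm_num
      rw [this]
      exact Nat.Coprime.mul_right hcop hcop3
    have hidxQ : (Subgroup.zpowers x).relIndex Q ≤ 2 :=
      (Subgroup.relIndex_le_of_le_right hQP Subgroup.index_ne_zero_of_finite).trans hidxP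
    rw [Subgroup.mem_centralizer_iff]
    intro r hr
    exact (Cfsg.Agent.Lib.helper97.commute_of_cyclic_index_two g hcop6 x Q hQ hgN hidxQ r hr).eq.symm
  obtain ⟨N, hN, hc⟩ := hF.exists_normal_complement P
  refine ⟨N, hN, ?_⟩
  have h1 := hc.card_mul_card
  rw [hcardP, hG, mul_comm] at h1
  exact Nat.eq_of_mul_eq_mul_left (pow_pos (by norm_num) a) h1

end Cfsg.Agent.S3971
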