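import Cfsg.Statements.S3972
import Mathlib
import Cfsg.Agent.Lib.helper69.BurnsideSchur


set_option autoImplicit false
open Cfsg

namespace Cfsg.Agent.S3972

open Cfsg.Agent.Lib.helper69



/-- Let `p` be a prime, `m ≥ 2`, and `G` a transitive but not doubly transitive permutation group on `p ^ m` points containing a permutation of order `p ^ m` (necessarily a full cycle). Then `G` is imprimitive, and the normal closure in `G` of the `p ^ (m - 1)`-th power of that permutation is an intransitive normal subgroup. -/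
theorem result {Ω : Type*} [Fintype Ω] [DecidableEq Ω] (p m : ℕ) (hp : p.Prime) (hm : 2 ≤ m) (hΩ : Fintype.card Ω = p ^ m) (G : Subgroup (Equiv.Perm Ω)) (htr : MulAction.IsPretransitive G Ω) (h2 : ¬ MulAction.IsMultiplyPretransitive G Ω 2) (g : G) (hg : orderOf g = p ^ m) : ¬ MulAction.IsPreprimitive G Ω ∧ ¬ MulAction.IsPretransitive (Subgroup.normalClosure ({g ^ (p ^ (m - 1))} : Set G)) Ω := by
  classical
  have hm1 : 1 ≤ m := by omega
  haveI : NeZero (p ^ m) := ⟨pow_ne_zero _ hp.ne_zero⟩
  have hσ : orderOf (g : Equiv.Perm Ω) = p ^ m := by rw [Subgroup.orderOf_coe]; exact hg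
  obtain ⟨E, hE⟩ := exists_cycle_param hp hm1 hΩ (g : Equiv.Perm Ω) hσ
  obtain ⟨H, hbot, htop, hinv⟩ :=
    burnside_schur_transport hp hm rfl E G (g : Equiv.Perm Ω) g.2 hE h2
  have hk0 := zmod_ppow_pred_mem hp hm1 H hbot
  constructor
  · intro hprim
    have hB : MulAction.IsBlock G {ω : Ω | E.symm ω ∈ H} := by
      rw [MulAction.isBlock_iff_smul_eq_of_mem]
      intro γ a ha hγa
      have ha' : E.symm a ∈ H := ha
      have hγa' : E.symm ((γ : Equiv.Perm Ω) a) ∈ H := hγa
      ext b
      rw [Set.mem_smul_set_iff_inv_smul_mem]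
      show E.symm (((γ⁻¹ : G) : Equiv.Perm Ω) b) ∈ H ↔ E.symm b ∈ H
      constructor
      · intro hb
        have h1 := hinv (γ : Equiv.Perm Ω) γ.2 a (((γ⁻¹ : G) : Equiv.Perm Ω) b) (H.sub_mem hb ha')
        have h2 : (γ : Equiv.Perm Ω) (((γ⁻¹ : G) : Equiv.Perm Ω) b) = b := by simp
        rw [h2] at h1
        have := H.add_mem h1 hγa'
        simpa using this
      · intro hb
        have h1 := hinv ((γ⁻¹ : G) : Equiv.Perm Ω) (γ⁻¹).2 ((γ : Equiv.Perm Ω) a) b
          (H.sub_mem hb hγa')
        have h2 : ((γ⁻¹ : G) : Equiv.Perm Ω) ((γ : Equiv.Perm Ω) a) = a := by simp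
        rw [h2] at h1
        have := H.add_mem h1 ha'
        simpa using this
    rcases hprim.isTrivialBlock_of_isBlock hB with hsub | huniv
    · apply hbot
      rw [AddSubgroup.eq_bot_iff_forall]
      intro x hx
      have h1 : E x ∈ {ω : Ω | E.symm ω ∈ H} := by simpa using hx
      have h0 : E 0 ∈ {ω : Ω | E.symm ω ∈ H} := by simp [H.zero_mem]
      exact E.injective (hsub h1 h0)
    · apply htop
      rw [AddSubgroup.eq_top_iff']
      intro x
      have : E x ∈ {ω : Ω | E.symm ω ∈ H} := by rw [huniv]; trivial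
      simpa using this
  · intro htrans
    let K : Subgroup G :=
      { carrier := {γ | ∀ ω : Ω, E.symm ((γ : Equiv.Perm Ω) ω) - E.symm ω ∈ H}
        mul_mem' := by
          intro γ δ hγ hδ ω
          have h1 := hγ ((δ : Equiv.Perm Ω) ω)
          have h2 := hδ ω
          have := H.add_mem h1 h2
          simpa using this
        one_mem' := by intro ω; simp
        inv_mem' := by
          intro γ hγ ω
          have h1 := hγ (((γ⁻¹ : G) : Equiv.Perm Ω) ω)
          have h2 : (γ : Equiv.Perm Ω) (((γ⁻¹ : G) : Equiv.Perm Ω) ω) = ω := by simp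
          rw [h2] at h1
          have := H.neg_mem h1
          simpa using this }
    have hKn : K.Normal := by
      constructor
      intro γ hγ δ ω
      have h1 := hγ (((δ⁻¹ : G) : Equiv.Perm Ω) ω)
      have h2 := hinv (δ : Equiv.Perm Ω) δ.2 _ _ h1
      have h3 : (δ : Equiv.Perm Ω) (((δ⁻¹ : G) : Equiv.Perm Ω) ω) = ω := by simp
      rw [h3] at h2
      simpa using h2
    have hgK : g ^ (p ^ (m - 1)) ∈ K := by
      intro ω
      have h1 := hE (p ^ (m - 1)) (E.symm ω)
      rw [Equiv.apply_symm_apply] at h1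
      show E.symm (((g ^ (p ^ (m - 1)) : G) : Equiv.Perm Ω) ω) - E.symm ω ∈ H
      rw [Subgroup.coe_pow, h1, Equiv.symm_apply_apply, add_sub_cancel_right]
      exact hk0
    have hle : Subgroup.normalClosure ({g ^ (p ^ (m - 1))} : Set G) ≤ K :=
      Subgroup.normalClosure_le_normal (Set.singleton_subset_iff.2 hgK)
    apply htop
    rw [AddSubgroup.eq_top_iff']
    intro x
    obtain ⟨ν, hν⟩ := htrans.exists_smul_eq (E 0) (E x)
    have h1 := hle ν.2 (E 0)
    have h2 : (((ν : G) : Equiv.Perm Ω)) (E 0) = E x := hν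
    rw [h2] at h1
    simpa using h1

end Cfsg.Agent.S3972
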