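import Cfsg.Statements.S3973
import Mathlib
import Cfsg.Agent.Lib.helper69.HopfGen
import Cfsg.Agent.Lib.helper69.GenKer


set_option autoImplicit false
open Cfsg

namespace Cfsg.Agent.S3973


open Cfsg.Agent.Lib.helper69



/-- If a finite group is presented by `n` generators and a finite set of `r` relators, then its Schur multiplier can be generated by `r - n` elements. In particular a finite group with a presentation having as many relators as generators has trivial Schur multiplier. -/
theorem result (n : ℕ) (rels : Finset (FreeGroup (Fin n))) [Finite (PresentedGroup (rels : Set (FreeGroup (Fin n))))] {A : Type*} [CommGroup A] [Finite A] (hA : Cfsg.HasSchurMultiplier (PresentedGroup (rels : Set (FreeGroup (Fin n)))) A) : Group.rank A ≤ rels.card - n := by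
  classical
  let π : FreeGroup (Fin n) →* PresentedGroup (rels : Set (FreeGroup (Fin n))) :=
    PresentedGroup.mk (rels : Set (FreeGroup (Fin n)))
  have hπ : Function.Surjective π := PresentedGroup.mk_surjective _
  have hkerπ : π.ker = Subgroup.normalClosure (rels : Set (FreeGroup (Fin n))) :=
    QuotientGroup.ker_mk' _
  obtain ⟨e⟩ := nonempty_mulEquiv_of_free π hπ hA
  have hcen := presHom_ker_le_center π
  letI : CommGroup (presHom π).ker :=
    { (inferInstance : Group (presHom π).ker) with
      mul_comm := fun a b => Subtype.ext (Subgroup.mem_center_iff.mp (hcen b.2) (a : PresCov π)) }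
  -- generators of the kernel
  have hrelker : ∀ s : {x // x ∈ rels},
      (QuotientGroup.mk (s : FreeGroup (Fin n)) : PresCov π) ∈ (presHom π).ker := by
    intro s
    rw [MonoidHom.mem_ker, presHom_mk]
    have : (s : FreeGroup (Fin n)) ∈ π.ker := by
      rw [hkerπ]; exact Subgroup.subset_normalClosure (Finset.mem_coe.mpr s.2)
    exact MonoidHom.mem_ker.mp this
  let b : {x // x ∈ rels} → (presHom π).ker := fun s => ⟨_, hrelker s⟩
  have hb : Subgroup.closure (Set.range b) = ⊤ := by
    apply Subgroup.map_injective (presHom π).ker.subtype_injective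
    rw [MonoidHom.map_closure, ← MonoidHom.range_eq_map, Subgroup.range_subtype]
    apply le_antisymm
    · rw [Subgroup.closure_le]
      rintro _ ⟨_, ⟨s, rfl⟩, rfl⟩
      exact hrelker s
    · -- the closure is central, hence normal, and contains the relators
      set D : Subgroup (PresCov π) :=
        Subgroup.closure ((presHom π).ker.subtype '' Set.range b) with hD
      have hDle : D ≤ Subgroup.center (PresCov π) := by
        rw [hD, Subgroup.closure_le]
        rintro _ ⟨_, ⟨s, rfl⟩, rfl⟩
        exact hcen (hrelker s)
      haveI : D.Normal := normal_of_le_center' D hDle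
      rw [presHom_ker_eq_map, hkerπ, Subgroup.map_le_iff_le_comap]
      apply Subgroup.normalClosure_le_normal
      intro s hs
      rw [SetLike.mem_coe, Subgroup.mem_comap]
      apply Subgroup.subset_closure
      exact ⟨b ⟨s, Finset.mem_coe.mp hs⟩, ⟨⟨s, Finset.mem_coe.mp hs⟩, rfl⟩, rfl⟩
  -- the free abelian group
  haveI : Module.Free ℤ (Additive (Abelianization (FreeGroup (Fin n)))) :=
    Module.Free.of_basis (FreeAbelianGroup.basis (Fin n))
  haveI : Module.Finite ℤ (Additive (Abelianization (FreeGroup (Fin n)))) :=
    Module.Finite.of_basis (FreeAbelianGroup.basis (Fin n))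
  have hrk : Module.finrank ℤ (Additive (Abelianization (FreeGroup (Fin n)))) = n := by
    exact (Module.finrank_eq_card_basis (FreeAbelianGroup.basis (Fin n))).trans
      (Fintype.card_fin n)
  let ψ : (presHom π).ker →* Abelianization (FreeGroup (Fin n)) :=
    (presAb π).comp (presHom π).ker.subtype
  have hψ : ∀ w : Abelianization (FreeGroup (Fin n)), ∃ x : (presHom π).ker,
      ψ x = w ^ Nat.card (PresentedGroup (rels : Set (FreeGroup (Fin n)))) := by
    intro w
    obtain ⟨f, rfl⟩ := QuotientGroup.mk_surjective w
    refine ⟨⟨(QuotientGroup.mk f : PresCov π) ^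
      Nat.card (PresentedGroup (rels : Set (FreeGroup (Fin n)))), ?_⟩, ?_⟩
    · rw [MonoidHom.mem_ker, map_pow, pow_card_eq_one']
    · show presAb π ((QuotientGroup.mk f : PresCov π) ^ _) = _
      rw [map_pow, presAb_mk]
      rfl
  obtain ⟨T, hTcard, hT⟩ := exists_generators_ker b hb ψ
    (Nat.card (PresentedGroup (rels : Set (FreeGroup (Fin n))))) Nat.card_pos.ne' hψ
  rw [hrk] at hTcard
  have hcardι : Fintype.card {x // x ∈ rels} = rels.card := Fintype.card_coe rels
  rw [hcardι] at hTcard
  -- from the kernel of `ψ` onto `A`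
  let φ : ψ.ker →* ↥((presHom π).ker ⊓ commutator (PresCov π)) :=
    { toFun := fun x => ⟨((x : (presHom π).ker) : PresCov π),
        Subgroup.mem_inf.mpr ⟨(x : (presHom π).ker).2, presAb_ker_le π x.2⟩⟩
      map_one' := rfl
      map_mul' := fun _ _ => rfl }
  have hφ : Function.Surjective φ := by
    rintro ⟨y, hy⟩
    obtain ⟨hy1, hy2⟩ := Subgroup.mem_inf.mp hy
    exact ⟨⟨⟨y, hy1⟩, commutator_le_presAb_ker π hy2⟩, rfl⟩
  let Φ : ψ.ker →* A := e.symm.toMonoidHom.comp φ
  have hΦ : Function.Surjective Φ := e.symm.surjective.comp hφ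
  have hgen : Subgroup.closure ((T.image Φ : Finset A) : Set A) = ⊤ := by
    rw [Finset.coe_image, ← MonoidHom.map_closure, hT, Subgroup.map_top_of_surjective Φ hΦ]
  exact (Group.rank_le hgen).trans (Finset.card_image_le.trans hTcard)

end Cfsg.Agent.S3973
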