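import Cfsg.Statements.S3978
import Mathlib
import Cfsg.Agent.Lib.helper69.ProjRep
import Cfsg.Agent.Lib.helper69.Schur

set_option autoImplicit false
open Cfsg

namespace Cfsg.Agent.S3978

/-- A finite group `Q` has trivial Schur multiplier if and only if, for every `n`, every homomorphism from `Q` to the projective general linear group (the quotient of `GL n ℂ` by its centre) lifts to a homomorphism into `GL n ℂ`. -/
theorem result {Q : Type*} [Group Q] [Finite Q] : Cfsg.HasCyclicSchurMultiplier Q 1 ↔ ∀ (n : ℕ) (γ : Q →* (GL (Fin n) ℂ ⧸ Subgroup.center (GL (Fin n) ℂ))), ∃ ρ : Q →* GL (Fin n) ℂ, (QuotientGroup.mk' (Subgroup.center (GL (Fin n) ℂ))).comp ρ = γ := by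
  have hid : Cfsg.IsStemExtension (MonoidHom.id Q) :=
    ⟨Function.surjective_id, by rw [MonoidHom.ker_id]; exact bot_le, by rw [MonoidHom.ker_id]; exact bot_le⟩
  constructor
  · intro hA n γ
    have hk : Nonempty ((MonoidHom.id Q).ker ≃* Multiplicative (ZMod 1)) := by
      haveI : Subsingleton (Multiplicative (ZMod 1)) := by
        show Subsingleton (Fin 1); infer_instance
      exact ⟨{ toFun := fun _ => 1
               invFun := fun _ => 1
               left_inv := fun k => Subtype.ext (MonoidHom.mem_ker.mp k.2).symm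
               right_inv := fun a => Subsingleton.elim _ _
               map_mul' := fun _ _ => (one_mul 1).symm }⟩
    obtain ⟨ρ, hρ⟩ := Cfsg.Agent.Lib.helper69.exists_lift_of_cover hA (MonoidHom.id Q) hid hk
      (Cfsg.Agent.Lib.helper69.center_GL_complex_divisible n) γ
    exact ⟨ρ, hρ⟩
  · intro hlift
    apply Cfsg.Agent.Lib.helper69.hasCyclicSchurMultiplier_one_of_forall_ker_eq_bot
    intro Δ _ _ τ hτ
    obtain ⟨π, hπ⟩ := Cfsg.Agent.Lib.helper69.exists_surjective_ker_of_lifting (MonoidHom.id Q) hid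
      (fun n γ => by
        obtain ⟨ρ, hρ⟩ := hlift n γ
        exact ⟨ρ, hρ⟩) τ hτ
    rw [Subgroup.eq_bot_iff_forall]
    intro k hk
    obtain ⟨x, hx⟩ := hπ ⟨k, hk⟩
    have hx1 : x = 1 := Subtype.ext (MonoidHom.mem_ker.mp x.2)
    rw [hx1, map_one] at hx
    exact (congrArg Subtype.val hx).symm

end Cfsg.Agent.S3978
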