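import Cfsg.Statements.S3980
import Mathlib
import Cfsg.Agent.Lib.helper69.SchurCover

set_option autoImplicit false
universe u v w
open Cfsg
open scoped commutatorElement

namespace Cfsg.Agent.S3980

/-- If `y` has central commutators with the subgroup `Γ₁`, which maps onto `Q` with central
kernel, then these commutators are killed by the order of the abelianization of `Q`. -/
theorem comm_pow {Γ : Type*} [Group Γ] {Q : Type*} [Group Q] [Finite Q] (Γ₁ : Subgroup Γ)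
    (τ : Γ₁ →* Q) (hτ : Function.Surjective τ)
    (hker : ∀ x : Γ₁, τ x = 1 → (x : Γ) ∈ Subgroup.center Γ) (y : Γ)
    (hy : ∀ x ∈ Γ₁, x * y * x⁻¹ * y⁻¹ ∈ Subgroup.center Γ) (x : Γ) (hx : x ∈ Γ₁) :
    (x * y * x⁻¹ * y⁻¹) ^ Nat.card (Abelianization Q) = 1 := by
  -- the homomorphism `x ↦ [x, y]` into the centre
  let φ : Γ₁ →* Subgroup.center Γ := MonoidHom.mk' (fun x => ⟨(x : Γ) * y * (x : Γ)⁻¹ * y⁻¹, hy x x.2⟩)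
    (by
      intro a b
      apply Subtype.ext
      have hb := Subgroup.mem_center_iff.1 (hy b b.2)
      change ((a * b : Γ₁) : Γ) * y * ((a * b : Γ₁) : Γ)⁻¹ * y⁻¹ =
        ((a : Γ) * y * (a : Γ)⁻¹ * y⁻¹) * ((b : Γ) * y * (b : Γ)⁻¹ * y⁻¹)
      rw [Subgroup.coe_mul]
      calc (a : Γ) * b * y * ((a : Γ) * b)⁻¹ * y⁻¹
          = (a : Γ) * ((b : Γ) * y * (b : Γ)⁻¹ * y⁻¹) * (y * (a : Γ)⁻¹ * y⁻¹) := by group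
        _ = ((b : Γ) * y * (b : Γ)⁻¹ * y⁻¹) * (a : Γ) * (y * (a : Γ)⁻¹ * y⁻¹) := by rw [hb (a : Γ)]
        _ = ((b : Γ) * y * (b : Γ)⁻¹ * y⁻¹) * ((a : Γ) * y * (a : Γ)⁻¹ * y⁻¹) := by group
        _ = ((a : Γ) * y * (a : Γ)⁻¹ * y⁻¹) * ((b : Γ) * y * (b : Γ)⁻¹ * y⁻¹) :=
          (hb _).symm)
  have hφ : ∀ a : Γ₁, ((φ a : Subgroup.center Γ) : Γ) = (a : Γ) * y * (a : Γ)⁻¹ * y⁻¹ := fun a => rfl
  have hφk : ∀ a : Γ₁, (a : Γ) ∈ Subgroup.center Γ → φ a = 1 := by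
    intro a ha
    apply Subtype.ext
    rw [hφ, Subgroup.coe_one]
    have h1 := Subgroup.mem_center_iff.1 ha y
    rw [← h1, mul_inv_cancel_right, mul_inv_cancel]
  -- `τ x ^ n` is a product of commutators
  have h1 : τ ⟨x, hx⟩ ^ Nat.card (Abelianization Q) ∈ commutator Q := by
    have h2 : (Abelianization.of (τ ⟨x, hx⟩)) ^ Nat.card (Abelianization Q) = 1 := pow_card_eq_one'
    rw [← map_pow] at h2
    exact (QuotientGroup.eq_one_iff _).1 h2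
  have h3 : commutator Q = (commutator Γ₁).map τ := by
    rw [commutator_def, commutator_def, Subgroup.map_commutator,
      Subgroup.map_top_of_surjective τ hτ]
  rw [h3] at h1
  obtain ⟨d, hd, hdx⟩ := h1
  have h4 : φ d = 1 := by
    have hle : commutator Γ₁ ≤ φ.ker := by
      rw [commutator_def, Subgroup.commutator_le]
      intro g₁ _ g₂ _
      rw [MonoidHom.mem_ker, map_commutatorElement, commutatorElement_eq_one_iff_commute]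
      exact Subtype.ext (Subgroup.mem_center_iff.1 (φ g₂).2 (φ g₁ : Γ))
    exact hle hd
  have h5 : τ (⟨x, hx⟩ ^ Nat.card (Abelianization Q) * d⁻¹) = 1 := by
    rw [map_mul, map_inv, map_pow, hdx, mul_inv_cancel]
  have h6 : φ (⟨x, hx⟩ ^ Nat.card (Abelianization Q) * d⁻¹) = 1 := hφk _ (hker _ h5)
  rw [map_mul, map_inv, h4, inv_one, mul_one, map_pow] at h6
  have h7 := congrArg (fun z : Subgroup.center Γ => (z : Γ)) h6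
  simpa [hφ] using h7

/-- The product of two stem extensions is a stem extension. -/
theorem stem_prod {Γ₁ : Type*} {Γ₂ : Type*} {Q₁ : Type*} {Q₂ : Type*} [Group Γ₁] [Group Γ₂]
    [Group Q₁] [Group Q₂] (σ₁ : Γ₁ →* Q₁) (σ₂ : Γ₂ →* Q₂) (h₁ : Cfsg.IsStemExtension σ₁)
    (h₂ : Cfsg.IsStemExtension σ₂) : Cfsg.IsStemExtension (σ₁.prodMap σ₂) := by
  obtain ⟨hs₁, hc₁, hd₁⟩ := h₁
  obtain ⟨hs₂, hc₂, hd₂⟩ := h₂
  refine ⟨?_, ?_, ?_⟩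
  · rintro ⟨q₁, q₂⟩
    obtain ⟨x₁, rfl⟩ := hs₁ q₁
    obtain ⟨x₂, rfl⟩ := hs₂ q₂
    exact ⟨(x₁, x₂), rfl⟩
  · rintro ⟨x₁, x₂⟩ hx
    rw [MonoidHom.mem_ker] at hx
    have hx1 : σ₁ x₁ = 1 := congrArg Prod.fst hx
    have hx2 : σ₂ x₂ = 1 := congrArg Prod.snd hx
    rw [Subgroup.mem_center_iff]
    rintro ⟨g₁, g₂⟩
    exact Prod.ext (Subgroup.mem_center_iff.1 (hc₁ hx1) g₁)
      (Subgroup.mem_center_iff.1 (hc₂ hx2) g₂)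
  · rintro ⟨x₁, x₂⟩ hx
    rw [MonoidHom.mem_ker] at hx
    have hx1 : σ₁ x₁ = 1 := congrArg Prod.fst hx
    have hx2 : σ₂ x₂ = 1 := congrArg Prod.snd hx
    have e : ((x₁, x₂) : Γ₁ × Γ₂) = MonoidHom.inl Γ₁ Γ₂ x₁ * MonoidHom.inr Γ₁ Γ₂ x₂ := by
      simp
    rw [e]
    apply Subgroup.mul_mem
    · have hle : (commutator Γ₁).map (MonoidHom.inl Γ₁ Γ₂) ≤ commutator (Γ₁ × Γ₂) := by
        rw [commutator_def, commutator_def, Subgroup.map_commutator]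
        exact Subgroup.commutator_mono le_top le_top
      exact hle ⟨x₁, hd₁ hx1, rfl⟩
    · have hle : (commutator Γ₂).map (MonoidHom.inr Γ₁ Γ₂) ≤ commutator (Γ₁ × Γ₂) := by
        rw [commutator_def, commutator_def, Subgroup.map_commutator]
        exact Subgroup.commutator_mono le_top le_top
      exact hle ⟨x₂, hd₂ hx2, rfl⟩

/-- The kernel of a product map is the product of the kernels. -/
theorem ker_prod_equiv {Γ₁ : Type*} {Γ₂ : Type*} {Q₁ : Type*} {Q₂ : Type*} [Group Γ₁] [Group Γ₂]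
    [Group Q₁] [Group Q₂] (σ₁ : Γ₁ →* Q₁) (σ₂ : Γ₂ →* Q₂) :
    Nonempty ((σ₁.prodMap σ₂).ker ≃* σ₁.ker × σ₂.ker) :=
  ⟨{ toFun := fun k => (⟨k.1.1, congrArg Prod.fst k.2⟩, ⟨k.1.2, congrArg Prod.snd k.2⟩)
     invFun := fun ab => ⟨(ab.1.1, ab.2.1), Prod.ext ab.1.2 ab.2.2⟩
     left_inv := fun _ => rfl
     right_inv := fun _ => rfl
     map_mul' := fun _ _ => rfl }⟩

/-- The universal property for the direct product: the kernel of every stem extension of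
`Q₁ × Q₂` is an image of `A × B`. -/
theorem exists_surj {Q₁ : Type u} {Q₂ : Type v} [Group Q₁] [Group Q₂] [Finite Q₁] [Finite Q₂]
    {A B : Type w} [CommGroup A] [CommGroup B] (hA : Cfsg.HasSchurMultiplier Q₁ A)
    (hB : Cfsg.HasSchurMultiplier Q₂ B)
    (hcop : Nat.Coprime (Nat.card (Abelianization Q₁)) (Nat.card (Abelianization Q₂)))
    (Γ : Type (max u v)) [Group Γ] (σ : Γ →* Q₁ × Q₂) (hσ : Cfsg.IsStemExtension σ) :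
    ∃ π : A × B →* σ.ker, Function.Surjective π := by
  obtain ⟨hsurj, hcen, hder⟩ := hσ
  obtain ⟨Γ₁, hΓ₁⟩ : ∃ S : Subgroup Γ, S = ((MonoidHom.snd Q₁ Q₂).comp σ).ker := ⟨_, rfl⟩
  obtain ⟨Γ₂, hΓ₂⟩ : ∃ S : Subgroup Γ, S = ((MonoidHom.fst Q₁ Q₂).comp σ).ker := ⟨_, rfl⟩
  have hn₁ : Γ₁.Normal := hΓ₁ ▸ MonoidHom.normal_ker _
  have hn₂ : Γ₂.Normal := hΓ₂ ▸ MonoidHom.normal_ker _
  have hm₁ : ∀ x : Γ, x ∈ Γ₁ ↔ (σ x).2 = 1 := by intro x; rw [hΓ₁]; rfl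
  have hm₂ : ∀ x : Γ, x ∈ Γ₂ ↔ (σ x).1 = 1 := by intro x; rw [hΓ₂]; rfl
  have hcc : ∀ x ∈ Γ₁, ∀ y ∈ Γ₂, x * y * x⁻¹ * y⁻¹ ∈ σ.ker := by
    intro x hx y hy
    rw [MonoidHom.mem_ker]
    rw [hm₁] at hx; rw [hm₂] at hy
    apply Prod.ext
    · simp [hy]
    · simp [hx]
  have hτ₁s : Function.Surjective ((MonoidHom.fst Q₁ Q₂).comp (σ.comp Γ₁.subtype)) := by
    intro q
    obtain ⟨x, hx⟩ := hsurj (q, 1)
    exact ⟨⟨x, (hm₁ x).2 (by rw [hx])⟩, by change (σ x).1 = q; rw [hx]⟩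
  have hτ₂s : Function.Surjective ((MonoidHom.snd Q₁ Q₂).comp (σ.comp Γ₂.subtype)) := by
    intro q
    obtain ⟨x, hx⟩ := hsurj (1, q)
    exact ⟨⟨x, (hm₂ x).2 (by rw [hx])⟩, by change (σ x).2 = q; rw [hx]⟩
  have hτ₁k : ∀ x : Γ₁, ((MonoidHom.fst Q₁ Q₂).comp (σ.comp Γ₁.subtype)) x = 1 →
      (x : Γ) ∈ σ.ker := by
    intro x hx
    rw [MonoidHom.mem_ker]
    exact Prod.ext hx ((hm₁ x).1 x.2)
  have hτ₂k : ∀ x : Γ₂, ((MonoidHom.snd Q₁ Q₂).comp (σ.comp Γ₂.subtype)) x = 1 →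
      (x : Γ) ∈ σ.ker := by
    intro x hx
    rw [MonoidHom.mem_ker]
    exact Prod.ext ((hm₂ x).1 x.2) hx
  generalize hτ₁def : (MonoidHom.fst Q₁ Q₂).comp (σ.comp Γ₁.subtype) = τ₁ at hτ₁s hτ₁k
  generalize hτ₂def : (MonoidHom.snd Q₁ Q₂).comp (σ.comp Γ₂.subtype) = τ₂ at hτ₂s hτ₂k
  have hcomm : ∀ x ∈ Γ₁, ∀ y ∈ Γ₂, x * y = y * x := by
    intro x hx y hy
    have h1 := comm_pow Γ₁ τ₁ hτ₁s (fun a ha => hcen (hτ₁k a ha)) y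
      (fun a ha => hcen (hcc a ha y hy)) x hx
    have h2 := comm_pow Γ₂ τ₂ hτ₂s (fun a ha => hcen (hτ₂k a ha)) x (fun a ha => by
      have h0 := hcen (hcc x hx a ha)
      have e : a * x * a⁻¹ * x⁻¹ = (x * a * x⁻¹ * a⁻¹)⁻¹ := by group
      rw [e]; exact Subgroup.inv_mem _ h0) y hy
    have e : y * x * y⁻¹ * x⁻¹ = (x * y * x⁻¹ * y⁻¹)⁻¹ := by group
    rw [e, inv_pow, inv_eq_one] at h2
    have h3 : orderOf (x * y * x⁻¹ * y⁻¹) ∣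
        Nat.gcd (Nat.card (Abelianization Q₁)) (Nat.card (Abelianization Q₂)) :=
      Nat.dvd_gcd (orderOf_dvd_of_pow_eq_one h1) (orderOf_dvd_of_pow_eq_one h2)
    rw [hcop, Nat.dvd_one, orderOf_eq_one_iff] at h3
    calc x * y = (x * y * x⁻¹ * y⁻¹) * (y * x) := by group
      _ = y * x := by rw [h3, one_mul]
  have hdecomp : ∀ g : Γ, ∃ x₁ ∈ Γ₁, ∃ x₂ ∈ Γ₂, g = x₁ * x₂ := by
    intro g
    obtain ⟨x₁, hx₁⟩ := hsurj ((σ g).1, 1)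
    refine ⟨x₁, (hm₁ x₁).2 (by rw [hx₁]), x₁⁻¹ * g, (hm₂ _).2 ?_, by group⟩
    rw [map_mul, map_inv, hx₁]
    simp
  have hcomle : commutator Γ ≤ ⁅Γ₁, Γ₁⁆ ⊔ ⁅Γ₂, Γ₂⁆ := by
    rw [commutator_def, Subgroup.commutator_le]
    intro g _ h _
    obtain ⟨x₁, hx₁, x₂, hx₂, rfl⟩ := hdecomp g
    obtain ⟨y₁, hy₁, y₂, hy₂, rfl⟩ := hdecomp h
    have e : ⁅x₁ * x₂, y₁ * y₂⁆ = ⁅x₁, y₁⁆ * ⁅x₂, y₂⁆ := by
      rw [commutatorElement_def, commutatorElement_def, commutatorElement_def]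
      have c1 : x₂ * y₁ = y₁ * x₂ := (hcomm y₁ hy₁ x₂ hx₂).symm
      have c2 : (x₂ * y₂ * x₂⁻¹) * x₁⁻¹ = x₁⁻¹ * (x₂ * y₂ * x₂⁻¹) :=
        (hcomm x₁⁻¹ (Γ₁.inv_mem hx₁) _
          (Γ₂.mul_mem (Γ₂.mul_mem hx₂ hy₂) (Γ₂.inv_mem hx₂))).symm
      have c3 : (x₂ * y₂ * x₂⁻¹ * y₂⁻¹) * y₁⁻¹ = y₁⁻¹ * (x₂ * y₂ * x₂⁻¹ * y₂⁻¹) :=
        (hcomm y₁⁻¹ (Γ₁.inv_mem hy₁) _ (Γ₂.mul_mem (Γ₂.mul_mem (Γ₂.mul_mem hx₂ hy₂)
          (Γ₂.inv_mem hx₂)) (Γ₂.inv_mem hy₂))).symm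
      calc x₁ * x₂ * (y₁ * y₂) * (x₁ * x₂)⁻¹ * (y₁ * y₂)⁻¹
          = x₁ * (x₂ * y₁) * y₂ * x₂⁻¹ * x₁⁻¹ * y₂⁻¹ * y₁⁻¹ := by group
        _ = x₁ * (y₁ * x₂) * y₂ * x₂⁻¹ * x₁⁻¹ * y₂⁻¹ * y₁⁻¹ := by rw [c1]
        _ = x₁ * y₁ * ((x₂ * y₂ * x₂⁻¹) * x₁⁻¹) * y₂⁻¹ * y₁⁻¹ := by group
        _ = x₁ * y₁ * (x₁⁻¹ * (x₂ * y₂ * x₂⁻¹)) * y₂⁻¹ * y₁⁻¹ := by rw [c2]
        _ = x₁ * y₁ * x₁⁻¹ * ((x₂ * y₂ * x₂⁻¹ * y₂⁻¹) * y₁⁻¹) := by group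
        _ = x₁ * y₁ * x₁⁻¹ * (y₁⁻¹ * (x₂ * y₂ * x₂⁻¹ * y₂⁻¹)) := by rw [c3]
        _ = x₁ * y₁ * x₁⁻¹ * y₁⁻¹ * (x₂ * y₂ * x₂⁻¹ * y₂⁻¹) := by group
    rw [e]
    exact Subgroup.mul_mem _
      ((le_sup_left : ⁅Γ₁, Γ₁⁆ ≤ ⁅Γ₁, Γ₁⁆ ⊔ ⁅Γ₂, Γ₂⁆) (Subgroup.commutator_mem_commutator hx₁ hy₁))
      ((le_sup_right : ⁅Γ₂, Γ₂⁆ ≤ ⁅Γ₁, Γ₁⁆ ⊔ ⁅Γ₂, Γ₂⁆) (Subgroup.commutator_mem_commutator hx₂ hy₂))
  obtain ⟨π₁, hπ₁⟩ := Cfsg.Agent.Lib.helper69.exists_surjective_of_central hA τ₁ hτ₁s (by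
    intro x hx
    rw [Subgroup.mem_center_iff]
    intro g
    apply Subtype.ext
    exact Subgroup.mem_center_iff.1 (hcen (hτ₁k x hx)) g)
  obtain ⟨π₂, hπ₂⟩ := Cfsg.Agent.Lib.helper69.exists_surjective_of_central hB τ₂ hτ₂s (by
    intro x hx
    rw [Subgroup.mem_center_iff]
    intro g
    apply Subtype.ext
    exact Subgroup.mem_center_iff.1 (hcen (hτ₂k x hx)) g)
  let ι₁ : ↥(τ₁.ker ⊓ commutator Γ₁) →* σ.ker :=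
    MonoidHom.codRestrict (Γ₁.subtype.comp (Subgroup.subtype _)) σ.ker
      (fun x => hτ₁k x.1 x.2.1)
  let ι₂ : ↥(τ₂.ker ⊓ commutator Γ₂) →* σ.ker :=
    MonoidHom.codRestrict (Γ₂.subtype.comp (Subgroup.subtype _)) σ.ker
      (fun x => hτ₂k x.1 x.2.1)
  obtain ⟨Pi, hPi⟩ : ∃ Pi : A × B →* σ.ker, ∀ (a : A) (b : B), ((Pi (a, b) : σ.ker) : Γ) =
      (((π₁ a : ↥(τ₁.ker ⊓ commutator Γ₁)) : Γ₁) : Γ) *
        (((π₂ b : ↥(τ₂.ker ⊓ commutator Γ₂)) : Γ₂) : Γ) :=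
    ⟨MonoidHom.noncommCoprod (ι₁.comp π₁) (ι₂.comp π₂) (fun a b => Subtype.ext
      (Subgroup.mem_center_iff.1 (hcen ((ι₂.comp π₂) b).2) _)), fun a b => rfl⟩
  refine ⟨Pi, ?_⟩
  rintro ⟨k, hk⟩
  have hk' := hcomle (hder hk)
  have hnc : (⁅Γ₂, Γ₂⁆).Normal := Subgroup.commutator_normal Γ₂ Γ₂
  obtain ⟨c₁, hc₁, c₂, hc₂, hkc⟩ := Subgroup.mem_sup_of_normal_right.1 hk'
  have hc₁Γ : c₁ ∈ Γ₁ := Subgroup.commutator_le_left Γ₁ Γ₁ hc₁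
  have hc₂Γ : c₂ ∈ Γ₂ := Subgroup.commutator_le_left Γ₂ Γ₂ hc₂
  have hσc : σ c₁ * σ c₂ = 1 := by rw [← map_mul, hkc]; exact hk
  have h1 : σ c₁ = 1 := by
    apply Prod.ext
    · have h0 := congrArg Prod.fst hσc
      simp only [Prod.fst_mul, Prod.fst_one] at h0
      rw [(hm₂ c₂).1 hc₂Γ, mul_one] at h0
      exact h0
    · exact (hm₁ c₁).1 hc₁Γ
  have h2 : σ c₂ = 1 := by rw [h1, one_mul] at hσc; exact hσc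
  rw [← Subgroup.map_subtype_commutator] at hc₁ hc₂
  obtain ⟨d₁, hd₁, hd₁c⟩ := hc₁
  obtain ⟨d₂, hd₂, hd₂c⟩ := hc₂
  have hd₁c' : (d₁ : Γ) = c₁ := hd₁c
  have hd₂c' : (d₂ : Γ) = c₂ := hd₂c
  have hd₁k : d₁ ∈ τ₁.ker := by
    rw [MonoidHom.mem_ker, ← hτ₁def]
    change (σ (d₁ : Γ)).1 = 1
    rw [hd₁c', h1]; rfl
  have hd₂k : d₂ ∈ τ₂.ker := by
    rw [MonoidHom.mem_ker, ← hτ₂def]
    change (σ (d₂ : Γ)).2 = 1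
    rw [hd₂c', h2]; rfl
  obtain ⟨a, ha⟩ := hπ₁ ⟨d₁, hd₁k, hd₁⟩
  obtain ⟨b, hb⟩ := hπ₂ ⟨d₂, hd₂k, hd₂⟩
  refine ⟨(a, b), ?_⟩
  apply Subtype.ext
  rw [hPi, ha, hb]
  change (d₁ : Γ) * (d₂ : Γ) = k
  rw [hd₁c', hd₂c', hkc]

/-- Let `Q₁` and `Q₂` be finite groups whose commutator quotients have coprime orders, with Schur multipliers `A` and `B`. Then the Schur multiplier of `Q₁ × Q₂` is isomorphic to `A × B`. -/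
theorem result {Q₁ : Type u} {Q₂ : Type v} [Group Q₁] [Group Q₂] [Finite Q₁] [Finite Q₂] {A B : Type w} [CommGroup A] [CommGroup B] (hA : Cfsg.HasSchurMultiplier Q₁ A) (hB : Cfsg.HasSchurMultiplier Q₂ B) (hcop : Nat.Coprime (Nat.card (Abelianization Q₁)) (Nat.card (Abelianization Q₂))) : Cfsg.HasSchurMultiplier (Q₁ × Q₂) (A × B) := by
  constructor
  · obtain ⟨Γ₁, _, _, σ₁, hσ₁, ⟨e₁⟩⟩ := hA.1
    obtain ⟨Γ₂, _, _, σ₂, hσ₂, ⟨e₂⟩⟩ := hB.1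
    refine ⟨Γ₁ × Γ₂, inferInstance, inferInstance, σ₁.prodMap σ₂, stem_prod σ₁ σ₂ hσ₁ hσ₂, ?_⟩
    obtain ⟨e⟩ := ker_prod_equiv σ₁ σ₂
    exact ⟨e.trans (MulEquiv.prodCongr e₁ e₂)⟩
  · intro Γ _ _ σ hσ
    exact exists_surj hA hB hcop Γ σ hσ

end Cfsg.Agent.S3980
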