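import Cfsg.Statements.S3982
import Mathlib
import Cfsg.Agent.Lib.helper70.Basic
import Cfsg.Agent.Lib.helper70.PNorm
import Cfsg.Agent.Lib.helper70.Frattini

set_option autoImplicit false
open Cfsg

namespace Cfsg.Agent.S3982

/-- An involution normalizing a `p`-subgroup inverts it, when centralizers of nontrivial
`p`-elements have odd order. -/
theorem inverts {G : Type*} [Group G] [Finite G] (p : ℕ) [Fact p.Prime]
    (hC : ∀ g : G, g ≠ 1 → (∃ k : ℕ, orderOf g = p ^ k) →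
      Odd (Nat.card ↥(Subgroup.centralizer ({g} : Set G))))
    (R : Subgroup G) (hR : IsPGroup p ↥R) (t : G) (ht : orderOf t = 2)
    (htR : t ∈ Subgroup.normalizer (R : Set G)) : ∀ g ∈ R, t * g * t⁻¹ = g⁻¹ := by
  have hp : p.Prime := Fact.out
  have hfix : ∀ a ∈ R, t * a * t⁻¹ = a → a = 1 := by
    intro a ha hta
    by_contra hne
    have hodd := hC a hne (Cfsg.Agent.Lib.helper70.orderOf_eq_prime_pow_of_mem_isPGroup hp hR ha)
    have htC : t ∈ Subgroup.centralizer ({a} : Set G) := by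
      rw [Subgroup.mem_centralizer_iff]
      intro z hz
      rw [Set.mem_singleton_iff] at hz
      rw [hz]
      exact (mul_inv_eq_iff_eq_mul.1 hta).symm
    have h2 : 2 ∣ Nat.card (Subgroup.centralizer ({a} : Set G)) :=
      ht ▸ Subgroup.orderOf_dvd_natCard _ htC
    exact (Nat.not_even_iff_odd.2 hodd) (even_iff_two_dvd.2 h2)
  have hconjmem : ∀ a ∈ R, t * a * t⁻¹ ∈ R := fun a ha =>
    (Subgroup.mem_normalizer_iff.1 htR a).1 ha
  have htt : t * t = 1 := by rw [← pow_two, ← ht, pow_orderOf_eq_one]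
  have htinv : t⁻¹ = t := inv_eq_of_mul_eq_one_right htt
  have h_tt : ∀ a : G, a * t * t = a := by intro a; rw [mul_assoc, htt, mul_one]
  let f : R → R := fun g =>
    ⟨(g : G)⁻¹ * (t * g * t⁻¹), R.mul_mem (R.inv_mem g.2) (hconjmem _ g.2)⟩
  have hinj : Function.Injective f := by
    intro g h hgh
    have h1 : (g : G)⁻¹ * (t * g * t⁻¹) = (h : G)⁻¹ * (t * h * t⁻¹) := congrArg Subtype.val hgh
    have h3 : t * h * t⁻¹ = (h : G) * (g : G)⁻¹ * (t * g * t⁻¹) := by
      rw [mul_assoc (h : G), h1, mul_inv_cancel_left]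
    have h2 : t * ((h : G) * (g : G)⁻¹) * t⁻¹ = (h : G) * (g : G)⁻¹ := by
      calc t * ((h : G) * (g : G)⁻¹) * t⁻¹ = (t * h * t⁻¹) * (t * g * t⁻¹)⁻¹ := by group
        _ = (h : G) * (g : G)⁻¹ := by rw [h3, mul_inv_cancel_right]
    have h4 := hfix _ (R.mul_mem h.2 (R.inv_mem g.2)) h2
    exact Subtype.ext (mul_inv_eq_one.1 h4).symm
  have hsurj : Function.Surjective f := Finite.injective_iff_surjective.1 hinj
  intro u hu
  obtain ⟨g, hg⟩ := hsurj ⟨u, hu⟩
  have hu' : u = (g : G)⁻¹ * (t * g * t⁻¹) := (congrArg Subtype.val hg).symm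
  rw [hu', eq_inv_iff_mul_eq_one, htinv]
  simp only [← mul_assoc, h_tt, mul_inv_cancel_right, inv_mul_cancel_right, htt]

/-- The centralizer of a nontrivial `p`-subgroup has odd order. -/
theorem odd_card_centralizer {G : Type*} [Group G] [Finite G] (p : ℕ) [Fact p.Prime]
    (hC : ∀ g : G, g ≠ 1 → (∃ k : ℕ, orderOf g = p ^ k) →
      Odd (Nat.card ↥(Subgroup.centralizer ({g} : Set G))))
    (R : Subgroup G) (hR : IsPGroup p ↥R) (hR1 : R ≠ ⊥) :
    Odd (Nat.card ↥(Subgroup.centralizer (R : Set G))) := by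
  have hp : p.Prime := Fact.out
  obtain ⟨⟨g, hgR⟩, hg1'⟩ := (Subgroup.ne_bot_iff_exists_ne_one (H := R)).1 hR1
  have hg1 : g ≠ 1 := fun h => hg1' (Subtype.ext h)
  have hodd := hC g hg1 (Cfsg.Agent.Lib.helper70.orderOf_eq_prime_pow_of_mem_isPGroup hp hR hgR)
  have hle : Subgroup.centralizer (R : Set G) ≤ Subgroup.centralizer ({g} : Set G) :=
    Subgroup.centralizer_le (Set.singleton_subset_iff.2 hgR)
  exact Odd.of_dvd_nat hodd (Subgroup.card_dvd_of_le hle)

/-- No element of order 2 lies in a subgroup of odd order. -/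
theorem not_mem_of_odd {G : Type*} [Group G] [Finite G] (C : Subgroup G)
    (hodd : Odd (Nat.card ↥C)) (t : G) (ht : orderOf t = 2) : t ∉ C := by
  intro htC
  have h2 : 2 ∣ Nat.card C := ht ▸ Subgroup.orderOf_dvd_natCard _ htC
  exact (Nat.not_even_iff_odd.2 hodd) (even_iff_two_dvd.2 h2)

/-- A `p`-element normalizing a nontrivial `p`-subgroup that is normalized by an involution
centralizes it. -/
theorem pelem_centralizes {G : Type*} [Group G] [Finite G] (p : ℕ) [Fact p.Prime]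
    (hC : ∀ g : G, g ≠ 1 → (∃ k : ℕ, orderOf g = p ^ k) →
      Odd (Nat.card ↥(Subgroup.centralizer ({g} : Set G))))
    (R : Subgroup G) (hR : IsPGroup p ↥R) (hR1 : R ≠ ⊥) (t : G) (ht : orderOf t = 2)
    (htR : t ∈ Subgroup.normalizer (R : Set G)) (x : G)
    (hxN : x ∈ Subgroup.normalizer (R : Set G)) (hx : ∃ k : ℕ, orderOf x = p ^ k) :
    x ∈ Subgroup.centralizer (R : Set G) := by
  have hp : p.Prime := Fact.out
  have htt : t * t = 1 := by rw [← pow_two, ← ht, pow_orderOf_eq_one]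
  have htinv : t⁻¹ = t := inv_eq_of_mul_eq_one_right htt
  have hu : orderOf (x * t * x⁻¹) = 2 := by
    rw [← ht]; exact (MulAut.conj x).orderOf_eq t
  have huR : x * t * x⁻¹ ∈ Subgroup.normalizer (R : Set G) :=
    Subgroup.mul_mem _ (Subgroup.mul_mem _ hxN htR) (Subgroup.inv_mem _ hxN)
  have inv_t := inverts p hC R hR t ht htR
  have inv_u := inverts p hC R hR _ hu huR
  have huu : (x * t * x⁻¹) * (x * t * x⁻¹) = 1 := by
    rw [← pow_two, ← hu, pow_orderOf_eq_one]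
  have huinv : (x * t * x⁻¹)⁻¹ = x * t * x⁻¹ := inv_eq_of_mul_eq_one_right huu
  have hoddC := odd_card_centralizer p hC R hR hR1
  -- w = t * u centralizes R
  have hwC : t * (x * t * x⁻¹) ∈ Subgroup.centralizer (R : Set G) := by
    rw [Subgroup.mem_centralizer_iff]
    intro g hg
    have h1 := inv_u g hg
    have h2 := inv_t g⁻¹ (R.inv_mem hg)
    rw [inv_inv] at h2
    have h3 : t * (x * t * x⁻¹) * g * (t * (x * t * x⁻¹))⁻¹ = g := by
      calc t * (x * t * x⁻¹) * g * (t * (x * t * x⁻¹))⁻¹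
          = t * ((x * t * x⁻¹) * g * (x * t * x⁻¹)⁻¹) * t⁻¹ := by group
        _ = g := by rw [h1, h2]
    exact (mul_inv_eq_iff_eq_mul.1 h3).symm
  obtain ⟨k, hk⟩ : Odd (orderOf (t * (x * t * x⁻¹))) :=
    Odd.of_dvd_nat hoddC (Subgroup.orderOf_dvd_natCard _ hwC)
  -- h = w ^ k conjugates t to u
  have hhC : (t * (x * t * x⁻¹)) ^ k ∈ Subgroup.centralizer (R : Set G) :=
    Subgroup.pow_mem _ hwC k
  have hwinv : t * (t * (x * t * x⁻¹)) * t⁻¹ = (t * (x * t * x⁻¹))⁻¹ := by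
    rw [mul_inv_rev, huinv, ← mul_assoc t t, htt, one_mul]
  have hhinv : t * (t * (x * t * x⁻¹)) ^ k * t⁻¹ = ((t * (x * t * x⁻¹)) ^ k)⁻¹ := by
    rw [← conj_pow, hwinv, inv_pow]
  have hhh : (t * (x * t * x⁻¹)) ^ k * (t * (x * t * x⁻¹)) ^ k = (t * (x * t * x⁻¹))⁻¹ := by
    apply eq_inv_of_mul_eq_one_left
    rw [← pow_add, ← pow_succ, ← two_mul, ← hk, pow_orderOf_eq_one]
  have hconj : (t * (x * t * x⁻¹)) ^ k * t * ((t * (x * t * x⁻¹)) ^ k)⁻¹ = x * t * x⁻¹ := by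
    rw [← hhinv]
    calc (t * (x * t * x⁻¹)) ^ k * t * (t * (t * (x * t * x⁻¹)) ^ k * t⁻¹)
        = (t * (x * t * x⁻¹)) ^ k * (t * t) * (t * (x * t * x⁻¹)) ^ k * t⁻¹ := by group
      _ = (x * t * x⁻¹)⁻¹ := by
        rw [htt, mul_one, hhh, mul_inv_rev, mul_assoc, ← mul_inv_rev, htt, inv_one, mul_one]
      _ = x * t * x⁻¹ := huinv
  generalize (t * (x * t * x⁻¹)) ^ k = h at hhC hconj
  -- z = h⁻¹ * x commutes with t
  have hzt : (h⁻¹ * x) * t = t * (h⁻¹ * x) := by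
    have e : (h⁻¹ * x) * t = h⁻¹ * (x * t * x⁻¹) * x := by group
    rw [e, ← hconj]; group
  have hhN : h ∈ Subgroup.normalizer (R : Set G) := Subgroup.centralizer_le_normalizer _ hhC
  have hzN : h⁻¹ * x ∈ Subgroup.normalizer (R : Set G) :=
    Subgroup.mul_mem _ (Subgroup.inv_mem _ hhN) hxN
  have hzp : ¬ p ∣ orderOf (h⁻¹ * x) := by
    intro hd
    have ho : orderOf ((h⁻¹ * x) ^ (orderOf (h⁻¹ * x) / p)) = p :=
      orderOf_pow_orderOf_div (orderOf_pos _).ne' hd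
    have hne : (h⁻¹ * x) ^ (orderOf (h⁻¹ * x) / p) ≠ 1 := by
      intro h1
      rw [h1, orderOf_one] at ho
      exact hp.one_lt.ne ho
    have hodd := hC _ hne ⟨1, by rw [ho, pow_one]⟩
    apply not_mem_of_odd _ hodd t ht
    rw [Subgroup.mem_centralizer_iff]
    intro z hz
    rw [Set.mem_singleton_iff] at hz
    rw [hz]
    exact ((show Commute (h⁻¹ * x) t from hzt).pow_left _).eq
  -- conjugation by x and by z agree on R
  have hxz : ∀ g ∈ R, x * g * x⁻¹ = (h⁻¹ * x) * g * (h⁻¹ * x)⁻¹ := by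
    intro g hg
    have h1 : x * g * x⁻¹ ∈ R := (Subgroup.mem_normalizer_iff.1 hxN g).1 hg
    have h2 := (Subgroup.mem_centralizer_iff.1 hhC) _ h1
    have e : (h⁻¹ * x) * g * (h⁻¹ * x)⁻¹ = h⁻¹ * (x * g * x⁻¹ * h) := by group
    rw [e, h2, inv_mul_cancel_left]
  have hpow : ∀ j : ℕ, ∀ g ∈ R, x ^ j * g * (x ^ j)⁻¹ = (h⁻¹ * x) ^ j * g * ((h⁻¹ * x) ^ j)⁻¹ := by
    intro j
    induction j with
    | zero => intro g _; simp
    | succ j ih =>
      intro g hg
      have h1 : x * g * x⁻¹ ∈ R := (Subgroup.mem_normalizer_iff.1 hxN g).1 hg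
      have e1 : x ^ (j + 1) * g * (x ^ (j + 1))⁻¹ = x ^ j * (x * g * x⁻¹) * (x ^ j)⁻¹ := by
        rw [pow_succ]; group
      have e2 : (h⁻¹ * x) ^ (j + 1) * g * ((h⁻¹ * x) ^ (j + 1))⁻¹ =
          (h⁻¹ * x) ^ j * ((h⁻¹ * x) * g * (h⁻¹ * x)⁻¹) * ((h⁻¹ * x) ^ j)⁻¹ := by
        rw [pow_succ]
        generalize (h⁻¹ * x) ^ j = A
        group
      rw [e1, e2, ← hxz g hg]
      exact ih _ h1
  have hxn : x ^ orderOf (h⁻¹ * x) ∈ Subgroup.centralizer (R : Set G) := by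
    rw [Subgroup.mem_centralizer_iff]
    intro g hg
    have h1 := hpow (orderOf (h⁻¹ * x)) g hg
    rw [pow_orderOf_eq_one, one_mul, inv_one, mul_one] at h1
    exact (mul_inv_eq_iff_eq_mul.1 h1).symm
  obtain ⟨a, ha⟩ := hx
  have hxa : x ^ (p ^ a) ∈ Subgroup.centralizer (R : Set G) := by
    rw [← ha, pow_orderOf_eq_one]; exact Subgroup.one_mem _
  have hcop : Nat.Coprime (orderOf (h⁻¹ * x)) (p ^ a) :=
    Nat.Coprime.pow_right _ (Nat.Coprime.symm ((Nat.Prime.coprime_iff_not_dvd hp).2 hzp))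
  exact Cfsg.Agent.Lib.helper70.mem_of_pow_mem_of_coprime _ hcop hxn hxa

/-- A nontrivial `p`-subgroup with even normalizer, of maximal order among such, is a maximal
`p`-subgroup. -/
theorem max_is_sylow {G : Type*} [Group G] [Finite G] (p : ℕ) [Fact p.Prime]
    (hC : ∀ g : G, g ≠ 1 → (∃ k : ℕ, orderOf g = p ^ k) →
      Odd (Nat.card ↥(Subgroup.centralizer ({g} : Set G))))
    (R : Subgroup G) (hR : IsPGroup p ↥R) (hR1 : R ≠ ⊥)
    (hev : 2 ∣ Nat.card ↥(Subgroup.normalizer (R : Set G)))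
    (hmax : ∀ R' : Subgroup G, IsPGroup p ↥R' → R' ≠ ⊥ →
      2 ∣ Nat.card ↥(Subgroup.normalizer (R' : Set G)) → Nat.card ↥R' ≤ Nat.card ↥R)
    (R' : Subgroup G) (hR' : IsPGroup p ↥R') (hle : R ≤ R') : R' = R := by
  have hp : p.Prime := Fact.out
  by_contra hne
  have hlt : R < R' := lt_of_le_of_ne hle (Ne.symm hne)
  obtain ⟨r, hrR', hrN, hrR⟩ :=
    Cfsg.Agent.Lib.helper70.exists_mem_normalizer_not_mem_of_lt p R R' hR' hlt
  have : Fact (Nat.Prime 2) := ⟨Nat.prime_two⟩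
  obtain ⟨t', ht'⟩ := exists_prime_orderOf_dvd_card' 2 hev
  have ht : orderOf (t' : G) = 2 := by rw [Subgroup.orderOf_coe]; exact ht'
  have htN : (t' : G) ∈ Subgroup.normalizer (R : Set G) := t'.2
  generalize (t' : G) = t at ht htN
  have htt : t * t = 1 := by rw [← pow_two, ← ht, pow_orderOf_eq_one]
  have hrC : r ∈ Subgroup.centralizer (R : Set G) :=
    pelem_centralizes p hC R hR hR1 t ht htN r hrN
      (Cfsg.Agent.Lib.helper70.orderOf_eq_prime_pow_of_mem_isPGroup hp hR' hrR')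
  have inv_t := inverts p hC R hR t ht htN
  have hRC : R ≤ Subgroup.centralizer (R : Set G) := by
    intro g hg
    rw [Subgroup.mem_centralizer_iff]
    intro g' hg'
    have h1 := inv_t (g * g') (R.mul_mem hg hg')
    have h2 : t * (g * g') * t⁻¹ = (t * g * t⁻¹) * (t * g' * t⁻¹) := by group
    rw [h2, inv_t g' hg', inv_t g hg, ← mul_inv_rev] at h1
    exact inv_injective h1
  have hoddC := odd_card_centralizer p hC R hR hR1
  have hz : IsPGroup p (Subgroup.zpowers r) :=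
    hR'.to_le (by rw [Subgroup.zpowers_le]; exact hrR')
  have hR₂ : IsPGroup p (Subgroup.zpowers r ⊔ R : Subgroup G) :=
    hz.to_sup_of_normal_right' hR (by rw [Subgroup.zpowers_le]; exact hrN)
  have hR₂C : Subgroup.zpowers r ⊔ R ≤ Subgroup.centralizer (R : Set G) :=
    sup_le (by rw [Subgroup.zpowers_le]; exact hrC) hRC
  obtain ⟨P₀, hR₂P₀, hP₀C, hP₀p, hP₀card⟩ :=
    Cfsg.Agent.Lib.helper70.exists_sylow_of_subgroup_ge p _ _ hR₂ hR₂C
  have htC : t ∈ Subgroup.normalizer ((Subgroup.centralizer (R : Set G) : Subgroup G) : Set G) := by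
    apply Subgroup.mem_normalizer_fintype
    intro c hc
    rw [SetLike.mem_coe, Subgroup.mem_centralizer_iff] at hc ⊢
    intro g hg
    have h1 : t⁻¹ * g * t ∈ R := by
      have := (Subgroup.mem_normalizer_iff.1 (Subgroup.inv_mem _ htN) g).1 hg
      simpa using this
    have h2 := hc _ h1
    calc g * (t * c * t⁻¹) = t * ((t⁻¹ * g * t) * c) * t⁻¹ := by group
      _ = t * (c * (t⁻¹ * g * t)) * t⁻¹ := by rw [h2]
      _ = t * c * t⁻¹ * g := by group
  obtain ⟨h, hhC, hv⟩ :=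
    Cfsg.Agent.Lib.helper70.exists_mul_mem_normalizer_of_card p _ P₀ hP₀C hP₀card t htC
  have h2v : 2 ∣ orderOf (h * t) := by
    by_contra hnd
    obtain ⟨k, hk⟩ : Odd (orderOf (h * t)) :=
      Nat.not_even_iff_odd.1 (fun he => hnd (even_iff_two_dvd.1 he))
    have h1 := Cfsg.Agent.Lib.helper70.mul_pow_mul_inv_mem _ h t hhC htC (orderOf (h * t))
    rw [pow_orderOf_eq_one, one_mul, Subgroup.inv_mem_iff] at h1
    have h3 : t ^ orderOf (h * t) = t := by
      rw [hk, pow_succ, pow_mul, pow_two, htt, one_pow, one_mul]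
    rw [h3] at h1
    exact not_mem_of_odd _ hoddC t ht h1
  have h2N : 2 ∣ Nat.card (Subgroup.normalizer (P₀ : Set G)) :=
    h2v.trans (Subgroup.orderOf_dvd_natCard _ hv)
  have hRP₀ : R ≤ P₀ := le_sup_right.trans hR₂P₀
  have hP₀1 : P₀ ≠ ⊥ := by
    intro hbot
    apply hR1
    rw [eq_bot_iff, ← hbot]
    exact hRP₀
  have h5 := hmax P₀ hP₀p hP₀1 h2N
  have h6 : R = P₀ := Subgroup.eq_of_le_of_card_ge hRP₀ h5
  apply hrR
  rw [h6]
  exact hR₂P₀ ((le_sup_left : Subgroup.zpowers r ≤ Subgroup.zpowers r ⊔ R) (Subgroup.mem_zpowers r))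

/-- Let p be an odd prime and G a finite group of even order divisible by p in which the centralizer of every non-identity p-element has odd order. If some nontrivial p-subgroup of G has a normalizer of even order, then the normalizer of every Sylow p-subgroup of G has even order. -/
theorem result {G : Type*} [Group G] [Finite G] (p : ℕ) [Fact p.Prime] (hp2 : p ≠ 2) (hpG : p ∣ Nat.card G) (h2G : 2 ∣ Nat.card G) (hC : ∀ g : G, g ≠ 1 → (∃ k : ℕ, orderOf g = p ^ k) → Odd (Nat.card ↥(Subgroup.centralizer ({g} : Set G)))) (Q : Subgroup G) (hQ : IsPGroup p ↥Q) (hQ1 : Q ≠ ⊥) (hev : Even (Nat.card ↥(Subgroup.normalizer (Q : Set G)))) (P : Sylow p G) : Even (Nat.card ↥(Subgroup.normalizer ((P : Subgroup G) : Set G))) := by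
  classical
  have hp : p.Prime := Fact.out
  have hne : Nonempty {R : Subgroup G // IsPGroup p ↥R ∧ R ≠ ⊥ ∧
      2 ∣ Nat.card ↥(Subgroup.normalizer (R : Set G))} :=
    ⟨⟨Q, hQ, hQ1, even_iff_two_dvd.1 hev⟩⟩
  obtain ⟨⟨R, hR, hR1, hRev⟩, hmax⟩ := Finite.exists_max
    (fun R : {R : Subgroup G // IsPGroup p ↥R ∧ R ≠ ⊥ ∧
      2 ∣ Nat.card ↥(Subgroup.normalizer (R : Set G))} => Nat.card ↥(R : Subgroup G))
  have hmax' : ∀ R' : Subgroup G, IsPGroup p ↥R' → R' ≠ ⊥ →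
      2 ∣ Nat.card ↥(Subgroup.normalizer (R' : Set G)) → Nat.card ↥R' ≤ Nat.card ↥R :=
    fun R' h1 h2 h3 => hmax ⟨R', h1, h2, h3⟩
  obtain ⟨P₁, hP₁⟩ := hR.exists_le_sylow
  have hP₁R : (P₁ : Subgroup G) = R := max_is_sylow p hC R hR hR1 hRev hmax' P₁ P₁.2 hP₁
  obtain ⟨g, hg⟩ := MulAction.exists_smul_eq G P₁ P
  have : Fact (Nat.Prime 2) := ⟨Nat.prime_two⟩
  obtain ⟨t', ht'⟩ := exists_prime_orderOf_dvd_card' 2 hRev
  have ht : orderOf (t' : G) = 2 := by rw [Subgroup.orderOf_coe]; exact ht'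
  have htN : (t' : G) ∈ Subgroup.normalizer (R : Set G) := t'.2
  rw [even_iff_two_dvd]
  have hmem : g * t' * g⁻¹ ∈ Subgroup.normalizer ((P : Subgroup G) : Set G) := by
    apply Subgroup.mem_normalizer_fintype
    intro y hy
    rw [SetLike.mem_coe, ← hg, Cfsg.Agent.Lib.helper70.mem_sylow_smul_iff] at hy ⊢
    rw [hP₁R] at hy ⊢
    have := (Subgroup.mem_normalizer_iff.1 htN _).1 hy
    convert this using 1
    group
  have ho : orderOf (g * (t' : G) * g⁻¹) = 2 := by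
    rw [← ht]; exact (MulAut.conj g).orderOf_eq _
  rw [← ho]
  exact Subgroup.orderOf_dvd_natCard _ hmem

end Cfsg.Agent.S3982
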