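import Cfsg.Statements.S3983
import Mathlib
import Cfsg.Agent.Lib.helper70.TI

set_option autoImplicit false
open scoped Pointwise
open Cfsg

namespace Cfsg.Agent.S3983

/-- Let P be a Sylow p-subgroup of the finite group G that meets each conjugate g P g⁻¹ with g outside N_G(P) trivially, and let U be a subgroup of G of order divisible by p. Then a Sylow p-subgroup Q of U has the same property inside U: Q meets each conjugate u Q u⁻¹ with u ∈ U outside N_U(Q) trivially. -/
theorem result {G : Type*} [Group G] [Finite G] (p : ℕ) [Fact p.Prime] (P : Sylow p G) (hTI : ∀ g : G, g ∉ Subgroup.normalizer ((P : Subgroup G) : Set G) → (P : Subgroup G) ⊓ (MulAut.conj g • (P : Subgroup G)) = ⊥) (U : Subgroup G) (hU : p ∣ Nat.card ↥U) (Q : Sylow p ↥U) : ∀ u : ↥U, u ∉ Subgroup.normalizer ((Q : Subgroup ↥U) : Set ↥U) → (Q : Subgroup ↥U) ⊓ (MulAut.conj u • (Q : Subgroup ↥U)) = ⊥ := by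
  classical
  intro u
  obtain ⟨P', hP'⟩ := Sylow.exists_comap_subtype_eq Q
  have hmemQ : ∀ w : U, w ∈ (Q : Subgroup U) ↔ (w : G) ∈ (P' : Subgroup G) := by
    intro w
    rw [← hP', Subgroup.mem_comap]; rfl
  have hel := Cfsg.Agent.Lib.helper70.ti_elem_of_ti (P : Subgroup G) hTI
  have hel' := Cfsg.Agent.Lib.helper70.ti_elem_sylow P P' hel
  refine Cfsg.Agent.Lib.helper70.ti_of_ti_elem (Q : Subgroup U) ?_ u
  intro g x hx hgx hx1
  have hg : (g : G) ∈ Subgroup.normalizer ((P' : Subgroup G) : Set G) := by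
    refine hel' (g : G) (x : G) ((hmemQ x).1 hx) ?_ ?_
    · have := (hmemQ _).1 hgx
      simpa using this
    · intro h; apply hx1; exact Subtype.ext h
  apply Subgroup.mem_normalizer_fintype
  intro n hn
  rw [SetLike.mem_coe, hmemQ] at hn ⊢
  have h1 : (g : G) * (n : G) * (g : G)⁻¹ ∈ (P' : Subgroup G) := (hg (n : G)).1 hn
  simpa using h1

end Cfsg.Agent.S3983
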