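import Cfsg.Statements.S3984
import Mathlib
import Cfsg.Agent.Lib.helper70.Basic
import Cfsg.Agent.Lib.helper70.TI

set_option autoImplicit false
open scoped Pointwise
open Cfsg

namespace Cfsg.Agent.S3984

/-- Let P be a Sylow p-subgroup of the finite group G that meets each conjugate g P g⁻¹ with g outside N_G(P) trivially, and let N be a normal subgroup of G of order prime to p. Then every Sylow p-subgroup Q of G ⧸ N meets each conjugate x Q x⁻¹ with x outside its normalizer trivially. -/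
theorem result {G : Type*} [Group G] [Finite G] (p : ℕ) [Fact p.Prime] (P : Sylow p G) (hTI : ∀ g : G, g ∉ Subgroup.normalizer ((P : Subgroup G) : Set G) → (P : Subgroup G) ⊓ (MulAut.conj g • (P : Subgroup G)) = ⊥) (N : Subgroup G) [N.Normal] (hN : (Nat.card ↥N).Coprime p) (Q : Sylow p (G ⧸ N)) : ∀ x : G ⧸ N, x ∉ Subgroup.normalizer ((Q : Subgroup (G ⧸ N)) : Set (G ⧸ N)) → (Q : Subgroup (G ⧸ N)) ⊓ (MulAut.conj x • (Q : Subgroup (G ⧸ N))) = ⊥ := by
  classical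
  intro γ₀
  obtain ⟨P', hP'⟩ := Sylow.mapSurjective_surjective (QuotientGroup.mk'_surjective N) p Q
  have hmemQ : ∀ ζ : G ⧸ N, ζ ∈ (Q : Subgroup (G ⧸ N)) ↔
      ∃ c ∈ (P' : Subgroup G), (c : G ⧸ N) = ζ := by
    intro ζ
    rw [← hP', Sylow.coe_mapSurjective, Subgroup.mem_map]; rfl
  have hel := Cfsg.Agent.Lib.helper70.ti_elem_of_ti (P : Subgroup G) hTI
  have hel' := Cfsg.Agent.Lib.helper70.ti_elem_sylow P P' hel
  refine Cfsg.Agent.Lib.helper70.ti_of_ti_elem (Q : Subgroup (G ⧸ N)) ?_ γ₀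
  intro γ ξ hξ hγξ hξ1
  obtain ⟨g, rfl⟩ := QuotientGroup.mk_surjective γ
  obtain ⟨a, ha, rfl⟩ := (hmemQ ξ).1 hξ
  obtain ⟨b, hb, hbeq⟩ := (hmemQ _).1 hγξ
  have hy : g * a * g⁻¹ ∈ (P' : Subgroup G) ⊔ N := by
    have h1 : b⁻¹ * (g * a * g⁻¹) ∈ N := by
      rw [← QuotientGroup.eq, hbeq]
      simp
    have h2 : g * a * g⁻¹ = b * (b⁻¹ * (g * a * g⁻¹)) := by group
    rw [h2]
    exact Subgroup.mul_mem _ ((le_sup_left : (P' : Subgroup G) ≤ _) hb)
      ((le_sup_right : N ≤ (P' : Subgroup G) ⊔ N) h1)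
  have hyo : ∃ k, orderOf (g * a * g⁻¹) = p ^ k := by
    obtain ⟨k, hk⟩ := Cfsg.Agent.Lib.helper70.orderOf_eq_prime_pow_of_mem_isPGroup
      (Fact.out : p.Prime) P'.2 ha
    refine ⟨k, ?_⟩
    have h1 : g * a * g⁻¹ = MulAut.conj g a := rfl
    rw [h1, MulEquiv.orderOf_eq, hk]
  obtain ⟨n, hn, hn'⟩ := Cfsg.Agent.Lib.helper70.exists_conj_mem_sylow_of_mem_sup P' N _ hy hyo
  have ha1 : a ≠ 1 := by
    rintro rfl
    exact hξ1 (by simp)
  have hng : n * g ∈ Subgroup.normalizer ((P' : Subgroup G) : Set G) := by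
    refine hel' (n * g) a ha ?_ ha1
    have h1 : n * g * a * (n * g)⁻¹ = n * (g * a * g⁻¹) * n⁻¹ := by group
    rw [h1]; exact hn'
  apply Subgroup.mem_normalizer_fintype
  intro ζ hζ
  rw [SetLike.mem_coe, hmemQ] at hζ ⊢
  obtain ⟨c, hc, rfl⟩ := hζ
  refine ⟨n * g * c * (n * g)⁻¹, (hng c).1 hc, ?_⟩
  have hn1 : (n : G ⧸ N) = 1 := (QuotientGroup.eq_one_iff n).2 hn
  simp [hn1]

end Cfsg.Agent.S3984
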