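import Cfsg.Statements.S3985
import Mathlib
import Cfsg.Agent.Lib.helper70.Basic
import Cfsg.Agent.Lib.helper70.TI

set_option autoImplicit false
open scoped Pointwise
open Cfsg

namespace Cfsg.Agent.S3985

/-- Let P be a cyclic Sylow p-subgroup of the finite group G. Then P meets each conjugate g P g⁻¹ with g outside N_G(P) trivially if and only if P is weakly self-centralizing: C_G(x) = C_G(P) for every non-identity x ∈ P. -/
theorem result {G : Type*} [Group G] [Finite G] (p : ℕ) [Fact p.Prime] (P : Sylow p G) (hcyc : IsCyclic ↥(P : Subgroup G)) : (∀ g : G, g ∉ Subgroup.normalizer ((P : Subgroup G) : Set G) → (P : Subgroup G) ⊓ (MulAut.conj g • (P : Subgroup G)) = ⊥) ↔ ∀ x : G, x ∈ (P : Subgroup G) → x ≠ 1 → Subgroup.centralizer ({x} : Set G) = Subgroup.centralizer ((P : Subgroup G) : Set G) := by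
  classical
  have hp : p.Prime := Fact.out
  -- a generator of P
  obtain ⟨y0, hy0⟩ := hcyc.exists_generator
  have hPy : ∀ z ∈ (P : Subgroup G), z ∈ Subgroup.zpowers (y0 : G) := by
    intro z hz
    obtain ⟨i, hi⟩ := Subgroup.mem_zpowers_iff.1 (hy0 ⟨z, hz⟩)
    rw [Subgroup.mem_zpowers_iff]
    refine ⟨i, ?_⟩
    have := congrArg Subtype.val hi
    simpa using this
  have hyP : (y0 : G) ∈ (P : Subgroup G) := y0.2
  have hcommP : ∀ a ∈ (P : Subgroup G), ∀ b ∈ (P : Subgroup G), a * b = b * a := by
    intro a ha b hb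
    obtain ⟨i, hi⟩ := Subgroup.mem_zpowers_iff.1 (hPy a ha)
    obtain ⟨j, hj⟩ := Subgroup.mem_zpowers_iff.1 (hPy b hb)
    rw [← hi, ← hj, ← zpow_add, ← zpow_add, add_comm]
  constructor
  · intro hTI x hxP hx1
    have hel := Cfsg.Agent.Lib.helper70.ti_elem_of_ti (P : Subgroup G) hTI
    apply le_antisymm
    · intro g hg
      rw [Subgroup.mem_centralizer_iff] at hg
      have hgx : x * g = g * x := hg x rfl
      have hgx' : g * x * g⁻¹ = x := by rw [← hgx]; group
      have hgN : g ∈ Subgroup.normalizer ((P : Subgroup G) : Set G) :=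
        hel g x hxP (by rw [hgx']; exact hxP) hx1
      obtain ⟨n, hn⟩ := Cfsg.Agent.Lib.helper70.orderOf_eq_prime_pow_of_mem_isPGroup hp P.2 hyP
      have hn0 : n ≠ 0 := by
        rintro rfl
        rw [pow_zero, orderOf_eq_one_iff] at hn
        have h1 := hPy x hxP
        rw [hn, Subgroup.zpowers_one_eq_bot, Subgroup.mem_bot] at h1
        exact hx1 h1
      obtain ⟨n', rfl⟩ := Nat.exists_eq_succ_of_ne_zero hn0
      have hxy := hPy x hxP
      rw [← (isOfFinOrder_of_finite (y0 : G)).mem_powers_iff_mem_zpowers] at hxy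
      obtain ⟨j, hj⟩ := hxy
      have hj' : (y0 : G) ^ j = x := hj
      have hgy : g * (y0 : G) * g⁻¹ ∈ Subgroup.zpowers (y0 : G) := hPy _ ((hgN (y0 : G)).1 hyP)
      have hA := Cfsg.Agent.Lib.helper70.commute_pow_of_fix_of_cyclic_pgroup hp hn hgy (j := j)
        (by rw [hj']; exact hx1) (by rw [hj']; exact hgx')
      set r := (P : Subgroup G).relIndex (Subgroup.normalizer ((P : Subgroup G) : Set G)) with hr
      have hgr : g ^ r ∈ (P : Subgroup G) := by
        have h1 := Subgroup.pow_index_mem
          ((P : Subgroup G).subgroupOf (Subgroup.normalizer ((P : Subgroup G) : Set G))) ⟨g, hgN⟩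
        rw [Subgroup.mem_subgroupOf] at h1
        have h2 : g ^ ((P : Subgroup G).subgroupOf
            (Subgroup.normalizer ((P : Subgroup G) : Set G))).index ∈ (P : Subgroup G) := by
          simpa using h1
        exact h2
      have hrp : Nat.Coprime r (p ^ n') := by
        apply Nat.Coprime.pow_right
        rw [Nat.coprime_comm, Nat.Prime.coprime_iff_not_dvd hp]
        intro hdvd
        exact P.not_dvd_index (hdvd.trans (Subgroup.relIndex_dvd_index_of_le Subgroup.le_normalizer))
      have hgS : g ∈ Subgroup.centralizer ({(y0 : G)} : Set G) := by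
        apply Cfsg.Agent.Lib.helper70.mem_of_pow_mem_of_coprime _ hrp
        · rw [Subgroup.mem_centralizer_iff]
          intro z hz
          rw [Set.mem_singleton_iff] at hz
          rw [hz]
          exact hcommP _ hyP _ hgr
        · rw [Subgroup.mem_centralizer_iff]
          intro z hz
          rw [Set.mem_singleton_iff] at hz
          rw [hz]
          exact hA.eq.symm
      rw [Subgroup.mem_centralizer_iff] at hgS ⊢
      intro z hz
      obtain ⟨i, hi⟩ := Subgroup.mem_zpowers_iff.1 (hPy z hz)
      rw [← hi]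
      have h1 : Commute (y0 : G) g := hgS (y0 : G) rfl
      exact (h1.zpow_left i).eq
    · exact Subgroup.centralizer_le (Set.singleton_subset_iff.2 hxP)
  · intro hC
    apply Cfsg.Agent.Lib.helper70.ti_of_ti_elem
    intro g x hxP hgxP hx1
    have hx1' : g * x * g⁻¹ ≠ 1 := by
      intro h
      apply hx1
      have h1 : x = g⁻¹ * (g * x * g⁻¹) * g := by group
      rw [h1, h]; group
    have hle : (P : Subgroup G) ≤ Subgroup.centralizer ((P : Subgroup G) : Set G) := by
      intro a ha
      rw [Subgroup.mem_centralizer_iff]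
      intro b hb
      exact hcommP b hb a ha
    have hle' : ((g • P : Sylow p G) : Subgroup G) ≤ Subgroup.centralizer ((P : Subgroup G) : Set G) := by
      intro w hw
      rw [Cfsg.Agent.Lib.helper70.mem_sylow_smul_iff] at hw
      rw [← hC (g * x * g⁻¹) hgxP hx1', Subgroup.mem_centralizer_iff]
      intro z hz
      rw [Set.mem_singleton_iff] at hz
      rw [hz]
      have h1 := hcommP x hxP _ hw
      calc g * x * g⁻¹ * w = g * (x * (g⁻¹ * w * g)) * g⁻¹ := by group
        _ = g * ((g⁻¹ * w * g) * x) * g⁻¹ := by rw [h1]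
        _ = w * (g * x * g⁻¹) := by group
    obtain ⟨c, hc⟩ := MulAction.exists_smul_eq (Subgroup.centralizer ((P : Subgroup G) : Set G))
      (P.subtype hle) ((g • P : Sylow p G).subtype hle')
    rw [Sylow.smul_subtype] at hc
    have hc' : c • P = g • P := Sylow.subtype_injective hc
    have hcN : (c : G) • P = P := by
      rw [Sylow.smul_eq_iff_mem_normalizer]
      exact Subgroup.centralizer_le_normalizer _ c.2
    have hgP : g • P = P := by
      rw [← hc']; exact hcN
    exact Sylow.smul_eq_iff_mem_normalizer.1 hgP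

end Cfsg.Agent.S3985
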