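import Cfsg.Statements.S3986
import Mathlib
import Cfsg.Agent.Lib.helper70.Basic

set_option autoImplicit false
open Cfsg
open scoped Pointwise

namespace Cfsg.Agent.S3986

/-- If `p`-elements commute with all elements of prime power order for primes other than `p`,
then they commute with all elements of order prime to `p`. -/
theorem commute_of_not_dvd {G : Type*} [Group G] [Finite G] (p : ℕ)
    (h : ∀ x y : G, (∃ a : ℕ, orderOf x = p ^ a) →
      (∃ q b : ℕ, q.Prime ∧ q ≠ p ∧ orderOf y = q ^ b) → x * y = y * x)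
    (x y : G) (hx : ∃ a : ℕ, orderOf x = p ^ a) (hy : ¬ p ∣ orderOf y) : x * y = y * x := by
  have key : y ∈ Subgroup.centralizer ({x} : Set G) := by
    apply Cfsg.Agent.Lib.helper70.mem_of_prime_pow_powers_mem' _ y (orderOf_pos y)
    intro q k e hq hqe
    rw [Subgroup.mem_centralizer_iff]
    intro z hz
    rw [Set.mem_singleton_iff] at hz
    rw [hz]
    rcases Nat.eq_zero_or_pos k with hk | hk
    · rw [hk, pow_zero, orderOf_eq_one_iff] at hqe
      rw [hqe, mul_one, one_mul]
    · refine h x (y ^ e) hx ⟨q, k, hq, ?_, hqe⟩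
      rintro rfl
      apply hy
      have h1 : q ∣ orderOf (y ^ e) := by rw [hqe]; exact dvd_pow_self q hk.ne'
      exact h1.trans (orderOf_pow_dvd e)
  rw [Subgroup.mem_centralizer_iff] at key
  exact key x rfl

/-- The forward direction, with the explicit subgroups. -/
theorem commute_of_direct_factor {G : Type*} [Group G] [Finite G] (p : ℕ) [Fact p.Prime]
    (P : Sylow p G) (K : Subgroup G) (hPn : (P : Subgroup G).Normal) (hKn : K.Normal)
    (hinf : (P : Subgroup G) ⊓ K = ⊥) (hsup : (P : Subgroup G) ⊔ K = ⊤)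
    (x y : G) (hx : ∃ a : ℕ, orderOf x = p ^ a)
    (hy : ∃ q b : ℕ, q.Prime ∧ q ≠ p ∧ orderOf y = q ^ b) :
    x ∈ (P : Subgroup G) ∧ y ∈ K ∧ x * y = y * x := by
  have hp : p.Prime := Fact.out
  obtain ⟨a, ha⟩ := hx
  obtain ⟨q, b, hq, hqp, hb⟩ := hy
  have hxP : x ∈ (P : Subgroup G) := by
    have hz : IsPGroup p (Subgroup.zpowers x) :=
      IsPGroup.of_card (n := a) (by rw [Nat.card_zpowers, ha])
    obtain ⟨Q, hQ⟩ := hz.exists_le_sylow
    have := Sylow.unique_of_normal P hPn
    have hQP : Q = P := Subsingleton.elim _ _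
    rw [← hQP]; exact hQ (Subgroup.mem_zpowers x)
  have hyK : y ∈ K := by
    have hidx : K.index ∣ Nat.card (P : Subgroup G) := by
      haveI := hKn
      have h1 : K.relIndex ((P : Subgroup G) ⊔ K) = K.relIndex (P : Subgroup G) :=
        Subgroup.relIndex_sup_right (P : Subgroup G) K
      rw [hsup, Subgroup.relIndex_top_right] at h1
      rw [h1]; exact Subgroup.relIndex_dvd_card K (P : Subgroup G)
    obtain ⟨n, hn⟩ := IsPGroup.iff_card.1 P.2
    rw [hn] at hidx
    obtain ⟨i, -, hi⟩ := (Nat.dvd_prime_pow hp).1 hidx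
    have h1 : y ^ K.index ∈ K := Subgroup.pow_index_mem K y
    have h2 : y ^ (q ^ b) ∈ K := by rw [← hb, pow_orderOf_eq_one]; exact K.one_mem
    have hcop : Nat.Coprime K.index (q ^ b) := by
      rw [hi]
      exact Nat.Coprime.pow _ _ ((Nat.coprime_primes hp hq).2 (Ne.symm hqp))
    exact Cfsg.Agent.Lib.helper70.mem_of_pow_mem_of_coprime K hcop h1 h2
  refine ⟨hxP, hyK, ?_⟩
  have hcomm : x * y * x⁻¹ * y⁻¹ ∈ (P : Subgroup G) ⊓ K := by
    constructor
    · have h1 : x * y * x⁻¹ * y⁻¹ = x * (y * x⁻¹ * y⁻¹) := by group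
      rw [h1]
      exact Subgroup.mul_mem _ hxP (hPn.conj_mem _ (Subgroup.inv_mem _ hxP) y)
    · exact Subgroup.mul_mem _ (hKn.conj_mem _ hyK x) (Subgroup.inv_mem _ hyK)
  rw [hinf, Subgroup.mem_bot] at hcomm
  have h1 : x * y = (x * y * x⁻¹ * y⁻¹) * (y * x) := by group
  rw [h1, hcomm, one_mul]

/-- Let p be a prime and G a finite group. Then some Sylow p-subgroup of G is a direct factor of G (it is normal and has a normal complement) if and only if every element of p-power order commutes with every element whose order is a power of a prime other than p. -/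
theorem result {G : Type*} [Group G] [Finite G] (p : ℕ) [Fact p.Prime] : (∃ (P : Sylow p G) (K : Subgroup G), (P : Subgroup G).Normal ∧ K.Normal ∧ (P : Subgroup G) ⊓ K = ⊥ ∧ (P : Subgroup G) ⊔ K = ⊤) ↔ ∀ x y : G, (∃ a : ℕ, orderOf x = p ^ a) → (∃ q b : ℕ, q.Prime ∧ q ≠ p ∧ orderOf y = q ^ b) → x * y = y * x := by
  classical
  have hp : p.Prime := Fact.out
  constructor
  · rintro ⟨P, K, hPn, hKn, hinf, hsup⟩ x y hx hy
    exact (commute_of_direct_factor p P K hPn hKn hinf hsup x y hx hy).2.2
  · intro h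
    obtain ⟨P⟩ := (inferInstance : Nonempty (Sylow p G))
    have hPel : ∀ z ∈ (P : Subgroup G), ∃ a, orderOf z = p ^ a := fun z hz =>
      Cfsg.Agent.Lib.helper70.orderOf_eq_prime_pow_of_mem_isPGroup hp P.2 hz
    have hNtop : Subgroup.normalizer ((P : Subgroup G) : Set G) = ⊤ := by
      rw [← Subgroup.index_eq_one, Nat.eq_one_iff_not_exists_prime_dvd]
      intro q hq hqd
      have : Fact q.Prime := ⟨hq⟩
      by_cases hqp : q = p
      · subst hqp
        exact P.not_dvd_index (hqd.trans (Subgroup.index_dvd_of_le Subgroup.le_normalizer))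
      · obtain ⟨Q⟩ := (inferInstance : Nonempty (Sylow q G))
        have hQN : (Q : Subgroup G) ≤ Subgroup.normalizer ((P : Subgroup G) : Set G) := by
          intro w hw
          apply Subgroup.centralizer_le_normalizer
          rw [Subgroup.mem_centralizer_iff]
          intro z hz
          obtain ⟨b, hb⟩ := Cfsg.Agent.Lib.helper70.orderOf_eq_prime_pow_of_mem_isPGroup hq Q.2 hw
          exact h z w (hPel z hz) ⟨q, b, hq, hqp, hb⟩
        exact Q.not_dvd_index (hqd.trans (Subgroup.index_dvd_of_le hQN))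
    have hPn : (P : Subgroup G).Normal := Subgroup.normalizer_eq_top_iff.1 hNtop
    have hcop : Nat.Coprime (Nat.card (P : Subgroup G)) (P : Subgroup G).index := by
      obtain ⟨n, hn⟩ := IsPGroup.iff_card.1 P.2
      rw [hn]
      exact Nat.Coprime.pow_left _ ((Nat.Prime.coprime_iff_not_dvd hp).2 P.not_dvd_index)
    obtain ⟨K, hK⟩ := Subgroup.exists_right_complement'_of_coprime hcop
    refine ⟨P, K, hPn, ?_, hK.disjoint.eq_bot, hK.sup_eq_top⟩
    have hKel : ∀ k ∈ K, ¬ p ∣ orderOf k := by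
      intro k hk hd
      have h1 : orderOf k ∣ Nat.card K := by
        have := orderOf_dvd_natCard (⟨k, hk⟩ : K)
        rwa [Subgroup.orderOf_mk] at this
      have h2 : (P : Subgroup G).index = Nat.card K := hK.symm.index_eq_card
      exact P.not_dvd_index (h2 ▸ hd.trans h1)
    have hcommPK : ∀ a ∈ (P : Subgroup G), ∀ k ∈ K, a * k = k * a := fun a ha k hk =>
      commute_of_not_dvd p h a k (hPel a ha) (hKel k hk)
    constructor
    intro k hk g
    haveI := hPn
    have hg : g ∈ ((P : Subgroup G) : Set G) * (K : Set G) := by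
      rw [← Subgroup.normal_mul, hK.sup_eq_top]; exact Subgroup.mem_top g
    obtain ⟨a, ha, k₀, hk₀, rfl⟩ := Set.mem_mul.1 hg
    have hmem : k₀ * k * k₀⁻¹ ∈ K := K.mul_mem (K.mul_mem hk₀ hk) (K.inv_mem hk₀)
    have h1 : a * k₀ * k * (a * k₀)⁻¹ = a * (k₀ * k * k₀⁻¹) * a⁻¹ := by group
    rw [h1, hcommPK a ha _ hmem, mul_inv_cancel_right]
    exact hmem

end Cfsg.Agent.S3986
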