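import Cfsg.Statements.S3987
import Mathlib
import Cfsg.Agent.Lib.helper70.Basic
import Cfsg.Agent.Lib.helper70.Index
import Cfsg.Agent.S3986

set_option autoImplicit false
open Cfsg

namespace Cfsg.Agent.S3987

/-- Let p be a prime and G a finite group. Then some Sylow p-subgroup of G is a direct factor of G (normal with a normal complement) if and only if for every element x of p-power order and every element y whose order is a power of a prime other than p, the conjugacy class of x y has as many elements as the product of the sizes of the classes of x and of y. -/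
theorem result {G : Type*} [Group G] [Finite G] (p : ℕ) [Fact p.Prime] : (∃ (P : Sylow p G) (K : Subgroup G), (P : Subgroup G).Normal ∧ K.Normal ∧ (P : Subgroup G) ⊓ K = ⊥ ∧ (P : Subgroup G) ⊔ K = ⊤) ↔ ∀ x y : G, (∃ a : ℕ, orderOf x = p ^ a) → (∃ q b : ℕ, q.Prime ∧ q ≠ p ∧ orderOf y = q ^ b) → (Subgroup.centralizer ({x * y} : Set G)).index = (Subgroup.centralizer ({x} : Set G)).index * (Subgroup.centralizer ({y} : Set G)).index := by
  classical
  have hp : p.Prime := Fact.out
  constructor
  · rintro ⟨P, K, hPn, hKn, hinf, hsup⟩ x y hx hy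
    obtain ⟨hxP, hyK, hxy⟩ :=
      Cfsg.Agent.S3986.commute_of_direct_factor p P K hPn hKn hinf hsup x y hx hy
    have hdis : Disjoint (P : Subgroup G) K := disjoint_iff.2 hinf
    have hKC : K ≤ Subgroup.centralizer ({x} : Set G) := by
      intro k hk
      rw [Subgroup.mem_centralizer_iff]
      intro z hz
      rw [Set.mem_singleton_iff] at hz
      rw [hz]
      exact (Subgroup.commute_of_normal_of_disjoint _ _ hPn hKn hdis x k hxP hk).eq
    have hPC : (P : Subgroup G) ≤ Subgroup.centralizer ({y} : Set G) := by
      intro a ha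
      rw [Subgroup.mem_centralizer_iff]
      intro z hz
      rw [Set.mem_singleton_iff] at hz
      rw [hz]
      exact (Subgroup.commute_of_normal_of_disjoint _ _ hPn hKn hdis a y ha hyK).eq.symm
    have hidxK : K.index ∣ Nat.card (P : Subgroup G) := by
      have := hKn
      have h1 : K.relIndex ((P : Subgroup G) ⊔ K) = K.relIndex (P : Subgroup G) :=
        Subgroup.relIndex_sup_right (P : Subgroup G) K
      rw [hsup, Subgroup.relIndex_top_right] at h1
      rw [h1]; exact Subgroup.relIndex_dvd_card K (P : Subgroup G)
    obtain ⟨n, hn⟩ := IsPGroup.iff_card.1 P.2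
    have h1 : (Subgroup.centralizer ({x} : Set G)).index ∣ p ^ n := by
      rw [← hn]; exact (Subgroup.index_dvd_of_le hKC).trans hidxK
    have h2 : (Subgroup.centralizer ({y} : Set G)).index ∣ (P : Subgroup G).index :=
      Subgroup.index_dvd_of_le hPC
    have hcop : Nat.Coprime (Subgroup.centralizer ({x} : Set G)).index
        (Subgroup.centralizer ({y} : Set G)).index := by
      apply Nat.Coprime.of_dvd h1 h2
      exact Nat.Coprime.pow_left _ ((Nat.Prime.coprime_iff_not_dvd hp).2 P.not_dvd_index)
    have hordcop : Nat.Coprime (orderOf x) (orderOf y) := by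
      obtain ⟨a, ha⟩ := hx
      obtain ⟨q, b, hq, hqp, hb⟩ := hy
      rw [ha, hb]
      exact Nat.Coprime.pow _ _ ((Nat.coprime_primes hp hq).2 (Ne.symm hqp))
    rw [Cfsg.Agent.Lib.helper70.centralizer_mul_eq_inf_of_coprime x y hxy hordcop]
    exact Cfsg.Agent.Lib.helper70.index_inf_eq_of_coprime _ _ hcop
  · intro h
    rw [Cfsg.Agent.S3986.result]
    intro x y hx hy
    have hidx := h x y hx hy
    have hle : Subgroup.centralizer ({x} : Set G) ⊓ Subgroup.centralizer ({y} : Set G) ≤
        Subgroup.centralizer ({x * y} : Set G) := by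
      intro z hz
      simp only [Subgroup.mem_inf, Subgroup.mem_centralizer_iff, Set.mem_singleton_iff,
        forall_eq] at hz ⊢
      obtain ⟨h1, h2⟩ := hz
      rw [mul_assoc, h2, ← mul_assoc, h1, mul_assoc]
    have heq : Subgroup.centralizer ({x} : Set G) ⊓ Subgroup.centralizer ({y} : Set G) =
        Subgroup.centralizer ({x * y} : Set G) := by
      apply Cfsg.Agent.Lib.helper70.eq_of_le_of_index_eq' _ _ hle
      apply le_antisymm
      · rw [hidx]; exact Subgroup.index_inf_le
      · exact Nat.le_of_dvd (Nat.pos_of_ne_zero Subgroup.index_ne_zero_of_finite)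
          (Subgroup.index_dvd_of_le hle)
    have hmem : x * y ∈ Subgroup.centralizer ({x * y} : Set G) := by
      rw [Subgroup.mem_centralizer_iff]
      intro z hz
      rw [Set.mem_singleton_iff] at hz
      rw [hz]
    rw [← heq] at hmem
    have hx' : x * y ∈ Subgroup.centralizer ({x} : Set G) := (Subgroup.mem_inf.1 hmem).1
    rw [Subgroup.mem_centralizer_iff] at hx'
    have h3 := hx' x rfl
    rw [mul_assoc] at h3
    exact mul_left_cancel h3

end Cfsg.Agent.S3987
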