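import Cfsg.Statements.S3992
import Mathlib
import Cfsg.Agent.Lib.helper70.CP

set_option autoImplicit false
open Cfsg

namespace Cfsg.Agent.S3992

/-- Let G be a finite non-solvable group in which every element has prime-power order, and let R be its largest solvable normal subgroup. Then R is a p-group for some prime p; G/R has a non-abelian simple normal subgroup contained in every nontrivial normal subgroup of G/R (its unique minimal normal subgroup); and the order of every solvable subgroup of G has at most two prime divisors. -/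
theorem result {G : Type*} [Group G] [Finite G] (hns : ¬ Group.IsSolvable G) (hpp : ∀ g : G, g ≠ 1 → IsPrimePow (orderOf g))
    (R : Subgroup G) [R.Normal] (hRs : Group.IsSolvable ↥R) (hRmax : ∀ N : Subgroup G, N.Normal → Group.IsSolvable ↥N → N ≤ R) :
    (∃ p : ℕ, p.Prime ∧ IsPGroup p ↥R) ∧
      (∃ M : Subgroup (G ⧸ R), M.Normal ∧ IsSimpleGroup ↥M ∧ ¬ IsMulCommutative ↥M ∧
        ∀ N : Subgroup (G ⧸ R), N.Normal → N ≠ ⊥ → M ≤ N) ∧
      ∀ H : Subgroup G, Group.IsSolvable ↥H → (Nat.card ↥H).primeFactors.card ≤ 2 := by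
  refine ⟨Cfsg.Agent.Lib.helper70.cp_normal_solvable_isPGroup hns hpp R hRs, ?_,
    fun H hH => Cfsg.Agent.Lib.helper70.cp_solvable_card_primeFactors_le_two hpp H hH⟩
  have hns' : ¬ Group.IsSolvable (G ⧸ R) := fun h =>
    hns (Group.isSolvable_of_ker_le_range R.subtype (QuotientGroup.mk' R) (by simp))
  have hpp' : ∀ y : G ⧸ R, y ≠ 1 → IsPrimePow (orderOf y) := by
    intro y hy
    obtain ⟨g, rfl⟩ := QuotientGroup.mk_surjective y
    have hg1 : g ≠ 1 := by
      rintro rfl
      exact hy rfl
    obtain ⟨r, k, hr, hk, hrk⟩ := hpp g hg1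
    have hdvd : orderOf (g : G ⧸ R) ∣ r ^ k := by
      rw [hrk]
      exact orderOf_map_dvd (QuotientGroup.mk' R) g
    obtain ⟨i, hi, hi'⟩ := (Nat.dvd_prime_pow hr.nat_prime).mp hdvd
    refine ⟨r, i, hr, ?_, hi'.symm⟩
    rcases Nat.eq_zero_or_pos i with h0 | h0
    · subst h0
      rw [pow_zero, orderOf_eq_one_iff] at hi'
      exact absurd hi' hy
    · exact h0
  have hrad : ∀ N : Subgroup (G ⧸ R), N.Normal → Group.IsSolvable N → N = ⊥ := by
    intro N hN hNs
    have hK : (N.comap (QuotientGroup.mk' R)).Normal := hN.comap _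
    have hRK : R ≤ N.comap (QuotientGroup.mk' R) := by
      intro r hr
      rw [Subgroup.mem_comap]
      have : (QuotientGroup.mk' R) r = 1 := (QuotientGroup.eq_one_iff r).mpr hr
      rw [this]
      exact N.one_mem
    have hKs : Group.IsSolvable (N.comap (QuotientGroup.mk' R)) := by
      refine Group.isSolvable_of_ker_le_range (Subgroup.inclusion hRK)
        ((QuotientGroup.mk' R).subgroupComap N) ?_
      intro k hk
      rw [MonoidHom.mem_ker] at hk
      have hkR : (k : G) ∈ R := by
        have h1 := congrArg Subtype.val hk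
        exact (QuotientGroup.eq_one_iff (k : G)).mp h1
      exact ⟨⟨k, hkR⟩, rfl⟩
    have hle := hRmax _ hK hKs
    rw [eq_bot_iff]
    intro y hy
    obtain ⟨g, rfl⟩ := QuotientGroup.mk_surjective y
    have hgR : g ∈ R := hle (by rw [Subgroup.mem_comap]; exact hy)
    rw [Subgroup.mem_bot]
    exact (QuotientGroup.eq_one_iff g).mpr hgR
  exact Cfsg.Agent.Lib.helper70.cp_unique_minimal_normal hns' hpp' hrad

end Cfsg.Agent.S3992
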