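import Cfsg.Statements.S3994
import Mathlib
import Cfsg.Agent.Lib.helper70.Frob

set_option autoImplicit false
open Cfsg

namespace Cfsg.Agent.S3994

/-- Let G be a finite group and n a positive integer. The number of elements of G whose order is divisible by n is either 0 or divisible by the largest divisor of the order of G that is coprime to n. -/
theorem result {G : Type*} [Group G] [Finite G] (n : ℕ) (hn : 0 < n) :
    Nat.card {g : G // n ∣ orderOf g} = 0 ∨
      (Nat.card G / Nat.gcd (Nat.card G) (n ^ Nat.card G)) ∣ Nat.card {g : G // n ∣ orderOf g} := by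
  classical
  cases nonempty_fintype G
  right
  have hN0 : Nat.card G ≠ 0 := Nat.card_pos.ne'
  generalize hNdef : Nat.card G = N at hN0 ⊢
  have hAN : Nat.gcd N (n ^ N) ∣ N := Nat.gcd_dvd_left _ _
  have hAm : Nat.gcd N (n ^ N) * (N / Nat.gcd N (n ^ N)) = N := Nat.mul_div_cancel' hAN
  have hcop1 : Nat.Coprime (N / Nat.gcd N (n ^ N)) n := by
    rw [Nat.Coprime, Nat.eq_one_iff_not_exists_prime_dvd]
    intro q hq hqd
    have hq1 : q ∣ N / Nat.gcd N (n ^ N) := hqd.trans (Nat.gcd_dvd_left _ _)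
    have hq2 : q ∣ n := hqd.trans (Nat.gcd_dvd_right _ _)
    have h1 : q ^ (N.factorization q) ∣ Nat.gcd N (n ^ N) := by
      apply Nat.dvd_gcd (Nat.ordProj_dvd N q)
      exact (pow_dvd_pow q (Nat.factorization_lt q hN0).le).trans (pow_dvd_pow_of_dvd hq2 N)
    have h2 : q ^ (N.factorization q + 1) ∣ N := by
      rw [pow_succ]
      have h3 := mul_dvd_mul h1 hq1
      rw [hAm] at h3
      exact h3
    exact Nat.pow_succ_factorization_not_dvd hN0 hq h2
  have hcop2 : Nat.Coprime (Nat.gcd N (n ^ N)) (N / Nat.gcd N (n ^ N)) := by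
    have h1 : Nat.Coprime (n ^ N) (N / Nat.gcd N (n ^ N)) := Nat.Coprime.pow_left _ hcop1.symm
    exact Nat.Coprime.coprime_dvd_left (Nat.gcd_dvd_right _ _) h1
  generalize hAdef : Nat.gcd N (n ^ N) = A at hAN hAm hcop1 hcop2 ⊢
  have he1 := (Nat.chineseRemainder hcop2 1 0).2.1
  have he0 := Nat.modEq_zero_iff_dvd.1 (Nat.chineseRemainder hcop2 1 0).2.2
  generalize (Nat.chineseRemainder hcop2 1 0 : ℕ) = e at he1 he0
  have hU : ∀ u ∈ Finset.univ.filter (fun u : G => u ^ A = 1 ∧ n ∣ orderOf u), u ^ A = 1 :=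
    fun u hu => (Finset.mem_filter.1 hu).2.1
  have hSeq : Finset.univ.filter (fun g : G => n ∣ orderOf g) =
      Finset.univ.filter (fun x : G => x ^ (A * (N / A)) = 1 ∧
        x ^ e ∈ Finset.univ.filter (fun u : G => u ^ A = 1 ∧ n ∣ orderOf u)) := by
    ext x
    simp only [Finset.mem_filter, Finset.mem_univ, true_and]
    have hxN : x ^ (A * (N / A)) = 1 := by rw [hAm, ← hNdef]; exact pow_card_eq_one'
    have hxeA : (x ^ e) ^ A = 1 := by
      obtain ⟨k, rfl⟩ := he0
      have e1 : N / A * k * A = A * (N / A) * k := by ring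
      rw [← pow_mul, e1, pow_mul, hxN, one_pow]
    constructor
    · intro hnx
      refine ⟨hxN, hxeA, ?_⟩
      have hnA : n ∣ A := by
        have h1 : n ∣ A * (N / A) := hnx.trans (orderOf_dvd_of_pow_eq_one hxN)
        exact (hcop1.symm).dvd_of_dvd_mul_right h1
      have hcopne : Nat.Coprime n e := by
        have h2 : Nat.Coprime e A := by
          have h2a := he1.gcd_eq
          rw [Nat.Coprime, h2a, Nat.gcd_one_left]
        exact Nat.Coprime.coprime_dvd_left hnA h2.symm
      have h3 : orderOf x ∣ e * orderOf (x ^ e) := by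
        apply orderOf_dvd_of_pow_eq_one
        rw [pow_mul, pow_orderOf_eq_one]
      exact hcopne.dvd_of_dvd_mul_left (hnx.trans h3)
    · rintro ⟨-, -, h3⟩
      exact h3.trans (orderOf_pow_dvd e)
  rw [Cfsg.Agent.Lib.helper70.natCard_subtype_eq_card_filter, hSeq,
    Cfsg.Agent.Lib.helper70.card_decomp A (N / A) e he1 he0 _ hU]
  apply Cfsg.Agent.Lib.helper70.class_sum_dvd
  · intro u hu g
    rw [Finset.mem_filter] at hu ⊢
    refine ⟨Finset.mem_univ _, ?_, ?_⟩
    · rw [conj_pow, hu.2.1]; group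
    · rw [show orderOf (g * u * g⁻¹) = orderOf u from (MulAut.conj g).orderOf_eq u]
      exact hu.2.2
  · rw [← Nat.card_eq_fintype_card, hNdef]; exact Nat.div_dvd_of_dvd hAN
  · intro u _
    exact Cfsg.Agent.Lib.helper70.frobenius_gcd_dvd _

end Cfsg.Agent.S3994
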