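import Cfsg.Statements.S3995
import Mathlib
import Cfsg.Agent.Lib.helper70.OrderCount
import Cfsg.Agent.S0016

set_option autoImplicit false
open Cfsg
open Cfsg.Agent.Lib.helper70

namespace Cfsg.Agent.S3995

/-- Let G be a finite group such that the numbers of elements of each order that occurs in G (the numbers #{g : o(g) = m}, m ranging over the element orders of G) take exactly two values, 1 and some n ≠ 1. Then either G is a p-group of exponent p and order at least 3 for some prime p, or G is the quaternion group of order 8, or G is cyclic of order 4, or G ≅ Z₂ × P for a p-group P of exponent p with p an odd prime. -/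
theorem result {G : Type*} [Group G] [Finite G] (n : ℕ) (hn : n ≠ 1) (h : ((fun m : ℕ => Nat.card {g : G // orderOf g = m}) '' Set.range (orderOf : G → ℕ)) = {1, n}) :
    (∃ p : ℕ, p.Prime ∧ IsPGroup p G ∧ 3 ≤ Nat.card G ∧ Monoid.exponent G = p) ∨
      Nonempty (G ≃* QuaternionGroup 2) ∨ (IsCyclic G ∧ Nat.card G = 4) ∨
      (∃ (p : ℕ) (P : Type) (_ : Group P) (_ : Finite P), p.Prime ∧ p ≠ 2 ∧ IsPGroup p P ∧ Monoid.exponent P = p ∧
        Nonempty (G ≃* Multiplicative (ZMod 2) × P)) := by
  classical
  have hS1 : Nat.card {g : G // orderOf g = 1} = 1 := natCard_orderOf_one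
  have hSval : ∀ g : G, Nat.card {x : G // orderOf x = orderOf g} = 1 ∨
      Nat.card {x : G // orderOf x = orderOf g} = n := by
    intro g
    have h1 : (fun m : ℕ => Nat.card {g : G // orderOf g = m}) (orderOf g) ∈
        ((fun m : ℕ => Nat.card {g : G // orderOf g = m}) '' Set.range (orderOf : G → ℕ)) :=
      Set.mem_image_of_mem _ (Set.mem_range_self g)
    rw [h] at h1
    simpa using h1
  obtain ⟨g₀, hg₀⟩ : ∃ g : G, Nat.card {x : G // orderOf x = orderOf g} = n := by
    have h1 : n ∈ ((fun m : ℕ => Nat.card {g : G // orderOf g = m}) ''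
        Set.range (orderOf : G → ℕ)) := by rw [h]; simp
    obtain ⟨m, ⟨g, rfl⟩, hm⟩ := h1
    exact ⟨g, hm⟩
  have hS3 : ∀ g : G, 3 ≤ orderOf g → Nat.card {x : G // orderOf x = orderOf g} = n := by
    intro g hg
    have h2 := two_le_natCard_orderOf g hg
    rcases hSval g with h1 | h1
    · omega
    · exact h1
  have hS3' : ∀ d, 3 ≤ d → Nat.card {x : G // orderOf x = d} = 0 ∨
      Nat.card {x : G // orderOf x = d} = n := by
    intro d hd
    by_cases hex : ∃ g : G, orderOf g = d
    · obtain ⟨g, rfl⟩ := hex
      exact Or.inr (hS3 g hd)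
    · push Not at hex
      exact Or.inl (natCard_orderOf_eq_zero d hex)
  have hn2 : 2 ≤ n := by
    have : Nonempty {x : G // orderOf x = orderOf g₀} := ⟨⟨g₀, rfl⟩⟩
    have hpos : 0 < Nat.card {x : G // orderOf x = orderOf g₀} := Nat.card_pos
    omega
  have hg₀1 : g₀ ≠ 1 := by
    rintro rfl
    rw [orderOf_one, hS1] at hg₀
    exact hn hg₀.symm
  have hCauchy : ∀ p, p.Prime → p ∣ Nat.card G → ∃ g : G, orderOf g = p := fun p hp hdvd => by
    have := Fact.mk hp; exact exists_prime_orderOf_dvd_card' p hdvd
  have hp1n : ∀ p, p.Prime → p ∣ Nat.card G → p ∣ 1 + Nat.card {g : G // orderOf g = p} := by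
    intro p hp hdvd
    rw [← card_pow_prime_eq p hp]; exact frobenius_dvd p hdvd
  have hodd : ∀ p, p.Prime → p ≠ 2 → p ∣ Nat.card G → Nat.card {g : G // orderOf g = p} = n := by
    intro p hp hp2 hdvd
    obtain ⟨g, hg⟩ := hCauchy p hp hdvd
    have h1 := hS3 g (by rw [hg]; have := hp.two_le; omega)
    rwa [hg] at h1
  have Lsq : ∀ p, p.Prime → Nat.card {g : G // orderOf g = p} = n →
      (∃ g : G, orderOf g = p ^ 2) → False := by
    rintro p hp hSp ⟨g, hg⟩
    have hdvd2 : p ^ 2 ∣ Nat.card G := by rw [← hg]; exact orderOf_dvd_natCard g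
    have hdvd : p ∣ Nat.card G := (dvd_pow_self p (by norm_num)).trans hdvd2
    have h1 := frobenius_dvd (G := G) (p ^ 2) hdvd2
    have hS2 : Nat.card {x : G // orderOf x = p ^ 2} = n := by
      have h3 := hS3 g (by rw [hg]; have := hp.two_le; nlinarith)
      rwa [hg] at h3
    rw [card_pow_prime_sq_eq p hp, hSp, hS2] at h1
    have h2 := hp1n p hp hdvd
    rw [hSp] at h2
    have h3 : p ∣ 1 + 2 * n := by
      have e : 1 + 2 * n = 1 + n + n := by ring
      rw [e]; exact (dvd_pow_self p (by norm_num)).trans h1
    have h4 := dvd_sub_of_dvd_one_add p n 1 2 h2 h3 (by norm_num)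
    exact hp.one_lt.ne' (Nat.dvd_one.mp h4)
  have Lpq : ∀ p q, p.Prime → q.Prime → p ≠ q → p ∣ Nat.card G → q ∣ Nat.card G →
      Nat.card {g : G // orderOf g = p} = n → Nat.card {g : G // orderOf g = q} = n → False := by
    intro p q hp hq hpq hpG hqG hSp hSq
    have hdvd : p * q ∣ Nat.card G :=
      Nat.Coprime.mul_dvd_of_dvd_of_dvd ((Nat.coprime_primes hp hq).mpr hpq) hpG hqG
    have h1 := frobenius_dvd (G := G) (p * q) hdvd
    rw [card_pow_prime_mul_eq p q hp hq hpq, hSp, hSq] at h1
    have h2p := hp1n p hp hpG
    rw [hSp] at h2p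
    have h2q := hp1n q hq hqG
    rw [hSq] at h2q
    have hpd : p ∣ p * q := Dvd.intro _ rfl
    have hqd : q ∣ p * q := Dvd.intro_left _ rfl
    rcases hS3' (p * q) (by nlinarith [hp.two_le, hq.two_le]) with h0 | h0
    · rw [h0] at h1
      have h3 : p ∣ 1 + 2 * n := by
        have e : 1 + 2 * n = 1 + n + n + 0 := by ring
        rw [e]; exact hpd.trans h1
      have h4 := dvd_sub_of_dvd_one_add p n 1 2 h2p h3 (by norm_num)
      exact hp.one_lt.ne' (Nat.dvd_one.mp h4)
    · rw [h0] at h1
      have e : 1 + 3 * n = 1 + n + n + n := by ring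
      have h3 : p ∣ 1 + 3 * n := by rw [e]; exact hpd.trans h1
      have h3' : q ∣ 1 + 3 * n := by rw [e]; exact hqd.trans h1
      have h4 := dvd_sub_of_dvd_one_add p n 1 3 h2p h3 (by norm_num)
      have h4' := dvd_sub_of_dvd_one_add q n 1 3 h2q h3' (by norm_num)
      have h5 : p = 2 := (Nat.prime_dvd_prime_iff_eq hp Nat.prime_two).mp h4
      have h5' : q = 2 := (Nat.prime_dvd_prime_iff_eq hq Nat.prime_two).mp h4'
      exact hpq (h5.trans h5'.symm)
  have hcard1 : Nat.card G ≠ 1 := by
    intro h1
    have : Subsingleton G := (Nat.card_eq_one_iff_unique.mp h1).1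
    exact hg₀1 (Subsingleton.elim _ _)
  by_cases hinv : (∃ t : G, orderOf t = 2) ∧ Nat.card {g : G // orderOf g = 2} = 1
  · -- unique involution
    obtain ⟨⟨t, ht⟩, hS2⟩ := hinv
    have huniq : ∀ g : G, orderOf g = 2 → g = t := by
      intro g hg
      have hsub : Subsingleton {g : G // orderOf g = 2} := (Nat.card_eq_one_iff_unique.mp hS2).1
      exact congrArg Subtype.val (Subsingleton.elim (⟨g, hg⟩ : {g : G // orderOf g = 2}) ⟨t, ht⟩)
    have hcen : ∀ g : G, g * t = t * g := by
      intro g
      have h1 : orderOf (g * t * g⁻¹) = 2 := by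
        have := MulEquiv.orderOf_eq (MulAut.conj g) t
        rw [MulAut.conj_apply] at this
        rw [this, ht]
      have h2 := huniq _ h1
      exact mul_inv_eq_iff_eq_mul.mp h2
    have h2G : 2 ∣ Nat.card G := by rw [← ht]; exact orderOf_dvd_natCard t
    have L8 : ¬ ∃ x : G, orderOf x = 8 := by
      rintro ⟨x, hx⟩
      have hx' : orderOf x = 2 ^ 3 := by rw [hx]; norm_num
      obtain ⟨y, hy⟩ := exists_orderOf_eq_prime_pow_of_le 2 Nat.prime_two x 3 2 (by norm_num) hx'
      have hy' : orderOf y = 4 := by rw [hy]; norm_num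
      have hS4 : Nat.card {g : G // orderOf g = 4} = n := by
        have h3 := hS3 y (by rw [hy']; norm_num)
        rwa [hy'] at h3
      have hS8 : Nat.card {g : G // orderOf g = 8} = n := by
        have h3 := hS3 x (by rw [hx]; norm_num)
        rwa [hx] at h3
      have h8G : 8 ∣ Nat.card G := by rw [← hx]; exact orderOf_dvd_natCard x
      have h4G : 2 ^ 2 ∣ Nat.card G := by
        have : (2 : ℕ) ^ 2 = orderOf y := by rw [hy]
        rw [this]; exact orderOf_dvd_natCard y
      have h1 := frobenius_dvd (G := G) 8 h8G
      rw [card_pow_eight_eq, hS2, hS4, hS8] at h1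
      have h2 := frobenius_dvd (G := G) (2 ^ 2) h4G
      rw [card_pow_prime_sq_eq 2 Nat.prime_two, hS2] at h2
      have e4 : Nat.card {g : G // orderOf g = 2 ^ 2} = n := by
        have : (2 : ℕ) ^ 2 = 4 := by norm_num
        rw [this]; exact hS4
      rw [e4] at h2
      have h2' : 4 ∣ 1 + 1 + n := by
        have : (2 : ℕ) ^ 2 = 4 := by norm_num
        rwa [this] at h2
      omega
    by_cases hoddex : ∃ p, p.Prime ∧ p ≠ 2 ∧ p ∣ Nat.card G
    · -- an odd prime divides |G| : G ≅ Z₂ × P
      obtain ⟨p, hp, hp2, hpG⟩ := hoddex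
      have hSp : Nat.card {g : G // orderOf g = p} = n := hodd p hp hp2 hpG
      have hp1 : p ∣ 1 + n := by have := hp1n p hp hpG; rwa [hSp] at this
      have hp3 : 3 ≤ p := by
        have := hp.two_le
        omega
      have no4 : ¬ ∃ x : G, orderOf x = 4 := by
        rintro ⟨x, hx⟩
        have hS4 : Nat.card {g : G // orderOf g = 4} = n := by
          have h3 := hS3 x (by rw [hx]; norm_num)
          rwa [hx] at h3
        obtain ⟨y, hy⟩ := hCauchy p hp hpG
        have hty : orderOf (t * y) = 2 * p := by
          have hc : Commute t y := (hcen y).symm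
          have hco : (orderOf t).Coprime (orderOf y) := by
            rw [ht, hy]; exact (Nat.coprime_primes Nat.prime_two hp).mpr (Ne.symm hp2)
          rw [hc.orderOf_mul_eq_mul_orderOf_of_coprime hco, ht, hy]
        have hS2p : Nat.card {g : G // orderOf g = 2 * p} = n := by
          have h3 := hS3 (t * y) (by rw [hty]; omega)
          rwa [hty] at h3
        have h4G : 4 ∣ Nat.card G := by rw [← hx]; exact orderOf_dvd_natCard x
        have hco4 : Nat.Coprime 4 p := by
          have h2p : Nat.Coprime 2 p := (Nat.coprime_primes Nat.prime_two hp).mpr (Ne.symm hp2)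
          have := Nat.Coprime.pow_left 2 h2p
          norm_num at this
          exact this
        have hdvd : 4 * p ∣ Nat.card G := Nat.Coprime.mul_dvd_of_dvd_of_dvd hco4 h4G hpG
        have h1 := frobenius_dvd (G := G) (4 * p) hdvd
        rw [card_pow_four_mul_prime_eq p hp hp2, hS2, hS4, hSp, hS2p] at h1
        have hpd : p ∣ 4 * p := Dvd.intro_left _ rfl
        rcases hS3' (4 * p) (by omega) with h0 | h0
        · rw [h0] at h1
          have h3 : p ∣ 2 + 3 * n := by
            have e : 2 + 3 * n = 1 + 1 + n + n + n + 0 := by ring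
            rw [e]; exact hpd.trans h1
          have h4 := dvd_sub_of_dvd_one_add p n 2 3 hp1 h3 (by norm_num)
          exact hp.one_lt.ne' (Nat.dvd_one.mp h4)
        · rw [h0] at h1
          have h3 : p ∣ 2 + 4 * n := by
            have e : 2 + 4 * n = 1 + 1 + n + n + n + n := by ring
            rw [e]; exact hpd.trans h1
          have h4 := dvd_sub_of_dvd_one_add p n 2 4 hp1 h3 (by norm_num)
          exact hp2 ((Nat.prime_dvd_prime_iff_eq hp Nat.prime_two).mp h4)
      have honly : ∀ q, q.Prime → q ∣ Nat.card G → q ≠ p → q = 2 := by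
        intro q hq hqG hne
        by_contra hq2
        exact Lpq q p hq hp hne hqG hpG (hodd q hq hq2 hqG) hSp
      have nosq : ¬ ∃ x : G, orderOf x = p ^ 2 := fun hx => Lsq p hp hSp hx
      have hfact : Fact p.Prime := ⟨hp⟩
      obtain ⟨P⟩ : Nonempty (Sylow p G) := inferInstance
      obtain ⟨Q⟩ : Nonempty (Sylow 2 G) := inferInstance
      have hQle : (Q : Subgroup G) ≤ Subgroup.zpowers t := by
        intro x hx
        obtain ⟨j, hj⟩ := (IsPGroup.iff_orderOf.mp Q.isPGroup') ⟨x, hx⟩
        rw [Subgroup.orderOf_mk] at hj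
        rcases Nat.lt_or_ge j 2 with hj2 | hj2
        · interval_cases j
          · rw [pow_zero, orderOf_eq_one_iff] at hj
            rw [hj]; exact one_mem _
          · rw [pow_one] at hj
            rw [huniq x hj]; exact Subgroup.mem_zpowers t
        · exfalso
          obtain ⟨y, hy⟩ := exists_orderOf_eq_prime_pow_of_le 2 Nat.prime_two x j 2 hj2 hj
          exact no4 ⟨y, by rw [hy]; norm_num⟩
      have hZcard : Nat.card (Subgroup.zpowers t) = 2 := by rw [Nat.card_zpowers, ht]
      have hQcard : Nat.card (Q : Subgroup G) = 2 := by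
        have h1 := Subgroup.card_le_of_le hQle
        rw [hZcard] at h1
        have h2 := Nat.le_of_dvd Nat.card_pos (Q.dvd_card_of_dvd_card h2G)
        omega
      have hPidx : (P : Subgroup G).index = 2 := by
        have hne : (P : Subgroup G).index ≠ 0 := Subgroup.index_ne_zero_of_finite
        have hpow := Nat.eq_prime_pow_of_unique_prime_dvd (p := 2) hne (fun {q} hq hqd => by
          apply honly q hq (hqd.trans (Subgroup.index_dvd_card _))
          rintro rfl
          exact P.not_dvd_index hqd)
        set c := ((P : Subgroup G).index).primeFactorsList.length with hc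
        have h1 : 2 ^ c ∣ Nat.card (Q : Subgroup G) := by
          apply Q.pow_dvd_card_of_pow_dvd_card
          rw [← hpow]; exact Subgroup.index_dvd_card _
        rw [hQcard] at h1
        have h2 := Nat.le_of_dvd (by norm_num) h1
        have hc1 : c ≤ 1 := by
          by_contra hcon
          push Not at hcon
          have : 2 ^ 2 ≤ 2 ^ c := Nat.pow_le_pow_right (by norm_num) hcon
          omega
        have hc0 : c ≠ 0 := by
          intro h0
          rw [h0, pow_zero] at hpow
          have htop : (P : Subgroup G) = ⊤ := Subgroup.index_eq_one.mp hpow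
          have htP : t ∈ (P : Subgroup G) := by rw [htop]; exact Subgroup.mem_top t
          obtain ⟨k, hk⟩ := (IsPGroup.iff_orderOf.mp P.isPGroup') ⟨t, htP⟩
          rw [Subgroup.orderOf_mk, ht] at hk
          have hk0 : k ≠ 0 := by
            rintro rfl
            norm_num at hk
          have : p ∣ 2 := by rw [hk]; exact dvd_pow_self p hk0
          exact hp2 ((Nat.prime_dvd_prime_iff_eq hp Nat.prime_two).mp this)
        have : c = 1 := by omega
        rw [hpow, this, pow_one]
      have hPn : (P : Subgroup G).Normal := Subgroup.normal_of_index_eq_two hPidx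
      have hPexp : ∀ x : ↥(P : Subgroup G), x ^ p = 1 := by
        intro x
        obtain ⟨k, hk⟩ := (IsPGroup.iff_orderOf.mp P.isPGroup') x
        rcases Nat.lt_or_ge k 2 with hk2 | hk2
        · have : orderOf x ∣ p := by
            rw [hk]
            calc p ^ k ∣ p ^ 1 := pow_dvd_pow p (by omega)
              _ = p := pow_one p
          exact orderOf_dvd_iff_pow_eq_one.mp this
        · exfalso
          have hk' : orderOf (x : G) = p ^ k := by rw [Subgroup.orderOf_coe]; exact hk
          exact nosq (exists_orderOf_eq_prime_pow_of_le p hp (x : G) k 2 hk2 hk')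
      obtain ⟨b, hb⟩ := (IsPGroup.iff_card).mp P.isPGroup'
      have hZP : Subgroup.zpowers t ⊓ (P : Subgroup G) = ⊥ := by
        apply Disjoint.eq_bot
        apply Subgroup.disjoint_of_coprime_natCard
        rw [hZcard, hb]
        exact Nat.Coprime.pow_right b ((Nat.coprime_primes Nat.prime_two hp).mpr (Ne.symm hp2))
      have hcomm : ∀ (a : ↥(Subgroup.zpowers t)) (x : ↥(P : Subgroup G)),
          Commute ((Subgroup.zpowers t).subtype a) ((P : Subgroup G).subtype x) := by
        intro a x
        obtain ⟨k, hk⟩ := Subgroup.mem_zpowers_iff.mp a.2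
        show Commute (a : G) (x : G)
        rw [← hk]
        exact Commute.zpow_left (hcen (x : G)).symm k
      let f : ↥(Subgroup.zpowers t) × ↥(P : Subgroup G) →* G :=
        MonoidHom.noncommCoprod (Subgroup.zpowers t).subtype (P : Subgroup G).subtype hcomm
      have hf : ∀ a x, f (a, x) = (a : G) * (x : G) := fun a x => rfl
      have finj : Function.Injective f := by
        rw [injective_iff_map_eq_one]
        rintro ⟨a, x⟩ hax
        rw [hf] at hax
        have ha : (a : G) ∈ Subgroup.zpowers t ⊓ (P : Subgroup G) := by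
          refine ⟨a.2, ?_⟩
          have : (a : G) = (x : G)⁻¹ := eq_inv_of_mul_eq_one_left hax
          rw [this]; exact Subgroup.inv_mem _ x.2
        rw [hZP, Subgroup.mem_bot] at ha
        have hx : (x : G) = 1 := by rw [ha, one_mul] at hax; exact hax
        exact Prod.ext (Subtype.ext ha) (Subtype.ext hx)
      have fbij : Function.Bijective f := by
        rw [Nat.bijective_iff_injective_and_card]
        refine ⟨finj, ?_⟩
        rw [Nat.card_prod, hZcard, ← hPidx, Subgroup.index_mul_card]
      let e₁ : G ≃* ↥(Subgroup.zpowers t) × ↥(P : Subgroup G) := (MulEquiv.ofBijective f fbij).symm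
      have hM2 : Nat.card (Multiplicative (ZMod 2)) = 2 := by
        show Nat.card (ZMod 2) = 2
        exact Nat.card_zmod 2
      let e₂ : ↥(Subgroup.zpowers t) ≃* Multiplicative (ZMod 2) :=
        mulEquivOfPrimeCardEq (p := 2) hZcard hM2
      let e₃ : Shrink.{0} ↥(P : Subgroup G) ≃* ↥(P : Subgroup G) := Shrink.mulEquiv
      have hfin : Finite (Shrink.{0} ↥(P : Subgroup G)) := Finite.of_equiv _ (equivShrink _)
      have hPntriv : Nontrivial ↥(P : Subgroup G) := by
        rw [← Finite.one_lt_card_iff_nontrivial]
        exact lt_of_lt_of_le hp.one_lt (Nat.le_of_dvd Nat.card_pos (P.dvd_card_of_dvd_card hpG))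
      refine Or.inr (Or.inr (Or.inr ⟨p, Shrink.{0} ↥(P : Subgroup G), inferInstance, hfin, hp,
        hp2, IsPGroup.of_equiv P.isPGroup' e₃.symm, ?_, ⟨e₁.trans (MulEquiv.prodCongr e₂ e₃.symm)⟩⟩))
      rw [Monoid.exponent_eq_of_mulEquiv e₃]
      have h1 : Monoid.exponent ↥(P : Subgroup G) ∣ p :=
        Monoid.exponent_dvd_of_forall_pow_eq_one hPexp
      rcases (Nat.dvd_prime hp).mp h1 with h0 | h0
      · exfalso
        rw [Monoid.exp_eq_one_iff] at h0
        exact not_subsingleton _ h0
      · exact h0
    · -- G is a 2-group with a unique involution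
      have hcard := Nat.eq_prime_pow_of_unique_prime_dvd (p := 2) (n := Nat.card G)
        Nat.card_pos.ne' (fun {q} hq hqG => by
          by_contra hq2
          exact hoddex ⟨q, hq, hq2, hqG⟩)
      set a := (Nat.card G).primeFactorsList.length with ha
      have hG2 : IsPGroup 2 G := IsPGroup.of_card hcard
      have huniq2 : ∀ H K : Subgroup G, Nat.card H = 2 → Nat.card K = 2 → H = K := by
        have key : ∀ H : Subgroup G, Nat.card H = 2 → Subgroup.zpowers t = H := by
          intro H hH
          have hex : ∃ x ∈ H, x ≠ 1 := by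
            by_contra hcon
            push Not at hcon
            have hbot : H = ⊥ := (Subgroup.eq_bot_iff_forall H).mpr hcon
            rw [hbot, Subgroup.card_bot] at hH
            omega
          obtain ⟨x, hxH, hx1⟩ := hex
          have hx2 : x ^ 2 = 1 := by
            have h3 := pow_card_eq_one' (G := H) (x := ⟨x, hxH⟩)
            rw [hH] at h3
            exact congrArg Subtype.val h3
          have hxo : orderOf x = 2 := orderOf_eq_prime hx2 hx1
          have hxt := huniq x hxo
          apply Subgroup.eq_of_le_of_card_ge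
          · rw [Subgroup.zpowers_le, ← hxt]; exact hxH
          · rw [hH, Nat.card_zpowers, ht]
        intro H K hH hK
        rw [← key H hH, ← key K hK]
      have hcase : ∀ g : G, ∀ j, orderOf g = 2 ^ j → j ≤ 2 := by
        intro g j hj
        by_contra hcon
        push Not at hcon
        obtain ⟨y, hy⟩ := exists_orderOf_eq_prime_pow_of_le 2 Nat.prime_two g j 3 hcon hj
        exact L8 ⟨y, by rw [hy]; norm_num⟩
      rcases Cfsg.Agent.S0016.result 2 hG2 huniq2 with hcy | ⟨-, k, ⟨e⟩⟩
      · obtain ⟨g, hg⟩ := hcy.exists_generator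
        have hgo : orderOf g = 2 ^ a := by
          rw [orderOf_eq_card_of_forall_mem_zpowers hg, ← hcard]
        have ha2 := hcase g a hgo
        interval_cases a
        · exfalso
          rw [pow_zero] at hcard
          exact hcard1 hcard
        · exfalso
          rw [pow_one] at hcard
          have hord : ∀ x : G, orderOf x = 1 ∨ orderOf x = 2 := by
            intro x
            have h3 : orderOf x ∣ 2 := by rw [← hcard]; exact orderOf_dvd_natCard x
            exact (Nat.dvd_prime Nat.prime_two).mp h3
          rcases hord g₀ with h3 | h3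
          · rw [h3, hS1] at hg₀; exact hn hg₀.symm
          · rw [h3, hS2] at hg₀; exact hn hg₀.symm
        · exact Or.inr (Or.inr (Or.inl ⟨hcy, by rw [hcard]; norm_num⟩))
      · rcases Nat.lt_or_ge k 2 with hk | hk
        · interval_cases k
          · have hcyc1 : IsCyclic (QuaternionGroup (2 ^ 0)) :=
              QuaternionGroup.quaternionGroup_one_isCyclic
            have hcyG : IsCyclic G := isCyclic_of_surjective e.symm.toMonoidHom e.symm.surjective
            refine Or.inr (Or.inr (Or.inl ⟨hcyG, ?_⟩))
            rw [Nat.card_congr e.toEquiv, Nat.card_eq_fintype_card, QuaternionGroup.card]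
            norm_num
          · exact Or.inr (Or.inl ⟨e⟩)
        · exfalso
          have hN : NeZero (2 ^ k) := ⟨by positivity⟩
          have hαo : orderOf (e.symm (QuaternionGroup.a 1)) = 2 ^ (k + 1) := by
            rw [MulEquiv.orderOf_eq, QuaternionGroup.orderOf_a_one]; ring
          have := hcase _ (k + 1) hαo
          omega
  · -- no unique involution: every nonidentity element order has n elements
    have hall : ∀ p, p.Prime → p ∣ Nat.card G → Nat.card {g : G // orderOf g = p} = n := by
      intro p hp hpG
      by_cases hp2 : p = 2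
      · subst hp2
        obtain ⟨t, ht⟩ := hCauchy 2 Nat.prime_two hpG
        rcases hSval t with h1 | h1
        · rw [ht] at h1
          exact absurd ⟨⟨t, ht⟩, h1⟩ hinv
        · rwa [ht] at h1
      · exact hodd p hp hp2 hpG
    have hp : (Nat.card G).minFac.Prime := Nat.minFac_prime hcard1
    have hpG : (Nat.card G).minFac ∣ Nat.card G := Nat.minFac_dvd _
    set p := (Nat.card G).minFac with hpdef
    have hSp := hall p hp hpG
    have hcard := Nat.eq_prime_pow_of_unique_prime_dvd (p := p) (n := Nat.card G)
      Nat.card_pos.ne' (fun {q} hq hqG => by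
        by_contra hne
        exact Lpq q p hq hp hne hqG hpG (hall q hq hqG) hSp)
    have hfact : Fact p.Prime := ⟨hp⟩
    have hPG : IsPGroup p G := IsPGroup.of_card hcard
    have hexp : ∀ g : G, g ^ p = 1 := by
      intro g
      obtain ⟨k, hk⟩ := (IsPGroup.iff_orderOf.mp hPG) g
      rcases Nat.lt_or_ge k 2 with hk2 | hk2
      · have : orderOf g ∣ p := by
          rw [hk]
          calc p ^ k ∣ p ^ 1 := pow_dvd_pow p (by omega)
            _ = p := pow_one p
        exact orderOf_dvd_iff_pow_eq_one.mp this
      · exfalso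
        exact Lsq p hp hSp (exists_orderOf_eq_prime_pow_of_le p hp g k 2 hk2 hk)
    refine Or.inl ⟨p, hp, hPG, ?_, ?_⟩
    · have : Fintype G := Fintype.ofFinite G
      have e1 : Nat.card {g : G // orderOf g = p} =
          (Finset.univ.filter (fun g : G => orderOf g = p)).card :=
        natCard_subtype_eq_card_filter _
      have e2 : (Finset.univ.filter (fun g : G => orderOf g = p)) ⊆ Finset.univ.erase 1 := by
        intro g hg
        rw [Finset.mem_filter] at hg
        rw [Finset.mem_erase]
        refine ⟨?_, Finset.mem_univ _⟩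
        rintro rfl
        rw [orderOf_one] at hg
        exact hp.one_lt.ne hg.2
      have e3 := Finset.card_le_card e2
      rw [Finset.card_erase_of_mem (Finset.mem_univ _), Finset.card_univ,
        ← Nat.card_eq_fintype_card] at e3
      have e4 : 0 < Nat.card G := Nat.card_pos
      omega
    · have h1 : Monoid.exponent G ∣ p := Monoid.exponent_dvd_of_forall_pow_eq_one hexp
      rcases (Nat.dvd_prime hp).mp h1 with h0 | h0
      · exfalso
        rw [Monoid.exp_eq_one_iff] at h0
        exact hg₀1 (Subsingleton.elim _ _)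
      · exact h0

end Cfsg.Agent.S3995
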