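import Cfsg.Statements.S3997
import Mathlib

set_option autoImplicit false
open Cfsg

namespace Cfsg.Agent.S3997

/-- Elements of a `p`-subgroup have `p`-power order. -/
theorem orderOf_eq_pow_of_mem {K : Type*} [Group K] (p : ℕ) (hp : p.Prime) (Q : Subgroup K)
    (hQ : IsPGroup p Q) (g : K) (hg : g ∈ Q) : ∃ k, orderOf g = p ^ k := by
  obtain ⟨k, hk⟩ := hQ ⟨g, hg⟩
  have hk' : g ^ (p ^ k) = 1 := by
    have := congrArg Subtype.val hk
    simpa using this
  obtain ⟨j, -, hj⟩ := (Nat.dvd_prime_pow hp).1 (orderOf_dvd_of_pow_eq_one hk')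
  exact ⟨j, hj⟩

/-- Let G and H be finite groups with the same order type: for every m they have the same number of elements of order m. If G is nilpotent then so is H. -/
theorem result {G H : Type*} [Group G] [Finite G] [Group H] [Finite H] (hT : (∀ m : ℕ, Nat.card {g : G // orderOf g = m} = Nat.card {h : H // orderOf h = m})) (hG : Group.IsNilpotent G) :
    Group.IsNilpotent H := by
  classical
  -- an order-preserving bijection `G ≃ H`
  have hequiv : ∀ m : ℕ, Nonempty ({g : G // orderOf g = m} ≃ {h : H // orderOf h = m}) :=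
    fun m => Finite.card_eq.1 (hT m)
  let e : G ≃ H := (Equiv.sigmaFiberEquiv (orderOf : G → ℕ)).symm.trans
    ((Equiv.sigmaCongrRight fun m => (hequiv m).some).trans
      (Equiv.sigmaFiberEquiv (orderOf : H → ℕ)))
  have he : ∀ g, orderOf (e g) = orderOf g := by
    intro g
    exact ((hequiv (orderOf g)).some ⟨g, rfl⟩).2
  have hcard : Nat.card G = Nat.card H := Nat.card_congr e
  refine (Group.isNilpotent_of_finite_tfae.out 0 3).2 ?_
  intro p hp P
  have hpp : p.Prime := hp.out
  obtain ⟨PG⟩ := (inferInstance : Nonempty (Sylow p G))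
  have hPGn : (PG : Subgroup G).Normal := inferInstance
  have hmemG : ∀ g : G, g ∈ (PG : Subgroup G) ↔ ∃ k, orderOf g = p ^ k := by
    intro g
    constructor
    · exact orderOf_eq_pow_of_mem p hpp PG PG.2 g
    · rintro ⟨k, hk⟩
      have hz : IsPGroup p (Subgroup.zpowers g) := by
        apply IsPGroup.of_card (n := k)
        rw [Nat.card_zpowers, hk]
      obtain ⟨Q, hQ⟩ := hz.exists_le_sylow
      have := Sylow.unique_of_normal PG hPGn
      have hQP : Q = PG := Subsingleton.elim _ _
      rw [← hQP]
      exact hQ (Subgroup.mem_zpowers g)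
  have hc1 : Nat.card (PG : Subgroup G) = Nat.card {g : G // ∃ k, orderOf g = p ^ k} :=
    Nat.card_congr (Equiv.subtypeEquivRight hmemG)
  have hc2 : Nat.card {g : G // ∃ k, orderOf g = p ^ k} = Nat.card {h : H // ∃ k, orderOf h = p ^ k} :=
    Nat.card_congr (Equiv.subtypeEquiv e (fun g => by rw [he]))
  have hc3 : Nat.card (P : Subgroup H) = Nat.card (PG : Subgroup G) := by
    rw [Sylow.card_eq_multiplicity, Sylow.card_eq_multiplicity, hcard]
  have hset : ((P : Subgroup H) : Set H) = {h : H | ∃ k, orderOf h = p ^ k} := by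
    apply Set.eq_of_subset_of_ncard_le
    · intro h hh
      exact orderOf_eq_pow_of_mem p hpp P P.2 h hh
    · rw [← Nat.card_coe_set_eq, ← Nat.card_coe_set_eq]
      have : Nat.card ((P : Subgroup H) : Set H) = Nat.card (P : Subgroup H) := rfl
      rw [this, hc3, hc1, hc2]
      exact le_of_eq rfl
    · exact Set.toFinite _
  have hss : Subsingleton (Sylow p H) := by
    have key : ∀ Q : Sylow p H, Q = P := by
      intro Q
      have hle : (Q : Subgroup H) ≤ P := by
        intro h hh
        have : h ∈ ((P : Subgroup H) : Set H) := by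
          rw [hset]
          exact orderOf_eq_pow_of_mem p hpp Q Q.2 h hh
        exact this
      apply Sylow.ext
      exact (Q.is_maximal' P.2 hle).symm
    exact ⟨fun Q R => (key Q).trans (key R).symm⟩
  exact Sylow.normal_of_subsingleton P

end Cfsg.Agent.S3997
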