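import Cfsg.Statements.S3998
import Mathlib
import Cfsg.Agent.Lib.helper11.Supersolvable
import Cfsg.Agent.Lib.helper12.Supersolvable

set_option autoImplicit false
open Cfsg

namespace Cfsg.Agent.S3998

universe u v

/-- All prime factors of `m` are at least `ℓ`. -/
def Big (ℓ m : ℕ) : Prop := ∀ r : ℕ, r.Prime → r ∣ m → ℓ ≤ r

/-- The number of elements whose order has all its prime factors `≥ ℓ`. -/
noncomputable def T (ℓ : ℕ) (X : Type*) [Group X] : ℕ := Nat.card {x : X // Big ℓ (orderOf x)}

/-- A `p`-element centralizes a normal subgroup of prime order `q < p`. -/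
theorem commute_of_pElement_of_normal_prime {G : Type*} [Group G] [Finite G] (p q : ℕ)
    (hp : p.Prime) (hq : q.Prime) (hqp : q < p) (N : Subgroup G) [N.Normal]
    (hN : Nat.card N = q) (x : G) (hx : ∃ k, orderOf x = p ^ k) (y : G) (hy : y ∈ N) :
    x * y = y * x := by
  have : Fact q.Prime := ⟨hq⟩
  have hcyc : IsCyclic N := isCyclic_of_prime_card hN
  have hcard : Nat.card (MulAut N) = q - 1 := by
    rw [IsCyclic.card_mulAut, hN, Nat.totient_prime hq]
  obtain ⟨k, hk⟩ := hx
  have h1 : orderOf ((MulAut.conjNormal x : MulAut N)) ∣ p ^ k :=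
    hk ▸ orderOf_map_dvd (MulAut.conjNormal : G →* MulAut N) x
  have h2 : orderOf ((MulAut.conjNormal x : MulAut N)) ∣ q - 1 :=
    hcard ▸ orderOf_dvd_natCard _
  obtain ⟨j, _, hj⟩ := (Nat.dvd_prime_pow hp).mp h1
  have hj0 : j = 0 := by
    by_contra hj0
    have h3 : p ∣ q - 1 := dvd_trans (hj ▸ dvd_pow_self p hj0) h2
    have h4 := Nat.le_of_dvd (by have := hq.two_le; omega) h3
    omega
  rw [hj0, pow_zero, orderOf_eq_one_iff] at hj
  have h5 : (MulAut.conjNormal x : MulAut N) ⟨y, hy⟩ = ⟨y, hy⟩ := by rw [hj]; rfl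
  have h6 := congrArg Subtype.val h5
  rw [MulAut.conjNormal_apply] at h6
  exact mul_inv_eq_iff_eq_mul.mp h6

/-- In a finite supersolvable group the Sylow subgroup for the largest prime is normal. -/
theorem sylow_normal_of_isSupersolvable_aux (p : ℕ) [Fact p.Prime] :
    ∀ (n : ℕ) (G : Type u) [Group G] [Finite G], Nat.card G = n → Cfsg.IsSupersolvable G →
      (∀ r : ℕ, r.Prime → r ∣ Nat.card G → r ≤ p) → ∀ P : Sylow p G, (P : Subgroup G).Normal := by
  have hp : p.Prime := Fact.out
  intro n
  induction n using Nat.strong_induction_on with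
  | _ n ih =>
    intro G _ _ hn hG hmax P
    by_cases htriv : Subsingleton G
    · exact ⟨fun x hx g => by rw [Subsingleton.elim (g * x * g⁻¹) x]; exact hx⟩
    · have : Nontrivial G := not_subsingleton_iff_nontrivial.mp htriv
      obtain ⟨N, hNn, hNp⟩ := Cfsg.Agent.Lib.helper12.exists_normal_prime_card hG
      have hGN : Cfsg.IsSupersolvable (G ⧸ N) :=
        Cfsg.Agent.Lib.helper11.isSupersolvable_quotient hG N
      have hcardQ : Nat.card (G ⧸ N) < n := by
        have h1 := Subgroup.card_eq_card_quotient_mul_card_subgroup N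
        have h2 := hNp.two_le
        have h3 : 0 < Nat.card (G ⧸ N) := Nat.card_pos
        rw [hn] at h1
        nlinarith
      have hmaxQ : ∀ r : ℕ, r.Prime → r ∣ Nat.card (G ⧸ N) → r ≤ p := fun r hr hd =>
        hmax r hr (dvd_trans hd (Subgroup.card_quotient_dvd_card N))
      have hsurj := QuotientGroup.mk'_surjective N
      have hPbar := ih _ hcardQ (G ⧸ N) rfl hGN hmaxQ (P.mapSurjective hsurj)
      rw [Sylow.coe_mapSurjective] at hPbar
      set K : Subgroup G := ((P : Subgroup G).map (QuotientGroup.mk' N)).comap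
        (QuotientGroup.mk' N) with hK
      have hKn : K.Normal := hPbar.comap _
      have hPK : (P : Subgroup G) ≤ K := Subgroup.le_comap_map _ _
      have hK' : ∀ k ∈ K, ∃ x ∈ (P : Subgroup G), ∃ y ∈ N, k = x * y := by
        intro k hk
        obtain ⟨x, hx, hxk⟩ := Subgroup.mem_map.mp (Subgroup.mem_comap.mp hk)
        refine ⟨x, hx, x⁻¹ * k, ?_, by group⟩
        exact QuotientGroup.eq.mp hxk
      have hNnorm : N ≤ Subgroup.normalizer ((P : Subgroup G) : Set G) := by
        by_cases hqp : Nat.card N = p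
        · have hNpg : IsPGroup p N := IsPGroup.of_card (n := 1) (by rw [pow_one, hqp])
          have hsup : IsPGroup p ((P : Subgroup G) ⊔ N : Subgroup G) :=
            IsPGroup.to_sup_of_normal_right P.2 hNpg
          have h1 := P.is_maximal' hsup le_sup_left
          have hNP : N ≤ (P : Subgroup G) := h1 ▸ le_sup_right
          exact le_trans hNP Subgroup.le_normalizer
        · have hlt : Nat.card N < p :=
            lt_of_le_of_ne (hmax _ hNp (Subgroup.card_subgroup_dvd_card N)) hqp
          have hcent : ∀ x ∈ (P : Subgroup G), ∀ y ∈ N, x * y = y * x := by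
            intro x hx y hy
            have hxo : ∃ k, orderOf x = p ^ k := by
              obtain ⟨k, hk⟩ := IsPGroup.iff_orderOf.mp P.2 ⟨x, hx⟩
              exact ⟨k, by rw [← hk, Subgroup.orderOf_mk]⟩
            exact commute_of_pElement_of_normal_prime p _ hp hNp hlt N rfl x hxo y hy
          intro y hy
          rw [Subgroup.mem_normalizer_iff]
          intro z
          constructor
          · intro hz
            have h1 := hcent z hz y hy
            have h2 : y * z * y⁻¹ = z := by rw [← h1]; group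
            rw [h2]; exact hz
          · intro hz
            have h1 := hcent _ hz y⁻¹ (N.inv_mem hy)
            have h2 : z = y⁻¹ * (y * z * y⁻¹) * y⁻¹⁻¹ := by group
            have h3 : y⁻¹ * (y * z * y⁻¹) * y⁻¹⁻¹ = y * z * y⁻¹ := by rw [← h1]; group
            rw [h2, h3]; exact hz
      have hKnorm : K ≤ Subgroup.normalizer ((P : Subgroup G) : Set G) := by
        intro k hk
        obtain ⟨x, hx, y, hy, rfl⟩ := hK' k hk
        exact Subgroup.mul_mem _ (Subgroup.le_normalizer hx) (hNnorm hy)
      have hfr := Sylow.normalizer_sup_eq_top (P.subtype hPK)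
      rw [Sylow.coe_subtype, Subgroup.map_subgroupOf_eq_of_le hPK] at hfr
      have h1 : Subgroup.normalizer ((P : Subgroup G) : Set G) = ⊤ := by
        rw [← hfr]; exact (sup_eq_left.mpr hKnorm).symm
      exact Subgroup.normalizer_eq_top_iff.mp h1

/-- Elements of a `p`-subgroup have orders all of whose prime factors are `≥ p`. -/
theorem big_of_mem_pgroup {X : Type*} [Group X] (p : ℕ) [Fact p.Prime] (P : Subgroup X)
    (hP : IsPGroup p P) (x : X) (hx : x ∈ P) : Big p (orderOf x) := by
  have hp : p.Prime := Fact.out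
  obtain ⟨k, hk⟩ := IsPGroup.iff_orderOf.mp hP ⟨x, hx⟩
  rw [Subgroup.orderOf_mk] at hk
  intro r hr hrd
  rw [hk] at hrd
  exact le_of_eq ((Nat.prime_dvd_prime_iff_eq hr hp).mp (hr.dvd_of_dvd_pow hrd)).symm

/-- If all primes dividing `|X|` are `≤ p`, an element with `Big p` order is a `p`-element. -/
theorem orderOf_eq_pow_of_big {X : Type*} [Group X] [Finite X] (p : ℕ)
    (hmax : ∀ r : ℕ, r.Prime → r ∣ Nat.card X → r ≤ p) (x : X) (hx : Big p (orderOf x)) :
    ∃ k, orderOf x = p ^ k :=
  ⟨_, Nat.eq_prime_pow_of_unique_prime_dvd (orderOf_pos x).ne' (fun {d} hd hdd =>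
    le_antisymm (hmax d hd (dvd_trans hdd (orderOf_dvd_natCard x))) (hx d hd hdd))⟩

/-- If the number of elements with `Big p` order equals the order of a Sylow `p`-subgroup, the
Sylow `p`-subgroup is normal. -/
theorem sylow_normal_of_T_eq {X : Type*} [Group X] [Finite X] (p : ℕ) [Fact p.Prime]
    (P : Sylow p X) (hT : T p X = Nat.card (P : Subgroup X)) : (P : Subgroup X).Normal := by
  have hset : ((P : Subgroup X) : Set X) = {x : X | Big p (orderOf x)} := by
    apply Set.eq_of_subset_of_ncard_le
    · intro x hx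
      exact big_of_mem_pgroup p P P.2 x hx
    · rw [← Nat.card_coe_set_eq, ← Nat.card_coe_set_eq]
      have h1 : Nat.card ((P : Subgroup X) : Set X) = Nat.card (P : Subgroup X) := rfl
      rw [h1, ← hT]
      exact le_of_eq rfl
    · exact Set.toFinite _
  have hss : Subsingleton (Sylow p X) := by
    have key : ∀ Q : Sylow p X, Q = P := by
      intro Q
      have hle : (Q : Subgroup X) ≤ P := by
        intro x hx
        have h1 : x ∈ ((P : Subgroup X) : Set X) := by
          rw [hset]; exact big_of_mem_pgroup p Q Q.2 x hx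
        exact h1
      apply Sylow.ext
      exact (Q.is_maximal' P.2 hle).symm
    exact ⟨fun Q R => (key Q).trans (key R).symm⟩
  exact Sylow.normal_of_subsingleton P

/-- For a normal Sylow `p`-subgroup with `p` the largest prime, `T p X = |P|`. -/
theorem T_eq_card_of_normal {X : Type*} [Group X] [Finite X] (p : ℕ) [Fact p.Prime]
    (hmax : ∀ r : ℕ, r.Prime → r ∣ Nat.card X → r ≤ p)
    (P : Sylow p X) (hPn : (P : Subgroup X).Normal) : T p X = Nat.card (P : Subgroup X) := by
  have hmem : ∀ x : X, Big p (orderOf x) ↔ x ∈ (P : Subgroup X) := by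
    intro x
    constructor
    · intro hx
      obtain ⟨k, hk⟩ := orderOf_eq_pow_of_big p hmax x hx
      have hz : IsPGroup p (Subgroup.zpowers x) :=
        IsPGroup.of_card (n := k) (by rw [Nat.card_zpowers, hk])
      obtain ⟨Q, hQ⟩ := hz.exists_le_sylow
      have := Sylow.unique_of_normal P hPn
      have hQP : Q = P := Subsingleton.elim _ _
      rw [← hQP]
      exact hQ (Subgroup.mem_zpowers x)
    · exact big_of_mem_pgroup p P P.2 x
  exact Nat.card_congr (Equiv.subtypeEquivRight hmem)

/-- Passing to the quotient by a normal `p`-subgroup, for `ℓ ≤ p`. -/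
theorem T_eq_mul_T_quotient {X : Type*} [Group X] [Finite X] (p : ℕ) [Fact p.Prime]
    (P : Subgroup X) [P.Normal] (hP : IsPGroup p P) (ℓ : ℕ) (hℓ : ℓ ≤ p) :
    T ℓ X = Nat.card P * T ℓ (X ⧸ P) := by
  have hp : p.Prime := Fact.out
  have hset : {x : X | Big ℓ (orderOf x)} =
      (QuotientGroup.mk : X → X ⧸ P) ⁻¹' {y : X ⧸ P | Big ℓ (orderOf y)} := by
    ext x
    simp only [Set.mem_ofPred_eq, Set.mem_preimage]
    constructor
    · intro hx r hr hrd
      exact hx r hr (dvd_trans hrd (orderOf_map_dvd (QuotientGroup.mk' P) x))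
    · intro hx r hr hrd
      have h1 : x ^ orderOf (x : X ⧸ P) ∈ P := by
        rw [← QuotientGroup.eq_one_iff, QuotientGroup.mk_pow, pow_orderOf_eq_one]
      obtain ⟨k, hk⟩ := hP ⟨_, h1⟩
      have h2 : (x ^ orderOf (x : X ⧸ P)) ^ p ^ k = 1 := by
        have := congrArg Subtype.val hk
        simpa using this
      rw [← pow_mul] at h2
      have h3 := dvd_trans hrd (orderOf_dvd_of_pow_eq_one h2)
      rcases (Nat.Prime.dvd_mul hr).mp h3 with h4 | h4
      · exact hx r hr h4
      · exact hℓ.trans (le_of_eq ((Nat.prime_dvd_prime_iff_eq hr hp).mp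
          (hr.dvd_of_dvd_pow h4)).symm)
  have h1 : T ℓ X = Nat.card ({x : X | Big ℓ (orderOf x)} : Set X) := rfl
  have h2 : T ℓ (X ⧸ P) = Nat.card ({y : X ⧸ P | Big ℓ (orderOf y)} : Set (X ⧸ P)) := rfl
  rw [h1, h2, hset, QuotientGroup.card_preimage_mk]

/-- If all primes dividing `|Y|` are `< ℓ` then only the identity has `Big ℓ` order. -/
theorem T_eq_one {Y : Type*} [Group Y] [Finite Y] (ℓ : ℕ)
    (h : ∀ r : ℕ, r.Prime → r ∣ Nat.card Y → r < ℓ) : T ℓ Y = 1 := by
  rw [T, Nat.card_eq_one_iff_unique]
  refine ⟨⟨fun a b => ?_⟩, ⟨⟨1, fun r hr hrd => ?_⟩⟩⟩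
  · have key : ∀ c : {y : Y // Big ℓ (orderOf y)}, (c : Y) = 1 := by
      intro c
      by_contra hc
      have hne : orderOf (c : Y) ≠ 1 := fun h1 => hc (orderOf_eq_one_iff.mp h1)
      obtain ⟨r, hr, hrd⟩ := Nat.exists_prime_and_dvd hne
      have h1 := h r hr (dvd_trans hrd (orderOf_dvd_natCard _))
      have h2 := c.2 r hr hrd
      omega
    exact Subtype.ext ((key a).trans (key b).symm)
  · rw [orderOf_one] at hrd
    exact absurd (Nat.dvd_one.mp hrd) hr.one_lt.ne'

theorem T_zero (X : Type*) [Group X] : T 0 X = Nat.card X :=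
  Nat.card_congr (Equiv.subtypeUnivEquiv (fun _ _ _ _ => Nat.zero_le _))

/-- Main induction: a group sharing the invariants `T ℓ` of a supersolvable group is solvable. -/
theorem main_aux : ∀ (n : ℕ) (G : Type u) (H : Type v) [Group G] [Finite G] [Group H] [Finite H],
    Nat.card G = n → Cfsg.IsSupersolvable G → (∀ ℓ, T ℓ G = T ℓ H) → Group.IsSolvable H := by
  intro n
  induction n using Nat.strong_induction_on with
  | _ n ih =>
    intro G H _ _ _ _ hn hG hT
    have hcard : Nat.card H = Nat.card G := by rw [← T_zero, ← T_zero, hT]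
    by_cases hn1 : n = 1
    · have : Subsingleton H := (Nat.card_eq_one_iff_unique.mp (by rw [hcard, hn, hn1])).1
      exact Group.isSolvable_of_comm (fun a b => Subsingleton.elim _ _)
    · have hnpos : 0 < n := hn ▸ Nat.card_pos
      have hne : n.primeFactors.Nonempty := Nat.nonempty_primeFactors.mpr (by omega)
      obtain ⟨p, hpmem, hpmax⟩ := Finset.exists_max_image n.primeFactors id hne
      have hp : p.Prime := Nat.prime_of_mem_primeFactors hpmem
      have hpn : p ∣ n := Nat.dvd_of_mem_primeFactors hpmem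
      have : Fact p.Prime := ⟨hp⟩
      have hmaxn : ∀ r : ℕ, r.Prime → r ∣ n → r ≤ p := fun r hr hrd =>
        hpmax r (Nat.mem_primeFactors.mpr ⟨hr, hrd, hnpos.ne'⟩)
      have hmaxG : ∀ r : ℕ, r.Prime → r ∣ Nat.card G → r ≤ p := fun r hr hrd =>
        hmaxn r hr (hn ▸ hrd)
      have hmaxH : ∀ r : ℕ, r.Prime → r ∣ Nat.card H → r ≤ p := fun r hr hrd =>
        hmaxn r hr (hn ▸ hcard ▸ hrd)
      obtain ⟨PG⟩ := (inferInstance : Nonempty (Sylow p G))
      obtain ⟨PH⟩ := (inferInstance : Nonempty (Sylow p H))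
      have hPGn : (PG : Subgroup G).Normal :=
        sylow_normal_of_isSupersolvable_aux p n G hn hG hmaxG PG
      have hcardP : Nat.card (PH : Subgroup H) = Nat.card (PG : Subgroup G) := by
        rw [Sylow.card_eq_multiplicity, Sylow.card_eq_multiplicity, hcard]
      have hPHn : (PH : Subgroup H).Normal := by
        apply sylow_normal_of_T_eq p PH
        rw [← hT, T_eq_card_of_normal p hmaxG PG hPGn, hcardP]
      have hPGpos : 0 < Nat.card (PG : Subgroup G) := Nat.card_pos
      have hPG1 : 1 < Nat.card (PG : Subgroup G) :=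
        (Subgroup.one_lt_card_iff_ne_bot _).mpr (PG.ne_bot_of_dvd_card (hn ▸ hpn))
      have hcardQ : Nat.card (G ⧸ (PG : Subgroup G)) < n := by
        have h1 := Subgroup.card_eq_card_quotient_mul_card_subgroup (PG : Subgroup G)
        have h3 : 0 < Nat.card (G ⧸ (PG : Subgroup G)) := Nat.card_pos
        rw [hn] at h1
        nlinarith
      have hGQ : Cfsg.IsSupersolvable (G ⧸ (PG : Subgroup G)) :=
        Cfsg.Agent.Lib.helper11.isSupersolvable_quotient hG _
      have hTQ : ∀ ℓ, T ℓ (G ⧸ (PG : Subgroup G)) = T ℓ (H ⧸ (PH : Subgroup H)) := by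
        intro ℓ
        by_cases hℓ : ℓ ≤ p
        · have h1 := T_eq_mul_T_quotient p (PG : Subgroup G) PG.2 ℓ hℓ
          have h2 := T_eq_mul_T_quotient p (PH : Subgroup H) PH.2 ℓ hℓ
          rw [hT ℓ, h2, hcardP] at h1
          exact (Nat.eq_of_mul_eq_mul_left hPGpos h1).symm
        · rw [T_eq_one ℓ (fun r hr hrd => lt_of_le_of_lt
              (hmaxG r hr (dvd_trans hrd (Subgroup.card_quotient_dvd_card _))) (by omega)),
            T_eq_one ℓ (fun r hr hrd => lt_of_le_of_lt
              (hmaxH r hr (dvd_trans hrd (Subgroup.card_quotient_dvd_card _))) (by omega))]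
      have hsolvQ : Group.IsSolvable (H ⧸ (PH : Subgroup H)) :=
        ih _ hcardQ (G ⧸ (PG : Subgroup G)) (H ⧸ (PH : Subgroup H)) rfl hGQ hTQ
      have hnilP : Group.IsNilpotent (PH : Subgroup H) := IsPGroup.isNilpotent PH.2
      have hsolvP : Group.IsSolvable (PH : Subgroup H) := IsNilpotent.to_isSolvable
      exact Group.isSolvable_of_ker_le_range (PH : Subgroup H).subtype
        (QuotientGroup.mk' (PH : Subgroup H))
        (by rw [QuotientGroup.ker_mk', Subgroup.range_subtype])


/-- Let G and H be finite groups with the same order type (for every m the same number of elements of order m). If G is supersolvable then H is solvable. -/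
theorem result {G H : Type*} [Group G] [Finite G] [Group H] [Finite H] (hT : (∀ m : ℕ, Nat.card {g : G // orderOf g = m} = Nat.card {h : H // orderOf h = m})) (hG : Cfsg.IsSupersolvable G) :
    Group.IsSolvable H := by
  classical
  -- an order-preserving bijection `G ≃ H`
  have hequiv : ∀ m : ℕ, Nonempty ({g : G // orderOf g = m} ≃ {h : H // orderOf h = m}) :=
    fun m => Finite.card_eq.1 (hT m)
  let e : G ≃ H := (Equiv.sigmaFiberEquiv (orderOf : G → ℕ)).symm.trans
    ((Equiv.sigmaCongrRight fun m => (hequiv m).some).trans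
      (Equiv.sigmaFiberEquiv (orderOf : H → ℕ)))
  have he : ∀ g, orderOf (e g) = orderOf g := by
    intro g
    exact ((hequiv (orderOf g)).some ⟨g, rfl⟩).2
  refine main_aux (Nat.card G) G H rfl hG (fun ℓ => ?_)
  exact Nat.card_congr (Equiv.subtypeEquiv e (fun g => by rw [he]))

end Cfsg.Agent.S3998
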