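import Cfsg.Statements.S3999
import Mathlib
import Cfsg.Agent.Lib.helper70.FrobTypeB

set_option autoImplicit false
open Cfsg
open Cfsg.Agent.Lib.helper70
open scoped Pointwise

namespace Cfsg.Agent.S3999

/-- Let F be a finite Frobenius group (it has a Frobenius complement) and G a finite group with the same order type as F (for every m the same number of elements of order m). Then G is a Frobenius group; moreover G is solvable if and only if F is. -/
theorem result {F G : Type*} [Group F] [Finite F] [Group G] [Finite G] (hF : (∃ C : Subgroup F, Cfsg.IsFrobeniusComplement C)) (hT : (∀ m : ℕ, Nat.card {g : F // orderOf g = m} = Nat.card {h : G // orderOf h = m})) :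
    (∃ C : Subgroup G, Cfsg.IsFrobeniusComplement C) ∧ (Group.IsSolvable G ↔ Group.IsSolvable F) := by
  classical
  obtain ⟨H, hH⟩ := hF
  obtain ⟨K, hKset, -, -⟩ := Cfsg.Agent.S0042.result H hH
  obtain ⟨hKn, hcomp, hnil⟩ := frob_kernel_props H K hH hKset
  -- an order-preserving bijection `F ≃ G`
  have hequiv : ∀ m : ℕ, Nonempty ({g : F // orderOf g = m} ≃ {h : G // orderOf h = m}) :=
    fun m => Finite.card_eq.1 (hT m)
  let e : F ≃ G := (Equiv.sigmaFiberEquiv (orderOf : F → ℕ)).symm.trans
    ((Equiv.sigmaCongrRight fun m => (hequiv m).some).trans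
      (Equiv.sigmaFiberEquiv (orderOf : G → ℕ)))
  have he : ∀ g, orderOf (e g) = orderOf g := by
    intro g
    exact ((hequiv (orderOf g)).some ⟨g, rfl⟩).2
  have hcardFG : Nat.card F = Nat.card G := Nat.card_congr e
  have hcardF : Nat.card F = Nat.card K * Nat.card H := hcomp.card_mul_card.symm
  have hcop : (Nat.card K).Coprime (Nat.card H) := by
    have h1 := Cfsg.Agent.Lib.helper75.frob_coprime_card_index H hH
    have h3 : Nat.card H * H.index = Nat.card F := Subgroup.card_mul_index H
    have h4 : H.index = Nat.card K := by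
      have h5 : Nat.card H * H.index = Nat.card H * Nat.card K := by
        rw [h3, hcardF, mul_comm]
      exact Nat.eq_of_mul_eq_mul_left Nat.card_pos h5
    rw [h4] at h1
    exact h1.symm
  have hH1 : 1 < Nat.card H := by
    have h1 : Nat.card H ≠ 1 := fun h => hH.1 (Subgroup.card_eq_one.mp h)
    have h2 : 0 < Nat.card H := Nat.card_pos
    omega
  have hK1 : 1 < Nat.card K := by
    have h1 : Nat.card K ≠ 1 := by
      intro h
      apply hH.2.1
      apply Subgroup.eq_top_of_card_eq
      rw [hcardF, h, one_mul]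
    have h2 : 0 < Nat.card K := Nat.card_pos
    omega
  -- order dichotomy in `F`
  have hdichF : ∀ f : F, f ∈ K ∨ orderOf f ∣ Nat.card H := by
    intro f
    by_cases hfK : f ∈ K
    · exact Or.inl hfK
    · right
      have hfk : f ∉ frobeniusKernel H := by rw [← hKset]; exact hfK
      have hex : ∃ g : F, f ∈ MulAut.conj g • H := by
        by_contra hne
        push Not at hne
        exact hfk (Or.inr hne)
      obtain ⟨g, hg⟩ := hex
      rw [Subgroup.mem_pointwise_smul_iff_inv_smul_mem] at hg
      have hc : g⁻¹ * f * g ∈ H := by simpa [MulAut.smul_def] using hg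
      have h1 : g⁻¹ * f * g = g⁻¹ * f * g⁻¹⁻¹ := by rw [inv_inv]
      have h2 : orderOf (g⁻¹ * f * g) = orderOf f := by rw [h1, orderOf_conj_eq]
      rw [← h2]
      exact Subgroup.orderOf_dvd_natCard H hc
  have hdich : ∀ g : G, orderOf g ∣ Nat.card K ∨ orderOf g ∣ Nat.card H := by
    intro g
    obtain ⟨f, rfl⟩ := e.surjective g
    rw [he]
    rcases hdichF f with h | h
    · exact Or.inl (Subgroup.orderOf_dvd_natCard K h)
    · exact Or.inr h
  have hcount : ∀ p : ℕ, p.Prime → p ∣ Nat.card K →
      Nat.card {g : G // ∃ k : ℕ, orderOf g = p ^ k} ≤ p ^ (Nat.card K).factorization p := by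
    intro p hp hpK
    have : Fact p.Prime := ⟨hp⟩
    have hc2 : Nat.card {g : F // ∃ k, orderOf g = p ^ k} =
        Nat.card {h : G // ∃ k, orderOf h = p ^ k} :=
      Nat.card_congr (Equiv.subtypeEquiv e (fun g => by rw [he]))
    rw [← hc2]
    have hpH : ¬ p ∣ Nat.card H := by
      intro hpH
      have h2 : p ∣ Nat.gcd (Nat.card K) (Nat.card H) := Nat.dvd_gcd hpK hpH
      rw [hcop] at h2
      exact hp.one_lt.ne' (Nat.dvd_one.mp h2)
    obtain ⟨P⟩ := (inferInstance : Nonempty (Sylow p ↥K))
    have huniq : ∀ Q : Sylow p ↥K, Q = P := fun Q => by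
      let _ := Sylow.unique_of_normal P inferInstance
      exact Subsingleton.elim Q P
    have hmem : ∀ x : ↥K, (∃ k, orderOf x = p ^ k) → x ∈ (P : Subgroup ↥K) := by
      rintro x ⟨k, hk⟩
      obtain ⟨Q, hQ⟩ := (IsPGroup.of_card (p := p) (n := k)
        (by rw [Nat.card_zpowers, hk] : Nat.card (Subgroup.zpowers x) = p ^ k)).exists_le_sylow
      rw [huniq Q] at hQ
      exact hQ (Subgroup.mem_zpowers x)
    have hmemK : ∀ f : F, (∃ k, orderOf f = p ^ k) → f ∈ K := by
      rintro f ⟨k, hk⟩
      rcases hdichF f with h | h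
      · exact h
      · rw [hk] at h
        rcases Nat.eq_zero_or_pos k with hk0 | hk0
        · rw [hk0, pow_zero, orderOf_eq_one_iff] at hk
          rw [hk]; exact K.one_mem
        · exact absurd (dvd_trans (dvd_pow_self p hk0.ne') h) hpH
    have hcardP : Nat.card ↥(P : Subgroup ↥K) = p ^ (Nat.card K).factorization p :=
      Sylow.card_eq_multiplicity P
    rw [← hcardP]
    apply Nat.card_le_card_of_injective
      (fun f : {g : F // ∃ k, orderOf g = p ^ k} =>
        (⟨⟨f.1, hmemK f.1 f.2⟩, hmem ⟨f.1, hmemK f.1 f.2⟩ (by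
          obtain ⟨k, hk⟩ := f.2
          exact ⟨k, by rw [← Subgroup.orderOf_coe]; exact hk⟩)⟩ : ↥(P : Subgroup ↥K)))
    intro f₁ f₂ h12
    have h1 := congrArg (fun x : ↥(P : Subgroup ↥K) => ((x : ↥K) : F)) h12
    exact Subtype.ext h1
  obtain ⟨N, C, hNn, hcardN, hcardC, hNC, hFC, hker⟩ :=
    frobenius_of_order_data (G := G) (Nat.card K) (Nat.card H)
      (by rw [← hcardFG, hcardF]) hcop hK1 hH1 hdich hcount
  refine ⟨⟨C, hFC⟩, ?_⟩
  rw [frob_isSolvable_iff C N hFC hker, frob_isSolvable_iff H K hH hKset.symm]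
  constructor
  · intro hsol
    exact frob_complement_isSolvable_transfer C N H K hFC hker hH hKset.symm hcardN hcardC
      (fun p => (hT p).symm) hsol
  · intro hsol
    exact frob_complement_isSolvable_transfer H K C N hH hKset.symm hFC hker hcardN.symm hcardC.symm
      hT hsol

end Cfsg.Agent.S3999
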