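import Cfsg.Statements.S4001
import Mathlib
import Cfsg.Agent.Lib.helper70.TwoFrob

set_option autoImplicit false
open Cfsg

namespace Cfsg.Agent.S4001

open Cfsg.Agent.Lib.helper70

/-- Let G be a 2-Frobenius group: it has normal subgroups H < K with K a Frobenius group with kernel H and G/H a Frobenius group with kernel K/H. Then G is solvable; K/H has odd order coprime to the order of H and to the order of G/K (it is the image of an odd-order Hall subgroup); G/K is cyclic; and the prime graph of G has exactly two connected components, both complete: for distinct primes p, q dividing the order of G, G has an element of order pq exactly when p and q either both divide the order of K/H or both do not. -/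
theorem result {G : Type*} [Group G] [Finite G] (H K : Subgroup G) [H.Normal] [K.Normal] (hlt : H < K)
    (hK : ∃ C : Subgroup ↥K, Cfsg.IsFrobeniusComplement C ∧ Cfsg.frobeniusKernel C = (H.subgroupOf K : Set ↥K))
    (hGH : ∃ C : Subgroup (G ⧸ H), Cfsg.IsFrobeniusComplement C ∧ Cfsg.frobeniusKernel C = (K.map (QuotientGroup.mk' H) : Set (G ⧸ H))) :
    Group.IsSolvable G ∧ Odd (Nat.card (↥K ⧸ H.subgroupOf K)) ∧
      Nat.Coprime (Nat.card (↥K ⧸ H.subgroupOf K)) (Nat.card ↥H * Nat.card (G ⧸ K)) ∧ IsCyclic (G ⧸ K) ∧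
      ∀ p q : ℕ, p.Prime → q.Prime → p ≠ q → p ∣ Nat.card G → q ∣ Nat.card G →
        ((∃ g : G, orderOf g = p * q) ↔ (p ∣ Nat.card (↥K ⧸ H.subgroupOf K) ↔ q ∣ Nat.card (↥K ⧸ H.subgroupOf K))) := by
  obtain ⟨C₁, hC₁, hker₁⟩ := hK
  obtain ⟨C₂, hC₂, hker₂⟩ := hGH
  have hHK : H ≤ K := hlt.le
  have hcq := tf_card_quot H K C₁ hC₁ hker₁
  have hcGK := tf_card_GK H K C₂ hC₂ hker₂ hHK
  have hcopH := tf_coprime_H H K C₁ hC₁ hker₁ hHK
  have hcopC := tf_coprime_C2 H K C₁ hC₁ hker₁ C₂ hC₂ hker₂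
  have hcardG := tf_card_G H K C₁ hC₁ hker₁ C₂ hC₂ hker₂ hHK
  refine ⟨tf_solvable H K C₁ hC₁ hker₁ C₂ hC₂ hker₂ hHK, ?_, ?_,
    tf_GK_cyclic H K C₁ hC₁ hker₁ C₂ hC₂ hker₂ hHK, ?_⟩
  · rw [hcq]; exact tf_odd H K C₁ hC₁ hker₁ C₂ hC₂ hker₂ hHK
  · rw [hcq, hcGK]; exact Nat.Coprime.mul_right hcopH hcopC
  · intro p q hp hq hpq hpG hqG
    rw [hcq]
    constructor
    · rintro ⟨g, hg⟩
      constructor
      · intro hp1
        by_contra hq1
        exact tf_no_mixed H K C₁ hC₁ hker₁ C₂ hC₂ hker₂ hHK p q hp hq hp1 hq1 g hg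
      · intro hq1
        by_contra hp1
        exact tf_no_mixed H K C₁ hC₁ hker₁ C₂ hC₂ hker₂ hHK q p hq hp hq1 hp1 g
          (by rw [hg, mul_comm])
    · intro hiff
      by_cases hp1 : p ∣ Nat.card C₁
      · exact tf_exists_A H K C₁ hC₁ hker₁ C₂ hC₂ hker₂ hHK p q hp hq hpq hp1 (hiff.mp hp1)
      · have hq1 : ¬ q ∣ Nat.card C₁ := fun h => hp1 (hiff.mpr h)
        rw [hcardG] at hpG hqG
        have hp2 : p ∣ Nat.card H ∨ p ∣ Nat.card C₂ := by
          rcases (Nat.Prime.dvd_mul hp).mp hpG with h | h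
          · rcases (Nat.Prime.dvd_mul hp).mp h with h | h
            · exact Or.inl h
            · exact absurd h hp1
          · exact Or.inr h
        have hq2 : q ∣ Nat.card H ∨ q ∣ Nat.card C₂ := by
          rcases (Nat.Prime.dvd_mul hq).mp hqG with h | h
          · rcases (Nat.Prime.dvd_mul hq).mp h with h | h
            · exact Or.inl h
            · exact absurd h hq1
          · exact Or.inr h
        rcases hp2 with hpH | hpC <;> rcases hq2 with hqH | hqC
        · exact tf_exists_B2 H K C₁ hC₁ hker₁ hHK p q hp hq hpq hpH hqH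
        · exact tf_exists_B3 H K C₁ hC₁ hker₁ C₂ hC₂ hker₂ hHK p q hp hq hpq hpH hqC
        · obtain ⟨g, hg⟩ := tf_exists_B3 H K C₁ hC₁ hker₁ C₂ hC₂ hker₂ hHK q p hq hp
            (Ne.symm hpq) hqH hpC
          exact ⟨g, by rw [hg, mul_comm]⟩
        · exact tf_exists_B1 H K C₁ hC₁ hker₁ C₂ hC₂ hker₂ hHK p q hp hq hpq hpC hqC

end Cfsg.Agent.S4001
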