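import Cfsg.Statements.S4002
import Mathlib
import Cfsg.Agent.Lib.helper64.ThreePrimes

set_option autoImplicit false
open Cfsg

namespace Cfsg.Agent.S4002

/-- For `n ≥ 7` there are three primes `p < q < r ≤ n` with `p * q > n`. -/
theorem exists_three_primes (n : ℕ) (hn : 7 ≤ n) :
    ∃ p q r : ℕ, p.Prime ∧ q.Prime ∧ r.Prime ∧ p < q ∧ q < r ∧ r ≤ n ∧ n < p * q := by
  rcases Nat.lt_or_ge n 15 with h15 | h15
  · exact ⟨3, 5, 7, by norm_num, by norm_num, by norm_num, by norm_num, by norm_num, hn, by omega⟩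
  rcases Nat.lt_or_ge n 35 with h35 | h35
  · exact ⟨5, 7, 11, by norm_num, by norm_num, by norm_num, by norm_num, by norm_num, by omega,
      by omega⟩
  obtain ⟨p, hp, hcp, hp2c⟩ := Nat.exists_prime_lt_and_le_two_mul (n / 8) (by omega)
  obtain ⟨q, hq, hbq, hq2b⟩ := Nat.exists_prime_lt_and_le_two_mul (n / 4) (by omega)
  obtain ⟨r, hr, har, hr2a⟩ := Nat.exists_prime_lt_and_le_two_mul (n / 2) (by omega)
  refine ⟨p, q, r, hp, hq, hr, by omega, by omega, by omega, ?_⟩
  have h1 : n < 8 * (n / 8 + 1) := by omega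
  have h2 : n < 4 * (n / 4 + 1) := by omega
  have h3 : n * n < (8 * (n / 8 + 1)) * (4 * (n / 4 + 1)) := Nat.mul_lt_mul'' h1 h2
  have h4 : (n / 8 + 1) * (n / 4 + 1) ≤ p * q := Nat.mul_le_mul (by omega) (by omega)
  nlinarith

/-- If the set of element orders of a finite group G is {1, 2, …, n} with n ≥ 7, then G is not solvable. -/
theorem result {G : Type*} [Group G] [Finite G] (n : ℕ) (hn : 7 ≤ n) (h : Set.range (orderOf : G → ℕ) = {k : ℕ | 1 ≤ k ∧ k ≤ n}) : ¬ Group.IsSolvable G := by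
  intro hsolv
  obtain ⟨p, q, r, hp, hq, hr, hpq, hqr, hrn, hpqn⟩ := exists_three_primes n hn
  have hdvd : ∀ a : ℕ, 1 ≤ a → a ≤ n → a ∣ Nat.card G := by
    intro a ha1 han
    have hmem : a ∈ Set.range (orderOf : G → ℕ) := by rw [h]; exact ⟨ha1, han⟩
    obtain ⟨g, rfl⟩ := hmem
    exact orderOf_dvd_natCard g
  have hρ : ∀ a ∈ ({p, q, r} : Finset ℕ), a.Prime ∧ a ∣ Nat.card G := by
    intro a ha
    simp only [Finset.mem_insert, Finset.mem_singleton] at ha
    rcases ha with rfl | rfl | rfl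
    · exact ⟨hp, hdvd _ hp.one_lt.le (by omega)⟩
    · exact ⟨hq, hdvd _ hq.one_lt.le (by omega)⟩
    · exact ⟨hr, hdvd _ hr.one_lt.le hrn⟩
  have hcard : 3 ≤ ({p, q, r} : Finset ℕ).card := by
    rw [Finset.card_insert_of_notMem (by simp; omega), Finset.card_insert_of_notMem (by simp; omega),
      Finset.card_singleton]
  obtain ⟨a, ha, b, hb, hab, x, hx⟩ :=
    Cfsg.Agent.Lib.helper64.solvable_three_primes hsolv ({p, q, r} : Finset ℕ) hρ hcard
  have hxn : orderOf x ≤ n := by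
    have hmem : orderOf x ∈ Set.range (orderOf : G → ℕ) := Set.mem_range_self x
    rw [h] at hmem
    exact hmem.2
  rw [hx] at hxn
  simp only [Finset.mem_insert, Finset.mem_singleton] at ha hb
  have hp0 : 0 < p := hp.pos
  rcases ha with rfl | rfl | rfl <;> rcases hb with rfl | rfl | rfl
  · exact hab rfl
  · omega
  · nlinarith
  · nlinarith
  · exact hab rfl
  · nlinarith
  · nlinarith
  · nlinarith
  · exact hab rfl

end Cfsg.Agent.S4002
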