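import Cfsg.Statements.S4003
import Mathlib
import Cfsg.Agent.Lib.helper70.Miller

set_option autoImplicit false
open Cfsg

namespace Cfsg.Agent.S4003

open Cfsg.Agent.Lib.helper70
open scoped Pointwise

/-- Let G be a finite group, p an odd prime dividing the order of G whose Sylow p-subgroups are not cyclic, and n = p^s·m with s > 1 and m coprime to p. Then the number of elements of G of order n is a multiple of p^s. -/
theorem result {G : Type*} [Group G] [Finite G] (p : ℕ) [Fact p.Prime] (hodd : p ≠ 2) (hpG : p ∣ Nat.card G)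
    (P : Sylow p G) (hP : ¬ IsCyclic ↥(P : Subgroup G)) (s m : ℕ) (hs : 1 < s) (hm : Nat.Coprime p m) :
    p ^ s ∣ Nat.card {g : G // orderOf g = p ^ s * m} := by
  classical
  have : Fintype G := Fintype.ofFinite G
  have hp : p.Prime := Fact.out
  rw [card_orderOf_mul_coprime (p ^ s) m (Nat.Coprime.pow_left s hm)]
  rw [natCard_subtype_eq_card_filter]
  set W : Finset (G × G) := Finset.univ.filter
    (fun w : G × G => orderOf w.1 = p ^ s ∧ orderOf w.2 = m ∧ Commute w.1 w.2) with hW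
  let ψ : G × G → Subgroup G × G := fun w => (Subgroup.zpowers w.1, w.2)
  have hψ : ∀ w : G × G, ψ w = (Subgroup.zpowers w.1, w.2) := fun _ => rfl
  have hcard : W.card = (p ^ s).totient * (W.image ψ).card := by
    rw [Finset.card_eq_sum_card_fiberwise (f := ψ) (t := W.image ψ)
      (fun x hx => Finset.mem_image_of_mem _ hx)]
    rw [Finset.sum_congr rfl (g := fun _ => (p ^ s).totient), Finset.sum_const, smul_eq_mul,
      mul_comm]
    intro z hz
    obtain ⟨w₀, hw₀, rfl⟩ := Finset.mem_image.mp hz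
    obtain ⟨x₀, y₀⟩ := w₀
    have hw₀' := (Finset.mem_filter.mp hw₀).2
    rw [← hw₀'.1, ← card_filter_zpowers_eq x₀,
      ← Finset.card_image_of_injective _ (f := fun x' : G => (x', y₀))
        (fun a b h => (Prod.mk.inj h).1)]
    congr 1
    ext w
    simp only [Finset.mem_filter, Finset.mem_univ, true_and, Finset.mem_image, hW, hψ]
    constructor
    · rintro ⟨hw, hψw⟩
      exact ⟨w.1, (Prod.mk.inj hψw).1, Prod.ext rfl (Prod.mk.inj hψw).2.symm⟩
    · rintro ⟨x', hx', rfl⟩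
      refine ⟨⟨?_, hw₀'.2.1, ?_⟩, by rw [hx']⟩
      · rw [← Nat.card_zpowers, hx', Nat.card_zpowers]; exact hw₀'.1
      · have h1 : x' ∈ Subgroup.zpowers x₀ := hx' ▸ Subgroup.mem_zpowers x'
        obtain ⟨k, rfl⟩ := Subgroup.mem_zpowers_iff.mp h1
        exact hw₀'.2.2.zpow_left k
  rw [hcard]
  let act : MulAction ↥(P : Subgroup G) (Subgroup G × G) :=
    MulAction.compHom (Subgroup G × G)
      ((MulAut.conj : G →* MulAut G).comp (P : Subgroup G).subtype)
  have hact : ∀ (γ : ↥(P : Subgroup G)) (z : Subgroup G × G),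
      γ • z = (MulAut.conj (γ : G) • z.1, (γ : G) * z.2 * (γ : G)⁻¹) := fun _ _ => rfl
  have hordc : ∀ h x : G, orderOf (h * x * h⁻¹) = orderOf x := by
    intro h x
    have := MulEquiv.orderOf_eq (MulAut.conj h) x
    rwa [MulAut.conj_apply] at this
  have hinv : ∀ γ : ↥(P : Subgroup G), ∀ z ∈ W.image ψ, γ • z ∈ W.image ψ := by
    intro γ z hz
    obtain ⟨⟨x, y⟩, hw, rfl⟩ := Finset.mem_image.mp hz
    have hw' := (Finset.mem_filter.mp hw).2
    rw [hact]
    refine Finset.mem_image.mpr ⟨((γ : G) * x * (γ : G)⁻¹, (γ : G) * y * (γ : G)⁻¹), ?_, ?_⟩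
    · simp only [hW, Finset.mem_filter, Finset.mem_univ, true_and]
      refine ⟨by rw [hordc]; exact hw'.1, by rw [hordc]; exact hw'.2.1, ?_⟩
      have hc : x * y = y * x := hw'.2.2.eq
      show (γ : G) * x * (γ : G)⁻¹ * ((γ : G) * y * (γ : G)⁻¹) =
        (γ : G) * y * (γ : G)⁻¹ * ((γ : G) * x * (γ : G)⁻¹)
      have e1 : (γ : G) * x * (γ : G)⁻¹ * ((γ : G) * y * (γ : G)⁻¹) =
          (γ : G) * (x * y) * (γ : G)⁻¹ := by group
      have e2 : (γ : G) * y * (γ : G)⁻¹ * ((γ : G) * x * (γ : G)⁻¹) =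
          (γ : G) * (y * x) * (γ : G)⁻¹ := by group
      rw [e1, e2, hc]
    · rw [hψ, conj_smul_zpowers]
  have hA := card_modEq_card_fixed p P.2 (W.image ψ) hinv
  have hfix : Nat.card {z : Subgroup G × G // z ∈ W.image ψ ∧
        ∀ γ : ↥(P : Subgroup G), γ • z = z} =
      Nat.card {C : Subgroup G // (∃ x : G, orderOf x = p ^ s ∧ Subgroup.zpowers x = C) ∧
        ∀ h ∈ (P : Subgroup G), MulAut.conj h • C = C} *
      Nat.card {y : G // orderOf y = m ∧ ∀ h ∈ (P : Subgroup G), h * y * h⁻¹ = y} := by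
    rw [← Nat.card_prod]
    refine Nat.card_congr ((Equiv.subtypeEquivRight (fun z => ?_)).trans
      Equiv.subtypeProdEquivProd)
    constructor
    · rintro ⟨hz, hfixed⟩
      obtain ⟨⟨x, y⟩, hw, rfl⟩ := Finset.mem_image.mp hz
      have hw' := (Finset.mem_filter.mp hw).2
      refine ⟨⟨⟨x, hw'.1, rfl⟩, fun h hh => ?_⟩, hw'.2.1, fun h hh => ?_⟩
      · have h1 := hfixed ⟨h, hh⟩
        rw [hact] at h1
        exact (Prod.mk.inj h1).1
      · have h1 := hfixed ⟨h, hh⟩
        rw [hact] at h1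
        exact (Prod.mk.inj h1).2
    · obtain ⟨C, y⟩ := z
      rintro ⟨⟨⟨x, hx, hxC⟩, hCfix⟩, hy, hyfix⟩
      dsimp only at hxC hCfix hy hyfix
      subst hxC
      refine ⟨Finset.mem_image.mpr ⟨(x, y), ?_, rfl⟩, fun γ => ?_⟩
      · simp only [hW, Finset.mem_filter, Finset.mem_univ, true_and]
        refine ⟨hx, hy, ?_⟩
        have hxP : x ∈ (P : Subgroup G) := mem_sylow_of_zpowers_fixed p P x s hx hCfix
        have h1 := hyfix x hxP
        exact mul_inv_eq_iff_eq_mul.mp h1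
      · rw [hact]
        exact Prod.ext (hCfix γ.1 γ.2) (hyfix γ.1 γ.2)
  have hF := dvd_card_fixed_cyclic p hodd P hP s hs
  have hZ : p ∣ (W.image ψ).card :=
    (Nat.ModEq.dvd_iff hA (dvd_refl p)).mpr (hfix ▸ Dvd.dvd.mul_right hF _)
  rw [Nat.totient_prime_pow hp (by omega)]
  have hs' : p ^ s = p ^ (s - 1) * p := by
    rw [← pow_succ]; congr 1; omega
  rw [hs', mul_assoc]
  exact Nat.mul_dvd_mul_left _ (Dvd.dvd.mul_left hZ _)

end Cfsg.Agent.S4003
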