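import Cfsg.Statements.S4005
import Mathlib
import Cfsg.Agent.Lib.helper70.Basic
import Cfsg.Agent.Lib.helper70.Fpf

set_option autoImplicit false
open Cfsg

namespace Cfsg.Agent.S4005

/-- Braid computation: commuting involutions `a`, `b` and an involution `t` such that `a * t`,
`b * t`, `a * b * t` all have order dividing 3 force `t = b`. -/
theorem braid_eq {G : Type*} [Group G] (a b t : G) (ha : a * a = 1) (hb : b * b = 1)
    (ht : t * t = 1) (hab : a * b = b * a) (h1 : (a * t) ^ 3 = 1) (h2 : (b * t) ^ 3 = 1)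
    (h3 : (a * b * t) ^ 3 = 1) : t = b := by
  have htinv : t⁻¹ = t := inv_eq_of_mul_eq_one_right ht
  have br : ∀ c : G, c * c = 1 → (c * t) ^ 3 = 1 → t * c * t = c * t * c := by
    intro c hc h
    have hcinv : c⁻¹ = c := inv_eq_of_mul_eq_one_right hc
    have e1 : (c * t) ^ 3 = c * (t * c * t) * (c * t) := by
      rw [pow_succ, pow_succ, pow_one]; group
    rw [e1] at h
    have e2 : t * c * t = c⁻¹ * (c * t)⁻¹ := by
      have e3 : t * c * t = c⁻¹ * (c * (t * c * t) * (c * t)) * (c * t)⁻¹ := by group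
      rw [e3, h, mul_one]
    rw [e2, mul_inv_rev, hcinv, htinv, ← mul_assoc]
  have Ha := br a ha h1
  have Hb := br b hb h2
  have hab1 : (a * b) * (a * b) = 1 := by
    calc (a * b) * (a * b) = a * (b * a) * b := by group
      _ = a * (a * b) * b := by rw [← hab]
      _ = (a * a) * (b * b) := by group
      _ = 1 := by rw [ha, hb, one_mul]
  have Hab := br (a * b) hab1 h3
  have e : (t * a * t) * (t * b * t) = t * (a * b) * t := by
    calc (t * a * t) * (t * b * t) = t * a * (t * t) * b * t := by group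
      _ = t * (a * b) * t := by rw [ht]; group
  have E1 : a * b * t * (a * b) = (a * t * a) * (b * t * b) := by
    rw [← Hab, ← e, Ha, Hb]
  have E1' : a * (b * t * a * b) = a * (t * a * b * t * b) := by
    calc a * (b * t * a * b) = a * b * t * (a * b) := by group
      _ = (a * t * a) * (b * t * b) := E1
      _ = a * (t * a * b * t * b) := by group
  have E2' := mul_left_cancel E1'
  have E2 : b * t * a = t * a * b * t := mul_right_cancel E2'
  have E3' : b * (t * a * b) = b * (a * t) := by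
    calc b * (t * a * b) = b * t * (a * b) := by group
      _ = b * t * (b * a) := by rw [hab]
      _ = (b * t * b) * a := by group
      _ = (t * b * t) * a := by rw [Hb]
      _ = t * (b * t * a) := by group
      _ = t * (t * a * b * t) := by rw [E2]
      _ = (t * t) * a * b * t := by group
      _ = a * b * t := by rw [ht, one_mul]
      _ = b * a * t := by rw [hab]
      _ = b * (a * t) := by group
  have E3 := mul_left_cancel E3'
  have E4 : b * t * a = a := by rw [E2, E3, mul_assoc, ht, mul_one]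
  have E5 : b * t = 1 := by
    have e5 : b * t * a = 1 * a := by rw [E4, one_mul]
    exact mul_right_cancel e5
  rw [eq_inv_of_mul_eq_one_right E5]
  exact inv_eq_of_mul_eq_one_right hb

/-- No element of order 2 commutes with an element of order 3. -/
theorem no_comm {G : Type*} [Group G]
    (hord : ∀ g : G, orderOf g = 1 ∨ orderOf g = 2 ∨ orderOf g = 3)
    (a b : G) (ha : orderOf a = 2) (hb : orderOf b = 3) : a * b ≠ b * a := by
  intro hab
  have h1 : orderOf (a * b) = orderOf a * orderOf b :=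
    Commute.orderOf_mul_eq_mul_orderOf_of_coprime hab (by rw [ha, hb]; decide)
  rw [ha, hb] at h1
  rcases hord (a * b) with h | h | h <;> omega

/-- Elements of a 2-subgroup square to one. -/
theorem sq_eq_one {G : Type*} [Group G]
    (hord : ∀ g : G, orderOf g = 1 ∨ orderOf g = 2 ∨ orderOf g = 3)
    (H : Subgroup G) (hH : IsPGroup 2 H) (s : G) (hs : s ∈ H) : s * s = 1 := by
  obtain ⟨k, hk⟩ := Cfsg.Agent.Lib.helper70.orderOf_eq_prime_pow_of_mem_isPGroup Nat.prime_two hH hs
  have h2 : orderOf s ∣ 2 := by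
    rcases hord s with h | h | h
    · rw [h]; exact one_dvd _
    · rw [h]
    · exfalso
      rw [h] at hk
      have h3 : 2 ∣ 3 := by
        rcases Nat.eq_zero_or_pos k with h0 | h0
        · rw [h0] at hk; omega
        · rw [hk]; exact dvd_pow_self 2 h0.ne'
      omega
  rw [← pow_two]
  exact orderOf_dvd_iff_pow_eq_one.1 h2

/-- A 2-subgroup is commutative. -/
theorem comm_two {G : Type*} [Group G]
    (hord : ∀ g : G, orderOf g = 1 ∨ orderOf g = 2 ∨ orderOf g = 3)
    (H : Subgroup G) (hH : IsPGroup 2 H) (s s' : G) (hs : s ∈ H) (hs' : s' ∈ H) :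
    s * s' = s' * s := by
  have h1 := sq_eq_one hord H hH s hs
  have h2 := sq_eq_one hord H hH s' hs'
  have h3 := sq_eq_one hord H hH (s * s') (H.mul_mem hs hs')
  calc s * s' = (s * s')⁻¹ := (inv_eq_of_mul_eq_one_right h3).symm
    _ = s'⁻¹ * s⁻¹ := mul_inv_rev _ _
    _ = s' * s := by rw [inv_eq_of_mul_eq_one_right h1, inv_eq_of_mul_eq_one_right h2]

/-- The centralizer of a nontrivial element of a Sylow 2-subgroup is that Sylow subgroup. -/
theorem mem_of_comm {G : Type*} [Group G] [Finite G]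
    (hord : ∀ g : G, orderOf g = 1 ∨ orderOf g = 2 ∨ orderOf g = 3)
    (T : Sylow 2 G) (s : G) (hs : s ∈ (T : Subgroup G)) (hs1 : s ≠ 1) (c : G)
    (hc : s * c = c * s) : c ∈ (T : Subgroup G) := by
  have hss := sq_eq_one hord T T.2 s hs
  have hso : orderOf s = 2 := by
    have h1 : orderOf s ∣ 2 := by rw [orderOf_dvd_iff_pow_eq_one, pow_two]; exact hss
    rcases (Nat.dvd_prime Nat.prime_two).1 h1 with h | h
    · exact absurd (orderOf_eq_one_iff.1 h) hs1
    · exact h
  have hCp : IsPGroup 2 (Subgroup.centralizer ({s} : Set G)) := by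
    intro x
    refine ⟨1, ?_⟩
    have hx : s * (x : G) = x * s := (Subgroup.mem_centralizer_iff.1 x.2) s rfl
    have h2 : orderOf (x : G) ∣ 2 := by
      rcases hord (x : G) with h | h | h
      · rw [h]; exact one_dvd _
      · rw [h]
      · exact absurd hx (no_comm hord s x hso h)
    apply Subtype.ext
    rw [Subgroup.coe_pow, pow_one, Subgroup.coe_one]
    exact orderOf_dvd_iff_pow_eq_one.1 h2
  have hle : (T : Subgroup G) ≤ Subgroup.centralizer ({s} : Set G) := by
    intro x hx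
    rw [Subgroup.mem_centralizer_iff]
    intro w hw
    rw [Set.mem_singleton_iff] at hw
    rw [hw]
    exact comm_two hord T T.2 s x hs hx
  have heq := T.is_maximal' hCp hle
  rw [← heq, Subgroup.mem_centralizer_iff]
  intro w hw
  rw [Set.mem_singleton_iff] at hw
  rw [hw]; exact hc

/-- If the Sylow 2-subgroup `T` has two distinct nontrivial elements, every involution lies
in `T`. -/
theorem invol_mem {G : Type*} [Group G] [Finite G]
    (hord : ∀ g : G, orderOf g = 1 ∨ orderOf g = 2 ∨ orderOf g = 3)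
    (T : Sylow 2 G) (s₁ s₂ : G) (h₁ : s₁ ∈ (T : Subgroup G)) (h₂ : s₂ ∈ (T : Subgroup G))
    (h₁1 : s₁ ≠ 1) (h₂1 : s₂ ≠ 1) (h12 : s₁ ≠ s₂) (t : G) (ht : t * t = 1) :
    t ∈ (T : Subgroup G) := by
  by_contra htT
  have key : ∀ s ∈ (T : Subgroup G), s ≠ 1 → (s * t) ^ 3 = 1 := by
    intro s hs hs1
    have hss := sq_eq_one hord T T.2 s hs
    rcases hord (s * t) with h | h | h
    · exfalso
      rw [orderOf_eq_one_iff] at h
      apply htT
      rw [eq_inv_of_mul_eq_one_right h]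
      exact Subgroup.inv_mem _ hs
    · exfalso
      have h2 : (s * t) * (s * t) = 1 := by rw [← pow_two, ← h, pow_orderOf_eq_one]
      have hcomm : s * t = t * s := by
        calc s * t = (s * t)⁻¹ := (inv_eq_of_mul_eq_one_right h2).symm
          _ = t⁻¹ * s⁻¹ := mul_inv_rev _ _
          _ = t * s := by rw [inv_eq_of_mul_eq_one_right ht, inv_eq_of_mul_eq_one_right hss]
      exact htT (mem_of_comm hord T s hs hs1 t hcomm)
    · rw [← h]; exact pow_orderOf_eq_one _
  have hs1 := sq_eq_one hord T T.2 s₁ h₁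
  have hs2 := sq_eq_one hord T T.2 s₂ h₂
  have h12' : s₁ * s₂ ≠ 1 := by
    intro h
    apply h12
    rw [eq_inv_of_mul_eq_one_left h]
    exact inv_eq_of_mul_eq_one_right hs2
  have hts := braid_eq s₁ s₂ t hs1 hs2 ht (comm_two hord T T.2 s₁ s₂ h₁ h₂) (key s₁ h₁ h₁1)
    (key s₂ h₂ h₂1) (key (s₁ * s₂) (Subgroup.mul_mem _ h₁ h₂) h12')
  exact htT (hts ▸ h₂)

/-- In the situation of `invol_mem` the Sylow 2-subgroup is normal. -/
theorem normal_T {G : Type*} [Group G] [Finite G]
    (hord : ∀ g : G, orderOf g = 1 ∨ orderOf g = 2 ∨ orderOf g = 3)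
    (T : Sylow 2 G) (s₁ s₂ : G) (h₁ : s₁ ∈ (T : Subgroup G)) (h₂ : s₂ ∈ (T : Subgroup G))
    (h₁1 : s₁ ≠ 1) (h₂1 : s₂ ≠ 1) (h12 : s₁ ≠ s₂) : (T : Subgroup G).Normal := by
  constructor
  intro n hn g
  apply invol_mem hord T s₁ s₂ h₁ h₂ h₁1 h₂1 h12
  have hnn := sq_eq_one hord T T.2 n hn
  calc g * n * g⁻¹ * (g * n * g⁻¹) = g * (n * n) * g⁻¹ := by group
    _ = 1 := by rw [hnn]; group

/-- An element of order 3 acts on the normal Sylow 2-subgroup with `g² u g⁻² = u * (g u g⁻¹)`. -/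
theorem conj_conj {G : Type*} [Group G] [Finite G]
    (hord : ∀ g : G, orderOf g = 1 ∨ orderOf g = 2 ∨ orderOf g = 3)
    (T : Sylow 2 G) (hTn : (T : Subgroup G).Normal) (g : G) (hg : orderOf g = 3) (u : G)
    (hu : u ∈ (T : Subgroup G)) : g * (g * u * g⁻¹) * g⁻¹ = u * (g * u * g⁻¹) := by
  have hv : g * u * g⁻¹ ∈ (T : Subgroup G) := hTn.conj_mem u hu g
  have hw : g * (g * u * g⁻¹) * g⁻¹ ∈ (T : Subgroup G) := hTn.conj_mem _ hv g
  have hg3 : g * g * g = 1 := by rw [← pow_three', ← hg, pow_orderOf_eq_one]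
  have hgw : g * (g * (g * u * g⁻¹) * g⁻¹) * g⁻¹ = u := by
    calc g * (g * (g * u * g⁻¹) * g⁻¹) * g⁻¹ = (g * g * g) * u * (g * g * g)⁻¹ := by group
      _ = u := by rw [hg3]; group
  obtain ⟨v, hvdef⟩ : ∃ v, v = g * u * g⁻¹ := ⟨_, rfl⟩
  obtain ⟨w, hwdef⟩ : ∃ w, w = g * v * g⁻¹ := ⟨_, rfl⟩
  rw [← hvdef] at hv hw hgw ⊢
  rw [← hwdef] at hw hgw ⊢
  have hz : u * v * w ∈ (T : Subgroup G) := Subgroup.mul_mem _ (Subgroup.mul_mem _ hu hv) hw
  have hfix : g * (u * v * w) * g⁻¹ = u * v * w := by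
    calc g * (u * v * w) * g⁻¹ = (g * u * g⁻¹) * (g * v * g⁻¹) * (g * w * g⁻¹) := by group
      _ = v * w * u := by rw [← hvdef, ← hwdef, hgw]
      _ = u * (v * w) := comm_two hord T T.2 _ _ (Subgroup.mul_mem _ hv hw) hu
      _ = u * v * w := (mul_assoc _ _ _).symm
  have hz1 : u * v * w = 1 := by
    by_contra hne
    have hgT : g ∈ (T : Subgroup G) :=
      mem_of_comm hord T _ hz hne g (mul_inv_eq_iff_eq_mul.1 hfix).symm
    have hgg := sq_eq_one hord T T.2 g hgT
    have hg1 : g = 1 := by rw [hgg, one_mul] at hg3; exact hg3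
    rw [hg1, orderOf_one] at hg
    omega
  have huv := sq_eq_one hord T T.2 (u * v) (Subgroup.mul_mem _ hu hv)
  calc w = (u * v)⁻¹ := eq_inv_of_mul_eq_one_right hz1
    _ = u * v := inv_eq_of_mul_eq_one_right huv

/-- Elements of a 3-subgroup cube to one. -/
theorem cube_eq_one {G : Type*} [Group G]
    (hord : ∀ g : G, orderOf g = 1 ∨ orderOf g = 2 ∨ orderOf g = 3)
    (H : Subgroup G) (hH : IsPGroup 3 H) (s : G) (hs : s ∈ H) : s ^ 3 = 1 := by
  obtain ⟨k, hk⟩ :=
    Cfsg.Agent.Lib.helper70.orderOf_eq_prime_pow_of_mem_isPGroup Nat.prime_three hH hs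
  have h3 : orderOf s ∣ 3 := by
    rcases hord s with h | h | h
    · rw [h]; exact one_dvd _
    · exfalso
      rw [h] at hk
      have h3 : 3 ∣ 2 := by
        rcases Nat.eq_zero_or_pos k with h0 | h0
        · rw [h0] at hk; omega
        · rw [hk]; exact dvd_pow_self 3 h0.ne'
      omega
    · rw [h]
  exact orderOf_dvd_iff_pow_eq_one.1 h3

/-- With a normal Sylow 2-subgroup having a nontrivial element, a Sylow 3-subgroup is generated
by any of its nontrivial central elements. -/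
theorem sylow_three_le {G : Type*} [Group G] [Finite G]
    (hord : ∀ g : G, orderOf g = 1 ∨ orderOf g = 2 ∨ orderOf g = 3)
    (T : Sylow 2 G) (hTn : (T : Subgroup G).Normal) (s₁ : G) (h₁ : s₁ ∈ (T : Subgroup G))
    (h₁1 : s₁ ≠ 1) (P : Sylow 3 G) (x : G) (hxP : x ∈ (P : Subgroup G)) (hx1 : x ≠ 1)
    (hxc : ∀ y ∈ (P : Subgroup G), x * y = y * x) :
    ∀ y ∈ (P : Subgroup G), y ∈ Subgroup.zpowers x := by
  intro y hyP
  by_contra hyx
  have ord3 : ∀ z ∈ (P : Subgroup G), z ≠ 1 → orderOf z = 3 := by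
    intro z hz hz1
    have hd : orderOf z ∣ 3 := orderOf_dvd_of_pow_eq_one (cube_eq_one hord P P.2 z hz)
    rcases (Nat.dvd_prime Nat.prime_three).1 hd with h | h
    · exact absurd (orderOf_eq_one_iff.1 h) hz1
    · exact h
  have hxy := hxc y hyP
  have hx3 := ord3 x hxP hx1
  have hy1 : y ≠ 1 := by
    rintro rfl
    exact hyx (Subgroup.one_mem _)
  have hy3 := ord3 y hyP hy1
  have hxy1 : x * y ≠ 1 := by
    intro h
    apply hyx
    rw [eq_inv_of_mul_eq_one_right h]
    exact Subgroup.inv_mem _ (Subgroup.mem_zpowers x)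
  have hxy3 := ord3 (x * y) (Subgroup.mul_mem _ hxP hyP) hxy1
  have key : ∀ u ∈ (T : Subgroup G), x * u * x⁻¹ = y * u * y⁻¹ := by
    intro u hu
    have hc : y * u * y⁻¹ ∈ (T : Subgroup G) := hTn.conj_mem u hu y
    have Rx := conj_conj hord T hTn x hx3 u hu
    have Ry := conj_conj hord T hTn y hy3 u hu
    have Rxc := conj_conj hord T hTn x hx3 _ hc
    have Rxy := conj_conj hord T hTn (x * y) hxy3 u hu
    have e1 : (x * y) * ((x * y) * u * (x * y)⁻¹) * (x * y)⁻¹ =
        x * (x * (y * (y * u * y⁻¹) * y⁻¹) * x⁻¹) * x⁻¹ := by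
      have e2 : (x * y) * (x * y) = x * x * (y * y) := by
        calc (x * y) * (x * y) = x * (y * x) * y := by group
          _ = x * (x * y) * y := by rw [← hxy]
          _ = x * x * (y * y) := by group
      calc (x * y) * ((x * y) * u * (x * y)⁻¹) * (x * y)⁻¹
          = ((x * y) * (x * y)) * u * ((x * y) * (x * y))⁻¹ := by group
        _ = (x * x * (y * y)) * u * (x * x * (y * y))⁻¹ := by rw [e2]
        _ = x * (x * (y * (y * u * y⁻¹) * y⁻¹) * x⁻¹) * x⁻¹ := by group
    have e3 : (x * y) * u * (x * y)⁻¹ = x * (y * u * y⁻¹) * x⁻¹ := by group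
    rw [e1, Ry, e3] at Rxy
    have e4 : x * (x * (u * (y * u * y⁻¹)) * x⁻¹) * x⁻¹ =
        (x * (x * u * x⁻¹) * x⁻¹) * (x * (x * (y * u * y⁻¹) * x⁻¹) * x⁻¹) := by group
    rw [e4, Rx, Rxc] at Rxy
    have e5 : u * (x * u * x⁻¹) * (y * u * y⁻¹ * (x * (y * u * y⁻¹) * x⁻¹)) =
        u * ((x * u * x⁻¹) * (y * u * y⁻¹) * (x * (y * u * y⁻¹) * x⁻¹)) := by group
    rw [e5] at Rxy
    have e6 := mul_left_cancel Rxy
    have e7 : (x * u * x⁻¹) * (y * u * y⁻¹) = 1 := by
      have e8 : (x * u * x⁻¹) * (y * u * y⁻¹) * (x * (y * u * y⁻¹) * x⁻¹) =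
          1 * (x * (y * u * y⁻¹) * x⁻¹) := by rw [e6, one_mul]
      exact mul_right_cancel e8
    rw [eq_inv_of_mul_eq_one_left e7]
    exact inv_eq_of_mul_eq_one_right (sq_eq_one hord T T.2 _ hc)
  have h1 := key s₁ h₁
  have hcomm : s₁ * (y⁻¹ * x) = (y⁻¹ * x) * s₁ := by
    calc s₁ * (y⁻¹ * x) = y⁻¹ * (y * s₁ * y⁻¹) * x := by group
      _ = y⁻¹ * (x * s₁ * x⁻¹) * x := by rw [h1]
      _ = (y⁻¹ * x) * s₁ := by group
  have hzT := mem_of_comm hord T s₁ h₁ h₁1 _ hcomm
  have hzz := sq_eq_one hord T T.2 _ hzT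
  have hz3 := cube_eq_one hord P P.2 (y⁻¹ * x)
    (Subgroup.mul_mem _ (Subgroup.inv_mem _ hyP) hxP)
  have hz1 : y⁻¹ * x = 1 := by
    rw [pow_succ, pow_two, hzz, one_mul] at hz3; exact hz3
  apply hyx
  have hyx' : y = x := by
    calc y = y * (y⁻¹ * x) := by rw [hz1, mul_one]
      _ = x := by group
  rw [hyx']; exact Subgroup.mem_zpowers x

/-- The case of a Sylow 2-subgroup of order 2. -/
theorem case_small {G : Type*} [Group G] [Finite G]
    (hord : ∀ g : G, orderOf g = 1 ∨ orderOf g = 2 ∨ orderOf g = 3)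
    (T : Sylow 2 G) (t : G) (htT : t ∈ (T : Subgroup G)) (ht : orderOf t = 2)
    (hsmall : ∀ s ∈ (T : Subgroup G), s ≠ 1 → s = t) :
    ∃ N : Subgroup G, N.Normal ∧ Cfsg.IsElementaryAbelian 3 N ∧ N.index = 2 := by
  have : Fact (Nat.Prime 2) := ⟨Nat.prime_two⟩
  have hcyc : IsCyclic T := by
    refine ⟨⟨⟨t, htT⟩, fun x => ?_⟩⟩
    by_cases hx : (x : G) = 1
    · have hx' : x = 1 := Subtype.ext hx
      exact ⟨0, by rw [hx']; exact zpow_zero _⟩
    · have hx' : x = ⟨t, htT⟩ := Subtype.ext (hsmall x x.2 hx)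
      exact ⟨1, by rw [hx']; exact zpow_one _⟩
  have hcardT : Nat.card (T : Subgroup G) = 2 := by
    have h1 : (T : Subgroup G) = Subgroup.zpowers t := by
      apply le_antisymm
      · intro s hs
        by_cases hs1 : s = 1
        · rw [hs1]; exact Subgroup.one_mem _
        · rw [hsmall s hs hs1]; exact Subgroup.mem_zpowers t
      · rw [Subgroup.zpowers_le]; exact htT
    rw [h1, Nat.card_zpowers, ht]
  have h2G : 2 ∣ Nat.card G := ht ▸ orderOf_dvd_natCard t
  have hmin : (Nat.card G).minFac = 2 := (Nat.minFac_eq_two_iff _).2 h2G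
  have hcompl := IsCyclic.isComplement' hmin hcyc
  have hNn : (MonoidHom.transferSylow T (hcyc.normalizer_le_centralizer hmin)).ker.Normal :=
    MonoidHom.normal_ker _
  generalize (MonoidHom.transferSylow T (hcyc.normalizer_le_centralizer hmin)).ker = N
    at hcompl hNn
  have hidx : N.index = 2 := by rw [hcompl.symm.index_eq_card, hcardT]
  have hN3 : ∀ n ∈ N, n ^ 3 = 1 := by
    intro n hn
    rcases hord n with h | h | h
    · rw [orderOf_eq_one_iff.1 h, one_pow]
    · exfalso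
      have h1 : 2 ∣ Nat.card N := h ▸ Subgroup.orderOf_dvd_natCard N hn
      rw [← hcompl.index_eq_card] at h1
      exact T.not_dvd_index h1
    · rw [← h]; exact pow_orderOf_eq_one n
  have htt : t * t = 1 := by rw [← pow_two, ← ht, pow_orderOf_eq_one]
  have hinv := Cfsg.Agent.Lib.helper70.inverts_of_fpf N t htt
    (fun a ha => hNn.conj_mem a ha t) (by
      intro a ha hta
      by_contra ha1
      have ha3 : orderOf a = 3 := by
        have hd : orderOf a ∣ 3 := orderOf_dvd_of_pow_eq_one (hN3 a ha)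
        rcases (Nat.dvd_prime Nat.prime_three).1 hd with h | h
        · exact absurd (orderOf_eq_one_iff.1 h) ha1
        · exact h
      exact no_comm hord t a ht ha3 (mul_inv_eq_iff_eq_mul.1 hta))
  have hcomm := Cfsg.Agent.Lib.helper70.comm_of_inverts N t hinv
  exact ⟨N, hNn, ⟨⟨⟨fun a b => Subtype.ext (hcomm a a.2 b b.2)⟩⟩, hN3⟩, hidx⟩

/-- A finite group whose set of element orders is exactly {1, 2, 3} has either a normal elementary abelian 3-subgroup of index 2 or a normal elementary abelian 2-subgroup of index 3. -/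
theorem result {G : Type*} [Group G] [Finite G] (h : Set.range (orderOf : G → ℕ) = {k : ℕ | 1 ≤ k ∧ k ≤ 3}) :
    (∃ N : Subgroup G, N.Normal ∧ Cfsg.IsElementaryAbelian 3 N ∧ N.index = 2) ∨
      (∃ N : Subgroup G, N.Normal ∧ Cfsg.IsElementaryAbelian 2 N ∧ N.index = 3) := by
  classical
  have hord : ∀ g : G, orderOf g = 1 ∨ orderOf g = 2 ∨ orderOf g = 3 := by
    intro g
    have hg : orderOf g ∈ Set.range (orderOf : G → ℕ) := ⟨g, rfl⟩
    rw [h] at hg
    obtain ⟨h1, h2⟩ := hg
    omega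
  obtain ⟨g₂, hg₂⟩ : ∃ g : G, orderOf g = 2 := by
    have h2 : (2 : ℕ) ∈ Set.range (orderOf : G → ℕ) := by
      rw [h]; exact ⟨by norm_num, by norm_num⟩
    exact h2
  obtain ⟨g₃, hg₃⟩ : ∃ g : G, orderOf g = 3 := by
    have h3 : (3 : ℕ) ∈ Set.range (orderOf : G → ℕ) := by
      rw [h]; exact ⟨by norm_num, by norm_num⟩
    exact h3
  have : Fact (Nat.Prime 2) := ⟨Nat.prime_two⟩
  have : Fact (Nat.Prime 3) := ⟨Nat.prime_three⟩
  obtain ⟨T, hT⟩ := (IsPGroup.of_card (n := 1) (by rw [Nat.card_zpowers, hg₂, pow_one]) :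
    IsPGroup 2 (Subgroup.zpowers g₂)).exists_le_sylow
  have hg₂T : g₂ ∈ (T : Subgroup G) := hT (Subgroup.mem_zpowers g₂)
  have hg₂1 : g₂ ≠ 1 := by
    rintro rfl
    rw [orderOf_one] at hg₂
    omega
  by_cases hbig : ∃ s ∈ (T : Subgroup G), s ≠ 1 ∧ s ≠ g₂
  · right
    obtain ⟨s, hsT, hs1, hsg⟩ := hbig
    have hTn := normal_T hord T g₂ s hg₂T hsT hg₂1 hs1 (Ne.symm hsg)
    obtain ⟨P, hP⟩ := (IsPGroup.of_card (n := 1) (by rw [Nat.card_zpowers, hg₃, pow_one]) :
      IsPGroup 3 (Subgroup.zpowers g₃)).exists_le_sylow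
    have hg₃P : g₃ ∈ (P : Subgroup G) := hP (Subgroup.mem_zpowers g₃)
    have hg₃1 : g₃ ≠ 1 := by
      rintro rfl
      rw [orderOf_one] at hg₃
      omega
    haveI : Nontrivial (P : Subgroup G) :=
      ⟨⟨⟨g₃, hg₃P⟩, 1, fun h => hg₃1 (congrArg Subtype.val h)⟩⟩
    haveI := (P.2).center_nontrivial
    obtain ⟨⟨z, hz⟩, hz1⟩ := exists_ne (1 : Subgroup.center (P : Subgroup G))
    have hx1 : (z : G) ≠ 1 := fun h => hz1 (Subtype.ext (Subtype.ext h))
    have hxc : ∀ y ∈ (P : Subgroup G), (z : G) * y = y * z := by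
      intro y hy
      have h1 := Subgroup.mem_center_iff.1 hz ⟨y, hy⟩
      exact (congrArg Subtype.val h1).symm
    have hPle := sylow_three_le hord T hTn g₂ hg₂T hg₂1 P (z : G) z.2 hx1 hxc
    have hz3 : orderOf (z : G) = 3 := by
      have hd : orderOf (z : G) ∣ 3 := orderOf_dvd_of_pow_eq_one (cube_eq_one hord P P.2 _ z.2)
      rcases (Nat.dvd_prime Nat.prime_three).1 hd with h | h
      · exact absurd (orderOf_eq_one_iff.1 h) hx1
      · exact h
    have hcardP : Nat.card (P : Subgroup G) = 3 := by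
      have h1 : (P : Subgroup G) = Subgroup.zpowers (z : G) :=
        le_antisymm hPle (by rw [Subgroup.zpowers_le]; exact z.2)
      rw [h1, Nat.card_zpowers, hz3]
    -- the quotient by `T` is a 3-group
    have := hTn
    have hq : IsPGroup 3 (G ⧸ (T : Subgroup G)) := by
      intro q
      refine ⟨1, ?_⟩
      obtain ⟨g, rfl⟩ := QuotientGroup.mk_surjective q
      rw [pow_one, ← QuotientGroup.mk_pow, QuotientGroup.eq_one_iff]
      rcases hord g with h | h | h
      · rw [orderOf_eq_one_iff.1 h, one_pow]; exact Subgroup.one_mem _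
      · have hgg : g * g = 1 := by rw [← pow_two, ← h, pow_orderOf_eq_one]
        exact Subgroup.pow_mem _ (invol_mem hord T g₂ s hg₂T hsT hg₂1 hs1 (Ne.symm hsg) g hgg) 3
      · rw [← h, pow_orderOf_eq_one]; exact Subgroup.one_mem _
    obtain ⟨c, hc⟩ := IsPGroup.iff_card.1 hq
    have hidx : (T : Subgroup G).index = 3 ^ c := hc
    have hdvd : 3 ^ c ∣ 3 := by
      have h1 : 3 ^ c ∣ Nat.card G := hidx ▸ Subgroup.index_dvd_card _
      have h2 := P.pow_dvd_card_of_pow_dvd_card h1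
      rw [hcardP] at h2
      exact h2
    have hne1 : (T : Subgroup G).index ≠ 1 := by
      intro h1
      rw [Subgroup.index_eq_one] at h1
      have hzT : (z : G) ∈ (T : Subgroup G) := by rw [h1]; exact Subgroup.mem_top _
      have hzz := sq_eq_one hord T T.2 _ hzT
      have hz3' := cube_eq_one hord P P.2 _ z.2
      rw [pow_succ, pow_two, hzz, one_mul] at hz3'
      exact hx1 hz3'
    have hidx3 : (T : Subgroup G).index = 3 := by
      rw [hidx] at hne1 ⊢
      rcases (Nat.dvd_prime Nat.prime_three).1 hdvd with h1 | h1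
      · exact absurd h1 hne1
      · exact h1
    refine ⟨T, hTn, ⟨⟨⟨fun a b => Subtype.ext (comm_two hord T T.2 a b a.2 b.2)⟩⟩, ?_⟩, hidx3⟩
    intro a ha
    rw [pow_two]; exact sq_eq_one hord T T.2 a ha
  · left
    push Not at hbig
    exact case_small hord T g₂ hg₂T hg₂ hbig

end Cfsg.Agent.S4005
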