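import Cfsg.Statements.S4006
import Mathlib
import Cfsg.Agent.Lib.helper70.OC4B

set_option autoImplicit false
open Cfsg

namespace Cfsg.Agent.S4006

/-- A finite group whose set of element orders is exactly {1, 2, 3, 4} has a normal subgroup N such that either N is a 2-group of exponent 4 and nilpotency class at most 2 with G/N of order 3, or N is an elementary abelian 2-group with G/N isomorphic to the symmetric group of degree 3, or N is an elementary abelian 3-group with G/N cyclic of order 4 or quaternion of order 8. -/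
theorem result {G : Type*} [Group G] [Finite G] (h : Set.range (orderOf : G → ℕ) = {k : ℕ | 1 ≤ k ∧ k ≤ 4}) :
    ∃ (N : Subgroup G) (_ : N.Normal),
      (IsPGroup 2 ↥N ∧ Monoid.exponent ↥N = 4 ∧ Group.nilpotencyClass ↥N ≤ 2 ∧ N.index = 3) ∨
      (Cfsg.IsElementaryAbelian 2 N ∧ Nonempty (G ⧸ N ≃* Equiv.Perm (Fin 3))) ∨
      (Cfsg.IsElementaryAbelian 3 N ∧ ((IsCyclic (G ⧸ N) ∧ N.index = 4) ∨ Nonempty (G ⧸ N ≃* QuaternionGroup 2))) := by
  classical
  have hmem : ∀ g : G, 1 ≤ orderOf g ∧ orderOf g ≤ 4 := by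
    intro g
    have h1 : orderOf g ∈ Set.range (orderOf : G → ℕ) := ⟨g, rfl⟩
    rw [h] at h1
    exact h1
  have hOC : Cfsg.Agent.Lib.helper70.OC4 G := by
    intro g
    obtain ⟨h1, h4⟩ := hmem g
    have hpow := pow_orderOf_eq_one g
    generalize orderOf g = k at h1 h4 hpow
    interval_cases k
    · left; rw [pow_one] at hpow; rw [hpow, one_pow]
    · left
      calc g ^ 4 = (g ^ 2) ^ 2 := by rw [← pow_mul]
        _ = 1 := by rw [hpow, one_pow]
    · right; exact hpow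
    · left; exact hpow
  have hex : ∀ k : ℕ, 1 ≤ k → k ≤ 4 → ∃ g : G, orderOf g = k := by
    intro k h1 h4
    have h2 : k ∈ Set.range (orderOf : G → ℕ) := by rw [h]; exact ⟨h1, h4⟩
    exact h2
  obtain ⟨t, ht⟩ := hex 2 (by norm_num) (by norm_num)
  obtain ⟨x₀, hx₀⟩ := hex 3 (by norm_num) (by norm_num)
  obtain ⟨g₄, hg₄⟩ := hex 4 (by norm_num) (by norm_num)
  have htt : t * t = 1 := by rw [← pow_two, ← ht]; exact pow_orderOf_eq_one t
  have ht1 : t ≠ 1 := by intro h'; rw [h', orderOf_one] at ht; omega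
  have hsolv : Group.IsSolvable G := by
    apply Cfsg.Agent.Lib.helper70.isSolvable_of_primes_lt_five
    intro r hr hd
    have hrf : Fact r.Prime := ⟨hr⟩
    obtain ⟨g, hg⟩ := exists_prime_orderOf_dvd_card' r hd
    have h1 := (hmem g).2
    omega
  have hp2 : Fact (Nat.Prime 2) := ⟨Nat.prime_two⟩
  have hp3 : Fact (Nat.Prime 3) := ⟨Nat.prime_three⟩
  have hQn : (Cfsg.pCore 3 G).Normal := Subgroup.sSup_normal _ (fun _ h' => h'.1)
  have hQ3 : IsPGroup 3 (Cfsg.pCore 3 G) :=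
    Sylow.sSup_of_normal _ (fun _ h' => h'.2) (fun _ h' => h'.1)
  have hQmax : ∀ N : Subgroup G, N.Normal → IsPGroup 3 N → N ≤ Cfsg.pCore 3 G :=
    fun N hn hp => le_sSup ⟨hn, hp⟩
  have hFn : (Cfsg.pCore 2 G).Normal := Subgroup.sSup_normal _ (fun _ h' => h'.1)
  have hF2 : IsPGroup 2 (Cfsg.pCore 2 G) :=
    Sylow.sSup_of_normal _ (fun _ h' => h'.2) (fun _ h' => h'.1)
  have hFmax : ∀ N : Subgroup G, N.Normal → IsPGroup 2 N → N ≤ Cfsg.pCore 2 G :=
    fun N hn hp => le_sSup ⟨hn, hp⟩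
  by_cases hQ1 : Cfsg.pCore 3 G = ⊥
  · have hno3 : ∀ N : Subgroup G, N.Normal → IsPGroup 3 N → N = ⊥ := by
      intro N hn hp
      have h1 := hQmax N hn hp
      rw [hQ1] at h1
      exact le_bot_iff.mp h1
    rcases Cfsg.Agent.Lib.helper70.oc4_caseB hOC hsolv (Cfsg.pCore 2 G) hF2 hFmax hno3 x₀ hx₀
      g₄ hg₄ with ⟨he, hc, hi⟩ | ⟨he, hi, hne⟩
    · exact ⟨_, hFn, Or.inl ⟨hF2, he, hc, hi⟩⟩
    · refine ⟨_, hFn, Or.inr (Or.inl ⟨⟨⟨⟨fun a b => Subtype.ext ?_⟩⟩,
        fun a ha => by rw [pow_two]; exact he a ha⟩, ?_⟩)⟩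
      · have ha := he a a.2
        have hb := he b b.2
        have hab := he (a * b) (Subgroup.mul_mem _ a.2 b.2)
        show (a : G) * (b : G) = (b : G) * (a : G)
        symm
        calc (b : G) * (a : G) = (b : G) * a * (((a : G) * b) * ((a : G) * b)) := by
              rw [hab, mul_one]
          _ = ((b : G) * ((a : G) * a) * b) * ((a : G) * b) := by group
          _ = (a : G) * b := by rw [ha, mul_one, hb, one_mul]
      · apply Cfsg.Agent.Lib.helper70.nonempty_mulEquiv_perm_fin_three' _ hne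
        rw [← Subgroup.index_eq_card]; exact hi
  · exact ⟨_, hQn, Or.inr (Or.inr
      (Cfsg.Agent.Lib.helper70.oc4_A_final hOC _ hQ3 hQ1 hQmax t htt ht1 g₄ hg₄))⟩

end Cfsg.Agent.S4006
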