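-- Statement S4010: derived length of finite linear p-groups.
import Cfsg.Statements.S4010
import Cfsg.Agent.Lib.helper73.DLinB
import Cfsg.Agent.Lib.helper73.DLinC

set_option autoImplicit false
open Cfsg

namespace Cfsg.Agent.S4010

/-- Let F be a field, n ≥ 1, and P a finite p-group (p a prime) admitting an injective homomorphism into the general linear group of degree n over F. Then the derived length of P is at most ⌊log₂ n⌋ + 1: that term of the derived series of P is trivial. -/
theorem result {P : Type*} [Group P] [Finite P] (p : ℕ) [Fact p.Prime] (hP : IsPGroup p P) (F : Type*) [Field F] (n : ℕ) (hn : 1 ≤ n) (ρ : P →* Matrix.GeneralLinearGroup (Fin n) F) (hρ : Function.Injective ρ) : derivedSeries P (Nat.log 2 n + 1) = ⊥ := by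
  classical
  let K := AlgebraicClosure F
  let φ : Matrix.GeneralLinearGroup (Fin n) F →* Module.End K (Fin n → K) :=
    ((Matrix.toLinAlgEquiv' : Matrix (Fin n) (Fin n) K ≃ₐ[K] Module.End K (Fin n → K)) :
        Matrix (Fin n) (Fin n) K →* Module.End K (Fin n → K)).comp
      ((Units.coeHom (Matrix (Fin n) (Fin n) K)).comp
        (Matrix.GeneralLinearGroup.map (algebraMap F K)))
  have hφ : Function.Injective φ := by
    intro A B h
    have h1 : ((Matrix.GeneralLinearGroup.map (algebraMap F K) A :
        Matrix.GeneralLinearGroup (Fin n) K) : Matrix (Fin n) (Fin n) K) =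
        ((Matrix.GeneralLinearGroup.map (algebraMap F K) B :
        Matrix.GeneralLinearGroup (Fin n) K) : Matrix (Fin n) (Fin n) K) :=
      (Matrix.toLinAlgEquiv' : Matrix (Fin n) (Fin n) K ≃ₐ[K] Module.End K (Fin n → K)).injective h
    apply Units.ext
    ext i j
    have h2 := congrFun (congrFun h1 i) j
    have h3 : algebraMap F K (A i j) = algebraMap F K (B i j) := by
      rw [← Matrix.GeneralLinearGroup.map_apply, ← Matrix.GeneralLinearGroup.map_apply]
      exact h2
    exact (algebraMap F K).injective h3
  let ρ' : P →* Module.End K (Fin n → K) := φ.comp ρ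
  have hker : ρ'.ker = ⊥ := (MonoidHom.ker_eq_bot_iff _).2 (hφ.comp hρ)
  have hfin : Module.finrank K (Fin n → K) = n := Module.finrank_fin_fun K
  rw [eq_bot_iff, ← hker]
  by_cases hpK : (p : K) = 0
  · haveI : CharP K p := (CharP.charP_iff_prime_eq_zero (Fact.out : p.Prime)).2 hpK
    exact Cfsg.Agent.Lib.helper73.DLin.main_p p K (Nat.log 2 n + 1) (Fin n → K)
      (by rw [hfin]; exact (Nat.lt_pow_succ_log_self (by norm_num) n).le) P hP ρ'
  · exact Cfsg.Agent.Lib.helper73.DLin.main_ne p K hpK n (Fin n → K) hfin P hP ρ' _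
      (Nat.lt_pow_succ_log_self (by norm_num) n)

end Cfsg.Agent.S4010
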