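import Cfsg.Statements.S4013
import Mathlib

set_option autoImplicit false
open Cfsg

namespace Cfsg.Agent.S4013

/-- Let G be a finite p-group (p prime) and N < M normal subgroups of G such that for some g ∈ M ∖ N the conjugacy class of g is exactly M ∖ N. Then p = 2 and N has index 2 in M. -/
theorem result {G : Type*} [Group G] [Finite G] (p : ℕ) [Fact p.Prime] (hG : IsPGroup p G) (N M : Subgroup G) [N.Normal] [M.Normal] (hNM : N < M) (g : G) (hgM : g ∈ M) (hgN : g ∉ N) (hcl : {h : G | IsConj g h} = (M : Set G) \ (N : Set G)) : p = 2 ∧ N.relIndex M = 2 := by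
  classical
  -- the conjugacy class is an orbit of the conjugation action, so its size is a power of `p`
  have horb : MulAction.orbit (ConjAct G) g = {h : G | IsConj g h} := by
    ext x
    rw [ConjAct.mem_orbit_conjAct, Set.mem_ofPred_eq, isConj_comm]
  have hGc : IsPGroup p (ConjAct G) := hG
  obtain ⟨k, hk⟩ := hGc.card_orbit g
  rw [horb, hcl] at hk
  -- cardinalities of `N`, `M`
  have hle : N ≤ M := hNM.le
  have hcardMN : Nat.card N * N.relIndex M = Nat.card M := by
    have h1 := Subgroup.relIndex_mul_relIndex (⊥ : Subgroup G) N M bot_le hle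
    rwa [Subgroup.relIndex_bot_left, Subgroup.relIndex_bot_left] at h1
  set r := N.relIndex M with hr
  have hr1 : r ≠ 1 := by
    intro h
    rw [hr, Subgroup.relIndex_eq_one] at h
    exact (not_le_of_gt hNM) h
  -- `r` is a power of `p`
  have hMp : IsPGroup p M := hG.to_subgroup M
  obtain ⟨j, hj⟩ := hMp.index (N.subgroupOf M)
  have hrj : r = p ^ j := hj
  have hpp : p.Prime := Fact.out
  have hj0 : j ≠ 0 := by
    rintro rfl
    exact hr1 (by simpa using hrj)
  have hpr : p ∣ r := by
    rw [hrj]; exact dvd_pow_self p hj0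
  have hrpos : 0 < r := by rw [hrj]; exact pow_pos hpp.pos j
  -- size of the difference
  have hdiff : Nat.card ((M : Set G) \ (N : Set G) : Set G) = Nat.card M - Nat.card N := by
    rw [Nat.card_coe_set_eq, Set.ncard_sdiff (by exact_mod_cast hle) (Set.toFinite _)]
    rw [← Nat.card_coe_set_eq, ← Nat.card_coe_set_eq]
    rfl
  rw [hdiff, ← hcardMN] at hk
  have hk' : Nat.card N * (r - 1) = p ^ k := by
    rw [← hk, Nat.mul_sub, mul_one]
  have hdvd : (r - 1) ∣ p ^ k := Dvd.intro_left _ hk'
  obtain ⟨i, -, hi⟩ := (Nat.dvd_prime_pow hpp).1 hdvd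
  have hi0 : i = 0 := by
    by_contra h
    have h1 : p ∣ r - 1 := by rw [hi]; exact dvd_pow_self p h
    have h2 : p ∣ r - (r - 1) := Nat.dvd_sub hpr h1
    have h3 : r - (r - 1) = 1 := by omega
    rw [h3] at h2
    exact hpp.one_lt.ne' (Nat.dvd_one.1 h2)
  subst hi0
  have hr2 : r = 2 := by
    rw [pow_zero] at hi; omega
  refine ⟨?_, hr2⟩
  rw [hr2] at hpr
  exact (Nat.prime_dvd_prime_iff_eq hpp Nat.prime_two).1 hpr

end Cfsg.Agent.S4013
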