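-- Statement S4015: exact derived length of the Sylow p-subgroups of GL(n, q) in cross characteristic.
import Cfsg.Statements.S4015
import Cfsg.Agent.Lib.helper73.DLinF
import Cfsg.Agent.Lib.helper73.DLinG

set_option autoImplicit false
open Cfsg

namespace Cfsg.Agent.S4015

/-- Let p be an odd prime, F a finite field with q elements where p does not divide q, and e the multiplicative order of q modulo p. Let n ≥ e and write w = ⌊n/e⌋ and k = ⌊log_p w⌋. Then a Sylow p-subgroup of GL(n, F) has derived length exactly k + 1: its (k+1)-st derived subgroup is trivial and its k-th is not. -/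
theorem result (p : ℕ) [Fact p.Prime] (hp : p ≠ 2) (F : Type*) [Field F] [Fintype F] (q : ℕ) (hq : Fintype.card F = q) (hpq : ¬ p ∣ q) (n : ℕ) (hn : orderOf (q : ZMod p) ≤ n) (P : Sylow p (Matrix.GeneralLinearGroup (Fin n) F)) : derivedSeries ↥(P : Subgroup (Matrix.GeneralLinearGroup (Fin n) F)) (Nat.log p (n / orderOf (q : ZMod p)) + 1) = ⊥ ∧ derivedSeries ↥(P : Subgroup (Matrix.GeneralLinearGroup (Fin n) F)) (Nat.log p (n / orderOf (q : ZMod p))) ≠ ⊥ := by
  classical
  have hpp : p.Prime := Fact.out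
  constructor
  · exact Cfsg.Agent.Lib.helper73.DLin.gl_pgroup_dl q hq p hpq n _ P.isPGroup' _
      (Nat.lt_pow_succ_log_self hpp.one_lt _)
  · set e := orderOf (q : ZMod p) with he
    have hqp : (q : ZMod p) ≠ 0 := by
      intro h
      exact hpq ((ZMod.natCast_eq_zero_iff q p).1 h)
    have hepos : 0 < e := by
      rw [he, orderOf_pos_iff, isOfFinOrder_iff_pow_eq_one]
      exact ⟨p - 1, by have := hpp.two_le; omega, ZMod.pow_card_sub_one_eq_one hqp⟩
    have hq0 : 0 < q := by
      rw [← hq]
      exact Fintype.card_pos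
    have hpe : p ∣ Fintype.card F ^ e - 1 := by
      rw [hq, ← ZMod.natCast_eq_zero_iff, Nat.cast_sub (Nat.one_le_pow _ _ hq0)]
      push_cast
      rw [he, pow_orderOf_eq_one, sub_self]
    have hdiv : n / e ≠ 0 := (Nat.div_pos hn hepos).ne'
    have hle : e * p ^ Nat.log p (n / e) ≤ n :=
      (Nat.mul_le_mul_left e (Nat.pow_log_le_self p hdiv)).trans (Nat.mul_div_le n e)
    obtain ⟨Q, hQ, hQd⟩ := Cfsg.Agent.Lib.helper73.DLin.exists_sub_GL p F e hepos hpe
      (Nat.log p (n / e)) n hle
    obtain ⟨f, hf⟩ := Cfsg.Agent.Lib.helper69.exists_injective_hom_sylow Q hQ P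
    exact Cfsg.Agent.Lib.helper69.derivedSeries_ne_bot_of_injective f hf _ hQd

end Cfsg.Agent.S4015
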