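import Cfsg.Statements.S4018
import Mathlib
import Cfsg.Agent.Lib.helper75.KleinCount
import Cfsg.Agent.Lib.helper75.KleinFinal
import Cfsg.Agent.Lib.helper76.KazCore
import Cfsg.Agent.Lib.helper21.PrimeTICor
import Cfsg.Agent.S0948
import Cfsg.Agent.S4479

set_option autoImplicit false
open Cfsg

namespace Cfsg.Agent.S4018

/-- Let G be a finite group with an abelian Sylow 3-subgroup P such that the normalizer of P has order 4·#P, the centralizer C of P has order 2·#P, C meets each of its conjugates by elements outside its normalizer trivially, and every proper subgroup of G of even order has order dividing 4·#P. Then G is not simple. -/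
theorem result {G : Type*} [Group G] [Finite G]
    (P : Sylow 3 G) (hab : IsMulCommutative P)
    (hN : Nat.card (Subgroup.normalizer ((P : Subgroup G) : Set G)) = 4 * Nat.card P)
    (hC : Nat.card (Subgroup.centralizer (P : Set G)) = 2 * Nat.card P)
    (hTI : Cfsg.IsTISubset (Subgroup.centralizer (P : Set G) : Set G))
    (heven : ∀ H : Subgroup G, H ≠ ⊤ → 2 ∣ Nat.card H → Nat.card H ∣ 4 * Nat.card P) :
    ¬ IsSimpleGroup G := by
  intro hsimple
  haveI := hsimple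
  have habel : ∀ a ∈ (P : Subgroup G), ∀ b ∈ (P : Subgroup G), a * b = b * a := by
    intro a ha b hb
    have h1 := hab.is_comm.comm (⟨a, ha⟩ : P) ⟨b, hb⟩
    exact congrArg Subtype.val h1
  obtain ⟨t, S, ht2, htS, hodd, hcard, hnc, hK, hone, hct, hcS, hG⟩ :=
    Cfsg.Agent.Lib.helper75.KC.main P habel hN hC hTI heven
  obtain ⟨M, hM⟩ := Cfsg.Agent.Lib.helper76.exists_isPModular 2 Nat.prime_two
  obtain ⟨ζ₂, ζ₃, ζ₄, ε, hε, hζ₂, hζ₃, h23, h24, h34, hB, hval, -, -, -, horth⟩ :=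
    Cfsg.Agent.S0948.result M hM S hK hone
  obtain ⟨v2, v3, v4⟩ := hval t ht2
  have hζ₄ : (ζ₄ : G → ℂ) ≠ fun _ => 1 := by
    intro e
    rw [e] at v4
    norm_num at v4
  have hform := Cfsg.Agent.S4479.result M hM _ hodd hcard hnc S t htS ht2 ζ₂ ζ₃ ζ₄ 1 ε (-1) hB
    ⟨hζ₂, hζ₃, hζ₄, h23, h24, h34⟩ ⟨Or.inl rfl, hε, Or.inr rfl⟩
    ⟨by rw [v2]; simp, v3, by rw [v4]; simp⟩
  have hnp : ¬ (Nat.card G).Prime := by
    rw [hcard]
    intro hp
    have h2 : 2 ∣ 4 * (S : Subgroup G).index := Dvd.intro ((2 : ℕ) * (S : Subgroup G).index) (by ring)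
    have h3 := (Nat.prime_dvd_prime_iff_eq Nat.prime_two hp).mp h2
    omega
  have hx2 := Cfsg.Agent.Lib.helper21.one_lt_charDegree_of_simple hnp ζ₂ hζ₂
  have hx3 := Cfsg.Agent.Lib.helper21.one_lt_charDegree_of_simple hnp ζ₃ hζ₃
  have hx4 := Cfsg.Agent.Lib.helper21.one_lt_charDegree_of_simple hnp ζ₄ hζ₄
  have hrel : (1 : ℤ) + Cfsg.charDegree (ζ₂ : G → ℂ) + ε * Cfsg.charDegree (ζ₃ : G → ℂ)
      - Cfsg.charDegree (ζ₄ : G → ℂ) = 0 := by
    have h1 := horth 1 (by rw [orderOf_one]; exact odd_one)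
    rw [Cfsg.Agent.Lib.helper81.irr_one_eq_charDegree ζ₂,
      Cfsg.Agent.Lib.helper81.irr_one_eq_charDegree ζ₃,
      Cfsg.Agent.Lib.helper81.irr_one_eq_charDegree ζ₄] at h1
    exact_mod_cast h1
  exact Cfsg.Agent.Lib.helper75.KC.final_arith (Nat.card G) (Nat.card (P : Subgroup G)) _ _ _ _ _
    1 ε (-1) rfl hε rfl hx2 hx3 hx4 hrel Nat.card_pos hct hcS hG hform

end Cfsg.Agent.S4018
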