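import Cfsg.Statements.S4023
import Mathlib
import Cfsg.Agent.Lib.helper70.SameOrder

set_option autoImplicit false
open Cfsg

namespace Cfsg.Agent.S4023

/-- Let p be a prime and G a finite group in which any two p-subgroups of the same order are conjugate, with Sylow p-subgroup P. Then P is cyclic, or elementary abelian, or p = 2 and P is a quaternion group of order 8, or p is odd and P is non-abelian of order p³ and exponent p. -/
theorem result {G : Type*} [Group G] [Finite G]
    {p : ℕ} [Fact p.Prime] (hC : ∀ H K : Subgroup G, IsPGroup p H → IsPGroup p K → Nat.card H = Nat.card K →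
      ∃ g : G, K = H.map (MulAut.conj g).toMonoidHom) (P : Sylow p G) :
    IsCyclic P ∨ Cfsg.IsElementaryAbelian p (P : Subgroup G) ∨
      (p = 2 ∧ Nonempty ((P : Subgroup G) ≃* QuaternionGroup 2)) ∨
      (p ≠ 2 ∧ ¬ IsMulCommutative P ∧ Nat.card P = p ^ 3 ∧ Monoid.exponent P = p) := by
  have hp : p.Prime := Fact.out
  have hPp : IsPGroup p (P : Subgroup G) := P.isPGroup'
  have hI : ∀ H K : Subgroup (P : Subgroup G), Nat.card H = Nat.card K → Nonempty (H ≃* K) := by
    intro H K hHK
    have hH : IsPGroup p (H.map (P : Subgroup G).subtype) := (hPp.to_subgroup H).map _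
    have hK : IsPGroup p (K.map (P : Subgroup G).subtype) := (hPp.to_subgroup K).map _
    have hc : Nat.card (H.map (P : Subgroup G).subtype) =
        Nat.card (K.map (P : Subgroup G).subtype) := by
      rw [Subgroup.card_map_of_injective (Subgroup.subtype_injective _),
        Subgroup.card_map_of_injective (Subgroup.subtype_injective _)]
      exact hHK
    obtain ⟨g, hg⟩ := hC _ _ hH hK hc
    let e1 := H.equivMapOfInjective (P : Subgroup G).subtype (Subgroup.subtype_injective _)
    let e2 := (H.map (P : Subgroup G).subtype).equivMapOfInjective (MulAut.conj g).toMonoidHom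
      (MulAut.conj g).injective
    let e3 := MulEquiv.subgroupCongr hg.symm
    let e4 := K.equivMapOfInjective (P : Subgroup G).subtype (Subgroup.subtype_injective _)
    exact ⟨e1.trans (e2.trans (e3.trans e4.symm))⟩
  rcases Cfsg.Agent.Lib.helper70.pgroup_same_order_iso_types p hPp hI with
    h | ⟨hc, he⟩ | ⟨h2, hq⟩ | ⟨hp2, hnc, hcard, hexp⟩
  · exact Or.inl h
  · refine Or.inr (Or.inl ⟨⟨⟨fun a b => hc a b⟩⟩, fun a ha => ?_⟩)
    have := he ⟨a, ha⟩
    exact congrArg Subtype.val this
  · exact Or.inr (Or.inr (Or.inl ⟨h2, hq⟩))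
  · refine Or.inr (Or.inr (Or.inr ⟨hp2, ?_, hcard, hexp⟩))
    intro hcomm
    obtain ⟨a, b, hab⟩ := hnc
    exact hab (hcomm.is_comm.comm a b)

end Cfsg.Agent.S4023
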