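import Cfsg.Statements.S4020
import Mathlib
import Cfsg.Agent.S4023
import Cfsg.Agent.Lib.helper70.ExtraP3

set_option autoImplicit false
open Cfsg

namespace Cfsg.Agent.S4020

/-- Let G be a finite group in which, for every prime p, any two p-subgroups of the same order are conjugate. Then every Sylow subgroup of G is cyclic, elementary abelian, or a quaternion group of order 8. -/
theorem result {G : Type*} [Group G] [Finite G]
    (hD : ∀ p : ℕ, p.Prime → ∀ H K : Subgroup G, IsPGroup p H → IsPGroup p K → Nat.card H = Nat.card K →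
      ∃ g : G, K = H.map (MulAut.conj g).toMonoidHom) {p : ℕ} [Fact p.Prime] (P : Sylow p G) :
    IsCyclic P ∨ Cfsg.IsElementaryAbelian p (P : Subgroup G) ∨ Nonempty ((P : Subgroup G) ≃* QuaternionGroup 2) := by
  have hp : p.Prime := Fact.out
  rcases Cfsg.Agent.S4023.result (hD p hp) P with h | h | ⟨_, hQ⟩ | ⟨hp2, hnc, hcard, hexp⟩
  · exact Or.inl h
  · exact Or.inr (Or.inl h)
  · exact Or.inr (Or.inr hQ)
  · exfalso
    have hcard' : Nat.card (P : Subgroup G) = p ^ 3 := hcard
    have hexp' : ∀ x ∈ (P : Subgroup G), x ^ p = 1 := by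
      intro x hx
      have h1 : (⟨x, hx⟩ : (P : Subgroup G)) ^ p = 1 := by
        have h2 := Monoid.pow_exponent_eq_one (⟨x, hx⟩ : (P : Subgroup G))
        have h3 : Monoid.exponent (P : Subgroup G) = p := hexp
        rwa [h3] at h2
      exact congrArg Subtype.val h1
    have hnc' : ∃ a ∈ (P : Subgroup G), ∃ b ∈ (P : Subgroup G), a * b ≠ b * a := by
      by_contra hcon
      push Not at hcon
      exact hnc ⟨⟨fun a b => Subtype.ext (hcon a a.2 b b.2)⟩⟩
    have hC1 : ∀ H K : Subgroup G, Nat.card H = p → Nat.card K = p →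
        ∃ g : G, K = H.map (MulAut.conj g).toMonoidHom := by
      intro H K hH hK
      exact hD p hp H K (IsPGroup.of_card (n := 1) (by rw [hH, pow_one]))
        (IsPGroup.of_card (n := 1) (by rw [hK, pow_one])) (hH.trans hK.symm)
    have hC2 : ∀ H K : Subgroup G, Nat.card H = p ^ 2 → Nat.card K = p ^ 2 →
        ∃ g : G, K = H.map (MulAut.conj g).toMonoidHom := by
      intro H K hH hK
      exact hD p hp H K (IsPGroup.of_card hH) (IsPGroup.of_card hK) (hH.trans hK.symm)
    have hS : ∀ S : Sylow 2 G, ∀ x ∈ (S : Subgroup G), ∀ y ∈ (S : Subgroup G),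
        x * y * x⁻¹ ∈ Subgroup.zpowers y := by
      intro S
      apply Cfsg.Agent.Lib.helper70.dedekind_of_types
      rcases Cfsg.Agent.S4023.result (p := 2) (hD 2 Nat.prime_two) S with
        h | h | ⟨_, hQ⟩ | ⟨h22, _⟩
      · exact Or.inl h
      · refine Or.inr (Or.inl ?_)
        intro a ha b hb
        exact congrArg Subtype.val (h.1.is_comm.comm ⟨a, ha⟩ ⟨b, hb⟩)
      · exact Or.inr (Or.inr hQ)
      · exact absurd rfl h22
    obtain ⟨Z, D⟩ := Cfsg.Agent.Lib.helper70.exists_extraData p P hp2 hcard' hexp' hnc'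
    exact D.false_of_dedekind hC1 hC2 hS

end Cfsg.Agent.S4020
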