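import Cfsg.Statements.S4024
import Mathlib
import Cfsg.Agent.Lib.helper70.PSolvNormal
import Cfsg.Agent.S4023

set_option autoImplicit false
open Cfsg

namespace Cfsg.Agent.S4024

/-- Let p be an odd prime and G a finite group in which any two p-subgroups of the same order are conjugate, with Sylow p-subgroup P. If H is a normal p-solvable subgroup of G whose order is divisible by p, then P is abelian, and either P ≤ H or P is cyclic. -/
theorem result {G : Type*} [Group G] [Finite G]
    {p : ℕ} [Fact p.Prime] (hp : p ≠ 2) (hC : ∀ H K : Subgroup G, IsPGroup p H → IsPGroup p K → Nat.card H = Nat.card K →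
      ∃ g : G, K = H.map (MulAut.conj g).toMonoidHom) (P : Sylow p G)
    (H : Subgroup G) [H.Normal] (hsolv : Cfsg.IsPSolvable p H) (hdiv : p ∣ Nat.card H) :
    IsMulCommutative P ∧ ((P : Subgroup G) ≤ H ∨ IsCyclic P) := by
  have hpr : p.Prime := Fact.out
  have hPp : IsPGroup p (P : Subgroup G) := P.isPGroup'
  have key : ∀ N : Subgroup G, N.Normal → p ∣ Nat.card N → ∀ x : G, x ∈ (P : Subgroup G) →
      x ^ p = 1 → x ∈ N := by
    intro N hN hpN x hxP hxp
    by_cases hx1 : x = 1
    · rw [hx1]; exact one_mem N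
    obtain ⟨y, hy⟩ := exists_prime_orderOf_dvd_card' (G := N) p hpN
    have hyo : orderOf (y : G) = p := by rw [Subgroup.orderOf_coe]; exact hy
    have hxo : orderOf x = p := orderOf_eq_prime hxp hx1
    have h1 : IsPGroup p (Subgroup.zpowers (y : G)) :=
      IsPGroup.of_card (n := 1) (by rw [Nat.card_zpowers, hyo, pow_one])
    have h2 : IsPGroup p (Subgroup.zpowers x) :=
      IsPGroup.of_card (n := 1) (by rw [Nat.card_zpowers, hxo, pow_one])
    obtain ⟨g, hg⟩ := hC (Subgroup.zpowers (y : G)) (Subgroup.zpowers x) h1 h2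
      (by rw [Nat.card_zpowers, Nat.card_zpowers, hyo, hxo])
    have hx : x ∈ (Subgroup.zpowers (y : G)).map (MulAut.conj g).toMonoidHom := by
      rw [← hg]; exact Subgroup.mem_zpowers x
    obtain ⟨w, hw, rfl⟩ := hx
    have hwN : w ∈ N := (Subgroup.zpowers_le.mpr y.2) hw
    exact hN.conj_mem w hwN g
  rcases Cfsg.Agent.S4023.result hC P with hcyc | hel | ⟨h2, -⟩ | ⟨-, hnc, hcard, hexp⟩
  · exact ⟨IsCyclic.isMulCommutative, Or.inr hcyc⟩
  · refine ⟨hel.1, Or.inl ?_⟩
    intro x hx
    exact key H inferInstance hdiv x hx (hel.2 x hx)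
  · exact absurd h2 hp
  · exfalso
    have hexp' : ∀ x ∈ (P : Subgroup G), x ^ p = 1 := by
      intro x hx
      have h3 := Monoid.pow_exponent_eq_one (⟨x, hx⟩ : ↥(P : Subgroup G))
      rw [hexp] at h3
      exact congrArg Subtype.val h3
    obtain ⟨K, M, hKn, hMn, hKM, hMH, hKc, j, hMcard⟩ :=
      Cfsg.Agent.Lib.helper70.exists_normal_pprime_p_section p H hsolv hdiv
    have hpM : p ∣ Nat.card M := by
      rw [hMcard]; exact Dvd.dvd.mul_left (dvd_pow_self p (Nat.succ_ne_zero j)) _
    have hPM : (P : Subgroup G) ≤ M := fun x hx => key M hMn hpM x hx (hexp' x hx)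
    have hPK : (P : Subgroup G) ⊓ K = ⊥ :=
      Cfsg.Agent.Lib.helper28.inf_eq_bot_of_isPGroup_of_coprime hPp hKc
    obtain ⟨n, hn⟩ := (IsPGroup.iff_card).mp hPp
    have hcop : (Nat.card (P : Subgroup G)).Coprime (Nat.card K) := by
      rw [hn]; exact Nat.Coprime.pow_left n hKc.symm
    have hcardP : Nat.card (P : Subgroup G) = p ^ (j + 1) := by
      apply Nat.dvd_antisymm
      · have h1 : Nat.card (P : Subgroup G) ∣ Nat.card K * p ^ (j + 1) := by
          rw [← hMcard]; exact Subgroup.card_dvd_of_le hPM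
        exact hcop.dvd_of_dvd_mul_left h1
      · apply P.pow_dvd_card_of_pow_dvd_card
        exact (Dvd.intro_left _ hMcard.symm).trans (Subgroup.card_subgroup_dvd_card M)
    have hM : K ⊔ (P : Subgroup G) = M := by
      apply Subgroup.eq_of_le_of_card_ge (sup_le hKM hPM)
      rw [hMcard, ← hcardP]
      apply Nat.le_of_dvd Nat.card_pos
      exact Nat.Coprime.mul_dvd_of_dvd_of_dvd hcop.symm (Subgroup.card_dvd_of_le le_sup_left)
        (Subgroup.card_dvd_of_le le_sup_right)
    have hPnt : Nontrivial ↥(P : Subgroup G) := by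
      rw [← Finite.one_lt_card_iff_nontrivial, hcardP]
      exact Nat.one_lt_pow (Nat.succ_ne_zero j) hpr.one_lt
    obtain ⟨z, hzc, hzo⟩ := Cfsg.Agent.Lib.helper70.exists_central_orderOf_eq_prime p hPp
    have hcentral : ∀ x ∈ (P : Subgroup G), ∀ y ∈ (P : Subgroup G), x * y = y * x := by
      intro x hx y hy
      by_cases hx1 : x = 1
      · rw [hx1, one_mul, mul_one]
      have hxo : orderOf x = p := orderOf_eq_prime (hexp' x hx) hx1
      have hzo' : orderOf (z : G) = p := by rw [Subgroup.orderOf_coe]; exact hzo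
      obtain ⟨g, hg⟩ := hC (Subgroup.zpowers (z : G)) (Subgroup.zpowers x)
        (IsPGroup.of_card (n := 1) (by rw [Nat.card_zpowers, hzo', pow_one]))
        (IsPGroup.of_card (n := 1) (by rw [Nat.card_zpowers, hxo, pow_one]))
        (by rw [Nat.card_zpowers, Nat.card_zpowers, hzo', hxo])
      have hx' : x ∈ (Subgroup.zpowers (z : G)).map (MulAut.conj g).toMonoidHom := by
        rw [← hg]; exact Subgroup.mem_zpowers x
      obtain ⟨w, hw, hwx⟩ := hx'
      have hwx' : g * w * g⁻¹ = x := hwx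
      have hwP : w ∈ (P : Subgroup G) := (Subgroup.zpowers_le.mpr z.2) hw
      have hwc : ∀ y ∈ (P : Subgroup G), w * y = y * w := by
        intro y hy
        rw [SetLike.mem_coe, Subgroup.mem_zpowers_iff] at hw
        obtain ⟨k, rfl⟩ := hw
        have hzy : (z : G) * y = y * z := by
          have h4 := Subgroup.mem_center_iff.mp hzc ⟨y, hy⟩
          exact (congrArg Subtype.val h4).symm
        exact Commute.zpow_left hzy k
      have hg' : g ∈ Subgroup.normalizer ((P : Subgroup G) : Set G) ⊔ M := by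
        have hfr : Subgroup.normalizer ((P : Subgroup G) : Set G) ⊔ M = ⊤ :=
          Sylow.normalizer_sup_eq_top' P hPM
        rw [hfr]; exact Subgroup.mem_top g
      obtain ⟨n₀, hn₀, m₀, hm₀, hgm⟩ := Subgroup.mem_sup_of_normal_right.mp hg'
      have hm : n₀ * m₀ * n₀⁻¹ ∈ K ⊔ (P : Subgroup G) := by
        rw [hM]; exact hMn.conj_mem m₀ hm₀ n₀
      obtain ⟨k, hk, q, hq, hkq⟩ := Subgroup.mem_sup_of_normal_left.mp hm
      have hqn : q * n₀ ∈ Subgroup.normalizer ((P : Subgroup G) : Set G) :=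
        Subgroup.mul_mem _ (Subgroup.le_normalizer hq) hn₀
      have hgk : g = k * (q * n₀) := by
        rw [← hgm, ← mul_assoc, hkq]; group
      set nn : G := q * n₀ with hnn
      have hz'P : nn * w * nn⁻¹ ∈ (P : Subgroup G) :=
        (Subgroup.mem_normalizer_iff.mp hqn w).mp hwP
      have hz'c : ∀ y ∈ (P : Subgroup G), nn * w * nn⁻¹ * y = y * (nn * w * nn⁻¹) := by
        intro y hy
        have hy' : nn⁻¹ * y * nn ∈ (P : Subgroup G) := by
          have h5 := (Subgroup.mem_normalizer_iff.mp (Subgroup.inv_mem _ hqn) y).mp hy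
          rwa [inv_inv] at h5
        have h6 := hwc _ hy'
        calc nn * w * nn⁻¹ * y = nn * (w * (nn⁻¹ * y * nn)) * nn⁻¹ := by group
          _ = nn * ((nn⁻¹ * y * nn) * w) * nn⁻¹ := by rw [h6]
          _ = y * (nn * w * nn⁻¹) := by group
      have hxk : x = k * (nn * w * nn⁻¹) * k⁻¹ := by
        rw [← hwx', hgk]; group
      have h7 : x * (nn * w * nn⁻¹)⁻¹ ∈ (P : Subgroup G) ⊓ K := by
        refine ⟨Subgroup.mul_mem _ hx (Subgroup.inv_mem _ hz'P), ?_⟩
        have h8 : x * (nn * w * nn⁻¹)⁻¹ = k * ((nn * w * nn⁻¹) * k⁻¹ * (nn * w * nn⁻¹)⁻¹) := by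
          rw [hxk]; group
        rw [h8]
        exact Subgroup.mul_mem _ hk (hKn.conj_mem k⁻¹ (Subgroup.inv_mem _ hk) _)
      rw [hPK, Subgroup.mem_bot] at h7
      have h9 : x = nn * w * nn⁻¹ := by
        rw [mul_inv_eq_one] at h7; exact h7
      rw [h9]; exact hz'c y hy
    exact hnc ⟨⟨fun a b => Subtype.ext (hcentral a a.2 b b.2)⟩⟩

end Cfsg.Agent.S4024
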