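import Cfsg.Statements.S4025
import Cfsg.Agent.Lib.helper62.S4025Asm
import Cfsg.Agent.Lib.helper80.S4025P5
import Cfsg.Agent.Lib.helper61.S4025P6

set_option autoImplicit false
open Cfsg

namespace Cfsg.Agent.S4025

theorem result_aux {G : Type*} [Group G] [Finite G]
    {p : ℕ} [Fact p.Prime] (hC : ∀ H K : Subgroup G, IsPGroup p H → IsPGroup p K → Nat.card H = Nat.card K →
      ∃ g : G, K = H.map (MulAut.conj g).toMonoidHom) (P : Sylow p G) (n : ℕ) (hn : 3 ≤ n)
    (hel : Cfsg.IsElementaryAbelian p (P : Subgroup G)) (hcard : Nat.card P = p ^ n)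
    (N : Subgroup G) (hPN : (P : Subgroup G) ≤ N)
    (hnorm : ((P : Subgroup G).subgroupOf N).Normal)
    (hNN : Subgroup.normalizer ((P : Subgroup G) : Set G) ≤ N)
    (hsolv : Group.IsSolvable (↥N ⧸ Cfsg.pPrimeCore p ↥N)) :
    (n = 3 ∧ (∃ f : ↥N ⧸ Cfsg.pPrimeCore p ↥N →* ↥(Cfsg.semiaffineGroup (GaloisField p 3)), Function.Injective f) ∧
      (p = 2 → Nonempty (↥N ⧸ Cfsg.pPrimeCore p ↥N ≃* Cfsg.semiaffineGroup (GaloisField 2 3)) ∨
               Nonempty (↥N ⧸ Cfsg.pPrimeCore p ↥N ≃* Cfsg.affineGroup (GaloisField 2 3)))) ∨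
    (n = 5 ∧ p = 2 ∧ Nonempty (↥N ⧸ Cfsg.pPrimeCore p ↥N ≃* Cfsg.semiaffineGroup (GaloisField 2 5))) := by
  classical
  obtain ⟨hcomm, hexpP⟩ := hel
  have habP : ∀ x ∈ (P : Subgroup G), ∀ y ∈ (P : Subgroup G), x * y = y * x := by
    intro x hx y hy
    have h1 := hcomm.is_comm.comm ⟨x, hx⟩ ⟨y, hy⟩
    exact congrArg Subtype.val h1
  have hP'card : Nat.card ((P : Subgroup G).subgroupOf N) = p ^ n := by
    rw [Nat.card_congr (Subgroup.subgroupOfEquivOfLe hPN).toEquiv]
    exact hcard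
  have hP'c : IsMulCommutative ((P : Subgroup G).subgroupOf N) := by
    refine ⟨⟨?_⟩⟩
    rintro ⟨a, ha⟩ ⟨b, hb⟩
    apply Subtype.ext
    apply Subtype.ext
    exact habP a.1 ha b.1 hb
  have hexp : ∀ x ∈ (P : Subgroup G).subgroupOf N, x ^ p = 1 := by
    intro x hx
    apply Subtype.ext
    exact hexpP x.1 hx
  have hidx : ¬ p ∣ ((P : Subgroup G).subgroupOf N).index := by
    intro h
    have h2 := Subgroup.relIndex_dvd_index_of_le hPN
    exact P.not_dvd_index (h.trans h2)
  have hab' : ∀ x ∈ (P : Subgroup G).subgroupOf N, ∀ y ∈ (P : Subgroup G).subgroupOf N,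
      x * y = y * x := by
    intro x hx y hy
    apply Subtype.ext
    exact habP x.1 hx y.1 hy
  obtain ⟨hKn, hKc, hKP, hK⟩ := Cfsg.Agent.Lib.helper61.S4025.pPrimeCore_facts
    ((P : Subgroup G).subgroupOf N) (IsPGroup.of_card hP'card) hab' hidx
  have htr : ∀ A B : Subgroup N, A ≤ (P : Subgroup G).subgroupOf N →
      B ≤ (P : Subgroup G).subgroupOf N → Nat.card A = Nat.card B →
      ∃ x : N, B = A.map (MulAut.conj x).toMonoidHom := by
    intro A B hA hB hAB
    have hA1 : A.map N.subtype ≤ (P : Subgroup G) := by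
      rintro _ ⟨a, ha, rfl⟩
      exact hA ha
    have hB1 : B.map N.subtype ≤ (P : Subgroup G) := by
      rintro _ ⟨a, ha, rfl⟩
      exact hB ha
    have hcardAB : Nat.card (A.map N.subtype) = Nat.card (B.map N.subtype) := by
      rw [Subgroup.card_map_of_injective N.subtype_injective,
        Subgroup.card_map_of_injective N.subtype_injective, hAB]
    obtain ⟨g, hg⟩ := hC _ _ (P.2.to_le hA1) (P.2.to_le hB1) hcardAB
    obtain ⟨x, hxN, hx⟩ :=
      Cfsg.Agent.Lib.helper80.S4025.conj_in_normalizer_of_abelian_sylow P habP _ _ hA1 hB1 g hg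
    refine ⟨⟨x, hNN hxN⟩, ?_⟩
    apply Subgroup.map_injective N.subtype_injective
    rw [hx]
    ext y
    simp only [Subgroup.mem_map]
    constructor
    · rintro ⟨_, ⟨a, ha, rfl⟩, rfl⟩
      exact ⟨⟨x, hNN hxN⟩ * a * ⟨x, hNN hxN⟩⁻¹, ⟨a, ha, rfl⟩, rfl⟩
    · rintro ⟨_, ⟨a, ha, rfl⟩, rfl⟩
      exact ⟨a.1, ⟨a, ha, rfl⟩, rfl⟩
  exact Cfsg.Agent.Lib.helper62.S4025.asm ((P : Subgroup G).subgroupOf N) hexp n hn hP'card hidx
    (Cfsg.pPrimeCore p N) hKc hKP hK hsolv htr

/-- Let p be a prime and G a finite group in which any two p-subgroups of the same order are conjugate, and suppose a Sylow p-subgroup P of G is elementary abelian of order pⁿ with n ≥ 3. Let N be the normalizer of P and K the largest normal subgroup of N of order prime to p, and assume N/K is solvable. Then either n = 3 and N/K embeds in the one-dimensional semi-affine group over the field with p³ elements (and for p = 2 it is isomorphic to the affine or the semi-affine group over the field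 with 8 elements), or n = 5, p = 2 and N/K is isomorphic to the one-dimensional semi-affine group over the field with 32 elements. -/
theorem result {G : Type*} [Group G] [Finite G]
    {p : ℕ} [Fact p.Prime] (hC : ∀ H K : Subgroup G, IsPGroup p H → IsPGroup p K → Nat.card H = Nat.card K →
      ∃ g : G, K = H.map (MulAut.conj g).toMonoidHom) (P : Sylow p G) (n : ℕ) (hn : 3 ≤ n)
    (hel : Cfsg.IsElementaryAbelian p (P : Subgroup G)) (hcard : Nat.card P = p ^ n)
    (N : Subgroup G) (hN : N = Subgroup.normalizer ((P : Subgroup G) : Set G))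
    (hsolv : Group.IsSolvable (↥N ⧸ Cfsg.pPrimeCore p ↥N)) :
    (n = 3 ∧ (∃ f : ↥N ⧸ Cfsg.pPrimeCore p ↥N →* ↥(Cfsg.semiaffineGroup (GaloisField p 3)), Function.Injective f) ∧
      (p = 2 → Nonempty (↥N ⧸ Cfsg.pPrimeCore p ↥N ≃* Cfsg.semiaffineGroup (GaloisField 2 3)) ∨
               Nonempty (↥N ⧸ Cfsg.pPrimeCore p ↥N ≃* Cfsg.affineGroup (GaloisField 2 3)))) ∨
    (n = 5 ∧ p = 2 ∧ Nonempty (↥N ⧸ Cfsg.pPrimeCore p ↥N ≃* Cfsg.semiaffineGroup (GaloisField 2 5))) := by
  subst hN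
  exact result_aux hC P n hn hel hcard _ Subgroup.le_normalizer Subgroup.normal_in_normalizer
    le_rfl hsolv

end Cfsg.Agent.S4025
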