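import Cfsg.Statements.S4032
import Mathlib
import Cfsg.Agent.Lib.helper70.Basic

set_option autoImplicit false
open Cfsg

namespace Cfsg.Agent.S4032

open Cfsg.Agent.Lib.helper70 in
/-- In the preimage `H` of `⟨y⟩` (of order `p ^ k`) in `G`, where `p ∤ |N|`, the cyclic group
generated by a `p`-element of order at least `p ^ k` has index prime to `p`. -/
theorem not_dvd_index_zpowers {G : Type*} [Group G] [Finite G] (N : Subgroup G) [N.Normal]
    {p : ℕ} (hp : p.Prime) (hpN : ¬ p ∣ Nat.card N) (y : G ⧸ N) (k : ℕ) (hy : orderOf y = p ^ k)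
    (x : G) (hx : x ∈ (Subgroup.zpowers y).comap (QuotientGroup.mk' N)) (a : ℕ)
    (hxa : orderOf x = p ^ a) (hka : k ≤ a) :
    ¬ p ∣ ((Subgroup.zpowers x).subgroupOf
      ((Subgroup.zpowers y).comap (QuotientGroup.mk' N))).index := by
  set H : Subgroup G := (Subgroup.zpowers y).comap (QuotientGroup.mk' N) with hH
  have hZH : Subgroup.zpowers x ≤ H := (Subgroup.zpowers_le).2 hx
  -- card H = p ^ k * card N
  have h1 : Nat.card H * (Subgroup.zpowers y).index = Nat.card G := by
    rw [← Subgroup.index_comap_of_surjective (Subgroup.zpowers y) (QuotientGroup.mk'_surjective N)]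
    exact Subgroup.card_mul_index H
  have h2 : Nat.card (Subgroup.zpowers y) * (Subgroup.zpowers y).index = Nat.card (G ⧸ N) :=
    Subgroup.card_mul_index _
  have h3 : Nat.card G = Nat.card (G ⧸ N) * Nat.card N :=
    Subgroup.card_eq_card_quotient_mul_card_subgroup N
  have hidx : 0 < (Subgroup.zpowers y).index := Nat.pos_of_ne_zero Subgroup.index_ne_zero_of_finite
  have hcardH : Nat.card H = p ^ k * Nat.card N := by
    have : Nat.card H * (Subgroup.zpowers y).index
        = (p ^ k * Nat.card N) * (Subgroup.zpowers y).index := by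
      rw [h1, h3, ← h2, Nat.card_zpowers, hy]; ring
    exact Nat.eq_of_mul_eq_mul_right hidx this
  -- card Z * relIndex = card H
  have h4 : Nat.card (Subgroup.zpowers x) * (Subgroup.zpowers x).relIndex H = Nat.card H := by
    have := Subgroup.relIndex_mul_relIndex (⊥ : Subgroup G) (Subgroup.zpowers x) H bot_le hZH
    rwa [Subgroup.relIndex_bot_left, Subgroup.relIndex_bot_left] at this
  rw [Nat.card_zpowers, hxa, hcardH] at h4
  intro hdvd
  change p ∣ (Subgroup.zpowers x).relIndex H at hdvd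
  obtain ⟨d, hd⟩ := Nat.exists_eq_add_of_le hka
  rw [hd, pow_add, mul_assoc] at h4
  have h5 : p ^ d * (Subgroup.zpowers x).relIndex H = Nat.card N :=
    Nat.eq_of_mul_eq_mul_left (pow_pos hp.pos k) h4
  exact hpN (h5 ▸ Dvd.dvd.mul_left hdvd _)

/-- Let π be a set of primes and G a finite group in which N_G(⟨x⟩) = C_G(x) for every π-element x. If N is a normal subgroup of G whose order is divisible by no prime of π, then G/N has the same property: N_{G/N}(⟨y⟩) = C_{G/N}(y) for every π-element y of G/N. -/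
theorem result {G : Type*} [Group G] [Finite G] (π : Set ℕ)
    (hirr : ∀ x : G, (∀ r : ℕ, r.Prime → r ∣ orderOf x → r ∈ π) →
      Subgroup.normalizer ((Subgroup.zpowers x : Subgroup G) : Set G) ≤ Subgroup.centralizer {x})
    (N : Subgroup G) [N.Normal] (hN : ∀ r : ℕ, r.Prime → r ∣ Nat.card N → r ∉ π) :
    ∀ y : G ⧸ N, (∀ r : ℕ, r.Prime → r ∣ orderOf y → r ∈ π) →
      Subgroup.normalizer ((Subgroup.zpowers y : Subgroup (G ⧸ N)) : Set (G ⧸ N)) ≤ Subgroup.centralizer {y} := by
  classical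
  -- Step A: the prime power case
  have stepA : ∀ (p k : ℕ), p.Prime → p ∈ π → ∀ y : G ⧸ N, orderOf y = p ^ k → ∀ γ : G ⧸ N,
      γ * y * γ⁻¹ ∈ Subgroup.zpowers y → γ * y * γ⁻¹ = y := by
    intro p k hp hpπ y hy γ hγ
    have : Fact p.Prime := ⟨hp⟩
    obtain ⟨x, hxy, a, hxa⟩ := Cfsg.Agent.Lib.helper70.exists_lift_orderOf_prime_pow N hp y hy
    obtain ⟨g, rfl⟩ := QuotientGroup.mk_surjective γ
    have hx : Subgroup.normalizer ((Subgroup.zpowers x : Subgroup G) : Set G)
        ≤ Subgroup.centralizer {x} := by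
      apply hirr
      intro r hr hrx
      rw [hxa] at hrx
      have := (Nat.prime_dvd_prime_iff_eq hr hp).1 (hr.dvd_of_dvd_pow hrx)
      rw [this]; exact hpπ
    have hpN : ¬ p ∣ Nat.card N := fun h => hN p hp h hpπ
    have hka : k ≤ a := by
      have h1 : orderOf ((QuotientGroup.mk' N) x) ∣ orderOf x := orderOf_map_dvd _ x
      rw [QuotientGroup.mk'_apply, hxy, hy, hxa] at h1
      exact (Nat.pow_dvd_pow_iff_le_right hp.one_lt).1 h1
    set H : Subgroup G := (Subgroup.zpowers y).comap (QuotientGroup.mk' N) with hH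
    have hxH : x ∈ H := by
      rw [hH, Subgroup.mem_comap, QuotientGroup.mk'_apply, hxy]
      exact Subgroup.mem_zpowers y
    have hgxH : g * x * g⁻¹ ∈ H := by
      rw [hH, Subgroup.mem_comap, QuotientGroup.mk'_apply]
      have h1 : ((g * x * g⁻¹ : G) : G ⧸ N) = (g : G ⧸ N) * y * (g : G ⧸ N)⁻¹ := by
        rw [QuotientGroup.mk_mul, QuotientGroup.mk_mul, QuotientGroup.mk_inv, hxy]
      rw [h1]; exact hγ
    have hxa' : orderOf (g * x * g⁻¹) = p ^ a := by
      have : g * x * g⁻¹ = MulAut.conj g x := rfl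
      rw [this, MulEquiv.orderOf_eq, hxa]
    have hi1 := not_dvd_index_zpowers N hp hpN y k hy x hxH a hxa hka
    have hi2 := not_dvd_index_zpowers N hp hpN y k hy (g * x * g⁻¹) hgxH a hxa' hka
    have hP1 : IsPGroup p ((Subgroup.zpowers x).subgroupOf H) := by
      have : IsPGroup p (Subgroup.zpowers x) :=
        IsPGroup.of_card (n := a) (by rw [Nat.card_zpowers, hxa])
      exact this.comap_subtype
    have hP2 : IsPGroup p ((Subgroup.zpowers (g * x * g⁻¹)).subgroupOf H) := by
      have : IsPGroup p (Subgroup.zpowers (g * x * g⁻¹)) :=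
        IsPGroup.of_card (n := a) (by rw [Nat.card_zpowers, hxa'])
      exact this.comap_subtype
    obtain ⟨h, hh⟩ := MulAction.exists_smul_eq H (hP1.toSylow hi1) (hP2.toSylow hi2)
    -- h x h⁻¹ ∈ zpowers (g x g⁻¹)
    have hmem : (h : G) * x * (h : G)⁻¹ ∈ Subgroup.zpowers (g * x * g⁻¹) := by
      have h1 : (⟨x, hxH⟩ : H) ∈ (hP1.toSylow hi1 : Subgroup H) := by
        rw [IsPGroup.toSylow_coe, Subgroup.mem_subgroupOf]
        exact Subgroup.mem_zpowers x
      have h2 : h * (⟨x, hxH⟩ : H) * h⁻¹ ∈ ((h • hP1.toSylow hi1 : Sylow p H) : Subgroup H) := by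
        rw [Sylow.coe_subgroup_smul]
        exact Subgroup.smul_mem_pointwise_smul _ _ _ h1
      rw [hh, IsPGroup.toSylow_coe, Subgroup.mem_subgroupOf] at h2
      simpa using h2
    obtain ⟨i, hi⟩ := Subgroup.mem_zpowers_iff.1 hmem
    -- c = g⁻¹ h normalizes zpowers x
    have hc : g⁻¹ * (h : G) ∈ Subgroup.normalizer ((Subgroup.zpowers x : Subgroup G) : Set G) := by
      apply Subgroup.mem_normalizer_fintype
      intro n hn
      obtain ⟨j, rfl⟩ := Subgroup.mem_zpowers_iff.1 hn
      have h1 : g⁻¹ * (h : G) * x ^ j * (g⁻¹ * (h : G))⁻¹ = (x ^ i) ^ j := by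
        have h2 : g⁻¹ * (h : G) * x * (g⁻¹ * (h : G))⁻¹ = x ^ i := by
          have : g⁻¹ * (h : G) * x * (g⁻¹ * (h : G))⁻¹ = g⁻¹ * ((h : G) * x * (h : G)⁻¹) * g := by
            group
          rw [this, ← hi]
          have h3 : (g * x * g⁻¹) ^ i = g * x ^ i * g⁻¹ := by
            have : g * x * g⁻¹ = MulAut.conj g x := rfl
            rw [this, ← map_zpow]; rfl
          rw [h3]; group
        rw [← h2]
        have : g⁻¹ * (h : G) * x ^ j * (g⁻¹ * (h : G))⁻¹ = MulAut.conj (g⁻¹ * (h : G)) (x ^ j) := rfl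
        rw [this, map_zpow]; rfl
      rw [h1, ← zpow_mul]
      exact Subgroup.zpow_mem _ (Subgroup.mem_zpowers x) _
    have hcomm := hx hc
    rw [Subgroup.mem_centralizer_iff] at hcomm
    have hcomm' : x * (g⁻¹ * (h : G)) = g⁻¹ * (h : G) * x := hcomm x rfl
    have heq : g * x * g⁻¹ = (h : G) * x * (h : G)⁻¹ := by
      have : (h : G) * x = g * x * g⁻¹ * (h : G) := by
        calc (h : G) * x = g * (g⁻¹ * (h : G) * x) := by group
          _ = g * (x * (g⁻¹ * (h : G))) := by rw [hcomm']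
          _ = g * x * g⁻¹ * (h : G) := by group
      rw [this]; group
    have hhy : ((h : G) : G ⧸ N) ∈ Subgroup.zpowers y := h.2
    obtain ⟨j, hj⟩ := Subgroup.mem_zpowers_iff.1 hhy
    have h1 : (g : G ⧸ N) * y * (g : G ⧸ N)⁻¹ = ((g * x * g⁻¹ : G) : G ⧸ N) := by
      rw [QuotientGroup.mk_mul, QuotientGroup.mk_mul, QuotientGroup.mk_inv, hxy]
    rw [h1, heq, QuotientGroup.mk_mul, QuotientGroup.mk_mul, QuotientGroup.mk_inv, hxy, ← hj]
    rw [← zpow_add_one, ← zpow_neg, ← zpow_add]
    simp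
  -- Step B: the general case
  intro y hy γ hγ
  have hγy : γ * y * γ⁻¹ ∈ Subgroup.zpowers y :=
    (hγ y).1 (Subgroup.mem_zpowers y)
  obtain ⟨j, hj⟩ := Subgroup.mem_zpowers_iff.1 hγy
  have key : y ∈ Subgroup.centralizer ({γ} : Set (G ⧸ N)) := by
    apply Cfsg.Agent.Lib.helper70.mem_of_prime_pow_powers_mem' _ y (orderOf_pos y)
    intro p k e hp hpe
    rw [Subgroup.mem_centralizer_iff]
    intro c hc
    rw [Set.mem_singleton_iff] at hc
    subst hc
    rcases Nat.eq_zero_or_pos k with hk | hk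
    · rw [hk, pow_zero, orderOf_eq_one_iff] at hpe
      rw [hpe]; simp
    · have hpπ : p ∈ π := by
        apply hy p hp
        have h1 : p ∣ orderOf (y ^ e) := by rw [hpe]; exact dvd_pow_self p hk.ne'
        exact h1.trans (orderOf_pow_dvd e)
      have hmem : c * y ^ e * c⁻¹ ∈ Subgroup.zpowers (y ^ e) := by
        have h1 : c * y ^ e * c⁻¹ = (y ^ e) ^ j := by
          have : c * y ^ e * c⁻¹ = MulAut.conj c (y ^ e) := rfl
          rw [this, map_pow]
          have : MulAut.conj c y = c * y * c⁻¹ := rfl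
          rw [this, ← hj, ← zpow_natCast, ← zpow_natCast, ← zpow_mul, ← zpow_mul, mul_comm]
        rw [h1]
        exact Subgroup.zpow_mem _ (Subgroup.mem_zpowers _) _
      have := stepA p k hp hpπ (y ^ e) hpe c hmem
      calc c * y ^ e = c * y ^ e * c⁻¹ * c := by group
        _ = y ^ e * c := by rw [this]
  rw [Subgroup.mem_centralizer_iff] at key ⊢
  intro c hc
  rw [Set.mem_singleton_iff] at hc
  subst hc
  exact (key γ rfl).symm

end Cfsg.Agent.S4032
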