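import Cfsg.Statements.S4027
import Mathlib
import Cfsg.Agent.Lib.helper70.Basic
import Cfsg.Agent.Lib.helper91.BaerSuzuki
import Cfsg.Agent.S4032

set_option autoImplicit false
open Cfsg

namespace Cfsg.Agent.S4027

universe u

/-- An involution inverts its product with another involution. -/
theorem conj_mul_involutions {G : Type*} [Group G] (a b : G) (ha2 : a * a = 1) (hb2 : b * b = 1) :
    a * (a * b) * a⁻¹ = (a * b)⁻¹ := by
  have hai : a⁻¹ = a := inv_eq_of_mul_eq_one_right ha2
  have hbi : b⁻¹ = b := inv_eq_of_mul_eq_one_right hb2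
  rw [mul_inv_rev, hai, hbi, ← mul_assoc, ha2, one_mul]

/-- Under the hypothesis, the product of two involutions has `2`-power order. -/
theorem orderOf_mul_involutions {G : Type*} [Group G] [Finite G]
    (hirr : ∀ x : G, (∀ r : ℕ, r.Prime → r ∣ orderOf x → r ≠ 2) →
      Subgroup.normalizer ((Subgroup.zpowers x : Subgroup G) : Set G) ≤ Subgroup.centralizer {x})
    (a b : G) (ha : orderOf a = 2) (hb : orderOf b = 2) : ∃ k, orderOf (a * b) = 2 ^ k := by
  set w := a * b with hw
  obtain ⟨k, m, hm, hkm⟩ := Nat.exists_eq_pow_mul_and_not_dvd (orderOf_pos w).ne' 2 (by norm_num)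
  have h2k : 0 < 2 ^ k := pow_pos (by norm_num) k
  have hxo : orderOf (w ^ 2 ^ k) = m := by
    rw [orderOf_pow' w h2k.ne', hkm, Nat.gcd_eq_right (Dvd.intro _ rfl),
      Nat.mul_div_cancel_left _ h2k]
  have ha2 : a * a = 1 := by rw [← sq, ← ha]; exact pow_orderOf_eq_one a
  have hb2 : b * b = 1 := by rw [← sq, ← hb]; exact pow_orderOf_eq_one b
  have hconj : a * w * a⁻¹ = w⁻¹ := conj_mul_involutions a b ha2 hb2
  have hc : ∀ z : G, a * z * a⁻¹ = MulAut.conj a z := fun z => rfl
  have hxconj : a * w ^ 2 ^ k * a⁻¹ = (w ^ 2 ^ k)⁻¹ := by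
    rw [hc, map_pow, ← hc, hconj, inv_pow]
  have hN : a ∈ Subgroup.normalizer ((Subgroup.zpowers (w ^ 2 ^ k) : Subgroup G) : Set G) := by
    apply Subgroup.mem_normalizer_fintype
    intro n hn
    obtain ⟨j, rfl⟩ := Subgroup.mem_zpowers_iff.1 hn
    have h1 : a * (w ^ 2 ^ k) ^ j * a⁻¹ = ((w ^ 2 ^ k)⁻¹) ^ j := by
      rw [hc, map_zpow, ← hc, hxconj]
    rw [h1]
    exact Subgroup.zpow_mem _ (Subgroup.inv_mem _ (Subgroup.mem_zpowers _)) j
  have hodd : ∀ r : ℕ, r.Prime → r ∣ orderOf (w ^ 2 ^ k) → r ≠ 2 := by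
    intro r _ hrd h2
    rw [hxo, h2] at hrd
    exact hm hrd
  have hC := hirr _ hodd hN
  rw [Subgroup.mem_centralizer_iff] at hC
  have hcomm : w ^ 2 ^ k * a = a * w ^ 2 ^ k := hC _ rfl
  have hx2 : (w ^ 2 ^ k) ^ 2 = 1 := by
    have h1 : a * w ^ 2 ^ k * a⁻¹ = w ^ 2 ^ k := by rw [← hcomm]; group
    rw [h1] at hxconj
    rw [sq]; exact eq_inv_iff_mul_eq_one.1 hxconj
  have hm2 : m ∣ 2 := by rw [← hxo]; exact orderOf_dvd_of_pow_eq_one hx2
  have hm1 : m = 1 := by
    rcases (Nat.dvd_prime Nat.prime_two).1 hm2 with h | h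
    · exact h
    · exact absurd (by rw [h] : 2 ∣ m) hm
  exact ⟨k, by rw [hkm, hm1, mul_one]⟩

/-- Under the hypothesis, two involutions generate a `2`-group. -/
theorem isPGroup_closure_pair {G : Type*} [Group G] [Finite G]
    (hirr : ∀ x : G, (∀ r : ℕ, r.Prime → r ∣ orderOf x → r ≠ 2) →
      Subgroup.normalizer ((Subgroup.zpowers x : Subgroup G) : Set G) ≤ Subgroup.centralizer {x})
    (a b : G) (ha : orderOf a = 2) (hb : orderOf b = 2) :
    IsPGroup 2 (Subgroup.closure ({a, b} : Set G)) := by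
  have : Fact (Nat.Prime 2) := ⟨Nat.prime_two⟩
  obtain ⟨k, hk⟩ := orderOf_mul_involutions hirr a b ha hb
  have ha2 : a * a = 1 := by rw [← sq, ← ha]; exact pow_orderOf_eq_one a
  have hb2 : b * b = 1 := by rw [← sq, ← hb]; exact pow_orderOf_eq_one b
  have hA : IsPGroup 2 (Subgroup.zpowers a) :=
    IsPGroup.of_card (n := 1) (by rw [Nat.card_zpowers, ha, pow_one])
  have hW : IsPGroup 2 (Subgroup.zpowers (a * b)) :=
    IsPGroup.of_card (n := k) (by rw [Nat.card_zpowers, hk])
  have hc : ∀ z : G, a * z * a⁻¹ = MulAut.conj a z := fun z => rfl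
  have hAN : Subgroup.zpowers a ≤
      Subgroup.normalizer ((Subgroup.zpowers (a * b) : Subgroup G) : Set G) := by
    rw [Subgroup.zpowers_le]
    apply Subgroup.mem_normalizer_fintype
    intro n hn
    obtain ⟨j, rfl⟩ := Subgroup.mem_zpowers_iff.1 hn
    have h1 : a * (a * b) ^ j * a⁻¹ = ((a * b)⁻¹) ^ j := by
      rw [hc, map_zpow, ← hc, conj_mul_involutions a b ha2 hb2]
    rw [h1]
    exact Subgroup.zpow_mem _ (Subgroup.inv_mem _ (Subgroup.mem_zpowers _)) j
  have hS := hA.to_sup_of_normal_right' hW hAN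
  refine hS.to_le ?_
  rw [Subgroup.closure_le]
  intro z hz
  rcases hz with hz | hz
  · rw [hz]
    exact (le_sup_left : Subgroup.zpowers a ≤ _) (Subgroup.mem_zpowers a)
  · rw [Set.mem_singleton_iff] at hz
    have h1 : z = a⁻¹ * (a * b) := by rw [hz]; group
    rw [h1]
    exact Subgroup.mul_mem _
      (Subgroup.inv_mem _ ((le_sup_left : Subgroup.zpowers a ≤ _) (Subgroup.mem_zpowers a)))
      ((le_sup_right : Subgroup.zpowers (a * b) ≤ _) (Subgroup.mem_zpowers _))

/-- The induction on the group order. -/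
theorem aux (n : ℕ) : ∀ (G : Type u) [Group G] [Finite G], Nat.card G = n →
    (∀ x : G, (∀ r : ℕ, r.Prime → r ∣ orderOf x → r ≠ 2) →
      Subgroup.normalizer ((Subgroup.zpowers x : Subgroup G) : Set G) ≤ Subgroup.centralizer {x}) →
    ∀ P : Sylow 2 G, (P : Subgroup G).Normal := by
  induction n using Nat.strong_induction_on with
  | _ n ih =>
    intro G _ _ hn hirr P
    have h2 : Fact (Nat.Prime 2) := ⟨Nat.prime_two⟩
    by_cases hdvd : 2 ∣ Nat.card G
    · obtain ⟨t, ht⟩ := exists_prime_orderOf_dvd_card' 2 hdvd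
      set Ω : Set G := {y : G | orderOf y = 2} with hΩ
      have hconj : ∀ g : G, ∀ y ∈ Ω, g * y * g⁻¹ ∈ Ω := by
        intro g y hy
        have h1 : g * y * g⁻¹ = MulAut.conj g y := rfl
        change orderOf (g * y * g⁻¹) = 2
        rw [h1, MulEquiv.orderOf_eq]; exact hy
      have hpair : ∀ a ∈ Ω, ∀ b ∈ Ω, IsPGroup 2 (Subgroup.closure ({a, b} : Set G)) :=
        fun a ha b hb => isPGroup_closure_pair hirr a b ha hb
      set N : Subgroup G := Subgroup.closure Ω with hNdef
      have hNp : IsPGroup 2 N := Cfsg.Agent.Lib.helper91.baer_suzuki Ω hconj hpair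
      have hNn : N.Normal := Cfsg.Agent.Lib.helper91.closure_normal_of_conj Ω hconj
      have htN : t ∈ N := Subgroup.subset_closure ht
      have hcardlt : Nat.card (G ⧸ N) < n := by
        rw [← hn, Subgroup.card_eq_card_quotient_mul_card_subgroup N]
        have h1 : 1 < Nat.card N := by
          rw [Finite.one_lt_card_iff_nontrivial]
          refine ⟨⟨⟨t, htN⟩, 1, ?_⟩⟩
          intro h
          have h3 : t = 1 := congrArg Subtype.val h
          rw [h3, orderOf_one] at ht
          omega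
        have h0 : 0 < Nat.card (G ⧸ N) := Nat.card_pos
        nlinarith
      have hirrQ : ∀ y : G ⧸ N, (∀ r : ℕ, r.Prime → r ∣ orderOf y → r ≠ 2) →
          Subgroup.normalizer ((Subgroup.zpowers y : Subgroup (G ⧸ N)) : Set (G ⧸ N))
            ≤ Subgroup.centralizer {y} := by
        refine Cfsg.Agent.S4032.result (G := G) {r : ℕ | r ≠ 2} hirr N ?_
        intro r hr hrN
        obtain ⟨k, hk⟩ := IsPGroup.iff_card.1 hNp
        rw [hk] at hrN
        have h3 := (Nat.prime_dvd_prime_iff_eq hr Nat.prime_two).1 (hr.dvd_of_dvd_pow hrN)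
        simp [h3]
      obtain ⟨Qbar⟩ := (inferInstance : Nonempty (Sylow 2 (G ⧸ N)))
      have hQn : (Qbar : Subgroup (G ⧸ N)).Normal := ih _ hcardlt (G ⧸ N) rfl hirrQ Qbar
      set Q : Subgroup G := (Qbar : Subgroup (G ⧸ N)).comap (QuotientGroup.mk' N) with hQ
      have hQnorm : Q.Normal := hQn.comap _
      have hQp : IsPGroup 2 Q :=
        Qbar.2.comap_of_ker_isPGroup (QuotientGroup.mk' N) (by rw [QuotientGroup.ker_mk']; exact hNp)
      have hQidx : ¬ 2 ∣ Q.index := by
        rw [hQ, Subgroup.index_comap_of_surjective _ (QuotientGroup.mk'_surjective N)]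
        exact Qbar.not_dvd_index
      have hPQ : P = hQp.toSylow hQidx := by
        have := Sylow.unique_of_normal (hQp.toSylow hQidx)
          (by rw [IsPGroup.toSylow_coe]; exact hQnorm)
        exact Subsingleton.elim _ _
      rw [hPQ, IsPGroup.toSylow_coe]; exact hQnorm
    · have hP1 : Nat.card P = 1 := by
        rw [Sylow.card_eq_multiplicity, Nat.factorization_eq_zero_of_not_dvd hdvd, pow_zero]
      have h3 : (P : Subgroup G) = ⊥ := Subgroup.card_eq_one.1 hP1
      rw [h3]; infer_instance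

/-- Let G be a finite group in which every element x of odd order satisfies N_G(⟨x⟩) = C_G(x). Then the Sylow 2-subgroups of G are normal. -/
theorem result {G : Type*} [Group G] [Finite G]
    (hirr : ∀ x : G, (∀ r : ℕ, r.Prime → r ∣ orderOf x → r ≠ 2) →
      Subgroup.normalizer ((Subgroup.zpowers x : Subgroup G) : Set G) ≤ Subgroup.centralizer {x}) (P : Sylow 2 G) :
    (P : Subgroup G).Normal := by
  exact aux (Nat.card G) G rfl hirr P

end Cfsg.Agent.S4027
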