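import Cfsg.Statements.S4028
import Mathlib
import Cfsg.Agent.Lib.helper70.Basic

set_option autoImplicit false
open Cfsg

namespace Cfsg.Agent.S4028

/-- Let G be a finite group with Sylow 2-subgroup P. Then N_G(⟨x⟩) = C_G(x) holds for every 2-element x of G if and only if N_P(⟨y⟩) = C_P(y) holds for every y ∈ P (computed inside P). -/
theorem result {G : Type*} [Group G] [Finite G] (P : Sylow 2 G) :
    (∀ x : G, (∀ r : ℕ, r.Prime → r ∣ orderOf x → r = 2) →
      Subgroup.normalizer ((Subgroup.zpowers x : Subgroup G) : Set G) ≤ Subgroup.centralizer {x}) ↔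
    (∀ y : ↥(P : Subgroup G), Subgroup.normalizer ((Subgroup.zpowers y : Subgroup ↥(P : Subgroup G)) : Set ↥(P : Subgroup G)) ≤
        Subgroup.centralizer {y}) := by
  classical
  have h2 : Nat.Prime 2 := Nat.prime_two
  constructor
  · -- from `G` to `P`
    intro hG y c hc
    have hyo : ∀ r : ℕ, r.Prime → r ∣ orderOf (y : G) → r = 2 := by
      intro r hr hry
      obtain ⟨k, hk⟩ := Cfsg.Agent.Lib.helper70.orderOf_eq_prime_pow_of_mem_isPGroup h2 P.2 y.2
      rw [hk] at hry
      exact (Nat.prime_dvd_prime_iff_eq hr h2).1 (hr.dvd_of_dvd_pow hry)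
    have hcN : (c : G) ∈ Subgroup.normalizer ((Subgroup.zpowers (y : G) : Subgroup G) : Set G) := by
      apply Subgroup.mem_normalizer_fintype
      intro n hn
      obtain ⟨j, rfl⟩ := Subgroup.mem_zpowers_iff.1 hn
      have h1 : c * y ^ j * c⁻¹ ∈ Subgroup.zpowers y :=
        (hc (y ^ j)).1 (Subgroup.zpow_mem _ (Subgroup.mem_zpowers y) j)
      obtain ⟨i, hi⟩ := Subgroup.mem_zpowers_iff.1 h1
      have h3 := congrArg (Subtype.val) hi
      simp only [Subgroup.coe_mul, Subgroup.coe_zpow, Subgroup.coe_inv] at h3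
      rw [SetLike.mem_coe, ← h3]
      exact Subgroup.zpow_mem _ (Subgroup.mem_zpowers _) i
    have h4 := hG (y : G) hyo hcN
    rw [Subgroup.mem_centralizer_iff] at h4 ⊢
    intro z hz
    rw [Set.mem_singleton_iff] at hz
    subst hz
    exact Subtype.ext (h4 (z : G) rfl)
  · -- from `P` to `G`
    intro hP x hx g hg
    have hxfin : IsOfFinOrder x := isOfFinOrder_of_finite x
    -- orderOf x is a power of 2
    have hxo : orderOf x = 2 ^ (orderOf x).primeFactorsList.length :=
      Nat.eq_prime_pow_of_unique_prime_dvd (orderOf_pos x).ne' (fun {d} hd hdx => hx d hd hdx)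
    set n := (orderOf x).primeFactorsList.length with hn
    -- decompose the order of g
    obtain ⟨a, b, hb, hab⟩ := Nat.exists_eq_pow_mul_and_not_dvd (orderOf_pos g).ne' 2 (by norm_num)
    have hbpos : 0 < b := by
      rcases Nat.eq_zero_or_pos b with h | h
      · rw [h, mul_zero] at hab; exact absurd hab (orderOf_pos g).ne'
      · exact h
    have hgx : g * x * g⁻¹ ∈ Subgroup.zpowers x := (hg x).1 (Subgroup.mem_zpowers x)
    -- the odd part: g ^ φ(2^n) commutes with x
    have hodd : g ^ Nat.totient (orderOf x) ∈ Subgroup.centralizer ({x} : Set G) := by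
      have := Cfsg.Agent.Lib.helper70.pow_totient_commute_of_conj_mem_zpowers hxfin hgx
      rw [Subgroup.mem_centralizer_iff]
      intro z hz
      rw [Set.mem_singleton_iff] at hz
      subst hz
      exact this.eq.symm
    -- the 2-part: g ^ b commutes with x
    have hgb : g ^ b ∈ Subgroup.normalizer ((Subgroup.zpowers x : Subgroup G) : Set G) :=
      Subgroup.pow_mem _ hg b
    have hgbo : orderOf (g ^ b) = 2 ^ a := by
      rw [orderOf_pow' g hbpos.ne', hab, Nat.gcd_eq_right (Dvd.intro_left _ rfl),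
        Nat.mul_div_cancel _ hbpos]
    have hZ : IsPGroup 2 (Subgroup.zpowers x) :=
      IsPGroup.of_card (n := n) (by rw [Nat.card_zpowers, ← hxo])
    have hW : IsPGroup 2 (Subgroup.zpowers (g ^ b)) :=
      IsPGroup.of_card (n := a) (by rw [Nat.card_zpowers, hgbo])
    have hWZ : Subgroup.zpowers (g ^ b) ≤ Subgroup.normalizer ((Subgroup.zpowers x : Subgroup G) : Set G) :=
      (Subgroup.zpowers_le).2 hgb
    have hT : IsPGroup 2 (Subgroup.zpowers (g ^ b) ⊔ Subgroup.zpowers x : Subgroup G) :=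
      hW.to_sup_of_normal_right' hZ hWZ
    obtain ⟨Q, hQ⟩ := hT.exists_le_sylow
    obtain ⟨c, hc⟩ := MulAction.exists_smul_eq G Q P
    have hxQ : x ∈ (Q : Subgroup G) := hQ (le_sup_right (a := Subgroup.zpowers (g ^ b)) (Subgroup.mem_zpowers x))
    have hgQ : g ^ b ∈ (Q : Subgroup G) := hQ (le_sup_left (b := Subgroup.zpowers x) (Subgroup.mem_zpowers (g ^ b)))
    have hmemP : ∀ z ∈ (Q : Subgroup G), c * z * c⁻¹ ∈ (P : Subgroup G) := by
      intro z hz
      have h1 : c * z * c⁻¹ ∈ ((c • Q : Sylow 2 G) : Subgroup G) := by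
        rw [Sylow.coe_subgroup_smul]
        exact Subgroup.smul_mem_pointwise_smul _ _ _ hz
      rwa [hc] at h1
    have hconj : ∀ z : G, c * z * c⁻¹ = MulAut.conj c z := fun z => rfl
    set y : (P : Subgroup G) := ⟨c * x * c⁻¹, hmemP x hxQ⟩ with hy
    set h : (P : Subgroup G) := ⟨c * g ^ b * c⁻¹, hmemP (g ^ b) hgQ⟩ with hh
    have hhN : h ∈ Subgroup.normalizer ((Subgroup.zpowers y : Subgroup (P : Subgroup G)) : Set (P : Subgroup G)) := by
      apply Subgroup.mem_normalizer_fintype
      intro w hw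
      obtain ⟨j, rfl⟩ := Subgroup.mem_zpowers_iff.1 hw
      have h1 : g ^ b * x ^ j * (g ^ b)⁻¹ ∈ Subgroup.zpowers x :=
        (hgb (x ^ j)).1 (Subgroup.zpow_mem _ (Subgroup.mem_zpowers x) j)
      obtain ⟨i, hi⟩ := Subgroup.mem_zpowers_iff.1 h1
      rw [SetLike.mem_coe, Subgroup.mem_zpowers_iff]
      refine ⟨i, ?_⟩
      apply Subtype.ext
      simp only [Subgroup.coe_mul, Subgroup.coe_zpow, Subgroup.coe_inv, hy, hh]
      rw [hconj, hconj, ← map_zpow, ← map_zpow, ← map_inv, ← map_mul, ← map_mul, hi]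
    have h5 := hP y hhN
    rw [Subgroup.mem_centralizer_iff] at h5
    have h6 : y * h = h * y := h5 y rfl
    have h7 := congrArg (Subtype.val) h6
    simp only [Subgroup.coe_mul, hy, hh] at h7
    have h8 : x * g ^ b = g ^ b * x := by
      have : c * (x * g ^ b) * c⁻¹ = c * (g ^ b * x) * c⁻¹ := by
        calc c * (x * g ^ b) * c⁻¹ = c * x * c⁻¹ * (c * g ^ b * c⁻¹) := by group
          _ = c * g ^ b * c⁻¹ * (c * x * c⁻¹) := h7
          _ = c * (g ^ b * x) * c⁻¹ := by group
      exact mul_left_cancel (mul_right_cancel this)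
    have htwo : g ^ b ∈ Subgroup.centralizer ({x} : Set G) := by
      rw [Subgroup.mem_centralizer_iff]
      intro z hz
      rw [Set.mem_singleton_iff] at hz
      subst hz
      exact h8
    -- combine
    have hcop : Nat.Coprime b (Nat.totient (orderOf x)) := by
      have hb2 : Nat.Coprime b 2 := ((Nat.Prime.coprime_iff_not_dvd h2).2 hb).symm
      rw [hxo]
      rcases Nat.eq_zero_or_pos n with h0 | h0
      · rw [h0, pow_zero, Nat.totient_one]; exact Nat.coprime_one_right b
      · rw [Nat.totient_prime_pow h2 h0]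
        simpa using Nat.Coprime.pow_right (n - 1) hb2
    exact Cfsg.Agent.Lib.helper70.mem_of_pow_mem_of_coprime _ hcop htwo hodd

end Cfsg.Agent.S4028
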