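import Cfsg.Statements.S4029
import Mathlib

set_option autoImplicit false
open Cfsg

namespace Cfsg.Agent.S4029

/-- Squares lie in the Frattini subgroup of a finite `2`-group. -/
theorem sq_mem_frattini {P : Type*} [Group P] [Finite P] (hP : IsPGroup 2 P) (a : P) :
    a ^ 2 ∈ frattini P := by
  have : Fact (Nat.Prime 2) := ⟨Nat.prime_two⟩
  rw [frattini, Order.radical]
  simp only [Subgroup.mem_iInf]
  intro M hM
  have hnil : Group.IsNilpotent P := hP.isNilpotent
  have hMn : M.Normal := ((Group.isNilpotent_of_finite_tfae (G := P)).out 0 2 rfl rfl).1 hnil M hM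
  obtain ⟨k, hk⟩ := hP.index M
  have hk0 : k ≠ 0 := by
    rintro rfl
    rw [pow_zero, Subgroup.index_eq_one] at hk
    exact hM.1 hk
  have hcard : Nat.card (P ⧸ M) = 2 ^ k := by rw [← hk, Subgroup.index_eq_card]
  obtain ⟨K', hK'⟩ := Sylow.exists_subgroup_card_pow_prime 2 (n := k - 1) (G := P ⧸ M)
    (by rw [hcard]; exact pow_dvd_pow 2 (Nat.sub_le k 1))
  set K := K'.comap (QuotientGroup.mk' M) with hKdef
  have hMK : M ≤ K := by
    intro m hm
    rw [hKdef, Subgroup.mem_comap, QuotientGroup.mk'_apply, (QuotientGroup.eq_one_iff m).2 hm]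
    exact K'.one_mem
  have hKidx : K.index = 2 := by
    rw [hKdef, Subgroup.index_comap_of_surjective _ (QuotientGroup.mk'_surjective M)]
    have h1 := Subgroup.card_mul_index K'
    rw [hK', hcard] at h1
    have h2 : 2 ^ k = 2 ^ (k - 1) * 2 := by
      rw [← pow_succ]; congr 1; omega
    rw [h2] at h1
    exact Nat.eq_of_mul_eq_mul_left (pow_pos (by norm_num) _) h1
  have hKM : K = M := by
    by_contra hne
    have hlt : M < K := lt_of_le_of_ne hMK (Ne.symm hne)
    have h3 := hM.2 K hlt
    rw [h3, Subgroup.index_top] at hKidx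
    omega
  rw [← hKM]
  exact Subgroup.sq_mem_of_index_two hKidx a

/-- Collision counting (Cauchy–Schwarz) for the squaring map into a subgroup `Φ`. -/
theorem card_sq_le {P : Type*} [Group P] [Fintype P] [DecidableEq P] (Φ : Subgroup P)
    (hsq : ∀ a : P, a ^ 2 ∈ Φ) :
    (Fintype.card P) ^ 2 ≤
      Nat.card Φ * (Finset.univ.filter (fun q : P × P => q.1 ^ 2 = q.2 ^ 2)).card := by
  classical
  set ΦF : Finset P := Finset.univ.filter (· ∈ Φ) with hΦF
  set r : P → ℕ := fun c => (Finset.univ.filter (fun a : P => a ^ 2 = c)).card with hr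
  have h1 : Fintype.card P = ∑ c ∈ ΦF, r c := by
    rw [← Finset.card_univ]
    exact Finset.card_eq_sum_card_fiberwise (fun a _ => by simp [hΦF, hsq a])
  have h2 : (Finset.univ.filter (fun q : P × P => q.1 ^ 2 = q.2 ^ 2)).card = ∑ c ∈ ΦF, r c ^ 2 := by
    rw [Finset.card_eq_sum_card_fiberwise (f := fun q : P × P => q.1 ^ 2) (t := ΦF)
      (fun q _ => by simp [hΦF, hsq q.1])]
    apply Finset.sum_congr rfl
    intro c _
    have h3 : (Finset.univ.filter (fun q : P × P => q.1 ^ 2 = q.2 ^ 2)).filter (fun q => q.1 ^ 2 = c)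
        = (Finset.univ.filter (fun a : P => a ^ 2 = c)) ×ˢ
          (Finset.univ.filter (fun a : P => a ^ 2 = c)) := by
      ext ⟨a, b⟩
      simp only [Finset.mem_filter, Finset.mem_univ, true_and, Finset.mem_product]
      constructor
      · rintro ⟨h, h'⟩; exact ⟨h', h ▸ h'⟩
      · rintro ⟨h, h'⟩; exact ⟨h.trans h'.symm, h⟩
    rw [h3, Finset.card_product, sq]
  have h3 : ΦF.card = Nat.card Φ := by
    rw [Nat.card_eq_fintype_card, Fintype.card_subtype]
  rw [h1, h2, ← h3]
  exact sq_sum_le_card_mul_sum_sq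

/-- Let P be a finite 2-group in which N_P(⟨y⟩) = C_P(y) for every y ∈ P. If s is the number of conjugacy classes of involutions of P, then #(P/Φ(P)) ≤ s + 1; in particular the subgroup generated by the involutions of P has order at least #(P/Φ(P)). -/
theorem result {P : Type*} [Group P] [Finite P] (hP : IsPGroup 2 P)
    (hirr : ∀ y : P, Subgroup.normalizer ((Subgroup.zpowers y : Subgroup P) : Set P) ≤ Subgroup.centralizer {y}) :
    Nat.card (P ⧸ frattini P) ≤ Nat.card {c : ConjClasses P // ∃ y : P, ConjClasses.mk y = c ∧ orderOf y = 2} + 1 ∧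
    Nat.card (P ⧸ frattini P) ≤ Nat.card (Subgroup.closure {y : P | orderOf y = 2}) := by
  classical
  have : Fintype P := Fintype.ofFinite P
  have h2p : Fact (Nat.Prime 2) := ⟨Nat.prime_two⟩
  -- the two sets of pairs
  have eTS : {q : P × P // q.2 * q.1 * q.2⁻¹ = q.1⁻¹} ≃ {q : P × P // q.1 ^ 2 = q.2 ^ 2} :=
    { toFun := fun q => ⟨(q.1.1 * q.1.2, q.1.2), by
        have hq := q.2
        change (q.1.1 * q.1.2) ^ 2 = q.1.2 ^ 2
        rw [sq, sq]
        calc q.1.1 * q.1.2 * (q.1.1 * q.1.2)
            = q.1.1 * (q.1.2 * q.1.1 * q.1.2⁻¹) * q.1.2 * q.1.2 := by group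
          _ = q.1.2 * q.1.2 := by rw [hq]; group⟩
      invFun := fun q => ⟨(q.1.1 * q.1.2⁻¹, q.1.2), by
        have hq : q.1.1 ^ 2 = q.1.2 ^ 2 := q.2
        change q.1.2 * (q.1.1 * q.1.2⁻¹) * q.1.2⁻¹ = (q.1.1 * q.1.2⁻¹)⁻¹
        have h1 : q.1.2 * (q.1.1 * q.1.2⁻¹) * q.1.2⁻¹ = q.1.2 * q.1.1 * (q.1.2 ^ 2)⁻¹ := by group
        rw [h1, ← hq]; group⟩
      left_inv := fun q => by
        apply Subtype.ext
        simp
      right_inv := fun q => by
        apply Subtype.ext
        simp }
  -- elements of T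
  have hT : ∀ g h : P, h * g * h⁻¹ = g⁻¹ → g ^ 2 = 1 ∧ g * h = h * g := by
    intro g h hgh
    have hN : h ∈ Subgroup.normalizer ((Subgroup.zpowers g : Subgroup P) : Set P) := by
      apply Subgroup.mem_normalizer_fintype
      intro n hn
      obtain ⟨j, rfl⟩ := Subgroup.mem_zpowers_iff.1 hn
      have h1 : h * g ^ j * h⁻¹ = (g⁻¹) ^ j := by
        have : ∀ z : P, h * z * h⁻¹ = MulAut.conj h z := fun z => rfl
        rw [this, map_zpow, ← this, hgh]
      rw [h1]
      exact Subgroup.zpow_mem _ (Subgroup.inv_mem _ (Subgroup.mem_zpowers g)) j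
    have hC := hirr g hN
    rw [Subgroup.mem_centralizer_iff] at hC
    have hcomm : g * h = h * g := hC g rfl
    refine ⟨?_, hcomm⟩
    have h1 : h * g * h⁻¹ = g := by rw [← hcomm]; group
    rw [h1] at hgh
    rw [sq]
    exact eq_inv_iff_mul_eq_one.1 hgh
  -- representatives of classes
  choose rep hrep using (fun c : ConjClasses P => ConjClasses.exists_rep c)
  have hτ : ∀ g : P, ∃ t : P, t * rep (ConjClasses.mk g) * t⁻¹ = g := by
    intro g
    exact isConj_iff.1 (ConjClasses.mk_eq_mk_iff_isConj.1 (hrep (ConjClasses.mk g)))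
  choose τ hτ' using hτ
  -- the injection
  let φ : {q : P × P // q.2 * q.1 * q.2⁻¹ = q.1⁻¹} →
      Option {c : ConjClasses P // ∃ y : P, ConjClasses.mk y = c ∧ orderOf y = 2} × P :=
    fun q => (if hg1 : q.1.1 = 1 then none else
      some ⟨ConjClasses.mk q.1.1, q.1.1, rfl, orderOf_eq_prime (hT _ _ q.2).1 hg1⟩, q.1.2 * τ q.1.1)
  have hφ : Function.Injective φ := by
    rintro ⟨⟨g, h⟩, hq⟩ ⟨⟨g', h'⟩, hq'⟩ heq
    simp only [φ, Prod.mk.injEq] at heq
    obtain ⟨heq1, heq2⟩ := heq
    have hc : ConjClasses.mk g = ConjClasses.mk g' := by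
      by_cases hg1 : g = 1
      · by_cases hg1' : g' = 1
        · rw [hg1, hg1']
        · rw [dif_pos hg1, dif_neg hg1'] at heq1
          exact absurd heq1 (by simp)
      · by_cases hg1' : g' = 1
        · rw [dif_neg hg1, dif_pos hg1'] at heq1
          exact absurd heq1 (by simp)
        · rw [dif_neg hg1, dif_neg hg1'] at heq1
          have := Option.some.inj heq1
          exact congrArg Subtype.val this
    have e1 : g = (h * τ g) * rep (ConjClasses.mk g) * (h * τ g)⁻¹ := by
      have h1 : (h * τ g) * rep (ConjClasses.mk g) * (h * τ g)⁻¹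
          = h * (τ g * rep (ConjClasses.mk g) * (τ g)⁻¹) * h⁻¹ := by group
      rw [h1, hτ' g, ← (hT g h hq).2]; group
    have e2 : g' = (h' * τ g') * rep (ConjClasses.mk g') * (h' * τ g')⁻¹ := by
      have h1 : (h' * τ g') * rep (ConjClasses.mk g') * (h' * τ g')⁻¹
          = h' * (τ g' * rep (ConjClasses.mk g') * (τ g')⁻¹) * h'⁻¹ := by group
      rw [h1, hτ' g', ← (hT g' h' hq').2]; group
    have hgg : g = g' := by
      rw [e1, e2, hc, heq2]
    subst hgg
    have hhh : h = h' := mul_right_cancel heq2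
    subst hhh
    rfl
  have hcardT : Nat.card {q : P × P // q.2 * q.1 * q.2⁻¹ = q.1⁻¹} ≤
      (Nat.card {c : ConjClasses P // ∃ y : P, ConjClasses.mk y = c ∧ orderOf y = 2} + 1)
        * Nat.card P := by
    have := Nat.card_le_card_of_injective φ hφ
    rwa [Nat.card_prod, Finite.card_option] at this
  -- Cauchy–Schwarz
  have hCS := card_sq_le (frattini P) (sq_mem_frattini hP)
  have hS : (Finset.univ.filter (fun q : P × P => q.1 ^ 2 = q.2 ^ 2)).card
      = Nat.card {q : P × P // q.1 ^ 2 = q.2 ^ 2} := by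
    rw [Nat.card_eq_fintype_card, Fintype.card_subtype]
  rw [hS, ← Nat.card_congr eTS, ← Nat.card_eq_fintype_card] at hCS
  have hpos : 0 < Nat.card P := Nat.card_pos
  have hΦpos : 0 < Nat.card (frattini P) := Nat.card_pos
  have hquot : Nat.card P = Nat.card (P ⧸ frattini P) * Nat.card (frattini P) :=
    Subgroup.card_eq_card_quotient_mul_card_subgroup _
  set s1 := Nat.card {c : ConjClasses P // ∃ y : P, ConjClasses.mk y = c ∧ orderOf y = 2} + 1
    with hs1
  have hmain : Nat.card (P ⧸ frattini P) ≤ s1 := by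
    have h1 : Nat.card P ^ 2 ≤ Nat.card (frattini P) * (s1 * Nat.card P) :=
      hCS.trans (Nat.mul_le_mul_left _ hcardT)
    have h2 : Nat.card P * Nat.card P ≤ (Nat.card (frattini P) * s1) * Nat.card P := by
      rw [← sq]; calc Nat.card P ^ 2 ≤ Nat.card (frattini P) * (s1 * Nat.card P) := h1
        _ = (Nat.card (frattini P) * s1) * Nat.card P := by ring
    have h3 : Nat.card P ≤ Nat.card (frattini P) * s1 := Nat.le_of_mul_le_mul_right h2 hpos
    rw [hquot, mul_comm] at h3
    exact Nat.le_of_mul_le_mul_left h3 hΦpos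
  refine ⟨hmain, hmain.trans ?_⟩
  -- s + 1 ≤ |Ω|
  have hy : ∀ c : {c : ConjClasses P // ∃ y : P, ConjClasses.mk y = c ∧ orderOf y = 2},
      ∃ y : P, ConjClasses.mk y = c.1 ∧ orderOf y = 2 := fun c => c.2
  choose yc hyc1 hyc2 using hy
  let ψ : Option {c : ConjClasses P // ∃ y : P, ConjClasses.mk y = c ∧ orderOf y = 2} →
      Subgroup.closure {y : P | orderOf y = 2} :=
    fun o => match o with
      | none => 1
      | some c => ⟨yc c, Subgroup.subset_closure (hyc2 c)⟩
  have hψ : Function.Injective ψ := by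
    intro o o' h
    match o, o' with
    | none, none => rfl
    | none, some c =>
      exfalso
      have h1 : (1 : P) = yc c := congrArg Subtype.val h
      have h2 := hyc2 c
      rw [← h1, orderOf_one] at h2
      omega
    | some c, none =>
      exfalso
      have h1 : yc c = (1 : P) := congrArg Subtype.val h
      have h2 := hyc2 c
      rw [h1, orderOf_one] at h2
      omega
    | some c, some c' =>
      have h1 : yc c = yc c' := congrArg Subtype.val h
      have h2 : c.1 = c'.1 := by rw [← hyc1 c, ← hyc1 c', h1]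
      rw [Subtype.ext h2]
  have := Nat.card_le_card_of_injective ψ hψ
  rwa [Finite.card_option] at this

end Cfsg.Agent.S4029
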