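import Cfsg.Statements.S4034
import Cfsg.Agent.Lib.helper1.Hall
import Cfsg.Agent.Lib.helper4.Burnside2
import Cfsg.Agent.Lib.helper84.ClassSize

set_option autoImplicit false
set_option linter.style.haveILetI false
open Cfsg

namespace Cfsg.Agent.S4034

open Cfsg.Agent.Lib.helper84

universe u

theorem card_lt_of_ne_top {G : Type u} [Group G] [Finite G] {N : Subgroup G} (hN : N ≠ ⊤) :
    Nat.card N < Nat.card G := by
  have h1 := Subgroup.card_mul_index N
  have h2 : 1 < N.index := Subgroup.one_lt_index_of_ne_top hN
  have h3 : 0 < Nat.card N := Nat.card_pos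
  nlinarith

theorem card_quot_lt_of_ne_bot {G : Type u} [Group G] [Finite G] {N : Subgroup G} [N.Normal]
    (hN : N ≠ ⊥) : Nat.card (G ⧸ N) < Nat.card G := by
  rw [← Subgroup.index_eq_card]
  have h1 := Subgroup.card_mul_index N
  have h2 : 1 < Nat.card N := (Subgroup.one_lt_card_iff_ne_bot N).2 hN
  have h3 : 0 < N.index := Nat.pos_of_ne_zero Subgroup.index_ne_zero_of_finite
  nlinarith

/-- A finite group in which every `p`-regular element has a class of `p`-power size is solvable. -/
theorem solvable_of_PPowClass {p : ℕ} (hp : p.Prime) :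
    ∀ n : ℕ, ∀ (G : Type u) [Group G] [Finite G],
      Nat.card G = n → PPowClass p G → Group.IsSolvable G := by
  intro n
  induction n using Nat.strong_induction_on with
  | _ n ih =>
  intro G _ _ hn hP
  haveI : Fact p.Prime := ⟨hp⟩
  by_cases hsimple : IsSimpleGroup G
  · by_cases hex : ∃ x : G, x ≠ 1 ∧ (orderOf x).Coprime p
    · obtain ⟨x, hx1, hxc⟩ := hex
      obtain ⟨k, hk⟩ := hP x hxc
      have hprime := Cfsg.Agent.Lib.helper4.prime_card_of_simple_of_class_prime_pow p k hp x hx1 hk
      haveI : Fact (Nat.card G).Prime := ⟨hprime⟩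
      have hpg : IsPGroup (Nat.card G) G := IsPGroup.of_card (n := 1) (by rw [pow_one])
      haveI := hpg.isNilpotent
      infer_instance
    · have hcard : ∃ k, Nat.card G = p ^ k := by
        refine ⟨_, Nat.eq_prime_pow_of_unique_prime_dvd Nat.card_pos.ne' ?_⟩
        intro q hq hqd
        by_contra hne
        haveI : Fact q.Prime := ⟨hq⟩
        obtain ⟨x, hx⟩ := exists_prime_orderOf_dvd_card' q hqd
        have hx1 : x ≠ 1 := by
          rintro rfl
          rw [orderOf_one] at hx
          exact hq.ne_one hx.symm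
        apply hex
        refine ⟨x, hx1, ?_⟩
        rw [hx]
        exact (Nat.coprime_primes hq hp).2 hne
      obtain ⟨k, hk⟩ := hcard
      have hpg : IsPGroup p G := IsPGroup.of_card hk
      haveI := hpg.isNilpotent
      infer_instance
  · by_cases htriv : Subsingleton G
    · exact Group.isSolvable_of_comm (fun a b => Subsingleton.elim _ _)
    · haveI : Nontrivial G := not_subsingleton_iff_nontrivial.1 htriv
      have hexN : ∃ N : Subgroup G, N.Normal ∧ N ≠ ⊥ ∧ N ≠ ⊤ := by
        by_contra hcon
        apply hsimple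
        refine ⟨fun N hN => ?_⟩
        by_contra h2
        rw [not_or] at h2
        exact hcon ⟨N, hN, h2.1, h2.2⟩
      obtain ⟨N, hNn, hNb, hNt⟩ := hexN
      haveI := hNn
      have hcardN : Nat.card N < n := hn ▸ card_lt_of_ne_top hNt
      have hcardQ : Nat.card (G ⧸ N) < n := hn ▸ card_quot_lt_of_ne_bot hNb
      haveI : Group.IsSolvable N := ih _ hcardN N rfl (hP.subgroup hp N)
      haveI : Group.IsSolvable (G ⧸ N) := ih _ hcardQ (G ⧸ N) rfl (hP.quotient hp N)
      apply Group.isSolvable_of_ker_le_range N.subtype (QuotientGroup.mk' N)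
      rw [QuotientGroup.ker_mk', Subgroup.range_subtype]

/-- In a finite solvable group in which every `p`-regular element has a class of `p`-power size,
every subgroup of order prime to `p` is abelian. -/
theorem abelian_of_PPowClass {p : ℕ} (hp : p.Prime) :
    ∀ n : ℕ, ∀ (G : Type u) [Group G] [Finite G],
      Nat.card G = n → Group.IsSolvable G → PPowClass p G →
      ∀ K : Subgroup G, (Nat.card K).Coprime p → ∀ a ∈ K, ∀ b ∈ K, a * b = b * a := by
  intro n
  induction n using Nat.strong_induction_on with
  | _ n ih =>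
  intro G _ _ hn hsolv hP K hK a ha b hb
  haveI : Fact p.Prime := ⟨hp⟩
  haveI := hsolv
  have hKord : ∀ x ∈ K, (orderOf x).Coprime p := by
    intro x hx
    have h1 : orderOf x ∣ Nat.card K := by
      have h := orderOf_dvd_natCard (⟨x, hx⟩ : K)
      rwa [Subgroup.orderOf_mk] at h
    exact Nat.Coprime.coprime_dvd_left h1 hK
  by_cases hA : ∃ N : Subgroup G, N.Normal ∧ N ≠ ⊥ ∧ IsPGroup p N
  · obtain ⟨N, hNn, hNb, hNp⟩ := hA
    haveI := hNn
    have hcardQ : Nat.card (G ⧸ N) < n := hn ▸ card_quot_lt_of_ne_bot hNb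
    have hKmap : (Nat.card (K.map (QuotientGroup.mk' N))).Coprime p :=
      Nat.Coprime.coprime_dvd_left (Subgroup.card_map_dvd K (QuotientGroup.mk' N)) hK
    have h1 := ih _ hcardQ (G ⧸ N) rfl inferInstance (hP.quotient hp N)
      (K.map (QuotientGroup.mk' N)) hKmap
      (QuotientGroup.mk' N a) (Subgroup.mem_map_of_mem _ ha)
      (QuotientGroup.mk' N b) (Subgroup.mem_map_of_mem _ hb)
    have h2 : (b * a)⁻¹ * (a * b) ∈ N := by
      rw [← QuotientGroup.eq]
      have h1' : (QuotientGroup.mk a : G ⧸ N) * QuotientGroup.mk b =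
          QuotientGroup.mk b * QuotientGroup.mk a := h1
      rw [QuotientGroup.mk_mul, QuotientGroup.mk_mul]
      exact h1'.symm
    have h3 : (b * a)⁻¹ * (a * b) ∈ K :=
      K.mul_mem (K.inv_mem (K.mul_mem hb ha)) (K.mul_mem ha hb)
    obtain ⟨j, hj⟩ := IsPGroup.iff_card.1 hNp
    have h4 : K ⊓ N = ⊥ :=
      disjoint_iff.1 (Subgroup.disjoint_of_coprime_natCard
        (by rw [hj]; exact Nat.Coprime.pow_right j hK))
    have h5 : (b * a)⁻¹ * (a * b) ∈ K ⊓ N := ⟨h3, h2⟩
    rw [h4, Subgroup.mem_bot] at h5
    exact (inv_mul_eq_one.1 h5).symm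
  · -- no nontrivial normal `p`-subgroup
    haveI : Nonempty {M : Subgroup G // M.Normal ∧ (Nat.card M).Coprime p} :=
      ⟨⟨⊥, inferInstance, by simp⟩⟩
    obtain ⟨⟨M, hMn, hMc⟩, hmax⟩ := Finite.exists_max
      (fun M : {M : Subgroup G // M.Normal ∧ (Nat.card M).Coprime p} =>
        Nat.card (M.1 : Subgroup G))
    haveI := hMn
    have hcent : ∀ x : G, (orderOf x).Coprime p → ∀ m ∈ M, m * x = x * m :=
      fun x hx m hm => hP.commute_of_normal M hMc hx hm
    by_cases hC : Subgroup.centralizer (M : Set G) = ⊤
    · by_cases hMt : M = ⊤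
      · have hbM : b ∈ M := by rw [hMt]; trivial
        exact (hcent a (hKord a ha) b hbM).symm
      · exfalso
        haveI : Nontrivial (G ⧸ M) := QuotientGroup.nontrivial_iff.2 hMt
        obtain ⟨s, Lbar, hs, hLn, hLb, hLp⟩ :=
          Cfsg.Agent.Lib.helper1.exists_normal_pgroup (G := G ⧸ M)
        haveI := hLn
        haveI : Fact s.Prime := ⟨hs⟩
        have hLnorm : (Lbar.comap (QuotientGroup.mk' M)).Normal := inferInstance
        have hML : M ≤ Lbar.comap (QuotientGroup.mk' M) := by
          intro m hm
          rw [Subgroup.mem_comap]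
          have h1 : (QuotientGroup.mk' M m) = 1 := (QuotientGroup.eq_one_iff m).2 hm
          rw [h1]
          exact Lbar.one_mem
        have hLcard : Nat.card (Lbar.comap (QuotientGroup.mk' M)) = Nat.card Lbar * Nat.card M :=
          Cfsg.Agent.Lib.helper1.card_comap_mk' M Lbar
        obtain ⟨j, hj⟩ := IsPGroup.iff_card.1 hLp
        have hj1 : 1 < Nat.card Lbar := (Subgroup.one_lt_card_iff_ne_bot Lbar).2 hLb
        have hMpos : 0 < Nat.card M := Nat.card_pos
        by_cases hsp : s = p
        · subst hsp
          set L := Lbar.comap (QuotientGroup.mk' M) with hL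
          obtain ⟨P₀⟩ : Nonempty (Sylow s L) := inferInstance
          have hjpos : j ≠ 0 := by
            rintro rfl
            rw [pow_zero] at hj
            omega
          have hP₀card : Nat.card P₀ = s ^ j := by
            rw [Sylow.card_eq_multiplicity, hLcard, hj,
              Nat.factorization_mul (pow_ne_zero j hs.ne_zero) hMpos.ne',
              Nat.Prime.factorization_pow hs]
            have h0 : (Nat.card M).factorization s = 0 :=
              Nat.factorization_eq_zero_of_not_dvd
                (fun hd => (Nat.Prime.coprime_iff_not_dvd hs).1 hMc.symm hd)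
            simp [h0]
          have hM'card : Nat.card (M.subgroupOf L) = Nat.card M :=
            Nat.card_congr (Subgroup.subgroupOfEquivOfLe hML).toEquiv
          have hsup : M.subgroupOf L ⊔ (P₀ : Subgroup L) = ⊤ := by
            apply Subgroup.eq_top_of_le_card
            have h1 : Nat.card (M.subgroupOf L) ∣
                Nat.card (M.subgroupOf L ⊔ (P₀ : Subgroup L) : Subgroup L) :=
              Subgroup.card_dvd_of_le le_sup_left
            have h2 : Nat.card (P₀ : Subgroup L) ∣
                Nat.card (M.subgroupOf L ⊔ (P₀ : Subgroup L) : Subgroup L) :=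
              Subgroup.card_dvd_of_le le_sup_right
            have hc : (Nat.card (M.subgroupOf L)).Coprime (Nat.card (P₀ : Subgroup L)) := by
              rw [hM'card, hP₀card]
              exact Nat.Coprime.pow_right j hMc
            have h3 := Nat.Coprime.mul_dvd_of_dvd_of_dvd hc h1 h2
            rw [hM'card, hP₀card] at h3
            have h4 : Nat.card L = Nat.card M * s ^ j := by rw [hLcard, hj, mul_comm]
            rw [h4]
            exact Nat.le_of_dvd Nat.card_pos h3
          have hnorm : (P₀ : Subgroup L).Normal := by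
            rw [← Subgroup.normalizer_eq_top_iff, eq_top_iff, ← hsup]
            apply sup_le
            · intro m hm
              rw [Subgroup.mem_normalizer_iff]
              intro y
              have hmM : (m : G) ∈ M := Subgroup.mem_subgroupOf.1 hm
              have hcomm : m * y = y * m := by
                apply Subtype.ext
                have h1 := (Subgroup.mem_centralizer_iff.1
                  (by rw [hC]; trivial : (y : G) ∈ Subgroup.centralizer (M : Set G)))
                  (m : G) hmM
                exact h1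
              have e : m * y * m⁻¹ = y := by rw [hcomm]; group
              rw [e]
            · exact Subgroup.le_normalizer
          haveI : (P₀ : Subgroup L).Characteristic := Sylow.characteristic_of_normal P₀ hnorm
          haveI : L.Normal := hLnorm
          have hPn : ((P₀ : Subgroup L).map L.subtype).Normal := inferInstance
          have hpg : IsPGroup s ((P₀ : Subgroup L).map L.subtype) := P₀.isPGroup'.map L.subtype
          have hdvd : s ∣ Nat.card L := by
            rw [hLcard, hj]
            exact Dvd.dvd.mul_right (dvd_pow_self s hjpos) _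
          have hne : (P₀ : Subgroup L).map L.subtype ≠ ⊥ := by
            rw [Ne, Subgroup.map_eq_bot_iff_of_injective _ L.subtype_injective]
            exact P₀.ne_bot_of_dvd_card hdvd
          exact hA ⟨_, hPn, hne, hpg⟩
        · have hcop : (Nat.card (Lbar.comap (QuotientGroup.mk' M))).Coprime p := by
            rw [hLcard, hj]
            exact Nat.Coprime.mul_left
              (Nat.Coprime.pow_left j ((Nat.coprime_primes hs hp).2 hsp)) hMc
          have h1 := hmax ⟨Lbar.comap (QuotientGroup.mk' M), hLnorm, hcop⟩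
          simp only at h1
          rw [hLcard] at h1
          nlinarith
    · haveI : (Subgroup.centralizer (M : Set G)).Normal := Subgroup.normal_centralizer
      have hcardC : Nat.card (Subgroup.centralizer (M : Set G)) < n := hn ▸ card_lt_of_ne_top hC
      have hKC : K ≤ Subgroup.centralizer (M : Set G) := by
        intro x hx
        rw [Subgroup.mem_centralizer_iff]
        intro m hm
        exact hcent x (hKord x hx) m hm
      have hK' : (Nat.card (K.subgroupOf (Subgroup.centralizer (M : Set G)))).Coprime p := by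
        rw [Nat.card_congr (Subgroup.subgroupOfEquivOfLe hKC).toEquiv]
        exact hK
      have h1 := ih _ hcardC (Subgroup.centralizer (M : Set G)) rfl inferInstance
        (hP.subgroup hp _) (K.subgroupOf (Subgroup.centralizer (M : Set G))) hK'
        ⟨a, hKC ha⟩ (by rw [Subgroup.mem_subgroupOf]; exact ha)
        ⟨b, hKC hb⟩ (by rw [Subgroup.mem_subgroupOf]; exact hb)
      exact congrArg Subtype.val h1

/-- Every element of order prime to `p` is conjugate into an abelian subgroup of `p`-power
index. -/
theorem conj_into {G : Type u} [Group G] [Finite G] {p : ℕ} (hp : p.Prime) (H : Subgroup G)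
    (hcomm : ∀ a ∈ H, ∀ b ∈ H, a * b = b * a) {k : ℕ} (hidx : H.index = p ^ k) :
    ∀ n : ℕ, ∀ x : G, orderOf x = n → n.Coprime p → ∃ g : G, g * x * g⁻¹ ∈ H := by
  intro n
  induction n using Nat.strong_induction_on with
  | _ n ih =>
  intro x hx hcop
  by_cases hn1 : n = 1
  · refine ⟨1, ?_⟩
    rw [hn1, orderOf_eq_one_iff] at hx
    rw [hx]
    simp
  · have hnpos : 0 < n := hx ▸ orderOf_pos x
    have hqp : (n.minFac).Prime := Nat.minFac_prime hn1
    have hqn : n.minFac ∣ n := Nat.minFac_dvd n
    have hqne : n.minFac ≠ p := by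
      intro h
      have h1 : p ∣ n := h ▸ hqn
      have h2 : p ∣ Nat.gcd n p := Nat.dvd_gcd h1 dvd_rfl
      rw [hcop] at h2
      exact hp.one_lt.ne' (Nat.dvd_one.1 h2)
    have hlt : n / n.minFac < n := Nat.div_lt_self hnpos hqp.one_lt
    have hord : orderOf (x ^ n.minFac) = n / n.minFac := by
      rw [orderOf_pow_of_dvd hqp.ne_zero (hx ▸ hqn), hx]
    have hcop' : (n / n.minFac).Coprime p :=
      Nat.Coprime.coprime_dvd_left (Nat.div_dvd_of_dvd hqn) hcop
    obtain ⟨g, hg⟩ := ih (n / n.minFac) hlt (x ^ n.minFac) hord hcop'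
    have hy₁ : (g * x * g⁻¹) ^ n.minFac ∈ H := by
      rw [conj_pow]
      exact hg
    have hHC : H ≤ Subgroup.centralizer ({(g * x * g⁻¹) ^ n.minFac} : Set G) := by
      intro h hh
      rw [Subgroup.mem_centralizer_iff]
      intro z hz
      rw [Set.mem_singleton_iff] at hz
      subst hz
      exact hcomm _ hy₁ h hh
    have hx₁C : g * x * g⁻¹ ∈ Subgroup.centralizer ({(g * x * g⁻¹) ^ n.minFac} : Set G) := by
      rw [Subgroup.mem_centralizer_iff]
      intro z hz
      rw [Set.mem_singleton_iff] at hz
      subst hz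
      exact pow_mul_comm' (g * x * g⁻¹) n.minFac
    classical
    haveI : Fact (n.minFac).Prime := ⟨hqp⟩
    set C := Subgroup.centralizer ({(g * x * g⁻¹) ^ n.minFac} : Set G) with hC
    haveI : Fintype (C ⧸ H.subgroupOf C) := Fintype.ofFinite _
    have hcardX : ¬ n.minFac ∣ Fintype.card (C ⧸ H.subgroupOf C) := by
      rw [← Nat.card_eq_fintype_card, ← Subgroup.index_eq_card]
      intro hdvd
      have h1 : (H.subgroupOf C).index ∣ H.index := Subgroup.relIndex_dvd_index_of_le hHC
      rw [hidx] at h1
      have h2 := hqp.dvd_of_dvd_pow (dvd_trans hdvd h1)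
      exact hqne ((Nat.prime_dvd_prime_iff_eq hqp hp).1 h2)
    have hσ : (MulAction.toPermHom C (C ⧸ H.subgroupOf C) ⟨g * x * g⁻¹, hx₁C⟩) ^ n.minFac ^ 1
        = 1 := by
      rw [pow_one, ← map_pow]
      ext a
      induction a using QuotientGroup.induction_on with
      | H c =>
        show ((⟨g * x * g⁻¹, hx₁C⟩ : C) ^ n.minFac • (QuotientGroup.mk c : C ⧸ H.subgroupOf C)) =
          QuotientGroup.mk c
        rw [MulAction.Quotient.smul_mk, QuotientGroup.eq, Subgroup.mem_subgroupOf]
        have hc := (Subgroup.mem_centralizer_iff.1 c.2) ((g * x * g⁻¹) ^ n.minFac)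
          (Set.mem_singleton _)
        have e : (((((⟨g * x * g⁻¹, hx₁C⟩ : C) ^ n.minFac • c)⁻¹ * c : C)) : G) =
            ((g * x * g⁻¹) ^ n.minFac)⁻¹ := by
          show (((g * x * g⁻¹) ^ n.minFac * (c : G))⁻¹ * (c : G)) = _
          rw [hc]
          group
        rw [e]
        exact H.inv_mem hy₁
    obtain ⟨a, ha⟩ := Equiv.Perm.exists_fixed_point_of_prime hcardX hσ
    induction a using QuotientGroup.induction_on with
    | H c =>
      have ha' : ((⟨g * x * g⁻¹, hx₁C⟩ : C) • (QuotientGroup.mk c : C ⧸ H.subgroupOf C)) =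
          QuotientGroup.mk c := ha
      rw [MulAction.Quotient.smul_mk, QuotientGroup.eq, Subgroup.mem_subgroupOf] at ha'
      have e : (((((⟨g * x * g⁻¹, hx₁C⟩ : C) • c)⁻¹ * c : C)) : G) =
          ((c : G)⁻¹ * (g * x * g⁻¹) * (c : G))⁻¹ := by
        show ((g * x * g⁻¹ * (c : G))⁻¹ * (c : G)) = _
        group
      rw [e] at ha'
      have h3 := H.inv_mem ha'
      rw [inv_inv] at h3
      refine ⟨(c : G)⁻¹ * g, ?_⟩
      have e2 : (c : G)⁻¹ * g * x * ((c : G)⁻¹ * g)⁻¹ = (c : G)⁻¹ * (g * x * g⁻¹) * (c : G) := by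
        group
      rw [e2]
      exact h3

/-- Let G be a finite group and p a prime. Every conjugacy class of p-regular elements of G (elements of order prime to p) has p-power size if and only if G has an abelian p-complement, i.e. an abelian subgroup of order prime to p and p-power index. -/
theorem result {G : Type*} [Group G] [Finite G] {p : ℕ} (hp : p.Prime) :
    (∀ x : G, (orderOf x).Coprime p → ∃ k : ℕ, (ConjClasses.mk x).carrier.ncard = p ^ k) ↔
    (∃ H : Subgroup G, IsMulCommutative H ∧ ¬ p ∣ Nat.card H ∧ ∃ k : ℕ, H.index = p ^ k) := by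
  constructor
  · intro h
    have hP : PPowClass p G := by
      intro x hx
      obtain ⟨k, hk⟩ := h x hx
      exact ⟨k, by rw [← card_carrier_eq_index, hk]⟩
    haveI : Group.IsSolvable G := solvable_of_PPowClass hp _ G rfl hP
    obtain ⟨a, m, hm, hn⟩ := Nat.exists_eq_pow_mul_and_not_dvd
      (Nat.card_pos (α := G)).ne' p hp.ne_one
    have hmc : m.Coprime p := ((Nat.Prime.coprime_iff_not_dvd hp).2 hm).symm
    have hcard : Nat.card G = m * p ^ a := by rw [hn, mul_comm]
    obtain ⟨H, hH, -⟩ := ((Cfsg.Agent.Lib.helper1.hallProp G) m (p ^ a) hcard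
      (Nat.Coprime.pow_right a hmc)).2 ⊥ (by simp)
    refine ⟨H, ⟨⟨fun x y => Subtype.ext ?_⟩⟩, by rw [hH]; exact hm, a, ?_⟩
    · exact abelian_of_PPowClass hp _ G rfl inferInstance hP H (by rw [hH]; exact hmc)
        x x.2 y y.2
    · have h1 := Subgroup.index_mul_card H
      rw [hH, hcard, mul_comm] at h1
      have hmpos : 0 < m := Nat.pos_of_ne_zero (by rintro rfl; simp at hm)
      exact Nat.eq_of_mul_eq_mul_left hmpos h1
  · rintro ⟨H, hHc, hHp, k, hk⟩ x hx
    have hcomm : ∀ a ∈ H, ∀ b ∈ H, a * b = b * a := by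
      intro a ha b hb
      have h1 := hHc.is_comm.comm (⟨a, ha⟩ : H) ⟨b, hb⟩
      exact congrArg Subtype.val h1
    obtain ⟨g, hg⟩ := conj_into hp H hcomm hk _ x rfl hx
    have hmk : ConjClasses.mk x = ConjClasses.mk (g * x * g⁻¹) :=
      ConjClasses.mk_eq_mk_iff_isConj.2 (isConj_iff.2 ⟨g, rfl⟩)
    rw [hmk, card_carrier_eq_index]
    have hle : H ≤ Subgroup.centralizer ({g * x * g⁻¹} : Set G) := by
      intro h hh
      rw [Subgroup.mem_centralizer_iff]
      intro z hz
      rw [Set.mem_singleton_iff] at hz
      subst hz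
      exact hcomm _ hg h hh
    have h1 := Subgroup.index_dvd_of_le hle
    rw [hk] at h1
    obtain ⟨j, -, hj⟩ := (Nat.dvd_prime_pow hp).1 h1
    exact ⟨j, hj⟩

end Cfsg.Agent.S4034
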