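import Cfsg.Statements.S4035
import Cfsg.Agent.Lib.helper71.Basic

set_option autoImplicit false
open Cfsg

namespace Cfsg.Agent.S4035

open Cfsg.Agent.Lib.helper71

/-- If `p` does not divide the index of `C`, every `p`-subgroup of `C` lies in a Sylow
`p`-subgroup of `G` contained in `C`. -/
theorem exists_sylow_le_of_not_dvd_index {G : Type*} [Group G] [Finite G] {p : ℕ} [Fact p.Prime]
    (C : Subgroup G) (hC : ¬ p ∣ C.index) (K : Subgroup G) (hK : IsPGroup p K) (hKC : K ≤ C) :
    ∃ R : Sylow p G, K ≤ R ∧ (R : Subgroup G) ≤ C := by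
  have hp : p.Prime := Fact.out
  have hK' : IsPGroup p (K.subgroupOf C) := hK.comap_subtype
  obtain ⟨R', hR'⟩ := hK'.exists_le_sylow
  have hRp : IsPGroup p ((R' : Subgroup C).map C.subtype) := R'.isPGroup'.map _
  have hidx : ¬ p ∣ ((R' : Subgroup C).map C.subtype).index := by
    rw [Subgroup.index_map_subtype]
    intro hdvd
    rcases (Nat.Prime.dvd_mul hp).mp hdvd with h1 | h1
    · exact R'.not_dvd_index h1
    · exact hC h1
  refine ⟨hRp.toSylow hidx, ?_, ?_⟩
  · intro y hy
    have : (⟨y, hKC hy⟩ : C) ∈ (R' : Subgroup C) := hR' (Subgroup.mem_subgroupOf.mpr hy)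
    exact ⟨⟨y, hKC hy⟩, this, rfl⟩
  · intro y hy
    obtain ⟨c, _, rfl⟩ := hy
    exact c.2

theorem key_conj {G : Type*} [Group G] [Finite G] {p : ℕ} [Fact p.Prime]
    (h : ∀ x : G, (orderOf x).Coprime p → ¬ p ∣ (ConjClasses.mk x).carrier.ncard) (P : Sylow p G)
    (v : G) (hv : (orderOf v).Coprime p) (K : Subgroup G) (hK : IsPGroup p K)
    (hKv : K ≤ Subgroup.centralizer ({v} : Set G)) :
    ∃ g : G, (∀ y ∈ K, g * y * g⁻¹ ∈ (P : Subgroup G)) ∧
      g * v * g⁻¹ ∈ Subgroup.centralizer ((P : Subgroup G) : Set G) := by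
  have hC : ¬ p ∣ (Subgroup.centralizer ({v} : Set G)).index := by
    rw [← ncard_conjClass_eq_index_centralizer]
    exact h v hv
  obtain ⟨R, hKR, hRC⟩ := exists_sylow_le_of_not_dvd_index _ hC K hK hKv
  obtain ⟨g, hg⟩ := MulAction.exists_smul_eq G R P
  have hmem : ∀ y : G, y ∈ (P : Subgroup G) ↔ g⁻¹ * y * g ∈ (R : Subgroup G) := by
    intro y
    rw [← hg, Sylow.coe_subgroup_smul, Subgroup.mem_pointwise_smul_iff_inv_smul_mem]
    simp [MulAut.smul_def]
  refine ⟨g, ?_, ?_⟩
  · intro y hy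
    rw [hmem]
    simpa [mul_assoc] using hKR hy
  · rw [Subgroup.mem_centralizer_iff]
    intro y hy
    have h1 : g⁻¹ * y * g ∈ Subgroup.centralizer ({v} : Set G) := hRC ((hmem y).mp hy)
    rw [Subgroup.mem_centralizer_iff] at h1
    have h2 := h1 v (Set.mem_singleton v)
    -- h2 : v * (g⁻¹ * y * g) = g⁻¹ * y * g * v
    calc y * (g * v * g⁻¹) = g * (g⁻¹ * y * g * v) * g⁻¹ := by group
      _ = g * (v * (g⁻¹ * y * g)) * g⁻¹ := by rw [h2]
      _ = g * v * g⁻¹ * y := by group

/-- Let G be a finite group and p a prime such that p divides the size of no conjugacy class of p-regular elements (elements of order prime to p). Then G is the internal direct product of a Sylow p-subgroup P and a normal subgroup H of order prime to p: P is normal, P ⊓ H = 1 and PH = G. -/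
theorem result {G : Type*} [Group G] [Finite G] {p : ℕ} [Fact p.Prime]
    (h : ∀ x : G, (orderOf x).Coprime p → ¬ p ∣ (ConjClasses.mk x).carrier.ncard) (P : Sylow p G) :
    (P : Subgroup G).Normal ∧ ∃ H : Subgroup G, H.Normal ∧ ¬ p ∣ Nat.card H ∧
      (P : Subgroup G) ⊓ H = ⊥ ∧ (P : Subgroup G) ⊔ H = ⊤ := by
  have hp : p.Prime := Fact.out
  -- Step 1: every element is conjugate into `P ⊔ C_G(P)`.
  have key : ∀ x : G, ∃ g : G, g * x * g⁻¹ ∈
      (P : Subgroup G) ⊔ Subgroup.centralizer ((P : Subgroup G) : Set G) := by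
    intro x
    obtain ⟨k, m, hm, hn⟩ := Nat.exists_eq_pow_mul_and_not_dvd (orderOf_pos x).ne' p hp.ne_one
    have hcop : Nat.Coprime m (p ^ k) :=
      Nat.Coprime.pow_right k ((Nat.Prime.coprime_iff_not_dvd hp).mpr hm).symm
    have hvord : (orderOf (x ^ (p ^ k))).Coprime p := by
      have hdvd : orderOf (x ^ (p ^ k)) ∣ m := by
        apply orderOf_dvd_of_pow_eq_one
        rw [← pow_mul, ← hn, pow_orderOf_eq_one]
      exact Nat.Coprime.coprime_dvd_left hdvd ((Nat.Prime.coprime_iff_not_dvd hp).mpr hm).symm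
    have hK : IsPGroup p (Subgroup.zpowers (x ^ m)) := by
      rintro ⟨y, hy⟩
      obtain ⟨j, rfl⟩ := Subgroup.mem_zpowers_iff.mp hy
      refine ⟨k, ?_⟩
      apply Subtype.ext
      simp only [Subgroup.coe_pow, Subgroup.coe_one]
      rw [← zpow_natCast, ← zpow_mul, mul_comm, zpow_mul, zpow_natCast, ← pow_mul, mul_comm,
        ← hn, pow_orderOf_eq_one, one_zpow]
    have hKv : Subgroup.zpowers (x ^ m) ≤ Subgroup.centralizer ({x ^ (p ^ k)} : Set G) := by
      rw [Subgroup.zpowers_le, Subgroup.mem_centralizer_iff]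
      intro y hy
      rw [Set.mem_singleton_iff] at hy
      subst hy
      rw [← pow_add, ← pow_add, add_comm]
    obtain ⟨g, hg1, hg2⟩ := key_conj h P (x ^ (p ^ k)) hvord _ hK hKv
    refine ⟨g, ?_⟩
    -- x = (x^m)^a * (x^(p^k))^b
    have hbez : (m : ℤ) * Nat.gcdA m (p ^ k) + ((p ^ k : ℕ) : ℤ) * Nat.gcdB m (p ^ k) = 1 := by
      have := Nat.gcd_eq_gcd_ab m (p ^ k)
      rw [hcop] at this
      exact_mod_cast this.symm
    have hx : x = (x ^ m) ^ (Nat.gcdA m (p ^ k)) * (x ^ (p ^ k)) ^ (Nat.gcdB m (p ^ k)) := by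
      rw [← zpow_natCast x m, ← zpow_natCast x (p ^ k), ← zpow_mul, ← zpow_mul, ← zpow_add, hbez,
        zpow_one]
    have hconj : g * x * g⁻¹ = (g * x ^ m * g⁻¹) ^ (Nat.gcdA m (p ^ k)) *
        (g * x ^ (p ^ k) * g⁻¹) ^ (Nat.gcdB m (p ^ k)) := by
      conv_lhs => rw [hx]
      have e1 : ∀ (y : G) (n : ℤ), (g * y * g⁻¹) ^ n = g * y ^ n * g⁻¹ := by
        intro y n
        exact conj_zpow
      rw [e1, e1]
      group
    rw [hconj]
    exact Subgroup.mul_mem_sup (Subgroup.zpow_mem _ (hg1 _ (Subgroup.mem_zpowers _)) _)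
      (Subgroup.zpow_mem _ hg2 _)
  -- Step 2: `P` is normal.
  have htop : (P : Subgroup G) ⊔ Subgroup.centralizer ((P : Subgroup G) : Set G) = ⊤ :=
    eq_top_of_forall_exists_conj_mem _ key
  have hPn : (P : Subgroup G).Normal := by
    rw [← Subgroup.normalizer_eq_top_iff, eq_top_iff, ← htop]
    exact sup_le Subgroup.le_normalizer (Subgroup.centralizer_le_normalizer _)
  refine ⟨hPn, ?_⟩
  -- Step 3: a complement `H`, which centralizes `P`.
  obtain ⟨H, hH⟩ := Subgroup.exists_right_complement'_of_coprime (N := (P : Subgroup G))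
    P.card_coprime_index
  have hcardH : ¬ p ∣ Nat.card H := by
    rw [← hH.symm.index_eq_card]
    exact P.not_dvd_index
  have hHcent : H ≤ Subgroup.centralizer ((P : Subgroup G) : Set G) := by
    intro y hy
    have hyord : (orderOf y).Coprime p := by
      have hdvd : orderOf y ∣ Nat.card H := by
        have := orderOf_dvd_natCard (⟨y, hy⟩ : H)
        rwa [Subgroup.orderOf_mk] at this
      exact Nat.Coprime.coprime_dvd_left hdvd ((Nat.Prime.coprime_iff_not_dvd hp).mpr hcardH).symm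
    obtain ⟨g, -, hg2⟩ := key_conj h P y hyord ⊥ IsPGroup.of_bot bot_le
    have hcn : (Subgroup.centralizer ((P : Subgroup G) : Set G)).Normal :=
      Subgroup.normal_centralizer
    have := hcn.conj_mem _ hg2 g⁻¹
    simpa [mul_assoc] using this
  refine ⟨H, ?_, hcardH, hH.isCompl.inf_eq_bot, hH.sup_eq_top⟩
  rw [← Subgroup.normalizer_eq_top_iff, eq_top_iff, ← hH.sup_eq_top]
  refine sup_le ?_ Subgroup.le_normalizer
  refine le_trans ?_ (Subgroup.centralizer_le_normalizer _)
  intro y hy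
  rw [Subgroup.mem_centralizer_iff]
  intro z hz
  have := hHcent hz
  rw [Subgroup.mem_centralizer_iff] at this
  exact (this y hy).symm

end Cfsg.Agent.S4035
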