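import Mathlib
import Cfsg.Statements.S4036
-- import your own Cfsg.Agent.* helpers here

set_option autoImplicit false
open Cfsg

namespace Cfsg.Agent.S4036

/-- Let P be a finite abelian p-group and K a group of automorphisms of P (a subgroup of Aut P) whose order is divisible by p. If all non-identity elements of K have the same fixed-point subgroup on P, then K has no non-trivial normal subgroup of order prime to p. -/
theorem result {P : Type*} [CommGroup P] [Finite P] {p : ℕ}
    [Fact p.Prime] (hP : IsPGroup p P) (K : Subgroup (MulAut P)) (hK : p ∣ Nat.card K)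
    (hfix : ∀ x y : MulAut P, x ∈ K → y ∈ K → x ≠ 1 → y ≠ 1 → ∀ v : P, x v = v ↔ y v = v) :
    ∀ N : Subgroup ↥K, N.Normal → ¬ p ∣ Nat.card N → N = ⊥ := by
  classical
  intro N hN hpN
  have hp : p.Prime := Fact.out
  by_contra hNbot
  -- a non-identity element of `N`
  obtain ⟨⟨n₀, hn₀N⟩, hn₀1'⟩ := (Subgroup.ne_bot_iff_exists_ne_one (H := N)).mp hNbot
  have hn₀1 : n₀ ≠ 1 := fun h => hn₀1' (Subtype.ext h)
  -- an element of order `p` of `K`
  obtain ⟨x, hx⟩ := exists_prime_orderOf_dvd_card' (G := K) p hK
  have hx1 : x ≠ 1 := by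
    rintro rfl
    rw [orderOf_one] at hx
    exact hp.one_lt.ne hx
  have hxp : x ^ p = 1 := by rw [← hx]; exact pow_orderOf_eq_one x
  have hxK1 : (x : MulAut P) ≠ 1 := fun h => hx1 (Subtype.ext h)
  have hn₀K1 : ((n₀ : K) : MulAut P) ≠ 1 := fun h => hn₀1 (Subtype.ext h)
  have : Fintype N := Fintype.ofFinite N
  -- the averaging endomorphism
  let θ : P →* P :=
    { toFun := fun v => ∏ n : N, ((n : K) : MulAut P) v
      map_one' := by simp
      map_mul' := by
        intro a b
        simp [Finset.prod_mul_distrib] }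
  have hθ : ∀ v, θ v = ∏ n : N, ((n : K) : MulAut P) v := fun v => rfl
  -- (a) on common fixed points, `θ` is the power map
  have ha : ∀ v : P, ((n₀ : K) : MulAut P) v = v → θ v = v ^ Nat.card N := by
    intro v hv
    rw [hθ, Nat.card_eq_fintype_card, ← Finset.card_univ, ← Finset.prod_const]
    apply Finset.prod_congr rfl
    intro n _
    by_cases hn1 : ((n : K) : MulAut P) = 1
    · rw [hn1]
      rfl
    · exact (hfix _ _ (n : K).2 (n₀ : K).2 hn1 hn₀K1 v).mpr hv
  -- (b) `θ` is constant on `N`-orbits
  have hb : ∀ (m : N) (v : P), θ (((m : K) : MulAut P) v) = θ v := by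
    intro m v
    have e := Equiv.prod_comp (Equiv.mulRight m) (fun n : N => ((n : K) : MulAut P) v)
    rw [hθ, hθ, ← e]
    apply Finset.prod_congr rfl
    intro n _
    simp [MulAut.mul_apply]
  -- (c) `θ` commutes with `x`
  have hc : ∀ v : P, θ ((x : MulAut P) v) = (x : MulAut P) (θ v) := by
    intro v
    have e0 := Equiv.prod_comp (MulAut.conjNormal x : N ≃* N).toEquiv
      (fun n : N => ((n : K) : MulAut P) ((x : MulAut P) v))
    rw [hθ, hθ, map_prod, ← e0]
    apply Finset.prod_congr rfl
    intro n _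
    have e : (((MulAut.conjNormal x : N ≃* N) n : N) : K) = x * n * x⁻¹ :=
      MulAut.conjNormal_apply x n
    simp only [MulEquiv.toEquiv_eq_coe, EquivLike.coe_coe]
    rw [e]
    simp [MulAut.mul_apply]
  -- the kernel of `θ` is trivial
  have hker : θ.ker = ⊥ := by
    have hW : IsPGroup p θ.ker := hP.to_subgroup θ.ker
    obtain ⟨k, hk⟩ := IsPGroup.iff_card.mp hW
    have hmap : ∀ w : θ.ker, (x : MulAut P) (w : P) ∈ θ.ker := by
      intro w
      rw [MonoidHom.mem_ker, hc, MonoidHom.mem_ker.mp w.2, map_one]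
    let f : Function.End θ.ker := fun w => ⟨(x : MulAut P) (w : P), hmap w⟩
    have hfpow : ∀ (j : ℕ) (w : θ.ker), ((f ^ j) w : P) = ((x : MulAut P) ^ j) (w : P) := by
      intro j
      induction j with
      | zero => intro w; rfl
      | succ j ih =>
        intro w
        rw [pow_succ, pow_succ]
        change ((f ^ j) (f w) : P) = _
        rw [ih (f w)]
        rfl
    have hf : f ^ p ^ 1 = 1 := by
      rw [pow_one]
      funext w
      apply Subtype.ext
      rw [hfpow]
      have : (x : MulAut P) ^ p = 1 := by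
        have := congrArg Subtype.val hxp
        simpa using this
      rw [this]
      rfl
    have : Fintype θ.ker := Fintype.ofFinite _
    have hmod := Equiv.Perm.card_fixedPoints_modEq (p := p) (n := 1) hf
    have hfixed : Fintype.card (Function.fixedPoints f) = 1 := by
      rw [Fintype.card_eq_one_iff]
      refine ⟨⟨1, ?_⟩, ?_⟩
      · change f 1 = 1
        apply Subtype.ext
        change (x : MulAut P) ((1 : θ.ker) : P) = 1
        simp
      · rintro ⟨w, hw⟩
        apply Subtype.ext
        apply Subtype.ext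
        have hw' : (x : MulAut P) (w : P) = (w : P) := congrArg Subtype.val hw
        have h1 : ((n₀ : K) : MulAut P) (w : P) = (w : P) :=
          (hfix _ _ x.2 (n₀ : K).2 hxK1 hn₀K1 (w : P)).mp hw'
        have h2 := ha (w : P) h1
        rw [MonoidHom.mem_ker.mp w.2] at h2
        -- `w ^ card N = 1` and `w` is a `p`-element
        obtain ⟨j, hj⟩ := hP (w : P)
        have hcop : Nat.Coprime (Nat.card N) (p ^ j) :=
          Nat.Coprime.pow_right j ((Nat.Prime.coprime_iff_not_dvd hp).mpr hpN).symm
        have := (pow_gcd_eq_one (a := (w : P))).mpr ⟨h2.symm, hj⟩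
        rw [hcop, pow_one] at this
        exact this
    rw [hfixed, ← Nat.card_eq_fintype_card, hk] at hmod
    have hk0 : k = 0 := by
      by_contra hk0
      have h1 : p ^ k % p = 0 := Nat.mod_eq_zero_of_dvd (dvd_pow_self p hk0)
      have h2 : p ^ k % p = 1 % p := hmod
      rw [h1, Nat.mod_eq_of_lt hp.one_lt] at h2
      exact absurd h2 (by norm_num)
    rw [hk0, pow_zero] at hk
    exact (Subgroup.card_eq_one).mp hk
  -- hence `n₀` is trivial
  apply hn₀K1
  ext v
  have h1 : ((n₀ : K) : MulAut P) v * v⁻¹ ∈ θ.ker := by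
    rw [MonoidHom.mem_ker, map_mul, map_inv, hb ⟨n₀, hn₀N⟩ v, mul_inv_cancel]
  rw [hker, Subgroup.mem_bot] at h1
  rw [MulAut.one_apply]
  exact mul_inv_eq_one.mp h1

end Cfsg.Agent.S4036
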