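import Cfsg.Statements.S4039
import Mathlib
import Cfsg.Agent.Lib.helper71.NilMax
import Cfsg.Agent.Lib.helper71.NilMaxClassTwo

set_option autoImplicit false
open Cfsg

namespace Cfsg.Agent.S4039

open Cfsg.Agent.Lib.helper71
open scoped commutatorElement

/-- A finite group possessing a maximal subgroup that is nilpotent of class at most 2 is solvable. -/
theorem result {G : Type*} [Group G] [Finite G]
    (M : Subgroup G) (hmax : IsCoatom M) (hnil : Group.IsNilpotent M) (hcl : Group.nilpotencyClass ↥M ≤ 2) :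
    Group.IsSolvable G := by
  have hlcs : (⊤ : Subgroup ↥M).lowerCentralSeries 2 = ⊥ :=
    Subgroup.lowerCentralSeries_eq_bot_iff_nilpotencyClass_le.mpr hcl
  have hgood : ∀ x y z : ↥M, ⁅⁅x, y⁆, z⁆ = 1 := by
    intro x y z
    have h1 : ⁅⁅x, y⁆, z⁆ ∈ (⊤ : Subgroup ↥M).lowerCentralSeries 2 := by
      show ⁅⁅x, y⁆, z⁆ ∈ ⁅⁅(⊤ : Subgroup ↥M), ⊤⁆, ⊤⁆
      exact Subgroup.commutator_mem_commutator (Subgroup.commutator_mem_commutator
        (Subgroup.mem_top x) (Subgroup.mem_top y)) (Subgroup.mem_top z)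
    rw [hlcs, Subgroup.mem_bot] at h1
    exact h1
  refine solvable_of_nilpotent_coatom (fun X _ => ∀ x y z : X, ⁅⁅x, y⁆, z⁆ = 1) ?_ ?_
    (Nat.card G) G rfl M hmax hnil hgood
  · intro X Y _ _ f hf hX x y z
    obtain ⟨a, rfl⟩ := hf x
    obtain ⟨b, rfl⟩ := hf y
    obtain ⟨c, rfl⟩ := hf z
    rw [← map_commutatorElement, ← map_commutatorElement, hX a b c, map_one]
  · intro G _ _ M hmax hnil hgood hcore p _ P Q hd
    refine hasNPC_of_class_two hmax hcore P Q hd ?_
    intro x hx y hy z hz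
    have h1 := hgood ⟨x, hd.le hx⟩ ⟨y, hd.le hy⟩ ⟨z, hd.le hz⟩
    exact congrArg Subtype.val h1

end Cfsg.Agent.S4039
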