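import Cfsg.Statements.S4040
import Mathlib
import Cfsg.Agent.Lib.helper71.NilMax
import Cfsg.Agent.Lib.lead.ThompsonPC

set_option autoImplicit false
open Cfsg

namespace Cfsg.Agent.S4040

open Cfsg.Agent.Lib.helper71

/-- A finite group possessing a maximal subgroup that is nilpotent of odd order is solvable. -/
theorem result {G : Type*} [Group G] [Finite G]
    (M : Subgroup G) (hmax : IsCoatom M) (hnil : Group.IsNilpotent M) (hodd : Odd (Nat.card M)) :
    Group.IsSolvable G := by
  refine solvable_of_nilpotent_coatom (fun X _ => Odd (Nat.card X)) ?_ ?_ (Nat.card G) G rfl M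
    hmax hnil hodd
  · intro X Y _ _ f hf hX
    exact Odd.of_dvd_nat hX (Subgroup.card_dvd_of_surjective f hf)
  · intro G _ _ M hmax hnil hodd hcore p _ P Q hd
    have hp2 : p ≠ 2 := by
      rintro rfl
      rcases P.isPGroup'.card_eq_or_dvd with h | h
      · exact hd.ne_bot (Subgroup.card_eq_one.mp h)
      · have h2 : 2 ∣ Nat.card M := h.trans (Subgroup.card_dvd_of_le hd.le)
        rcases hodd with ⟨k, hk⟩
        omega
    apply Cfsg.Agent.Lib.lead.PN_top_iff.mp
    apply Cfsg.Agent.Lib.lead.thompson_pn hp2 P
    · have hJ : Subgroup.normalizer (Cfsg.thompsonSubgroupOf p (P : Subgroup G) : Set G) = M := by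
        refine normalizer_eq_of_coatom hmax hcore
          ((Cfsg.Agent.Lib.helper13.thompsonSubgroupOf_le_self _).trans hd.le)
          (Cfsg.Agent.Lib.lead.thompsonSubgroupOf_ne_bot _ P.isPGroup' hd.ne_bot) ?_
        have h1 := Cfsg.Agent.Lib.helper13.normalizer_le_normalizer_thompsonSubgroupOf p
          (P : Subgroup G)
        rw [hd.normalizer_eq] at h1
        exact h1
      rw [hJ]
      exact hd.pn
    · have hZ := hd.normalizer_center hmax hcore
      refine hd.pn.mono ?_
      rw [← hZ]
      exact Subgroup.centralizer_le_normalizer _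

end Cfsg.Agent.S4040
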