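import Cfsg.Statements.S4043
import Cfsg.Agent.Lib.helper1.SZ
-- import your own Cfsg.Agent.* helpers here

set_option autoImplicit false
open Cfsg

namespace Cfsg.Agent.S4043

open Pointwise

/-- A `p`-group acting by conjugation on a nontrivial `p`-subgroup has a nontrivial fixed point. -/
theorem exists_fixed_ne_one {G : Type*} [Group G] [Finite G] {p : ℕ} [Fact p.Prime]
    (Q D : Subgroup G) (hQ : IsPGroup p Q) (hD : IsPGroup p D)
    (hnorm : ∀ q ∈ Q, ∀ d ∈ D, q * d * q⁻¹ ∈ D) (hne : D ≠ ⊥) :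
    ∃ b ∈ D, b ≠ 1 ∧ ∀ q ∈ Q, q * b * q⁻¹ = b := by
  let _inst : MulAction Q D :=
    { smul := fun q d => ⟨(q : G) * (d : G) * (q : G)⁻¹, hnorm q q.2 d d.2⟩
      one_smul := fun d => Subtype.ext (by
        change ((1 : Q) : G) * (d : G) * ((1 : Q) : G)⁻¹ = d
        simp)
      mul_smul := fun q r d => Subtype.ext (by
        change ((q * r : Q) : G) * (d : G) * ((q * r : Q) : G)⁻¹ =
          (q : G) * ((r : G) * (d : G) * (r : G)⁻¹) * (q : G)⁻¹
        simp [mul_assoc]) }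
  have hcard : p ∣ Nat.card D := by
    rcases hD.card_eq_or_dvd with h | h
    · exact absurd (Subgroup.card_eq_one.mp h) hne
    · exact h
  have h1 : (1 : D) ∈ MulAction.fixedPoints Q D := by
    intro q
    apply Subtype.ext
    change (q : G) * ((1 : D) : G) * (q : G)⁻¹ = ((1 : D) : G)
    simp
  obtain ⟨b, hb, hb1⟩ := hQ.exists_fixed_point_of_prime_dvd_card_of_fixed_point D hcard h1
  refine ⟨b, b.2, fun h => hb1 (Subtype.ext h.symm), fun q hq => ?_⟩
  exact congrArg Subtype.val (hb ⟨q, hq⟩)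

/-- In `G = A N` with `N` a normal `p`-subgroup and `K` a normal `p`-complement of `A`,
every `p'`-element lies in `N K`. -/
theorem pprime_mem {G : Type*} [Group G] [Finite G] {p : ℕ} [Fact p.Prime]
    (N A : Subgroup G) [N.Normal] (hN : IsPGroup p N) (hA : A.IsComplement' N)
    (K : Subgroup A) (hKn : K.Normal) (P : Sylow p A) (hK : K.IsComplement' (P : Subgroup A))
    (x : G) (hx : (orderOf x).Coprime p) : x ∈ N ⊔ K.map A.subtype := by
  have hp : p.Prime := Fact.out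
  have hAK : ∀ a ∈ A, ∀ k ∈ K.map A.subtype, a * k * a⁻¹ ∈ K.map A.subtype := by
    rintro a ha _ ⟨k, hk, rfl⟩
    exact ⟨⟨a, ha⟩ * k * ⟨a, ha⟩⁻¹, hKn.conj_mem k hk ⟨a, ha⟩, rfl⟩
  have hfw : ∀ a ∈ A, ∀ h ∈ N ⊔ K.map A.subtype, a * h * a⁻¹ ∈ N ⊔ K.map A.subtype := by
    intro a ha h hh
    obtain ⟨n, hn, k, hk, rfl⟩ := Subgroup.mem_sup_of_normal_left.mp hh
    have e : a * (n * k) * a⁻¹ = (a * n * a⁻¹) * (a * k * a⁻¹) := by group
    rw [e]
    exact Subgroup.mul_mem_sup (Subgroup.Normal.conj_mem inferInstance n hn a) (hAK a ha k hk)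
  have hMn : (N ⊔ K.map A.subtype).Normal := by
    rw [← Subgroup.normalizer_eq_top_iff, eq_top_iff, ← hA.sup_eq_top]
    refine sup_le ?_ (le_sup_left.trans Subgroup.le_normalizer)
    intro a ha
    rw [Subgroup.mem_normalizer_iff]
    intro h
    refine ⟨hfw a ha h, fun hh => ?_⟩
    have := hfw a⁻¹ (A.inv_mem ha) _ hh
    simpa [mul_assoc] using this
  have hidx : ∃ e, (N ⊔ K.map A.subtype).index = p ^ e := by
    have h1 : (N ⊔ K.map A.subtype).index ∣ (K.map A.subtype).index :=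
      Subgroup.index_dvd_of_le le_sup_right
    rw [Subgroup.index_map_subtype] at h1
    have h2 : K.index = Nat.card (P : Subgroup A) := hK.symm.index_eq_card
    have h3 : A.index = Nat.card N := hA.symm.index_eq_card
    obtain ⟨i, hi⟩ := IsPGroup.iff_card.mp P.isPGroup'
    obtain ⟨j, hj⟩ := IsPGroup.iff_card.mp hN
    rw [h2, h3, hi, hj, ← pow_add] at h1
    obtain ⟨e, -, he⟩ := (Nat.dvd_prime_pow hp).mp h1
    exact ⟨e, he⟩
  obtain ⟨e, he⟩ := hidx
  have hq : (x : G ⧸ (N ⊔ K.map A.subtype)) = 1 := by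
    have h1 : (x : G ⧸ (N ⊔ K.map A.subtype)) ^ orderOf x = 1 := by
      rw [← QuotientGroup.mk_pow, pow_orderOf_eq_one]
      rfl
    have h2 : (x : G ⧸ (N ⊔ K.map A.subtype)) ^ (p ^ e) = 1 := by
      rw [← he]
      exact pow_card_eq_one'
    have := (pow_gcd_eq_one (a := (x : G ⧸ (N ⊔ K.map A.subtype)))).mpr ⟨h1, h2⟩
    rw [Nat.Coprime.pow_right e hx, pow_one] at this
    exact this
  exact (QuotientGroup.eq_one_iff x).mp hq


/-- Let G be a finite group that is the semidirect product of a normal p-subgroup N by a subgroup A, and also of N by a subgroup A₁, where p is a prime and A and A₁ both have normal p-complements. If C_N(A) = C_N(A₁) = 1, then A₁ is conjugate to A by an element of N. -/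
theorem result {G : Type*} [Group G] [Finite G] {p : ℕ}
    [Fact p.Prime] (N : Subgroup G) [N.Normal] (hN : IsPGroup p N) (A A₁ : Subgroup G)
    (hA : A.IsComplement' N) (hA₁ : A₁.IsComplement' N)
    (hAp : Cfsg.HasNormalPComplement p A) (hA₁p : Cfsg.HasNormalPComplement p A₁)
    (hC : ∀ n : G, n ∈ N → (∀ a : G, a ∈ A → a * n * a⁻¹ = n) → n = 1)
    (hC₁ : ∀ n : G, n ∈ N → (∀ a : G, a ∈ A₁ → a * n * a⁻¹ = n) → n = 1) :
    ∃ n : G, n ∈ N ∧ A₁ = A.map (MulAut.conj n).toMonoidHom := by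
  classical
  have hp : p.Prime := Fact.out
  obtain ⟨P, K, hKn, hK⟩ := hAp
  obtain ⟨P₁, K₁, hK₁n, hK₁⟩ := hA₁p
  -- orders of the normal `p`-complements
  have hcardK : (Nat.card (K.map A.subtype)).Coprime p := by
    rw [Subgroup.card_subtype, ← hK.index_eq_card]
    exact ((Nat.Prime.coprime_iff_not_dvd hp).mpr P.not_dvd_index).symm
  have hcardK₁ : (Nat.card (K₁.map A₁.subtype)).Coprime p := by
    rw [Subgroup.card_subtype, ← hK₁.index_eq_card]
    exact ((Nat.Prime.coprime_iff_not_dvd hp).mpr P₁.not_dvd_index).symm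
  have hordK : ∀ x ∈ K.map A.subtype, (orderOf x).Coprime p := by
    intro x hx
    have hdvd : orderOf x ∣ Nat.card (K.map A.subtype) := Subgroup.orderOf_dvd_natCard _ hx
    exact Nat.Coprime.coprime_dvd_left hdvd hcardK
  have hordK₁ : ∀ x ∈ K₁.map A₁.subtype, (orderOf x).Coprime p := by
    intro x hx
    have hdvd : orderOf x ∣ Nat.card (K₁.map A₁.subtype) := Subgroup.orderOf_dvd_natCard _ hx
    exact Nat.Coprime.coprime_dvd_left hdvd hcardK₁
  -- `N K = N K₁`
  have hsup : N ⊔ K.map A.subtype = N ⊔ K₁.map A₁.subtype := by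
    apply le_antisymm
    · refine sup_le le_sup_left ?_
      intro x hx
      exact pprime_mem N A₁ hN hA₁ K₁ hK₁n P₁ hK₁ x (hordK x hx)
    · refine sup_le le_sup_left ?_
      intro x hx
      exact pprime_mem N A hN hA K hKn P hK x (hordK₁ x hx)
  obtain ⟨i, hi⟩ := IsPGroup.iff_card.mp hN
  have hcop : (Nat.card N).Coprime (Nat.card (K.map A.subtype)) := by
    rw [hi]
    exact (Nat.Coprime.pow_right i hcardK).symm
  have hcop₁ : (Nat.card N).Coprime (Nat.card (K₁.map A₁.subtype)) := by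
    rw [hi]
    exact (Nat.Coprime.pow_right i hcardK₁).symm
  have hNsolv : Group.IsSolvable N := by
    have : Group.IsNilpotent N := hN.isNilpotent
    infer_instance
  obtain ⟨n, hn, hnK⟩ := Cfsg.Agent.Lib.helper1.sz_conj_internal N (K.map A.subtype)
    (K₁.map A₁.subtype) (by rw [Subgroup.normalizer_eq_top]; exact le_top)
    (Subgroup.disjoint_of_coprime_natCard hcop).eq_bot
    (Subgroup.disjoint_of_coprime_natCard hcop₁).eq_bot hsup hcop
    (Or.inl hNsolv)
  refine ⟨n, hn, ?_⟩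
  symm
  -- `A₁` normalizes `K₁' = K₁.map A₁.subtype`
  have hA₁K : ∀ a ∈ A₁, ∀ k ∈ K₁.map A₁.subtype, a * k * a⁻¹ ∈ K₁.map A₁.subtype := by
    rintro a ha _ ⟨k, hk, rfl⟩
    exact ⟨⟨a, ha⟩ * k * ⟨a, ha⟩⁻¹, hK₁n.conj_mem k hk ⟨a, ha⟩, rfl⟩
  have hAK : ∀ a ∈ A, ∀ k ∈ K.map A.subtype, a * k * a⁻¹ ∈ K.map A.subtype := by
    rintro a ha _ ⟨k, hk, rfl⟩
    exact ⟨⟨a, ha⟩ * k * ⟨a, ha⟩⁻¹, hKn.conj_mem k hk ⟨a, ha⟩, rfl⟩
  -- the subgroup `D = C_N(K₁')` is trivial
  have hD : N ⊓ Subgroup.centralizer ((K₁.map A₁.subtype : Subgroup G) : Set G) = ⊥ := by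
    by_contra hne
    have hQ : IsPGroup p ((P₁ : Subgroup A₁).map A₁.subtype) := P₁.isPGroup'.map _
    have hDp : IsPGroup p
        (N ⊓ Subgroup.centralizer ((K₁.map A₁.subtype : Subgroup G) : Set G) : Subgroup G) :=
      hN.to_le inf_le_left
    have hnorm : ∀ q ∈ (P₁ : Subgroup A₁).map A₁.subtype,
        ∀ d ∈ N ⊓ Subgroup.centralizer ((K₁.map A₁.subtype : Subgroup G) : Set G),
        q * d * q⁻¹ ∈ N ⊓ Subgroup.centralizer ((K₁.map A₁.subtype : Subgroup G) : Set G) := by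
      intro q hq d hd
      have hqA : q ∈ A₁ := Subgroup.map_subtype_le _ hq
      have hd := Subgroup.mem_inf.mp hd
      refine Subgroup.mem_inf.mpr ⟨Subgroup.Normal.conj_mem inferInstance d hd.1 q, ?_⟩
      rw [Subgroup.mem_centralizer_iff]
      intro k hk
      have hk' : q⁻¹ * k * q ∈ K₁.map A₁.subtype := by
        have := hA₁K q⁻¹ (A₁.inv_mem hqA) k hk
        simpa using this
      have hcomm := (Subgroup.mem_centralizer_iff.mp hd.2) _ hk'
      -- hcomm : q⁻¹ * k * q * d = d * (q⁻¹ * k * q)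
      calc k * (q * d * q⁻¹) = q * (q⁻¹ * k * q * d) * q⁻¹ := by group
        _ = q * (d * (q⁻¹ * k * q)) * q⁻¹ := by rw [hcomm]
        _ = q * d * q⁻¹ * k := by group
    obtain ⟨b, hb, hb1, hbfix⟩ := exists_fixed_ne_one _ _ hQ hDp hnorm hne
    have hb := Subgroup.mem_inf.mp hb
    apply hb1
    apply hC₁ b hb.1
    -- `b` commutes with `K₁' ⊔ P₁' = A₁`
    have hle : A₁ ≤ Subgroup.centralizer ({b} : Set G) := by
      have hA₁eq : K₁.map A₁.subtype ⊔ (P₁ : Subgroup A₁).map A₁.subtype = A₁ := by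
        rw [← Subgroup.map_sup, hK₁.sup_eq_top, ← MonoidHom.range_eq_map, Subgroup.range_subtype]
      rw [← hA₁eq]
      refine sup_le ?_ ?_
      · intro k hk
        rw [Subgroup.mem_centralizer_singleton_iff]
        exact (Subgroup.mem_centralizer_iff.mp hb.2 k hk)
      · intro q hq
        rw [Subgroup.mem_centralizer_singleton_iff]
        have := hbfix q hq
        calc q * b = q * b * q⁻¹ * q := by group
          _ = b * q := by rw [this]
    intro a ha
    have := hle ha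
    rw [Subgroup.mem_centralizer_singleton_iff] at this
    rw [this]
    group
  -- now show `A^n ≤ A₁`
  apply Subgroup.eq_of_le_of_card_ge
  · rintro _ ⟨a, ha, rfl⟩
    change n * a * n⁻¹ ∈ A₁
    have hy : n * a * n⁻¹ ∈ A₁ ⊔ N := by
      rw [hA₁.sup_eq_top]
      exact Subgroup.mem_top _
    obtain ⟨a₁, ha₁, m, hm, hy'⟩ := Subgroup.mem_sup_of_normal_right.mp hy
    -- `n a n⁻¹` normalizes `K₁'`
    have hnorm_y : ∀ k ∈ K₁.map A₁.subtype,
        (n * a * n⁻¹) * k * (n * a * n⁻¹)⁻¹ ∈ K₁.map A₁.subtype := by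
      intro k hk
      rw [← hnK, Cfsg.Agent.Lib.helper1.mem_conj_smul] at hk ⊢
      have := hAK a ha _ hk
      have e : n⁻¹ * (n * a * n⁻¹ * k * (n * a * n⁻¹)⁻¹) * n = a * (n⁻¹ * k * n) * a⁻¹ := by group
      rw [e]
      exact this
    -- hence so does `m`
    have hm_norm : ∀ k ∈ K₁.map A₁.subtype, m * k * m⁻¹ ∈ K₁.map A₁.subtype := by
      intro k hk
      have hm_eq : m = a₁⁻¹ * (n * a * n⁻¹) := by rw [← hy']; group
      have h1 := hnorm_y k hk
      have h2 := hA₁K a₁⁻¹ (A₁.inv_mem ha₁) _ h1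
      have e : m * k * m⁻¹ = a₁⁻¹ * (n * a * n⁻¹ * k * (n * a * n⁻¹)⁻¹) * a₁⁻¹⁻¹ := by
        rw [hm_eq]; group
      rw [e]
      exact h2
    have hmD : m ∈ N ⊓ Subgroup.centralizer ((K₁.map A₁.subtype : Subgroup G) : Set G) := by
      refine Subgroup.mem_inf.mpr ⟨hm, ?_⟩
      rw [Subgroup.mem_centralizer_iff]
      intro k hk
      have h1 : m * k * m⁻¹ * k⁻¹ ∈ N ⊓ K₁.map A₁.subtype := by
        refine Subgroup.mem_inf.mpr ⟨?_, Subgroup.mul_mem _ (hm_norm k hk) (Subgroup.inv_mem _ hk)⟩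
        have : m * k * m⁻¹ * k⁻¹ = m * (k * m⁻¹ * k⁻¹) := by group
        rw [this]
        exact N.mul_mem hm (Subgroup.Normal.conj_mem inferInstance _ (N.inv_mem hm) k)
      rw [(Subgroup.disjoint_of_coprime_natCard hcop₁).eq_bot, Subgroup.mem_bot] at h1
      have : m * k = k * m := by
        calc m * k = (m * k * m⁻¹ * k⁻¹) * (k * m) := by group
          _ = k * m := by rw [h1, one_mul]
      exact this.symm
    rw [hD, Subgroup.mem_bot] at hmD
    rw [← hy', hmD, mul_one]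
    exact ha₁
  · rw [Subgroup.card_map_of_injective (MulAut.conj n).injective]
    have h1 : Nat.card A = N.index := hA.index_eq_card.symm
    have h2 : Nat.card A₁ = N.index := hA₁.index_eq_card.symm
    rw [h1, h2]

end Cfsg.Agent.S4043
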