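import Cfsg.Statements.S4050
import Mathlib
import Cfsg.Agent.Lib.helper71.PiElts

set_option autoImplicit false
open Cfsg

namespace Cfsg.Agent.S4050

open Cfsg.Agent.Lib.helper71

theorem forward {G : Type*} [Group G] [Finite G] (π : Set ℕ)
    (N : Subgroup G) (hN : ∀ x : G, x ∈ N ↔ ∀ p : ℕ, p.Prime → p ∣ orderOf x → p ∈ π) :
    ((∃ (n : ℕ) (H : Fin (n + 1) → Subgroup G), H 0 = ⊥ ∧ H (Fin.last n) = ⊤ ∧ Monotone H ∧ (∀ i, (H i).Normal) ∧
      ∀ i : Fin n, (∀ q : ℕ, q.Prime → q ∣ (H i.castSucc).relIndex (H i.succ) → q ∈ π) ∨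
        (∀ q : ℕ, q.Prime → q ∣ (H i.castSucc).relIndex (H i.succ) → q ∉ π)) ∧
     (∀ H : Subgroup G, H ≠ ⊥ → (∀ p : ℕ, p.Prime → p ∣ Nat.card ↥H → p ∉ π) →
        ∀ p : ℕ, p.Prime → p ∣ (Subgroup.centralizer (H : Set G)).relIndex (Subgroup.normalizer (H : Set G)) → p ∉ π)) := by
  have hNn : N.Normal := by
    constructor
    intro n hn g
    rw [hN] at hn ⊢
    have h1 : orderOf (g * n * g⁻¹) = orderOf n := by
      have := (MulAut.conj g).orderOf_eq n
      rwa [MulAut.conj_apply] at this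
    rw [h1]; exact hn
  have hNcard : ∀ q : ℕ, q.Prime → q ∣ Nat.card N → q ∈ π := by
    intro q hq hqd
    have : Fact q.Prime := ⟨hq⟩
    obtain ⟨x, hx⟩ := exists_prime_orderOf_dvd_card' q hqd
    exact (hN (x : G)).mp x.2 q hq (by rw [Subgroup.orderOf_coe, hx])
  have hNidx : ∀ q : ℕ, q.Prime → q ∣ N.index → q ∉ π := by
    intro q hq hqd hqπ
    have : Fact q.Prime := ⟨hq⟩
    obtain ⟨P⟩ : Nonempty (Sylow q G) := inferInstance
    have hPle : (P : Subgroup G) ≤ N := by
      intro k hk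
      rw [hN]
      intro r hr hrd
      obtain ⟨j, hj⟩ := (IsPGroup.iff_orderOf.mp P.isPGroup') ⟨k, hk⟩
      rw [Subgroup.orderOf_mk] at hj
      rw [hj] at hrd
      have := (Nat.prime_dvd_prime_iff_eq hr hq).mp (hr.dvd_of_dvd_pow hrd)
      rw [this]; exact hqπ
    exact P.not_dvd_index (hqd.trans (Subgroup.index_dvd_of_le hPle))
  refine ⟨⟨2, ![⊥, N, ⊤], rfl, rfl, ?_, ?_, ?_⟩, ?_⟩
  · rw [Fin.monotone_iff_le_succ]
    intro i
    fin_cases i
    · exact bot_le
    · exact le_top
  · intro i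
    fin_cases i
    · exact Subgroup.normal_bot
    · exact hNn
    · exact Subgroup.normal_top
  · intro i
    fin_cases i
    · left
      intro q hq hqd
      have : (⊥ : Subgroup G).relIndex N = Nat.card N := Subgroup.relIndex_bot_left N
      exact hNcard q hq (this ▸ hqd)
    · right
      intro q hq hqd
      have : N.relIndex ⊤ = N.index := Subgroup.relIndex_top_right N
      exact hNidx q hq (this ▸ hqd)
  · intro H hHbot hHπ p hp hpd hpπ
    have : Fact p.Prime := ⟨hp⟩
    obtain ⟨P⟩ : Nonempty (Sylow p (Subgroup.normalizer (H : Set G))) := inferInstance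
    have hPle : (P : Subgroup (Subgroup.normalizer (H : Set G)))
        ≤ (Subgroup.centralizer (H : Set G)).subgroupOf (Subgroup.normalizer (H : Set G)) := by
      intro x hx
      rw [Subgroup.mem_subgroupOf, Subgroup.mem_centralizer_iff]
      intro h hh
      have hxN : (x : G) ∈ N := by
        rw [hN]
        intro r hr hrd
        obtain ⟨j, hj⟩ := (IsPGroup.iff_orderOf.mp P.isPGroup') ⟨x, hx⟩
        rw [Subgroup.orderOf_mk] at hj
        rw [Subgroup.orderOf_coe, hj] at hrd
        have := (Nat.prime_dvd_prime_iff_eq hr hp).mp (hr.dvd_of_dvd_pow hrd)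
        rw [this]; exact hpπ
      have hc1 : (x : G) * h * (x : G)⁻¹ * h⁻¹ ∈ H :=
        mul_mem ((Subgroup.mem_normalizer_iff.mp x.2 h).mp hh) (inv_mem hh)
      have hc2 : (x : G) * h * (x : G)⁻¹ * h⁻¹ ∈ N := by
        have e : (x : G) * h * (x : G)⁻¹ * h⁻¹ = (x : G) * (h * (x : G)⁻¹ * h⁻¹) := by group
        rw [e]
        exact mul_mem hxN (hNn.conj_mem _ (inv_mem hxN) h)
      have hc3 : orderOf ((x : G) * h * (x : G)⁻¹ * h⁻¹) = 1 := by
        by_contra hne
        obtain ⟨r, hr, hrd⟩ := Nat.exists_prime_and_dvd hne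
        have h1 : r ∈ π := (hN _).mp hc2 r hr hrd
        have h2 : orderOf (⟨_, hc1⟩ : H) ∣ Nat.card H := orderOf_dvd_natCard _
        rw [Subgroup.orderOf_mk] at h2
        exact hHπ r hr (hrd.trans h2) h1
      have hc4 := orderOf_eq_one_iff.mp hc3
      calc h * (x : G) = ((x : G) * h * (x : G)⁻¹ * h⁻¹)⁻¹ * ((x : G) * h) := by group
        _ = (x : G) * h := by rw [hc4, inv_one, one_mul]
    exact P.not_dvd_index (hpd.trans (Subgroup.index_dvd_of_le hPle))

theorem backward {G : Type*} [Group G] [Finite G] (π : Set ℕ)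
    (n : ℕ) (H : Fin (n + 1) → Subgroup G) (h0 : H 0 = ⊥) (hlast : H (Fin.last n) = ⊤)
    (hmono : Monotone H) (hnorm : ∀ i, (H i).Normal)
    (hidx : ∀ i : Fin n, (∀ q : ℕ, q.Prime → q ∣ (H i.castSucc).relIndex (H i.succ) → q ∈ π) ∨
        (∀ q : ℕ, q.Prime → q ∣ (H i.castSucc).relIndex (H i.succ) → q ∉ π))
    (hhom : ∀ H : Subgroup G, H ≠ ⊥ → (∀ p : ℕ, p.Prime → p ∣ Nat.card ↥H → p ∉ π) →
        ∀ p : ℕ, p.Prime → p ∣ (Subgroup.centralizer (H : Set G)).relIndex (Subgroup.normalizer (H : Set G)) → p ∉ π) :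
    PiElts π G := by
  have hE := ep_of_hhom π hhom
  have key : ∀ i : Fin (n + 1), PiElts π ↥(H i) := by
    intro i
    induction i using Fin.induction with
    | zero =>
      rw [h0]
      refine ⟨⊤, fun x => ⟨fun _ p hp hpd => ?_, fun _ => Subgroup.mem_top x⟩⟩
      have hx : x = 1 := Subsingleton.elim _ _
      rw [hx, orderOf_one] at hpd
      exact absurd (Nat.dvd_one.mp hpd) hp.ne_one
    | succ i ih =>
      have hle : H i.castSucc ≤ H i.succ := hmono (Fin.castSucc_lt_succ).le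
      have hKn : ((H i.castSucc).subgroupOf (H i.succ)).Normal := by
        have := hnorm i.castSucc
        infer_instance
      refine piElts_main π (ep_subgroup π hE _) ((H i.castSucc).subgroupOf (H i.succ))
        (piElts_of_mulEquiv π (Subgroup.subgroupOfEquivOfLe hle).symm ih) ?_
      have hcard : Nat.card (↥(H i.succ) ⧸ (H i.castSucc).subgroupOf (H i.succ))
          = (H i.castSucc).relIndex (H i.succ) := by
        rw [← Subgroup.index_eq_card]; rfl
      rcases hidx i with h | h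
      · refine ⟨⊤, fun x => ⟨fun _ p hp hpd => ?_, fun _ => Subgroup.mem_top x⟩⟩
        exact h p hp (hcard ▸ (hpd.trans (orderOf_dvd_natCard x)))
      · refine ⟨⊥, fun x => ⟨fun hx p hp hpd => ?_, fun hx => ?_⟩⟩
        · rw [Subgroup.mem_bot] at hx
          rw [hx, orderOf_one] at hpd
          exact absurd (Nat.dvd_one.mp hpd) hp.ne_one
        · rw [Subgroup.mem_bot, ← orderOf_eq_one_iff]
          by_contra hne
          obtain ⟨p, hp, hpd⟩ := Nat.exists_prime_and_dvd hne
          exact h p hp (hcard ▸ (hpd.trans (orderOf_dvd_natCard x))) (hx p hp hpd)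
  have hfin := key (Fin.last n)
  rw [hlast] at hfin
  exact piElts_of_mulEquiv π Subgroup.topEquiv hfin

/-- Let π be a set of primes and G a finite group. The π-elements of G (elements whose order is divisible only by primes of π) form a subgroup if and only if G is π-separable (it has a chain of normal subgroups from 1 to G with each successive index divisible only by primes in π or only by primes outside π) and N_G(H)/C_G(H) is a π'-group for every nontrivial π'-subgroup H of G. -/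
theorem result {G : Type*} [Group G] [Finite G] (π : Set ℕ)
    (hπ : ∀ p ∈ π, p.Prime) :
    (∃ K : Subgroup G, ∀ x : G, x ∈ K ↔ ∀ p : ℕ, p.Prime → p ∣ orderOf x → p ∈ π) ↔
    ((∃ (n : ℕ) (H : Fin (n + 1) → Subgroup G), H 0 = ⊥ ∧ H (Fin.last n) = ⊤ ∧ Monotone H ∧ (∀ i, (H i).Normal) ∧
      ∀ i : Fin n, (∀ q : ℕ, q.Prime → q ∣ (H i.castSucc).relIndex (H i.succ) → q ∈ π) ∨
        (∀ q : ℕ, q.Prime → q ∣ (H i.castSucc).relIndex (H i.succ) → q ∉ π)) ∧
     (∀ H : Subgroup G, H ≠ ⊥ → (∀ p : ℕ, p.Prime → p ∣ Nat.card ↥H → p ∉ π) →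
        ∀ p : ℕ, p.Prime → p ∣ (Subgroup.centralizer (H : Set G)).relIndex (Subgroup.normalizer (H : Set G)) → p ∉ π)) := by
  constructor
  · rintro ⟨N, hN⟩
    exact forward π N hN
  · rintro ⟨⟨n, H, h0, hlast, hmono, hnorm, hidx⟩, hhom⟩
    exact backward π n H h0 hlast hmono hnorm hidx hhom

end Cfsg.Agent.S4050
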