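import Cfsg.Statements.S4056
import Cfsg.Agent.Lib.helper71.Frattini
-- import your own Cfsg.Agent.* helpers here

set_option autoImplicit false
open Cfsg

namespace Cfsg.Agent.S4056

open Cfsg.Agent.Lib.helper71

/-- A computation in a group where the commutator `c` of `x` and `y` is central. -/
theorem class2_aux {G : Type*} [Group G] (x y c : G)
    (hcx : x * c = c * x) (hcy : y * c = c * y) (hxy : x * y = c * (y * x))
    (hx4 : x ^ 4 = 1) (hy4 : y ^ 4 = 1) (hxy4 : (x * y) ^ 4 = 1) :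
    c ^ 2 = 1 ∧ x ^ 2 * y = y * x ^ 2 := by
  have hcx' : ∀ w, x * (c * w) = c * (x * w) := fun w => by rw [← mul_assoc, hcx, mul_assoc]
  have hcy' : ∀ w, y * (c * w) = c * (y * w) := fun w => by rw [← mul_assoc, hcy, mul_assoc]
  have hxy' : ∀ w, x * (y * w) = c * (y * (x * w)) := fun w => by
    rw [← mul_assoc, hxy]
    simp only [mul_assoc]
  have h2 : x ^ 4 * y = c ^ 4 * (y * x ^ 4) := by
    simp only [pow_succ, pow_zero, one_mul, mul_assoc, hxy, hxy', hcx, hcx', hcy, hcy']
  have hc4 : c ^ 4 = 1 := by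
    rw [hx4, one_mul, mul_one] at h2
    exact mul_right_cancel (h2.symm.trans (one_mul y).symm)
  have h3 : (x * y) ^ 4 = c ^ 10 * (y ^ 4 * x ^ 4) := by
    simp only [pow_succ, pow_zero, one_mul, mul_assoc, hxy, hxy', hcx, hcx', hcy, hcy']
  have hc10 : c ^ 10 = 1 := by
    rw [hxy4, hy4, hx4, mul_one, mul_one] at h3
    exact h3.symm
  have hc2 : c ^ 2 = 1 := by
    have e : c ^ 10 = c ^ 2 * (c ^ 4) ^ 2 := by rw [← pow_mul, ← pow_add]
    rw [e, hc4, one_pow, mul_one] at hc10
    exact hc10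
  refine ⟨hc2, ?_⟩
  have h1 : x ^ 2 * y = c ^ 2 * (y * x ^ 2) := by
    simp only [pow_succ, pow_zero, one_mul, mul_assoc, hxy, hxy', hcx, hcx', hcy, hcy']
  rw [h1, hc2, one_mul]


/-- In a finite 2-group of nilpotency class at most 2 and exponent dividing 4, the Frattini subgroup lies in the centre and is elementary abelian. -/
theorem result {P : Type*} [Group P] [Finite P] (hP : IsPGroup 2 P)
    (hcl : Group.nilpotencyClass P ≤ 2) (hexp : Monoid.exponent P ∣ 4) :
    frattini P ≤ Subgroup.center P ∧ Cfsg.IsElementaryAbelian 2 (frattini P) := by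
  have : Fact (Nat.Prime 2) := ⟨Nat.prime_two⟩
  have hnil : Group.IsNilpotent P := hP.isNilpotent
  have hcen : ∀ x y : P, x * y * x⁻¹ * y⁻¹ ∈ Subgroup.center P := by
    intro x y
    have h2 : Subgroup.upperCentralSeries P 2 = ⊤ :=
      Subgroup.upperCentralSeries_eq_top_iff_nilpotencyClass_le.mpr hcl
    have hx : x ∈ Subgroup.upperCentralSeries P (1 + 1) := h2 ▸ Subgroup.mem_top x
    rw [Subgroup.mem_upperCentralSeries_succ_iff] at hx
    have := hx y
    rwa [Subgroup.upperCentralSeries_one] at this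
  have hpow4 : ∀ x : P, x ^ 4 = 1 := by
    intro x
    obtain ⟨c, hc⟩ := hexp
    rw [hc, pow_mul, Monoid.pow_exponent_eq_one, one_pow]
  have key : ∀ x y : P, (x * y * x⁻¹ * y⁻¹) ^ 2 = 1 ∧ x ^ 2 * y = y * x ^ 2 := by
    intro x y
    have hc := hcen x y
    rw [Subgroup.mem_center_iff] at hc
    exact class2_aux x y _ (hc x) (hc y) (by group) (hpow4 x) (hpow4 y) (hpow4 _)
  let Z₂ : Subgroup P :=
    { carrier := {z | z ∈ Subgroup.center P ∧ z ^ 2 = 1}
      mul_mem' := by
        rintro a b ⟨ha, ha2⟩ ⟨hb, hb2⟩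
        refine ⟨Subgroup.mul_mem _ ha hb, ?_⟩
        rw [Subgroup.mem_center_iff] at ha
        have hab : Commute a b := (ha b).symm
        rw [hab.mul_pow, ha2, hb2, one_mul]
      one_mem' := ⟨Subgroup.one_mem _, one_pow 2⟩
      inv_mem' := by
        rintro a ⟨ha, ha2⟩
        exact ⟨Subgroup.inv_mem _ ha, by rw [inv_pow, ha2, inv_one]⟩ }
  have hΦ : frattini P ≤ Z₂ := by
    apply frattini_le_of_comm_pow Nat.prime_two Z₂
    · intro x y
      exact ⟨hcen x y, (key x y).1⟩
    · intro x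
      refine ⟨?_, ?_⟩
      · rw [Subgroup.mem_center_iff]
        intro g
        exact ((key x g).2).symm
      · rw [← pow_mul]
        exact hpow4 x
  refine ⟨fun z hz => (hΦ hz).1, ?_, fun a ha => (hΦ ha).2⟩
  rw [isMulCommutative_iff]
  rintro ⟨a, ha⟩ ⟨b, hb⟩
  apply Subtype.ext
  have hbc := (hΦ hb).1
  rw [Subgroup.mem_center_iff] at hbc
  exact hbc a

end Cfsg.Agent.S4056
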