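import Cfsg.Statements.S4058
import Cfsg.Agent.Lib.helper3.PGroupFrattini
import Cfsg.Agent.Lib.helper78.FrobSchur2
import Cfsg.Agent.Lib.helper82.CharQuot
import Cfsg.Agent.Lib.helper84.LinTwist

set_option autoImplicit false
set_option linter.style.haveILetI false
set_option warn.classDefReducibility false
open Cfsg

namespace Cfsg.Agent.S4058

open Cfsg.Agent.Lib.helper83 Cfsg.Agent.Lib.helper84 Cfsg.Agent.Lib.helper78
open scoped ComplexConjugate

section
variable {G : Type*} [Group G] [Finite G]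

theorem sq_eq_one (hG : IsPGroup 2 G) (q : G ⧸ frattini G) : q * q = 1 := by
  obtain ⟨g, rfl⟩ := QuotientGroup.mk_surjective q
  rw [← QuotientGroup.mk_mul, QuotientGroup.eq_one_iff, ← pow_two]
  haveI : Fact (Nat.Prime 2) := ⟨Nat.prime_two⟩
  exact Cfsg.Agent.Lib.helper3.pow_prime_mem_frattini hG g

theorem quot_comm (hG : IsPGroup 2 G) (a b : G ⧸ frattini G) : a * b = b * a := by
  have ha := sq_eq_one hG a
  have hb := sq_eq_one hG b
  have hba := sq_eq_one hG (b * a)
  calc a * b = (b * b) * (a * b) * (a * a) := by rw [ha, hb]; group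
    _ = b * ((b * a) * (b * a)) * a := by group
    _ = b * a := by rw [hba]; group

/-- The Frattini quotient of a `2`-group as a commutative group. -/
noncomputable def quotCommGroup (hG : IsPGroup 2 G) : CommGroup (G ⧸ frattini G) :=
  { (inferInstance : Group (G ⧸ frattini G)) with mul_comm := quot_comm hG }

end

/-- Let G be a finite 2-group with #(G/Φ(G)) ≥ 2^(2k+1). Then the number of elements x of G with x² = 1 is divisible by 2^(k+1). -/
theorem result {G : Type*} [Group G] [Finite G] (hG : IsPGroup 2 G) (k : ℕ)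
    (hgen : 2 ^ (2 * k + 1) ≤ Nat.card (G ⧸ frattini G)) :
    2 ^ (k + 1) ∣ Nat.card {x : G // x ^ 2 = 1} := by
  classical
  haveI : Fact (Nat.Prime 2) := ⟨Nat.prime_two⟩
  have := Fintype.ofFinite G
  have := Fintype.ofFinite (IrrCharacter G)
  letI cg : CommGroup (G ⧸ frattini G) := quotCommGroup hG
  have hLcard : Nat.card ((G ⧸ frattini G) →* ℂˣ) = Nat.card (G ⧸ frattini G) :=
    CommGroup.card_monoidHom_of_hasEnoughRootsOfUnity (G ⧸ frattini G) ℂ
  haveI : Finite ((G ⧸ frattini G) →* ℂˣ) :=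
    Nat.finite_of_card_ne_zero (by rw [hLcard]; exact Nat.card_pos.ne')
  let φ : ((G ⧸ frattini G) →* ℂˣ) →* (G →* ℂˣ) :=
    MonoidHom.compHom' (QuotientGroup.mk' (frattini G))
  have hφapp : ∀ (lam : (G ⧸ frattini G) →* ℂˣ) (g : G), φ lam g = lam (QuotientGroup.mk g) :=
    fun lam g => rfl
  have hφinj : Function.Injective φ := by
    intro a b hab
    apply MonoidHom.ext
    intro q
    obtain ⟨g, rfl⟩ := QuotientGroup.mk_surjective q
    have h1 := DFunLike.congr_fun hab g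
    rw [hφapp, hφapp] at h1
    rw [h1]
  letI act : MulAction ((G ⧸ frattini G) →* ℂˣ) (IrrCharacter G) :=
    MulAction.compHom (IrrCharacter G) φ
  have hsmul : ∀ (lam : (G ⧸ frattini G) →* ℂˣ) (χ : IrrCharacter G) (g : G),
      ((lam • χ : IrrCharacter G) : G → ℂ) g =
        ((lam (QuotientGroup.mk g) : ℂˣ) : ℂ) * (χ : G → ℂ) g := fun lam χ g => rfl
  obtain ⟨d, hd⟩ : ∃ d, Nat.card (G ⧸ frattini G) = 2 ^ d :=
    IsPGroup.iff_card.1 (hG.to_quotient (frattini G))
  have hdk : 2 * k + 1 ≤ d := by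
    rw [hd] at hgen
    exact (Nat.pow_le_pow_iff_right (by norm_num)).1 hgen
  obtain ⟨n, hn⟩ := IsPGroup.iff_card.1 hG
  have hcount := fs_count (G := G)
  choose e he using fun χ : IrrCharacter G => irr_fs_indicator χ
  let F : IrrCharacter G → ℤ := fun χ => e χ * (charDegree (χ : G → ℂ) : ℤ)
  have hN : (Nat.card {s : G // s * s = 1} : ℤ) = ∑ χ : IrrCharacter G, F χ := by
    have h1 : ((Nat.card {s : G // s * s = 1} : ℤ) : ℂ) =
        ((∑ χ : IrrCharacter G, F χ : ℤ) : ℂ) := by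
      push_cast
      rw [hcount]
      refine Finset.sum_congr rfl fun χ _ => ?_
      rw [(he χ).2.1, irr_one_eq_charDegree]
      show (e χ : ℂ) * (charDegree (χ : G → ℂ) : ℂ) =
        ((e χ * (charDegree (χ : G → ℂ) : ℤ) : ℤ) : ℂ)
      push_cast
      rfl
    exact_mod_cast h1
  have hFinv : ∀ (lam : (G ⧸ frattini G) →* ℂˣ) (χ : IrrCharacter G), F (lam • χ) = F χ := by
    intro lam χ
    have hdeg : charDegree ((lam • χ : IrrCharacter G) : G → ℂ) = charDegree (χ : G → ℂ) := by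
      unfold charDegree
      rw [hsmul lam χ 1]
      simp
    have hind : (e (lam • χ) : ℂ) = (e χ : ℂ) := by
      rw [← (he (lam • χ)).2.1, ← (he χ).2.1]
      congr 1
      refine Finset.sum_congr rfl fun s _ => ?_
      rw [hsmul lam χ (s * s)]
      have h1 : (QuotientGroup.mk (s * s) : G ⧸ frattini G) = 1 := by
        rw [QuotientGroup.mk_mul]
        exact sq_eq_one hG _
      rw [h1, map_one]
      simp
    have hind' : e (lam • χ) = e χ := by exact_mod_cast hind
    show e (lam • χ) * _ = e χ * _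
    rw [hind', hdeg]
  -- divisibility for each orbit
  have horb : ∀ χ₀ : IrrCharacter G,
      2 ^ (k + 1) ∣ Nat.card (MulAction.orbit ((G ⧸ frattini G) →* ℂˣ) χ₀) *
        charDegree (χ₀ : G → ℂ) := by
    intro χ₀
    have hos : Nat.card (MulAction.orbit ((G ⧸ frattini G) →* ℂˣ) χ₀) *
        Nat.card (MulAction.stabilizer ((G ⧸ frattini G) →* ℂˣ) χ₀) =
        Nat.card ((G ⧸ frattini G) →* ℂˣ) := by
      have := Fintype.ofFinite ((G ⧸ frattini G) →* ℂˣ)
      have := Fintype.ofFinite (MulAction.orbit ((G ⧸ frattini G) →* ℂˣ) χ₀)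
      have := Fintype.ofFinite (MulAction.stabilizer ((G ⧸ frattini G) →* ℂˣ) χ₀)
      rw [Nat.card_eq_fintype_card, Nat.card_eq_fintype_card, Nat.card_eq_fintype_card]
      exact MulAction.card_orbit_mul_card_stabilizer_eq_card_group _ χ₀
    rw [hLcard, hd] at hos
    have hstab : Nat.card (MulAction.stabilizer ((G ⧸ frattini G) →* ℂˣ) χ₀) ≤
        (charDegree (χ₀ : G → ℂ)) ^ 2 := by
      apply card_le_degree_sq_of_twist_fixed
        (φ.comp (MulAction.stabilizer ((G ⧸ frattini G) →* ℂˣ) χ₀).subtype)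
        (hφinj.comp Subtype.val_injective) χ₀
      intro s g
      have h1 : (s : (G ⧸ frattini G) →* ℂˣ) • χ₀ = χ₀ := s.2
      have h2 := congrArg (fun ψ : IrrCharacter G => (ψ : G → ℂ) g) h1
      exact h2
    obtain ⟨a, ha⟩ : ∃ a, charDegree (χ₀ : G → ℂ) = 2 ^ a := by
      have h1 := Cfsg.Agent.Lib.helper82.irr_degree_dvd_card χ₀
      rw [hn] at h1
      obtain ⟨a, -, ha⟩ := (Nat.dvd_prime_pow Nat.prime_two).1 h1
      exact ⟨a, ha⟩
    obtain ⟨s, hs, hs'⟩ : ∃ s, s ≤ d ∧
        Nat.card (MulAction.stabilizer ((G ⧸ frattini G) →* ℂˣ) χ₀) = 2 ^ s :=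
      (Nat.dvd_prime_pow Nat.prime_two).1 (Dvd.intro_left _ hos)
    rw [hs'] at hos hstab
    rw [ha, ← pow_mul] at hstab
    have hs2 : s ≤ a * 2 := (Nat.pow_le_pow_iff_right (by norm_num)).1 hstab
    have horbit : Nat.card (MulAction.orbit ((G ⧸ frattini G) →* ℂˣ) χ₀) = 2 ^ (d - s) := by
      have h1 : 2 ^ d = 2 ^ (d - s) * 2 ^ s := by rw [← pow_add]; congr 1; omega
      rw [h1] at hos
      exact Nat.eq_of_mul_eq_mul_right (by positivity) hos
    rw [horbit, ha, ← pow_add]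
    exact pow_dvd_pow 2 (by omega)
  -- orbit decomposition of the sum
  have hdvd : (2 ^ (k + 1) : ℤ) ∣ ∑ χ : IrrCharacter G, F χ := by
    rw [← Finset.sum_fiberwise (Finset.univ : Finset (IrrCharacter G))
      (fun χ => (Quotient.mk'' χ : MulAction.orbitRel.Quotient
        ((G ⧸ frattini G) →* ℂˣ) (IrrCharacter G))) F]
    apply Finset.dvd_sum
    intro ω _
    obtain ⟨χ₀, rfl⟩ := Quotient.exists_rep ω
    have hmem : ∀ χ : IrrCharacter G,
        (Quotient.mk'' χ : MulAction.orbitRel.Quotient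
          ((G ⧸ frattini G) →* ℂˣ) (IrrCharacter G)) = Quotient.mk'' χ₀ ↔
        χ ∈ MulAction.orbit ((G ⧸ frattini G) →* ℂˣ) χ₀ := by
      intro χ
      rw [Quotient.eq'']
      exact MulAction.orbitRel_apply
    have hconst : ∀ χ ∈ (Finset.univ : Finset (IrrCharacter G)).filter (fun χ =>
        (Quotient.mk'' χ : MulAction.orbitRel.Quotient
          ((G ⧸ frattini G) →* ℂˣ) (IrrCharacter G)) = Quotient.mk'' χ₀), F χ = F χ₀ := by
      intro χ hχ
      rw [Finset.mem_filter] at hχ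
      obtain ⟨lam, rfl⟩ := (hmem χ).1 hχ.2
      exact hFinv lam χ₀
    rw [Finset.sum_congr rfl hconst, Finset.sum_const, nsmul_eq_mul]
    have hcard : ((Finset.univ : Finset (IrrCharacter G)).filter (fun χ =>
        (Quotient.mk'' χ : MulAction.orbitRel.Quotient
          ((G ⧸ frattini G) →* ℂˣ) (IrrCharacter G)) = Quotient.mk'' χ₀)).card =
        Nat.card (MulAction.orbit ((G ⧸ frattini G) →* ℂˣ) χ₀) := by
      rw [Nat.card_eq_fintype_card, ← Fintype.card_subtype]
      exact Fintype.card_congr (Equiv.subtypeEquivRight hmem)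
    rw [hcard]
    show (2 ^ (k + 1) : ℤ) ∣ (Nat.card (MulAction.orbit ((G ⧸ frattini G) →* ℂˣ) χ₀) : ℤ) *
      (e χ₀ * (charDegree (χ₀ : G → ℂ) : ℤ))
    have h1 : ((2 ^ (k + 1) : ℕ) : ℤ) ∣
        ((Nat.card (MulAction.orbit ((G ⧸ frattini G) →* ℂˣ) χ₀) *
          charDegree (χ₀ : G → ℂ) : ℕ) : ℤ) := Int.natCast_dvd_natCast.2 (horb χ₀)
    push_cast at h1
    have h2 : (Nat.card (MulAction.orbit ((G ⧸ frattini G) →* ℂˣ) χ₀) : ℤ) *
        (e χ₀ * (charDegree (χ₀ : G → ℂ) : ℤ)) =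
        ((Nat.card (MulAction.orbit ((G ⧸ frattini G) →* ℂˣ) χ₀) : ℤ) *
          (charDegree (χ₀ : G → ℂ) : ℤ)) * e χ₀ := by ring
    rw [h2]
    exact Dvd.dvd.mul_right h1 _
  rw [← hN] at hdvd
  have hfin : 2 ^ (k + 1) ∣ Nat.card {s : G // s * s = 1} := by
    have : ((2 ^ (k + 1) : ℕ) : ℤ) ∣ (Nat.card {s : G // s * s = 1} : ℤ) := by
      push_cast
      exact hdvd
    exact Int.natCast_dvd_natCast.1 this
  have hcongr : Nat.card {x : G // x ^ 2 = 1} = Nat.card {s : G // s * s = 1} :=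
    Nat.card_congr (Equiv.subtypeEquivRight (fun x => by rw [pow_two]))
  rw [hcongr]
  exact hfin

end Cfsg.Agent.S4058
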