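import Cfsg.Statements.S4065
-- import your own Cfsg.Agent.* helpers here

set_option autoImplicit false
open Cfsg

namespace Cfsg.Agent.S4065

theorem exists_eq_smul_add {F : Type*} [Field F] (M B : Matrix (Fin 2) (Fin 2) F)
    (hB : B 0 1 ≠ 0 ∨ B 1 0 ≠ 0 ∨ B 0 0 ≠ B 1 1) (h : M * B = B * M) :
    ∃ α β : F, M = α • (1 : Matrix (Fin 2) (Fin 2) F) + β • B := by
  have h00 := congrFun (congrFun h 0) 0
  have h01 := congrFun (congrFun h 0) 1
  have h10 := congrFun (congrFun h 1) 0
  have h11 := congrFun (congrFun h 1) 1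
  simp only [Matrix.mul_apply, Fin.sum_univ_two] at h00 h01 h10 h11
  by_cases hb : B 0 1 ≠ 0
  · refine ⟨M 0 0 - M 0 1 / B 0 1 * B 0 0, M 0 1 / B 0 1, ?_⟩
    ext i j
    fin_cases i <;> fin_cases j <;> simp
    · field_simp
    · field_simp
      linear_combination -h00
    · field_simp
      linear_combination -h01
  by_cases hc : B 1 0 ≠ 0
  · refine ⟨M 0 0 - M 1 0 / B 1 0 * B 0 0, M 1 0 / B 1 0, ?_⟩
    ext i j
    fin_cases i <;> fin_cases j <;> simp
    · field_simp
      linear_combination h00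
    · field_simp
    · field_simp
      linear_combination h10
  rw [not_not] at hb hc
  have had : B 0 0 ≠ B 1 1 := by
    rcases hB with h | h | h
    · exact absurd hb h
    · exact absurd hc h
    · exact h
  have hsub : B 0 0 - B 1 1 ≠ 0 := sub_ne_zero.mpr had
  have hf : M 0 1 = 0 := by
    have : M 0 1 * (B 0 0 - B 1 1) = 0 := by
      rw [hb] at h01
      linear_combination -h01
    rcases mul_eq_zero.mp this with h | h
    · exact h
    · exact absurd h hsub
  have hg : M 1 0 = 0 := by
    have : M 1 0 * (B 0 0 - B 1 1) = 0 := by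
      rw [hc] at h10
      linear_combination h10
    rcases mul_eq_zero.mp this with h | h
    · exact h
    · exact absurd h hsub
  refine ⟨M 0 0 - (M 0 0 - M 1 1) / (B 0 0 - B 1 1) * B 0 0,
    (M 0 0 - M 1 1) / (B 0 0 - B 1 1), ?_⟩
  ext i j
  fin_cases i <;> fin_cases j <;> simp [hb, hc, hf, hg]
  field_simp
  ring

theorem comm_of_comm_nonscalar {F : Type*} [Field F] (A B C : Matrix (Fin 2) (Fin 2) F)
    (hB : B 0 1 ≠ 0 ∨ B 1 0 ≠ 0 ∨ B 0 0 ≠ B 1 1) (hAB : A * B = B * A) (hCB : C * B = B * C) :
    A * C = C * A := by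
  obtain ⟨α, β, rfl⟩ := exists_eq_smul_add A B hB hAB
  obtain ⟨γ, δ, rfl⟩ := exists_eq_smul_add C B hB hCB
  simp only [add_mul, mul_add, Matrix.smul_mul, Matrix.mul_smul, Matrix.one_mul, Matrix.mul_one,
    smul_smul]
  rw [mul_comm γ α, mul_comm δ β, mul_comm δ α, mul_comm γ β]
  abel

theorem nonscalar_of_ne_one {F : Type*} [Field F] [CharP F 2]
    (B : Matrix.SpecialLinearGroup (Fin 2) F) (hB : B ≠ 1) :
    B.1 0 1 ≠ 0 ∨ B.1 1 0 ≠ 0 ∨ B.1 0 0 ≠ B.1 1 1 := by
  by_contra hcon
  push Not at hcon
  obtain ⟨h1, h2, h3⟩ := hcon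
  apply hB
  have hdet := B.2
  rw [Matrix.det_fin_two, h1, h2, ← h3] at hdet
  have h2' : (2 : F) = 0 := by
    have := CharP.cast_eq_zero F 2
    exact_mod_cast this
  have hsq : (B.1 0 0 - 1) ^ 2 = 0 := by
    linear_combination hdet - B.1 0 0 * h2' + h2'
  have ha : B.1 0 0 = 1 := by
    have := pow_eq_zero_iff (n := 2) (by norm_num) |>.mp hsq
    exact sub_eq_zero.mp this
  ext i j
  fin_cases i <;> fin_cases j <;> simp [h1, h2, ha, ← h3]

theorem center_eq_bot {F : Type*} [Field F] [CharP F 2] :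
    Subgroup.center (Matrix.SpecialLinearGroup (Fin 2) F) = ⊥ := by
  rw [eq_bot_iff]
  intro A hA
  rw [Subgroup.mem_bot]
  by_contra hne
  rcases nonscalar_of_ne_one A hne with h | h | h
  all_goals
    obtain ⟨r, _, hr⟩ := Matrix.SpecialLinearGroup.mem_center_iff.mp hA
    have e01 := congrFun (congrFun hr 0) 1
    have e10 := congrFun (congrFun hr 1) 0
    have e00 := congrFun (congrFun hr 0) 0
    have e11 := congrFun (congrFun hr 1) 1
    simp at e01 e10 e00 e11
  · exact h e01.symm
  · exact h e10.symm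
  · exact h (e00.symm.trans e11)

theorem comm_trans_sl2 {F : Type*} [Field F] [CharP F 2]
    (A B C : Matrix.SpecialLinearGroup (Fin 2) F) (hB : B ≠ 1) (hAB : A * B = B * A)
    (hCB : C * B = B * C) : A * C = C * A := by
  apply Subtype.ext
  have h1 : A.1 * B.1 = B.1 * A.1 := by
    have := congrArg Subtype.val hAB
    simpa using this
  have h2 : C.1 * B.1 = B.1 * C.1 := by
    have := congrArg Subtype.val hCB
    simpa using this
  simpa using comm_of_comm_nonscalar A.1 B.1 C.1 (nonscalar_of_ne_one B hB) h1 h2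

theorem comm_trans_psl2 {F : Type*} [Field F] [CharP F 2]
    (a b c : Matrix.ProjectiveSpecialLinearGroup (Fin 2) F) (hb : b ≠ 1) (hab : a * b = b * a)
    (hcb : c * b = b * c) : a * c = c * a := by
  have hinj : ∀ X Y : Matrix.SpecialLinearGroup (Fin 2) F,
      (X : Matrix.ProjectiveSpecialLinearGroup (Fin 2) F) = Y → X = Y := by
    intro X Y hXY
    rw [QuotientGroup.eq, center_eq_bot, Subgroup.mem_bot] at hXY
    exact inv_mul_eq_one.mp hXY
  induction a using QuotientGroup.induction_on with
  | H A =>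
  induction b using QuotientGroup.induction_on with
  | H B =>
  induction c using QuotientGroup.induction_on with
  | H C =>
  have hB : B ≠ 1 := by
    rintro rfl
    exact hb rfl
  have h1 : A * B = B * A := hinj _ _ (by simpa using hab)
  have h2 : C * B = B * C := hinj _ _ (by simpa using hcb)
  have := comm_trans_sl2 A B C hB h1 h2
  rw [← QuotientGroup.mk_mul, ← QuotientGroup.mk_mul, this]


/-- In a group where commuting is transitive on non-identity elements, every element
centralizer is a TI-subset. -/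
theorem isTI_centralizer_of_CT {G : Type*} [Group G]
    (hCT : ∀ a b c : G, b ≠ 1 → a * b = b * a → c * b = b * c → a * c = c * a) (x : G) :
    Cfsg.IsTISubset (Subgroup.centralizer ({x} : Set G) : Set G) := by
  intro g hg y hy hgy
  by_contra hy1
  apply hg
  rw [Subgroup.mem_set_normalizer_iff]
  intro k
  simp only [SetLike.mem_coe, Subgroup.mem_centralizer_singleton_iff] at hy hgy ⊢
  by_cases hx : x = 1
  · subst hx
    simp
  have hgy1 : g * y * g⁻¹ ≠ 1 := by
    intro h1
    apply hy1
    have : y = g⁻¹ * (g * y * g⁻¹) * g := by group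
    rw [this, h1]
    group
  constructor
  · intro hk
    -- k commutes with x, y commutes with x, so k commutes with y
    have hky : k * y = y * k := hCT k x y hx hk hy
    have h1 : (g * k * g⁻¹) * (g * y * g⁻¹) = (g * y * g⁻¹) * (g * k * g⁻¹) := by
      calc (g * k * g⁻¹) * (g * y * g⁻¹) = g * (k * y) * g⁻¹ := by group
        _ = g * (y * k) * g⁻¹ := by rw [hky]
        _ = (g * y * g⁻¹) * (g * k * g⁻¹) := by group
    exact hCT _ _ _ hgy1 h1 hgy.symm
  · intro hk
    have h1 : (g * k * g⁻¹) * (g * y * g⁻¹) = (g * y * g⁻¹) * (g * k * g⁻¹) :=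
      hCT _ _ _ hx hk hgy
    have hky : k * y = y * k := by
      calc k * y = g⁻¹ * ((g * k * g⁻¹) * (g * y * g⁻¹)) * g := by group
        _ = g⁻¹ * ((g * y * g⁻¹) * (g * k * g⁻¹)) * g := by rw [h1]
        _ = y * k := by group
    exact hCT _ _ _ hy1 hky hy.symm


/-- Let F be a finite field with 2ⁿ elements, n ≥ 2. In PSL₂(F) the centralizer of every element meets each of its conjugates by elements outside its normalizer trivially. -/
theorem result (n : ℕ) (hn : 2 ≤ n)
    (x : Matrix.ProjectiveSpecialLinearGroup (Fin 2) (GaloisField 2 n)) :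
    Cfsg.IsTISubset (Subgroup.centralizer ({x} : Set (Matrix.ProjectiveSpecialLinearGroup (Fin 2) (GaloisField 2 n))) :
      Set (Matrix.ProjectiveSpecialLinearGroup (Fin 2) (GaloisField 2 n))) := by
  exact isTI_centralizer_of_CT (fun a b c hb hab hcb => comm_trans_psl2 a b c hb hab hcb) x

end Cfsg.Agent.S4065
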