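import Cfsg.Statements.S4066
import Mathlib
import Cfsg.Agent.Lib.helper1.SZ

set_option autoImplicit false
open Cfsg

namespace Cfsg.Agent.S4066

open Pointwise

/-- The hypothesis is inherited by subgroups. -/
theorem hTI_subgroup {G : Type*} [Group G]
    (hTI : ∀ x : G, Cfsg.IsTISubset (Subgroup.centralizer ({x} : Set G) : Set G)) (H : Subgroup G) :
    ∀ x : H, Cfsg.IsTISubset (Subgroup.centralizer ({x} : Set H) : Set H) := by
  intro x g hg c hc hgc
  have hmem : ∀ h : H, h ∈ Subgroup.centralizer ({x} : Set H)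
      ↔ (h : G) ∈ Subgroup.centralizer ({(x : G)} : Set G) := by
    intro h
    rw [Subgroup.mem_centralizer_iff, Subgroup.mem_centralizer_iff]
    constructor
    · intro hh y hy
      rw [Set.mem_singleton_iff] at hy; subst hy
      exact congrArg Subtype.val (hh x rfl)
    · intro hh y hy
      rw [Set.mem_singleton_iff] at hy; subst hy
      exact Subtype.ext (hh (y : G) rfl)
  have h1 : (g : G) ∉ Subgroup.normalizer
      ((Subgroup.centralizer ({(x : G)} : Set G) : Subgroup G) : Set G) := by
    intro hgN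
    apply hg
    rw [Subgroup.mem_set_normalizer_iff] at hgN ⊢
    intro h
    rw [SetLike.mem_coe, SetLike.mem_coe, hmem, hmem]
    exact hgN (h : G)
  have h2 := hTI (x : G) (g : G) h1 (c : G) ((hmem c).mp hc) ((hmem _).mp hgc)
  exact Subtype.ext h2

/-- If the centre is nontrivial, the Sylow subgroups are unique. -/
theorem sylow_unique_of_center {G : Type*} [Group G] [Finite G]
    (hTI : ∀ x : G, Cfsg.IsTISubset (Subgroup.centralizer ({x} : Set G) : Set G))
    (z : G) (hzc : z ∈ Subgroup.center G) (hz1 : z ≠ 1)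
    {p : ℕ} [Fact p.Prime] (P Q : Sylow p G) : P = Q := by
  have hzc' := Subgroup.mem_center_iff.mp hzc
  -- all centralizers are normal
  have hnorm : ∀ (x g : G), g ∈ Subgroup.normalizer
      ((Subgroup.centralizer ({x} : Set G) : Subgroup G) : Set G) := by
    intro x g
    by_contra hg
    apply hz1
    refine hTI x g hg z ?_ ?_
    · rw [SetLike.mem_coe, Subgroup.mem_centralizer_iff]
      intro h hh
      exact hzc' h
    · have e : g * z * g⁻¹ = z := by rw [hzc' g]; group
      rw [e, SetLike.mem_coe, Subgroup.mem_centralizer_iff]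
      intro h hh
      exact hzc' h
  -- every conjugate of u commutes with u
  have hcomm : ∀ (u g : G), (g * u * g⁻¹) * u = u * (g * u * g⁻¹) := by
    intro u g
    have h1 := (Subgroup.mem_set_normalizer_iff.mp (hnorm u g)) u
    have h2 : u ∈ ((Subgroup.centralizer ({u} : Set G) : Subgroup G) : Set G) := by
      rw [SetLike.mem_coe, Subgroup.mem_centralizer_iff]
      intro h hh
      rw [Set.mem_singleton_iff] at hh; subst hh; rfl
    have h3 := h1.mp h2
    rw [SetLike.mem_coe, Subgroup.mem_centralizer_iff] at h3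
    exact (h3 u rfl).symm
  have hle : (P : Subgroup G) ≤ Q := by
    intro u hu
    -- generators of the normal closure commute
    have hgen : ∀ x ∈ Group.conjugatesOfSet ({u} : Set G),
        ∀ y ∈ Group.conjugatesOfSet ({u} : Set G), x * y = y * x := by
      intro x hx y hy
      rw [Group.mem_conjugatesOfSet_iff] at hx hy
      obtain ⟨a, ha, hax⟩ := hx
      obtain ⟨b, hb, hby⟩ := hy
      rw [Set.mem_singleton_iff] at ha hb
      rw [ha] at hax
      rw [hb] at hby
      obtain ⟨c, rfl⟩ := isConj_iff.mp hax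
      obtain ⟨d, rfl⟩ := isConj_iff.mp hby
      have h1 := hcomm u (c⁻¹ * d)
      have e1 : c * u * c⁻¹ * (d * u * d⁻¹) = c * (u * (c⁻¹ * d * u * (c⁻¹ * d)⁻¹)) * c⁻¹ := by
        group
      have e2 : d * u * d⁻¹ * (c * u * c⁻¹) = c * ((c⁻¹ * d * u * (c⁻¹ * d)⁻¹) * u) * c⁻¹ := by
        group
      rw [e1, e2, h1]
    have hcommN := Subgroup.isMulCommutative_closure hgen
    have hpN : ∀ x ∈ Subgroup.closure (Group.conjugatesOfSet ({u} : Set G)),
        ∃ k : ℕ, x ^ p ^ k = 1 := by
      intro x hx
      induction hx using Subgroup.closure_induction with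
      | mem x hx =>
        rw [Group.mem_conjugatesOfSet_iff] at hx
        obtain ⟨a, ha, hax⟩ := hx
        rw [Set.mem_singleton_iff] at ha
        rw [ha] at hax
        obtain ⟨c, rfl⟩ := isConj_iff.mp hax
        obtain ⟨k, hk⟩ := P.isPGroup' ⟨u, hu⟩
        refine ⟨k, ?_⟩
        have hk' : u ^ p ^ k = 1 := congrArg Subtype.val hk
        rw [conj_pow, hk', mul_one, mul_inv_cancel]
      | one => exact ⟨0, one_pow _⟩
      | mul x y hx hy ihx ihy =>
        obtain ⟨k, hk⟩ := ihx
        obtain ⟨l, hl⟩ := ihy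
        refine ⟨k + l, ?_⟩
        have hxy : Commute x y := by
          have := mul_comm' (⟨x, hx⟩ : Subgroup.closure (Group.conjugatesOfSet ({u} : Set G)))
            ⟨y, hy⟩
          exact congrArg Subtype.val this
        rw [hxy.mul_pow, pow_add, pow_mul, hk, one_pow, pow_mul', hl, one_pow, mul_one]
      | inv x hx ih =>
        obtain ⟨k, hk⟩ := ih
        exact ⟨k, by rw [inv_pow, hk, inv_one]⟩
    have hNp : IsPGroup p (Subgroup.normalClosure ({u} : Set G)) := by
      rintro ⟨x, hx⟩
      obtain ⟨k, hk⟩ := hpN x hx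
      exact ⟨k, Subtype.ext hk⟩
    obtain ⟨Q₀, hQ₀⟩ := hNp.exists_le_sylow
    obtain ⟨g, hg⟩ := MulAction.exists_smul_eq G Q₀ Q
    rw [← hg, Sylow.coe_subgroup_smul, Cfsg.Agent.Lib.helper1.mem_conj_smul]
    apply hQ₀
    have hn : (Subgroup.normalClosure ({u} : Set G)).Normal := Subgroup.normalClosure_normal
    have hu' : u ∈ Subgroup.normalClosure ({u} : Set G) :=
      Subgroup.subset_normalClosure (Set.mem_singleton u)
    have := hn.conj_mem u hu' g⁻¹
    rwa [inv_inv] at this
  exact Sylow.ext (P.is_maximal' Q.isPGroup' hle).symm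

/-- Let G be a finite group in which the centralizer of every element meets each of its conjugates by elements outside its normalizer trivially. Then any two distinct Sylow p-subgroups of G, for any prime p, intersect trivially. -/
theorem result {G : Type*} [Group G] [Finite G] (hTI : ∀ x : G, Cfsg.IsTISubset (Subgroup.centralizer ({x} : Set G) : Set G))
    {p : ℕ} [Fact p.Prime] (P Q : Sylow p G) (hPQ : P ≠ Q) : (P : Subgroup G) ⊓ (Q : Subgroup G) = ⊥ := by
  rw [eq_bot_iff]
  intro y hy
  rw [Subgroup.mem_bot]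
  by_contra hy1
  apply hPQ
  have hyP : y ∈ (P : Subgroup G) := (Subgroup.mem_inf.mp hy).1
  have hyQ : y ∈ (Q : Subgroup G) := (Subgroup.mem_inf.mp hy).2
  have hPnt : Nontrivial (P : Subgroup G) := ⟨⟨⟨y, hyP⟩, 1, fun h => hy1 (congrArg Subtype.val h)⟩⟩
  have hcnt := P.isPGroup'.center_nontrivial
  obtain ⟨⟨z, hz⟩, hz1⟩ := exists_ne (1 : Subgroup.center (P : Subgroup G))
  have hz1' : (z : G) ≠ 1 := by
    intro h
    apply hz1
    apply Subtype.ext
    apply Subtype.ext
    exact h
  have hzc := Subgroup.mem_center_iff.mp hz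
  -- P ≤ C(z)
  have hPH : (P : Subgroup G) ≤ Subgroup.centralizer ({(z : G)} : Set G) := by
    intro u hu
    rw [Subgroup.mem_centralizer_iff]
    intro h hh
    rw [Set.mem_singleton_iff] at hh; subst hh
    exact (congrArg Subtype.val (hzc ⟨u, hu⟩)).symm
  obtain ⟨g, hg⟩ := MulAction.exists_smul_eq G P Q
  have hyg : g⁻¹ * y * g ∈ (P : Subgroup G) := by
    rw [← hg, Sylow.coe_subgroup_smul, Cfsg.Agent.Lib.helper1.mem_conj_smul] at hyQ
    exact hyQ
  have hgN : g⁻¹ ∈ Subgroup.normalizer
      ((Subgroup.centralizer ({(z : G)} : Set G) : Subgroup G) : Set G) := by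
    by_contra hgN
    apply hy1
    refine hTI z g⁻¹ hgN y (hPH hyP) ?_
    rw [inv_inv]
    exact hPH hyg
  have hQH : (Q : Subgroup G) ≤ Subgroup.centralizer ({(z : G)} : Set G) := by
    intro u hu
    rw [← hg, Sylow.coe_subgroup_smul, Cfsg.Agent.Lib.helper1.mem_conj_smul] at hu
    have h1 := hPH hu
    have h2 := (Subgroup.mem_set_normalizer_iff.mp hgN u).mpr (by rw [inv_inv]; exact h1)
    exact h2
  -- work in H = C(z)
  have hzH : (z : G) ∈ Subgroup.centralizer ({(z : G)} : Set G) := hPH z.2
  have hcen : (⟨(z : G), hzH⟩ : Subgroup.centralizer ({(z : G)} : Set G))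
      ∈ Subgroup.center (Subgroup.centralizer ({(z : G)} : Set G)) := by
    rw [Subgroup.mem_center_iff]
    rintro ⟨h, hh⟩
    apply Subtype.ext
    exact ((Subgroup.mem_centralizer_iff.mp hh) (z : G) rfl).symm
  have key := sylow_unique_of_center (hTI_subgroup hTI _) _ hcen
    (fun h => hz1' (congrArg Subtype.val h)) (P.subtype hPH) (Q.subtype hQH)
  have key2 := congrArg (fun S : Sylow p (Subgroup.centralizer ({(z : G)} : Set G)) =>
    (S : Subgroup (Subgroup.centralizer ({(z : G)} : Set G)))) key
  simp only [Sylow.coe_subtype] at key2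
  apply Sylow.ext
  ext u
  constructor
  · intro hu
    have : (⟨u, hPH hu⟩ : Subgroup.centralizer ({(z : G)} : Set G))
        ∈ (P : Subgroup G).subgroupOf _ := hu
    rw [key2] at this
    exact this
  · intro hu
    have : (⟨u, hQH hu⟩ : Subgroup.centralizer ({(z : G)} : Set G))
        ∈ (Q : Subgroup G).subgroupOf _ := hu
    rw [← key2] at this
    exact this

end Cfsg.Agent.S4066
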