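import Mathlib
import Cfsg.Agent.Lib.helper18.S4067C1
import Cfsg.Agent.Lib.helper18.S4067C3b
import Cfsg.Agent.Lib.helper46.S4067C2
import Cfsg.Agent.Lib.helper52.S4067A
import Cfsg.Agent.Lib.helper52.S4067T2
import Cfsg.Agent.Lib.helper6.S4067T1
import Cfsg.Agent.Lib.helper63.S4067Uodd
import Cfsg.Agent.Lib.helper63.S4067Utwo
import Cfsg.Agent.Lib.helper70.S4067O
import Cfsg.Agent.Lib.helper83.S4067C3a
import Cfsg.Agent.Lib.helper96.S4067KJ
import Cfsg.Agent.Lib.helper96.S4067LF

set_option autoImplicit false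

open Cfsg

namespace Cfsg.Agent.S4067

open Subgroup MulAction
open Cfsg.Agent.Lib.helper18.S4067
open Cfsg.Agent.Lib.helper46.S4067
open Cfsg.Agent.Lib.helper52.S4067
open Cfsg.Agent.Lib.helper6.S4067
open Cfsg.Agent.Lib.helper63.S4067
open Cfsg.Agent.Lib.helper70.S4067
open Cfsg.Agent.Lib.helper83.S4067
open Cfsg.Agent.Lib.helper96.S4067

section aux

variable {G : Type*} [Group G] [Finite G]

/-- Two subgroups of prime order sharing a non-trivial element coincide. -/
private theorem eq_of_prime_card_of_mem {p : ℕ} (hp : p.Prime) (H K : Subgroup G)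
    (hH : Nat.card H = p) (hK : Nat.card K = p) (g : G) (hgH : g ∈ H) (hgK : g ∈ K)
    (hg : g ≠ 1) : H = K := by
  have h1 : ∀ (M : Subgroup G), Nat.card M = p → g ∈ M → zpowers g = M := by
    intro M hM hgM
    apply Subgroup.eq_of_le_of_card_ge (zpowers_le.mpr hgM)
    rw [hM, Nat.card_zpowers]
    have hdvd : orderOf g ∣ p := by
      have h := orderOf_dvd_natCard (⟨g, hgM⟩ : M)
      rw [hM] at h
      rwa [Subgroup.orderOf_mk] at h
    rcases (Nat.dvd_prime hp).mp hdvd with h | h
    · exact absurd (orderOf_eq_one_iff.mp h) hg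
    · exact h.ge
  rw [← h1 H hH hgH, h1 K hK hgK]

private theorem sq_le_orbit_A {p : ℕ} (hp : p.Prime) (hc : commutator G ≤ center G)
    (hcard : Nat.card (commutator G) = p) (W : Subgroup G) (hW : W ≤ center G)
    (hWcard : Nat.card W = p) (hWne : W ≠ commutator G) (x : G) (hx : x ∉ center G) :
    p ^ 2 ≤ Nat.card (orbit (MulAut G) x) := by
  have key := mul_card_le_card_orbit hp hc hcard x hx (ι := W) (fun a => x * (a : G))
    (fun a => mul_mem_orbit_of_central hp hc hcard W hW hWcard x hx a a.2)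
    (by
      intro a b hab
      have h1 : (a : G)⁻¹ * b ∈ commutator G := by
        have e : (x * (a : G))⁻¹ * (x * b) = (a : G)⁻¹ * b := by group
        rwa [e] at hab
      have h2 : (a : G)⁻¹ * b ∈ W := W.mul_mem (W.inv_mem a.2) b.2
      by_contra hne
      have h3 : (a : G)⁻¹ * b ≠ 1 := by
        intro h
        apply hne
        ext
        exact inv_mul_eq_one.mp h
      exact hWne (eq_of_prime_card_of_mem hp W (commutator G) hWcard hcard _ h2 h1 h3))
  rw [hWcard] at key
  calc p ^ 2 = p * p := sq p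
    _ ≤ _ := key

private theorem sq_le_orbit_B {p : ℕ} (hp : p.Prime) (hc : commutator G ≤ center G)
    (hcard : Nat.card (commutator G) = p) (u y : G) (hyu : y * u ≠ u * y)
    (τ : MulAut G) (hτK : ∀ k : G, k * u = u * k → τ k = k) (hτy : τ y = y * u)
    (x : G) (hx : x * u ≠ u * x) :
    p ^ 2 ≤ Nat.card (orbit (MulAut G) x) := by
  have hxZ : x ∉ center G := fun h => hx ((mem_center_iff.mp h u).symm)
  have key := mul_card_le_card_orbit hp hc hcard x hxZ (ι := Fin p)
    (fun m => (τ ^ (m : ℕ)) x) (fun m => ⟨τ ^ (m : ℕ), rfl⟩)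
    (fun m m' h => Fin.ext
      (transvection_pow_injective hp hc hcard u y hyu τ hτK hτy x hx m m' m.2 m'.2 h))
  rw [Nat.card_fin] at key
  calc p ^ 2 = p * p := sq p
    _ ≤ _ := key

private theorem le_orbit {p : ℕ} (hp : p.Prime) (hc : commutator G ≤ center G)
    (hcard : Nat.card (commutator G) = p) (x : G) (hx : x ∉ center G) :
    p ≤ Nat.card (orbit (MulAut G) x) := by
  have key := mul_card_le_card_orbit hp hc hcard x hx (ι := Unit) (fun _ => x)
    (fun _ => mem_orbit_self x) (fun _ _ _ => rfl)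
  simpa using key

private theorem arith_A (p N z n j : ℕ) (hp : 2 ≤ p) (hj : p ^ 2 ≤ j) (hn : j * z = n)
    (hO : p ^ 2 * N + p * z + z ≤ p ^ 2 * z + p * z + n) : N * p ≤ n := by
  obtain ⟨q, rfl⟩ : ∃ q, p = q + 2 := ⟨p - 2, by omega⟩
  subst hn
  have h1 : (q + 3) * z ≤ j * z := Nat.mul_le_mul_right z (by nlinarith)
  have h2 : (q + 1) * ((q + 3) * z) ≤ (q + 1) * (j * z) := Nat.mul_le_mul_left _ h1
  have h3 : (q + 2) * (N * (q + 2)) ≤ (q + 2) * (j * z) := by nlinarith
  exact Nat.le_of_mul_le_mul_left h3 (by omega)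

private theorem arith_B (p N z n j m : ℕ) (hp : 2 ≤ p) (hj : p ^ 2 ≤ j) (hn : j * z = n)
    (hm : p * m = n)
    (hO : p ^ 2 * N + p * z + m ≤ p ^ 2 * z + p * m + n) : N * p ≤ n := by
  obtain ⟨q, rfl⟩ : ∃ q, p = q + 2 := ⟨p - 2, by omega⟩
  have h1 : (q + 2) ^ 2 * z ≤ n := by
    rw [← hn]; exact Nat.mul_le_mul_right z hj
  have h2 : (q + 1) * ((q + 2) ^ 2 * z) ≤ (q + 1) * ((q + 1) * n) :=
    Nat.mul_le_mul_left _ (h1.trans (Nat.le_mul_of_pos_left n (by omega)))
  have hO' : (q + 2) * ((q + 2) ^ 2 * N + (q + 2) * z + m)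
      ≤ (q + 2) * ((q + 2) ^ 2 * z + (q + 2) * m + n) := Nat.mul_le_mul_left _ hO
  have h3 : (q + 2) * ((q + 2) * (N * (q + 2))) ≤ (q + 2) * ((q + 2) * n) := by
    nlinarith
  exact Nat.le_of_mul_le_mul_left (Nat.le_of_mul_le_mul_left h3 (by omega)) (by omega)

end aux

/-- **Laffey–MacHale: `Aut(G)`-orbits of a nonabelian group, least-prime bound.** -/
theorem result {G : Type*} [Group G] [Finite G] (hna : ¬ IsMulCommutative G) : Nat.card (MulAction.orbitRel.Quotient (MulAut G) G) ≤ Nat.card G / (Nat.card G).minFac := by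
  have hn1 : Nat.card G ≠ 1 := by
    intro h
    apply hna
    have : Subsingleton G := (Nat.card_eq_one_iff_unique.mp h).1
    exact ⟨⟨fun a b => Subsingleton.elim _ _⟩⟩
  have hp : (Nat.card G).minFac.Prime := Nat.minFac_prime hn1
  have hK := card_autOrbits_le_card_conjClasses (G := G)
  by_cases hk : (Nat.card G).minFac * Nat.card (ConjClasses G) ≤ Nat.card G
  · refine hK.trans ((Nat.le_div_iff_mul_le hp.pos).mpr ?_)
    rw [mul_comm]; exact hk
  · push Not at hk
    have hb := card_big_lt hk
    have hc := commutator_le_center_of_card_big_lt hna hb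
    obtain ⟨x₀, y₀, hxy, hx₀, hy₀⟩ := exists_small_pair hna hb
    have hcard := card_commutator_of_small_pair hb hc x₀ y₀ hxy hx₀ hy₀
    have hj := sq_minFac_le_index_center hna
    have hnz : (center G).index * Nat.card (center G) = Nat.card G := Subgroup.index_mul_card _
    rw [Nat.le_div_iff_mul_le hp.pos]
    generalize (Nat.card G).minFac = p at hp hk hb hcard hj ⊢
    by_cases hW : ∃ W : Subgroup G, W ≤ center G ∧ Nat.card W = p ∧ W ≠ commutator G
    · obtain ⟨W, hWZ, hWc, hWne⟩ := hW
      have horb : ∀ x, x ∉ (center G : Set G) → p ^ 2 ≤ Nat.card (orbit (MulAut G) x) :=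
        fun x hx => sq_le_orbit_A hp hc hcard W hWZ hWc hWne x hx
      have hO := orbit_count_three_tier (A := MulAut G) (center G : Set G) (center G : Set G)
        subset_rfl p hp.pos
        (fun x hx => le_trans (Nat.le_self_pow two_ne_zero p) (horb x hx)) horb
      exact arith_A p _ (Nat.card (center G)) _ _ hp.two_le hj hnz hO
    · push Not at hW
      obtain ⟨u, hu, hupow⟩ :
          ∃ u : G, u ∉ center G ∧ ∀ y : G, y * u ≠ u * y → (y * u) ^ p = y ^ p := by
        by_cases hp2 : p = 2
        · subst hp2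
          exact exists_noncentral_sq_eq_of_two hc hcard hW hj
        · exact exists_noncentral_pow_eq_of_odd hp hp2 hc hcard hW hj
      obtain ⟨y, hyu⟩ : ∃ y, y * u ≠ u * y := by
        by_contra h
        push Not at h
        exact hu (mem_center_iff.mpr h)
      obtain ⟨τ, hτK, hτy⟩ := exists_transvection hp hc hcard u y hyu (hupow y hyu)
      have hidx := index_centralizer_eq hp hc hcard u hu
      have hO := orbit_count_three_tier (A := MulAut G) (center G : Set G)
        (centralizer ({u} : Set G) : Set G)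
        (fun g hg => Subgroup.center_le_centralizer _ hg) p hp.pos
        (fun x hx => le_orbit hp hc hcard x hx)
        (fun x hx => sq_le_orbit_B hp hc hcard u y hyu τ hτK hτy x (fun h => hx (by
          rw [SetLike.mem_coe, mem_centralizer_iff]
          intro g hg
          rw [Set.mem_singleton_iff.mp hg]
          exact h.symm)))
      have hm : p * Nat.card (centralizer ({u} : Set G)) = Nat.card G := by
        rw [← hidx]; exact Subgroup.index_mul_card _
      exact arith_B p _ (Nat.card (center G)) _ _ (Nat.card (centralizer ({u} : Set G)))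
        hp.two_le hj hnz hm hO

end Cfsg.Agent.S4067
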