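import Cfsg.Statements.S4071
import Mathlib
import Cfsg.Agent.Lib.helper71.MinNonAbelian
import Cfsg.Agent.Lib.helper1.SZ

set_option autoImplicit false
open Cfsg

namespace Cfsg.Agent.S4071

open Cfsg.Agent.Lib.helper71
open scoped commutatorElement

/-- The reverse direction. -/
theorem dir_rev {G : Type*} [Group G] [Finite G] (x : G) (A : Subgroup G) (p : ℕ) (hp : p.Prime)
    [hAn : A.Normal] (hAc : IsMulCommutative A) (k : ℕ) (hk : orderOf x = p ^ k)
    (hcomp : (Subgroup.zpowers x).IsComplement' A) (hxp : x ^ p ∈ Subgroup.center G)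
    (hfpf : ∀ a : G, a ∈ A → a ≠ 1 → x * a * x⁻¹ ≠ a)
    (H : Subgroup G) (hH : ¬ IsMulCommutative H) : Subgroup.normalizer (H : Set G) = H := by
  have hAcomm : ∀ a ∈ A, ∀ b ∈ A, a * b = b * a := fun a ha b hb =>
    congrArg Subtype.val (mul_comm' (⟨a, ha⟩ : A) ⟨b, hb⟩)
  have hdec : ∀ g : G, ∃ j : ℕ, ∃ c ∈ A, g = x ^ j * c := by
    intro g
    obtain ⟨⟨⟨s, hs⟩, ⟨a, ha⟩⟩, hsa⟩ := hcomp.2 g
    have hs' : s ∈ Submonoid.powers x := mem_powers_iff_mem_zpowers.mpr hs
    obtain ⟨j, rfl⟩ := hs'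
    exact ⟨j, a, ha, hsa.symm⟩
  have h1 : ∃ a' ∈ A, x * a' ∈ H := by
    by_contra hno
    push Not at hno
    apply hH
    have hform : ∀ h ∈ H, ∃ i : ℕ, ∃ c ∈ A, h = (x ^ p) ^ i * c := by
      intro h hh
      obtain ⟨j, c, hc, rfl⟩ := hdec h
      by_cases hpj : p ∣ j
      · obtain ⟨i, rfl⟩ := hpj
        exact ⟨i, c, hc, by rw [pow_mul]⟩
      · exfalso
        have hcop : j.Coprime (orderOf x) := by
          rw [hk]
          exact Nat.Coprime.pow_right _ ((Nat.Prime.coprime_iff_not_dvd hp).mpr hpj).symm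
        obtain ⟨m, hm⟩ := exists_pow_eq_self_of_coprime hcop
        have hmem : (x ^ j * c) ^ m ∈ H := pow_mem hh m
        have hq : (((x ^ j * c) ^ m : G) : G ⧸ A) = ((x : G) : G ⧸ A) := by
          rw [QuotientGroup.mk_pow, QuotientGroup.mk_mul, (QuotientGroup.eq_one_iff c).mpr hc,
            mul_one, ← QuotientGroup.mk_pow, hm]
        have hA' : x⁻¹ * (x ^ j * c) ^ m ∈ A := QuotientGroup.eq.mp hq.symm
        apply hno _ hA'
        rw [mul_inv_cancel_left]
        exact hmem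
    refine ⟨⟨fun a b => ?_⟩⟩
    obtain ⟨i, c, hc, hac⟩ := hform a.1 a.2
    obtain ⟨i', c', hc', hbc⟩ := hform b.1 b.2
    apply Subtype.ext
    show (a : G) * (b : G) = (b : G) * (a : G)
    rw [hac, hbc]
    have hz : ∀ g : G, Commute ((x ^ p) ^ i) g := fun g =>
      (Subgroup.mem_center_iff.mp (pow_mem hxp i) g).symm
    have hz' : ∀ g : G, Commute ((x ^ p) ^ i') g := fun g =>
      (Subgroup.mem_center_iff.mp (pow_mem hxp i') g).symm
    have hcc : Commute c c' := hAcomm c hc c' hc'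
    exact Commute.mul_right (Commute.mul_left (hz _) (hz' c).symm)
      (Commute.mul_left (hz c') hcc)
  obtain ⟨a', ha', hxa⟩ := h1
  obtain ⟨h, hh⟩ : ∃ h, h = x * a' := ⟨_, rfl⟩
  rw [← hh] at hxa
  have hfix : ∀ b ∈ A, h * b * h⁻¹ = b → b = 1 := by
    intro b hb hbb
    by_contra hb1
    apply hfpf b hb hb1
    have h2 : h * b * h⁻¹ = x * b * x⁻¹ := by
      rw [hh]
      have h3 := hAcomm a' ha' b hb
      calc x * a' * b * (x * a')⁻¹ = x * (a' * b) * a'⁻¹ * x⁻¹ := by group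
        _ = x * (b * a') * a'⁻¹ * x⁻¹ := by rw [h3]
        _ = x * b * x⁻¹ := by group
    rw [← h2]
    exact hbb
  have hinj : ∀ b ∈ A, ∀ b' ∈ A, b * h * b⁻¹ * h⁻¹ = b' * h * b'⁻¹ * h⁻¹ → b = b' := by
    intro b hb b' hb' E
    have E1 : b * h * b⁻¹ = b' * h * b'⁻¹ := mul_right_cancel E
    have E2 : b'⁻¹ * b * h = h * (b'⁻¹ * b) := by
      calc b'⁻¹ * b * h = b'⁻¹ * (b * h * b⁻¹) * b := by group
        _ = b'⁻¹ * (b' * h * b'⁻¹) * b := by rw [E1]
        _ = h * (b'⁻¹ * b) := by group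
    have h4 := hfix (b'⁻¹ * b) (A.mul_mem (inv_mem hb') hb) (by rw [← E2]; group)
    exact (inv_mul_eq_one.mp h4).symm
  apply le_antisymm _ Subgroup.le_normalizer
  intro g hg
  obtain ⟨j, c, hc, rfl⟩ := hdec g
  have hq : ((h ^ j : G) : G ⧸ A) = ((x ^ j : G) : G ⧸ A) := by
    rw [QuotientGroup.mk_pow, QuotientGroup.mk_pow, hh, QuotientGroup.mk_mul,
      (QuotientGroup.eq_one_iff a').mpr ha', mul_one]
  have hc2 : (h ^ j)⁻¹ * x ^ j ∈ A := QuotientGroup.eq.mp hq
  obtain ⟨c2, hc2def⟩ : ∃ c2, c2 = (h ^ j)⁻¹ * (x ^ j * c) := ⟨_, rfl⟩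
  have hc2A : c2 ∈ A := by
    have : c2 = (h ^ j)⁻¹ * x ^ j * c := by rw [hc2def]; group
    rw [this]
    exact A.mul_mem hc2 hc
  have hhj : h ^ j ∈ H := pow_mem hxa j
  have hc2N : c2 ∈ Subgroup.normalizer (H : Set G) := by
    rw [hc2def]
    exact (Subgroup.normalizer (H : Set G)).mul_mem (inv_mem (Subgroup.le_normalizer hhj)) hg
  have hτ : c2 * h * c2⁻¹ * h⁻¹ ∈ H ⊓ A := by
    constructor
    · exact H.mul_mem ((Subgroup.mem_normalizer_iff.mp hc2N h).mp hxa) (inv_mem hxa)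
    · have : c2 * h * c2⁻¹ * h⁻¹ = c2 * (h * c2⁻¹ * h⁻¹) := by group
      rw [this]
      exact A.mul_mem hc2A (hAn.conj_mem _ (inv_mem hc2A) h)
  let f : ↥(H ⊓ A) → ↥(H ⊓ A) := fun b => ⟨b.1 * h * b.1⁻¹ * h⁻¹, by
    constructor
    · exact H.mul_mem (H.mul_mem (H.mul_mem b.2.1 hxa) (inv_mem b.2.1)) (inv_mem hxa)
    · have : b.1 * h * b.1⁻¹ * h⁻¹ = b.1 * (h * b.1⁻¹ * h⁻¹) := by group
      rw [this]
      exact A.mul_mem b.2.2 (hAn.conj_mem _ (inv_mem b.2.2) h)⟩
  have hfinj : Function.Injective f := by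
    intro b b' hbb
    apply Subtype.ext
    exact hinj b.1 b.2.2 b'.1 b'.2.2 (congrArg Subtype.val hbb)
  have hfsurj : Function.Surjective f := Finite.injective_iff_surjective.mp hfinj
  obtain ⟨b, hb⟩ := hfsurj ⟨_, hτ⟩
  have hbc : b.1 = c2 := hinj b.1 b.2.2 c2 hc2A (congrArg Subtype.val hb)
  have hc2H : c2 ∈ H := hbc ▸ b.2.1
  have : x ^ j * c = h ^ j * c2 := by rw [hc2def]; group
  rw [this]
  exact H.mul_mem hhj hc2H

/-- Transfer into an abelian subgroup: a central element of `A` lying in the derived subgroup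
has order dividing the index of `A`. -/
theorem central_comm_pow {G : Type*} [Group G] [Finite G] (A : Subgroup G)
    (hA : ∀ a ∈ A, ∀ b ∈ A, a * b = b * a) (c : G)
    (hcc : c ∈ Subgroup.center G) (hcG : c ∈ commutator G) : c ^ A.index = 1 := by
  have key : ∀ (k : ℕ) (g₀ : G), g₀⁻¹ * c ^ k * g₀ ∈ A →
      g₀⁻¹ * c ^ k * g₀ = c ^ k := by
    intro k g₀ _
    have h := Subgroup.mem_center_iff.mp (pow_mem hcc k) g₀
    rw [mul_assoc, ← h, inv_mul_cancel_left]
  have h1 := MonoidHom.transfer_eq_pow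
    (Abelianization.of : A →* Abelianization A) c key
  have h2 : MonoidHom.transfer
      (Abelianization.of : A →* Abelianization A) c = 1 := by
    have : c ∈ (MonoidHom.transfer
        (Abelianization.of : A →* Abelianization A)).ker :=
      Abelianization.commutator_subset_ker _ hcG
    exact this
  rw [h2] at h1
  have h3 : (⟨c ^ A.index, MonoidHom.transfer_eq_pow_aux c key⟩ : A) ∈ commutator A := by
    rw [← Abelianization.ker_of, MonoidHom.mem_ker]
    exact h1.symm
  have hbot : commutator A = ⊥ := by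
    rw [eq_bot_iff, commutator_def, Subgroup.commutator_le]
    intro x _ y _
    rw [Subgroup.mem_bot, commutatorElement_eq_one_iff_mul_comm]
    exact Subtype.ext (hA x.1 x.2 y.1 y.2)
  rw [hbot, Subgroup.mem_bot] at h3
  exact congrArg Subtype.val h3

/-- The `n`-torsion of an abelian subgroup. -/
def torPart {G : Type*} [Group G] (M : Subgroup G)
    (hM : ∀ a ∈ M, ∀ b ∈ M, a * b = b * a) (n : ℕ) : Subgroup G where
  carrier := {m | m ∈ M ∧ m ^ n = 1}
  mul_mem' := by
    rintro a b ⟨ha, ha1⟩ ⟨hb, hb1⟩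
    refine ⟨M.mul_mem ha hb, ?_⟩
    have hc : Commute a b := hM a ha b hb
    rw [hc.mul_pow, ha1, hb1, mul_one]
  one_mem' := ⟨M.one_mem, one_pow n⟩
  inv_mem' := by
    rintro a ⟨ha, ha1⟩
    exact ⟨M.inv_mem ha, by rw [inv_pow, ha1, inv_one]⟩

theorem mem_torPart {G : Type*} [Group G] (M : Subgroup G)
    (hM : ∀ a ∈ M, ∀ b ∈ M, a * b = b * a) (n : ℕ) (g : G) :
    g ∈ torPart M hM n ↔ g ∈ M ∧ g ^ n = 1 := Iff.rfl

/-- The forward direction. -/
theorem dir_fwd {G : Type*} [Group G] [Finite G] [Group.IsSolvable G]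
    (hnn : ¬ Group.IsNilpotent G)
    (hS : ∀ H : Subgroup G, ¬ IsMulCommutative H → Subgroup.normalizer (H : Set G) = H) :
    ∃ (x : G) (A : Subgroup G) (p : ℕ), p.Prime ∧ A.Normal ∧ IsMulCommutative A ∧
      (∃ k : ℕ, orderOf x = p ^ k) ∧
      ¬ p ∣ Nat.card A ∧ (Subgroup.zpowers x).IsComplement' A ∧ x ^ p ∈ Subgroup.center G ∧
      ∀ a : G, a ∈ A → a ≠ 1 → x * a * x⁻¹ ≠ a := by
  have hprop : ∀ N : Subgroup G, N.Normal → N ≠ ⊤ → ∀ a ∈ N, ∀ b ∈ N, a * b = b * a := by
    intro N hN hNtop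
    by_contra hna
    push Not at hna
    obtain ⟨a, ha, b, hb, hab⟩ := hna
    have hnc : ¬ IsMulCommutative N := fun h =>
      hab (congrArg Subtype.val (mul_comm' (⟨a, ha⟩ : N) ⟨b, hb⟩))
    have h1 := hS N hnc
    rw [Subgroup.normalizer_eq_top] at h1
    exact hNtop h1.symm
  have hnt : Nontrivial G := by
    by_contra h
    rw [not_nontrivial_iff_subsingleton] at h
    exact hnn inferInstance
  have hlt : commutator G < ⊤ := Group.IsSolvable.commutator_lt_top_of_nontrivial G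
  obtain ⟨M, hMco, hGM⟩ := (eq_top_or_exists_le_coatom (commutator G)).resolve_left hlt.ne
  have hMn : M.Normal := by
    constructor
    intro m hm g
    have : g * m * g⁻¹ = ⁅g, m⁆ * m := by rw [commutatorElement_def]; group
    rw [this]
    apply M.mul_mem _ hm
    apply hGM
    rw [commutator_def]
    exact Subgroup.commutator_mem_commutator (Subgroup.mem_top g) (Subgroup.mem_top m)
  have hMc := hprop M hMn hMco.1
  have hidx : Nat.card (G ⧸ M) ≠ 1 := by
    rw [← Subgroup.index_eq_card]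
    intro h
    exact hMco.1 (Subgroup.index_eq_one.mp h)
  obtain ⟨p, hp, hpd⟩ := Nat.exists_prime_and_dvd hidx
  haveI : Fact p.Prime := ⟨hp⟩
  obtain ⟨y, hy⟩ := exists_prime_orderOf_dvd_card' (G := G ⧸ M) p hpd
  obtain ⟨g, rfl⟩ := QuotientGroup.mk_surjective y
  have hgM : g ∉ M := by
    intro h
    have h1 : ((g : G) : G ⧸ M) = 1 := (QuotientGroup.eq_one_iff g).mpr h
    rw [h1, orderOf_one] at hy
    exact hp.one_lt.ne hy
  have hsup : ∀ z : G, z ∉ M → M ⊔ Subgroup.zpowers z = ⊤ := by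
    intro z hz
    apply hMco.2
    apply lt_of_le_of_ne le_sup_left
    intro h
    exact hz ((sup_eq_left.mp h.symm) (Subgroup.mem_zpowers z))
  have hpM : ∀ h : G, h ^ p ∈ M := by
    intro h
    have hh : h ∈ M ⊔ Subgroup.zpowers g := by rw [hsup g hgM]; exact Subgroup.mem_top h
    obtain ⟨m, hm, z, hz, rfl⟩ := Subgroup.mem_sup_of_normal_left.mp hh
    obtain ⟨i, rfl⟩ := Subgroup.mem_zpowers_iff.mp hz
    rw [← QuotientGroup.eq_one_iff, QuotientGroup.mk_pow, QuotientGroup.mk_mul,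
      (QuotientGroup.eq_one_iff m).mpr hm, one_mul, QuotientGroup.mk_zpow, ← zpow_natCast,
      ← zpow_mul, mul_comm, zpow_mul, zpow_natCast, ← hy, pow_orderOf_eq_one, one_zpow]
  have hN0 : Nat.card G ≠ 0 := Nat.card_pos.ne'
  obtain ⟨j, hj⟩ : ∃ j, j = (Nat.card G).factorization p := ⟨_, rfl⟩
  obtain ⟨n', hn'⟩ : ∃ n', n' = Nat.card G / p ^ j := ⟨_, rfl⟩
  have hmul : p ^ j * n' = Nat.card G := by
    rw [hn', hj]
    exact Nat.ordProj_mul_ordCompl_eq_self _ p
  have hpn' : ¬ p ∣ n' := by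
    rw [hn', hj]
    exact Nat.not_dvd_ordCompl hp hN0
  obtain ⟨A, hAdef⟩ : ∃ A, A = torPart M hMc n' := ⟨_, rfl⟩
  have hAmem : ∀ g, g ∈ A ↔ g ∈ M ∧ g ^ n' = 1 := fun g => by
    rw [hAdef]
    exact mem_torPart M hMc n' g
  have hAM : A ≤ M := fun a ha => ((hAmem a).mp ha).1
  have hAn : A.Normal := by
    constructor
    intro a ha g
    obtain ⟨ha1, ha2⟩ := (hAmem a).mp ha
    exact (hAmem _).mpr ⟨hMn.conj_mem a ha1 g, by rw [conj_pow, ha2, mul_one, mul_inv_cancel]⟩
  have hAcomm : ∀ a ∈ A, ∀ b ∈ A, a * b = b * a := fun a ha b hb =>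
    hMc a (hAM ha) b (hAM hb)
  have hAc : IsMulCommutative A := ⟨⟨fun a b => Subtype.ext (hAcomm a.1 a.2 b.1 b.2)⟩⟩
  have hpA : ¬ p ∣ Nat.card A := by
    intro hd
    obtain ⟨a, ha⟩ := exists_prime_orderOf_dvd_card' (G := A) p hd
    have h1 : a ^ n' = 1 := Subtype.ext ((hAmem a.1).mp a.2).2
    have h2 := orderOf_dvd_of_pow_eq_one h1
    rw [ha] at h2
    exact hpn' h2
  have hpG : IsPGroup p (G ⧸ A) := by
    intro q
    obtain ⟨h, rfl⟩ := QuotientGroup.mk_surjective q
    refine ⟨j + 1, ?_⟩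
    rw [← QuotientGroup.mk_pow, QuotientGroup.eq_one_iff, hAmem]
    constructor
    · rw [pow_succ', pow_mul]
      exact pow_mem (hpM h) _
    · have h1 : p ^ (j + 1) * n' = Nat.card G * p := by rw [← hmul]; ring
      rw [← pow_mul, h1, pow_mul, pow_card_eq_one', one_pow]
  have hnil : (∀ a ∈ A, ∀ g : G, g * a = a * g) → False := by
    intro hcen
    apply hnn
    haveI : Group.IsNilpotent (G ⧸ A) := hpG.isNilpotent
    apply Subgroup.isNilpotent_of_ker_le_center (QuotientGroup.mk' A)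
    rw [QuotientGroup.ker_mk']
    intro a ha
    rw [Subgroup.mem_center_iff]
    exact hcen a ha
  obtain ⟨x, hxdef⟩ : ∃ x, x = g ^ n' := ⟨_, rfl⟩
  have hxM : x ∉ M := by
    intro hx
    apply hgM
    have hcop : IsCoprime (n' : ℤ) (p : ℤ) := by
      rw [Nat.isCoprime_iff_coprime]
      exact ((Nat.Prime.coprime_iff_not_dvd hp).mpr hpn').symm
    exact mem_of_zpow_mem_of_isCoprime hcop (by rw [zpow_natCast, ← hxdef]; exact hx)
      (by rw [zpow_natCast]; exact hpM g)
  have hxord : ∃ k : ℕ, orderOf x = p ^ k := by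
    have h1 : x ^ (p ^ j) = 1 := by
      rw [hxdef, ← pow_mul, mul_comm, hmul, pow_card_eq_one']
    obtain ⟨k, -, hk⟩ := (Nat.dvd_prime_pow hp).mp (orderOf_dvd_of_pow_eq_one h1)
    exact ⟨k, hk⟩
  obtain ⟨k, hk⟩ := hxord
  have hMx : M ⊔ Subgroup.zpowers x = ⊤ := hsup x hxM
  have hxA : ¬ (∀ a ∈ A, x * a = a * x) := by
    intro hcx
    apply hnil
    intro a ha g
    have hle : M ⊔ Subgroup.zpowers x ≤ Subgroup.centralizer ({a} : Set G) := by
      apply sup_le
      · intro m hm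
        rw [Subgroup.mem_centralizer_iff]
        intro b hb
        rw [Set.mem_singleton_iff] at hb
        rw [hb]
        exact hMc a (hAM ha) m hm
      · rw [Subgroup.zpowers_le, Subgroup.mem_centralizer_iff]
        intro b hb
        rw [Set.mem_singleton_iff] at hb
        rw [hb]
        exact (hcx a ha).symm
    have hg : g ∈ Subgroup.centralizer ({a} : Set G) :=
      hle (by rw [hMx]; exact Subgroup.mem_top g)
    exact (Subgroup.mem_centralizer_iff.mp hg a rfl).symm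
  have hKtop : A ⊔ Subgroup.zpowers x = ⊤ := by
    obtain ⟨K, hKdef⟩ : ∃ K, K = A ⊔ Subgroup.zpowers x := ⟨_, rfl⟩
    rw [← hKdef]
    have hAK : A ≤ K := by rw [hKdef]; exact le_sup_left
    have hxK : x ∈ K := by
      rw [hKdef]
      exact (le_sup_right : Subgroup.zpowers x ≤ _) (Subgroup.mem_zpowers x)
    have hKnc : ¬ IsMulCommutative K := by
      intro hc
      apply hxA
      intro a ha
      exact congrArg Subtype.val (mul_comm' (⟨x, hxK⟩ : K) ⟨a, hAK ha⟩)
    have hNK := hS K hKnc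
    have hsurj := QuotientGroup.mk'_surjective A
    obtain ⟨K', hK'⟩ : ∃ K', K' = K.map (QuotientGroup.mk' A) := ⟨_, rfl⟩
    have hcm : K'.comap (QuotientGroup.mk' A) = K := by
      rw [hK', Subgroup.comap_map_eq, QuotientGroup.ker_mk']
      exact sup_eq_left.mpr hAK
    have hNK' : Subgroup.normalizer ((K'.comap (QuotientGroup.mk' A) : Subgroup G) : Set G)
        = K'.comap (QuotientGroup.mk' A) := by
      rw [hcm]; exact hNK
    rw [← Subgroup.comap_normalizer_eq_of_surjective _ hsurj] at hNK'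
    have hN' : Subgroup.normalizer (K' : Set (G ⧸ A)) = K' :=
      Subgroup.comap_injective hsurj hNK'
    have hK'top : K' = ⊤ := by
      by_contra hne
      haveI : Group.IsNilpotent (G ⧸ A) := hpG.isNilpotent
      have h2 := Group.normalizerCondition_of_isNilpotent (G := G ⧸ A) K'
        (lt_top_iff_ne_top.mpr hne)
      rw [hN'] at h2
      exact lt_irrefl _ h2
    rw [← hcm, hK'top, Subgroup.comap_top]
  have hinf : A ⊓ Subgroup.zpowers x = ⊥ := by
    apply disjoint_iff.mp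
    apply Subgroup.disjoint_of_coprime_natCard
    rw [Nat.card_zpowers, hk]
    exact Nat.Coprime.pow_right k ((Nat.Prime.coprime_iff_not_dvd hp).mpr hpA).symm
  have hcompl : (Subgroup.zpowers x).IsComplement' A :=
    (Cfsg.Agent.Lib.helper1.isComplement'_of_normal A (Subgroup.zpowers x) hinf hKtop).symm
  have hgen : ∀ g : G, ∃ a ∈ A, ∃ i : ℤ, g = a * x ^ i := by
    intro g
    have hg : g ∈ A ⊔ Subgroup.zpowers x := by rw [hKtop]; exact Subgroup.mem_top g
    obtain ⟨a, ha, z, hz, rfl⟩ := Subgroup.mem_sup_of_normal_left.mp hg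
    obtain ⟨i, rfl⟩ := Subgroup.mem_zpowers_iff.mp hz
    exact ⟨a, ha, i, rfl⟩
  have hxpc : x ^ p ∈ Subgroup.center G := by
    rw [Subgroup.mem_center_iff]
    intro g
    obtain ⟨a, ha, i, rfl⟩ := hgen g
    have h1 : Commute a (x ^ p) := hMc a (hAM ha) (x ^ p) (hpM x)
    have h2 : Commute (x ^ i) (x ^ p) := ((Commute.refl x).pow_right p).zpow_left i
    exact h1.mul_left h2
  have hfpf : ∀ a : G, a ∈ A → a ≠ 1 → x * a * x⁻¹ ≠ a := by
    intro c hc hc1 hxc
    have hxc' : Commute x c := by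
      have : x * c = c * x := by
        calc x * c = x * c * x⁻¹ * x := by group
          _ = c * x := by rw [hxc]
      exact this
    have hcc : c ∈ Subgroup.center G := by
      rw [Subgroup.mem_center_iff]
      intro g
      obtain ⟨a, ha, i, rfl⟩ := hgen g
      have h1 : Commute a c := hAcomm a ha c hc
      have h2 : Commute (x ^ i) c := hxc'.zpow_left i
      exact h1.mul_left h2
    have hGA : commutator G ≤ A := by
      rw [commutator_def, Subgroup.commutator_le]
      intro g₁ _ g₂ _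
      obtain ⟨a₁, ha₁, i₁, rfl⟩ := hgen g₁
      obtain ⟨a₂, ha₂, i₂, rfl⟩ := hgen g₂
      rw [← QuotientGroup.eq_one_iff, ← QuotientGroup.mk'_apply, map_commutatorElement,
        commutatorElement_eq_one_iff_mul_comm]
      simp only [QuotientGroup.mk'_apply, QuotientGroup.mk_mul,
        (QuotientGroup.eq_one_iff a₁).mpr ha₁, (QuotientGroup.eq_one_iff a₂).mpr ha₂, one_mul,
        QuotientGroup.mk_zpow]
      exact (Commute.zpow_zpow_self _ i₁ i₂)
    obtain ⟨H, hHdef⟩ : ∃ H, H = commutator G ⊔ Subgroup.zpowers x := ⟨_, rfl⟩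
    have hGH : commutator G ≤ H := by rw [hHdef]; exact le_sup_left
    have hxH : x ∈ H := by
      rw [hHdef]
      exact (le_sup_right : Subgroup.zpowers x ≤ _) (Subgroup.mem_zpowers x)
    have hHn : H.Normal := by
      constructor
      intro m hm g
      have : g * m * g⁻¹ = ⁅g, m⁆ * m := by rw [commutatorElement_def]; group
      rw [this]
      apply H.mul_mem _ hm
      apply hGH
      rw [commutator_def]
      exact Subgroup.commutator_mem_commutator (Subgroup.mem_top g) (Subgroup.mem_top m)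
    have hHnc : ¬ IsMulCommutative H := by
      intro hHc
      apply hnn
      apply Subgroup.isNilpotent_of_ker_le_center (Abelianization.of : G →* Abelianization G)
      rw [Abelianization.ker_of]
      intro d hd
      rw [Subgroup.mem_center_iff]
      intro g
      obtain ⟨a, ha, i, rfl⟩ := hgen g
      have h1 : Commute a d := hAcomm a ha d (hGA hd)
      have h2 : Commute (x ^ i) d := by
        have : Commute x d := congrArg Subtype.val (mul_comm' (⟨x, hxH⟩ : H) ⟨d, hGH hd⟩)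
        exact this.zpow_left i
      exact h1.mul_left h2
    have hNH := hS H hHnc
    rw [Subgroup.normalizer_eq_top] at hNH
    have hcH : c ∈ commutator G ⊔ Subgroup.zpowers x := by
      rw [← hHdef, ← hNH]
      exact Subgroup.mem_top c
    obtain ⟨d, hd, z, hz, hdz⟩ := Subgroup.mem_sup_of_normal_left.mp hcH
    have hzA : z ∈ A := by
      have : z = d⁻¹ * c := by rw [← hdz]; group
      rw [this]
      exact A.mul_mem (inv_mem (hGA hd)) hc
    have hz1 : z = 1 := by
      have : z ∈ A ⊓ Subgroup.zpowers x := ⟨hzA, hz⟩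
      rw [hinf] at this
      exact Subgroup.mem_bot.mp this
    rw [hz1, mul_one] at hdz
    rw [hdz] at hd
    have hpow := central_comm_pow A hAcomm c hcc hd
    have h1 : orderOf c ∣ A.index := orderOf_dvd_of_pow_eq_one hpow
    have h2 : orderOf c ∣ Nat.card A := Subgroup.orderOf_dvd_natCard A hc
    obtain ⟨l, hl⟩ := (IsPGroup.iff_card.mp hpG)
    rw [Subgroup.index_eq_card, hl] at h1
    have h3 : Nat.Coprime (p ^ l) (Nat.card A) :=
      Nat.Coprime.pow_left l ((Nat.Prime.coprime_iff_not_dvd hp).mpr hpA)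
    have h4 : orderOf c ∣ 1 := by
      have := Nat.dvd_gcd h1 h2
      rwa [Nat.Coprime.gcd_eq_one h3] at this
    exact hc1 (orderOf_eq_one_iff.mp (Nat.dvd_one.mp h4))
  exact ⟨x, A, p, hp, hAn, hAc, ⟨k, hk⟩, hpA, hcompl, hxpc, hfpf⟩

/-- Let G be a finite solvable non-nilpotent group. Every non-abelian subgroup of G is self-normalizing if and only if G is a semidirect product ⟨x⟩ ⋉ A in which ⟨x⟩ is a p-group for some prime p, A is a normal abelian subgroup of order prime to p, x^p is central in G, and x acts fixed-point-freely on A (no non-identity element of A commutes with x). -/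
theorem result {G : Type*} [Group G] [Finite G]
    [Group.IsSolvable G] (hnn : ¬ Group.IsNilpotent G) :
    (∀ H : Subgroup G, ¬ IsMulCommutative H → Subgroup.normalizer (H : Set G) = H) ↔
    ∃ (x : G) (A : Subgroup G) (p : ℕ), p.Prime ∧ A.Normal ∧ IsMulCommutative A ∧ (∃ k : ℕ, orderOf x = p ^ k) ∧
      ¬ p ∣ Nat.card A ∧ (Subgroup.zpowers x).IsComplement' A ∧ x ^ p ∈ Subgroup.center G ∧
      ∀ a : G, a ∈ A → a ≠ 1 → x * a * x⁻¹ ≠ a := by
  constructor
  · intro hS
    exact dir_fwd hnn hS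
  · rintro ⟨x, A, p, hp, hAn, hAc, ⟨k, hk⟩, -, hcomp, hxp, hfpf⟩ H hH
    haveI := hAn
    exact dir_rev x A p hp hAc k hk hcomp hxp hfpf H hH

end Cfsg.Agent.S4071
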