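import Cfsg.Statements.S4072
import Mathlib
import Cfsg.Agent.Lib.helper71.MinNonAbelian
import Cfsg.Agent.Lib.helper71.PerfectTransfer

set_option autoImplicit false
open Cfsg

namespace Cfsg.Agent.S4072

open Cfsg.Agent.Lib.helper71
open scoped commutatorElement

/-- Case 1: a self-centralizing proper normal subgroup. -/
theorem case1 {G : Type*} [Group G] [Finite G]
    (hS : ∀ H : Subgroup G, ¬ IsMulCommutative H → Subgroup.normalizer (H : Set G) = H)
    (hperf : commutator G = ⊤) (N : Subgroup G) [hN : N.Normal] (hNtop : N ≠ ⊤)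
    (hcent : Subgroup.centralizer (N : Set G) ≤ N) : False := by
  have hself : ∀ H : Subgroup (G ⧸ N), H ≠ ⊥ → Subgroup.normalizer (H : Set (G ⧸ N)) ≤ H := by
    intro H hH
    have hna : ¬ IsMulCommutative (H.comap (QuotientGroup.mk' N)) := by
      intro hc
      obtain ⟨⟨x, hx⟩, hx1⟩ := (Subgroup.ne_bot_iff_exists_ne_one).mp hH
      obtain ⟨g, rfl⟩ := QuotientGroup.mk_surjective x
      apply hx1
      apply Subtype.ext
      show (g : G ⧸ N) = 1
      rw [QuotientGroup.eq_one_iff]
      apply hcent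
      rw [Subgroup.mem_centralizer_iff]
      intro n hn
      have hnH : n ∈ H.comap (QuotientGroup.mk' N) := by
        rw [Subgroup.mem_comap]
        have : (QuotientGroup.mk' N) n = 1 := (QuotientGroup.eq_one_iff n).mpr hn
        rw [this]; exact one_mem _
      have hgH : g ∈ H.comap (QuotientGroup.mk' N) := hx
      have := mul_comm' (⟨n, hnH⟩ : H.comap (QuotientGroup.mk' N)) ⟨g, hgH⟩
      exact congrArg Subtype.val this
    have h1 := hS _ hna
    rw [← Subgroup.comap_normalizer_eq_of_surjective _ (QuotientGroup.mk'_surjective N)] at h1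
    intro x hx
    obtain ⟨g, rfl⟩ := QuotientGroup.mk_surjective x
    have : g ∈ Subgroup.comap (QuotientGroup.mk' N)
        (Subgroup.normalizer (H : Set (G ⧸ N))) := hx
    rw [h1] at this
    exact this
  have hcard : Nat.card (G ⧸ N) ≠ 1 := by
    rw [← Subgroup.index_eq_card]
    intro h
    exact hNtop (Subgroup.index_eq_one.mp h)
  obtain ⟨p, hp, hpd⟩ := Nat.exists_prime_and_dvd hcard
  have : Fact p.Prime := ⟨hp⟩
  obtain ⟨P⟩ : Nonempty (Sylow p (G ⧸ N)) := inferInstance
  have hPne : (P : Subgroup (G ⧸ N)) ≠ ⊥ := P.ne_bot_of_dvd_card hpd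
  have hPnt : Nontrivial (P : Subgroup (G ⧸ N)) := (Subgroup.nontrivial_iff_ne_bot _).mpr hPne
  have hcnt := P.isPGroup'.center_nontrivial
  have hZne : (Subgroup.center (P : Subgroup (G ⧸ N))).map (P : Subgroup (G ⧸ N)).subtype ≠ ⊥ := by
    rw [Ne, Subgroup.map_eq_bot_iff_of_injective _ (Subgroup.subtype_injective _)]
    exact (Subgroup.nontrivial_iff_ne_bot _).mp hcnt
  have hZ := hself _ hZne
  have hPZ : (P : Subgroup (G ⧸ N))
      ≤ (Subgroup.center (P : Subgroup (G ⧸ N))).map (P : Subgroup (G ⧸ N)).subtype := by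
    intro g hg
    apply hZ
    rw [Subgroup.mem_normalizer_iff]
    intro h
    constructor
    · rintro ⟨z, hz, rfl⟩
      refine ⟨z, hz, ?_⟩
      have h1 := Subgroup.mem_center_iff.mp hz ⟨g, hg⟩
      have h2 : g * (z : G ⧸ N) = (z : G ⧸ N) * g := congrArg Subtype.val h1
      show (z : G ⧸ N) = g * (z : G ⧸ N) * g⁻¹
      rw [h2]; group
    · rintro ⟨z, hz, hzeq⟩
      refine ⟨z, hz, ?_⟩
      have h1 := Subgroup.mem_center_iff.mp hz ⟨g, hg⟩
      have h2 : g * (z : G ⧸ N) = (z : G ⧸ N) * g := congrArg Subtype.val h1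
      have hzeq' : (z : G ⧸ N) = g * h * g⁻¹ := hzeq
      show (z : G ⧸ N) = h
      have h3 : h = g⁻¹ * (g * h * g⁻¹) * g := by group
      rw [h3, ← hzeq', mul_assoc, ← h2, inv_mul_cancel_left]
  have hPcomm : ∀ a ∈ (P : Subgroup (G ⧸ N)), ∀ b ∈ (P : Subgroup (G ⧸ N)), a * b = b * a := by
    intro a ha b hb
    obtain ⟨z, hz, rfl⟩ := hPZ ha
    have := Subgroup.mem_center_iff.mp hz ⟨b, hb⟩
    exact (congrArg Subtype.val this).symm
  have hNC : Subgroup.normalizer ((P : Subgroup (G ⧸ N)) : Set (G ⧸ N))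
      ≤ Subgroup.centralizer ((P : Subgroup (G ⧸ N)) : Set (G ⧸ N)) := by
    intro g hg
    have hgP := hself _ hPne hg
    rw [Subgroup.mem_centralizer_iff]
    intro h hh
    exact hPcomm h hh g hgP
  exact hPne (sylow_eq_bot_of_perfect (commutator_quotient_eq_top hperf N) P hNC)

/-- Case 2: a central element of prime order. -/
theorem case2' {G : Type*} [Group G] [Finite G]
    (hS : ∀ H : Subgroup G, ¬ IsMulCommutative H → Subgroup.normalizer (H : Set G) = H)
    (hperf : commutator G = ⊤) (p : ℕ) [hp : Fact p.Prime] (z : G) (hzc : z ∈ Subgroup.center G)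
    (hzp : orderOf z = p) : False := by
  have hz1 : z ≠ 1 := by
    rintro rfl
    rw [orderOf_one] at hzp
    exact hp.out.one_lt.ne hzp
  have hzpg : IsPGroup p (Subgroup.zpowers z) :=
    IsPGroup.of_card (n := 1) (by rw [Nat.card_zpowers, hzp, pow_one])
  obtain ⟨P, hP⟩ := hzpg.exists_le_sylow
  have hzP : z ∈ (P : Subgroup G) := hP (Subgroup.mem_zpowers z)
  have hT := center_mem_commutator_sylow hperf P z hzc hzP
  have hna : ∃ a b : (P : Subgroup G), a * b ≠ b * a := by
    by_contra h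
    push Not at h
    have : commutator (P : Subgroup G) = ⊥ := by
      rw [eq_bot_iff, commutator_def, Subgroup.commutator_le]
      intro x _ y _
      rw [Subgroup.mem_bot, commutatorElement_eq_one_iff_mul_comm]
      exact h x y
    rw [this, Subgroup.mem_bot] at hT
    exact hz1 (congrArg Subtype.val hT)
  obtain ⟨a, b, hab⟩ := hna
  have hPna : ¬ IsMulCommutative (P : Subgroup G) := fun h => hab (mul_comm' a b)
  have hNP : Subgroup.normalizer ((P : Subgroup G) : Set G) = P := hS _ hPna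
  have hmin' : ∀ H : Subgroup G, H ≤ P → H ≠ P → IsMulCommutative H := by
    intro H hHP hne
    by_contra hH
    have h1 := hS H hH
    have hnil : Group.IsNilpotent (P : Subgroup G) := P.isPGroup'.isNilpotent
    have hlt : H.subgroupOf P < ⊤ := by
      rw [lt_top_iff_ne_top, Ne, Subgroup.subgroupOf_eq_top]
      intro h; exact hne (le_antisymm hHP h)
    have h2 := Group.normalizerCondition_of_isNilpotent (G := (P : Subgroup G)) _ hlt
    rw [← Subgroup.subgroupOf_normalizer_eq hHP, h1] at h2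
    exact lt_irrefl _ h2
  have hmin : ∀ H : Subgroup (P : Subgroup G), H ≠ ⊤ → ∀ x ∈ H, ∀ y ∈ H, x * y = y * x := by
    intro H hH x hx y hy
    have h1 : H.map (P : Subgroup G).subtype ≤ P := by
      rintro _ ⟨g, _, rfl⟩; exact g.2
    have h2 : H.map (P : Subgroup G).subtype ≠ P := by
      intro h
      apply hH
      rw [eq_top_iff]
      intro g _
      have : (g : G) ∈ H.map (P : Subgroup G).subtype := by rw [h]; exact g.2
      obtain ⟨g', hg', hgg'⟩ := this
      have : g' = g := Subtype.ext hgg'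
      rw [← this]; exact hg'
    have h3 := hmin' _ h1 h2
    have := mul_comm' (⟨x, Subgroup.mem_map_of_mem _ hx⟩ : H.map (P : Subgroup G).subtype)
      ⟨y, Subgroup.mem_map_of_mem _ hy⟩
    have := congrArg Subtype.val this
    exact Subtype.ext this
  obtain ⟨c, hcc, hcp, hcomm⟩ := minNonAbelian_structure P.isPGroup' a b hab hmin
  have hzc' : (⟨z, hzP⟩ : (P : Subgroup G)) ∈ Subgroup.zpowers c := hcomm hT
  obtain ⟨i, hi⟩ := Subgroup.mem_zpowers_iff.mp hzc'
  have hpi : ¬ (p : ℤ) ∣ i := by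
    rintro ⟨j, rfl⟩
    rw [zpow_mul, zpow_natCast, hcp, one_zpow] at hi
    exact hz1 (congrArg Subtype.val hi.symm)
  have hc_mem : c ∈ Subgroup.zpowers (⟨z, hzP⟩ : (P : Subgroup G)) := by
    apply mem_of_zpow_mem_of_isCoprime (m := i) (n := (p : ℤ))
    · exact ((Nat.prime_iff_prime_int.mp hp.out).coprime_iff_not_dvd.mpr hpi).symm
    · rw [hi]; exact Subgroup.mem_zpowers _
    · rw [zpow_natCast, hcp]; exact one_mem _
  have hcomm2 : ∀ x y : (P : Subgroup G), ∃ j : ℤ,
      (x : G) * y * (x : G)⁻¹ * (y : G)⁻¹ = z ^ j := by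
    intro x y
    have h1 : ⁅x, y⁆ ∈ commutator (P : Subgroup G) := by
      rw [commutator_def]
      exact Subgroup.commutator_mem_commutator (Subgroup.mem_top x) (Subgroup.mem_top y)
    have h2 : ⁅x, y⁆ ∈ Subgroup.zpowers (⟨z, hzP⟩ : (P : Subgroup G)) :=
      (Subgroup.zpowers_le.mpr hc_mem) (hcomm h1)
    obtain ⟨j, hj⟩ := Subgroup.mem_zpowers_iff.mp h2
    refine ⟨j, ?_⟩
    have := congrArg Subtype.val hj
    simp [commutatorElement_def] at this
    exact this.symm
  have hCn : (Subgroup.zpowers z).Normal := by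
    constructor
    intro n hn g
    obtain ⟨i, rfl⟩ := Subgroup.mem_zpowers_iff.mp hn
    have : g * z ^ i * g⁻¹ = z ^ i := by
      have := Subgroup.mem_center_iff.mp (zpow_mem hzc i) g
      rw [this]; group
    rw [this]; exact hn
  obtain ⟨P', hP'coe⟩ : ∃ P' : Sylow p (G ⧸ Subgroup.zpowers z),
      (P' : Subgroup (G ⧸ Subgroup.zpowers z))
        = (P : Subgroup G).map (QuotientGroup.mk' (Subgroup.zpowers z)) :=
    ⟨_, Sylow.coe_mapSurjective (QuotientGroup.mk'_surjective _) P⟩
  have hNC : Subgroup.normalizer ((P' : Subgroup (G ⧸ Subgroup.zpowers z)) : Set (G ⧸ Subgroup.zpowers z))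
      ≤ Subgroup.centralizer ((P' : Subgroup (G ⧸ Subgroup.zpowers z)) : Set (G ⧸ Subgroup.zpowers z)) := by
    intro g hg
    obtain ⟨g, rfl⟩ := QuotientGroup.mk_surjective g
    have h1 : g ∈ Subgroup.comap (QuotientGroup.mk' (Subgroup.zpowers z))
        (Subgroup.normalizer ((P' : Subgroup (G ⧸ Subgroup.zpowers z)) : Set (G ⧸ Subgroup.zpowers z))) := hg
    rw [Subgroup.comap_normalizer_eq_of_surjective _ (QuotientGroup.mk'_surjective _), hP'coe,
      Subgroup.comap_map_eq_self (by rw [QuotientGroup.ker_mk']; exact hP), hNP] at h1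
    rw [Subgroup.mem_centralizer_iff]
    intro h hh
    rw [SetLike.mem_coe, hP'coe] at hh
    obtain ⟨h, hhP, rfl⟩ := hh
    obtain ⟨j, hj⟩ := hcomm2 ⟨h, hhP⟩ ⟨g, h1⟩
    show ((h : G) : G ⧸ Subgroup.zpowers z) * (g : G ⧸ _) = (g : G ⧸ _) * (h : G ⧸ _)
    rw [← QuotientGroup.mk_mul, ← QuotientGroup.mk_mul, QuotientGroup.eq]
    have e : (h * g)⁻¹ * (g * h) = (g⁻¹ * h⁻¹) * (h * g * h⁻¹ * g⁻¹)⁻¹ * (g⁻¹ * h⁻¹)⁻¹ := by group
    rw [e]
    simp only at hj
    rw [hj]
    exact hCn.conj_mem _ (inv_mem (zpow_mem (Subgroup.mem_zpowers z) j)) _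
  have hbot := sylow_eq_bot_of_perfect (commutator_quotient_eq_top hperf _) P' hNC
  rw [hP'coe, Subgroup.map_eq_bot_iff, QuotientGroup.ker_mk'] at hbot
  apply hab
  obtain ⟨i, hi⟩ := Subgroup.mem_zpowers_iff.mp (hbot a.2)
  obtain ⟨j, hj⟩ := Subgroup.mem_zpowers_iff.mp (hbot b.2)
  apply Subtype.ext
  show (a : G) * b = b * a
  rw [← hi, ← hj, ← zpow_add, ← zpow_add, add_comm]

theorem case2 {G : Type*} [Group G] [Finite G]
    (hS : ∀ H : Subgroup G, ¬ IsMulCommutative H → Subgroup.normalizer (H : Set G) = H)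
    (hperf : commutator G = ⊤) (z : G) (hzc : z ∈ Subgroup.center G) (hz1 : z ≠ 1) : False := by
  have hord : orderOf z ≠ 1 := fun h => hz1 (orderOf_eq_one_iff.mp h)
  obtain ⟨p, hp, hpd⟩ := Nat.exists_prime_and_dvd hord
  have : Fact p.Prime := ⟨hp⟩
  have hz' : orderOf (z ^ (orderOf z / p)) = p := orderOf_pow_orderOf_div (orderOf_pos z).ne' hpd
  exact case2' hS hperf p (z ^ (orderOf z / p)) (pow_mem hzc _) hz'

/-- A finite group in which every non-abelian subgroup is self-normalizing is solvable or simple. -/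
theorem result {G : Type*} [Group G] [Finite G] (hS : ∀ H : Subgroup G, ¬ IsMulCommutative H → Subgroup.normalizer (H : Set G) = H) :
    Group.IsSolvable G ∨ IsSimpleGroup G := by
  by_contra hcon
  push Not at hcon
  obtain ⟨hns, hnsimp⟩ := hcon
  have hnt : Nontrivial G := by
    by_contra h
    rw [not_nontrivial_iff_subsingleton] at h
    exact hns inferInstance
  have hex : ∃ N : Subgroup G, N.Normal ∧ N ≠ ⊥ ∧ N ≠ ⊤ := by
    by_contra h
    push Not at h
    exact hnsimp (IsSimpleGroup.mk fun N hN => by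
      by_cases hb : N = ⊥
      · exact Or.inl hb
      · exact Or.inr (h N hN hb))
  have habn : ∀ N : Subgroup G, N.Normal → N ≠ ⊤ → IsMulCommutative N := by
    intro N hN hNt
    by_contra h
    have := hS N h
    rw [Subgroup.normalizer_eq_top_iff.mpr hN] at this
    exact hNt this.symm
  have hperf : commutator G = ⊤ := by
    by_contra h
    have hc := habn (commutator G) inferInstance h
    apply hns
    have h1 : Group.IsSolvable (commutator G) :=
      Group.isSolvable_of_comm (fun a b => mul_comm' a b)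
    exact Group.isSolvable_of_ker_le_range (commutator G).subtype (Abelianization.of)
      (by rw [Abelianization.ker_of, Subgroup.range_subtype])
  obtain ⟨N, hN, hNbot, hNtop⟩ := hex
  have hNc := habn N hN hNtop
  by_cases hcN : Subgroup.centralizer (N : Set G) = ⊤
  · obtain ⟨⟨z, hzN⟩, hz1⟩ := (Subgroup.ne_bot_iff_exists_ne_one).mp hNbot
    refine case2 hS hperf z ?_ (fun h => hz1 (Subtype.ext h))
    rw [Subgroup.mem_center_iff]
    intro g
    have hg : g ∈ Subgroup.centralizer (N : Set G) := by rw [hcN]; trivial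
    exact (Subgroup.mem_centralizer_iff.mp hg z hzN).symm
  · have hN1n : (Subgroup.centralizer (N : Set G)).Normal := Subgroup.normal_centralizer
    have hNle : N ≤ Subgroup.centralizer (N : Set G) :=
      Subgroup.le_centralizer_iff_isMulCommutative.mpr hNc
    exact case1 hS hperf (Subgroup.centralizer (N : Set G)) hcN (Subgroup.centralizer_le hNle)

end Cfsg.Agent.S4072
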