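import Cfsg.Statements.S4073
import Cfsg.Agent.Lib.helper69.SNDefs
import Cfsg.Agent.Lib.helper69.SNStruct
import Cfsg.Agent.S2202
import Cfsg.Agent.Lib.helper7.CardSL
import Cfsg.Agent.Lib.helper82.SNG_E1
import Cfsg.Agent.Lib.helper29.SNG_E2
import Cfsg.Agent.Lib.helper61.SNG_BOREL
import Cfsg.Agent.Lib.helper32.SNG_FIELD
import Cfsg.Agent.Lib.helper25.SNG_ODD
import Cfsg.Agent.Lib.helper15.SNG_CONVcore
import Cfsg.Agent.Lib.helper18.SNG_DICKSON
import Cfsg.Agent.Lib.helper30.SNG_CTA

set_option autoImplicit false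
open Cfsg

namespace Cfsg.Agent.S4073

/-- A simple group of order 6 does not exist. -/
theorem h69_not_simple_six {G : Type*} [Group G] [Finite G] [IsSimpleGroup G]
    (h6 : Nat.card G = 6) : False := by
  have : Fact (Nat.Prime 3) := ⟨Nat.prime_three⟩
  obtain ⟨g, hg⟩ := exists_prime_orderOf_dvd_card' (G := G) 3 (by rw [h6]; norm_num)
  have hZ : Nat.card (Subgroup.zpowers g) = 3 := by rw [Nat.card_zpowers, hg]
  have hidx : (Subgroup.zpowers g).index = 2 := by
    have := (Subgroup.zpowers g).card_mul_index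
    rw [hZ, h6] at this
    omega
  have hn : (Subgroup.zpowers g).Normal := Subgroup.normal_of_index_eq_two hidx
  rcases IsSimpleGroup.eq_bot_or_eq_top_of_normal (Subgroup.zpowers g) hn with hb | ht
  · rw [hb, Subgroup.card_bot] at hZ
    omega
  · rw [ht, Subgroup.card_top, h6] at hZ
    omega

/-- Let G be a finite non-abelian simple group. Every non-abelian subgroup of G is self-normalizing if and only if G is isomorphic to PSL₂(2ⁿ) for some n ≥ 2 with 2ⁿ − 1 prime (this includes the alternating group of degree 5 as PSL₂(4)). -/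
theorem result {G : Type*} [Group G] [Finite G] [IsSimpleGroup G]
    (hna : ¬ IsMulCommutative G) :
    (∀ H : Subgroup G, ¬ IsMulCommutative H → Subgroup.normalizer (H : Set G) = H) ↔
    ∃ n : ℕ, 2 ≤ n ∧ (2 ^ n - 1).Prime ∧ Nonempty (G ≃* Matrix.ProjectiveSpecialLinearGroup (Fin 2) (GaloisField 2 n)) := by
  have hnc : ¬ ∀ a b : G, a * b = b * a := fun h => hna ⟨⟨h⟩⟩
  constructor
  · intro hSN
    have hSN' : Cfsg.Agent.Lib.helper69.SNG.SN G := hSN
    rcases Nat.even_or_odd (Nat.card G) with heven | hodd
    · have hSyl : ∀ S : Sylow 2 G, IsMulCommutative S := fun S => Cfsg.Agent.Lib.helper82.SNG.sn_sylow2_comm hna hSN' S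
      have hcent : ∀ t : G, orderOf t = 2 →
          IsMulCommutative ↥(Subgroup.centralizer ({t} : Set G)) :=
        fun t ht => Cfsg.Agent.Lib.helper29.SNG.sn_invol_cent_comm hna hSN' hSyl t ht
      have : Fact (Nat.Prime 2) := ⟨Nat.prime_two⟩
      rcases Cfsg.Agent.S2202.result heven hcent with hcyc | hnor |
        ⟨F, instF, instFt, A, instA, instAf, hchar, hAodd, ⟨e⟩⟩
      · exfalso
        have h2 : (Nat.card G).minFac = 2 := (Nat.minFac_eq_two_iff _).mpr heven.two_dvd
        obtain ⟨P⟩ : Nonempty (Sylow 2 G) := inferInstance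
        have hP : IsCyclic ↥P := hcyc P
        have hcomp := IsCyclic.isComplement' h2 hP
        have hcard := hcomp.card_mul_card
        have hPne : (P : Subgroup G) ≠ ⊥ := P.ne_bot_of_dvd_card heven.two_dvd
        rcases IsSimpleGroup.eq_bot_or_eq_top_of_normal _
          (MonoidHom.normal_ker (MonoidHom.transferSylow P (hP.normalizer_le_centralizer h2))) with hN | hN
        · rw [hN, Subgroup.card_bot, one_mul] at hcard
          have hPtop : (P : Subgroup G) = ⊤ := Subgroup.eq_top_of_card_eq _ hcard
          apply hnc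
          intro a b
          have ha : a ∈ (P : Subgroup G) := hPtop ▸ Subgroup.mem_top a
          have hb : b ∈ (P : Subgroup G) := hPtop ▸ Subgroup.mem_top b
          obtain ⟨g, hg⟩ := hP.exists_generator
          obtain ⟨i, hi⟩ := Subgroup.mem_zpowers_iff.mp (hg ⟨a, ha⟩)
          obtain ⟨j, hj⟩ := Subgroup.mem_zpowers_iff.mp (hg ⟨b, hb⟩)
          have hab : (⟨a, ha⟩ : ↥(P : Subgroup G)) * ⟨b, hb⟩ = ⟨b, hb⟩ * ⟨a, ha⟩ := by
            rw [← hi, ← hj]
            exact zpow_mul_comm g i j
          exact congrArg Subtype.val hab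
        · rw [hN, Subgroup.card_top] at hcard
          have hP1 : Nat.card ↥(P : Subgroup G) = 1 := by
            have hpos : 0 < Nat.card G := Nat.card_pos
            exact Nat.eq_of_mul_eq_mul_left hpos (by rw [hcard, mul_one])
          exact hPne (Subgroup.card_eq_one.mp hP1)
      · exfalso
        obtain ⟨P⟩ : Nonempty (Sylow 2 G) := inferInstance
        have hPne : (P : Subgroup G) ≠ ⊥ := P.ne_bot_of_dvd_card heven.two_dvd
        rcases IsSimpleGroup.eq_bot_or_eq_top_of_normal (P : Subgroup G) (hnor P) with hb | ht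
        · exact hPne hb
        · have hpg : IsPGroup 2 G := by
            intro g
            have hgP : g ∈ (P : Subgroup G) := ht ▸ Subgroup.mem_top g
            obtain ⟨k, hk⟩ := P.isPGroup' ⟨g, hgP⟩
            exact ⟨k, by simpa using congrArg Subtype.val hk⟩
          have : Group.IsNilpotent G := hpg.isNilpotent
          exact hnc (IsSimpleGroup.comm_iff_isSolvable.mpr inferInstance)
      · let φ : G →* Matrix.SpecialLinearGroup (Fin 2) F :=
          (MonoidHom.fst (Matrix.SpecialLinearGroup (Fin 2) F) A).comp e.toMonoidHom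
        have hφs : Function.Surjective φ := by
          intro x
          refine ⟨e.symm (x, 1), ?_⟩
          simp [φ]
        rcases IsSimpleGroup.eq_bot_or_eq_top_of_normal φ.ker (MonoidHom.normal_ker φ) with hk | hk
        · have hφi : Function.Injective φ := (MonoidHom.ker_eq_bot_iff φ).mp hk
          let e' : G ≃* Matrix.SpecialLinearGroup (Fin 2) F := MulEquiv.ofBijective φ ⟨hφi, hφs⟩
          obtain ⟨n, -, hn⟩ := FiniteField.card F 2
          have hf : 2 ≤ (n : ℕ) := by
            by_contra hlt
            have hn1 : (n : ℕ) = 1 := by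
              have := n.pos
              omega
            have hcF : Fintype.card F = 2 := by rw [hn, hn1]; rfl
            have hcG : Nat.card G = 6 := by
              rw [Nat.card_congr e'.toEquiv, Cfsg.Agent.Lib.helper7.card_SL2 hcF]
              norm_num
            exact h69_not_simple_six hcG
          have hSL : Cfsg.Agent.Lib.helper69.SNG.SN (Matrix.SpecialLinearGroup (Fin 2) F) := Cfsg.Agent.Lib.helper69.SNG.SN.of_mulEquiv hSN' e'
          have hprime : (2 ^ (n : ℕ) - 1).Prime := Cfsg.Agent.Lib.helper61.SNG.sl2_sn_prime hf hn hSL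
          obtain ⟨e2⟩ := Cfsg.Agent.Lib.helper32.SNG.sl2_equiv_psl2_galois (F := F) (n := (n : ℕ)) (by omega) hn
          exact ⟨n, hf, hprime, ⟨e'.trans e2⟩⟩
        · exfalso
          obtain ⟨g, hg⟩ := hφs ⟨!![1, 1; 0, 1], by simp [Matrix.det_fin_two]⟩
          have hg1 : φ g = 1 := by
            have : g ∈ φ.ker := hk ▸ Subgroup.mem_top g
            exact this
          rw [hg1] at hg
          have h01 := congrArg (fun m : Matrix.SpecialLinearGroup (Fin 2) F =>
            (m : Matrix (Fin 2) (Fin 2) F) 0 1) hg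
          simp at h01
    · exact absurd (IsSimpleGroup.comm_iff_isSolvable.mpr (Cfsg.Agent.Lib.helper25.SNG.sn_odd_solvable hSN' hodd)) hnc
  · rintro ⟨n, hn, hp, ⟨e⟩⟩
    exact Cfsg.Agent.Lib.helper15.SNG.helper15_sn_of_psl2_core hna hn hp e
      (fun K hK => Cfsg.Agent.Lib.helper18.SNG.psl2_subgroup_types hn hp e K hK)
      (fun hCT hcard P => Cfsg.Agent.Lib.helper30.SNG.ct_sylow2_normalizer hna hCT hn hp hcard P)

end Cfsg.Agent.S4073
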