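import Mathlib
import Cfsg.Statements.S4074
-- import your own Cfsg.Agent.* helpers here

set_option autoImplicit false
open Cfsg

namespace Cfsg.Agent.S4074

open DihedralGroup

/-- The parity homomorphism of a dihedral group of even degree. -/
def parityHom (n : ℕ) (h : 2 ∣ n) : DihedralGroup n →* Multiplicative (ZMod 2) where
  toFun x := match x with
    | r i => Multiplicative.ofAdd (ZMod.castHom h (ZMod 2) i)
    | sr i => Multiplicative.ofAdd (ZMod.castHom h (ZMod 2) i)
  map_one' := by
    rw [one_def]
    simp
  map_mul' x y := by
    rcases x with i | i <;> rcases y with j | j <;>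
      simp only [r_mul_r, r_mul_sr, sr_mul_r, sr_mul_sr, map_add, map_sub, ← ofAdd_add,
        CharTwo.sub_eq_add, add_comm]

theorem parityHom_r (n : ℕ) (h : 2 ∣ n) (i : ZMod n) :
    parityHom n h (r i) = Multiplicative.ofAdd (ZMod.castHom h (ZMod 2) i) := rfl

theorem parityHom_sr (n : ℕ) (h : 2 ∣ n) (i : ZMod n) :
    parityHom n h (sr i) = Multiplicative.ofAdd (ZMod.castHom h (ZMod 2) i) := rfl


/-- For n > 2, every non-abelian subgroup of the dihedral group of order 2n is self-normalizing if and only if n = 4 or n is odd. -/
theorem result (n : ℕ) (hn : 2 < n) :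
    (∀ H : Subgroup (DihedralGroup n), ¬ IsMulCommutative H → Subgroup.normalizer (H : Set (DihedralGroup n)) = H) ↔
    (n = 4 ∨ Odd n) := by
  constructor
  · intro hS
    by_contra hcon
    push Not at hcon
    obtain ⟨hn4, hodd⟩ := hcon
    have heven : 2 ∣ n := by
      rw [← even_iff_two_dvd, ← Nat.not_odd_iff_even]
      exact hodd
    -- the kernel of the parity map is a non-abelian normal subgroup of index 2
    have hK : ¬ IsMulCommutative (parityHom n heven).ker := by
      intro hc
      have h1 : (r 2 : DihedralGroup n) ∈ (parityHom n heven).ker := by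
        rw [MonoidHom.mem_ker, parityHom_r, map_ofNat]
        rfl
      have h2 : (sr 0 : DihedralGroup n) ∈ (parityHom n heven).ker := by
        rw [MonoidHom.mem_ker, parityHom_sr]
        simp
      have h3 : (r 2 : DihedralGroup n) * sr 0 = sr 0 * r 2 := setLike_mul_comm h1 h2
      rw [r_mul_sr, sr_mul_r] at h3
      have h4 : (0 : ZMod n) - 2 = 0 + 2 := by
        injection h3
      have h5 : ((4 : ℕ) : ZMod n) = 0 := by
        push_cast
        linear_combination -h4
      rw [ZMod.natCast_eq_zero_iff] at h5
      have := Nat.le_of_dvd (by norm_num) h5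
      obtain ⟨m, rfl⟩ := heven
      omega
    have h1 := hS _ hK
    have h2 : Subgroup.normalizer (((parityHom n heven).ker : Subgroup (DihedralGroup n)) :
        Set (DihedralGroup n)) = ⊤ := Subgroup.normalizer_eq_top_iff.mpr inferInstance
    rw [h2] at h1
    have h3 : (r 1 : DihedralGroup n) ∈ (parityHom n heven).ker := by
      rw [← h1]
      exact Subgroup.mem_top _
    rw [MonoidHom.mem_ker, parityHom_r, map_one] at h3
    exact absurd h3 (by decide)
  · rintro (rfl | hodd) H hH
    · -- `n = 4`: a non-abelian subgroup of a group of order 8 is everything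
      have hcard : Nat.card (DihedralGroup 4) = 8 := by
        rw [DihedralGroup.nat_card]
      have hdvd : Nat.card H ∣ 8 := hcard ▸ Subgroup.card_subgroup_dvd_card H
      have hle : Nat.card H ≤ 8 := Nat.le_of_dvd (by norm_num) hdvd
      have htop : H = ⊤ := by
        apply Subgroup.eq_top_of_card_eq
        rw [hcard]
        by_contra hne
        apply hH
        have : Fact (Nat.Prime 2) := ⟨Nat.prime_two⟩
        have hpos : 0 < Nat.card H := Nat.card_pos
        interval_cases hc : Nat.card H
        · have : IsCyclic H := isCyclic_of_card_dvd_prime (p := 2) (by rw [hc]; norm_num)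
          infer_instance
        · have : IsCyclic H := isCyclic_of_card_dvd_prime (p := 2) (by rw [hc])
          infer_instance
        · exact absurd hdvd (by norm_num)
        · exact IsPGroup.isMulCommutative_of_card_eq_prime_sq (p := 2) (by rw [hc]; norm_num)
        · exact absurd hdvd (by norm_num)
        · exact absurd hdvd (by norm_num)
        · exact absurd hdvd (by norm_num)
        · exact absurd rfl hne
      subst htop
      exact Subgroup.normalizer_eq_top_iff.mpr inferInstance
    · -- `n` odd
      apply le_antisymm _ Subgroup.le_normalizer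
      -- `H` contains a reflection
      have hrefl : ∃ i : ZMod n, sr i ∈ H := by
        by_contra hno
        push Not at hno
        apply hH
        rw [isMulCommutative_iff]
        rintro ⟨a, ha⟩ ⟨b, hb⟩
        apply Subtype.ext
        rcases a with i | i
        · rcases b with j | j
          · simp only [Subgroup.coe_mul, r_mul_r, add_comm]
          · exact absurd hb (hno j)
        · exact absurd ha (hno i)
      obtain ⟨i, hi⟩ := hrefl
      obtain ⟨t, ht⟩ := hodd
      -- rotations in the normalizer lie in `H`
      have hrot : ∀ k : ZMod n, r k ∈ Subgroup.normalizer (H : Set (DihedralGroup n)) → r k ∈ H := by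
        intro k hk
        rw [Subgroup.mem_normalizer_iff] at hk
        have h1 := (hk (sr i)).mp hi
        rw [r_mul_sr, inv_r, sr_mul_r] at h1
        have h2 := H.mul_mem hi h1
        rw [sr_mul_sr] at h2
        have h3 := H.pow_mem (H.inv_mem h2) (t + 1)
        rw [inv_r, r_pow] at h3
        have e : -(i - k + -k - i) * ((t + 1 : ℕ) : ZMod n) = k := by
          have hn0 : ((2 * t + 1 : ℕ) : ZMod n) = 0 := by
            rw [← ht]
            exact ZMod.natCast_self n
          push_cast at hn0 ⊢
          linear_combination k * hn0
        rwa [e] at h3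
      intro g hg
      rcases g with k | k
      · exact hrot k hg
      · have h1 : r (i - k) ∈ Subgroup.normalizer (H : Set (DihedralGroup n)) := by
          have := Subgroup.mul_mem _ hg (Subgroup.le_normalizer hi)
          rwa [sr_mul_sr] at this
        have h2 := H.mul_mem (hrot _ h1) hi
        rw [r_mul_sr] at h2
        have e : i - (i - k) = k := by ring
        rwa [e] at h2

end Cfsg.Agent.S4074
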