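import Cfsg.Statements.S4075
-- import your own Cfsg.Agent.* helpers here

set_option autoImplicit false
open Cfsg

namespace Cfsg.Agent.S4075

/-- Let G be a finite nilpotent group. Every non-abelian subgroup of G is self-normalizing if and only if G is abelian or G is a minimal non-abelian p-group for some prime p (non-abelian of prime-power order with every proper subgroup abelian). -/
theorem result {G : Type*} [Group G] [Finite G]
    [Group.IsNilpotent G] :
    (∀ H : Subgroup G, ¬ IsMulCommutative H → Subgroup.normalizer (H : Set G) = H) ↔
    (IsMulCommutative G ∨ (IsPrimePow (Nat.card G) ∧ ¬ IsMulCommutative G ∧ ∀ H : Subgroup G, H ≠ ⊤ → IsMulCommutative H)) := by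
  constructor
  · intro hS
    have hnc : NormalizerCondition G := Group.normalizerCondition_of_isNilpotent
    have hprop : ∀ H : Subgroup G, H ≠ ⊤ → IsMulCommutative H := by
      intro H hH
      by_contra hc
      have h1 := hS H hc
      have h2 := hnc H (lt_top_iff_ne_top.mpr hH)
      rw [h1] at h2
      exact lt_irrefl _ h2
    by_cases hG : IsMulCommutative G
    · exact Or.inl hG
    refine Or.inr ⟨?_, hG, hprop⟩
    by_cases hex : ∃ (p : (Nat.card G).primeFactors) (P : Sylow (p : ℕ) G), (P : Subgroup G) = ⊤
    · obtain ⟨p, P, hP⟩ := hex
      have hp : (p : ℕ).Prime := Nat.prime_of_mem_primeFactors p.2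
      have : Fact (p : ℕ).Prime := ⟨hp⟩
      have hcard : Nat.card G = (p : ℕ) ^ (Nat.card G).factorization p := by
        rw [← P.card_eq_multiplicity]
        have : Nat.card (P : Subgroup G) = Nat.card G := by
          rw [hP]
          exact Subgroup.card_top
        exact this.symm
      rw [hcard]
      refine ⟨p, (Nat.card G).factorization p, Nat.prime_iff.mp hp, ?_, rfl⟩
      exact hp.factorization_pos_of_dvd Nat.card_pos.ne' (Nat.dvd_of_mem_primeFactors p.2)
    · exfalso
      push Not at hex
      obtain ⟨e⟩ := (Group.isNilpotent_of_finite_tfae (G := G)).out 0 4 rfl rfl |>.mp inferInstance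
      apply hG
      rw [isMulCommutative_iff]
      have hpi : ∀ x y : (∀ p : (Nat.card G).primeFactors, ∀ P : Sylow (p : ℕ) G,
          (↑P : Subgroup G)), x * y = y * x := by
        intro x y
        funext p P
        have := hprop (P : Subgroup G) (hex p P)
        exact mul_comm' (x p P) (y p P)
      intro a b
      have := hpi (e.symm a) (e.symm b)
      rw [← map_mul, ← map_mul] at this
      exact e.symm.injective this
  · rintro (hG | ⟨-, -, hprop⟩) H hH
    · exfalso
      apply hH
      rw [isMulCommutative_iff]
      intro a b
      apply Subtype.ext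
      exact mul_comm' (a : G) (b : G)
    · have : H = ⊤ := by
        by_contra hne
        exact hH (hprop H hne)
      subst this
      exact Subgroup.normalizer_eq_top_iff.mpr inferInstance

end Cfsg.Agent.S4075
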