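import Cfsg.Statements.S4079
import Mathlib
import Cfsg.Agent.Lib.helper65.MetaAutP
-- import your own Cfsg.Agent.* helpers here

set_option autoImplicit false
open Cfsg

namespace Cfsg.Agent.S4079

open Cfsg.Agent.Lib.helper65

theorem fixed_zpowers {L : Type*} [Group L] (a : MulAut L) (x : L) (h : a x = x)
    (g : Subgroup.zpowers a) : (g : MulAut L) x = x := by
  obtain ⟨k, hk⟩ := Subgroup.mem_zpowers_iff.mp g.2
  have hk' : ∀ k : ℤ, (a ^ k) x = x := by
    intro k
    induction k using Int.induction_on with
    | zero => simp
    | succ i ih =>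
      rw [zpow_add_one, MulAut.mul_apply, h, ih]
    | pred i ih =>
      rw [zpow_sub_one, MulAut.mul_apply]
      have : a⁻¹ x = x := by
        rw [MulAut.inv_apply, MulEquiv.symm_apply_eq, h]
      rw [this, ih]
  rw [← hk]; exact hk' k

theorem mem_centralizer_inr_iff {L : Type*} [Group L] (a : MulAut L)
    (x : SemidirectProduct L ↥(Subgroup.zpowers a) (Subgroup.zpowers a).subtype) :
    x ∈ Subgroup.centralizer
      ({SemidirectProduct.inr ⟨a, Subgroup.mem_zpowers a⟩} :
        Set (SemidirectProduct L ↥(Subgroup.zpowers a) (Subgroup.zpowers a).subtype)) ↔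
      a x.left = x.left := by
  rw [Subgroup.mem_centralizer_iff]
  constructor
  · intro h
    have h1 := h _ rfl
    have h2 := congrArg SemidirectProduct.left h1
    simpa using h2
  · intro h y hy
    rw [Set.mem_singleton_iff] at hy
    subst hy
    apply SemidirectProduct.ext
    · simp [h]
    · simp only [SemidirectProduct.mul_right, SemidirectProduct.right_inr]
      obtain ⟨k, hk⟩ := Subgroup.mem_zpowers_iff.mp x.right.2
      apply Subtype.ext
      simp only [Subgroup.coe_mul]
      rw [← hk]
      exact ((Commute.refl a).zpow_right k).eq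

/-- Let p be an odd prime and L a finite metacyclic p-group with no cyclic subgroup of index p, and let a be an automorphism of L of order p. Then a moves some element of order p of L if and only if p = 3 and the semidirect product L ⋊ ⟨a⟩ (of order 3·#L) has maximal class, i.e. nilpotency class m where #L = 3^m. -/
theorem result {L : Type*} [Group L] [Finite L] {p : ℕ} [Fact p.Prime]
    (hp : p ≠ 2) (hL : IsPGroup p L) (hmc : Cfsg.IsMetacyclic L) (hnc : ∀ C : Subgroup L, IsCyclic C → C.index ≠ p)
    (a : MulAut L) (ha : orderOf a = p) (m : ℕ) (hm : Nat.card L = p ^ m) :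
    (∃ x : L, orderOf x = p ∧ a x ≠ x) ↔
    (p = 3 ∧ Group.nilpotencyClass (SemidirectProduct L ↥(Subgroup.zpowers a) (Subgroup.zpowers a).subtype) = m) := by
  have hpp : p.Prime := Fact.out
  have hfin : Finite (SemidirectProduct L ↥(Subgroup.zpowers a) (Subgroup.zpowers a).subtype) :=
    Finite.of_equiv _ SemidirectProduct.equivProd.symm
  have hX : Nat.card (SemidirectProduct L ↥(Subgroup.zpowers a) (Subgroup.zpowers a).subtype) =
      p ^ (m + 1) := by
    rw [SemidirectProduct.card, hm, Nat.card_zpowers, ha, pow_succ]
  have hm1 : 1 ≤ m := by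
    by_contra h
    have h0 : m = 0 := by omega
    rw [h0, pow_zero] at hm
    have hsub : Subsingleton L := (Nat.card_eq_one_iff_unique.mp hm).1
    have ha1 : a = 1 := by
      ext x
      exact Subsingleton.elim _ _
    rw [ha1, orderOf_one] at ha
    exact hpp.one_lt.ne ha
  constructor
  · rintro ⟨x₀, hx₀, hax₀⟩
    obtain ⟨hp3, z, hoz, haz, hfix⟩ := fixed_of_moving hp hm hmc hnc a ha x₀ hx₀ hax₀
    refine ⟨hp3, ?_⟩
    have hcard : Nat.card (Subgroup.centralizer
        ({SemidirectProduct.inr ⟨a, Subgroup.mem_zpowers a⟩} :
          Set (SemidirectProduct L ↥(Subgroup.zpowers a) (Subgroup.zpowers a).subtype))) = p ^ 2 := by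
      have hfixz : ∀ w ∈ Subgroup.zpowers z, a w = w := by
        intro w hw
        obtain ⟨k, rfl⟩ := Subgroup.mem_zpowers_iff.mp hw
        rw [map_zpow, haz]
      have e : Subgroup.centralizer
          ({SemidirectProduct.inr ⟨a, Subgroup.mem_zpowers a⟩} :
            Set (SemidirectProduct L ↥(Subgroup.zpowers a) (Subgroup.zpowers a).subtype)) ≃
          (Subgroup.zpowers z) × (Subgroup.zpowers a) :=
        { toFun := fun x => (⟨x.1.left, hfix _ ((mem_centralizer_inr_iff a x.1).mp x.2)⟩, x.1.right)
          invFun := fun y => ⟨⟨y.1.1, y.2⟩, (mem_centralizer_inr_iff a _).mpr (hfixz _ y.1.2)⟩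
          left_inv := fun x => rfl
          right_inv := fun y => rfl }
      rw [Nat.card_congr e, Nat.card_prod, Nat.card_zpowers, Nat.card_zpowers, hoz, ha, pow_two]
    have h1 := nilpotencyClass_eq_of_card_centralizer (p := p) (m + 1) (by omega) _ hX ⟨_, hcard⟩
    simpa using h1
  · rintro ⟨hp3, hcl⟩
    by_contra hno
    push Not at hno
    have hfixp : ∀ x : L, x ^ p = 1 → a x = x := by
      intro x hx
      by_cases h1 : x = 1
      · rw [h1, map_one]
      · exact hno x (orderOf_eq_prime hx h1)
    by_cases hle : Nat.card (commutator L) ≤ p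
    · obtain ⟨E, hE, hEcard, hEZ⟩ := omega_le_center_of_card_commutator_le hp hm hm1 hmc hnc hle
      have hm2 : 2 ≤ m := by
        have h1 : Nat.card E ≤ Nat.card L := Subgroup.card_le_card_group E
        rw [hEcard, hm] at h1
        exact (Nat.pow_le_pow_iff_right hpp.one_lt).mp h1
      have hcen : E.map (SemidirectProduct.inl : L →* SemidirectProduct L ↥(Subgroup.zpowers a)
          (Subgroup.zpowers a).subtype) ≤ Subgroup.center _ := by
        rintro _ ⟨e, he, rfl⟩
        rw [Subgroup.mem_center_iff]
        intro x
        have h1 := Subgroup.mem_center_iff.mp (hEZ he) x.left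
        have h2 := fixed_zpowers a e (hfixp e ((hE e).mp he)) x.right
        ext
        · simp only [SemidirectProduct.mul_left, SemidirectProduct.left_inl,
            SemidirectProduct.right_inl, map_one, MulAut.one_apply, Subgroup.coe_subtype]
          rw [h2, h1]
        · simp
      have hcardE : Nat.card (E.map (SemidirectProduct.inl : L →* SemidirectProduct L
          ↥(Subgroup.zpowers a) (Subgroup.zpowers a).subtype)) = p ^ 2 := by
        rw [Subgroup.card_map_of_injective SemidirectProduct.inl_injective, hEcard]
      have h3 := nilpotencyClass_le_of_card_center hX (by omega)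
        (by rw [← hcardE]; exact Subgroup.card_le_of_le hcen)
      omega
    · push Not at hle
      obtain ⟨hm4, E, C, hEcard, hCcard, hne, hEinv, hCinv⟩ :=
        exists_two_char_of_lt_card_commutator hp hm hm1 hmc hnc hle
      have hnormal : ∀ D : Subgroup L, (∀ φ : MulAut L, ∀ d ∈ D, φ d ∈ D) →
          (D.map (SemidirectProduct.inl : L →* SemidirectProduct L ↥(Subgroup.zpowers a)
            (Subgroup.zpowers a).subtype)).Normal := by
        intro D hD
        constructor
        rintro _ ⟨d, hd, rfl⟩ x
        refine ⟨MulAut.conj x.left ((x.right : MulAut L) d), hD _ _ (hD _ d hd), ?_⟩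
        have h1 := SemidirectProduct.inl_aut (φ := (Subgroup.zpowers a).subtype) x.right d
        have h2 : (Subgroup.zpowers a).subtype x.right = (x.right : MulAut L) := rfl
        rw [h2] at h1
        rw [MulAut.conj_apply, map_mul, map_mul, map_inv, h1]
        conv_rhs => rw [← SemidirectProduct.inl_left_mul_inr_right x]
        rw [map_inv]
        group
      have hEn := hnormal E hEinv
      have hCn := hnormal C hCinv
      have hne' : E.map (SemidirectProduct.inl : L →* SemidirectProduct L ↥(Subgroup.zpowers a)
          (Subgroup.zpowers a).subtype) ≠ C.map SemidirectProduct.inl := by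
        intro h
        exact hne (Subgroup.map_injective SemidirectProduct.inl_injective h)
      have h3 := nilpotencyClass_le_of_two_normal hX (by omega) _ _
        (by rw [Subgroup.card_map_of_injective SemidirectProduct.inl_injective, hEcard])
        (by rw [Subgroup.card_map_of_injective SemidirectProduct.inl_injective, hCcard]) hne'
      omega

end Cfsg.Agent.S4079
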