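import Cfsg.Statements.S4080
import Mathlib

set_option autoImplicit false
open Cfsg

namespace Cfsg.Agent.S4080

/-- A nilpotent 2×2 matrix over a field squares to zero. -/
theorem sq_eq_zero_of_pow_eq_zero {F : Type*} [Field F] (N : Matrix (Fin 2) (Fin 2) F) (k' : ℕ)
    (hk' : k' ≠ 0) (hN : N ^ k' = 0) : N ^ 2 = 0 := by
  obtain ⟨k, rfl⟩ := Nat.exists_eq_succ_of_ne_zero hk'
  have hdet : N.det = 0 := by
    have h1 : N.det ^ (k + 1) = 0 := by
      rw [← Matrix.det_pow, hN, Matrix.det_zero]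
    exact (pow_eq_zero_iff (Nat.succ_ne_zero k)).mp h1
  have hCH : N ^ 2 = (N 0 0 + N 1 1) • N := by
    rw [Matrix.det_fin_two] at hdet
    have key : ∀ i j : Fin 2, (N * N) i j = ((N 0 0 + N 1 1) • N) i j := by
      simp only [Matrix.mul_apply, Fin.sum_univ_two, Matrix.smul_apply, smul_eq_mul,
        Fin.forall_fin_two]
      refine ⟨⟨?_, ?_⟩, ⟨?_, ?_⟩⟩
      · linear_combination (-1 : F) * hdet
      · ring
      · ring
      · linear_combination (-1 : F) * hdet
    rw [pow_two]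
    exact Matrix.ext key
  have hpow : ∀ m : ℕ, N ^ (m + 1) = (N 0 0 + N 1 1) ^ m • N := by
    intro m
    induction m with
    | zero => simp
    | succ m ih => rw [pow_succ N (m + 1), ih, Matrix.smul_mul, ← pow_two, hCH, smul_smul, ← pow_succ]
  rw [hpow k] at hN
  rcases smul_eq_zero.mp hN with h | h
  · by_cases hk : k = 0
    · subst hk
      simp at h
    · rw [hCH, (pow_eq_zero_iff hk).mp h, zero_smul]
  · rw [h]; simp

theorem zmod_sq_of_cast_eq_zero {p : ℕ} [Fact p.Prime] (u : ZMod (p ^ 2))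
    (hu : ZMod.castHom (dvd_pow_self p two_ne_zero) (ZMod p) u = 0) :
    ∃ w : ZMod (p ^ 2), u = (p : ZMod (p ^ 2)) * w := by
  haveI : NeZero (p ^ 2) := ⟨pow_ne_zero 2 (Fact.out : p.Prime).ne_zero⟩
  have h1 : ((u.val : ℕ) : ZMod p) = 0 := by
    rw [← hu, ZMod.castHom_apply, ZMod.natCast_val]
  rw [ZMod.natCast_eq_zero_iff] at h1
  obtain ⟨w, hw⟩ := h1
  refine ⟨(w : ZMod (p ^ 2)), ?_⟩
  rw [← Nat.cast_mul, ← hw, ZMod.natCast_zmod_val]

theorem zmod_sq_of_mul_eq_zero {p : ℕ} [Fact p.Prime] (u : ZMod (p ^ 2))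
    (hu : (p : ZMod (p ^ 2)) * u = 0) : ∃ w : ZMod (p ^ 2), u = (p : ZMod (p ^ 2)) * w := by
  haveI : NeZero (p ^ 2) := ⟨pow_ne_zero 2 (Fact.out : p.Prime).ne_zero⟩
  have h1 : ((p * u.val : ℕ) : ZMod (p ^ 2)) = 0 := by
    rw [Nat.cast_mul, ZMod.natCast_zmod_val]; exact hu
  rw [ZMod.natCast_eq_zero_iff] at h1
  have h1' : p * p ∣ p * u.val := by rw [← pow_two]; exact h1
  have h2 : p ∣ u.val := Nat.dvd_of_mul_dvd_mul_left (Fact.out : p.Prime).pos h1'
  obtain ⟨w, hw⟩ := h2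
  refine ⟨(w : ZMod (p ^ 2)), ?_⟩
  rw [← Nat.cast_mul, ← hw, ZMod.natCast_zmod_val]

theorem matrix_key {p : ℕ} [hp : Fact p.Prime] (hp3 : 3 < p)
    (M : Matrix (Fin 2) (Fin 2) (ZMod (p ^ 2))) (hM : M ^ p = 1) : p • (M - 1) = 0 := by
  haveI : NeZero (p ^ 2) := ⟨pow_ne_zero 2 hp.out.ne_zero⟩
  obtain ⟨N, hN⟩ : ∃ N, N = M - 1 := ⟨_, rfl⟩
  have hMN : M = N + 1 := by rw [hN]; abel
  rw [← hN]
  let φ : Matrix (Fin 2) (Fin 2) (ZMod (p ^ 2)) →+* Matrix (Fin 2) (Fin 2) (ZMod p) :=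
    (ZMod.castHom (dvd_pow_self p two_ne_zero) (ZMod p)).mapMatrix
  have h1 : (φ N) ^ p = 0 := by
    rw [hN, map_sub, map_one, sub_pow_char_of_commute p (Commute.one_right _), one_pow,
      ← map_pow, hM, map_one, sub_self]
  have h2 : (φ N) ^ 2 = 0 := by
    exact sq_eq_zero_of_pow_eq_zero _ p hp.out.ne_zero h1
  have h3 : ∀ i j, ∃ w : ZMod (p ^ 2), (N ^ 2) i j = (p : ZMod (p ^ 2)) * w := by
    intro i j
    apply zmod_sq_of_cast_eq_zero
    have : φ (N ^ 2) i j = 0 := by rw [map_pow, h2]; rfl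
    exact this
  choose Ψ hΨ using h3
  have h4 : N ^ 2 = (p : ZMod (p ^ 2)) • (Matrix.of Ψ) := by
    ext i j
    rw [hΨ i j]; rfl
  have hpp : (p : ZMod (p ^ 2)) * p = 0 := by
    rw [← Nat.cast_mul, ← pow_two, ZMod.natCast_self]
  have h5 : (p : Matrix (Fin 2) (Fin 2) (ZMod (p ^ 2))) * N ^ 2 = 0 := by
    rw [h4, ← nsmul_eq_mul, ← Nat.cast_smul_eq_nsmul (ZMod (p ^ 2)), smul_smul, hpp, zero_smul]
  have h6 : N ^ 4 = 0 := by
    have : N ^ 4 = N ^ 2 * N ^ 2 := by rw [← pow_add]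
    rw [this, h4, Matrix.smul_mul, Matrix.mul_smul, smul_smul, hpp, zero_smul]
  have hb := (Commute.one_right N).add_pow p
  rw [← hMN, hM] at hb
  have hsum : ∑ m ∈ Finset.range (p + 1), N ^ m * 1 ^ (p - m) *
      ((p.choose m : ℕ) : Matrix (Fin 2) (Fin 2) (ZMod (p ^ 2)))
      = 1 + N * (p : Matrix (Fin 2) (Fin 2) (ZMod (p ^ 2))) := by
    rw [Finset.sum_eq_add 0 1 (by norm_num)]
    · simp
    · intro m hm ⟨hm0, hm1⟩
      rw [Finset.mem_range] at hm
      have hm2 : 2 ≤ m := by omega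
      by_cases hmp : m = p
      · subst hmp
        have : N ^ m = N ^ 4 * N ^ (m - 4) := by rw [← pow_add]; congr 1; omega
        rw [this, h6]; simp
      · have hdvd : p ∣ p.choose m := hp.out.dvd_choose_self hm0 (by omega)
        obtain ⟨c, hc⟩ := hdvd
        have : N ^ m = N ^ (m - 2) * N ^ 2 := by rw [← pow_add]; congr 1; omega
        rw [this, hc, one_pow, mul_one, Nat.cast_mul, mul_assoc, ← mul_assoc (N ^ 2),
          ← (Nat.cast_commute p (N ^ 2)).eq, h5, zero_mul, mul_zero]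
    · intro h; exfalso; apply h; rw [Finset.mem_range]; omega
    · intro h; exfalso; apply h; rw [Finset.mem_range]; omega
  rw [hsum] at hb
  have h7 : N * (p : Matrix (Fin 2) (Fin 2) (ZMod (p ^ 2))) = 0 := by
    have := hb.symm
    exact add_eq_left.mp this
  rw [nsmul_eq_mul']
  exact h7

/-- Let p > 3 be a prime and L the direct product of two cyclic groups of order p². Every automorphism of L of order p fixes every element of order p of L. -/
theorem result {p : ℕ} [Fact p.Prime] (hp : 3 < p)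
    (a : MulAut (Multiplicative (ZMod (p ^ 2) × ZMod (p ^ 2)))) (ha : orderOf a = p)
    (x : Multiplicative (ZMod (p ^ 2) × ZMod (p ^ 2))) (hx : orderOf x = p) : a x = x := by
  haveI : NeZero (p ^ 2) := ⟨pow_ne_zero 2 (Fact.out : p.Prime).ne_zero⟩
  let g : (ZMod (p ^ 2) × ZMod (p ^ 2)) →+ (ZMod (p ^ 2) × ZMod (p ^ 2)) :=
    AddMonoidHom.toMultiplicative.symm a.toMonoidHom
  let f : Module.End (ZMod (p ^ 2)) (ZMod (p ^ 2) × ZMod (p ^ 2)) := g.toZModLinearMap (p ^ 2)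
  have hf : ∀ z, f z = Multiplicative.toAdd (a (Multiplicative.ofAdd z)) := fun z => rfl
  have hfk : ∀ (k : ℕ) z, (f ^ k) z = Multiplicative.toAdd ((a ^ k) (Multiplicative.ofAdd z)) := by
    intro k
    induction k with
    | zero => intro z; simp
    | succ k ih =>
      intro z
      rw [pow_succ f k, Module.End.mul_apply, ih, hf, pow_succ a k, MulAut.mul_apply]
      rfl
  have hfp : f ^ p = 1 := by
    apply LinearMap.ext
    intro z
    have hap : a ^ p = 1 := by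
      have := pow_orderOf_eq_one a
      rwa [ha] at this
    rw [hfk, hap]
    rfl
  let b := Module.Basis.finTwoProd (ZMod (p ^ 2))
  have hM : (LinearMap.toMatrixAlgEquiv b f) ^ p = 1 := by rw [← map_pow, hfp, map_one]
  have hkey := matrix_key hp _ hM
  have hf1 : p • (f - 1) = 0 := by
    apply (LinearMap.toMatrixAlgEquiv b).injective
    rw [map_nsmul, map_sub, map_one, map_zero]
    exact hkey
  have hxp : x ^ p = 1 := by
    have := pow_orderOf_eq_one x
    rwa [hx] at this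
  obtain ⟨z, hz⟩ : ∃ z, z = Multiplicative.toAdd x := ⟨_, rfl⟩
  have hpz : p • z = 0 := by rw [hz, ← toAdd_pow, hxp]; rfl
  have h1 : (p : ZMod (p ^ 2)) * z.1 = 0 := by
    have := congrArg Prod.fst hpz
    simpa [nsmul_eq_mul] using this
  have h2 : (p : ZMod (p ^ 2)) * z.2 = 0 := by
    have := congrArg Prod.snd hpz
    simpa [nsmul_eq_mul] using this
  obtain ⟨w1, hw1⟩ := zmod_sq_of_mul_eq_zero _ h1
  obtain ⟨w2, hw2⟩ := zmod_sq_of_mul_eq_zero _ h2
  have hzw : z = p • (w1, w2) := by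
    ext <;> simp [nsmul_eq_mul, hw1, hw2]
  have hfz : f z = z := by
    have h3 : (f - 1) z = 0 := by
      rw [hzw, map_nsmul, ← LinearMap.smul_apply, hf1, LinearMap.zero_apply]
    rw [LinearMap.sub_apply, Module.End.one_apply, sub_eq_zero] at h3
    exact h3
  have : Multiplicative.toAdd (a x) = Multiplicative.toAdd x := by
    rw [← hz, ← hfz, hf, hz]
    rfl
  exact Multiplicative.toAdd.injective this

end Cfsg.Agent.S4080
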