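import Cfsg.Statements.S4082
import Mathlib
import Cfsg.Agent.Lib.helper29.InvAct
import Cfsg.Agent.Lib.helper1.SZ

set_option autoImplicit false
open Cfsg

namespace Cfsg.Agent.S4082

open Cfsg.Agent.Lib.helper29

/-- Elements of `Q ⊔ zpowers x` when `x` normalizes `Q`. -/
theorem mem_sup_zpowers {G : Type*} [Group G] {Q : Subgroup G} {x : G}
    (hx : x ∈ Subgroup.normalizer (Q : Set G)) {h : G} (hh : h ∈ Q ⊔ Subgroup.zpowers x) :
    ∃ u ∈ Q, ∃ i : ℤ, h = u * x ^ i := by
  have hle : Subgroup.zpowers x ≤ Subgroup.normalizer (Q : Set G) := by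
    rw [Subgroup.zpowers_le]; exact hx
  obtain ⟨u, hu, z, hz, rfl⟩ := exists_mul_of_mem_sup_of_le_normalizer hle hh
  obtain ⟨i, rfl⟩ := Subgroup.mem_zpowers_iff.mp hz
  exact ⟨u, hu, i, rfl⟩

/-- `Q ⊔ zpowers x` satisfies the hypotheses on Sylow subgroups when `x` normalizes the
`p`-subgroup `Q`. -/
theorem hyp_of_normalizes {G : Type*} [Group G] [Finite G] {p : ℕ} [Fact p.Prime]
    (Q : Subgroup G) (hQ : IsPGroup p Q) (x : G) (hx : x ∈ Subgroup.normalizer (Q : Set G)) :
    (∀ S : Sylow p ↥(Q ⊔ Subgroup.zpowers x), (S : Subgroup ↥(Q ⊔ Subgroup.zpowers x)).Normal) ∧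
    (∀ (S : Sylow p ↥(Q ⊔ Subgroup.zpowers x)) [(S : Subgroup ↥(Q ⊔ Subgroup.zpowers x)).Normal],
      IsCyclic (↥(Q ⊔ Subgroup.zpowers x) ⧸ (S : Subgroup ↥(Q ⊔ Subgroup.zpowers x)))) := by
  obtain ⟨H, hH⟩ : ∃ H, H = Q ⊔ Subgroup.zpowers x := ⟨_, rfl⟩
  rw [← hH]
  have hQH : Q ≤ H := hH ▸ le_sup_left
  have hxH : x ∈ H := hH ▸ (le_sup_right : Subgroup.zpowers x ≤ _) (Subgroup.mem_zpowers x)
  have hdec : ∀ h ∈ H, ∃ u ∈ Q, ∃ i : ℤ, h = u * x ^ i := fun h hh =>
    mem_sup_zpowers hx (hH ▸ hh)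
  have hxi : ∀ i : ℤ, x ^ i ∈ Subgroup.normalizer (Q : Set G) := fun i => zpow_mem hx i
  have hcomm : ∀ a ∈ H, ∀ b ∈ H, a * b * a⁻¹ * b⁻¹ ∈ Q := by
    intro a ha b hb
    obtain ⟨u, hu, i, rfl⟩ := hdec a ha
    obtain ⟨v, hv, j, rfl⟩ := hdec b hb
    have e : u * x ^ i * (v * x ^ j) * (u * x ^ i)⁻¹ * (v * x ^ j)⁻¹
        = u * (x ^ i * v * (x ^ i)⁻¹) * (x ^ j * u⁻¹ * (x ^ j)⁻¹) * v⁻¹ := by group
    rw [e]
    exact Q.mul_mem (Q.mul_mem (Q.mul_mem hu ((Subgroup.mem_normalizer_iff.mp (hxi i) v).mp hv))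
      ((Subgroup.mem_normalizer_iff.mp (hxi j) u⁻¹).mp (inv_mem hu))) (inv_mem hv)
  have hQn : (Q.subgroupOf H).Normal := by
    constructor
    intro a ha b
    rw [Subgroup.mem_subgroupOf] at ha ⊢
    have : ((b * a * b⁻¹ : H) : G) = (b : G) * a * (b : G)⁻¹ * (a : G)⁻¹ * a := by
      push_cast; group
    rw [this]
    exact Q.mul_mem (hcomm b b.2 a a.2) ha
  have hQp : IsPGroup p (Q.subgroupOf H) := hQ.comap_subtype
  have hQS : ∀ S : Sylow p ↥H, Q.subgroupOf H ≤ S := fun S => hQp.le_sylow_of_normal S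
  have hSn : ∀ S : Sylow p ↥H, (S : Subgroup ↥H).Normal := by
    intro S
    constructor
    intro a ha b
    have : b * a * b⁻¹ = (b * a * b⁻¹ * a⁻¹) * a := by group
    rw [this]
    apply (S : Subgroup ↥H).mul_mem _ ha
    apply hQS S
    rw [Subgroup.mem_subgroupOf]
    have := hcomm b b.2 a a.2
    exact_mod_cast this
  refine ⟨hSn, ?_⟩
  intro S _
  refine ⟨⟨((⟨x, hxH⟩ : H) : ↥H ⧸ (S : Subgroup ↥H)), fun y => ?_⟩⟩
  obtain ⟨h, rfl⟩ := QuotientGroup.mk_surjective y
  obtain ⟨u, hu, i, hui⟩ := hdec h.1 h.2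
  refine ⟨i, ?_⟩
  have hh : h = ⟨u, hQH hu⟩ * ⟨x, hxH⟩ ^ i := Subtype.ext (by simpa using hui)
  have hu1 : ((⟨u, hQH hu⟩ : H) : ↥H ⧸ (S : Subgroup ↥H)) = 1 :=
    (QuotientGroup.eq_one_iff _).mpr (hQS S (by rw [Subgroup.mem_subgroupOf]; exact hu))
  show ((⟨x, hxH⟩ : H) : ↥H ⧸ (S : Subgroup ↥H)) ^ i = (h : ↥H ⧸ (S : Subgroup ↥H))
  rw [hh, QuotientGroup.mk_mul, hu1, one_mul, QuotientGroup.mk_zpow]

/-- An element of a dihedral group acts on a `p`-subgroup (`p` odd) trivially or by inversion. -/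
theorem dih_action {G : Type*} [Group G] {p : ℕ} [Fact p.Prime] (hp : p ≠ 2)
    (Q : Subgroup G) (hQ : IsPGroup p Q) (x : G) (H : Subgroup G) (hQH : Q ≤ H) (hxH : x ∈ H)
    (m : ℕ) (e : H ≃* DihedralGroup m) :
    (∀ u ∈ Q, x * u * x⁻¹ = u) ∨ (orderOf x = 2 ∧ ∀ u ∈ Q, x * u * x⁻¹ = u⁻¹) := by
  have hrot : ∀ u (hu : u ∈ Q), ∃ j, e ⟨u, hQH hu⟩ = DihedralGroup.r j := by
    intro u hu
    cases h : e ⟨u, hQH hu⟩ with
    | r j => exact ⟨j, rfl⟩
    | sr j =>
      exfalso
      have h1 : orderOf (e ⟨u, hQH hu⟩) = 2 := by rw [h]; exact DihedralGroup.orderOf_sr j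
      rw [MulEquiv.orderOf_eq, Subgroup.orderOf_mk] at h1
      obtain ⟨k, hk⟩ := hQ ⟨u, hu⟩
      have h2 : u ^ p ^ k = 1 := by simpa using congrArg Subtype.val hk
      have h3 : 2 ∣ p ^ k := h1 ▸ orderOf_dvd_of_pow_eq_one h2
      have h4 : 2 ∣ p := Nat.Prime.dvd_of_dvd_pow Nat.prime_two h3
      exact hp ((Nat.prime_dvd_prime_iff_eq Nat.prime_two Fact.out).mp h4).symm
  cases hx : e ⟨x, hxH⟩ with
  | r i =>
    left
    intro u hu
    obtain ⟨j, hj⟩ := hrot u hu
    have h1 : e (⟨x, hxH⟩ * ⟨u, hQH hu⟩ * ⟨x, hxH⟩⁻¹) = e ⟨u, hQH hu⟩ := by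
      rw [map_mul, map_mul, map_inv, hx, hj, DihedralGroup.r_mul_r, DihedralGroup.inv_r,
        DihedralGroup.r_mul_r]
      congr 1; ring
    exact congrArg Subtype.val (e.injective h1)
  | sr i =>
    right
    constructor
    · have h1 : orderOf (e ⟨x, hxH⟩) = 2 := by rw [hx]; exact DihedralGroup.orderOf_sr i
      rwa [MulEquiv.orderOf_eq, Subgroup.orderOf_mk] at h1
    · intro u hu
      obtain ⟨j, hj⟩ := hrot u hu
      have h1 : e (⟨x, hxH⟩ * ⟨u, hQH hu⟩ * ⟨x, hxH⟩⁻¹) = e (⟨u, hQH hu⟩⁻¹) := by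
        rw [map_mul, map_mul, map_inv, map_inv, hx, hj, DihedralGroup.sr_mul_r,
          DihedralGroup.inv_sr, DihedralGroup.sr_mul_sr, DihedralGroup.inv_r]
        congr 1; ring
      exact congrArg Subtype.val (e.injective h1)

/-- The forward direction. -/
theorem dir_fwd {G : Type*} [Group G] [Finite G] {p : ℕ} [Fact p.Prime] (hp : p ≠ 2)
    (P : Sylow p G)
    (hR : ∀ H : Subgroup G, (∀ S : Sylow p ↥H, (S : Subgroup ↥H).Normal) →
        (∀ (S : Sylow p ↥H) [(S : Subgroup ↥H).Normal], IsCyclic (↥H ⧸ (S : Subgroup ↥H))) →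
        IsCyclic H ∨ (∃ n : ℕ, Nonempty (H ≃* DihedralGroup (p ^ n)))) :
    (IsCyclic P ∧
      (Subgroup.normalizer ((P : Subgroup G) : Set G) = Subgroup.centralizer ((P : Subgroup G) : Set G) ∨
       ((Subgroup.centralizer ((P : Subgroup G) : Set G)).relIndex (Subgroup.normalizer ((P : Subgroup G) : Set G)) = 2 ∧
        ∀ Q : Subgroup G, Q ≤ P → Nat.card Q = p →
          IsMulCommutative ↥(Subgroup.centralizer (Q : Set G)) ∧
          ∀ x : G, x ∈ Subgroup.normalizer (Q : Set G) → x ∉ Subgroup.centralizer (Q : Set G) →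
            orderOf x = 2 ∧ ∀ c : G, c ∈ Subgroup.centralizer (Q : Set G) → x * c * x⁻¹ = c⁻¹))) := by
  have key : ∀ (Q : Subgroup G), IsPGroup p Q → ∀ x ∈ Subgroup.normalizer (Q : Set G),
      (∀ u ∈ Q, x * u * x⁻¹ = u) ∨ (orderOf x = 2 ∧ ∀ u ∈ Q, x * u * x⁻¹ = u⁻¹) := by
    intro Q hQ x hx
    obtain ⟨h1, h2⟩ := hyp_of_normalizes Q hQ x hx
    have hQH : Q ≤ Q ⊔ Subgroup.zpowers x := le_sup_left
    have hxH : x ∈ Q ⊔ Subgroup.zpowers x :=
      (le_sup_right : Subgroup.zpowers x ≤ _) (Subgroup.mem_zpowers x)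
    rcases hR _ h1 h2 with hc | ⟨n, ⟨e⟩⟩
    · left
      intro u hu
      obtain ⟨c, hc⟩ := IsCyclic.exists_generator (α := ↥(Q ⊔ Subgroup.zpowers x))
      obtain ⟨i, hi⟩ := Subgroup.mem_zpowers_iff.mp (hc ⟨x, hxH⟩)
      obtain ⟨j, hj⟩ := Subgroup.mem_zpowers_iff.mp (hc ⟨u, hQH hu⟩)
      have h3 : (⟨x, hxH⟩ : ↥(Q ⊔ Subgroup.zpowers x)) * ⟨u, hQH hu⟩ * ⟨x, hxH⟩⁻¹
          = ⟨u, hQH hu⟩ := by
        rw [← hi, ← hj, ← zpow_add, ← zpow_neg, ← zpow_add]
        congr 1; ring
      exact congrArg Subtype.val h3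
    · exact dih_action hp Q hQ x _ hQH hxH _ e
  have mem_cent : ∀ (Q : Subgroup G) (x : G), (∀ u ∈ Q, x * u * x⁻¹ = u) →
      x ∈ Subgroup.centralizer (Q : Set G) := by
    intro Q x h
    rw [Subgroup.mem_centralizer_iff]
    intro u hu
    have := h u hu
    calc u * x = x * u * x⁻¹ * x := by rw [this]
      _ = x * u := by group
  have cent_mem : ∀ (Q : Subgroup G) (x : G), x ∈ Subgroup.centralizer (Q : Set G) →
      ∀ u ∈ Q, x * u * x⁻¹ = u := by
    intro Q x h u hu
    have := Subgroup.mem_centralizer_iff.mp h u hu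
    rw [← this]; group
  have odd_ne : ∀ u ∈ (P : Subgroup G), u⁻¹ = u → u = 1 := by
    intro u hu huu
    obtain ⟨k, hk⟩ := P.isPGroup' ⟨u, hu⟩
    have h2 : u ^ p ^ k = 1 := by simpa using congrArg Subtype.val hk
    have h3 : u ^ 2 = 1 := by rw [pow_two]; nth_rw 1 [← huu]; exact inv_mul_cancel u
    have h4 : orderOf u ∣ Nat.gcd (p ^ k) 2 :=
      Nat.dvd_gcd (orderOf_dvd_of_pow_eq_one h2) (orderOf_dvd_of_pow_eq_one h3)
    have h5 : Nat.gcd (p ^ k) 2 = 1 := by
      apply Nat.Coprime.pow_left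
      rw [Nat.coprime_primes Fact.out Nat.prime_two]
      exact hp
    rw [h5] at h4
    exact orderOf_eq_one_iff.mp (Nat.dvd_one.mp h4)
  constructor
  · -- P is cyclic
    have hSP : ∀ S : Sylow p ↥(P : Subgroup G), (S : Subgroup ↥(P : Subgroup G)) = ⊤ := by
      intro S
      have hT : IsPGroup p ↥(⊤ : Subgroup ↥(P : Subgroup G)) := P.isPGroup'.to_subgroup ⊤
      exact (S.is_maximal' hT le_top).symm
    have h1 : ∀ S : Sylow p ↥(P : Subgroup G), (S : Subgroup ↥(P : Subgroup G)).Normal := by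
      intro S
      rw [hSP S]
      infer_instance
    have h2 : ∀ (S : Sylow p ↥(P : Subgroup G)) [(S : Subgroup ↥(P : Subgroup G)).Normal],
        IsCyclic (↥(P : Subgroup G) ⧸ (S : Subgroup ↥(P : Subgroup G))) := by
      intro S _
      have : Subsingleton (↥(P : Subgroup G) ⧸ (S : Subgroup ↥(P : Subgroup G))) := by
        constructor
        intro a b
        obtain ⟨a, rfl⟩ := QuotientGroup.mk_surjective a
        obtain ⟨b, rfl⟩ := QuotientGroup.mk_surjective b
        rw [QuotientGroup.eq, hSP S]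
        exact Subgroup.mem_top _
      infer_instance
    rcases hR _ h1 h2 with hc | ⟨n, ⟨e⟩⟩
    · exact hc
    · exfalso
      have hc1 : Nat.card (P : Subgroup G) = 2 * p ^ n := by
        rw [Nat.card_congr e.toEquiv, DihedralGroup.nat_card]
      obtain ⟨k, hk⟩ := IsPGroup.iff_card.mp P.isPGroup'
      have h3 : 2 ∣ p ^ k := by rw [← hk, hc1]; exact dvd_mul_right 2 _
      have h4 : 2 ∣ p := Nat.Prime.dvd_of_dvd_pow Nat.prime_two h3
      exact hp ((Nat.prime_dvd_prime_iff_eq Nat.prime_two Fact.out).mp h4).symm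
  · have hNC : ∀ g ∈ Subgroup.normalizer ((P : Subgroup G) : Set G),
        g ∉ Subgroup.centralizer ((P : Subgroup G) : Set G) →
        ∀ u ∈ (P : Subgroup G), g * u * g⁻¹ = u⁻¹ := by
      intro g hg hgc
      rcases key P P.isPGroup' g hg with h | h
      · exact absurd (mem_cent _ g h) hgc
      · exact h.2
    by_cases hle : Subgroup.normalizer ((P : Subgroup G) : Set G)
        ≤ Subgroup.centralizer ((P : Subgroup G) : Set G)
    · left
      exact le_antisymm hle (Subgroup.centralizer_le_normalizer _)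
    · right
      obtain ⟨t, htN, htC⟩ := SetLike.not_le_iff_exists.mp hle
      have htinv := hNC t htN htC
      constructor
      · rw [Subgroup.relIndex_eq_two_iff]
        refine ⟨t, htN, fun b hb => ?_⟩
        by_cases hb' : b ∈ Subgroup.centralizer ((P : Subgroup G) : Set G)
        · right
          refine ⟨hb', fun h => htC ?_⟩
          have := Subgroup.mul_mem _ (inv_mem hb') h
          simpa using this
        · left
          refine ⟨?_, hb'⟩
          apply mem_cent
          intro u hu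
          have h1 := htinv u hu
          have h2 := hNC b hb hb' u⁻¹ (inv_mem hu)
          calc b * t * u * (b * t)⁻¹ = b * (t * u * t⁻¹) * b⁻¹ := by group
            _ = b * u⁻¹ * b⁻¹ := by rw [h1]
            _ = u := by rw [h2, inv_inv]
      · intro Q hQP hQcard
        have hQp : IsPGroup p Q := P.isPGroup'.to_le hQP
        have hstar : ∀ x ∈ Subgroup.normalizer (Q : Set G),
            x ∉ Subgroup.centralizer (Q : Set G) →
            orderOf x = 2 ∧ ∀ u ∈ Q, x * u * x⁻¹ = u⁻¹ := by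
          intro x hx hxc
          rcases key Q hQp x hx with h | h
          · exact absurd (mem_cent _ x h) hxc
          · exact h
        have hinv : ∀ x : G, x ∈ Subgroup.normalizer (Q : Set G) →
            x ∉ Subgroup.centralizer (Q : Set G) →
            orderOf x = 2 ∧ ∀ c : G, c ∈ Subgroup.centralizer (Q : Set G) → x * c * x⁻¹ = c⁻¹ := by
          intro x hx hxc
          obtain ⟨h2, -⟩ := hstar x hx hxc
          refine ⟨h2, fun c hc => ?_⟩
          have hxcN : x * c ∈ Subgroup.normalizer (Q : Set G) :=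
            mul_mem hx (Subgroup.centralizer_le_normalizer _ hc)
          have hxcC : x * c ∉ Subgroup.centralizer (Q : Set G) := fun h => hxc (by
            have := Subgroup.mul_mem _ h (inv_mem hc)
            simpa using this)
          obtain ⟨h3, -⟩ := hstar (x * c) hxcN hxcC
          have e1 : x * x = 1 := by rw [← pow_two, ← h2, pow_orderOf_eq_one]
          have e2 : (x * c) * (x * c) = 1 := by rw [← pow_two, ← h3, pow_orderOf_eq_one]
          have e3 : x⁻¹ = x := inv_eq_of_mul_eq_one_left e1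
          rw [e3]
          exact eq_inv_of_mul_eq_one_left (by rw [← e2]; group)
        refine ⟨?_, hinv⟩
        have htNQ : t ∈ Subgroup.normalizer (Q : Set G) := by
          rw [Subgroup.mem_normalizer_iff]
          intro h
          constructor
          · intro hh
            rw [htinv h (hQP hh)]
            exact inv_mem hh
          · intro hh
            have h1 := htinv (t * h * t⁻¹)⁻¹ (inv_mem (hQP hh))
            rw [inv_inv] at h1
            have h2 : (t * h * t⁻¹)⁻¹ = h := by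
              have := mul_left_cancel (mul_right_cancel h1)
              exact this
            rw [← h2]
            exact inv_mem hh
        have htCQ : t ∉ Subgroup.centralizer (Q : Set G) := by
          intro htc
          have hQne : Q ≠ ⊥ := by
            intro h
            rw [h, Subgroup.card_bot] at hQcard
            exact (Fact.out : p.Prime).one_lt.ne hQcard
          obtain ⟨⟨u, hu⟩, hu1⟩ := (Subgroup.ne_bot_iff_exists_ne_one).mp hQne
          apply hu1
          apply Subtype.ext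
          show u = 1
          apply odd_ne u (hQP hu)
          rw [← htinv u (hQP hu)]
          exact cent_mem Q t htc u hu
        obtain ⟨-, hti⟩ := hinv t htNQ htCQ
        refine ⟨⟨fun a b => Subtype.ext ?_⟩⟩
        show (a : G) * (b : G) = (b : G) * (a : G)
        have h1 := hti (a * b) (mul_mem a.2 b.2)
        have h2 := hti a a.2
        have h3 := hti b b.2
        have h4 : t * ((a : G) * (b : G)) * t⁻¹ = (t * a * t⁻¹) * (t * b * t⁻¹) := by group
        rw [h4, h2, h3] at h1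
        have h5 : ((a : G) * (b : G))⁻¹ = ((b : G) * (a : G))⁻¹ := by
          rw [← h1, mul_inv_rev]
        exact inv_injective h5

/-- Elements of a cyclic subgroup commute. -/
theorem comm_of_isCyclic {G : Type*} [Group G] (P : Subgroup G) (h : IsCyclic P) :
    ∀ a ∈ P, ∀ b ∈ P, a * b = b * a := by
  intro a ha b hb
  obtain ⟨c, hc⟩ := IsCyclic.exists_generator (α := ↥P)
  obtain ⟨i, hi⟩ := Subgroup.mem_zpowers_iff.mp (hc ⟨a, ha⟩)
  obtain ⟨j, hj⟩ := Subgroup.mem_zpowers_iff.mp (hc ⟨b, hb⟩)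
  have h3 : (⟨a, ha⟩ : ↥P) * ⟨b, hb⟩ = ⟨b, hb⟩ * ⟨a, ha⟩ := by
    rw [← hi, ← hj, ← zpow_add, ← zpow_add, add_comm]
  exact congrArg Subtype.val h3

/-- A group with a cyclic normal Sylow `p`-subgroup, cyclic quotient, and all `p'`-elements
centralizing the Sylow subgroup is cyclic. -/
theorem cyclic_of_comm {H : Type*} [Group H] [Finite H] {p : ℕ} [Fact p.Prime] (S : Sylow p H)
    [hSn : (S : Subgroup H).Normal] (hSc : IsCyclic ↥(S : Subgroup H))
    (hq : IsCyclic (H ⧸ (S : Subgroup H)))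
    (hcomm : ∀ s ∈ (S : Subgroup H), ∀ k : H, (orderOf k).Coprime p → s * k = k * s) :
    IsCyclic H := by
  obtain ⟨⟨s, hsS⟩, hs⟩ := IsCyclic.exists_generator (α := ↥(S : Subgroup H))
  obtain ⟨q₀, hq₀⟩ := IsCyclic.exists_generator (α := H ⧸ (S : Subgroup H))
  obtain ⟨k₀, rfl⟩ := QuotientGroup.mk_surjective q₀
  have hs_ord : orderOf s = Nat.card (S : Subgroup H) := by
    rw [← Subgroup.orderOf_mk s hsS]
    exact orderOf_eq_card_of_forall_mem_zpowers hs
  have hq_ord : orderOf (k₀ : H ⧸ (S : Subgroup H)) = (S : Subgroup H).index := by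
    rw [Subgroup.index_eq_card]
    exact orderOf_eq_card_of_forall_mem_zpowers hq₀
  obtain ⟨a, ha⟩ := IsPGroup.iff_card.mp S.isPGroup'
  have hidx : ¬ p ∣ (S : Subgroup H).index := S.not_dvd_index
  have hcop : (p ^ a).Coprime (S : Subgroup H).index :=
    Nat.Coprime.pow_left a ((Nat.Prime.coprime_iff_not_dvd Fact.out).mpr hidx)
  obtain ⟨k, hk⟩ : ∃ k, k = k₀ ^ (p ^ a) := ⟨_, rfl⟩
  have hk1 : k ^ (S : Subgroup H).index = 1 := by
    rw [hk, ← pow_mul, ← ha, Subgroup.card_mul_index, pow_card_eq_one']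
  have hk_ord : orderOf k = (S : Subgroup H).index := by
    apply Nat.dvd_antisymm (orderOf_dvd_of_pow_eq_one hk1)
    have h1 : orderOf ((k : H) : H ⧸ (S : Subgroup H)) = (S : Subgroup H).index := by
      rw [hk, QuotientGroup.mk_pow, Nat.Coprime.orderOf_pow (by rw [hq_ord]; exact hcop.symm),
        hq_ord]
    rw [← h1]
    exact orderOf_map_dvd (QuotientGroup.mk' (S : Subgroup H)) k
  have hkcop : (orderOf k).Coprime p := by
    rw [hk_ord]
    exact ((Nat.Prime.coprime_iff_not_dvd Fact.out).mpr hidx).symm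
  have hsk : Commute s k := hcomm s hsS k hkcop
  have hord : orderOf (s * k) = Nat.card H := by
    rw [hsk.orderOf_mul_eq_mul_orderOf_of_coprime (by rw [hs_ord, hk_ord, ha]; exact hcop),
      hs_ord, hk_ord, Subgroup.card_mul_index]
  exact isCyclic_of_orderOf_eq_card (s * k) hord

/-- A group with cyclic normal Sylow `p`-subgroup `S ≠ 1`, cyclic quotient, in which the elements
outside a subgroup `C ⊇ S` are involutions inverting `C`, is dihedral. -/
theorem dihedral_of_inverting {H : Type*} [Group H] [Finite H] {p : ℕ} [Fact p.Prime]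
    (hp : p ≠ 2) (S : Sylow p H) [hSn : (S : Subgroup H).Normal]
    (hSc : IsCyclic ↥(S : Subgroup H)) (hSne : (S : Subgroup H) ≠ ⊥)
    (hq : IsCyclic (H ⧸ (S : Subgroup H)))
    (C : Subgroup H) (hSC : (S : Subgroup H) ≤ C)
    (hinv : ∀ h : H, h ∉ C → h * h = 1 ∧ ∀ c ∈ C, h * c * h⁻¹ = c⁻¹)
    (hprod : ∀ a b : H, a ∉ C → b ∉ C → a * b ∈ C)
    (x : H) (hx : x ∉ C) :
    ∃ n : ℕ, Nonempty (H ≃* DihedralGroup (p ^ n)) := by
  obtain ⟨hxx, hxinv⟩ := hinv x hx
  have hCS : C ≤ (S : Subgroup H) := by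
    intro c hc
    have h1 : c * c ∈ (S : Subgroup H) := by
      have h2 : x * c * x⁻¹ * c⁻¹ ∈ (S : Subgroup H) := by
        rw [← QuotientGroup.eq_one_iff]
        obtain ⟨g, hg⟩ := IsCyclic.exists_generator (α := H ⧸ (S : Subgroup H))
        obtain ⟨i, hi⟩ := Subgroup.mem_zpowers_iff.mp (hg (x : H ⧸ (S : Subgroup H)))
        obtain ⟨j, hj⟩ := Subgroup.mem_zpowers_iff.mp (hg (c : H ⧸ (S : Subgroup H)))
        rw [QuotientGroup.mk_mul, QuotientGroup.mk_mul, QuotientGroup.mk_mul,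
          QuotientGroup.mk_inv, QuotientGroup.mk_inv, ← hi, ← hj, ← zpow_add, ← zpow_neg,
          ← zpow_add, ← zpow_neg, ← zpow_add]
        convert zpow_zero g using 2
        ring
      rw [hxinv c hc] at h2
      have : c * c = (c⁻¹ * c⁻¹)⁻¹ := by rw [mul_inv_rev, inv_inv]
      rw [this]
      exact inv_mem h2
    by_contra hcS
    have hxS : x ∉ (S : Subgroup H) := fun h => hx (hSC h)
    have hxc : x⁻¹ * c ∉ (S : Subgroup H) := fun h => hx (by
      have := C.mul_mem hc (inv_mem (hSC h))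
      simpa using this)
    classical
    haveI : Fintype (H ⧸ (S : Subgroup H)) := Fintype.ofFinite _
    have hcard := IsCyclic.card_pow_eq_one_le (α := H ⧸ (S : Subgroup H)) (n := 2) (by norm_num)
    have hsub : ({1, (x : H ⧸ (S : Subgroup H)), (c : H ⧸ (S : Subgroup H))} :
        Finset (H ⧸ (S : Subgroup H))) ⊆ Finset.univ.filter (fun a => a ^ 2 = 1) := by
      intro y hy
      simp only [Finset.mem_insert, Finset.mem_singleton] at hy
      rw [Finset.mem_filter]
      refine ⟨Finset.mem_univ _, ?_⟩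
      rcases hy with rfl | rfl | rfl
      · exact one_pow 2
      · rw [← QuotientGroup.mk_pow, pow_two, hxx]; rfl
      · rw [← QuotientGroup.mk_pow, pow_two]
        exact (QuotientGroup.eq_one_iff _).mpr h1
    have h3 : ({1, (x : H ⧸ (S : Subgroup H)), (c : H ⧸ (S : Subgroup H))} :
        Finset (H ⧸ (S : Subgroup H))).card = 3 := by
      rw [Finset.card_insert_of_notMem, Finset.card_insert_of_notMem, Finset.card_singleton]
      · rw [Finset.mem_singleton]
        intro h
        exact hxc (QuotientGroup.eq.mp h)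
      · simp only [Finset.mem_insert, Finset.mem_singleton]
        rintro (h | h)
        · exact hxS ((QuotientGroup.eq_one_iff x).mp h.symm)
        · exact hcS ((QuotientGroup.eq_one_iff c).mp h.symm)
    have := (Finset.card_le_card hsub).trans hcard
    omega
  obtain ⟨⟨s, hsS⟩, hs⟩ := IsCyclic.exists_generator (α := ↥(S : Subgroup H))
  have hs_ord : orderOf s = Nat.card (S : Subgroup H) := by
    rw [← Subgroup.orderOf_mk s hsS]
    exact orderOf_eq_card_of_forall_mem_zpowers hs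
  obtain ⟨n, hn⟩ := IsPGroup.iff_card.mp S.isPGroup'
  have hs1 : s ≠ 1 := by
    rintro rfl
    rw [orderOf_one] at hs_ord
    exact hSne (Subgroup.card_eq_one.mp hs_ord.symm)
  have hodd : Odd (orderOf s) := by
    rw [hs_ord, hn]
    exact Odd.pow ((Fact.out : p.Prime).odd_of_ne_two hp)
  have hxs : x * s * x⁻¹ = s⁻¹ := hxinv s (hSC hsS)
  obtain ⟨e⟩ := nonempty_mulEquiv_dihedral hxx hxs hs1 hodd
  have htop : Subgroup.zpowers x ⊔ Subgroup.zpowers s = ⊤ := by
    rw [eq_top_iff]
    intro h _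
    by_cases hh : h ∈ C
    · have hhS : h ∈ (S : Subgroup H) := hCS hh
      obtain ⟨i, hi⟩ := Subgroup.mem_zpowers_iff.mp (hs ⟨h, hhS⟩)
      have hi' : s ^ i = h := by simpa using congrArg Subtype.val hi
      rw [← hi']
      exact (le_sup_right : Subgroup.zpowers s ≤ _) (zpow_mem (Subgroup.mem_zpowers s) i)
    · have h1 : x * h ∈ (S : Subgroup H) := hCS (hprod x h hx hh)
      obtain ⟨i, hi⟩ := Subgroup.mem_zpowers_iff.mp (hs ⟨x * h, h1⟩)
      have h2 : s ^ i = x * h := by simpa using congrArg Subtype.val hi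
      have h3 : h = x * s ^ i := by rw [h2, ← mul_assoc, hxx, one_mul]
      rw [h3]
      exact mul_mem ((le_sup_left : Subgroup.zpowers x ≤ _) (Subgroup.mem_zpowers x))
        ((le_sup_right : Subgroup.zpowers s ≤ _) (zpow_mem (Subgroup.mem_zpowers s) i))
  refine ⟨n, ⟨?_⟩⟩
  have e2 : H ≃* ↥(Subgroup.zpowers x ⊔ Subgroup.zpowers s) :=
    Subgroup.topEquiv.symm.trans (MulEquiv.subgroupCongr htop.symm)
  rw [← hn, ← hs_ord]
  exact e2.trans e

/-- The subgroup of order `p` of a nontrivial cyclic `p`-group. -/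
theorem exists_omega {H : Type*} [Group H] [Finite H] {p : ℕ} [Fact p.Prime] (S : Subgroup H)
    (hSp : IsPGroup p S) (hSc : IsCyclic ↥S) (hSne : S ≠ ⊥) :
    ∃ y ∈ S, orderOf y = p ∧ ∀ s ∈ S, s ^ p = 1 → s ∈ Subgroup.zpowers y := by
  obtain ⟨⟨s₀, hs₀S⟩, hs₀⟩ := IsCyclic.exists_generator (α := ↥S)
  have hs_ord : orderOf s₀ = Nat.card S := by
    rw [← Subgroup.orderOf_mk s₀ hs₀S]
    exact orderOf_eq_card_of_forall_mem_zpowers hs₀
  obtain ⟨n, hn⟩ := IsPGroup.iff_card.mp hSp
  have hn0 : n ≠ 0 := by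
    rintro rfl
    rw [pow_zero] at hn
    exact hSne (Subgroup.card_eq_one.mp hn)
  obtain ⟨m, rfl⟩ := Nat.exists_eq_succ_of_ne_zero hn0
  rw [hn] at hs_ord
  have hp0 : p ≠ 0 := (Fact.out : p.Prime).ne_zero
  refine ⟨s₀ ^ (p ^ m), pow_mem hs₀S _, ?_, ?_⟩
  · rw [orderOf_pow_of_dvd (pow_ne_zero m hp0)
      (by rw [hs_ord]; exact pow_dvd_pow p (Nat.le_succ m)), hs_ord, pow_succ,
      Nat.mul_div_cancel_left _ (pow_pos (Fact.out : p.Prime).pos m)]
  · intro s hs hsp
    obtain ⟨i, hi⟩ := Subgroup.mem_zpowers_iff.mp (hs₀ ⟨s, hs⟩)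
    have hi' : s₀ ^ i = s := by simpa using congrArg Subtype.val hi
    rw [← hi', ← zpow_natCast, ← zpow_mul] at hsp
    have h1 : ((orderOf s₀ : ℕ) : ℤ) ∣ i * p := orderOf_dvd_iff_zpow_eq_one.mpr hsp
    rw [hs_ord, pow_succ] at h1
    push_cast at h1
    have h2 : ((p : ℤ) ^ m) ∣ i :=
      Int.dvd_of_mul_dvd_mul_right (by exact_mod_cast hp0) h1
    obtain ⟨j, rfl⟩ := h2
    rw [← hi', Subgroup.mem_zpowers_iff]
    refine ⟨j, ?_⟩
    rw [← zpow_natCast, ← zpow_mul]
    push_cast
    rfl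

/-- The reverse direction, for a group `H` embedded in `G` with its Sylow subgroup inside `P`. -/
theorem dir_rev_abs {G H : Type*} [Group G] [Finite G] [Group H] [Finite H] {p : ℕ}
    [Fact p.Prime] (hp : p ≠ 2) (P : Sylow p G) (hPc : IsCyclic P)
    (h12 : Subgroup.normalizer ((P : Subgroup G) : Set G) = Subgroup.centralizer ((P : Subgroup G) : Set G) ∨
       ((Subgroup.centralizer ((P : Subgroup G) : Set G)).relIndex (Subgroup.normalizer ((P : Subgroup G) : Set G)) = 2 ∧
        ∀ Q : Subgroup G, Q ≤ P → Nat.card Q = p →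
          IsMulCommutative ↥(Subgroup.centralizer (Q : Set G)) ∧
          ∀ x : G, x ∈ Subgroup.normalizer (Q : Set G) → x ∉ Subgroup.centralizer (Q : Set G) →
            orderOf x = 2 ∧ ∀ c : G, c ∈ Subgroup.centralizer (Q : Set G) → x * c * x⁻¹ = c⁻¹))
    (ψ : H →* G) (hψ : Function.Injective ψ)
    (S : Sylow p H) [hSn : (S : Subgroup H).Normal] (hq : IsCyclic (H ⧸ (S : Subgroup H)))
    (hSP : ∀ s ∈ (S : Subgroup H), ψ s ∈ (P : Subgroup G)) :
    IsCyclic H ∨ ∃ n : ℕ, Nonempty (H ≃* DihedralGroup (p ^ n)) := by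
  have hPcomm := comm_of_isCyclic (P : Subgroup G) hPc
  have hSc : IsCyclic ↥(S : Subgroup H) := by
    let f : ↥(S : Subgroup H) →* ↥(P : Subgroup G) :=
      (ψ.comp (S : Subgroup H).subtype).codRestrict (P : Subgroup G) (fun s => hSP s.1 s.2)
    have hf : Function.Injective f := by
      intro a b hab
      apply Subtype.ext
      apply hψ
      exact congrArg Subtype.val hab
    exact isCyclic_of_injective f hf
  rcases h12 with h1 | ⟨-, h2⟩
  · left
    have hNC : Subgroup.normalizer ((P : Subgroup G) : Set G)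
        ≤ Subgroup.centralizer ((P : Subgroup G) : Set G) := h1.le
    have hcompl := MonoidHom.ker_transferSylow_isComplement' P hNC
    obtain ⟨K, hK⟩ : ∃ K, K = (MonoidHom.transferSylow P hNC).ker := ⟨_, rfl⟩
    rw [← hK] at hcompl
    have hKn : K.Normal := by rw [hK]; infer_instance
    apply cyclic_of_comm S hSc hq
    intro s hs k hk
    have hkK : ψ k ∈ K := by
      rw [← QuotientGroup.eq_one_iff, ← orderOf_eq_one_iff]
      obtain ⟨b, hb⟩ := IsPGroup.iff_card.mp P.isPGroup'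
      have h3 : orderOf ((ψ k : G) : G ⧸ K) ∣ Nat.card (P : Subgroup G) := by
        rw [← hcompl.symm.index_eq_card, Subgroup.index_eq_card]
        exact orderOf_dvd_natCard _
      have h4 : orderOf ((ψ k : G) : G ⧸ K) ∣ orderOf k :=
        (orderOf_map_dvd (QuotientGroup.mk' K) (ψ k)).trans (orderOf_map_dvd ψ k)
      have h5 : Nat.Coprime (Nat.card (P : Subgroup G)) (orderOf k) := by
        rw [hb]
        exact Nat.Coprime.pow_left b hk.symm
      have h6 := Nat.dvd_gcd h3 h4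
      rw [Nat.Coprime.gcd_eq_one h5] at h6
      exact Nat.dvd_one.mp h6
    have hc1 : s * k * s⁻¹ * k⁻¹ ∈ (S : Subgroup H) := by
      have : s * k * s⁻¹ * k⁻¹ = s * (k * s⁻¹ * k⁻¹) := by group
      rw [this]
      exact mul_mem hs (hSn.conj_mem _ (inv_mem hs) k)
    have hc2 : ψ (s * k * s⁻¹ * k⁻¹) ∈ K := by
      rw [map_mul, map_mul, map_mul, map_inv, map_inv]
      exact mul_mem (hKn.conj_mem _ hkK _) (inv_mem hkK)
    have hc3 : ψ (s * k * s⁻¹ * k⁻¹) = 1 := by
      have h7 : ψ (s * k * s⁻¹ * k⁻¹) ∈ K ⊓ (P : Subgroup G) := ⟨hc2, hSP _ hc1⟩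
      rw [hcompl.disjoint.eq_bot] at h7
      exact Subgroup.mem_bot.mp h7
    have hc4 : s * k * s⁻¹ * k⁻¹ = 1 := hψ (by rw [hc3, map_one])
    calc s * k = s * k * s⁻¹ * k⁻¹ * (k * s) := by group
      _ = k * s := by rw [hc4, one_mul]
  · by_cases hSb : (S : Subgroup H) = ⊥
    · left
      have hinj : Function.Injective (QuotientGroup.mk' (S : Subgroup H)) := by
        rw [← MonoidHom.ker_eq_bot_iff, QuotientGroup.ker_mk', hSb]
      exact isCyclic_of_injective (QuotientGroup.mk' (S : Subgroup H)) hinj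
    · obtain ⟨y, hyS, hyord, hyall⟩ := exists_omega (S : Subgroup H) S.isPGroup' hSc hSb
      have hQ0P : Subgroup.zpowers (ψ y) ≤ (P : Subgroup G) := by
        rw [Subgroup.zpowers_le]
        exact hSP y hyS
      have hQ0card : Nat.card (Subgroup.zpowers (ψ y)) = p := by
        rw [Nat.card_zpowers, orderOf_injective ψ hψ, hyord]
      obtain ⟨hcomm, hinvG⟩ := h2 _ hQ0P hQ0card
      have hconj : ∀ h : H, ∀ u ∈ Subgroup.zpowers (ψ y),
          ψ h * u * (ψ h)⁻¹ ∈ Subgroup.zpowers (ψ y) := by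
        intro h u hu
        obtain ⟨i, rfl⟩ := Subgroup.mem_zpowers_iff.mp hu
        have h3 : h * y * h⁻¹ ∈ Subgroup.zpowers y := by
          apply hyall _ (hSn.conj_mem y hyS h)
          rw [conj_pow, ← hyord, pow_orderOf_eq_one, mul_one, mul_inv_cancel]
        obtain ⟨j, hj⟩ := Subgroup.mem_zpowers_iff.mp h3
        have h4 : ψ h * ψ y ^ i * (ψ h)⁻¹ = (ψ y ^ j) ^ i := by
          rw [← map_zpow ψ y j, hj, map_mul, map_mul, map_inv, conj_zpow]
        rw [h4]
        exact zpow_mem (zpow_mem (Subgroup.mem_zpowers _) j) i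
      have hnorm : ∀ h : H, ψ h ∈ Subgroup.normalizer
          ((Subgroup.zpowers (ψ y) : Subgroup G) : Set G) := by
        intro h
        rw [Subgroup.mem_normalizer_iff]
        intro u
        constructor
        · exact hconj h u
        · intro hu
          have h3 := hconj h⁻¹ _ hu
          rw [map_inv, inv_inv] at h3
          have h4 : (ψ h)⁻¹ * (ψ h * u * (ψ h)⁻¹) * ψ h = u := by group
          rw [h4] at h3
          exact h3
      have hQ0C : ∀ u ∈ Subgroup.zpowers (ψ y),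
          u ∈ Subgroup.centralizer ((Subgroup.zpowers (ψ y) : Subgroup G) : Set G) := by
        intro u hu
        rw [Subgroup.mem_centralizer_iff]
        intro v hv
        exact hPcomm v (hQ0P hv) u (hQ0P hu)
      obtain ⟨C, hC⟩ : ∃ C : Subgroup H, C = (Subgroup.centralizer
          ((Subgroup.zpowers (ψ y) : Subgroup G) : Set G)).comap ψ := ⟨_, rfl⟩
      have hCmem : ∀ h : H, h ∈ C ↔ ψ h ∈ Subgroup.centralizer
          ((Subgroup.zpowers (ψ y) : Subgroup G) : Set G) := by
        intro h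
        rw [hC, Subgroup.mem_comap]
      by_cases hCtop : ∀ h : H, h ∈ C
      · left
        apply cyclic_of_comm S hSc hq
        intro s _ k _
        apply hψ
        rw [map_mul, map_mul]
        exact congrArg Subtype.val (mul_comm'
          (⟨ψ s, (hCmem s).mp (hCtop s)⟩ : Subgroup.centralizer
            ((Subgroup.zpowers (ψ y) : Subgroup G) : Set G)) ⟨ψ k, (hCmem k).mp (hCtop k)⟩)
      · right
        push Not at hCtop
        obtain ⟨x, hx⟩ := hCtop
        apply dihedral_of_inverting hp S hSc hSb hq C ?_ ?_ ?_ x hx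
        · intro s hs
          rw [hCmem, Subgroup.mem_centralizer_iff]
          intro v hv
          exact hPcomm v (hQ0P hv) (ψ s) (hSP s hs)
        · intro h hh
          rw [hCmem] at hh
          obtain ⟨ho, hi⟩ := hinvG (ψ h) (hnorm h) hh
          constructor
          · apply hψ
            rw [map_mul, map_one, ← pow_two, ← ho, pow_orderOf_eq_one]
          · intro c hc
            apply hψ
            rw [map_mul, map_mul, map_inv, map_inv]
            exact hi (ψ c) ((hCmem c).mp hc)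
        · intro a b ha hb
          rw [hCmem] at ha hb
          obtain ⟨-, hia⟩ := hinvG (ψ a) (hnorm a) ha
          obtain ⟨-, hib⟩ := hinvG (ψ b) (hnorm b) hb
          rw [hCmem, map_mul, Subgroup.mem_centralizer_iff]
          intro u hu
          have huC := hQ0C u hu
          have h3 := hib u huC
          have h4 := hia u⁻¹ (inv_mem huC)
          rw [inv_inv] at h4
          calc u * (ψ a * ψ b) = ψ a * u⁻¹ * (ψ a)⁻¹ * (ψ a * ψ b) := by rw [h4]
            _ = ψ a * (ψ b * u * (ψ b)⁻¹) * (ψ a)⁻¹ * (ψ a * ψ b) := by rw [h3]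
            _ = ψ a * ψ b * u := by group

/-- Let p be an odd prime and G a finite group with Sylow p-subgroup P. Say that G has restricted p-by-cyclic subgroups when every subgroup H of G whose Sylow p-subgroup is normal in H with cyclic quotient is itself cyclic or dihedral of order 2pⁿ for some n. Then G has restricted p-by-cyclic subgroups if and only if P is cyclic and one of the following holds: (1) N_G(P) = C_G(P); or (2) N_G(P)/C_G(P) has order 2 and, for the subgroup Q of order p of P, the centralizer C_G(Q) is abelian and every element of N_G(Q) outside C_G(Q) is an involution inverting every element of C_G(Q). -/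
theorem result {G : Type*} [Group G] [Finite G] {p : ℕ}
    [Fact p.Prime] (hp : p ≠ 2) (P : Sylow p G) :
    (∀ H : Subgroup G, (∀ S : Sylow p ↥H, (S : Subgroup ↥H).Normal) →
        (∀ (S : Sylow p ↥H) [(S : Subgroup ↥H).Normal], IsCyclic (↥H ⧸ (S : Subgroup ↥H))) →
        IsCyclic H ∨ (∃ n : ℕ, Nonempty (H ≃* DihedralGroup (p ^ n)))) ↔
    (IsCyclic P ∧
      (Subgroup.normalizer ((P : Subgroup G) : Set G) = Subgroup.centralizer ((P : Subgroup G) : Set G) ∨
       ((Subgroup.centralizer ((P : Subgroup G) : Set G)).relIndex (Subgroup.normalizer ((P : Subgroup G) : Set G)) = 2 ∧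
        ∀ Q : Subgroup G, Q ≤ P → Nat.card Q = p →
          IsMulCommutative ↥(Subgroup.centralizer (Q : Set G)) ∧
          ∀ x : G, x ∈ Subgroup.normalizer (Q : Set G) → x ∉ Subgroup.centralizer (Q : Set G) →
            orderOf x = 2 ∧ ∀ c : G, c ∈ Subgroup.centralizer (Q : Set G) → x * c * x⁻¹ = c⁻¹))) := by
  constructor
  · intro hR
    exact dir_fwd hp P hR
  · rintro ⟨hPc, h12⟩ H hSn hSc
    obtain ⟨S⟩ : Nonempty (Sylow p ↥H) := inferInstance
    haveI := hSn S
    have hq := hSc S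
    have hS' : IsPGroup p ((S : Subgroup ↥H).map H.subtype) := S.isPGroup'.map _
    obtain ⟨P', hP'⟩ := hS'.exists_le_sylow
    obtain ⟨g, hg⟩ := MulAction.exists_smul_eq G P P'
    let ψ : ↥H →* G := ((MulAut.conj g⁻¹).toMonoidHom).comp H.subtype
    have hψ : Function.Injective ψ :=
      (MulEquiv.injective (MulAut.conj g⁻¹)).comp Subtype.val_injective
    have hSP : ∀ s ∈ (S : Subgroup ↥H), ψ s ∈ (P : Subgroup G) := by
      intro s hs
      have h1 : (s : G) ∈ (P' : Subgroup G) := hP' (Subgroup.mem_map_of_mem _ hs)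
      rw [← hg, Sylow.coe_subgroup_smul, Cfsg.Agent.Lib.helper1.mem_conj_smul] at h1
      show g⁻¹ * (s : G) * g⁻¹⁻¹ ∈ (P : Subgroup G)
      rw [inv_inv]
      exact h1
    exact dir_rev_abs hp P hPc h12 ψ hψ S hq hSP

end Cfsg.Agent.S4082
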