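import Cfsg.Statements.S4083
import Mathlib
import Cfsg.Agent.S4082
import Cfsg.Agent.Lib.helper11.DihedralSylow
import Cfsg.Agent.Lib.helper5.Dihedral

set_option autoImplicit false
open Cfsg

namespace Cfsg.Agent.S4083

theorem zpowers_of_sq {H : Type*} [Group H] {x a : H} (hx : x * x = 1)
    (ha : a ∈ Subgroup.zpowers x) : a = 1 ∨ a = x := by
  obtain ⟨i, rfl⟩ := Subgroup.mem_zpowers_iff.mp ha
  rcases Int.even_or_odd' i with ⟨j, rfl | rfl⟩
  · left; rw [zpow_mul, zpow_two, hx, one_zpow]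
  · right; rw [zpow_add, zpow_mul, zpow_two, hx, one_zpow, one_mul, zpow_one]

theorem eq_one_of_odd_of_two_pow {H : Type*} [Group H] {k : H} (hodd : Odd (orderOf k)) (j : ℕ)
    (h : k ^ 2 ^ j = 1) : k = 1 := by
  have h1 := orderOf_dvd_of_pow_eq_one h
  have h2 : Nat.Coprime (orderOf k) (2 ^ j) :=
    Nat.Coprime.pow_right j (Nat.coprime_two_right.mpr hodd)
  exact orderOf_eq_one_iff.mp (Nat.Coprime.eq_one_of_dvd h2 h1)

theorem odd_orderOf_pow {H : Type*} [Group H] {k : H} (hodd : Odd (orderOf k)) (n : ℕ) :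
    Odd (orderOf (k ^ n)) := by
  have h1 : orderOf (k ^ n) ∣ orderOf k := orderOf_pow_dvd n
  exact Odd.of_dvd_nat hodd h1

/-- A group with cyclic normal Sylow `2`-subgroup and cyclic quotient is cyclic. -/
theorem cyclic_of_cyclic_sylow2 {H : Type*} [Group H] [Finite H] (S : Sylow 2 H)
    [hSn : (S : Subgroup H).Normal] (hSc : IsCyclic ↥(S : Subgroup H))
    (hq : IsCyclic (H ⧸ (S : Subgroup H))) : IsCyclic H := by
  apply Cfsg.Agent.S4082.cyclic_of_comm S hSc hq
  intro s hs k hk
  have hodd : Odd (orderOf k) := Nat.coprime_two_right.mp hk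
  have hkN : k ∈ Subgroup.normalizer ((S : Subgroup H) : Set H) := by
    rw [Subgroup.normalizer_eq_top]; exact Subgroup.mem_top k
  have h1 := Cfsg.Agent.Lib.helper11.conj_eq_of_odd_of_isCyclic_two (S : Subgroup H)
    S.isPGroup' hkN hodd s hs
  calc s * k = k * s * k⁻¹ * k := by rw [h1]
    _ = k * s := by group

/-- The four-group generated by two commuting involutions of a `2`-subgroup. -/
theorem four_group {H : Type*} [Group H] [Finite H] (S : Subgroup H) (hS : IsPGroup 2 S)
    {z t : H} (hzS : z ∈ S) (htS : t ∈ S) (hzz : z * z = 1) (htt : t * t = 1)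
    (hzt : z * t = t * z) (hz1 : z ≠ 1) (htz : t ≠ z) (ht1 : t ≠ 1) :
    ∃ K : Subgroup H, K ≤ S ∧ Nat.card K = 4 ∧ (∀ k ∈ K, k ^ 2 = 1) ∧ z ∈ K ∧ t ∈ K ∧
      ∀ k ∈ K, k = 1 ∨ k = z ∨ k = t ∨ k = z * t := by
  obtain ⟨K, hK⟩ : ∃ K, K = Subgroup.zpowers z ⊔ Subgroup.zpowers t := ⟨_, rfl⟩
  have hzK : z ∈ K := hK ▸ (le_sup_left : Subgroup.zpowers z ≤ _) (Subgroup.mem_zpowers z)
  have htK : t ∈ K := hK ▸ (le_sup_right : Subgroup.zpowers t ≤ _) (Subgroup.mem_zpowers t)
  have hle : K ≤ S := by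
    rw [hK]
    exact sup_le (Subgroup.zpowers_le.mpr hzS) (Subgroup.zpowers_le.mpr htS)
  have hcomm : ∀ a ∈ Subgroup.zpowers z, ∀ b ∈ Subgroup.zpowers t, a * b = b * a := by
    intro a ha b hb
    rcases zpowers_of_sq hzz ha with rfl | rfl <;> rcases zpowers_of_sq htt hb with rfl | rfl
    · rfl
    · rw [one_mul, mul_one]
    · rw [one_mul, mul_one]
    · exact hzt
  have hmem : ∀ k ∈ K, k = 1 ∨ k = z ∨ k = t ∨ k = z * t := by
    intro k hk
    rw [hK] at hk
    obtain ⟨a, ha, b, hb, rfl⟩ :=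
      Cfsg.Agent.Lib.helper29.exists_mul_of_mem_sup_of_commute hcomm hk
    rcases zpowers_of_sq hzz ha with rfl | rfl <;> rcases zpowers_of_sq htt hb with rfl | rfl
    · left; rw [one_mul]
    · right; right; left; rw [one_mul]
    · right; left; rw [mul_one]
    · right; right; right; rfl
  have h2 : ∀ k ∈ K, k ^ 2 = 1 := by
    intro k hk
    rcases hmem k hk with rfl | rfl | rfl | rfl
    · exact one_pow 2
    · rw [pow_two]; exact hzz
    · rw [pow_two]; exact htt
    · rw [pow_two]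
      calc z * t * (z * t) = z * (t * z) * t := by group
        _ = z * (z * t) * t := by rw [hzt]
        _ = (z * z) * (t * t) := by group
        _ = 1 := by rw [hzz, htt, one_mul]
  refine ⟨K, hle, ?_, h2, hzK, htK, hmem⟩
  obtain ⟨j, hj⟩ := IsPGroup.iff_card.mp (hS.to_le hle)
  have h4 : Nat.card K ≤ 4 := by
    have h5 : (K : Set H) ⊆ ({1, z, t, z * t} : Set H) := by
      intro k hk
      rcases hmem k hk with rfl | rfl | rfl | rfl <;> simp
    have h6 : Nat.card K = (K : Set H).ncard := (Nat.card_coe_set_eq (K : Set H))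
    rw [h6]
    refine (Set.ncard_le_ncard h5 (Set.toFinite _)).trans ?_
    refine (Set.ncard_insert_le _ _).trans ?_
    have h7 := Set.ncard_insert_le z ({t, z * t} : Set H)
    have h8 := Set.ncard_insert_le t ({z * t} : Set H)
    rw [Set.ncard_singleton] at h8
    omega
  have h3 : 2 < Nat.card K := by
    by_contra hle2
    push Not at hle2
    have hz2 : Nat.card (Subgroup.zpowers z) = 2 := by
      rw [Nat.card_zpowers]
      exact orderOf_eq_prime (by rw [pow_two]; exact hzz) hz1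
    have h5 : Subgroup.zpowers z ≤ K := by rw [hK]; exact le_sup_left
    have h6 := Subgroup.eq_of_le_of_card_ge h5 (by rw [hz2]; exact hle2)
    have h7 : t ∈ Subgroup.zpowers z := by rw [h6]; exact htK
    rcases zpowers_of_sq hzz h7 with h | h
    · exact ht1 h
    · exact htz h
  have hj3 : j < 3 := by
    by_contra h
    have := Nat.pow_le_pow_right (n := 2) (by norm_num) (not_lt.mp h)
    omega
  rw [hj] at h3 h4 ⊢
  interval_cases j <;> omega

/-- Structure of a non-cyclic "dihedral-like" `2`-subgroup. -/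
theorem dihedral_like_structure {H : Type*} [Group H] [Finite H] (S : Subgroup H)
    (hS2 : IsPGroup 2 S)
    (R : Subgroup H) (hRc : IsCyclic R)
    (F1 : ∀ q ∈ S, q ∉ R → q * q = 1)
    (F2 : ∀ a ∈ S, ∀ b ∈ S, a ∉ R → b ∉ R → a⁻¹ * b ∈ R)
    (hSR : ¬ S ≤ R) (hS₀ : S ⊓ R ≠ ⊥) :
    ∃ (z t s₀ : H) (m : ℕ), t ∈ S ∧ t ∉ R ∧ t * t = 1 ∧ s₀ ∈ S ⊓ R ∧
      (∀ r ∈ S ⊓ R, ∃ i : ℤ, r = s₀ ^ i) ∧ z ∈ S ⊓ R ∧ z * z = 1 ∧ z ≠ 1 ∧
      (∀ r ∈ S ⊓ R, r * r = 1 → r = 1 ∨ r = z) ∧ z * t = t * z ∧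
      (∀ s ∈ S, ∃ i : ℤ, s = s₀ ^ i ∨ s = t * s₀ ^ i) ∧
      Nonempty (↥S ≃* DihedralGroup (2 ^ m)) := by
  obtain ⟨t, htS, htR⟩ := SetLike.not_le_iff_exists.mp hSR
  have htt : t * t = 1 := F1 t htS htR
  have htinv : t⁻¹ = t := inv_eq_of_mul_eq_one_left htt
  have hS₀c : IsCyclic ↥(S ⊓ R) :=
    isCyclic_of_injective (Subgroup.inclusion (inf_le_right : S ⊓ R ≤ R))
      (Subgroup.inclusion_injective _)
  have hS₀2 : IsPGroup 2 ↥(S ⊓ R) := hS2.to_le inf_le_left
  have F3 : ∀ r ∈ S ⊓ R, t * r * t⁻¹ = r⁻¹ := by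
    intro r hr
    have h1 : t * r ∉ R := fun h => htR (by
      have := R.mul_mem h (inv_mem hr.2)
      simpa using this)
    have h2 := F1 (t * r) (S.mul_mem htS hr.1) h1
    rw [htinv]
    exact eq_inv_of_mul_eq_one_left (by rw [← h2]; group)
  have hdecomp : ∀ s ∈ S, s ∈ S ⊓ R ∨ t * s ∈ S ⊓ R := by
    intro s hs
    by_cases hsR : s ∈ R
    · exact Or.inl ⟨hs, hsR⟩
    · right
      have := F2 t htS s hs htR hsR
      rw [htinv] at this
      exact ⟨S.mul_mem htS hs, this⟩
  obtain ⟨z, hzS₀, hzord, hzall⟩ :=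
    Cfsg.Agent.S4082.exists_omega (p := 2) (S ⊓ R) hS₀2 hS₀c hS₀
  have hzz : z * z = 1 := by rw [← pow_two, ← hzord, pow_orderOf_eq_one]
  have hz1 : z ≠ 1 := by
    rintro rfl
    rw [orderOf_one] at hzord
    omega
  have hzuniq : ∀ r ∈ S ⊓ R, r * r = 1 → r = 1 ∨ r = z := by
    intro r hr hrr
    exact zpowers_of_sq hzz (hzall r hr (by rw [pow_two]; exact hrr))
  have hzt : z * t = t * z := by
    have h1 := F3 z hzS₀
    have h2 : z⁻¹ = z := inv_eq_of_mul_eq_one_left hzz
    rw [h2] at h1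
    calc z * t = t * z * t⁻¹ * t := by rw [h1]
      _ = t * z := by group
  obtain ⟨⟨s₀, hs₀⟩, hgen⟩ := IsCyclic.exists_generator (α := ↥(S ⊓ R))
  have hgen' : ∀ r ∈ S ⊓ R, ∃ i : ℤ, r = s₀ ^ i := by
    intro r hr
    obtain ⟨i, hi⟩ := Subgroup.mem_zpowers_iff.mp (hgen ⟨r, hr⟩)
    exact ⟨i, by simpa using (congrArg Subtype.val hi).symm⟩
  have hform : ∀ s ∈ S, ∃ i : ℤ, s = s₀ ^ i ∨ s = t * s₀ ^ i := by
    intro s hs
    rcases hdecomp s hs with h | h
    · obtain ⟨i, hi⟩ := hgen' s h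
      exact ⟨i, Or.inl hi⟩
    · obtain ⟨i, hi⟩ := hgen' _ h
      refine ⟨i, Or.inr ?_⟩
      rw [← hi, ← mul_assoc, htt, one_mul]
  have hs_ord : orderOf s₀ = Nat.card ↥(S ⊓ R) := by
    rw [← Subgroup.orderOf_mk s₀ hs₀]
    exact orderOf_eq_card_of_forall_mem_zpowers hgen
  obtain ⟨m, hm⟩ := IsPGroup.iff_card.mp hS₀2
  have ht1 : t ≠ 1 := fun h => htR (h ▸ R.one_mem)
  have hb : (t * s₀) * (t * s₀) = 1 := by
    apply F1 (t * s₀) (S.mul_mem htS hs₀.1)
    intro h
    apply htR
    have := R.mul_mem h (inv_mem hs₀.2)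
    simpa using this
  have hb1 : t * s₀ ≠ 1 := by
    intro h
    apply htR
    have h1 : t = s₀⁻¹ := eq_inv_of_mul_eq_one_left h
    rw [h1]
    exact inv_mem hs₀.2
  have hab : t * (t * s₀) = s₀ := by rw [← mul_assoc, htt, one_mul]
  have hcl : Subgroup.closure ({t, t * s₀} : Set H) = S := by
    apply le_antisymm
    · rw [Subgroup.closure_le]
      intro x hx
      rcases hx with rfl | rfl
      · exact htS
      · exact S.mul_mem htS hs₀.1
    · intro s hs
      have h1 : t ∈ Subgroup.closure ({t, t * s₀} : Set H) :=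
        Subgroup.subset_closure (Set.mem_insert _ _)
      have h2 : t * s₀ ∈ Subgroup.closure ({t, t * s₀} : Set H) :=
        Subgroup.subset_closure (Set.mem_insert_of_mem _ rfl)
      have h3 : s₀ ∈ Subgroup.closure ({t, t * s₀} : Set H) := by
        have h4 := mul_mem h1 h2
        rwa [hab] at h4
      obtain ⟨i, hi | hi⟩ := hform s hs
      · rw [hi]; exact zpow_mem h3 i
      · rw [hi]; exact mul_mem h1 (zpow_mem h3 i)
  have hdih : Nonempty (↥S ≃* DihedralGroup (2 ^ m)) := by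
    have e1 := (MonoidHom.ofInjective
      (Cfsg.Agent.Lib.helper5.dihedralHom_injective t (t * s₀) htt hb ht1 hb1)).trans
      (MulEquiv.subgroupCongr
        (Cfsg.Agent.Lib.helper5.dihedralHom_range t (t * s₀) htt hb _ _))
    have e2 := e1.trans (MulEquiv.subgroupCongr hcl)
    have hord : orderOf (t * (t * s₀)) = 2 ^ m := by rw [hab, hs_ord, hm]
    rw [hord] at e2
    exact ⟨e2.symm⟩
  exact ⟨z, t, s₀, m, htS, htR, htt, hs₀, hgen', hzS₀, hzz, hz1, hzuniq, hzt, hform, hdih⟩

/-- Action of an element of odd order on a four-group `{1, z, t, z * t}` whose centralizer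
contains no nontrivial element of odd order. -/
theorem odd_action_four {H : Type*} [Group H] {z t : H} (hzz : z * z = 1) (htt : t * t = 1)
    (hzt : z * t = t * z) (ht1 : t ≠ 1) (htz : t ≠ z)
    (htriv : ∀ k : H, Odd (orderOf k) → k * z = z * k → k * t = t * k → k = 1)
    (k : H) (hodd : Odd (orderOf k))
    (ha : k * z * k⁻¹ = z ∨ k * z * k⁻¹ = t ∨ k * z * k⁻¹ = z * t)
    (hb : k * t * k⁻¹ = z ∨ k * t * k⁻¹ = t ∨ k * t * k⁻¹ = z * t) :
    k = 1 ∨ (k ^ 3 = 1 ∧ k * z * k⁻¹ ≠ z ∧ (∃ g : H, g * z * g⁻¹ = t) ∧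
      (∃ g : H, g * z * g⁻¹ = z * t)) := by
  have hmul : ∀ v w : H, k * (v * w) * k⁻¹ = (k * v * k⁻¹) * (k * w * k⁻¹) := by
    intro v w; group
  have hk2 : ∀ v : H, k ^ 2 * v * (k ^ 2)⁻¹ = k * (k * v * k⁻¹) * k⁻¹ := by
    intro v
    rw [pow_two, mul_inv_rev]
    simp only [mul_assoc]
  have hk3 : ∀ v : H, k ^ 3 * v * (k ^ 3)⁻¹ = k * (k * (k * v * k⁻¹) * k⁻¹) * k⁻¹ := by
    intro v
    rw [pow_succ, pow_two, mul_inv_rev, mul_inv_rev]
    simp only [mul_assoc]
  have hcm : ∀ g v : H, g * v * g⁻¹ = v → g * v = v * g := by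
    intro g v h
    calc g * v = g * v * g⁻¹ * g := by group
      _ = v * g := by rw [h]
  have e1 : z * (z * t) = t := by rw [← mul_assoc, hzz, one_mul]
  have e2 : t * (z * t) = z := by rw [hzt, ← mul_assoc, htt, one_mul]
  have e3 : z * t * z = t := by rw [hzt, mul_assoc, hzz, mul_one]
  have e4 : z * t * t = z := by rw [mul_assoc, htt, mul_one]
  have hinj : k * z * k⁻¹ ≠ k * t * k⁻¹ := by
    intro h
    exact htz (mul_left_cancel (mul_right_cancel h)).symm
  have sq_case : (k ^ 2 * z * (k ^ 2)⁻¹ = z) → (k ^ 2 * t * (k ^ 2)⁻¹ = t) → k = 1 := by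
    intro h1 h2
    have h3 := htriv (k ^ 2) (odd_orderOf_pow hodd 2) (hcm _ _ h1) (hcm _ _ h2)
    exact eq_one_of_odd_of_two_pow hodd 1 (by rw [pow_one]; exact h3)
  have cube_case : (k ^ 3 * z * (k ^ 3)⁻¹ = z) → (k ^ 3 * t * (k ^ 3)⁻¹ = t) → k ^ 3 = 1 := by
    intro h1 h2
    exact htriv (k ^ 3) (odd_orderOf_pow hodd 3) (hcm _ _ h1) (hcm _ _ h2)
  rcases ha with ha | ha | ha <;> rcases hb with hb | hb | hb
  · exact absurd (ha.trans hb.symm) hinj
  · left
    exact htriv k hodd (hcm _ _ ha) (hcm _ _ hb)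
  · left
    apply sq_case
    · rw [hk2, ha, ha]
    · rw [hk2, hb, hmul z t, ha, hb, e1]
  · left
    apply sq_case
    · rw [hk2, ha, hb]
    · rw [hk2, hb, ha]
  · exact absurd (ha.trans hb.symm) hinj
  · right
    refine ⟨?_, ?_, ⟨k, ha⟩, ⟨k ^ 2, ?_⟩⟩
    · apply cube_case
      · rw [hk3, ha, hb, hmul z t, ha, hb, e2]
      · rw [hk3, hb, hmul z t, ha, hb, e2, ha]
    · rw [ha]; exact htz
    · rw [hk2, ha, hb]
  · right
    refine ⟨?_, ?_, ⟨k ^ 2, ?_⟩, ⟨k, ha⟩⟩
    · apply cube_case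
      · rw [hk3, ha, hmul z t, ha, hb, e3, hb]
      · rw [hk3, hb, ha, hmul z t, ha, hb, e3]
    · rw [ha]
      intro h
      apply ht1
      have h5 : z * t = z * 1 := by rw [mul_one]; exact h
      exact mul_left_cancel h5
    · rw [hk2, ha, hmul z t, ha, hb, e3]
  · left
    apply sq_case
    · rw [hk2, ha, hmul z t, ha, hb, e4]
    · rw [hk2, hb, hb]
  · exact absurd (ha.trans hb.symm) hinj

/-- A group of order `12` with normal four-group `S` and an element `k` of order `3` acting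
fixed-point-freely on `S` is isomorphic to the alternating group of degree `4`. -/
theorem a4_iso {H : Type*} [Group H] [Finite H] (S : Subgroup H) [hSn : S.Normal]
    (hS2 : IsPGroup 2 S) {z t k : H} (hzS : z ∈ S)
    (hSmem : ∀ s ∈ S, s = 1 ∨ s = z ∨ s = t ∨ s = z * t)
    (hk3 : k ^ 3 = 1) (hk1 : k ≠ 1)
    (hct : ∃ g : H, g * z * g⁻¹ = t) (hczt : ∃ g : H, g * z * g⁻¹ = z * t)
    (hfix : ∀ g : H, Odd (orderOf g) → g * z * g⁻¹ = z → g = 1)
    (hgen : ∀ h : H, ∃ i : ℤ, h * k ^ i ∈ S)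
    (hcard : Nat.card H = 12) :
    Nonempty (H ≃* alternatingGroup (Fin 4)) := by
  obtain ⟨T, hT⟩ : ∃ T, T = Subgroup.zpowers k := ⟨_, rfl⟩
  have hkord : orderOf k = 3 := orderOf_eq_prime hk3 hk1
  have hTcard : Nat.card T = 3 := by rw [hT, Nat.card_zpowers, hkord]
  have hidx : Nat.card (H ⧸ T) = 4 := by
    have := Subgroup.card_mul_index T
    rw [hTcard, hcard] at this
    rw [← Subgroup.index_eq_card]
    omega
  let ε : (H ⧸ T) ≃ Fin 4 := Finite.equivFinOfCardEq hidx
  let φ : H →* Equiv.Perm (H ⧸ T) := MulAction.toPermHom H (H ⧸ T)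
  let φ' : H →* Equiv.Perm (Fin 4) := (ε.permCongrHom).toMonoidHom.comp φ
  have hT3 : ∀ g ∈ T, g ^ 3 = 1 := by
    intro g hg
    rw [hT] at hg
    obtain ⟨i, rfl⟩ := Subgroup.mem_zpowers_iff.mp hg
    rw [← zpow_natCast, ← zpow_mul, mul_comm, zpow_mul, zpow_natCast, hk3, one_zpow]
  have hφinj : Function.Injective φ := by
    rw [injective_iff_map_eq_one]
    intro g hg
    have hfixall : ∀ h : H, ((g * h : H) : H ⧸ T) = (h : H ⧸ T) := by
      intro h
      have := congrArg (fun σ : Equiv.Perm (H ⧸ T) => σ (h : H ⧸ T)) hg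
      simpa [φ] using this
    have hgT : g ∈ T := by
      have h1 := QuotientGroup.eq.mp (hfixall 1)
      have h2 : g⁻¹ ∈ T := by simpa using h1
      exact inv_mem_iff.mp h2
    have hu : (g * z)⁻¹ * z ∈ T := QuotientGroup.eq.mp (hfixall z)
    have hw : g * z⁻¹ * g⁻¹ * z ∈ T := by
      have : g * z⁻¹ * g⁻¹ * z = g * ((g * z)⁻¹ * z) := by group
      rw [this]
      exact T.mul_mem hgT hu
    have hwS : g * z⁻¹ * g⁻¹ * z ∈ S := S.mul_mem (hSn.conj_mem _ (inv_mem hzS) g) hzS
    have hw1 : g * z⁻¹ * g⁻¹ * z = 1 := by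
      obtain ⟨j, hj⟩ := hS2 ⟨_, hwS⟩
      have hj' : (g * z⁻¹ * g⁻¹ * z) ^ 2 ^ j = 1 := by simpa using congrArg Subtype.val hj
      have h3 := hT3 _ hw
      have hodd : Odd (orderOf (g * z⁻¹ * g⁻¹ * z)) :=
        Odd.of_dvd_nat (by decide : Odd 3) (orderOf_dvd_of_pow_eq_one h3)
      exact eq_one_of_odd_of_two_pow hodd j hj'
    have hgz : g * z * g⁻¹ = z := by
      have h4 : g * z⁻¹ * g⁻¹ = z⁻¹ := eq_inv_of_mul_eq_one_left hw1
      have h5 : g * z * g⁻¹ = (g * z⁻¹ * g⁻¹)⁻¹ := by group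
      rw [h5, h4, inv_inv]
    have hgodd : Odd (orderOf g) :=
      Odd.of_dvd_nat (by decide : Odd 3) (orderOf_dvd_of_pow_eq_one (hT3 g hgT))
    exact hfix g hgodd hgz
  have hφ'inj : Function.Injective φ' := (ε.permCongrHom).injective.comp hφinj
  let σ : H →* ℤˣ := Equiv.Perm.sign.comp φ'
  have hσconj : ∀ g v : H, σ (g * v * g⁻¹) = σ v := by
    intro g v
    rw [map_mul, map_mul, map_inv, mul_comm (σ g), mul_assoc, mul_inv_cancel, mul_one]
  have hσk : σ k = 1 := by
    have h1 : σ k ^ 3 = 1 := by rw [← map_pow, hk3, map_one]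
    rcases Int.units_eq_one_or (σ k) with h | h
    · exact h
    · rw [h] at h1
      exact absurd h1 (by decide)
  obtain ⟨g₁, hg₁⟩ := hct
  obtain ⟨g₂, hg₂⟩ := hczt
  have hσt : σ t = σ z := by rw [← hg₁, hσconj]
  have hσzt : σ (z * t) = σ z := by rw [← hg₂, hσconj]
  have hσz : σ z = 1 := by
    have h1 := hσzt
    rw [map_mul, hσt] at h1
    exact mul_left_cancel (a := σ z) (by rw [h1, mul_one])
  have hσS : ∀ s ∈ S, σ s = 1 := by
    intro s hs
    rcases hSmem s hs with rfl | rfl | rfl | rfl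
    · exact map_one σ
    · exact hσz
    · rw [hσt, hσz]
    · rw [hσzt, hσz]
  have hσ : ∀ h : H, σ h = 1 := by
    intro h
    obtain ⟨i, hi⟩ := hgen h
    have h1 := hσS _ hi
    rw [map_mul, map_zpow, hσk, one_zpow, mul_one] at h1
    exact h1
  let ψ : H →* alternatingGroup (Fin 4) := φ'.codRestrict (alternatingGroup (Fin 4))
    (fun h => Equiv.Perm.mem_alternatingGroup.mpr (hσ h))
  have hψinj : Function.Injective ψ := by
    intro a b hab
    apply hφ'inj
    exact congrArg Subtype.val hab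
  have hcardA : Nat.card (alternatingGroup (Fin 4)) = 12 := by
    rw [nat_card_alternatingGroup, Nat.card_fin]
    rfl
  have hbij : Function.Bijective ψ :=
    (Nat.bijective_iff_injective_and_card ψ).mpr ⟨hψinj, by rw [hcard, hcardA]⟩
  exact ⟨MulEquiv.ofBijective ψ hbij⟩

/-- The reverse direction in abstract form. -/
theorem main_abs {H : Type*} [Group H] [Finite H] (S : Sylow 2 H)
    [hSn : (S : Subgroup H).Normal] (hq : IsCyclic (H ⧸ (S : Subgroup H)))
    (R : Subgroup H) (hRc : IsCyclic R)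
    (F1 : ∀ q ∈ (S : Subgroup H), q ∉ R → q * q = 1)
    (F2 : ∀ a ∈ (S : Subgroup H), ∀ b ∈ (S : Subgroup H), a ∉ R → b ∉ R → a⁻¹ * b ∈ R)
    (hK : ∀ K : Subgroup H, K ≤ S → Nat.card K = 4 → (∀ k ∈ K, k ^ 2 = 1) →
      Subgroup.centralizer (K : Set H) ≤ K) :
    IsCyclic H ∨ (∃ n : ℕ, Nonempty (H ≃* DihedralGroup (2 ^ n))) ∨
      Nonempty (H ≃* alternatingGroup (Fin 4)) := by
  by_cases hSR : (S : Subgroup H) ≤ R
  · left
    exact cyclic_of_cyclic_sylow2 S (isCyclic_of_injective (Subgroup.inclusion hSR)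
      (Subgroup.inclusion_injective hSR)) hq
  by_cases hS₀ : (S : Subgroup H) ⊓ R = ⊥
  · left
    obtain ⟨t, htS, htR⟩ := SetLike.not_le_iff_exists.mp hSR
    have htt := F1 t htS htR
    refine cyclic_of_cyclic_sylow2 S ⟨⟨⟨t, htS⟩, fun s => ?_⟩⟩ hq
    by_cases hsR : (s : H) ∈ R
    · have h1 : (s : H) ∈ (S : Subgroup H) ⊓ R := ⟨s.2, hsR⟩
      rw [hS₀] at h1
      refine ⟨0, ?_⟩
      apply Subtype.ext
      simp [Subgroup.mem_bot.mp h1]
    · have h1 := F2 t htS s s.2 htR hsR
      have h2 : t⁻¹ * (s : H) ∈ (S : Subgroup H) ⊓ R :=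
        ⟨(S : Subgroup H).mul_mem ((S : Subgroup H).inv_mem htS) s.2, h1⟩
      rw [hS₀] at h2
      have h3 : (s : H) = t := by
        have h4 := Subgroup.mem_bot.mp h2
        calc (s : H) = t * (t⁻¹ * s) := by group
          _ = t := by rw [h4, mul_one]
      refine ⟨1, ?_⟩
      apply Subtype.ext
      simp [h3]
  · obtain ⟨z, t, s₀, m, htS, htR, htt, hs₀, hgen, hzS₀, hzz, hz1, hzuniq, hzt, hform, hdih⟩ :=
      dihedral_like_structure (S : Subgroup H) S.isPGroup' R hRc F1 F2 hSR hS₀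
    have htz : t ≠ z := fun h => htR (h ▸ hzS₀.2)
    have ht1 : t ≠ 1 := fun h => htR (h ▸ R.one_mem)
    obtain ⟨K, hKS, hKcard, hK2, hzK, htK, hKmem⟩ :=
      four_group (S : Subgroup H) S.isPGroup' hzS₀.1 htS hzz htt hzt hz1 htz ht1
    have hCK := hK K hKS hKcard hK2
    have htriv : ∀ k : H, Odd (orderOf k) → k * z = z * k → k * t = t * k → k = 1 := by
      intro k hodd hkz hkt
      have hkC : k ∈ Subgroup.centralizer (K : Set H) := by
        rw [Subgroup.mem_centralizer_iff]
        intro v hv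
        rcases hKmem v hv with rfl | rfl | rfl | rfl
        · rw [one_mul, mul_one]
        · exact hkz.symm
        · exact hkt.symm
        · rw [mul_assoc, ← hkt, ← mul_assoc, ← hkz, mul_assoc]
      have h1 := hK2 k (hCK hkC)
      exact eq_one_of_odd_of_two_pow hodd 1 (by rw [pow_one]; exact h1)
    have hidx_odd : Odd (S : Subgroup H).index := by
      rw [← Nat.not_even_iff_odd, even_iff_two_dvd]
      exact S.not_dvd_index
    have hStop : (S : Subgroup H) = ⊤ → ∃ n : ℕ, Nonempty (H ≃* DihedralGroup (2 ^ n)) := by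
      intro hHS
      obtain ⟨e⟩ := hdih
      exact ⟨m, ⟨(Subgroup.topEquiv.symm.trans (MulEquiv.subgroupCongr hHS.symm)).trans e⟩⟩
    have hall_triv : (∀ k : H, Odd (orderOf k) → k = 1) →
        ∃ n : ℕ, Nonempty (H ≃* DihedralGroup (2 ^ n)) := by
      intro hall
      apply hStop
      rw [eq_top_iff]
      intro h _
      obtain ⟨a, ha⟩ := IsPGroup.iff_card.mp S.isPGroup'
      have h1 : (h ^ (2 ^ a)) ^ (S : Subgroup H).index = 1 := by
        rw [← pow_mul, ← ha, Subgroup.card_mul_index, pow_card_eq_one']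
      have h2 : Odd (orderOf (h ^ (2 ^ a))) :=
        Odd.of_dvd_nat hidx_odd (orderOf_dvd_of_pow_eq_one h1)
      have h3 := hall _ h2
      rw [← QuotientGroup.eq_one_iff, ← orderOf_eq_one_iff]
      have h4 : orderOf ((h : H) : H ⧸ (S : Subgroup H)) ∣ 2 ^ a := by
        apply orderOf_dvd_of_pow_eq_one
        rw [← QuotientGroup.mk_pow, h3]
        rfl
      have h5 : orderOf ((h : H) : H ⧸ (S : Subgroup H)) ∣ (S : Subgroup H).index := by
        rw [Subgroup.index_eq_card]
        exact orderOf_dvd_natCard _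
      have h6 : Nat.Coprime (2 ^ a) (S : Subgroup H).index :=
        Nat.Coprime.pow_left a (Nat.coprime_two_left.mpr hidx_odd)
      exact Nat.eq_one_of_dvd_coprimes h6 h4 h5
    by_cases hs₀2 : s₀ * s₀ = 1
    · -- the Sylow subgroup is a four-group
      have hSmem : ∀ s ∈ (S : Subgroup H), s = 1 ∨ s = z ∨ s = t ∨ s = z * t := by
        intro s hs
        have hs₀z : ∀ i : ℤ, s₀ ^ i = 1 ∨ s₀ ^ i = z := by
          intro i
          have h1 : s₀ ^ i ∈ (S : Subgroup H) ⊓ R := zpow_mem hs₀ i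
          apply hzuniq _ h1
          rw [← zpow_add, ← two_mul, zpow_mul, zpow_two, hs₀2, one_zpow]
        obtain ⟨i, hi | hi⟩ := hform s hs
        · rcases hs₀z i with h | h
          · left; rw [hi, h]
          · right; left; rw [hi, h]
        · rcases hs₀z i with h | h
          · right; right; left; rw [hi, h, mul_one]
          · right; right; right; rw [hi, h, hzt]
      have hScard : Nat.card (S : Subgroup H) = 4 := by
        have h1 : K = (S : Subgroup H) := by
          apply le_antisymm hKS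
          intro s hs
          rcases hSmem s hs with rfl | rfl | rfl | rfl
          · exact K.one_mem
          · exact hzK
          · exact htK
          · exact K.mul_mem hzK htK
        rw [← h1]
        exact hKcard
      have hconj : ∀ (k : H) (v : H), v ∈ (S : Subgroup H) → v ≠ 1 →
          (k * v * k⁻¹ = z ∨ k * v * k⁻¹ = t ∨ k * v * k⁻¹ = z * t) := by
        intro k v hv hv1
        rcases hSmem _ (hSn.conj_mem v hv k) with h | h | h | h
        · exfalso
          apply hv1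
          have h1 : k * v * k⁻¹ = k * 1 * k⁻¹ := by rw [h]; group
          exact mul_left_cancel (mul_right_cancel h1)
        · exact Or.inl h
        · exact Or.inr (Or.inl h)
        · exact Or.inr (Or.inr h)
      have hodd4 : ∀ k : H, Odd (orderOf k) → k = 1 ∨ (k ^ 3 = 1 ∧ k * z * k⁻¹ ≠ z ∧
          (∃ g : H, g * z * g⁻¹ = t) ∧ (∃ g : H, g * z * g⁻¹ = z * t)) := fun k hodd =>
        odd_action_four hzz htt hzt ht1 htz htriv k hodd (hconj k z hzS₀.1 hz1)
          (hconj k t htS ht1)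
      obtain ⟨q₀, hq₀⟩ := IsCyclic.exists_generator (α := H ⧸ (S : Subgroup H))
      obtain ⟨k₀, rfl⟩ := QuotientGroup.mk_surjective q₀
      have hq_ord : orderOf (k₀ : H ⧸ (S : Subgroup H)) = (S : Subgroup H).index := by
        rw [Subgroup.index_eq_card]
        exact orderOf_eq_card_of_forall_mem_zpowers hq₀
      obtain ⟨k, hk⟩ : ∃ k, k = k₀ ^ 4 := ⟨_, rfl⟩
      have hk1 : k ^ (S : Subgroup H).index = 1 := by
        rw [hk, ← pow_mul, ← hScard, Subgroup.card_mul_index, pow_card_eq_one']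
      have hkodd : Odd (orderOf k) :=
        Odd.of_dvd_nat hidx_odd (orderOf_dvd_of_pow_eq_one hk1)
      have hc4 : Nat.Coprime 4 (orderOf (k₀ : H ⧸ (S : Subgroup H))) := by
        rw [hq_ord]
        have h1 := Nat.Coprime.pow_left 2 (Nat.coprime_two_left.mpr hidx_odd)
        exact h1
      obtain ⟨u, hu⟩ := exists_pow_eq_self_of_coprime hc4
      have hgenk : ∀ h : H, ∃ i : ℤ, h * k ^ i ∈ (S : Subgroup H) := by
        intro h
        obtain ⟨j, hj⟩ := Subgroup.mem_zpowers_iff.mp (hq₀ (h : H ⧸ (S : Subgroup H)))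
        refine ⟨-((u : ℤ) * j), ?_⟩
        rw [← QuotientGroup.eq_one_iff, QuotientGroup.mk_mul, QuotientGroup.mk_zpow, hk,
          QuotientGroup.mk_pow, ← hj, zpow_neg, zpow_mul, zpow_natCast, hu, mul_inv_cancel]
      rcases hodd4 k hkodd with hk1' | ⟨hk3, hkz, hct, hczt⟩
      · right; left
        apply hStop
        rw [eq_top_iff]
        intro h _
        obtain ⟨i, hi⟩ := hgenk h
        rw [hk1', one_zpow, mul_one] at hi
        exact hi
      · right; right
        have hkne : k ≠ 1 := by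
          rintro rfl
          apply hkz
          group
        have hidx3 : (S : Subgroup H).index = 3 := by
          have h1 : orderOf ((k : H) : H ⧸ (S : Subgroup H)) = (S : Subgroup H).index := by
            rw [hk, QuotientGroup.mk_pow, Nat.Coprime.orderOf_pow hc4.symm, hq_ord]
          have h2 : (S : Subgroup H).index ∣ 3 := by
            rw [← h1]
            exact (orderOf_map_dvd (QuotientGroup.mk' (S : Subgroup H)) k).trans
              (orderOf_dvd_of_pow_eq_one hk3)
          rcases (Nat.dvd_prime Nat.prime_three).mp h2 with h3 | h3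
          · exfalso
            have hStop' : (S : Subgroup H) = ⊤ := Subgroup.index_eq_one.mp h3
            have hkS : k ∈ (S : Subgroup H) := by rw [hStop']; exact Subgroup.mem_top k
            obtain ⟨j, hj⟩ := S.isPGroup' ⟨k, hkS⟩
            have hj' : k ^ 2 ^ j = 1 := by simpa using congrArg Subtype.val hj
            exact hkne (eq_one_of_odd_of_two_pow hkodd j hj')
          · exact h3
        have hcard : Nat.card H = 12 := by
          rw [← Subgroup.card_mul_index (S : Subgroup H), hScard, hidx3]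
        have hfix : ∀ g : H, Odd (orderOf g) → g * z * g⁻¹ = z → g = 1 := by
          intro g hg hgz
          rcases hodd4 g hg with h | ⟨-, h, -, -⟩
          · exact h
          · exact absurd hgz h
        exact a4_iso (S : Subgroup H) S.isPGroup' hzS₀.1 hSmem hk3 hkne hct hczt hfix hgenk
          hcard
    · right; left
      apply hall_triv
      intro k hodd
      have hkS : ∀ v ∈ (S : Subgroup H), k * v * k⁻¹ ∈ (S : Subgroup H) :=
        fun v hv => hSn.conj_mem v hv k
      have hks₀ : k * s₀ * k⁻¹ ∈ (S : Subgroup H) ⊓ R := by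
        refine ⟨hkS s₀ hs₀.1, ?_⟩
        by_contra hnR
        apply hs₀2
        have h1 := F1 _ (hkS s₀ hs₀.1) hnR
        have h2 : s₀ * s₀ = k⁻¹ * ((k * s₀ * k⁻¹) * (k * s₀ * k⁻¹)) * k := by group
        rw [h2, h1]
        group
      have hkN : k ∈ Subgroup.normalizer (((S : Subgroup H) ⊓ R : Subgroup H) : Set H) := by
        apply Cfsg.Agent.Lib.helper53.mem_normalizer_of_conj_le
        rw [Cfsg.Agent.Lib.helper53.conj_le_iff]
        intro y hy
        obtain ⟨i, rfl⟩ := hgen y hy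
        have e : k * s₀ ^ i * k⁻¹ = (k * s₀ * k⁻¹) ^ i := by rw [conj_zpow]
        rw [e]
        exact Subgroup.zpow_mem _ hks₀ i
      haveI : IsCyclic ↥((S : Subgroup H) ⊓ R) :=
        isCyclic_of_injective (Subgroup.inclusion (inf_le_right : (S : Subgroup H) ⊓ R ≤ R))
          (Subgroup.inclusion_injective _)
      have hcent := Cfsg.Agent.Lib.helper11.conj_eq_of_odd_of_isCyclic_two
        ((S : Subgroup H) ⊓ R) (S.isPGroup'.to_le inf_le_left) hkN hodd
      have hkz : k * z = z * k := by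
        have h1 := hcent z hzS₀
        calc k * z = k * z * k⁻¹ * k := by group
          _ = z * k := by rw [h1]
      have hkt : k * t = t * k := by
        have hktS : k * t * k⁻¹ ∈ (S : Subgroup H) := hkS t htS
        have hktR : k * t * k⁻¹ ∉ R := by
          intro h
          have h1 : k⁻¹ ∈ Subgroup.normalizer (((S : Subgroup H) ⊓ R : Subgroup H) : Set H) :=
            Subgroup.inv_mem _ hkN
          have h2 := (Subgroup.mem_normalizer_iff.mp h1 (k * t * k⁻¹)).mp ⟨hktS, h⟩
          have h3 : k⁻¹ * (k * t * k⁻¹) * k⁻¹⁻¹ = t := by group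
          rw [h3] at h2
          exact htR h2.2
        have hw : t⁻¹ * (k * t * k⁻¹) ∈ (S : Subgroup H) ⊓ R :=
          ⟨(S : Subgroup H).mul_mem ((S : Subgroup H).inv_mem htS) hktS, F2 t htS _ hktS htR hktR⟩
        obtain ⟨j, hj⟩ := S.isPGroup' ⟨_, hw.1⟩
        have hj' : (t⁻¹ * (k * t * k⁻¹)) ^ 2 ^ j = 1 := by
          simpa using congrArg Subtype.val hj
        have hc := hcent _ hw
        exact Cfsg.Agent.Lib.helper11.commute_of_odd_of_commutator_fixed hodd hj' (by
          calc k * (t⁻¹ * (k * t * k⁻¹)) = k * (t⁻¹ * (k * t * k⁻¹)) * k⁻¹ * k := by group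
            _ = t⁻¹ * (k * t * k⁻¹) * k := by rw [hc])
      exact htriv k hodd hkz hkt

/-- The forward direction. -/
theorem dir_fwd {G : Type*} [Group G] [Finite G] (P : Sylow 2 G)
    (hR : ∀ H : Subgroup G, (∀ S : Sylow 2 ↥H, (S : Subgroup ↥H).Normal) →
        (∀ (S : Sylow 2 ↥H) [(S : Subgroup ↥H).Normal], IsCyclic (↥H ⧸ (S : Subgroup ↥H))) →
        IsCyclic H ∨ (∃ n : ℕ, Nonempty (H ≃* DihedralGroup (2 ^ n))) ∨
          Nonempty (H ≃* alternatingGroup (Fin 4))) :
    (IsCyclic P ∨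
      ((∃ n : ℕ, 1 ≤ n ∧ Nonempty ((P : Subgroup G) ≃* DihedralGroup (2 ^ n))) ∧
        ∀ K : Subgroup G, K ≤ P → Nat.card K = 4 → (∀ k ∈ K, k ^ 2 = 1) →
          Subgroup.centralizer (K : Set G) = K)) := by
  have hSP : ∀ S : Sylow 2 ↥(P : Subgroup G), (S : Subgroup ↥(P : Subgroup G)) = ⊤ := by
    intro S
    have hT : IsPGroup 2 ↥(⊤ : Subgroup ↥(P : Subgroup G)) := P.isPGroup'.to_subgroup ⊤
    exact (S.is_maximal' hT le_top).symm
  have h1 : ∀ S : Sylow 2 ↥(P : Subgroup G), (S : Subgroup ↥(P : Subgroup G)).Normal := by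
    intro S
    rw [hSP S]
    infer_instance
  have h2 : ∀ (S : Sylow 2 ↥(P : Subgroup G)) [(S : Subgroup ↥(P : Subgroup G)).Normal],
      IsCyclic (↥(P : Subgroup G) ⧸ (S : Subgroup ↥(P : Subgroup G))) := by
    intro S _
    have : Subsingleton (↥(P : Subgroup G) ⧸ (S : Subgroup ↥(P : Subgroup G))) := by
      constructor
      intro a b
      obtain ⟨a, rfl⟩ := QuotientGroup.mk_surjective a
      obtain ⟨b, rfl⟩ := QuotientGroup.mk_surjective b
      rw [QuotientGroup.eq, hSP S]
      exact Subgroup.mem_top _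
    infer_instance
  obtain ⟨k, hk⟩ := IsPGroup.iff_card.mp P.isPGroup'
  rcases hR _ h1 h2 with hc | ⟨n, ⟨e⟩⟩ | ⟨⟨e⟩⟩
  · left; exact hc
  · by_cases hn : n = 0
    · left
      subst hn
      have hc1 : Nat.card (P : Subgroup G) = 2 := by
        rw [Nat.card_congr e.toEquiv, DihedralGroup.nat_card]; rfl
      haveI : Fact (Nat.Prime 2) := ⟨Nat.prime_two⟩
      exact isCyclic_of_prime_card hc1
    · right
      refine ⟨⟨n, Nat.one_le_iff_ne_zero.mpr hn, ⟨e⟩⟩, ?_⟩
      intro K hKP hKcard hK2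
      have hKinv : ∀ a ∈ K, a⁻¹ = a := by
        intro a ha
        have := hK2 a ha
        rw [pow_two] at this
        exact inv_eq_of_mul_eq_one_left this
      have hKcomm : ∀ a ∈ K, ∀ b ∈ K, a * b = b * a := by
        intro a ha b hb
        have h3 := hKinv (a * b) (K.mul_mem ha hb)
        rw [mul_inv_rev, hKinv a ha, hKinv b hb] at h3
        exact h3.symm
      apply le_antisymm
      · intro c hc
        have hcN : c ∈ Subgroup.normalizer (K : Set G) :=
          Subgroup.centralizer_le_normalizer _ hc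
        obtain ⟨g1, g2⟩ := Cfsg.Agent.S4082.hyp_of_normalizes K (P.isPGroup'.to_le hKP) c hcN
        have hKH : K ≤ K ⊔ Subgroup.zpowers c := le_sup_left
        have hcH : c ∈ K ⊔ Subgroup.zpowers c :=
          (le_sup_right : Subgroup.zpowers c ≤ _) (Subgroup.mem_zpowers c)
        have hcu : ∀ w ∈ K, ∀ i : ℤ, c ^ i * w = w * c ^ i := by
          intro w hw i
          have h3 : c ^ i ∈ Subgroup.centralizer (K : Set G) := Subgroup.zpow_mem _ hc i
          exact (Subgroup.mem_centralizer_iff.mp h3 w hw).symm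
        have hHcomm : ∀ a b : ↥(K ⊔ Subgroup.zpowers c), a * b = b * a := by
          intro a b
          obtain ⟨u, hu, i, hui⟩ := Cfsg.Agent.S4082.mem_sup_zpowers hcN a.2
          obtain ⟨v, hv, j, hvj⟩ := Cfsg.Agent.S4082.mem_sup_zpowers hcN b.2
          apply Subtype.ext
          show (a : G) * b = b * a
          rw [hui, hvj]
          calc u * c ^ i * (v * c ^ j) = u * (c ^ i * v) * c ^ j := by group
            _ = u * (v * c ^ i) * c ^ j := by rw [hcu v hv i]
            _ = (u * v) * (c ^ i * c ^ j) := by group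
            _ = (v * u) * (c ^ j * c ^ i) := by
                rw [hKcomm u hu v hv, ← zpow_add, ← zpow_add, add_comm]
            _ = v * (u * c ^ j) * c ^ i := by group
            _ = v * (c ^ j * u) * c ^ i := by rw [hcu u hu j]
            _ = v * c ^ j * (u * c ^ i) := by group
        rcases hR _ g1 g2 with hcyc | ⟨m, ⟨e'⟩⟩ | ⟨⟨e'⟩⟩
        · exfalso
          have hKc : IsCyclic K := isCyclic_of_injective (Subgroup.inclusion hKH)
            (Subgroup.inclusion_injective hKH)
          obtain ⟨g, hg⟩ := IsCyclic.exists_generator (α := K)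
          have h4 : orderOf g = 4 := by
            rw [orderOf_eq_card_of_forall_mem_zpowers hg, hKcard]
          have h5 : g ^ 2 = 1 := Subtype.ext (by simpa using hK2 g g.2)
          have h6 := orderOf_dvd_of_pow_eq_one h5
          rw [h4] at h6
          omega
        · have hD : IsMulCommutative (DihedralGroup (2 ^ m)) := by
            refine ⟨⟨fun a b => ?_⟩⟩
            have h3 := hHcomm (e'.symm a) (e'.symm b)
            have h4 := congrArg e' h3
            simpa using h4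
          have h3 : 2 ^ m = 1 ∨ 2 ^ m = 2 := DihedralGroup.commutative_iff.mp hD
          have hcard : Nat.card ↥(K ⊔ Subgroup.zpowers c) ≤ 4 := by
            rw [Nat.card_congr e'.toEquiv, DihedralGroup.nat_card]
            rcases h3 with h | h <;> rw [h] <;> norm_num
          have h4 : K = K ⊔ Subgroup.zpowers c := by
            apply Subgroup.eq_of_le_of_card_ge hKH
            rw [hKcard]
            exact hcard
          rw [h4]
          exact hcH
        · exfalso
          have hA : IsMulCommutative (alternatingGroup (Fin 4)) := by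
            refine ⟨⟨fun a b => ?_⟩⟩
            have h3 := hHcomm (e'.symm a) (e'.symm b)
            have h4 := congrArg e' h3
            simpa using h4
          have h3 := alternatingGroup.isMulCommutative_iff_card_le_three.mp hA
          rw [Nat.card_fin] at h3
          omega
      · intro a ha
        rw [Subgroup.mem_centralizer_iff]
        intro b hb
        exact hKcomm b hb a ha
  · exfalso
    have hc1 : Nat.card (P : Subgroup G) = 12 := by
      rw [Nat.card_congr e.toEquiv, nat_card_alternatingGroup, Nat.card_fin]; rfl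
    rw [hk] at hc1
    have h3 : 3 ∣ 2 ^ k := by rw [hc1]; norm_num
    have h4 := Nat.Prime.dvd_of_dvd_pow Nat.prime_three h3
    omega

/-- The reverse direction. -/
theorem dir_rev {G : Type*} [Group G] [Finite G] (P : Sylow 2 G)
    (h : IsCyclic P ∨
      ((∃ n : ℕ, 1 ≤ n ∧ Nonempty ((P : Subgroup G) ≃* DihedralGroup (2 ^ n))) ∧
        ∀ K : Subgroup G, K ≤ P → Nat.card K = 4 → (∀ k ∈ K, k ^ 2 = 1) →
          Subgroup.centralizer (K : Set G) = K))
    (H : Subgroup G) (hSn : ∀ S : Sylow 2 ↥H, (S : Subgroup ↥H).Normal)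
    (hSc : ∀ (S : Sylow 2 ↥H) [(S : Subgroup ↥H).Normal], IsCyclic (↥H ⧸ (S : Subgroup ↥H))) :
    IsCyclic H ∨ (∃ n : ℕ, Nonempty (H ≃* DihedralGroup (2 ^ n))) ∨
      Nonempty (H ≃* alternatingGroup (Fin 4)) := by
  obtain ⟨S⟩ : Nonempty (Sylow 2 ↥H) := inferInstance
  haveI := hSn S
  have hq := hSc S
  have hS' : IsPGroup 2 ((S : Subgroup ↥H).map H.subtype) := S.isPGroup'.map _
  obtain ⟨P', hP'⟩ := hS'.exists_le_sylow
  obtain ⟨g, hg⟩ := MulAction.exists_smul_eq G P P'
  let ψ : ↥H →* G := ((MulAut.conj g⁻¹).toMonoidHom).comp H.subtype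
  have hψ : Function.Injective ψ :=
    (MulEquiv.injective (MulAut.conj g⁻¹)).comp Subtype.val_injective
  have hSP : ∀ s ∈ (S : Subgroup ↥H), ψ s ∈ (P : Subgroup G) := by
    intro s hs
    have h1 : (s : G) ∈ (P' : Subgroup G) := hP' (Subgroup.mem_map_of_mem _ hs)
    rw [← hg, Sylow.coe_subgroup_smul, Cfsg.Agent.Lib.helper1.mem_conj_smul] at h1
    show g⁻¹ * (s : G) * g⁻¹⁻¹ ∈ (P : Subgroup G)
    rw [inv_inv]
    exact h1
  rcases h with hPc | ⟨⟨n, hn, ⟨e⟩⟩, hK⟩
  · left
    have hSc' : IsCyclic (S : Subgroup ↥H) := by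
      let φ : (S : Subgroup ↥H) →* (P : Subgroup G) :=
        (ψ.comp (S : Subgroup ↥H).subtype).codRestrict (P : Subgroup G) (fun s => hSP s.1 s.2)
      exact isCyclic_of_injective φ (by
        intro a b hab
        apply Subtype.ext
        apply hψ
        exact congrArg Subtype.val hab)
    exact cyclic_of_cyclic_sylow2 S hSc' hq
  · let R : Subgroup ↥H := (Cfsg.Agent.Lib.helper11.rotOf (P : Subgroup G) e).comap ψ
    have hRc : IsCyclic R := by
      let φ : R →* (Cfsg.Agent.Lib.helper11.rotOf (P : Subgroup G) e) :=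
        (ψ.comp R.subtype).codRestrict _ (fun r => r.2)
      exact isCyclic_of_injective φ (by
        intro a b hab
        apply Subtype.ext
        apply hψ
        exact congrArg Subtype.val hab)
    refine main_abs S hq R hRc ?_ ?_ ?_
    · intro q hq hqR
      have h3 := Cfsg.Agent.Lib.helper11.mul_self_of_not_mem_rotOf (P : Subgroup G) e
        (hSP q hq) hqR
      apply hψ
      rw [map_mul, h3, map_one]
    · intro a ha b hb haR hbR
      have h3 := Cfsg.Agent.Lib.helper11.inv_mul_mem_rotOf (P : Subgroup G) e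
        (hSP a ha) (hSP b hb) haR hbR
      show ψ (a⁻¹ * b) ∈ Cfsg.Agent.Lib.helper11.rotOf (P : Subgroup G) e
      rw [map_mul, map_inv]
      exact h3
    · intro K hKS hKcard hK2 c hc
      have h1 : K.map ψ ≤ P := by
        rintro _ ⟨k, hk, rfl⟩
        exact hSP k (hKS hk)
      have h2 : Nat.card (K.map ψ) = 4 := by
        rw [← hKcard]
        exact Nat.card_congr (K.equivMapOfInjective ψ hψ).toEquiv.symm
      have h3 : ∀ k ∈ K.map ψ, k ^ 2 = 1 := by
        rintro _ ⟨k, hk, rfl⟩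
        rw [← map_pow, hK2 k hk, map_one]
      have h4 := hK _ h1 h2 h3
      have h5 : ψ c ∈ Subgroup.centralizer ((K.map ψ : Subgroup G) : Set G) := by
        rw [Subgroup.mem_centralizer_iff]
        rintro _ ⟨k, hk, rfl⟩
        rw [← map_mul, ← map_mul, Subgroup.mem_centralizer_iff.mp hc k hk]
      rw [h4] at h5
      obtain ⟨k, hk, hkc⟩ := h5
      rw [← hψ hkc]
      exact hk

/-- Let G be a finite group with Sylow 2-subgroup P. Every subgroup H of G whose Sylow 2-subgroup is normal in H with cyclic quotient is cyclic, dihedral of 2-power order, or isomorphic to the alternating group of degree 4, if and only if either P is cyclic, or P is dihedral (of order at least 4) and every elementary abelian subgroup K of order 4 of P satisfies C_G(K) = K. -/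
theorem result {G : Type*} [Group G] [Finite G] (P : Sylow 2 G) :
    (∀ H : Subgroup G, (∀ S : Sylow 2 ↥H, (S : Subgroup ↥H).Normal) →
        (∀ (S : Sylow 2 ↥H) [(S : Subgroup ↥H).Normal], IsCyclic (↥H ⧸ (S : Subgroup ↥H))) →
        IsCyclic H ∨ (∃ n : ℕ, Nonempty (H ≃* DihedralGroup (2 ^ n))) ∨ Nonempty (H ≃* alternatingGroup (Fin 4))) ↔
    (IsCyclic P ∨
      ((∃ n : ℕ, 1 ≤ n ∧ Nonempty ((P : Subgroup G) ≃* DihedralGroup (2 ^ n))) ∧
        ∀ K : Subgroup G, K ≤ P → Nat.card K = 4 → (∀ k ∈ K, k ^ 2 = 1) → Subgroup.centralizer (K : Set G) = K)) := by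
  constructor
  · intro hR
    exact dir_fwd P hR
  · intro h H hSn hSc
    exact dir_rev P h H hSn hSc

end Cfsg.Agent.S4083
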