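import Mathlib
import Cfsg.Statements.S4084
-- import your own Cfsg.Agent.* helpers here

set_option autoImplicit false
open Cfsg

namespace Cfsg.Agent.S4084

theorem aux {G H : Type*} [Group G] [Finite G] [Group H] [Finite H] (e : G ≃ H)
    (he : ∀ x y : G, Commute x y ↔ Commute (e x) (e y))
    {p q : ℕ} (hp : p.Prime) (hq : q.Prime) (hpq : p ≠ q) :
    (∃ g : G, orderOf g = p * q) → (∃ h : H, orderOf h = p * q) := by
  rintro ⟨g, hg⟩
  have : Fact p.Prime := ⟨hp⟩
  have : Fact q.Prime := ⟨hq⟩
  -- a maximal abelian subgroup containing `g`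
  let pr : Subgroup G → Prop := fun A => g ∈ A ∧ ∀ a ∈ A, ∀ b ∈ A, a * b = b * a
  have h0 : pr (Subgroup.zpowers g) := by
    refine ⟨Subgroup.mem_zpowers g, ?_⟩
    intro a ha b hb
    obtain ⟨i, rfl⟩ := Subgroup.mem_zpowers_iff.mp ha
    obtain ⟨j, rfl⟩ := Subgroup.mem_zpowers_iff.mp hb
    rw [← zpow_add, ← zpow_add, add_comm]
  obtain ⟨A, -, hA⟩ := Finite.exists_le_maximal h0
  obtain ⟨⟨hgA, hAcomm⟩, hAmax⟩ := hA
  -- the subgroup generated by the image of `A`
  have hBcomm' : ∀ x ∈ e '' (A : Set G), ∀ y ∈ e '' (A : Set G), x * y = y * x := by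
    rintro _ ⟨a, ha, rfl⟩ _ ⟨b, hb, rfl⟩
    exact ((he a b).mp (hAcomm a ha b hb)).eq
  have hBc : IsMulCommutative (Subgroup.closure (e '' (A : Set G))) :=
    Subgroup.isMulCommutative_closure hBcomm'
  set B : Subgroup H := Subgroup.closure (e '' (A : Set G)) with hB
  have hBcomm : ∀ x ∈ B, ∀ y ∈ B, x * y = y * x := fun x hx y hy =>
    setLike_mul_comm hx hy
  have hAB : ∀ a ∈ A, e a ∈ B := fun a ha => Subgroup.subset_closure ⟨a, ha, rfl⟩
  -- the preimage of `B` lies in `A` by maximality
  have hBA : ∀ b ∈ B, e.symm b ∈ A := by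
    intro b hb
    have hA'comm' : ∀ x ∈ e.symm '' (B : Set H), ∀ y ∈ e.symm '' (B : Set H), x * y = y * x := by
      rintro _ ⟨b₁, hb₁, rfl⟩ _ ⟨b₂, hb₂, rfl⟩
      have h1 : Commute (e (e.symm b₁)) (e (e.symm b₂)) := by
        rw [Equiv.apply_symm_apply, Equiv.apply_symm_apply]
        exact hBcomm b₁ hb₁ b₂ hb₂
      exact ((he _ _).mpr h1).eq
    have hA'c : IsMulCommutative (Subgroup.closure (e.symm '' (B : Set H))) :=
      Subgroup.isMulCommutative_closure hA'comm'
    have hle : A ≤ Subgroup.closure (e.symm '' (B : Set H)) := by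
      intro a ha
      exact Subgroup.subset_closure ⟨e a, hAB a ha, by simp⟩
    have hpr : pr (Subgroup.closure (e.symm '' (B : Set H))) :=
      ⟨hle hgA, fun x hx y hy => setLike_mul_comm hx hy⟩
    exact hAmax hpr hle (Subgroup.subset_closure ⟨b, hb, rfl⟩)
  -- so `A` and `B` have the same cardinality
  have hcard : Nat.card A = Nat.card B :=
    Nat.card_congr
      { toFun := fun a => ⟨e a, hAB a a.2⟩
        invFun := fun b => ⟨e.symm b, hBA b b.2⟩
        left_inv := fun a => by simp
        right_inv := fun b => by simp }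
  have hdvd : p * q ∣ Nat.card B := by
    rw [← hcard, ← hg]
    exact Subgroup.orderOf_dvd_natCard A hgA
  obtain ⟨u, hu⟩ := exists_prime_orderOf_dvd_card' (G := B) p (dvd_of_mul_right_dvd hdvd)
  obtain ⟨v, hv⟩ := exists_prime_orderOf_dvd_card' (G := B) q (dvd_of_mul_left_dvd hdvd)
  have huv : Commute u v := by
    apply Subtype.ext
    simpa using hBcomm u u.2 v v.2
  refine ⟨((u * v : B) : H), ?_⟩
  rw [Subgroup.orderOf_coe, huv.orderOf_mul_eq_mul_orderOf_of_coprime, hu, hv]
  rw [hu, hv]
  exact (Nat.coprime_primes hp hq).mpr hpq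

/-- Let G and H be finite groups whose commuting graphs are isomorphic: there is a bijection e : G → H with x, y commuting exactly when e(x), e(y) commute. Then G and H have the same prime graph: for distinct primes p, q, G has an element of order pq if and only if H does (and #G = #H, so the prime divisors agree). -/
theorem result {G H : Type*} [Group G] [Finite G] [Group H] [Finite H] (e : G ≃ H)
    (he : ∀ x y : G, Commute x y ↔ Commute (e x) (e y))
    {p q : ℕ} (hp : p.Prime) (hq : q.Prime) (hpq : p ≠ q) :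
    (∃ g : G, orderOf g = p * q) ↔ (∃ h : H, orderOf h = p * q) := by
  refine ⟨aux e he hp hq hpq, aux e.symm ?_ hp hq hpq⟩
  intro x y
  have := he (e.symm x) (e.symm y)
  simpa using this.symm

end Cfsg.Agent.S4084
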