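import Mathlib
import Cfsg.Statements.S4086
-- import your own Cfsg.Agent.* helpers here

set_option autoImplicit false
open Cfsg

namespace Cfsg.Agent.S4086

/-- If `gcd (orderOf g) j ∣ i` then `g ^ i` is a power of `g ^ j`. -/
theorem pow_mem_zpowers_pow_of_gcd_dvd {G : Type*} [Group G] (g : G) (i j : ℕ)
    (h : Nat.gcd (orderOf g) j ∣ i) : g ^ i ∈ Subgroup.zpowers (g ^ j) := by
  have hbez := Nat.gcd_eq_gcd_ab (orderOf g) j
  have h1 : g ^ (Nat.gcd (orderOf g) j) = (g ^ j) ^ (Nat.gcdB (orderOf g) j) := by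
    rw [← zpow_natCast g (Nat.gcd (orderOf g) j), hbez, zpow_add, zpow_mul, zpow_natCast,
      pow_orderOf_eq_one, one_zpow, one_mul, zpow_mul, zpow_natCast]
  obtain ⟨c, rfl⟩ := h
  rw [pow_mul, h1]
  exact Subgroup.pow_mem _ (Subgroup.zpow_mem _ (Subgroup.mem_zpowers _) _) _

/-- For a finite group G the following are equivalent: every non-identity element has prime-power order; whenever two elements generate a cyclic subgroup, one of them is a power of the other (the enhanced power graph of G coincides with its power graph). -/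
theorem result {G : Type*} [Group G] [Finite G] :
    (∀ g : G, g ≠ 1 → IsPrimePow (orderOf g)) ↔
    (∀ x y : G, IsCyclic ↥(Subgroup.closure ({x, y} : Set G)) → (x ∈ Subgroup.zpowers y ∨ y ∈ Subgroup.zpowers x)) := by
  constructor
  · intro h x y hcyc
    obtain ⟨c, hc⟩ := hcyc.exists_generator
    have hxm : x ∈ Subgroup.closure ({x, y} : Set G) := Subgroup.subset_closure (by simp)
    have hym : y ∈ Subgroup.closure ({x, y} : Set G) := Subgroup.subset_closure (by simp)
    -- `x` and `y` are powers of `g := c`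
    have key : ∀ z : G, z ∈ Subgroup.closure ({x, y} : Set G) → ∃ i : ℕ, z = (c : G) ^ i := by
      intro z hz
      have h1 := hc ⟨z, hz⟩
      rw [← mem_powers_iff_mem_zpowers] at h1
      obtain ⟨i, hi⟩ := h1
      refine ⟨i, ?_⟩
      have := congrArg Subtype.val hi
      simpa using this.symm
    obtain ⟨i, hi⟩ := key x hxm
    obtain ⟨j, hj⟩ := key y hym
    clear key
    generalize (c : G) = g at hi hj
    by_cases hg1 : g = 1
    · left
      rw [hi, hg1, one_pow]
      exact Subgroup.one_mem _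
    obtain ⟨p, k, hp, hk, hpk⟩ := h g hg1
    have hp' : p.Prime := Nat.prime_iff.mpr hp
    obtain ⟨a, ha, hga⟩ := (Nat.dvd_prime_pow hp').mp (hpk ▸ Nat.gcd_dvd_left (orderOf g) i)
    obtain ⟨b, hb, hgb⟩ := (Nat.dvd_prime_pow hp').mp (hpk ▸ Nat.gcd_dvd_left (orderOf g) j)
    rcases le_total a b with hab | hab
    · -- gcd(n, i) ∣ gcd(n, j) ∣ j
      right
      rw [hi, hj]
      apply pow_mem_zpowers_pow_of_gcd_dvd
      rw [← hpk, hga]
      exact (pow_dvd_pow p hab).trans (hgb ▸ Nat.gcd_dvd_right (p ^ k) j)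
    · left
      rw [hi, hj]
      apply pow_mem_zpowers_pow_of_gcd_dvd
      rw [← hpk, hgb]
      exact (pow_dvd_pow p hab).trans (hga ▸ Nat.gcd_dvd_right (p ^ k) i)
  · intro h g hg
    by_contra hnpp
    have hn0 : orderOf g ≠ 0 := (orderOf_pos g).ne'
    have hn1 : orderOf g ≠ 1 := fun h1 => hg (orderOf_eq_one_iff.mp h1)
    have hp : (orderOf g).minFac.Prime := Nat.minFac_prime hn1
    set p := (orderOf g).minFac with hpdef
    obtain ⟨k, m, hm, hn⟩ := Nat.exists_eq_pow_mul_and_not_dvd hn0 p hp.ne_one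
    have hk : k ≠ 0 := by
      rintro rfl
      apply hm
      have : p ∣ orderOf g := Nat.minFac_dvd _
      rwa [hn, pow_zero, one_mul] at this
    have hm1 : m ≠ 1 := by
      rintro rfl
      apply hnpp
      rw [hn, mul_one]
      exact ⟨p, k, Nat.prime_iff.mp hp, Nat.pos_of_ne_zero hk, rfl⟩
    have hm0 : m ≠ 0 := by
      rintro rfl
      exact hm (dvd_zero p)
    have hcyc : IsCyclic ↥(Subgroup.closure ({g ^ (p ^ k), g ^ m} : Set G)) := by
      apply Subgroup.isCyclic_of_le (H' := Subgroup.zpowers g)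
      rw [Subgroup.closure_le]
      rintro z (rfl | rfl)
      · exact Subgroup.pow_mem _ (Subgroup.mem_zpowers g) _
      · exact Subgroup.pow_mem _ (Subgroup.mem_zpowers g) _
    have ho1 : orderOf (g ^ (p ^ k)) = m := by
      rw [orderOf_pow, hn, Nat.gcd_eq_right (Dvd.intro _ rfl),
        Nat.mul_div_cancel_left _ (pow_pos hp.pos k)]
    have ho2 : orderOf (g ^ m) = p ^ k := by
      rw [orderOf_pow, hn, Nat.gcd_eq_right (Dvd.intro_left _ rfl),
        Nat.mul_div_cancel _ (Nat.pos_of_ne_zero hm0)]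
    have hcop : Nat.Coprime m (p ^ k) :=
      Nat.Coprime.pow_right k ((Nat.Prime.coprime_iff_not_dvd hp).mpr hm).symm
    rcases h _ _ hcyc with h1 | h1
    · have := orderOf_dvd_of_mem_zpowers h1
      rw [ho1, ho2] at this
      exact hm1 (Nat.Coprime.eq_one_of_dvd hcop this)
    · have := orderOf_dvd_of_mem_zpowers h1
      rw [ho1, ho2] at this
      exact hm ((dvd_pow_self p hk).trans this)

end Cfsg.Agent.S4086
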