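import Cfsg.Statements.S4089
import Mathlib
import Cfsg.Agent.Lib.helper71.Subnormalizer

set_option autoImplicit false
open Cfsg

namespace Cfsg.Agent.S4089

/-- Let G be a finite group, p a prime and H a p-subgroup of G. Then the set of elements g of G such that H is subnormal in the subgroup generated by H and g is the union of the normalizers N_G(R) over the subgroups R of G containing H with R = O_p(N_G(R)); and this set does not change when H is replaced by the intersection of all Sylow p-subgroups of G containing H. -/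
theorem result {G : Type*} [Group G] [Finite G] (p : ℕ) [Fact p.Prime]
    (H : Subgroup G) (hH : IsPGroup p H) :
    {g : G | ((H).subgroupOf (H ⊔ Subgroup.zpowers g)).IsSubnormal} =
      {g : G | ∃ R : Subgroup G, H ≤ R ∧ (Cfsg.pCore p (Subgroup.normalizer (R : Set G))).map (Subgroup.normalizer (R : Set G)).subtype = R ∧ g ∈ Subgroup.normalizer (R : Set G)} ∧
    ∀ g : G, (((H).subgroupOf (H ⊔ Subgroup.zpowers g)).IsSubnormal ↔
      (((sInf {K : Subgroup G | ∃ Q : Sylow p G, H ≤ (Q : Subgroup G) ∧ K = (Q : Subgroup G)})).subgroupOf ((sInf {K : Subgroup G | ∃ Q : Sylow p G, H ≤ (Q : Subgroup G) ∧ K = (Q : Subgroup G)}) ⊔ Subgroup.zpowers g)).IsSubnormal) := by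
  refine ⟨?_, ?_⟩
  · ext g
    simp only [Set.mem_setOf_eq]
    rw [Cfsg.Agent.Lib.helper71.subnormal_sup_zpowers_iff p H hH g]
    constructor
    · rintro ⟨R₁, hR₁, hHR₁, hg⟩
      obtain ⟨R, hR₁R, hrad, hgR⟩ := Cfsg.Agent.Lib.helper71.exists_radical_ge p R₁ hR₁ g hg
      exact ⟨R, hHR₁.trans hR₁R, hrad, hgR⟩
    · rintro ⟨R, hHR, hrad, hgR⟩
      refine ⟨R, ?_, hHR, hgR⟩
      rw [← hrad]
      exact Cfsg.Agent.Lib.helper27.map_pCore_isPGroup p _
  · intro g
    have hHs : H ≤ sInf {K : Subgroup G | ∃ Q : Sylow p G, H ≤ (Q : Subgroup G) ∧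
        K = (Q : Subgroup G)} := by
      apply le_sInf
      rintro K ⟨Q, hQ, rfl⟩
      exact hQ
    have hHsp : IsPGroup p ↥(sInf {K : Subgroup G | ∃ Q : Sylow p G, H ≤ (Q : Subgroup G) ∧
        K = (Q : Subgroup G)}) := by
      obtain ⟨Q, hQ⟩ := hH.exists_le_sylow
      exact Q.isPGroup'.to_le (sInf_le ⟨Q, hQ, rfl⟩)
    rw [Cfsg.Agent.Lib.helper71.subnormal_sup_zpowers_iff p H hH g,
      Cfsg.Agent.Lib.helper71.subnormal_sup_zpowers_iff p _ hHsp g]
    constructor
    · rintro ⟨R₁, hR₁, hHR₁, hg⟩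
      obtain ⟨R, hR₁R, hrad, hgR⟩ := Cfsg.Agent.Lib.helper71.exists_radical_ge p R₁ hR₁ g hg
      refine ⟨R, ?_, ?_, hgR⟩
      · rw [← hrad]
        exact Cfsg.Agent.Lib.helper27.map_pCore_isPGroup p _
      · have h1 := Cfsg.Agent.Lib.helper71.sInf_sylow_eq_of_radical p R hrad
        have h2 : sInf {K : Subgroup G | ∃ Q : Sylow p G, H ≤ (Q : Subgroup G) ∧
            K = (Q : Subgroup G)} ≤ sInf {K : Subgroup G | ∃ Q : Sylow p G,
            R ≤ (Q : Subgroup G) ∧ K = (Q : Subgroup G)} := by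
          apply sInf_le_sInf
          rintro K ⟨Q, hQ, rfl⟩
          exact ⟨Q, (hHR₁.trans hR₁R).trans hQ, rfl⟩
        rw [h1] at h2
        exact h2
    · rintro ⟨R, hR, hHsR, hg⟩
      exact ⟨R, hR, hHs.trans hHsR, hg⟩

end Cfsg.Agent.S4089
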