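import Cfsg.Statements.S4092

set_option autoImplicit false
open Cfsg

namespace Cfsg.Agent.S4092

theorem result {G : Type*} [Group G] [Finite G] (p : ℕ) [Fact p.Prime]
    (P : Sylow p G) (hP : ¬ (P : Subgroup G).Normal) :
    p * Nat.card (P : Subgroup G) ≤ Nat.card {g : G // ∃ k : ℕ, orderOf g = p ^ k} := by
  classical
  have hp : p.Prime := Fact.out
  -- two distinct Sylows
  have hex : ∃ Q : Sylow p G, Q ≠ P := by
    by_contra hcon
    push Not at hcon
    apply hP
    constructor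
    intro n hn g
    have h1 : g • P = P := hcon _
    have h2 : g * n * g⁻¹ ∈ ((g • P : Sylow p G) : Subgroup G) := by
      rw [Sylow.coe_subgroup_smul]
      exact ⟨n, hn, rfl⟩
    rw [h1] at h2; exact h2
  obtain ⟨Q, hQ⟩ := hex
  let Pairs := {q : Sylow p G × Sylow p G // q.1 ≠ q.2}
  have : Nonempty Pairs := ⟨⟨(Q, P), hQ⟩⟩
  obtain ⟨⟨⟨T1, T2⟩, hT⟩, hmax⟩ := Finite.exists_max
    (fun q : Pairs => Nat.card ((q.1.1 : Subgroup G) ⊓ (q.1.2 : Subgroup G) : Subgroup G))
  set D : Subgroup G := (T1 : Subgroup G) ⊓ (T2 : Subgroup G) with hD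
  have hDp : IsPGroup p D := T1.2.to_le inf_le_left
  have hpair : ∀ S S' : Sylow p G, D ≤ (S : Subgroup G) → D ≤ (S' : Subgroup G) → S ≠ S' →
      (S : Subgroup G) ⊓ (S' : Subgroup G) = D := by
    intro S S' hS hS' hne
    have h1 := hmax ⟨(S, S'), hne⟩
    exact (Subgroup.eq_of_le_of_card_ge (le_inf hS hS') h1).symm
  have hcardS : ∀ S : Sylow p G, Nat.card (S : Subgroup G) = Nat.card (P : Subgroup G) :=
    fun S => by rw [Sylow.card_eq_multiplicity, Sylow.card_eq_multiplicity]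
  have hDlt : p * Nat.card D ≤ Nat.card (P : Subgroup G) := by
    have hle : D ≤ (T1 : Subgroup G) := inf_le_left
    have hne : D ≠ (T1 : Subgroup G) := by
      intro h
      have h2 : (T1 : Subgroup G) ≤ (T2 : Subgroup G) := h ▸ inf_le_right
      apply hT
      exact Sylow.ext (Subgroup.eq_of_le_of_card_ge h2 (by rw [hcardS T1, hcardS T2]))
    have hdvd : Nat.card D ∣ Nat.card (T1 : Subgroup G) := Subgroup.card_dvd_of_le hle
    obtain ⟨m, hm⟩ := hdvd
    have hT1card : Nat.card (T1 : Subgroup G) = p ^ (Nat.card G).factorization p :=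
      Sylow.card_eq_multiplicity T1
    have hmdvd : m ∣ p ^ (Nat.card G).factorization p := hT1card ▸ (Dvd.intro_left _ hm.symm)
    obtain ⟨j, hj, rfl⟩ := (Nat.dvd_prime_pow hp).mp hmdvd
    have hj0 : j ≠ 0 := by
      rintro rfl
      apply hne
      exact Subgroup.eq_of_le_of_card_ge hle (by rw [hm]; simp)
    have hpj : p ≤ p ^ j := Nat.le_self_pow hj0 p
    rw [← hcardS T1, hm, mul_comm]
    exact Nat.mul_le_mul_left _ hpj
  let F := MulAction.fixedPoints (↥D) (Sylow p G)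
  have hFmem : ∀ S : Sylow p G, S ∈ F ↔ D ≤ (S : Subgroup G) :=
    fun S => hDp.sylow_mem_fixedPoints_iff
  have hFmod : Nat.card F ≡ 1 [MOD p] :=
    ((hDp.card_modEq_card_fixedPoints (Sylow p G)).symm).trans (card_sylow_modEq_one p G)
  have hF2 : 1 < Nat.card F := by
    rw [Finite.one_lt_card_iff_nontrivial]
    exact ⟨⟨⟨T1, (hFmem T1).mpr inf_le_left⟩, ⟨T2, (hFmem T2).mpr inf_le_right⟩,
      fun h => hT (congrArg Subtype.val h)⟩⟩
  have hFp : p + 1 ≤ Nat.card F := by
    have h1 : p ∣ Nat.card F - 1 := (Nat.modEq_iff_dvd' (by omega)).mp hFmod.symm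
    have h2 := Nat.le_of_dvd (by omega) h1
    omega
  have hpel : ∀ (S : Sylow p G) (x : G), x ∈ (S : Subgroup G) → ∃ k : ℕ, orderOf x = p ^ k := by
    intro S x hx
    obtain ⟨k, hk⟩ := (IsPGroup.iff_orderOf.mp S.2) ⟨x, hx⟩
    exact ⟨k, by rw [← hk, Subgroup.orderOf_mk]⟩
  let f : ↥D ⊕ (Σ S : F, ↥(((S.1 : Subgroup G) : Set G) \ (D : Set G))) →
      {g : G // ∃ k : ℕ, orderOf g = p ^ k} :=
    Sum.elim (fun d => ⟨d.1, hpel T1 d.1 (inf_le_left (a := (T1 : Subgroup G)) d.2)⟩)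
      (fun z => ⟨z.2.1, hpel z.1.1 z.2.1 z.2.2.1⟩)
  have hf : Function.Injective f := by
    rintro (d | ⟨S, x⟩) (d' | ⟨S', x'⟩) h
    · have h0 := congrArg Subtype.val h
      have h1 : (d : G) = d' := h0
      exact congrArg Sum.inl (Subtype.ext h1)
    · have h0 := congrArg Subtype.val h
      have h1 : (d : G) = x'.1 := h0
      exact absurd (h1 ▸ d.2) x'.2.2
    · have h0 := congrArg Subtype.val h
      have h1 : x.1 = (d' : G) := h0
      exact absurd (h1 ▸ d'.2) x.2.2
    · have h0 := congrArg Subtype.val h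
      have h1 : x.1 = x'.1 := h0
      by_cases hSS : S = S'
      · subst hSS
        have : x = x' := Subtype.ext h1
        rw [this]
      · exfalso
        have hne : S.1 ≠ S'.1 := fun h => hSS (Subtype.ext h)
        have h2 := hpair S.1 S'.1 ((hFmem _).mp S.2) ((hFmem _).mp S'.2) hne
        have h3 : x.1 ∈ (S.1 : Subgroup G) ⊓ (S'.1 : Subgroup G) := ⟨x.2.1, h1 ▸ x'.2.1⟩
        rw [h2] at h3
        exact x.2.2 h3
  have hcard := Nat.card_le_card_of_injective f hf
  have := Fintype.ofFinite F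
  rw [Nat.card_sum, Nat.card_sigma] at hcard
  have hfib : ∀ S : F, Nat.card ↥(((S.1 : Subgroup G) : Set G) \ (D : Set G)) =
      Nat.card (P : Subgroup G) - Nat.card D := by
    intro S
    have hsub : (D : Set G) ⊆ ((S.1 : Subgroup G) : Set G) := (hFmem _).mp S.2
    rw [Nat.card_coe_set_eq, Set.ncard_sdiff hsub, ← Nat.card_coe_set_eq,
      ← Nat.card_coe_set_eq]
    exact congrArg (· - _) (hcardS S.1)
  simp_rw [hfib] at hcard
  rw [Finset.sum_const, Finset.card_univ, smul_eq_mul, ← Nat.card_eq_fintype_card] at hcard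
  refine le_trans ?_ hcard
  have hdle : Nat.card D ≤ Nat.card (P : Subgroup G) :=
    le_trans (Nat.le_mul_of_pos_left _ hp.pos) hDlt
  obtain ⟨e, he⟩ := Nat.exists_eq_add_of_le hdle
  rw [he, Nat.add_sub_cancel_left]
  rw [he] at hDlt
  have h5 : (p + 1) * e ≤ Nat.card F * e := Nat.mul_le_mul_right _ hFp
  nlinarith

end Cfsg.Agent.S4092
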