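import Cfsg.Statements.S4093

set_option autoImplicit false
open Cfsg
open scoped BigOperators

namespace Cfsg.Agent.S4093

open scoped Pointwise

lemma pelt_of_mem {G : Type*} [Group G] {p : ℕ} [Fact p.Prime] {Q : Subgroup G} (hQ : IsPGroup p Q)
    {x : G} (hx : x ∈ Q) : ∃ k : ℕ, orderOf x = p ^ k := by
  obtain ⟨k, hk⟩ := IsPGroup.iff_orderOf.mp hQ ⟨x, hx⟩
  exact ⟨k, by rwa [Subgroup.orderOf_mk] at hk⟩

lemma orderOf_conj' {G : Type*} [Group G] (g x : G) : orderOf (g * x * g⁻¹) = orderOf x := by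
  have := orderOf_injective (MulAut.conj g).toMonoidHom (MulAut.conj g).injective x
  simpa [MulAut.conj_apply] using this

/-- every `p`-element lies in a conjugate of a given Sylow `p`-subgroup -/
lemma exists_conj_mem_sylow {G : Type*} [Group G] [Finite G] {p : ℕ} [Fact p.Prime] (P : Sylow p G)
    (u : G) (hu : ∃ k : ℕ, orderOf u = p ^ k) : ∃ g y : G, y ∈ P ∧ g * y * g⁻¹ = u := by
  obtain ⟨k, hk⟩ := hu
  have hZ : IsPGroup p (Subgroup.zpowers u) := by
    apply IsPGroup.of_card (n := k)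
    rw [Nat.card_zpowers, hk]
  obtain ⟨Q, hQ⟩ := hZ.exists_le_sylow
  obtain ⟨g, hg⟩ := MulAction.exists_smul_eq G P Q
  have h1 : u ∈ (Q : Subgroup G) := hQ (Subgroup.mem_zpowers u)
  rw [← hg, Sylow.coe_subgroup_smul, Subgroup.mem_pointwise_smul_iff_inv_smul_mem] at h1
  have h2 : g⁻¹ * u * g ∈ (P : Subgroup G) := by
    simpa [MulAut.smul_def, MulAut.conj_apply] using h1
  exact ⟨g, g⁻¹ * u * g, h2, by group⟩

/-- the size of the `N`-conjugacy orbit of `x` -/
lemma card_orbit {G : Type*} [Group G] [Finite G] (N : Subgroup G) (x : G) :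
    Nat.card {u : G | ∃ n ∈ N, u = n * x * n⁻¹} =
      Nat.card N / Nat.card ↥(N ⊓ Subgroup.centralizer ({x} : Set G)) := by
  let act : MulAction N G := MulAction.compHom G ((MulAut.conj (G := G)).comp N.subtype)
  have hsmul : ∀ (n : N) (y : G), n • y = (n : G) * y * (n : G)⁻¹ := fun n y => rfl
  have horb : {u : G | ∃ n ∈ N, u = n * x * n⁻¹} = MulAction.orbit N x := by
    ext u
    constructor
    · rintro ⟨n, hn, rfl⟩
      exact ⟨⟨n, hn⟩, rfl⟩
    · rintro ⟨n, rfl⟩
      exact ⟨n, n.2, rfl⟩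
  have hstab : MulAction.stabilizer N x = (Subgroup.centralizer ({x} : Set G)).subgroupOf N := by
    ext n
    rw [MulAction.mem_stabilizer_iff, Subgroup.mem_subgroupOf, Subgroup.mem_centralizer_iff, hsmul]
    constructor
    · intro h z hz
      rw [Set.mem_singleton_iff] at hz
      subst hz
      exact (mul_inv_eq_iff_eq_mul.mp h).symm
    · intro h
      have := h x (Set.mem_singleton x)
      rw [mul_inv_eq_iff_eq_mul]
      exact this.symm
  have h1 : Nat.card (MulAction.orbit N x) = (MulAction.stabilizer N x).index :=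
    Nat.card_congr (MulAction.orbitEquivQuotientStabilizer N x)
  have h2 : Nat.card ((Subgroup.centralizer ({x} : Set G)).subgroupOf N) =
      Nat.card ↥(N ⊓ Subgroup.centralizer ({x} : Set G)) := by
    rw [← Subgroup.card_map_of_injective N.subtype_injective, Subgroup.subgroupOf_map_subtype, inf_comm]
  rw [horb, h1, hstab, ← h2]
  have h3 := Subgroup.card_mul_index ((Subgroup.centralizer ({x} : Set G)).subgroupOf N)
  exact (Nat.div_eq_of_eq_mul_right Nat.card_pos h3.symm).symm

/-- Let G be a finite group with a normal subgroup N complementing a Sylow p-subgroup P (a normal p-complement). Then the number of elements of G of p-power order equals the sum over x ∈ P of the index of C_N(x) in N. -/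
theorem result {G : Type*} [Group G] [Finite G] (p : ℕ) [Fact p.Prime]
    (P : Sylow p G) (N : Subgroup G) [N.Normal] (hNP : N.IsComplement' (P : Subgroup G)) :
    Nat.card {g : G // ∃ k : ℕ, orderOf g = p ^ k} =
      ∑ᶠ x : (P : Subgroup G), Nat.card N / Nat.card ↥(N ⊓ Subgroup.centralizer ({(x : G)} : Set G)) := by
  classical
  have := Fintype.ofFinite (P : Subgroup G)
  rw [finsum_eq_sum_of_fintype]
  have hdisj : ∀ y : G, y ∈ N → y ∈ (P : Subgroup G) → y = 1 := by
    intro y hyN hyP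
    have h1 : y ∈ N ⊓ (P : Subgroup G) := ⟨hyN, hyP⟩
    rw [hNP.disjoint.eq_bot] at h1
    exact Subgroup.mem_bot.mp h1
  have hdec : ∀ g : G, ∃ n ∈ N, ∃ y ∈ (P : Subgroup G), g = n * y := by
    intro g
    have hg : g ∈ ((N ⊔ (P : Subgroup G) : Subgroup G) : Set G) := by
      rw [hNP.sup_eq_top]; trivial
    rw [Subgroup.normal_mul] at hg
    obtain ⟨n, hn, y, hy, rfl⟩ := Set.mem_mul.mp hg
    exact ⟨n, hn, y, hy, rfl⟩
  let ψ : (Σ x : (P : Subgroup G), {u : G | ∃ n ∈ N, u = n * (x : G) * n⁻¹}) →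
      {g : G // ∃ k : ℕ, orderOf g = p ^ k} := fun q =>
    ⟨q.2.1, by
      obtain ⟨n, hn, h⟩ := q.2.2
      rw [h, orderOf_conj']
      exact pelt_of_mem P.isPGroup' q.1.2⟩
  have hψinj : Function.Injective ψ := by
    rintro ⟨x, u, n, hn, hu⟩ ⟨x', u', n', hn', hu'⟩ h
    have h1 : u = u' := congrArg Subtype.val h
    subst h1
    have h2 : (x : G) = (x' : G) := by
      have h3 : (QuotientGroup.mk (x : G) : G ⧸ N) = QuotientGroup.mk (x' : G) := by
        have e1 : (QuotientGroup.mk (n * (x : G) * n⁻¹) : G ⧸ N) = QuotientGroup.mk (x : G) := by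
          rw [QuotientGroup.mk_mul, QuotientGroup.mk_mul, (QuotientGroup.eq_one_iff n).mpr hn,
            QuotientGroup.mk_inv, (QuotientGroup.eq_one_iff n).mpr hn]
          simp
        have e2 : (QuotientGroup.mk (n' * (x' : G) * n'⁻¹) : G ⧸ N) = QuotientGroup.mk (x' : G) := by
          rw [QuotientGroup.mk_mul, QuotientGroup.mk_mul, (QuotientGroup.eq_one_iff n').mpr hn',
            QuotientGroup.mk_inv, (QuotientGroup.eq_one_iff n').mpr hn']
          simp
        rw [← e1, ← e2, ← hu, ← hu']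
      rw [QuotientGroup.eq] at h3
      have h4 := hdisj _ h3 ((P : Subgroup G).mul_mem ((P : Subgroup G).inv_mem x.2) x'.2)
      exact inv_mul_eq_one.mp h4
    have h5 : x = x' := Subtype.ext h2
    subst h5
    rfl
  have hψsurj : Function.Surjective ψ := by
    rintro ⟨u, hu⟩
    obtain ⟨g, y, hy, hgy⟩ := exists_conj_mem_sylow P u hu
    obtain ⟨n₁, hn₁, y₁, hy₁, rfl⟩ := hdec g
    have hx : y₁ * y * y₁⁻¹ ∈ (P : Subgroup G) :=
      (P : Subgroup G).mul_mem ((P : Subgroup G).mul_mem hy₁ hy) ((P : Subgroup G).inv_mem hy₁)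
    refine ⟨⟨⟨y₁ * y * y₁⁻¹, hx⟩, ⟨u, n₁, hn₁, ?_⟩⟩, rfl⟩
    rw [← hgy]; group
  have h1 : Nat.card {g : G // ∃ k : ℕ, orderOf g = p ^ k} =
      Nat.card (Σ x : (P : Subgroup G), {u : G | ∃ n ∈ N, u = n * (x : G) * n⁻¹}) :=
    (Nat.card_congr (Equiv.ofBijective ψ ⟨hψinj, hψsurj⟩)).symm
  rw [h1, Nat.card_sigma]
  apply Finset.sum_congr rfl
  intro x _
  exact card_orbit N (x : G)

end Cfsg.Agent.S4093
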