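import Cfsg.Statements.S4097
import Cfsg.Agent.Lib.helper84.Frobenius

set_option autoImplicit false

open Cfsg
open scoped Pointwise

namespace Cfsg.Agent.S4097

universe u

/-- The preimage of a solvable subgroup of `G ⧸ N`, `N` solvable, is solvable. -/
theorem solvable_comap {G : Type u} [Group G] (N : Subgroup G) [N.Normal]
    (hN : Group.IsSolvable N) (S : Subgroup (G ⧸ N)) (hS : Group.IsSolvable S) :
    Group.IsSolvable (S.comap (QuotientGroup.mk' N)) := by
  have h1 : Group.IsSolvable ↥(N.subgroupOf (S.comap (QuotientGroup.mk' N))) := by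
    apply Group.isSolvable_of_isSolvable_injective
      (f := (S.comap (QuotientGroup.mk' N)).subtype.subgroupComap N)
    intro x y hxy
    have h2 := congrArg Subtype.val hxy
    exact Subtype.ext (Subtype.ext h2)
  apply Group.isSolvable_of_ker_le_range
    (N.subgroupOf (S.comap (QuotientGroup.mk' N))).subtype
    ((QuotientGroup.mk' N).subgroupComap S)
  intro s hs
  rw [MonoidHom.mem_ker] at hs
  have h2 := congrArg Subtype.val hs
  have h3 : (QuotientGroup.mk' N) s.1 = 1 := h2
  have h4 : s.1 ∈ N := (QuotientGroup.eq_one_iff (s.1 : G)).mp h3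
  exact ⟨⟨s, Subgroup.mem_subgroupOf.mpr h4⟩, rfl⟩

theorem theta_inj {G : Type u} [Group G] (K : Subgroup G) (a : G)
    (hfix : ∀ k ∈ K, a * k = k * a → k = 1) {y z : G} (hy : y ∈ K) (hz : z ∈ K)
    (h : a⁻¹ * y⁻¹ * a * y = a⁻¹ * z⁻¹ * a * z) : y = z := by
  have h1 : y⁻¹ * a * y = z⁻¹ * a * z := by
    have : a⁻¹ * (y⁻¹ * a * y) = a⁻¹ * (z⁻¹ * a * z) := by
      simpa [mul_assoc] using h
    exact mul_left_cancel this
  have h2 : a * (z * y⁻¹) = (z * y⁻¹) * a := by
    have e1 : (z * y⁻¹) * a = z * (y⁻¹ * a * y) * y⁻¹ := by group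
    rw [e1, h1]; group
  have h3 := hfix _ (K.mul_mem hz (K.inv_mem hy)) h2
  have h4 : z = y := by
    have := mul_inv_eq_one.mp h3
    exact this
  exact h4.symm

theorem theta_surj {G : Type u} [Group G] [Finite G] (L : Subgroup G) (a : G)
    (hinv : ∀ y ∈ L, a⁻¹ * y * a ∈ L) (hfix : ∀ k ∈ L, a * k = k * a → k = 1) :
    ∀ k ∈ L, ∃ y ∈ L, a⁻¹ * y⁻¹ * a * y = k := by
  let f : L → L := fun y => ⟨a⁻¹ * (y : G)⁻¹ * a * y, L.mul_mem (hinv _ (L.inv_mem y.2)) y.2⟩
  have hf : Function.Injective f := by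
    intro y z hyz
    have h1 := congrArg Subtype.val hyz
    exact Subtype.ext (theta_inj L a hfix y.2 z.2 h1)
  have hs := Finite.injective_iff_surjective.mp hf
  intro k hk
  obtain ⟨y, hy⟩ := hs ⟨k, hk⟩
  exact ⟨y, y.2, congrArg Subtype.val hy⟩

/-- The Frobenius configuration of the minimal counterexample forces solvability. -/
theorem solvable_of_frob {G : Type u} [Group G] [Finite G] (A C K : Subgroup G) [hKn : K.Normal]
    (hAC : A ≤ C) (hab : ∀ a ∈ A, ∀ b ∈ A, a * b = b * a) (hA1 : A ≠ ⊥) (hCtop : C ≠ ⊤)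
    (hmax : ∀ M : Subgroup G, M ≠ ⊤ → A ≤ M → M ≤ C)
    (hTI : ∀ g : G, g ∉ C → C ⊓ (MulAut.conj g • C) = ⊥)
    (hcompl : Subgroup.IsComplement' K C) : Group.IsSolvable G := by
  have hKC : K ⊓ C = ⊥ := hcompl.disjoint.eq_bot
  have hsup : K ⊔ C = ⊤ := hcompl.sup_eq_top
  -- nonidentity elements of `C` act without fixed points on `K`
  have hfpf : ∀ c ∈ C, c ≠ 1 → ∀ k ∈ K, c * k = k * c → k = 1 := by
    intro c hc hc1 k hk hck
    by_contra hk1
    have hkC : k ∉ C := fun h => hk1 (by
      have : k ∈ K ⊓ C := Subgroup.mem_inf.mpr ⟨hk, h⟩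
      rw [hKC] at this; exact Subgroup.mem_bot.mp this)
    have h1 := hTI k hkC
    have h2 : c ∈ C ⊓ (MulAut.conj k • C) := by
      refine Subgroup.mem_inf.mpr ⟨hc, ?_⟩
      rw [Subgroup.mem_smul_pointwise_iff_exists]
      refine ⟨c, hc, ?_⟩
      show k * c * k⁻¹ = c
      rw [← hck]; group
    rw [h1] at h2
    exact hc1 (Subgroup.mem_bot.mp h2)
  have hK1 : K ≠ ⊥ := by
    intro h; rw [h, bot_sup_eq] at hsup; exact hCtop hsup
  have hAK : A ⊔ K = ⊤ := by
    by_contra h
    have h1 := hmax _ h le_sup_left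
    have h2 : K ≤ C := le_trans le_sup_right h1
    apply hK1
    rw [← hKC]; exact (inf_eq_left.mpr h2).symm
  -- a nonidentity element of `A`
  obtain ⟨a, haA, ha1⟩ : ∃ a ∈ A, a ≠ 1 := by
    obtain ⟨a, ha⟩ := (Subgroup.ne_bot_iff_exists_ne_one).mp hA1
    exact ⟨a.1, a.2, fun h => ha (Subtype.ext h)⟩
  have hafix : ∀ k ∈ K, a * k = k * a → k = 1 := hfpf a (hAC haA) ha1
  have hainv : ∀ y ∈ K, a⁻¹ * y * a ∈ K := fun y hy => by
    simpa using hKn.conj_mem y hy a⁻¹
  -- a prime dividing `|K|` and a Sylow subgroup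
  obtain ⟨p, hp, hpK⟩ : ∃ p : ℕ, p.Prime ∧ p ∣ Nat.card K := by
    apply Nat.exists_prime_and_dvd
    have := (Subgroup.one_lt_card_iff_ne_bot K).mpr hK1
    omega
  have : Fact p.Prime := ⟨hp⟩
  obtain ⟨P⟩ : Nonempty (Sylow p K) := inferInstance
  have hfrat := Sylow.normalizer_sup_eq_top P
  have hfr : ∀ g : G, ∃ k ∈ K, ∃ n ∈ Subgroup.normalizer
      (((P : Subgroup K).map K.subtype : Subgroup G) : Set G), g = k * n := by
    intro g
    have hg : g ∈ (↑(K ⊔ Subgroup.normalizer
        (((P : Subgroup K).map K.subtype : Subgroup G) : Set G)) : Set G) := by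
      rw [sup_comm, hfrat]; trivial
    rw [Subgroup.normal_mul] at hg
    obtain ⟨k, hk, n, hn, h⟩ := Set.mem_mul.mp hg
    exact ⟨k, hk, n, hn, h.symm⟩
  obtain ⟨k0, hk0, n0, hn0, hakn⟩ := hfr a
  obtain ⟨y, hyK, hy⟩ := theta_surj K a hainv hafix (a⁻¹ * k0⁻¹ * a) (hainv _ (K.inv_mem hk0))
  have ha1N : y⁻¹ * a * y ∈ Subgroup.normalizer
      (((P : Subgroup K).map K.subtype : Subgroup G) : Set G) := by
    have h1 : y⁻¹ * a * y = n0 := by
      have e : y⁻¹ * a * y = a * (a⁻¹ * y⁻¹ * a * y) := by group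
      have hn0' : n0 = k0⁻¹ * a := by rw [hakn]; group
      rw [e, hy, hn0']; group
    rw [h1]; exact hn0
  have ha1fix : ∀ k ∈ K, (y⁻¹ * a * y) * k = k * (y⁻¹ * a * y) → k = 1 := by
    intro k hk h
    have h1 : a * (y * k * y⁻¹) = (y * k * y⁻¹) * a := by
      have e1 : a * (y * k * y⁻¹) = y * ((y⁻¹ * a * y) * k) * y⁻¹ := by group
      rw [e1, h]; group
    have h2 := hafix _ (hKn.conj_mem k hk y) h1
    have e : k = y⁻¹ * (y * k * y⁻¹) * y := by group
    rw [e, h2]; group
  have hLinv : ∀ x ∈ Subgroup.normalizer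
      (((P : Subgroup K).map K.subtype : Subgroup G) : Set G) ⊓ K,
      (y⁻¹ * a * y)⁻¹ * x * (y⁻¹ * a * y) ∈ Subgroup.normalizer
      (((P : Subgroup K).map K.subtype : Subgroup G) : Set G) ⊓ K := by
    intro x hx
    obtain ⟨hx1, hx2⟩ := Subgroup.mem_inf.mp hx
    refine Subgroup.mem_inf.mpr ⟨?_, ?_⟩
    · exact Subgroup.mul_mem _ (Subgroup.mul_mem _ (Subgroup.inv_mem _ ha1N) hx1) ha1N
    · simpa using hKn.conj_mem x hx2 (y⁻¹ * a * y)⁻¹
  have hAN : ∀ b ∈ A, y⁻¹ * b * y ∈ Subgroup.normalizer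
      (((P : Subgroup K).map K.subtype : Subgroup G) : Set G) := by
    intro b hb
    obtain ⟨k, hk, n, hn, hbkn⟩ := hfr (y⁻¹ * b * y)
    have hcomm : (y⁻¹ * b * y) * (y⁻¹ * a * y) = (y⁻¹ * a * y) * (y⁻¹ * b * y) := by
      have h0 := hab b hb a haA
      calc (y⁻¹ * b * y) * (y⁻¹ * a * y) = y⁻¹ * (b * a) * y := by group
        _ = y⁻¹ * (a * b) * y := by rw [h0]
        _ = _ := by group
    have h1 : k⁻¹ * (y⁻¹ * a * y) * k = n * (y⁻¹ * a * y) * n⁻¹ := by
      rw [hbkn] at hcomm
      have e : k⁻¹ * (y⁻¹ * a * y) * k = k⁻¹ * ((y⁻¹ * a * y) * (k * n)) * n⁻¹ := by group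
      rw [e, ← hcomm]; group
    have h2 : (y⁻¹ * a * y)⁻¹ * k⁻¹ * (y⁻¹ * a * y) * k ∈ Subgroup.normalizer
        (((P : Subgroup K).map K.subtype : Subgroup G) : Set G) ⊓ K := by
      refine Subgroup.mem_inf.mpr ⟨?_, ?_⟩
      · have e : (y⁻¹ * a * y)⁻¹ * k⁻¹ * (y⁻¹ * a * y) * k
            = (y⁻¹ * a * y)⁻¹ * (k⁻¹ * (y⁻¹ * a * y) * k) := by group
        rw [e, h1]
        exact Subgroup.mul_mem _ (Subgroup.inv_mem _ ha1N)
          (Subgroup.mul_mem _ (Subgroup.mul_mem _ hn ha1N) (Subgroup.inv_mem _ hn))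
      · exact K.mul_mem (by simpa using hKn.conj_mem _ (K.inv_mem hk) (y⁻¹ * a * y)⁻¹) hk
    obtain ⟨y', hy'L, hy'⟩ := theta_surj _ (y⁻¹ * a * y) hLinv
      (fun k hk => ha1fix k (Subgroup.mem_inf.mp hk).2) _ h2
    have h3 : y' = k := theta_inj K (y⁻¹ * a * y) ha1fix (Subgroup.mem_inf.mp hy'L).2 hk hy'
    rw [hbkn]
    exact Subgroup.mul_mem _ (h3 ▸ (Subgroup.mem_inf.mp hy'L).1) hn
  -- the conjugate Sylow subgroup normalized by `A`
  obtain ⟨K₀, hK₀⟩ : ∃ K₀ : Subgroup G, ∀ x, x ∈ K₀ ↔
      y⁻¹ * x * y ∈ ((P : Subgroup K).map K.subtype : Subgroup G) :=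
    ⟨((P : Subgroup K).map K.subtype).comap (MulAut.conj y⁻¹).toMonoidHom, fun x => by
      simp [Subgroup.mem_comap]⟩
  have hAN0 : A ≤ Subgroup.normalizer (K₀ : Set G) := by
    intro b hb
    rw [Subgroup.mem_normalizer_iff]
    intro x
    rw [hK₀, hK₀]
    have h1 := (Subgroup.mem_normalizer_iff.mp (hAN b hb)) (y⁻¹ * x * y)
    rw [h1]
    have e : y⁻¹ * b * y * (y⁻¹ * x * y) * (y⁻¹ * b * y)⁻¹ = y⁻¹ * (b * x * b⁻¹) * y := by group
    rw [e]
  have hP'K : ((P : Subgroup K).map K.subtype : Subgroup G) ≤ K := by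
    rintro x ⟨u, -, rfl⟩
    exact u.2
  have hK₀K : K₀ ≤ K := by
    intro x hx
    have h1 := hP'K ((hK₀ x).mp hx)
    have e : x = y * (y⁻¹ * x * y) * y⁻¹ := by group
    rw [e]; exact hKn.conj_mem _ h1 y
  have hK₀1 : K₀ ≠ ⊥ := by
    intro h
    have hPne := Sylow.ne_bot_of_dvd_card P hpK
    apply hPne
    rw [eq_bot_iff]
    intro u hu
    have h1 : y * (u : G) * y⁻¹ ∈ K₀ := by
      rw [hK₀]
      have e : y⁻¹ * (y * (u : G) * y⁻¹) * y = (u : G) := by group
      rw [e]; exact ⟨u, hu, rfl⟩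
    rw [h] at h1
    have h2 := Subgroup.mem_bot.mp h1
    have h3 : (u : G) = 1 := by
      have e : (u : G) = y⁻¹ * (y * (u : G) * y⁻¹) * y := by group
      rw [e, h2]; group
    exact Subgroup.mem_bot.mpr (Subtype.ext h3)
  have hK₀C : ¬ K₀ ≤ C := by
    intro h
    apply hK₀1
    rw [eq_bot_iff, ← hKC]
    exact le_inf hK₀K h
  have hnorm : Subgroup.normalizer (K₀ : Set G) = ⊤ := by
    by_contra h
    exact hK₀C (le_trans Subgroup.le_normalizer (hmax _ h hAN0))
  have hK₀n : K₀.Normal := Subgroup.normalizer_eq_top_iff.mp hnorm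
  have hAK₀ : A ⊔ K₀ = ⊤ := by
    by_contra h
    exact hK₀C (le_trans le_sup_right (hmax _ h le_sup_left))
  have hKK₀ : K ≤ K₀ := by
    intro k hk
    have hg : k ∈ (↑(A ⊔ K₀) : Set G) := by rw [hAK₀]; trivial
    rw [Subgroup.mul_normal] at hg
    obtain ⟨a', ha', k', hk', h⟩ := Set.mem_mul.mp hg
    have h1 : a' ∈ K ⊓ C := by
      refine Subgroup.mem_inf.mpr ⟨?_, hAC ha'⟩
      have e : a' = k * k'⁻¹ := by rw [← h]; group
      rw [e]; exact K.mul_mem hk (K.inv_mem (hK₀K hk'))
    rw [hKC] at h1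
    have h2 := Subgroup.mem_bot.mp h1
    rw [h2, one_mul] at h
    rw [← h]; exact hk'
  have hPtop : ∀ k : K, k ∈ (P : Subgroup K) := by
    intro k
    have h1 : y * (k : G) * y⁻¹ ∈ K₀ := hKK₀ (hKn.conj_mem _ k.2 y)
    rw [hK₀] at h1
    have e : y⁻¹ * (y * (k : G) * y⁻¹) * y = (k : G) := by group
    rw [e] at h1
    obtain ⟨u, hu, hu'⟩ := h1
    have : u = k := Subtype.ext hu'
    rw [← this]; exact hu
  have hKp : IsPGroup p K := by
    intro k
    obtain ⟨n, hn⟩ := P.isPGroup' ⟨k, hPtop k⟩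
    refine ⟨n, ?_⟩
    have h1 := congrArg Subtype.val hn
    exact h1
  have : Group.IsNilpotent K := hKp.isNilpotent
  have : Group.IsSolvable K := inferInstance
  have : Group.IsSolvable A := Group.isSolvable_of_comm (fun a b => Subtype.ext (hab a a.2 b b.2))
  have : Group.IsSolvable (G ⧸ K) := by
    apply Group.isSolvable_of_surjective (f := (QuotientGroup.mk' K).comp A.subtype)
    intro q
    obtain ⟨g, rfl⟩ := QuotientGroup.mk'_surjective K q
    have hg : g ∈ (↑(A ⊔ K) : Set G) := by rw [hAK]; trivial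
    rw [Subgroup.mul_normal] at hg
    obtain ⟨a', ha', k, hk, rfl⟩ := Set.mem_mul.mp hg
    refine ⟨⟨a', ha'⟩, ?_⟩
    have h1 : (QuotientGroup.mk' K) k = 1 := (QuotientGroup.eq_one_iff k).mpr hk
    rw [map_mul, h1, mul_one]
    rfl
  exact Group.isSolvable_of_ker_le_range K.subtype (QuotientGroup.mk' K) (by
    intro x hx
    rw [QuotientGroup.ker_mk'] at hx
    exact ⟨⟨x, hx⟩, rfl⟩)

theorem central_of_le_normal_abelian {G : Type u} [Group G] (A B : Subgroup G) [B.Normal]
    (hB : ∀ x ∈ B, ∀ y ∈ B, x * y = y * x) (hAB : A ≤ B)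
    (hc : ∀ S : Subgroup G, A ≤ S → Group.IsSolvable S → ∀ a ∈ A, ∀ s ∈ S, a * s = s * a) :
    A ≤ Subgroup.center G := by
  intro a ha
  rw [Subgroup.mem_center_iff]
  intro g
  have hBs : Group.IsSolvable B :=
    Group.isSolvable_of_comm (fun x y => Subtype.ext (hB x x.2 y y.2))
  have hzs : Group.IsSolvable (Subgroup.zpowers (QuotientGroup.mk' B g)) :=
    Group.isSolvable_of_comm (fun a b => Subtype.ext (by
      rw [Subgroup.coe_mul, Subgroup.coe_mul]
      obtain ⟨i, hi⟩ := Subgroup.mem_zpowers_iff.mp a.2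
      obtain ⟨j, hj⟩ := Subgroup.mem_zpowers_iff.mp b.2
      rw [← hi, ← hj, ← zpow_add, ← zpow_add, add_comm]))
  have h1 := hc ((Subgroup.zpowers (QuotientGroup.mk' B g)).comap (QuotientGroup.mk' B))
    (fun x hx => by
      rw [Subgroup.mem_comap]
      have : (QuotientGroup.mk' B) x = 1 := (QuotientGroup.eq_one_iff x).mpr (hAB hx)
      rw [this]; exact Subgroup.one_mem _)
    (solvable_comap B hBs _ hzs) a ha g (by rw [Subgroup.mem_comap]; exact Subgroup.mem_zpowers _)
  exact h1.symm

theorem main : ∀ (n : ℕ) (G : Type u) [Group G] [Finite G], Nat.card G = n →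
    ∀ (A : Subgroup G), Group.IsSolvable A →
      (∀ S : Subgroup G, A ≤ S → Group.IsSolvable S → ∀ a ∈ A, ∀ s ∈ S, a * s = s * a) →
      A ≤ Subgroup.center G := by
  intro n
  induction n using Nat.strong_induction_on with
  | _ n ih =>
    intro G _ _ hn A hA hc
    by_contra hnot
    have hab : ∀ a ∈ A, ∀ b ∈ A, a * b = b * a := fun a ha b hb => hc A le_rfl hA a ha b hb
    -- proper subgroups containing `A` centralize `A`
    have hprop : ∀ M : Subgroup G, M ≠ ⊤ → A ≤ M → ∀ a ∈ A, ∀ m ∈ M, a * m = m * a := by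
      intro M hM hAM a ha m hm
      have hlt : Nat.card M < n := by
        by_contra h
        exact hM (Subgroup.eq_top_of_le_card M (by omega))
      have hsolv : Group.IsSolvable ↥(A.subgroupOf M) := by
        have := hA
        apply Group.isSolvable_of_isSolvable_injective (f := M.subtype.subgroupComap A)
        intro x y hxy
        have h2 := congrArg Subtype.val hxy
        exact Subtype.ext (Subtype.ext h2)
      have key := ih (Nat.card M) hlt M rfl (A.subgroupOf M) hsolv (by
        intro S' hle hS' a' ha' s hs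
        have := hS'
        have h1 := hc (S'.map M.subtype) (by
            intro x hx
            exact ⟨⟨x, hAM hx⟩, hle (Subgroup.mem_subgroupOf.mpr hx), rfl⟩)
          (Group.isSolvable_of_surjective (f := M.subtype.subgroupMap S')
            (MonoidHom.subgroupMap_surjective _ _))
          a'.1 (Subgroup.mem_subgroupOf.mp ha') s.1 ⟨s, hs, rfl⟩
        exact Subtype.ext h1)
      have h1 := key (show (⟨a, hAM ha⟩ : M) ∈ A.subgroupOf M from
        Subgroup.mem_subgroupOf.mpr ha)
      rw [Subgroup.mem_center_iff] at h1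
      have h2 := h1 ⟨m, hm⟩
      exact (congrArg Subtype.val h2).symm
    -- the centre is trivial
    have hZsol : Group.IsSolvable ↥(Subgroup.center G) :=
      Group.isSolvable_of_comm (fun a b => Subtype.ext (Subgroup.mem_center_iff.mp b.2 a.1))
    have hZ : Subgroup.center G = ⊥ := by
      by_contra hZne
      apply hnot
      have hlt : Nat.card (G ⧸ Subgroup.center G) < n := by
        have h1 := Subgroup.card_eq_card_quotient_mul_card_subgroup (Subgroup.center G)
        have h2 := (Subgroup.one_lt_card_iff_ne_bot (Subgroup.center G)).mpr hZne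
        have h3 : 0 < Nat.card (G ⧸ Subgroup.center G) := Nat.card_pos
        rw [← hn, h1]
        nlinarith
      have hsolvQ : Group.IsSolvable ↥(A.map (QuotientGroup.mk' (Subgroup.center G))) := by
        have := hA
        exact Group.isSolvable_of_surjective
          (f := (QuotientGroup.mk' (Subgroup.center G)).subgroupMap A)
          (MonoidHom.subgroupMap_surjective _ _)
      have key := ih _ hlt (G ⧸ Subgroup.center G) rfl
        (A.map (QuotientGroup.mk' (Subgroup.center G))) hsolvQ (by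
        intro S hle hS abar habar sbar hsbar
        obtain ⟨a, ha, rfl⟩ := habar
        obtain ⟨s, rfl⟩ := QuotientGroup.mk'_surjective _ sbar
        have h1 := hc (S.comap (QuotientGroup.mk' _)) (fun x hx => hle ⟨x, hx, rfl⟩)
          (solvable_comap _ hZsol S hS) a ha s hsbar
        rw [← map_mul, ← map_mul, h1])
      intro a ha
      rw [Subgroup.mem_center_iff]
      intro g
      have hcomm : ∀ x ∈ ((A.map (QuotientGroup.mk' (Subgroup.center G)) :
            Set (G ⧸ Subgroup.center G)) ∪ {QuotientGroup.mk' (Subgroup.center G) g}),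
          ∀ y ∈ ((A.map (QuotientGroup.mk' (Subgroup.center G)) :
            Set (G ⧸ Subgroup.center G)) ∪ {QuotientGroup.mk' (Subgroup.center G) g}),
          x * y = y * x := by
        intro x hx y hy
        rcases hx with hx | hx
        · exact ((Subgroup.mem_center_iff.mp (key hx)) y).symm
        · rcases hy with hy | hy
          · exact (Subgroup.mem_center_iff.mp (key hy)) x
          · rw [Set.mem_singleton_iff.mp hx, Set.mem_singleton_iff.mp hy]
      have hsol : Group.IsSolvable ↥(Subgroup.closure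
          ((A.map (QuotientGroup.mk' (Subgroup.center G)) :
            Set (G ⧸ Subgroup.center G)) ∪ {QuotientGroup.mk' (Subgroup.center G) g})) :=
        Group.isSolvable_of_comm
          (fun a b => (Subgroup.isMulCommutative_closure hcomm).is_comm.comm a b)
      have h1 := hc ((Subgroup.closure
          ((A.map (QuotientGroup.mk' (Subgroup.center G)) :
            Set (G ⧸ Subgroup.center G)) ∪ {QuotientGroup.mk' (Subgroup.center G) g})).comap
              (QuotientGroup.mk' (Subgroup.center G)))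
        (fun x hx => Subgroup.subset_closure (Or.inl ⟨x, hx, rfl⟩))
        (solvable_comap _ hZsol _ hsol) a ha g
        (Subgroup.subset_closure (Or.inr rfl))
      exact h1.symm
    have hAC : A ≤ Subgroup.centralizer (A : Set G) := by
      intro a ha
      rw [Subgroup.mem_centralizer_iff]
      intro b hb
      exact hab b hb a ha
    have hCtop : Subgroup.centralizer (A : Set G) ≠ ⊤ := by
      intro h
      apply hnot
      intro a ha
      rw [Subgroup.mem_center_iff]
      intro g
      have hg : g ∈ Subgroup.centralizer (A : Set G) := by rw [h]; trivial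
      exact ((Subgroup.mem_centralizer_iff.mp hg) a ha).symm
    have hmax : ∀ M : Subgroup G, M ≠ ⊤ → A ≤ M → M ≤ Subgroup.centralizer (A : Set G) := by
      intro M hM hAM m hm
      rw [Subgroup.mem_centralizer_iff]
      intro a ha
      exact hprop M hM hAM a ha m hm
    have hA1 : A ≠ ⊥ := by
      intro h; apply hnot; rw [h]; exact bot_le
    have hconj : ∀ (M : Subgroup G), M ≠ ⊤ → ∀ x : G, (∀ a ∈ A, x * a * x⁻¹ ∈ M) →
        ∀ m ∈ M, x⁻¹ * m * x ∈ Subgroup.centralizer (A : Set G) := by
      intro M hM x hx m hm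
      have h1 : M.comap (MulAut.conj x).toMonoidHom ≠ ⊤ := by
        intro h
        apply hM
        rw [eq_top_iff]
        intro z _
        have hz : x⁻¹ * z * x ∈ M.comap (MulAut.conj x).toMonoidHom := by rw [h]; trivial
        rw [Subgroup.mem_comap] at hz
        simpa [MulAut.conj_apply, mul_assoc] using hz
      have h2 : A ≤ M.comap (MulAut.conj x).toMonoidHom := by
        intro a ha
        rw [Subgroup.mem_comap]
        simpa [MulAut.conj_apply] using hx a ha
      apply hmax _ h1 h2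
      rw [Subgroup.mem_comap]
      simpa [MulAut.conj_apply, mul_assoc] using hm
    have hwc : ∀ g : G, (∀ a ∈ A, g * a * g⁻¹ ∈ Subgroup.centralizer (A : Set G)) →
        g ∈ Subgroup.centralizer (A : Set G) := by
      intro g hg
      have h1 : ∀ c ∈ Subgroup.centralizer (A : Set G),
          g⁻¹ * c * g ∈ Subgroup.centralizer (A : Set G) := hconj _ hCtop g hg
      have h2 : ∀ c ∈ Subgroup.centralizer (A : Set G),
          g * c * g⁻¹ ∈ Subgroup.centralizer (A : Set G) := by
        have h3 := hconj _ hCtop g⁻¹ (fun a ha => by simpa using h1 a (hAC ha))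
        intro c hc
        simpa using h3 c hc
      have hgN : g ∈ Subgroup.normalizer
          ((Subgroup.centralizer (A : Set G) : Subgroup G) : Set G) := by
        rw [Subgroup.mem_normalizer_iff]
        intro c
        constructor
        · exact h2 c
        · intro h
          have h3 := h1 _ h
          have e : g⁻¹ * (g * c * g⁻¹) * g = c := by group
          rwa [e] at h3
      by_cases hN : Subgroup.normalizer
          ((Subgroup.centralizer (A : Set G) : Subgroup G) : Set G) = ⊤
      · exfalso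
        have hCn : (Subgroup.centralizer (A : Set G)).Normal :=
          Subgroup.normalizer_eq_top_iff.mp hN
        have hBn : (Subgroup.centralizer (A : Set G) ⊓
            Subgroup.centralizer ((Subgroup.centralizer (A : Set G) : Subgroup G) : Set G)).Normal :=
          inferInstance
        apply hnot
        apply central_of_le_normal_abelian A (Subgroup.centralizer (A : Set G) ⊓
            Subgroup.centralizer ((Subgroup.centralizer (A : Set G) : Subgroup G) : Set G)) _ _ hc
        · intro x hx y hy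
          exact (Subgroup.mem_centralizer_iff.mp (Subgroup.mem_inf.mp hy).2 x
            (Subgroup.mem_inf.mp hx).1)
        · intro a ha
          refine Subgroup.mem_inf.mpr ⟨hAC ha, ?_⟩
          rw [Subgroup.mem_centralizer_iff]
          intro c hc'
          exact ((Subgroup.mem_centralizer_iff.mp hc') a ha).symm
      · exact hmax _ hN (le_trans hAC Subgroup.le_normalizer) hgN
    have hTI : ∀ g : G, g ∉ Subgroup.centralizer (A : Set G) →
        Subgroup.centralizer (A : Set G) ⊓
          (MulAut.conj g • Subgroup.centralizer (A : Set G)) = ⊥ := by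
      intro g hg
      have hM : A ⊔ A.map (MulAut.conj g).toMonoidHom = ⊤ := by
        by_contra h
        have h1 := hmax _ h le_sup_left
        apply hg
        apply hwc
        intro a ha
        exact h1 ((le_sup_right : A.map (MulAut.conj g).toMonoidHom ≤ _) ⟨a, ha, rfl⟩)
      rw [eq_bot_iff]
      intro c hc'
      obtain ⟨hc1, hc2⟩ := Subgroup.mem_inf.mp hc'
      rw [Subgroup.mem_smul_pointwise_iff_exists] at hc2
      obtain ⟨c', hc'', hcc'⟩ := hc2
      have hcc : c = g * c' * g⁻¹ := hcc'.symm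
      have hle : A ⊔ A.map (MulAut.conj g).toMonoidHom ≤ Subgroup.centralizer ({c} : Set G) := by
        apply sup_le
        · intro a ha
          rw [Subgroup.mem_centralizer_singleton_iff]
          exact (Subgroup.mem_centralizer_iff.mp hc1 a ha)
        · rintro _ ⟨a, ha, rfl⟩
          rw [Subgroup.mem_centralizer_singleton_iff]
          show g * a * g⁻¹ * c = c * (g * a * g⁻¹)
          have h3 := Subgroup.mem_centralizer_iff.mp hc'' a ha
          rw [hcc]
          calc g * a * g⁻¹ * (g * c' * g⁻¹) = g * (a * c') * g⁻¹ := by group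
            _ = g * (c' * a) * g⁻¹ := by rw [h3]
            _ = _ := by group
      rw [hM] at hle
      have hcZ : c ∈ Subgroup.center G := by
        rw [Subgroup.mem_center_iff]
        intro x
        have h3 := hle (Subgroup.mem_top x)
        rw [Subgroup.mem_centralizer_singleton_iff] at h3
        exact h3
      rw [hZ] at hcZ
      exact hcZ
    obtain ⟨K, -, hKn, hcompl⟩ := Cfsg.Agent.Lib.helper84.frobenius_kernel_of_TI _ hTI
    have hsolG := solvable_of_frob A _ K hAC hab hA1 hCtop hmax hTI hcompl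
    apply hnot
    intro a ha
    rw [Subgroup.mem_center_iff]
    intro g
    have hsolT : Group.IsSolvable (⊤ : Subgroup G) :=
      Group.isSolvable_of_isSolvable_injective (f := (⊤ : Subgroup G).subtype)
        Subtype.val_injective
    exact (hc ⊤ le_top hsolT a ha g (Subgroup.mem_top g)).symm

theorem result {G : Type*} [Group G] [Finite G]
    (A : Subgroup G) (hA : Group.IsSolvable A)
    (hc : ∀ S : Subgroup G, A ≤ S → Group.IsSolvable S → ∀ a ∈ A, ∀ s ∈ S, a * s = s * a) : A ≤ Subgroup.center G :=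
  main _ G rfl A hA hc

end Cfsg.Agent.S4097
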