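import Cfsg.Statements.S4107

set_option autoImplicit false
open Cfsg

namespace Cfsg.Agent.S4107

variable {G : Type*} [Group G]

/-- Lemma A: a normal `p`-subgroup not inside `N` forces `N` to be a `p`-group. -/
theorem pgroup_of_not_le (N : Subgroup G)
    (heq : ∀ x : G, x ∉ N → ∀ n ∈ N, orderOf (x * n) = orderOf x)
    (p : ℕ) (V : Subgroup G) [V.Normal] (hV : IsPGroup p V) (hVN : ¬ V ≤ N) :
    IsPGroup p N := by
  obtain ⟨x, hxV, hxN⟩ := SetLike.not_le_iff_exists.mp hVN
  obtain ⟨a, ha⟩ := hV ⟨x, hxV⟩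
  have hxa : x ^ p ^ a = 1 := by simpa using congrArg Subtype.val ha
  rintro ⟨n, hn⟩
  have h1 : (x * n) ^ p ^ a = 1 := by
    have := heq x hxN n hn
    rw [← orderOf_dvd_iff_pow_eq_one, this, orderOf_dvd_iff_pow_eq_one]; exact hxa
  have h2 : n ^ p ^ a ∈ V := by
    have h0 : ((x * n : G) : G ⧸ V) = (n : G ⧸ V) := by
      rw [QuotientGroup.mk_mul, (QuotientGroup.eq_one_iff x).mpr hxV, one_mul]
    have h3 : ((n ^ p ^ a : G) : G ⧸ V) = 1 := by
      rw [QuotientGroup.mk_pow, ← h0, ← QuotientGroup.mk_pow, h1]; rfl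
    exact (QuotientGroup.eq_one_iff _).mp h3
  obtain ⟨b, hb⟩ := hV ⟨n ^ p ^ a, h2⟩
  have hb' : (n ^ p ^ a) ^ p ^ b = 1 := by simpa using congrArg Subtype.val hb
  refine ⟨a + b, ?_⟩
  apply Subtype.ext
  simp only [Subgroup.coe_pow, Subgroup.coe_one]
  rw [pow_add, pow_mul]; exact hb'

/-- Lemma B: the Sylow `p`-subgroup of a normal nilpotent subgroup is a normal `p`-subgroup. -/
theorem exists_sylow_part [Finite G] (M : Subgroup G) [M.Normal] (hM : Group.IsNilpotent M)
    (p : ℕ) [Fact p.Prime] :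
    ∃ V : Subgroup G, V.Normal ∧ IsPGroup p V ∧ V ≤ M ∧
      Nat.card V = p ^ (Nat.card M).factorization p := by
  obtain ⟨S⟩ : Nonempty (Sylow p M) := inferInstance
  have hSn : (S : Subgroup M).Normal := inferInstance
  have : (S : Subgroup M).Characteristic := Sylow.characteristic_of_normal S hSn
  refine ⟨(S : Subgroup M).map M.subtype, inferInstance, ?_, ?_, ?_⟩
  · exact S.isPGroup'.map M.subtype
  · exact Subgroup.map_subtype_le _
  · rw [Subgroup.card_map_of_injective M.subtype_injective, Sylow.card_eq_multiplicity]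

/-- Lemma C. -/
theorem le_of_parts_le [Finite G] (M N : Subgroup G)
    (h : ∀ p : ℕ, p.Prime → ∃ V : Subgroup G, V ≤ M ∧ V ≤ N ∧
      Nat.card V = p ^ (Nat.card M).factorization p) : M ≤ N := by
  have hdvd : Nat.card M ∣ Nat.card (M ⊓ N : Subgroup G) := by
    rw [Nat.dvd_iff_prime_pow_dvd_dvd]
    intro p k hp hk
    obtain ⟨V, hVM, hVN, hcard⟩ := h p hp
    have h1 : k ≤ (Nat.card M).factorization p :=
      (hp.pow_dvd_iff_le_factorization Nat.card_pos.ne').mp hk
    have h2 : Nat.card V ∣ Nat.card (M ⊓ N : Subgroup G) :=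
      Subgroup.card_dvd_of_le (le_inf hVM hVN)
    rw [hcard] at h2
    exact (pow_dvd_pow p h1).trans h2
  have hle : Nat.card M ≤ Nat.card (M ⊓ N : Subgroup G) := Nat.le_of_dvd Nat.card_pos hdvd
  have := Subgroup.eq_of_le_of_card_ge (inf_le_left : M ⊓ N ≤ M) hle
  rw [← this]; exact inf_le_right

theorem exists_part_not_le [Finite G] (N : Subgroup G) (hF : ¬ Cfsg.fittingSubgroup G ≤ N) :
    ∃ (p : ℕ) (_ : Fact p.Prime) (V : Subgroup G), V.Normal ∧ IsPGroup p V ∧ ¬ V ≤ N := by
  by_contra hcon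
  apply hF
  apply sSup_le
  rintro M ⟨hMn, hMnil⟩
  apply le_of_parts_le
  intro p hp
  have : Fact p.Prime := ⟨hp⟩
  obtain ⟨V, hVn, hVp, hVM, hc⟩ := exists_sylow_part M hMnil p
  refine ⟨V, hVM, ?_, hc⟩
  by_contra hVN
  exact hcon ⟨p, ⟨hp⟩, V, hVn, hVp, hVN⟩

theorem result {G : Type*} [Group G] [Finite G] (N : Subgroup G) [N.Normal] (hN1 : N ≠ ⊥) (hN2 : N ≠ ⊤)
    (heq : ∀ x : G, x ∉ N → ∀ n ∈ N, orderOf (x * n) = orderOf x) :
    (N ≤ Cfsg.fittingSubgroup G ∨ Cfsg.fittingSubgroup G ≤ N) ∧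
    (N < Cfsg.fittingSubgroup G → IsPrimePow (Nat.card (Cfsg.fittingSubgroup G))) := by
  have key : ¬ Cfsg.fittingSubgroup G ≤ N →
      ∃ (p : ℕ) (_ : Fact p.Prime), IsPGroup p N := by
    intro hF
    obtain ⟨p, hp, V, hVn, hVp, hVN⟩ := exists_part_not_le N hF
    exact ⟨p, hp, pgroup_of_not_le N heq p V hVp hVN⟩
  refine ⟨?_, ?_⟩
  · by_cases hF : Cfsg.fittingSubgroup G ≤ N
    · exact Or.inr hF
    · left
      obtain ⟨p, hp, hNp⟩ := key hF
      exact le_sSup ⟨inferInstance, hNp.isNilpotent⟩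
  · intro hlt
    have hF : ¬ Cfsg.fittingSubgroup G ≤ N := not_le_of_gt hlt
    obtain ⟨p, hp, hNp⟩ := key hF
    -- every normal nilpotent subgroup is a p-group
    have hall : ∀ M ∈ {M : Subgroup G | M.Normal ∧ Group.IsNilpotent M}, IsPGroup p M := by
      rintro M ⟨hMn, hMnil⟩
      have hpow : Nat.card M = p ^ (Nat.card M).primeFactorsList.length := by
        apply Nat.eq_prime_pow_of_unique_prime_dvd Nat.card_pos.ne'
        intro r hr hrd
        by_contra hne
        have : Fact r.Prime := ⟨hr⟩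
        obtain ⟨V, hVn, hVr, hVM, hc⟩ := exists_sylow_part M hMnil r
        have hpos : 0 < (Nat.card M).factorization r :=
          hr.factorization_pos_of_dvd Nat.card_pos.ne' hrd
        by_cases hVN : V ≤ N
        · have hVp : IsPGroup p V := hNp.to_le hVN
          have hdis := IsPGroup.disjoint_of_ne r p hne V V hVr hVp
          rw [disjoint_self] at hdis
          rw [hdis, Subgroup.card_bot] at hc
          have : 1 < r ^ (Nat.card M).factorization r :=
            Nat.one_lt_pow hpos.ne' hr.one_lt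
          omega
        · have hNr : IsPGroup r N := pgroup_of_not_le N heq r V hVr hVN
          have hdis := IsPGroup.disjoint_of_ne r p hne N N hNr hNp
          rw [disjoint_self] at hdis
          exact hN1 hdis
      exact IsPGroup.of_card hpow
    have hFp : IsPGroup p (Cfsg.fittingSubgroup G) :=
      Sylow.sSup_of_normal _ hall (fun M hM => hM.1)
    obtain ⟨k, hk⟩ := IsPGroup.iff_card.mp hFp
    rw [hk, isPrimePow_nat_iff]
    refine ⟨p, k, hp.out, ?_, rfl⟩
    rcases Nat.eq_zero_or_pos k with h0 | h0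
    · exfalso
      rw [h0, pow_zero] at hk
      have hbot : Cfsg.fittingSubgroup G = ⊥ := Subgroup.card_eq_one.mp hk
      rw [hbot] at hlt
      exact not_lt_bot hlt
    · exact h0

end Cfsg.Agent.S4107
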