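import Cfsg.Statements.S4108

set_option autoImplicit false
open Cfsg

namespace Cfsg.Agent.S4108

open scoped Pointwise

lemma facts {G : Type*} [Group G] [Finite G] (N : Subgroup G) [N.Normal]
    (heq : ∀ x : G, x ∉ N → ∀ n ∈ N, orderOf (x * n) = orderOf x)
    (p : ℕ) [Fact p.Prime] (hNp : IsPGroup p N) (H : Subgroup G) (hcop : (Nat.card H).Coprime p) :
    (∀ y, y ∈ H → y ∈ N → y = 1) ∧
    (∀ h ∈ H, h ≠ 1 → ∀ n ∈ N, n * h = h * n → n = 1) ∧
    (∀ h ∈ H, h ≠ 1 → ∀ n ∈ N, ∃ u ∈ N, u * h * u⁻¹ = n * h) := by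
  have hordcop : ∀ h ∈ H, ∀ n ∈ N, (orderOf h).Coprime (orderOf n) := by
    intro h hh n hn
    have h1 : orderOf h ∣ Nat.card H := by
      have := orderOf_dvd_natCard (⟨h, hh⟩ : H)
      rwa [Subgroup.orderOf_mk] at this
    obtain ⟨k, hk⟩ := hNp ⟨n, hn⟩
    have h2 : orderOf n ∣ p ^ k := by
      apply orderOf_dvd_of_pow_eq_one
      have := congrArg Subtype.val hk
      simpa using this
    exact Nat.Coprime.coprime_dvd_left h1 (Nat.Coprime.coprime_dvd_right h2 (Nat.Coprime.pow_right k hcop))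
  have F1 : ∀ y, y ∈ H → y ∈ N → y = 1 := by
    intro y hyH hyN
    have := hordcop y hyH y hyN
    rw [Nat.coprime_self] at this
    exact orderOf_eq_one_iff.mp this
  have F2 : ∀ h ∈ H, h ≠ 1 → ∀ n ∈ N, n * h = h * n → n = 1 := by
    intro h hh hh1 n hn hnh
    have hhN : h ∉ N := fun hhN => hh1 (F1 h hh hhN)
    have h1 := heq h hhN n hn
    have hc : Commute h n := hnh.symm
    rw [hc.orderOf_mul_eq_mul_orderOf_of_coprime (hordcop h hh n hn)] at h1
    have h2 : orderOf n = 1 := by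
      have h3 : orderOf h * orderOf n = orderOf h * 1 := by rw [h1, mul_one]
      exact Nat.eq_of_mul_eq_mul_left (orderOf_pos h) h3
    exact orderOf_eq_one_iff.mp h2
  refine ⟨F1, F2, ?_⟩
  intro h hh hh1 n hn
  let φ : N → N := fun u => ⟨(u : G) * h * (u : G)⁻¹ * h⁻¹, by
    have : (u : G) * h * (u : G)⁻¹ * h⁻¹ = (u : G) * (h * (u : G)⁻¹ * h⁻¹) := by group
    rw [this]
    exact N.mul_mem u.2 (Subgroup.Normal.conj_mem inferInstance _ (N.inv_mem u.2) _)⟩
  have hφ : Function.Injective φ := by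
    intro u v huv
    have h3 : (u : G) * h * (u : G)⁻¹ * h⁻¹ = (v : G) * h * (v : G)⁻¹ * h⁻¹ := congrArg Subtype.val huv
    have h4 : ((v : G)⁻¹ * (u : G)) * h = h * ((v : G)⁻¹ * (u : G)) := by
      have h5 : (u : G) * h * (u : G)⁻¹ = (v : G) * h * (v : G)⁻¹ := mul_right_cancel h3
      calc ((v : G)⁻¹ * (u : G)) * h = (v : G)⁻¹ * ((u : G) * h * (u : G)⁻¹) * (u : G) := by group
        _ = (v : G)⁻¹ * ((v : G) * h * (v : G)⁻¹) * (u : G) := by rw [h5]
        _ = h * ((v : G)⁻¹ * (u : G)) := by group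
    have h6 := F2 h hh hh1 _ (N.mul_mem (N.inv_mem v.2) u.2) h4
    have h7 : (u : G) = (v : G) := by
      rw [inv_mul_eq_one] at h6; exact h6.symm
    exact Subtype.ext h7
  have hφs : Function.Surjective φ := Finite.surjective_of_injective hφ
  obtain ⟨u, hu⟩ := hφs ⟨n, hn⟩
  have hu' : (u : G) * h * (u : G)⁻¹ * h⁻¹ = n := congrArg Subtype.val hu
  refine ⟨u, u.2, ?_⟩
  rw [← hu']; group

/-- Let G be a finite group, p a prime and N a proper non-trivial normal p-subgroup such that for every x outside N all elements of the coset xN have the same order as x. Then every non-trivial subgroup H of G of order prime to p acts fixed-point-freely on N: NH is a Frobenius group with complement H and kernel N. -/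
theorem result {G : Type*} [Group G] [Finite G] (N : Subgroup G) [N.Normal] (hN1 : N ≠ ⊥) (hN2 : N ≠ ⊤)
    (heq : ∀ x : G, x ∉ N → ∀ n ∈ N, orderOf (x * n) = orderOf x)
    (p : ℕ) [Fact p.Prime] (hNp : IsPGroup p N) :
    ∀ H : Subgroup G, H ≠ ⊥ → (Nat.card H).Coprime p →
      Cfsg.IsFrobeniusComplement (H.subgroupOf (N ⊔ H)) ∧ Cfsg.frobeniusKernel (H.subgroupOf (N ⊔ H)) = (N.subgroupOf (N ⊔ H) : Set ↥(N ⊔ H)) := by
  intro H hH1 hcop
  obtain ⟨F1, F2, F3⟩ := facts N heq p hNp H hcop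
  have hdec : ∀ g : ↥(N ⊔ H), ∃ n ∈ N, ∃ h ∈ H, (g : G) = n * h := by
    intro g
    have hg : (g : G) ∈ ((N ⊔ H : Subgroup G) : Set G) := g.2
    rw [Subgroup.normal_mul] at hg
    obtain ⟨n, hn, h, hh, hnh⟩ := Set.mem_mul.mp hg
    exact ⟨n, hn, h, hh, hnh.symm⟩
  have hmemsmul : ∀ (g x : ↥(N ⊔ H)), x ∈ MulAut.conj g • (H.subgroupOf (N ⊔ H)) ↔
      (g : G)⁻¹ * (x : G) * (g : G) ∈ H := by
    intro g x
    rw [Subgroup.mem_pointwise_smul_iff_inv_smul_mem, Subgroup.mem_subgroupOf]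
    simp [MulAut.smul_def]
  constructor
  · refine ⟨?_, ?_, ?_⟩
    · intro hbot
      apply hH1
      rw [Subgroup.eq_bot_iff_forall]
      intro h hh
      have h1 : (⟨h, (le_sup_right : H ≤ N ⊔ H) hh⟩ : ↥(N ⊔ H)) ∈ H.subgroupOf (N ⊔ H) := by
        rw [Subgroup.mem_subgroupOf]; exact hh
      rw [hbot, Subgroup.mem_bot] at h1
      exact congrArg Subtype.val h1
    · intro htop
      apply hN1
      rw [Subgroup.eq_bot_iff_forall]
      intro n hn
      have h1 : (⟨n, (le_sup_left : N ≤ N ⊔ H) hn⟩ : ↥(N ⊔ H)) ∈ H.subgroupOf (N ⊔ H) := by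
        rw [htop]; trivial
      rw [Subgroup.mem_subgroupOf] at h1
      exact F1 n h1 hn
    · intro g hg
      rw [Subgroup.eq_bot_iff_forall]
      rintro y ⟨hy1, hy2⟩
      have hy1' : (y : G) ∈ H := Subgroup.mem_subgroupOf.mp hy1
      have hy2' : (g : G)⁻¹ * (y : G) * (g : G) ∈ H := (hmemsmul g y).mp hy2
      obtain ⟨n, hn, h, hh, hgnh⟩ := hdec g
      have hn1 : n ≠ 1 := by
        rintro rfl
        apply hg
        rw [Subgroup.mem_subgroupOf, hgnh]
        simpa using hh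
      -- z = n⁻¹ y n ∈ H
      have hz : n⁻¹ * (y : G) * n ∈ H := by
        have h1 : n⁻¹ * (y : G) * n = h * ((g : G)⁻¹ * (y : G) * (g : G)) * h⁻¹ := by
          rw [hgnh]; group
        rw [h1]
        exact H.mul_mem (H.mul_mem hh hy2') (H.inv_mem hh)
      -- y⁻¹ * (n⁻¹ y n) ∈ N ∩ H
      have h2 : (y : G)⁻¹ * (n⁻¹ * (y : G) * n) = 1 := by
        apply F1
        · exact H.mul_mem (H.inv_mem hy1') hz
        · have h3 : (y : G)⁻¹ * (n⁻¹ * (y : G) * n) = ((y : G)⁻¹ * n⁻¹ * (y : G)⁻¹⁻¹) * n := by group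
          rw [h3]
          exact N.mul_mem (Subgroup.Normal.conj_mem inferInstance _ (N.inv_mem hn) _) hn
      have h4 : n * (y : G) = (y : G) * n := by
        have h5 : n⁻¹ * (y : G) * n = (y : G) := by
          rw [inv_mul_eq_one] at h2; exact h2.symm
        calc n * (y : G) = n * (n⁻¹ * (y : G) * n) := by rw [h5]
          _ = (y : G) * n := by group
      by_contra hy
      have hy' : (y : G) ≠ 1 := fun h => hy (Subtype.ext h)
      exact hn1 (F2 (y : G) hy1' hy' n hn h4)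
  · ext x
    simp only [Cfsg.frobeniusKernel, Set.mem_ofPred_eq, SetLike.mem_coe, Subgroup.mem_subgroupOf]
    constructor
    · rintro (rfl | hx)
      · simp
      · obtain ⟨n, hn, h, hh, hxnh⟩ := hdec x
        by_cases hh1 : h = 1
        · rw [hxnh, hh1, mul_one]; exact hn
        · exfalso
          obtain ⟨u, hu, huh⟩ := F3 h hh hh1 n hn
          apply hx ⟨u, (le_sup_left : N ≤ N ⊔ H) hu⟩
          rw [hmemsmul]
          have : (u : G)⁻¹ * (x : G) * u = h := by
            rw [hxnh, ← huh]; group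
          simp only []
          rw [this]; exact hh
    · intro hxN
      by_cases hx1 : x = 1
      · exact Or.inl hx1
      · right
        intro g hxg
        rw [hmemsmul] at hxg
        apply hx1
        have h1 : (g : G)⁻¹ * (x : G) * (g : G) = 1 := by
          apply F1 _ hxg
          have := Subgroup.Normal.conj_mem (inferInstance : N.Normal) _ hxN (g : G)⁻¹
          simpa using this
        apply Subtype.ext
        have h2 : (x : G) = (g : G) * ((g : G)⁻¹ * (x : G) * (g : G)) * (g : G)⁻¹ := by group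
        rw [h2, h1]; simp

end Cfsg.Agent.S4108
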