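import Cfsg.Statements.S4112

set_option autoImplicit false
open Cfsg

namespace Cfsg.Agent.S4112

/-- fixed-point-free ⇒ coprime (no Camina hypothesis needed) -/
lemma coprime_of_fpf {G : Type*} [Group G] [Finite G] (N M : Subgroup G) [N.Normal] [M.Normal]
    (hfpf : ∀ x ∈ M, x ≠ 1 → Subgroup.centralizer ({x} : Set G) ≤ N) :
    N.index.Coprime (Nat.card M) := by
  by_contra hnc
  obtain ⟨q, hq, hq1, hq2⟩ := Nat.Prime.not_coprime_iff_dvd.mp hnc
  have : Fact q.Prime := ⟨hq⟩
  obtain ⟨Q⟩ : Nonempty (Sylow q G) := inferInstance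
  let act : MulAction ↥(Q : Subgroup G) ↥M :=
    MulAction.compHom ↥M ((ConjAct.toConjAct (G := G)).toMonoidHom.comp (Q : Subgroup G).subtype)
  have hsmul : ∀ (a : ↥(Q : Subgroup G)) (m : ↥M), ((a • m : ↥M) : G) = (a : G) * (m : G) * (a : G)⁻¹ := by
    intro a m
    rfl
  have h1 : (1 : ↥M) ∈ MulAction.fixedPoints ↥(Q : Subgroup G) ↥M := by
    intro a
    apply Subtype.ext
    rw [hsmul]
    simp
  obtain ⟨b, hb, hb1⟩ := Q.isPGroup'.exists_fixed_point_of_prime_dvd_card_of_fixed_point ↥M hq2 h1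
  have hbne : (b : G) ≠ 1 := by
    intro h
    apply hb1
    apply Subtype.ext
    rw [h]; rfl
  have hQN : (Q : Subgroup G) ≤ N := by
    intro a ha
    apply hfpf b b.2 hbne
    rw [Subgroup.mem_centralizer_iff]
    intro z hz
    rw [Set.mem_singleton_iff] at hz
    subst hz
    have h2 := hb ⟨a, ha⟩
    have h3 : a * (b : G) * a⁻¹ = (b : G) := by
      have := congrArg Subtype.val h2
      rw [hsmul] at this
      exact this
    exact (mul_inv_eq_iff_eq_mul.mp h3).symm
  have h4 : N.index ∣ (Q : Subgroup G).index := Subgroup.index_dvd_of_le hQN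
  exact Q.not_dvd_index (dvd_trans hq1 h4)

/-- coprime + Camina ⇒ fixed-point-free -/
lemma fpf_of_coprime {G : Type*} [Group G] [Finite G] (N M : Subgroup G) [N.Normal] [M.Normal]
    (hcam : ∀ g : G, g ∉ N → ∀ m ∈ M, ∃ x : G, x * g * x⁻¹ = g * m)
    (hcop : N.index.Coprime (Nat.card M)) :
    ∀ x ∈ M, x ≠ 1 → Subgroup.centralizer ({x} : Set G) ≤ N := by
  intro x hxM hx1 g hg
  by_contra hgN
  have hcomm : Commute g x := by
    rw [Subgroup.mem_centralizer_iff] at hg
    exact (hg x (Set.mem_singleton x)).symm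
  have hox : orderOf x ≠ 1 := by
    rw [Ne, orderOf_eq_one_iff]; exact hx1
  obtain ⟨r, hr, hrx⟩ := Nat.exists_prime_and_dvd hox
  have hox0 : orderOf x ≠ 0 := (orderOf_pos x).ne'
  set x' := x ^ (orderOf x / r) with hx'
  have hx'ord : orderOf x' = r := orderOf_pow_orderOf_div hox0 hrx
  have hx'M : x' ∈ M := M.pow_mem hxM _
  have hrM : r ∣ Nat.card M := by
    have h1 : orderOf (⟨x', hx'M⟩ : M) ∣ Nat.card M := orderOf_dvd_natCard _
    rw [← hx'ord]
    rwa [Subgroup.orderOf_mk] at h1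
  have hrN : ¬ r ∣ N.index := by
    intro h
    have := Nat.Coprime.eq_one_of_dvd (Nat.Coprime.coprime_dvd_left h hcop) hrM
    exact hr.one_lt.ne' this
  obtain ⟨e, s, hs, hos⟩ := Nat.exists_eq_pow_mul_and_not_dvd (orderOf_pos g).ne' r hr.one_lt.ne'
  set g' := g ^ (r ^ e) with hg'
  have hre0 : r ^ e ≠ 0 := pow_ne_zero _ hr.pos.ne'
  have hg'ord : orderOf g' = s := by
    rw [hg', orderOf_pow_of_dvd hre0 (hos ▸ Dvd.intro _ rfl), hos]
    exact Nat.mul_div_cancel_left s (Nat.pos_of_ne_zero hre0)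
  have hg'N : g' ∉ N := by
    intro h
    apply hgN
    have h1 : (QuotientGroup.mk g : G ⧸ N) ^ (r ^ e) = 1 := by
      rw [← QuotientGroup.mk_pow, QuotientGroup.eq_one_iff]; exact h
    have h2 : orderOf (QuotientGroup.mk g : G ⧸ N) ∣ r ^ e := orderOf_dvd_of_pow_eq_one h1
    have h3 : orderOf (QuotientGroup.mk g : G ⧸ N) ∣ N.index := orderOf_dvd_natCard _
    have h4 : (r ^ e).Coprime N.index := Nat.Coprime.pow_left e ((Nat.Prime.coprime_iff_not_dvd hr).mpr hrN)
    have h5 := Nat.Coprime.eq_one_of_dvd (Nat.Coprime.coprime_dvd_left h2 h4) h3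
    rw [orderOf_eq_one_iff] at h5
    exact (QuotientGroup.eq_one_iff g).mp h5
  have hcomm' : Commute g' x' := (hcomm.pow_left _).pow_right _
  have hcop' : (orderOf g').Coprime (orderOf x') := by
    rw [hg'ord, hx'ord]
    exact ((Nat.Prime.coprime_iff_not_dvd hr).mpr hs).symm
  have hord : orderOf (g' * x') = s * r := by
    rw [hcomm'.orderOf_mul_eq_mul_orderOf_of_coprime hcop', hg'ord, hx'ord]
  obtain ⟨t, ht⟩ := hcam g' hg'N x' hx'M
  have hconj : orderOf (t * g' * t⁻¹) = orderOf g' :=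
    orderOf_injective (MulAut.conj t).toMonoidHom (MulAut.conj t).injective g'
  rw [ht, hord, hg'ord] at hconj
  have hs0 : 0 < s := by rw [← hg'ord]; exact orderOf_pos g'
  have : r = 1 := by
    have h6 : s * r = s * 1 := by rw [hconj, mul_one]
    exact Nat.eq_of_mul_eq_mul_left hs0 h6
  exact hr.one_lt.ne' this

lemma map_sup_eq_top {G : Type*} [Group G] (N H : Subgroup G) [N.Normal] (hHN : H ⊔ N = ⊤)
    (T : Subgroup H) (hT : T ⊔ N.subgroupOf H = ⊤) : T.map H.subtype ⊔ N = ⊤ := by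
  have h1 : (T ⊔ N.subgroupOf H).map H.subtype = T.map H.subtype ⊔ (N ⊓ H) := by
    rw [Subgroup.map_sup, Subgroup.subgroupOf_map_subtype]
  rw [hT] at h1
  have h2 : (⊤ : Subgroup H).map H.subtype = H := by
    rw [← MonoidHom.range_eq_map, Subgroup.range_subtype]
  rw [h2] at h1
  apply top_le_iff.mp
  rw [← hHN]
  refine sup_le ?_ le_sup_right
  exact h1.le.trans (sup_le le_sup_left (le_trans inf_le_left le_sup_right))

/-- coprime ⇒ a supplement of N meeting M trivially -/
lemma exists_supp {G : Type*} [Group G] [Finite G] (N M : Subgroup G) [N.Normal] [M.Normal] (hMN : M ≤ N)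
    (hcop : N.index.Coprime (Nat.card M)) :
    ∃ H : Subgroup G, H ⊔ N = ⊤ ∧ H ⊓ M = ⊥ := by
  classical
  have hex : ∃ n, ∃ H : Subgroup G, H ⊔ N = ⊤ ∧ Nat.card H = n := ⟨_, ⊤, top_sup_eq _, rfl⟩
  obtain ⟨H, hHN, hHcard⟩ := Nat.find_spec hex
  have hmin : ∀ H' : Subgroup G, H' ⊔ N = ⊤ → Nat.card H ≤ Nat.card H' := by
    intro H' hH'
    rw [hHcard]
    exact Nat.find_min' hex ⟨H', hH', rfl⟩
  have hmin' : ∀ T : Subgroup H, T ⊔ N.subgroupOf H = ⊤ → T = ⊤ := by
    intro T hT
    have h1 : T.map H.subtype ⊔ N = ⊤ := map_sup_eq_top N H hHN T hT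
    have h2 := hmin _ h1
    rw [Subgroup.card_map_of_injective H.subtype_injective] at h2
    exact Subgroup.eq_top_of_card_eq T (le_antisymm (Subgroup.card_le_card_group T) h2)
  refine ⟨H, hHN, ?_⟩
  by_contra hne
  have hcard1 : Nat.card (H ⊓ M : Subgroup G) ≠ 1 := by
    intro h
    exact hne (Subgroup.card_eq_one.mp h)
  obtain ⟨r, hr, hrd⟩ := Nat.exists_prime_and_dvd hcard1
  have : Fact r.Prime := ⟨hr⟩
  have hrM : r ∣ Nat.card M := dvd_trans hrd (Subgroup.card_dvd_of_le inf_le_right)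
  have hrN : ¬ r ∣ N.index := by
    intro h
    have := Nat.Coprime.eq_one_of_dvd (Nat.Coprime.coprime_dvd_left h hcop) hrM
    exact hr.one_lt.ne' this
  -- K = N ∩ H inside H
  set K : Subgroup H := N.subgroupOf H with hK
  have hrK : r ∣ Nat.card K := by
    have h1 : Nat.card K = Nat.card (N ⊓ H : Subgroup G) := by
      rw [hK, ← Subgroup.card_map_of_injective H.subtype_injective, Subgroup.subgroupOf_map_subtype]
    rw [h1]
    exact dvd_trans hrd (Subgroup.card_dvd_of_le (le_inf (le_trans inf_le_right hMN) inf_le_left))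
  have hKidx : K.index = N.index := by
    have h1 : K.index = N.relIndex H := rfl
    rw [h1, ← Subgroup.relIndex_sup_left, sup_comm, hHN, Subgroup.relIndex_top_right]
  obtain ⟨P⟩ : Nonempty (Sylow r K) := inferInstance
  set S₀ : Subgroup H := (P : Subgroup K).map K.subtype with hS₀
  have hfrat : Subgroup.normalizer (S₀ : Set H) ⊔ K = ⊤ := Sylow.normalizer_sup_eq_top P
  have hnorm : Subgroup.normalizer (S₀ : Set H) = ⊤ := hmin' _ hfrat
  have hS₀n : S₀.Normal := Subgroup.normalizer_eq_top_iff.mp hnorm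
  have hS₀card : Nat.card S₀ = Nat.card (P : Subgroup K) :=
    Subgroup.card_map_of_injective K.subtype_injective
  have hS₀le : S₀ ≤ K := Subgroup.map_subtype_le _
  have hS₀idx : S₀.index = (P : Subgroup K).index * K.index := by
    have h1 : S₀.relIndex K = (P : Subgroup K).index := by
      rw [Subgroup.relIndex, hS₀]
      congr 1
      ext x
      simp [Subgroup.mem_subgroupOf]
    rw [← h1, Subgroup.relIndex_mul_index hS₀le]
  have hcopS : (Nat.card S₀).Coprime S₀.index := by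
    rw [hS₀card, hS₀idx, hKidx]
    obtain ⟨n, hn⟩ := IsPGroup.iff_card.mp P.isPGroup'
    rw [hn]
    apply Nat.Coprime.pow_left
    rw [Nat.Prime.coprime_iff_not_dvd hr]
    intro h
    rcases (Nat.Prime.dvd_mul hr).mp h with h | h
    · exact P.not_dvd_index h
    · exact hrN h
  obtain ⟨H₁, hH₁⟩ := Subgroup.exists_right_complement'_of_coprime hcopS
  have hH₁top : H₁ = ⊤ := by
    apply hmin'
    apply top_le_iff.mp
    rw [← hH₁.sup_eq_top, sup_comm]
    exact sup_le_sup_left hS₀le _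
  rw [hH₁top, Subgroup.isComplement'_top_right] at hH₁
  have hPbot : (P : Subgroup K) ≠ ⊥ := P.ne_bot_of_dvd_card hrK
  apply hPbot
  have h2 : Nat.card (P : Subgroup K) = 1 := by
    rw [← hS₀card, hH₁]; exact Subgroup.card_bot
  exact Subgroup.card_eq_one.mp h2

/-- Let G be a finite group and M ≤ N non-trivial proper normal subgroups such that for every g outside N the conjugacy class of g is a union of cosets of M (equivalently gm is conjugate to g for every m ∈ M). Then (1) and (2) below are equivalent, and they imply (3): (1) every g outside N acts fixed-point-freely on M, that is C_G(x) ≤ N for every x ∈ M, x ≠ 1; (2) the index of N in G is coprime to the order of M; (3) there is a subgroup H of G with HN = G and H ∩ M = 1. -/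
theorem result {G : Type*} [Group G] [Finite G] (N M : Subgroup G) [N.Normal] [M.Normal] (hMN : M ≤ N) (hM1 : M ≠ ⊥) (hN2 : N ≠ ⊤)
    (hcam : ∀ g : G, g ∉ N → ∀ m ∈ M, ∃ x : G, x * g * x⁻¹ = g * m) :
    ((∀ x ∈ M, x ≠ 1 → Subgroup.centralizer ({x} : Set G) ≤ N) ↔ N.index.Coprime (Nat.card M)) ∧
    ((∀ x ∈ M, x ≠ 1 → Subgroup.centralizer ({x} : Set G) ≤ N) → ∃ H : Subgroup G, H ⊔ N = ⊤ ∧ H ⊓ M = ⊥) := by
  refine ⟨⟨coprime_of_fpf N M, fpf_of_coprime N M hcam⟩, fun h => exists_supp N M hMN (coprime_of_fpf N M h)⟩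

end Cfsg.Agent.S4112
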