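import Cfsg.Statements.S4113

set_option autoImplicit false
open Cfsg

namespace Cfsg.Agent.S4113

/-- Let G be a finite group, M ≤ N non-trivial proper normal subgroups, and H a subgroup with HM = G and H ∩ M = 1. Then every element of G outside N acts fixed-point-freely on M (C_G(x) ≤ N for every x ∈ M, x ≠ 1) if and only if H ∩ gHg⁻¹ ≤ H ∩ N for every g outside H, with H proper and non-trivial and H ∩ N proper in H. -/
theorem result {G : Type*} [Group G] [Finite G] (N M : Subgroup G) [N.Normal] [M.Normal] (hMN : M ≤ N) (hM1 : M ≠ ⊥) (hN2 : N ≠ ⊤)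
    (H : Subgroup G) (hHM : H ⊔ M = ⊤) (hHM' : H ⊓ M = ⊥) :
    (∀ x ∈ M, x ≠ 1 → Subgroup.centralizer ({x} : Set G) ≤ N) ↔
      (H ≠ ⊥ ∧ H ≠ ⊤ ∧ H ⊓ N < H ∧ ∀ g : G, g ∉ H → H ⊓ H.map (MulAut.conj g).toMonoidHom ≤ N) := by
  have hdec : ∀ g : G, ∃ m ∈ M, ∃ h ∈ H, g = m * h := by
    intro g
    have hg : g ∈ ((M ⊔ H : Subgroup G) : Set G) := by
      rw [sup_comm, hHM]; trivial
    rw [Subgroup.normal_mul] at hg
    obtain ⟨m, hm, h, hh, rfl⟩ := Set.mem_mul.mp hg
    exact ⟨m, hm, h, hh, rfl⟩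
  have hHMtriv : ∀ y, y ∈ H → y ∈ M → y = 1 := by
    intro y hyH hyM
    have : y ∈ H ⊓ M := ⟨hyH, hyM⟩
    rw [hHM'] at this
    exact Subgroup.mem_bot.mp this
  constructor
  · intro hfpf
    refine ⟨?_, ?_, ?_, ?_⟩
    · rintro rfl
      apply hN2
      rw [bot_sup_eq] at hHM
      rw [hHM] at hMN
      exact top_le_iff.mp hMN
    · rintro rfl
      apply hM1
      rw [top_inf_eq] at hHM'
      exact hHM'
    · refine lt_of_le_of_ne inf_le_left ?_
      intro h
      apply hN2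
      have hHN : H ≤ N := by rw [← h]; exact inf_le_right
      exact top_le_iff.mp (hHM ▸ sup_le hHN hMN)
    · intro g hg y hy
      obtain ⟨hyH, hy2⟩ := hy
      obtain ⟨h₁, hh₁, rfl⟩ := hy2
      obtain ⟨m, hm, h, hh, rfl⟩ := hdec g
      have hm1 : m ≠ 1 := by
        rintro rfl
        apply hg
        simpa using hh
      have hh₂H : h * h₁ * h⁻¹ ∈ H := H.mul_mem (H.mul_mem hh hh₁) (H.inv_mem hh)
      have hy : (MulAut.conj (m * h)).toMonoidHom h₁ = m * (h * h₁ * h⁻¹) * m⁻¹ := by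
        simp [MulAut.conj_apply, mul_assoc]
      rw [hy] at hyH ⊢
      generalize h * h₁ * h⁻¹ = h₂ at hh₂H hyH ⊢
      have h1 : m * h₂ * m⁻¹ * h₂⁻¹ = 1 := by
        apply hHMtriv
        · exact H.mul_mem hyH (H.inv_mem hh₂H)
        · have : m * h₂ * m⁻¹ * h₂⁻¹ = m * (h₂ * m⁻¹ * h₂⁻¹) := by group
          rw [this]
          exact M.mul_mem hm (Subgroup.Normal.conj_mem inferInstance _ (M.inv_mem hm) _)
      have h2 : m * h₂ * m⁻¹ = h₂ := by
        rw [mul_inv_eq_one] at h1; exact h1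
      rw [h2]
      apply hfpf m hm hm1
      rw [Subgroup.mem_centralizer_iff]
      intro z hz
      rw [Set.mem_singleton_iff] at hz
      subst hz
      exact mul_inv_eq_iff_eq_mul.mp h2
  · rintro ⟨-, -, -, hFW⟩ x hxM hx1 c hc
    obtain ⟨m, hm, h, hh, rfl⟩ := hdec c
    by_contra hcN
    have hhN : h ∉ N := by
      intro hhN
      exact hcN (N.mul_mem (hMN hm) hhN)
    -- Claim A: elements of M commuting with h are trivial
    have hA : ∀ w ∈ M, w * h = h * w → w = 1 := by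
      intro w hw hwh
      by_contra hw1
      have hwH : w ∉ H := fun hwH => hw1 (hHMtriv w hwH hw)
      apply hhN
      apply hFW w hwH
      refine ⟨hh, h, hh, ?_⟩
      simp only [MulEquiv.toMonoidHom_eq_coe, MonoidHom.coe_coe, MulAut.conj_apply]
      rw [hwh]; group
    -- Claim B: u ↦ u h u⁻¹ h⁻¹ is injective on M
    let φ : M → M := fun u => ⟨(u : G) * h * (u : G)⁻¹ * h⁻¹, by
      have : (u : G) * h * (u : G)⁻¹ * h⁻¹ = (u : G) * (h * (u : G)⁻¹ * h⁻¹) := by group
      rw [this]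
      exact M.mul_mem u.2 (Subgroup.Normal.conj_mem inferInstance _ (M.inv_mem u.2) _)⟩
    have hφ : Function.Injective φ := by
      intro u v huv
      have h3 : (u : G) * h * (u : G)⁻¹ * h⁻¹ = (v : G) * h * (v : G)⁻¹ * h⁻¹ := congrArg Subtype.val huv
      have h4 : ((v : G)⁻¹ * (u : G)) * h = h * ((v : G)⁻¹ * (u : G)) := by
        have h5 : (u : G) * h * (u : G)⁻¹ = (v : G) * h * (v : G)⁻¹ := mul_right_cancel h3
        calc ((v : G)⁻¹ * (u : G)) * h = (v : G)⁻¹ * ((u : G) * h * (u : G)⁻¹) * (u : G) := by group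
          _ = (v : G)⁻¹ * ((v : G) * h * (v : G)⁻¹) * (u : G) := by rw [h5]
          _ = h * ((v : G)⁻¹ * (u : G)) := by group
      have h6 := hA _ (M.mul_mem (M.inv_mem v.2) u.2) h4
      have h7 : (u : G) = (v : G) := by
        rw [inv_mul_eq_one] at h6; exact h6.symm
      exact Subtype.ext h7
    have hφs : Function.Surjective φ := Finite.surjective_of_injective hφ
    obtain ⟨u, hu⟩ := hφs ⟨m, hm⟩
    have hu' : (u : G) * h * (u : G)⁻¹ * h⁻¹ = m := congrArg Subtype.val hu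
    have hmh : m * h = (u : G) * h * (u : G)⁻¹ := by
      rw [← hu']; group
    rw [hmh, Subgroup.mem_centralizer_iff] at hc
    have hc' := hc x (Set.mem_singleton x)
    have h8 : ((u : G)⁻¹ * x * (u : G)) * h = h * ((u : G)⁻¹ * x * (u : G)) := by
      calc ((u : G)⁻¹ * x * (u : G)) * h = (u : G)⁻¹ * (x * ((u : G) * h * (u : G)⁻¹)) * (u : G) := by group
        _ = (u : G)⁻¹ * (((u : G) * h * (u : G)⁻¹) * x) * (u : G) := by rw [hc']
        _ = h * ((u : G)⁻¹ * x * (u : G)) := by group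
    have h9 : (u : G)⁻¹ * x * (u : G) ∈ M := by
      have := Subgroup.Normal.conj_mem (inferInstance : M.Normal) x hxM (u : G)⁻¹
      simpa using this
    have h10 := hA _ h9 h8
    apply hx1
    have : x = (u : G) * ((u : G)⁻¹ * x * (u : G)) * (u : G)⁻¹ := by group
    rw [this, h10]; group

end Cfsg.Agent.S4113
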