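import Cfsg.Statements.S4115
import Mathlib
import Cfsg.Agent.Lib.helper12.FrobWielandt
import Cfsg.Agent.Lib.helper12.FrobTools
import Cfsg.Agent.Lib.helper12.SylowNormal
import Cfsg.Agent.Lib.helper1.ThompsonFpf
import Cfsg.Agent.Lib.helper72.TIHall
-- import your own Cfsg.Agent.* helpers here

set_option autoImplicit false
universe u
open Cfsg

namespace Cfsg.Agent.S4115

open Cfsg.Agent.Lib.helper12 Cfsg.Agent.Lib.helper1
open scoped Pointwise

section lemmas

variable {G : Type u} [Group G] [Finite G]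

/-- Structure data extracted from a normal complement `K₁` of `H` in `N_G(H)`, for a TI subgroup
`H` whose order is coprime to its index in its normalizer: a normal complement `N` of `H` in `G`
with `N ⊓ N_G(H) = K`, where `K` (the image of `K₁`) centralizes `H` and has order coprime to
that of `H`. -/
theorem key (H N₀ : Subgroup G) (hHN₀ : H ≤ N₀) (hHn : (H.subgroupOf N₀).Normal)
    (hTI : ∀ g : G, g ∉ N₀ → ∀ x ∈ H, g * x * g⁻¹ ∈ H → x = 1)
    (hHall : (Nat.card H).Coprime (H.subgroupOf N₀).index)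
    (K₁ : Subgroup N₀) (hK₁n : K₁.Normal)
    (hK₁c : K₁.IsComplement' (H.subgroupOf N₀)) :
    ∃ (N K : Subgroup G), N.Normal ∧ N.IsComplement' H ∧
      N ⊓ N₀ = K ∧
      (∀ k ∈ K, ∀ h ∈ H, k * h = h * k) ∧ (Nat.card H).Coprime (Nat.card K) := by
  classical
  set K := K₁.map N₀.subtype with hKdef
  have hKN₀ : K ≤ N₀ := Subgroup.map_subtype_le K₁
  have hKsub : K.subgroupOf N₀ = K₁ :=
    Subgroup.comap_map_eq_self_of_injective (Subgroup.subtype_injective N₀) K₁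
  have hKcard : Nat.card K = Nat.card K₁ :=
    Subgroup.card_map_of_injective (Subgroup.subtype_injective N₀)
  have hHcard : Nat.card (H.subgroupOf N₀) = Nat.card H :=
    Nat.card_congr (Subgroup.subgroupOfEquivOfLe hHN₀).toEquiv
  have hidx : (H.subgroupOf N₀).index = Nat.card K := by
    rw [hKcard]; exact hK₁c.index_eq_card
  have hcop : (Nat.card H).Coprime (Nat.card K) := by rw [← hidx]; exact hHall
  have hN₀card : Nat.card N₀ = Nat.card K * Nat.card H := by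
    rw [hKcard, ← hHcard]; exact hK₁c.card_mul_card.symm
  have hdisj : Disjoint K₁ (H.subgroupOf N₀) := hK₁c.disjoint
  -- K and H commute elementwise
  have hcomm : ∀ k ∈ K, ∀ h ∈ H, k * h = h * k := by
    intro k hk h hh
    obtain ⟨k', hk', rfl⟩ := hk
    have := Subgroup.commute_of_normal_of_disjoint K₁ (H.subgroupOf N₀) hK₁n hHn hdisj k'
      (⟨h, hHN₀ hh⟩ : N₀) hk' (Subgroup.mem_subgroupOf.mpr hh)
    exact congrArg Subtype.val this.eq
  -- decomposition of elements of N₀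
  have hdec : ∀ x ∈ N₀, ∃ k ∈ K, ∃ h ∈ H, x = k * h := by
    intro x hx
    obtain ⟨⟨k, h⟩, hkh⟩ := hK₁c.2 (⟨x, hx⟩ : N₀)
    refine ⟨(k : N₀), ⟨(k : N₀), k.2, rfl⟩, ((h : N₀) : G), Subgroup.mem_subgroupOf.mp h.2, ?_⟩
    have := congrArg Subtype.val hkh
    simpa using this.symm
  have hKpow : ∀ k ∈ K, k ^ Nat.card K = 1 := by
    intro k hk
    have := pow_card_eq_one' (x := (⟨k, hk⟩ : K))
    exact congrArg Subtype.val this
  -- the Frobenius–Wielandt hypothesis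
  have hFW : ∀ g : G, g ∉ N₀ → N₀ ⊓ (MulAut.conj g • N₀) ≤ K := by
    intro g hg x hx
    obtain ⟨hx1, hx2⟩ := Subgroup.mem_inf.mp hx
    rw [mem_conj_smul_iff] at hx2
    obtain ⟨k₁, hk₁, h₁, hh₁, e₁⟩ := hdec x hx1
    obtain ⟨k₂, hk₂, h₂, hh₂, e₂⟩ := hdec _ hx2
    have hp1 : x ^ Nat.card K = h₁ ^ Nat.card K := by
      rw [e₁, (show Commute k₁ h₁ from hcomm k₁ hk₁ h₁ hh₁).mul_pow, hKpow k₁ hk₁, one_mul]
    have hp2 : (g⁻¹ * x * g) ^ Nat.card K = h₂ ^ Nat.card K := by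
      rw [e₂, (show Commute k₂ h₂ from hcomm k₂ hk₂ h₂ hh₂).mul_pow, hKpow k₂ hk₂, one_mul]
    have hconj : g⁻¹ * h₁ ^ Nat.card K * (g⁻¹)⁻¹ = h₂ ^ Nat.card K := by
      rw [← hp1, ← conj_pow, inv_inv]
      exact hp2
    have hg' : g⁻¹ ∉ N₀ := fun hh => hg (by simpa using N₀.inv_mem hh)
    have h1 : h₁ ^ Nat.card K = 1 :=
      hTI g⁻¹ hg' (h₁ ^ Nat.card K) (H.pow_mem hh₁ _) (by rw [hconj]; exact H.pow_mem hh₂ _)
    have ho1 : orderOf h₁ ∣ Nat.card K := orderOf_dvd_iff_pow_eq_one.mpr h1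
    have ho2 : orderOf h₁ ∣ Nat.card H := by
      have := orderOf_dvd_natCard (⟨h₁, hh₁⟩ : H)
      rwa [Subgroup.orderOf_mk] at this
    have ho : orderOf h₁ = 1 := Nat.eq_one_of_dvd_coprimes hcop ho2 ho1
    rw [orderOf_eq_one_iff] at ho
    rw [e₁, ho, mul_one]
    exact hk₁
  have hKn' : (K.subgroupOf N₀).Normal := by rw [hKsub]; exact hK₁n
  obtain ⟨N, hNn, -, hNinf, hNcard⟩ := frobenius_wielandt N₀ K hKN₀ hKn' hFW
  refine ⟨N, K, hNn, ?_, hNinf, hcomm, hcop⟩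
  apply Subgroup.isComplement'_of_card_mul_and_disjoint
  · rw [hN₀card] at hNcard
    have hKpos : 0 < Nat.card K := Nat.card_pos
    have : Nat.card K * (Nat.card N * Nat.card H) = Nat.card K * Nat.card G := by
      calc Nat.card K * (Nat.card N * Nat.card H) = Nat.card N * (Nat.card K * Nat.card H) := by ring
        _ = Nat.card G * Nat.card K := hNcard
        _ = Nat.card K * Nat.card G := by ring
    exact Nat.eq_of_mul_eq_mul_left hKpos this
  · rw [Subgroup.disjoint_def]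
    intro x hxN hxH
    have hxK : x ∈ K := by
      rw [← hNinf]; exact Subgroup.mem_inf.mpr ⟨hxN, hHN₀ hxH⟩
    obtain ⟨k', hk', rfl⟩ := hxK
    have h1 : k' ∈ H.subgroupOf N₀ := Subgroup.mem_subgroupOf.mpr hxH
    have h2 : k' = 1 := by
      rw [Subgroup.disjoint_def] at hdisj
      exact hdisj hk' h1
    rw [h2]; rfl


/-- powers of elements of a subgroup by its order -/
theorem pow_card_of_mem (H : Subgroup G) {h : G} (hh : h ∈ H) : h ^ Nat.card H = 1 := by
  have := pow_card_eq_one' (x := (⟨h, hh⟩ : H))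
  exact congrArg Subtype.val this

theorem orderOf_dvd_card_of_mem (H : Subgroup G) {h : G} (hh : h ∈ H) : orderOf h ∣ Nat.card H := by
  have := orderOf_dvd_natCard (⟨h, hh⟩ : H)
  rwa [Subgroup.orderOf_mk] at this

theorem part2 (H N₀ M K : Subgroup G) (hHN₀ : H ≤ N₀)
    (hTI : ∀ g : G, g ∉ N₀ → ∀ x ∈ H, g * x * g⁻¹ ∈ H → x = 1)
    (hMn : M.Normal) (hMc : M.IsComplement' H) (hinf : M ⊓ N₀ = K)
    (hcomm : ∀ k ∈ K, ∀ h ∈ H, k * h = h * k) (hcop : (Nat.card H).Coprime (Nat.card K))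
    (hMK : ¬ M ≤ K) (hH1 : H ≠ ⊥) :
    ∃ (F : Type u) (_ : Group F) (_ : Finite F) (C : Subgroup F),
      Cfsg.IsFrobeniusComplement C ∧ Nonempty (H ≃* C) := by
  classical
  have hKM : K ≤ M := by rw [← hinf]; exact inf_le_left
  have hMH : ∀ x, x ∈ M → x ∈ H → x = 1 := by
    intro x hxM hxH
    have := hMc.disjoint
    rw [Subgroup.disjoint_def] at this
    exact this hxM hxH
  have hcent : ∀ h ∈ H, h ≠ 1 → ∀ x ∈ M, x * h = h * x → x ∈ K := by
    intro h hh h1 x hx hc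
    by_contra hxK
    have hxN₀ : x ∉ N₀ := fun hn => hxK (by rw [← hinf]; exact Subgroup.mem_inf.mpr ⟨hx, hn⟩)
    have h2 : x * h * x⁻¹ ∈ H := by rw [hc]; simpa using hh
    exact h1 (hTI x hxN₀ h hh h2)
  obtain ⟨h₀, hh₀, hh₀1⟩ : ∃ h ∈ H, h ≠ 1 := by
    by_contra hcon
    apply hH1
    rw [Subgroup.eq_bot_iff_forall]
    intro h hh
    by_contra h1
    exact hcon ⟨h, hh, h1⟩
  have hcopM : (Nat.card H).Coprime (Nat.card M) := by
    by_contra hnc
    obtain ⟨p, hp, hpd⟩ := Nat.exists_prime_and_dvd hnc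
    have hpH : p ∣ Nat.card H := hpd.trans (Nat.gcd_dvd_left _ _)
    have hpM : p ∣ Nat.card M := hpd.trans (Nat.gcd_dvd_right _ _)
    have hpf : Fact p.Prime := ⟨hp⟩
    obtain ⟨u, hu⟩ := exists_prime_orderOf_dvd_card' (G := H) p hpH
    have hu' : orderOf (u : G) = p := by rw [Subgroup.orderOf_coe]; exact hu
    have hu1 : (u : G) ≠ 1 := by
      intro h1; rw [h1, orderOf_one] at hu'; exact hp.one_lt.ne hu'
    have hZ : IsPGroup p (Subgroup.zpowers (u : G)) := by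
      apply IsPGroup.of_card (n := 1)
      rw [Nat.card_zpowers, hu', pow_one]
    obtain ⟨S, hS⟩ := hZ.exists_le_sylow
    have huS : (u : G) ∈ (S : Subgroup G) := hS (Subgroup.mem_zpowers _)
    have hW : (S : Subgroup G) ⊓ M ≠ ⊥ := by
      intro h0
      have h1 := not_dvd_relIndex_of_normal S M
      rw [← Subgroup.inf_relIndex_right, h0, Subgroup.relIndex_bot_left] at h1
      exact h1 hpM
    have hnorm : (S : Subgroup G) ≤
        Subgroup.normalizer (((S : Subgroup G) ⊓ M : Subgroup G) : Set G) := by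
      intro s hs
      rw [Subgroup.mem_normalizer_iff]
      intro w
      constructor
      · rintro ⟨hw1, hw2⟩
        exact ⟨Subgroup.mul_mem _ (Subgroup.mul_mem _ hs hw1) (Subgroup.inv_mem _ hs),
          hMn.conj_mem w hw2 s⟩
      · rintro ⟨hw1, hw2⟩
        have e : w = s⁻¹ * (s * w * s⁻¹) * s := by group
        rw [e]
        refine ⟨Subgroup.mul_mem _ (Subgroup.mul_mem _ (Subgroup.inv_mem _ hs) hw1) hs, ?_⟩
        have := hMn.conj_mem _ hw2 s⁻¹
        simpa using this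
    obtain ⟨w, hw, hw1, hwc⟩ :=
      exists_central_of_le_isPGroup (S : Subgroup G) S.isPGroup' _ inf_le_left hnorm hW
    have hwK : w ∈ K := hcent (u : G) u.2 hu1 w hw.2 (hwc (u : G) huS).symm
    obtain ⟨k, hk⟩ := (S.isPGroup' ⟨w, hw.1⟩)
    have hk' : w ^ p ^ k = 1 := congrArg Subtype.val hk
    have ho : orderOf w ∣ p ^ k := orderOf_dvd_of_pow_eq_one hk'
    obtain ⟨j, hj, hjo⟩ := (Nat.dvd_prime_pow hp).mp ho
    have hj0 : j ≠ 0 := by
      intro h0; rw [h0, pow_zero, orderOf_eq_one_iff] at hjo; exact hw1 hjo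
    have hpw : p ∣ orderOf w := by rw [hjo]; exact dvd_pow_self p hj0
    have hpK : p ∣ Nat.card K := hpw.trans (orderOf_dvd_card_of_mem K hwK)
    exact absurd (Nat.eq_one_of_dvd_coprimes hcop hpH hpK) hp.one_lt.ne'
  -- the family of H-invariant subgroups of M not inside K
  let 𝒮 : Set (Subgroup G) :=
    {M' | M' ≤ M ∧ (∀ h ∈ H, ∀ x ∈ M', h * x * h⁻¹ ∈ M') ∧ ¬ M' ≤ K}
  have hMS : M ∈ 𝒮 := ⟨le_rfl, fun h _ x hx => hMn.conj_mem x hx h, hMK⟩
  obtain ⟨M₁, hM₁S, hM₁min⟩ :=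
    Set.exists_min_image 𝒮 (fun M' : Subgroup G => Nat.card M') (Set.toFinite 𝒮) ⟨M, hMS⟩
  obtain ⟨hM₁M, hM₁inv, hM₁K⟩ := hM₁S
  have hmin : ∀ M' : Subgroup G, M' ≤ M₁ → (∀ h ∈ H, ∀ x ∈ M', h * x * h⁻¹ ∈ M') →
      ¬ M' ≤ K → M' = M₁ := by
    intro M' hle hinv hnK
    exact Subgroup.eq_of_le_of_card_ge hle (hM₁min M' ⟨hle.trans hM₁M, hinv, hnK⟩)
  have hDH : ∀ h ∈ H, ∀ d ∈ M₁ ⊓ K, h * d * h⁻¹ = d := by
    intro h hh d hd
    rw [← hcomm d hd.2 h hh]; group
  -- step (i)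
  have hstep : ∀ m ∈ M₁, m ∉ K → ∀ e ∈ M₁ ⊓ K, m⁻¹ * e * m ∈ K →
      ∀ y ∈ M₁, y * e = e * y := by
    intro m hm hmK e he hme
    set Y : Subgroup G :=
      Subgroup.closure ((H : Set G) ∪ {z | ∃ h ∈ H, z = m * h * m⁻¹}) with hY
    have hYc : Y ≤ Subgroup.centralizer {e} := by
      rw [hY, Subgroup.closure_le]
      rintro z (hz | ⟨h, hh, rfl⟩)
      · rw [SetLike.mem_coe, Subgroup.mem_centralizer_iff]
        intro e' he'
        rw [Set.mem_singleton_iff] at he'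
        rw [he']
        exact hcomm e he.2 z hz
      · rw [SetLike.mem_coe, Subgroup.mem_centralizer_iff]
        intro e' he'
        rw [Set.mem_singleton_iff] at he'
        rw [he']
        have h1 := hcomm (m⁻¹ * e * m) hme h hh
        calc e * (m * h * m⁻¹) = m * (m⁻¹ * e * m * h) * m⁻¹ := by group
          _ = m * (h * (m⁻¹ * e * m)) * m⁻¹ := by rw [h1]
          _ = m * h * m⁻¹ * e := by group
    have hHY : H ≤ Y := by
      rw [hY]; exact fun z hz => Subgroup.subset_closure (Or.inl hz)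
    have hM₂inv : ∀ h ∈ H, ∀ x ∈ Y ⊓ M₁, h * x * h⁻¹ ∈ Y ⊓ M₁ := by
      intro h hh x hx
      exact ⟨Y.mul_mem (Y.mul_mem (hHY hh) hx.1) (Y.inv_mem (hHY hh)), hM₁inv h hh x hx.2⟩
    have hM₂K : ¬ (Y ⊓ M₁) ≤ K := by
      intro hle
      apply hmK
      have hc : ∀ h ∈ H, m * h * m⁻¹ * h⁻¹ ∈ K := by
        intro h hh
        apply hle
        refine ⟨Y.mul_mem (Subgroup.subset_closure (Or.inr ⟨h, hh, rfl⟩))
          (Y.inv_mem (hHY hh)), ?_⟩
        have : m * h * m⁻¹ * h⁻¹ = m * (h * m⁻¹ * h⁻¹) := by group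
        rw [this]
        exact M₁.mul_mem hm (hM₁inv h hh _ (M₁.inv_mem hm))
      have hc1 : m * h₀ * m⁻¹ * h₀⁻¹ = 1 := by
        have hcK := hc h₀ hh₀
        have hcomm' : Commute (m * h₀ * m⁻¹ * h₀⁻¹) h₀ := hcomm _ hcK h₀ hh₀
        have e1 : m * h₀ * m⁻¹ = (m * h₀ * m⁻¹ * h₀⁻¹) * h₀ := by group
        have e2 : ((m * h₀ * m⁻¹ * h₀⁻¹) * h₀) ^ Nat.card H = 1 := by
          rw [← e1, conj_pow, pow_card_of_mem H hh₀]; group
        rw [hcomm'.mul_pow, pow_card_of_mem H hh₀, mul_one] at e2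
        have ho1 : orderOf (m * h₀ * m⁻¹ * h₀⁻¹) ∣ Nat.card H := orderOf_dvd_of_pow_eq_one e2
        have ho2 : orderOf (m * h₀ * m⁻¹ * h₀⁻¹) ∣ Nat.card K := orderOf_dvd_card_of_mem K hcK
        exact orderOf_eq_one_iff.mp (Nat.eq_one_of_dvd_coprimes hcop ho1 ho2)
      apply hcent h₀ hh₀ hh₀1 m (hM₁M hm)
      calc m * h₀ = (m * h₀ * m⁻¹ * h₀⁻¹) * h₀ * m := by group
        _ = h₀ * m := by rw [hc1, one_mul]
    have hM₂ : Y ⊓ M₁ = M₁ := hmin _ inf_le_right hM₂inv hM₂K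
    intro y hy
    have hyY : y ∈ Y := by
      have : y ∈ Y ⊓ M₁ := by rw [hM₂]; exact hy
      exact this.1
    have := hYc hyY
    rw [Subgroup.mem_centralizer_iff] at this
    exact (this e (Set.mem_singleton e)).symm
  -- D := M₁ ⊓ K is centralized by M₁ (Frobenius–Wielandt inside M₁)
  have hDcentral : ∀ d ∈ M₁ ⊓ K, ∀ y ∈ M₁, y * d = d * y := by
    obtain ⟨L, hL⟩ : ∃ L : Subgroup M₁, L = (M₁ ⊓ K).subgroupOf M₁ := ⟨_, rfl⟩
    obtain ⟨K', hK'⟩ : ∃ K' : Subgroup M₁,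
      K' = ((M₁ ⊓ K) ⊓ Subgroup.centralizer (M₁ : Set G)).subgroupOf M₁ := ⟨_, rfl⟩
    have hLmem : ∀ x : M₁, x ∈ L ↔ (x : G) ∈ K := by
      intro x; rw [hL, Subgroup.mem_subgroupOf]
      exact ⟨fun h => h.2, fun h => ⟨x.2, h⟩⟩
    have hK'mem : ∀ x : M₁, x ∈ K' ↔ ((x : G) ∈ K ∧ ∀ y ∈ M₁, y * (x : G) = (x : G) * y) := by
      intro x; rw [hK', Subgroup.mem_subgroupOf]
      constructor
      · rintro ⟨h1, h2⟩
        exact ⟨h1.2, fun y hy => Subgroup.mem_centralizer_iff.mp h2 y hy⟩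
      · rintro ⟨h1, h2⟩
        exact ⟨⟨x.2, h1⟩, Subgroup.mem_centralizer_iff.mpr h2⟩
    have hK'L : K' ≤ L := by
      intro x hx
      rw [hLmem]; exact ((hK'mem x).mp hx).1
    have hK'n : (K'.subgroupOf L).Normal := by
      constructor
      intro n hn g
      rw [Subgroup.mem_subgroupOf] at hn ⊢
      have hcen := ((hK'mem _).mp hn).2
      have e : ((g * n * g⁻¹ : L) : M₁) = (n : M₁) := by
        apply Subtype.ext
        have := hcen ((g : M₁) : G) (g : M₁).2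
        simp only [Subgroup.coe_mul, Subgroup.coe_inv]
        rw [this]; group
      rw [e]; exact hn
    have hTI' : ∀ g : M₁, g ∉ L → L ⊓ (MulAut.conj g • L) ≤ K' := by
      intro g hg x hx
      obtain ⟨hx1, hx2⟩ := Subgroup.mem_inf.mp hx
      rw [mem_conj_smul_iff] at hx2
      rw [hLmem] at hx1 hx2 hg
      rw [hK'mem]
      have h3 : (g : G)⁻¹ * (x : G) * (g : G) ∈ K := by simpa using hx2
      exact ⟨hx1, hstep (g : G) g.2 hg (x : G) ⟨x.2, hx1⟩ h3⟩
    obtain ⟨N₂, hN₂n, hN₂mem, hN₂inf, hN₂card⟩ := frobenius_wielandt L K' hK'L hK'n hTI'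
    have hN₂inv : ∀ h ∈ H, ∀ x ∈ N₂.map M₁.subtype, h * x * h⁻¹ ∈ N₂.map M₁.subtype := by
      intro h hh x hx
      obtain ⟨x', hx', rfl⟩ := hx
      have hy : h * (x' : G) * h⁻¹ ∈ M₁ := hM₁inv h hh _ x'.2
      refine ⟨⟨h * (x' : G) * h⁻¹, hy⟩, ?_, rfl⟩
      rw [SetLike.mem_coe, hN₂mem]
      intro g hgL
      have hg' : h⁻¹ * (g : G) * h ∈ M₁ := by
        have := hM₁inv h⁻¹ (H.inv_mem hh) _ g.2
        simpa using this
      have hval : ((g⁻¹ * ⟨h * (x' : G) * h⁻¹, hy⟩ * g : M₁) : G) ∈ M₁ ⊓ K :=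
        ⟨(g⁻¹ * ⟨h * (x' : G) * h⁻¹, hy⟩ * g : M₁).2, (hLmem _).mp hgL⟩
      have hfix := hDH h⁻¹ (H.inv_mem hh) _ hval
      have heq : (⟨h⁻¹ * (g : G) * h, hg'⟩ : M₁)⁻¹ * x' * ⟨h⁻¹ * (g : G) * h, hg'⟩
          = g⁻¹ * ⟨h * (x' : G) * h⁻¹, hy⟩ * g := by
        apply Subtype.ext
        refine Eq.trans ?_ hfix
        simp only [Subgroup.coe_mul, Subgroup.coe_inv]
        group
      have := (hN₂mem x').mp hx' ⟨h⁻¹ * (g : G) * h, hg'⟩
      rw [heq] at this
      exact this hgL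
    have hN₂le : N₂.map M₁.subtype ≤ M₁ := Subgroup.map_subtype_le N₂
    by_cases hN₂K : N₂.map M₁.subtype ≤ K
    · exfalso
      have hN₂L : N₂ ≤ L := by
        intro x hx
        rw [hLmem]
        exact hN₂K ⟨x, hx, rfl⟩
      have hN₂eq : N₂ = K' := by rw [← hN₂inf]; exact (inf_eq_left.mpr hN₂L).symm
      rw [hN₂eq] at hN₂card
      have hK'pos : 0 < Nat.card K' := Nat.card_pos
      have hLcard : Nat.card L = Nat.card M₁ := by
        apply Nat.eq_of_mul_eq_mul_left hK'pos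
        rw [hN₂card]; ring
      have hLtop : L = ⊤ := (Subgroup.card_eq_iff_eq_top L).mp hLcard
      apply hM₁K
      intro x hx
      have : (⟨x, hx⟩ : M₁) ∈ L := by rw [hLtop]; trivial
      exact (hLmem _).mp this
    · have hN₂top := hmin _ hN₂le hN₂inv hN₂K
      have hN₂top' : N₂ = ⊤ := by
        rw [eq_top_iff]
        intro x _
        have : (x : G) ∈ N₂.map M₁.subtype := by rw [hN₂top]; exact x.2
        obtain ⟨x', hx', hxe⟩ := this
        have : x' = x := Subtype.ext hxe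
        rw [← this]; exact hx'
      rw [hN₂top', top_inf_eq] at hN₂inf
      intro d hd y hy
      have hdL : (⟨d, hd.1⟩ : M₁) ∈ L := (hLmem _).mpr hd.2
      rw [hN₂inf] at hdL
      exact ((hK'mem _).mp hdL).2 y hy
  -- now build the Frobenius group via helper72's section lemma
  have hDnorm : M₁ ≤ Subgroup.normalizer ((M₁ ⊓ K : Subgroup G) : Set G) := by
    rw [Subgroup.le_normalizer_iff]
    intro y hy d hd
    rw [hDcentral d hd y hy]
    simpa using hd
  have hHM₁ : H ≤ Subgroup.normalizer (M₁ : Set G) := by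
    rw [Subgroup.le_normalizer_iff]
    exact hM₁inv
  have hHD : H ≤ Subgroup.normalizer ((M₁ ⊓ K : Subgroup G) : Set G) := by
    rw [Subgroup.le_normalizer_iff]
    intro h hh d hd
    rw [hDH h hh d hd]; exact hd
  refine Cfsg.Agent.Lib.helper72.exists_frobenius_of_section H M₁ (M₁ ⊓ K) inf_le_left hDnorm
    (fun hle => hM₁K (hle.trans inf_le_right)) hHM₁ hHD hH1 ?_
  intro a ha ha1 t ht hd
  have hdK : a * t * a⁻¹ * t⁻¹ ∈ K := hd.2
  have hcd : Commute (a * t * a⁻¹ * t⁻¹) a⁻¹ := hcomm _ hdK a⁻¹ (H.inv_mem ha)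
  have e1 : t * a⁻¹ * t⁻¹ = a⁻¹ * (a * t * a⁻¹ * t⁻¹) := by group
  have e2 : (a⁻¹ * (a * t * a⁻¹ * t⁻¹)) ^ Nat.card H = 1 := by
    rw [← e1, conj_pow, pow_card_of_mem H (H.inv_mem ha)]; group
  rw [hcd.symm.mul_pow, pow_card_of_mem H (H.inv_mem ha), one_mul] at e2
  have hd1 : a * t * a⁻¹ * t⁻¹ = 1 := by
    have ho1 : orderOf (a * t * a⁻¹ * t⁻¹) ∣ Nat.card H := orderOf_dvd_of_pow_eq_one e2
    have ho2 : orderOf (a * t * a⁻¹ * t⁻¹) ∣ Nat.card K := orderOf_dvd_card_of_mem K hdK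
    exact orderOf_eq_one_iff.mp (Nat.eq_one_of_dvd_coprimes hcop ho1 ho2)
  have hta : t * a = a * t := by
    calc t * a = (a * t * a⁻¹ * t⁻¹)⁻¹ * (a * t) := by group
      _ = a * t := by rw [hd1]; simp
  exact ⟨ht, hcent a ha ha1 t (hM₁M ht) hta⟩

end lemmas

/-- Let G be a finite group and H a subgroup that meets each of its conjugates by elements outside N_G(H) trivially and whose order is coprime to its index in N_G(H). Then H has a normal complement in N_G(H) if and only if H has a normal complement in G. Moreover, if H is not normal in G and has a normal complement in N_G(H), then H is isomorphic to a Frobenius complement of some finite Frobenius group. -/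
theorem result {G : Type u} [Group G] [Finite G] (H : Subgroup G)
    (hTI : Cfsg.IsTISubset (H : Set G)) (hHall : (Nat.card H).Coprime (H.subgroupOf (Subgroup.normalizer (H : Set G))).index) :
    ((∃ K : Subgroup (Subgroup.normalizer (H : Set G)), K.Normal ∧ K.IsComplement' (H.subgroupOf (Subgroup.normalizer (H : Set G)))) ↔
      (∃ N : Subgroup G, N.Normal ∧ N.IsComplement' H)) ∧
    (¬ H.Normal → (∃ K : Subgroup (Subgroup.normalizer (H : Set G)), K.Normal ∧ K.IsComplement' (H.subgroupOf (Subgroup.normalizer (H : Set G)))) →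
      ∃ (F : Type u) (_ : Group F) (_ : Finite F) (C : Subgroup F), Cfsg.IsFrobeniusComplement C ∧ Nonempty (H ≃* C)) := by
  classical
  have hHN₀ : H ≤ Subgroup.normalizer (H : Set G) := Subgroup.le_normalizer
  have hHn : (H.subgroupOf (Subgroup.normalizer (H : Set G))).Normal :=
    Subgroup.normal_in_normalizer
  have hTI' : ∀ g : G, g ∉ Subgroup.normalizer (H : Set G) → ∀ x ∈ H, g * x * g⁻¹ ∈ H → x = 1 :=
    fun g hg x hx hgx => hTI g hg x hx hgx
  refine ⟨⟨?_, ?_⟩, ?_⟩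
  · rintro ⟨K₁, hK₁n, hK₁c⟩
    obtain ⟨N, K, hNn, hNc, -⟩ := key H _ hHN₀ hHn hTI' hHall K₁ hK₁n hK₁c
    exact ⟨N, hNn, hNc⟩
  · rintro ⟨N, hNn, hNc⟩
    refine ⟨N.subgroupOf _, hNn.subgroupOf _, ?_⟩
    apply Subgroup.isComplement'_of_disjoint_and_mul_eq_univ
    · rw [Subgroup.disjoint_def]
      intro x hx1 hx2
      have := hNc.disjoint
      rw [Subgroup.disjoint_def] at this
      exact Subtype.ext (this (Subgroup.mem_subgroupOf.mp hx1) (Subgroup.mem_subgroupOf.mp hx2))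
    · rw [Set.eq_univ_iff_forall]
      intro x
      obtain ⟨⟨n, h⟩, hnh⟩ := hNc.2 (x : G)
      have hnh' : (n : G) * (h : G) = (x : G) := hnh
      have hn : (n : G) ∈ Subgroup.normalizer (H : Set G) := by
        have : (n : G) = (x : G) * (h : G)⁻¹ := by rw [← hnh']; group
        rw [this]
        exact Subgroup.mul_mem _ x.2 (Subgroup.inv_mem _ (hHN₀ h.2))
      rw [Set.mem_mul]
      refine ⟨⟨(n : G), hn⟩, Subgroup.mem_subgroupOf.mpr n.2, ⟨(h : G), hHN₀ h.2⟩,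
        Subgroup.mem_subgroupOf.mpr h.2, Subtype.ext hnh'⟩
  · rintro hnn ⟨K₁, hK₁n, hK₁c⟩
    obtain ⟨N, K, hNn, hNc, hinf, hcomm, hcop⟩ := key H _ hHN₀ hHn hTI' hHall K₁ hK₁n hK₁c
    apply part2 H _ N K hHN₀ hTI' hNn hNc hinf hcomm hcop
    · intro hNK
      apply hnn
      have hNN₀ : N ≤ Subgroup.normalizer (H : Set G) := by
        intro x hx
        have := hNK hx
        rw [← hinf] at this
        exact this.2
      have htop : Subgroup.normalizer (H : Set G) = ⊤ := by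
        rw [eq_top_iff]
        intro x _
        obtain ⟨⟨n, h⟩, hnh⟩ := hNc.2 x
        have hnh' : (n : G) * (h : G) = x := hnh
        rw [← hnh']
        exact Subgroup.mul_mem _ (hNN₀ n.2) (hHN₀ h.2)
      exact Subgroup.normalizer_eq_top_iff.mp htop
    · intro hbot
      apply hnn
      rw [hbot]
      infer_instance

end Cfsg.Agent.S4115
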