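import Cfsg.Statements.S4116

set_option autoImplicit false
open Cfsg

namespace Cfsg.Agent.S4116

lemma mem_conj {G : Type*} [Group G] (H : Subgroup G) (g x : G) :
    x ∈ H.map (MulAut.conj g).toMonoidHom ↔ g⁻¹ * x * g ∈ H := by
  constructor
  · rintro ⟨h, hh, rfl⟩
    have : g⁻¹ * (MulAut.conj g).toMonoidHom h * g = h := by
      simp [MulAut.conj_apply, mul_assoc]
    rw [this]; exact hh
  · intro h
    exact ⟨g⁻¹ * x * g, h, by simp [MulAut.conj_apply, mul_assoc]⟩

/-- A `π(H)`-element normalizing the Hall subgroup `H` lies in `H`. -/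
lemma mem_of_mem_normalizer {G : Type*} [Group G] [Finite G] (H : Subgroup G)
    (hHall : (Nat.card H).Coprime H.index) (c : G) (hc : c ∈ Subgroup.normalizer (H : Set G))
    (hπ : ∀ q : ℕ, q.Prime → q ∣ orderOf c → q ∣ Nat.card H) : c ∈ H := by
  have hle : H ≤ Subgroup.normalizer (H : Set G) := Subgroup.le_normalizer
  have hnorm : (H.subgroupOf (Subgroup.normalizer (H : Set G))).Normal := Subgroup.normal_in_normalizer
  set cbar : Subgroup.normalizer (H : Set G) ⧸ H.subgroupOf (Subgroup.normalizer (H : Set G)) :=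
    QuotientGroup.mk ⟨c, hc⟩ with hcbar
  have h1 : orderOf cbar ∣ orderOf c := by
    have := orderOf_map_dvd (QuotientGroup.mk' (H.subgroupOf (Subgroup.normalizer (H : Set G))))
      (⟨c, hc⟩ : Subgroup.normalizer (H : Set G))
    rwa [Subgroup.orderOf_mk] at this
  have h2 : orderOf cbar ∣ H.index := by
    have h3 : orderOf cbar ∣
        Nat.card (Subgroup.normalizer (H : Set G) ⧸ H.subgroupOf (Subgroup.normalizer (H : Set G))) :=
      orderOf_dvd_natCard _
    exact dvd_trans h3 (Subgroup.relIndex_dvd_index_of_le hle)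
  have h5 : orderOf cbar = 1 := by
    by_contra hne
    obtain ⟨q, hq, hqd⟩ := Nat.exists_prime_and_dvd hne
    have h6 := hπ q hq (dvd_trans hqd h1)
    have h7 := dvd_trans hqd h2
    exact hq.one_lt.ne' (Nat.Coprime.eq_one_of_dvd (Nat.Coprime.coprime_dvd_left h6 hHall) h7)
  rw [orderOf_eq_one_iff, hcbar, QuotientGroup.eq_one_iff, Subgroup.mem_subgroupOf] at h5
  exact h5

/-- Every nontrivial `π(H)`-element lies in a conjugate of the TI Hall subgroup `H`. -/
lemma exists_conj_mem {G : Type*} [Group G] [Finite G] (H : Subgroup G)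
    (hHall : (Nat.card H).Coprime H.index) (hTI : Cfsg.IsTISubset (H : Set G))
    (y : G) (hy1 : y ≠ 1) (hπ : ∀ q : ℕ, q.Prime → q ∣ orderOf y → q ∣ Nat.card H) :
    ∃ g : G, g⁻¹ * y * g ∈ H := by
  have hoy : orderOf y ≠ 1 := by
    rw [Ne, orderOf_eq_one_iff]; exact hy1
  obtain ⟨q, hq, hqy⟩ := Nat.exists_prime_and_dvd hoy
  have hfact : Fact q.Prime := ⟨hq⟩
  set z := y ^ (orderOf y / q) with hz
  have hzord : orderOf z = q := orderOf_pow_orderOf_div (orderOf_pos y).ne' hqy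
  have hz1 : z ≠ 1 := by
    intro h
    rw [h, orderOf_one] at hzord
    exact hq.one_lt.ne' hzord.symm
  have hZ : IsPGroup q (Subgroup.zpowers z) := by
    apply IsPGroup.of_card (n := 1)
    rw [Nat.card_zpowers, hzord, pow_one]
  have hqH : ¬ q ∣ Nat.card (G ⧸ H) := by
    intro h
    have h6 := hπ q hq hqy
    exact hq.one_lt.ne' (Nat.Coprime.eq_one_of_dvd (Nat.Coprime.coprime_dvd_left h6 hHall) h)
  obtain ⟨x, hx⟩ := hZ.nonempty_fixed_point_of_prime_not_dvd_card (G ⧸ H) hqH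
  induction x using QuotientGroup.induction_on with
  | H g =>
    have hzg : g⁻¹ * z * g ∈ H := by
      have h1 := hx ⟨z, Subgroup.mem_zpowers z⟩
      have h2 : (QuotientGroup.mk (z * g) : G ⧸ H) = QuotientGroup.mk g := h1
      rw [QuotientGroup.eq] at h2
      have h3 : g⁻¹ * z * g = ((z * g)⁻¹ * g)⁻¹ := by group
      rw [h3]
      exact H.inv_mem h2
    have hzg1 : g⁻¹ * z * g ≠ 1 := by
      intro h
      apply hz1
      have : z = g * (g⁻¹ * z * g) * g⁻¹ := by group
      rw [this, h]; group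
    refine ⟨g, ?_⟩
    apply mem_of_mem_normalizer H hHall
    · by_contra hn
      apply hzg1
      apply hTI (g⁻¹ * y * g) hn (g⁻¹ * z * g) hzg
      have hcomm : y * z = z * y := by
        rw [hz]
        exact ((Commute.refl y).pow_right _).eq
      have : g⁻¹ * y * g * (g⁻¹ * z * g) * (g⁻¹ * y * g)⁻¹ = g⁻¹ * z * g := by
        calc g⁻¹ * y * g * (g⁻¹ * z * g) * (g⁻¹ * y * g)⁻¹ = g⁻¹ * (y * z) * y⁻¹ * g := by group
          _ = g⁻¹ * (z * y) * y⁻¹ * g := by rw [hcomm]
          _ = g⁻¹ * z * g := by group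
      rw [this]; exact hzg
    · intro q' hq' hq'd
      apply hπ q' hq'
      have : orderOf (g⁻¹ * y * g) = orderOf y := by
        have := orderOf_injective (MulAut.conj g⁻¹).toMonoidHom (MulAut.conj g⁻¹).injective y
        simpa [MulAut.conj_apply] using this
      rwa [this] at hq'd

/-- Counting lemma: the set of conjugates of the nontrivial elements of a self-normalizing TI subgroup. -/
lemma card_conj_set {K : Type*} [Group K] [Finite K] (A : Subgroup K)
    (hd : ∀ (k y : K), y ≠ 1 → y ∈ A → k * y * k⁻¹ ∈ A → k ∈ A) :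
    Nat.card {x : K | ∃ k y : K, y ∈ A ∧ y ≠ 1 ∧ x = k * y * k⁻¹} = A.index * (Nat.card A - 1) := by
  classical
  let f : (K ⧸ A) × {y : A // y ≠ 1} → K := fun p => p.1.out * (p.2.1 : K) * (p.1.out)⁻¹
  have hf : Function.Injective f := by
    rintro ⟨q, y, hy⟩ ⟨q', y', hy'⟩ h
    have h1 : q.out * (y : K) * (q.out)⁻¹ = q'.out * (y' : K) * (q'.out)⁻¹ := h
    have h2 : (q'.out)⁻¹ * q.out * (y : K) * ((q'.out)⁻¹ * q.out)⁻¹ = (y' : K) := by
      calc (q'.out)⁻¹ * q.out * (y : K) * ((q'.out)⁻¹ * q.out)⁻¹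
          = (q'.out)⁻¹ * (q.out * (y : K) * (q.out)⁻¹) * q'.out := by group
        _ = (q'.out)⁻¹ * (q'.out * (y' : K) * (q'.out)⁻¹) * q'.out := by rw [h1]
        _ = (y' : K) := by group
    have hy1 : (y : K) ≠ 1 := fun h => hy (Subtype.ext h)
    have h3 : (q'.out)⁻¹ * q.out ∈ A := hd _ (y : K) hy1 y.2 (h2 ▸ y'.2)
    have h4 : q' = q := by
      rw [← QuotientGroup.out_eq' q', ← QuotientGroup.out_eq' q, QuotientGroup.eq]
      exact h3
    subst h4
    have h5 : (y : K) = (y' : K) := by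
      have := mul_left_cancel (mul_right_cancel h1)
      exact this
    have h6 : y = y' := Subtype.ext h5
    subst h6
    rfl
  have hrange : Set.range f = {x : K | ∃ k y : K, y ∈ A ∧ y ≠ 1 ∧ x = k * y * k⁻¹} := by
    ext x
    constructor
    · rintro ⟨⟨q, y, hy⟩, rfl⟩
      exact ⟨q.out, (y : K), y.2, fun h => hy (Subtype.ext h), rfl⟩
    · rintro ⟨k, y, hyA, hy1, rfl⟩
      set q : K ⧸ A := QuotientGroup.mk k with hq
      have h1 : (q.out)⁻¹ * k ∈ A := by
        rw [← QuotientGroup.eq, QuotientGroup.out_eq']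
      set c := (q.out)⁻¹ * k with hc
      have h2 : c * y * c⁻¹ ∈ A := A.mul_mem (A.mul_mem h1 hyA) (A.inv_mem h1)
      have h3 : (⟨c * y * c⁻¹, h2⟩ : A) ≠ 1 := by
        intro h
        apply hy1
        have h4 : c * y * c⁻¹ = 1 := congrArg Subtype.val h
        have : y = c⁻¹ * (c * y * c⁻¹) * c := by group
        rw [this, h4]; group
      refine ⟨(q, ⟨⟨c * y * c⁻¹, h2⟩, h3⟩), ?_⟩
      show q.out * (c * y * c⁻¹) * (q.out)⁻¹ = k * y * k⁻¹
      rw [hc]; group
  rw [← hrange]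
  have h1 : Nat.card (Set.range f) = Nat.card ((K ⧸ A) × {y : A // y ≠ 1}) :=
    Nat.card_congr (Equiv.ofInjective f hf).symm
  rw [h1, Nat.card_prod]
  congr 1
  have h2 : Nat.card {y : A // y ≠ 1} = Nat.card A - 1 := by
    have := Fintype.ofFinite A
    rw [Nat.card_eq_fintype_card, Nat.card_eq_fintype_card, Fintype.card_subtype_compl]
    simp
  exact h2

/-- Abstract counting lemma: a finite group partitioned by a conjugation-invariant family of
self-normalizing TI subgroups coincides with one of them. -/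
lemma count_main {K : Type*} [Group K] [Finite K] {ι : Type*} [Nonempty ι] (S : ι → Subgroup K)
    (ha : ∀ y : K, y ≠ 1 → ∃ i, y ∈ S i)
    (hb : ∀ i j, (∃ y, y ≠ 1 ∧ y ∈ S i ∧ y ∈ S j) → S i = S j)
    (hc : ∀ (k : K) i, ∃ j, ∀ y, y ∈ S i ↔ k * y * k⁻¹ ∈ S j)
    (hd : ∀ (k : K) i y, y ≠ 1 → y ∈ S i → k * y * k⁻¹ ∈ S i → k ∈ S i) :
    ∃ i, S i = ⊤ := by
  classical
  by_cases htriv : ∀ y : K, y = 1
  · obtain ⟨i⟩ := (inferInstance : Nonempty ι)
    refine ⟨i, ?_⟩
    rw [Subgroup.eq_top_iff']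
    intro y
    rw [htriv y]; exact (S i).one_mem
  push Not at htriv
  obtain ⟨y₁, hy₁⟩ := htriv
  obtain ⟨i₁, hi₁⟩ := ha y₁ hy₁
  by_contra hcon
  push Not at hcon
  -- generic facts about a member containing a nontrivial element
  have hcardK : 0 < Nat.card K := Nat.card_pos
  have key : ∀ i, (∃ y, y ≠ 1 ∧ y ∈ S i) →
      Nat.card K ≤ 2 * Nat.card {x : K | ∃ k y : K, y ∈ S i ∧ y ≠ 1 ∧ x = k * y * k⁻¹} ∧
      Nat.card {x : K | ∃ k y : K, y ∈ S i ∧ y ≠ 1 ∧ x = k * y * k⁻¹} + 1 < Nat.card K := by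
    rintro i ⟨y, hy1, hyi⟩
    rw [card_conj_set (S i) (fun k y => hd k i y)]
    have h1 : (S i).index * Nat.card (S i) = Nat.card K := Subgroup.index_mul_card (S i)
    have h2 : 2 ≤ Nat.card (S i) := by
      have : (S i) ≠ ⊥ := by
        intro h
        rw [h, Subgroup.mem_bot] at hyi
        exact hy1 hyi
      have := (Subgroup.one_lt_card_iff_ne_bot (S i)).mpr this
      omega
    have h3 : 2 ≤ (S i).index := by
      have h4 : (S i).index ≠ 1 := fun h => hcon i (Subgroup.index_eq_one.mp h)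
      have h5 : (S i).index ≠ 0 := Subgroup.index_ne_zero_of_finite
      omega
    generalize (S i).index = a at h1 h3 ⊢
    generalize Nat.card (S i) = s at h1 h2 ⊢
    obtain ⟨s', rfl⟩ : ∃ s', s = s' + 2 := ⟨s - 2, by omega⟩
    obtain ⟨a', rfl⟩ : ∃ a', a = a' + 2 := ⟨a - 2, by omega⟩
    rw [← h1]
    have h6 : s' + 2 - 1 = s' + 1 := by omega
    rw [h6]
    constructor
    · nlinarith
    · nlinarith
  obtain ⟨hA1, hA2⟩ := key i₁ ⟨y₁, hy₁, hi₁⟩
  set VA := {x : K | ∃ k y : K, y ∈ S i₁ ∧ y ≠ 1 ∧ x = k * y * k⁻¹} with hVA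
  -- an element outside VA ∪ {1}
  have hex : ∃ y₂ : K, y₂ ≠ 1 ∧ y₂ ∉ VA := by
    by_contra hno
    push Not at hno
    have hsub : (Set.univ : Set K) ⊆ insert 1 VA := by
      intro x _
      by_cases hx : x = 1
      · exact Or.inl hx
      · exact Or.inr (hno x hx)
    have h1 : Nat.card K ≤ Nat.card VA + 1 := by
      have h2 : (Set.univ : Set K).ncard ≤ (insert 1 VA).ncard := Set.ncard_le_ncard hsub (Set.toFinite _)
      have h3 : (insert 1 VA).ncard ≤ Nat.card VA + 1 := by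
        rw [Nat.card_coe_set_eq]; exact Set.ncard_insert_le 1 VA
      rw [Set.ncard_univ] at h2
      omega
    omega
  obtain ⟨y₂, hy₂, hy₂A⟩ := hex
  obtain ⟨i₂, hi₂⟩ := ha y₂ hy₂
  obtain ⟨hB1, hB2⟩ := key i₂ ⟨y₂, hy₂, hi₂⟩
  set VB := {x : K | ∃ k y : K, y ∈ S i₂ ∧ y ≠ 1 ∧ x = k * y * k⁻¹} with hVB
  have hdisj : Disjoint VA VB := by
    rw [Set.disjoint_left]
    rintro x ⟨k, y, hyA, hy1, rfl⟩ ⟨k', y', hyB, hy'1, hxx⟩
    apply hy₂A
    -- y = (k⁻¹ k') y' (k⁻¹ k')⁻¹
    obtain ⟨j, hj⟩ := hc (k⁻¹ * k') i₂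
    have h1 : (k⁻¹ * k') * y' * (k⁻¹ * k')⁻¹ = y := by
      calc (k⁻¹ * k') * y' * (k⁻¹ * k')⁻¹ = k⁻¹ * (k' * y' * k'⁻¹) * k := by group
        _ = k⁻¹ * (k * y * k⁻¹) * k := by rw [hxx]
        _ = y := by group
    have h2 : y ∈ S j := by
      rw [← h1]; exact (hj y').mp hyB
    have h3 : S i₁ = S j := hb i₁ j ⟨y, hy1, hyA, h2⟩
    have h4 : (k⁻¹ * k') * y₂ * (k⁻¹ * k')⁻¹ ∈ S i₁ := by
      rw [h3]; exact (hj y₂).mp hi₂
    refine ⟨(k⁻¹ * k')⁻¹, (k⁻¹ * k') * y₂ * (k⁻¹ * k')⁻¹, h4, ?_, by group⟩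
    intro h
    apply hy₂
    have : y₂ = (k⁻¹ * k')⁻¹ * ((k⁻¹ * k') * y₂ * (k⁻¹ * k')⁻¹) * (k⁻¹ * k') := by group
    rw [this, h]; group
  have hone : ∀ i, (1 : K) ∉ {x : K | ∃ k y : K, y ∈ S i ∧ y ≠ 1 ∧ x = k * y * k⁻¹} := by
    rintro i ⟨k, y, -, hy1, h⟩
    apply hy1
    have : y = k⁻¹ * (k * y * k⁻¹) * k := by group
    rw [this, ← h]; group
  have hunion : Nat.card VA + Nat.card VB + 1 ≤ Nat.card K := by
    have h1 : (VA ∪ VB).ncard = VA.ncard + VB.ncard :=
      Set.ncard_union_eq hdisj (Set.toFinite _) (Set.toFinite _)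
    have h2 : (1 : K) ∉ VA ∪ VB := by
      rintro (h | h)
      · exact hone i₁ h
      · exact hone i₂ h
    have h3 : (insert 1 (VA ∪ VB)).ncard = (VA ∪ VB).ncard + 1 :=
      Set.ncard_insert_of_notMem h2 (Set.toFinite _)
    have h4 : (insert 1 (VA ∪ VB)).ncard ≤ (Set.univ : Set K).ncard :=
      Set.ncard_le_ncard (Set.subset_univ _) (Set.toFinite _)
    rw [Set.ncard_univ] at h4
    rw [← Nat.card_coe_set_eq VA, ← Nat.card_coe_set_eq VB] at h1
    omega
  omega

/-- Let G be a finite group with a subgroup H whose order is coprime to its index (a Hall subgroup) and which meets each of its conjugates by elements outside N_G(H) trivially. Then every subgroup of G whose order is divisible only by primes dividing the order of H lies in a conjugate of H. -/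
theorem result {G : Type*} [Group G] [Finite G] (H : Subgroup G)
    (hHall : (Nat.card H).Coprime H.index) (hTI : Cfsg.IsTISubset (H : Set G))
    (K : Subgroup G) (hK : ∀ q : ℕ, q.Prime → q ∣ Nat.card K → q ∣ Nat.card H) :
    ∃ g : G, K ≤ H.map (MulAut.conj g).toMonoidHom := by
  have hKπ : ∀ k : K, ∀ q : ℕ, q.Prime → q ∣ orderOf (k : G) → q ∣ Nat.card H := by
    intro k q hq hqd
    apply hK q hq
    have := orderOf_dvd_natCard k
    rw [Subgroup.orderOf_coe] at hqd
    exact dvd_trans hqd this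
  let S : G → Subgroup K := fun g => (H.map (MulAut.conj g).toMonoidHom).subgroupOf K
  have hS : ∀ (g : G) (y : K), y ∈ S g ↔ g⁻¹ * (y : G) * g ∈ H := by
    intro g y
    show y ∈ (H.map (MulAut.conj g).toMonoidHom).subgroupOf K ↔ _
    rw [Subgroup.mem_subgroupOf, mem_conj]
  have hmain : ∃ g, S g = ⊤ := by
    apply count_main S
    · intro y hy1
      have hy1' : (y : G) ≠ 1 := fun h => hy1 (Subtype.ext h)
      obtain ⟨g, hg⟩ := exists_conj_mem H hHall hTI (y : G) hy1' (hKπ y)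
      exact ⟨g, (hS g y).mpr hg⟩
    · rintro g g' ⟨y, hy1, hyg, hyg'⟩
      rw [hS] at hyg hyg'
      have hy1' : (y : G) ≠ 1 := fun h => hy1 (Subtype.ext h)
      -- c = g⁻¹ g' normalizes H
      have hcN : g⁻¹ * g' ∈ Subgroup.normalizer (H : Set G) := by
        by_contra hn
        have h1 := hTI (g⁻¹ * g') hn (g'⁻¹ * (y : G) * g') hyg' (by
          have : g⁻¹ * g' * (g'⁻¹ * (y : G) * g') * (g⁻¹ * g')⁻¹ = g⁻¹ * (y : G) * g := by group
          rw [this]; exact hyg)
        apply hy1'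
        have : (y : G) = g' * (g'⁻¹ * (y : G) * g') * g'⁻¹ := by group
        rw [this, h1]; group
      ext z
      rw [hS, hS]
      have h2 := (Subgroup.mem_normalizer_iff''.mp hcN) (g⁻¹ * (z : G) * g)
      have h3 : (g⁻¹ * g')⁻¹ * (g⁻¹ * (z : G) * g) * (g⁻¹ * g') = g'⁻¹ * (z : G) * g' := by group
      rw [h3] at h2
      exact h2
    · intro k g
      refine ⟨(k : G) * g, fun y => ?_⟩
      rw [hS, hS]
      have : ((k : G) * g)⁻¹ * ((k * y * k⁻¹ : K) : G) * ((k : G) * g) = g⁻¹ * (y : G) * g := by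
        push_cast
        group
      rw [this]
    · intro k g y hy1 hyg hkyg
      rw [hS] at hyg hkyg ⊢
      have hy1' : (y : G) ≠ 1 := fun h => hy1 (Subtype.ext h)
      apply mem_of_mem_normalizer H hHall
      · by_contra hn
        have h1 := hTI (g⁻¹ * (k : G) * g) hn (g⁻¹ * (y : G) * g) hyg (by
          have : g⁻¹ * (k : G) * g * (g⁻¹ * (y : G) * g) * (g⁻¹ * (k : G) * g)⁻¹ =
              g⁻¹ * ((k * y * k⁻¹ : K) : G) * g := by
            push_cast
            group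
          rw [this]; exact hkyg)
        apply hy1'
        have : (y : G) = g * (g⁻¹ * (y : G) * g) * g⁻¹ := by group
        rw [this, h1]; group
      · intro q hq hqd
        apply hKπ k q hq
        have : orderOf (g⁻¹ * (k : G) * g) = orderOf (k : G) := by
          have := orderOf_injective (MulAut.conj g⁻¹).toMonoidHom (MulAut.conj g⁻¹).injective (k : G)
          simpa [MulAut.conj_apply] using this
        rwa [this] at hqd
  obtain ⟨g, hg⟩ := hmain
  refine ⟨g, fun k hk => ?_⟩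
  have h1 : (⟨k, hk⟩ : K) ∈ S g := by rw [hg]; trivial
  exact Subgroup.mem_subgroupOf.mp h1

end Cfsg.Agent.S4116
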