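import Cfsg.Statements.S4117

set_option autoImplicit false
open Cfsg

namespace Cfsg.Agent.S4117

/-- the subgroup `[G, A]` -/
def comm (G A : Type*) [Group G] [Group A] [MulDistribMulAction A G] : Subgroup G :=
  Subgroup.closure {y : G | ∃ (a : A) (g : G), y = g⁻¹ * a • g}

section
variable {G A : Type*} [Group G] [Group A] [MulDistribMulAction A G]

lemma gen_mem (a : A) (g : G) : g⁻¹ * a • g ∈ comm G A :=
  Subgroup.subset_closure ⟨a, g, rfl⟩

lemma comm_normal : (comm G A).Normal := by
  constructor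
  intro n hn h
  refine Subgroup.closure_induction (p := fun n _ => h * n * h⁻¹ ∈ comm G A) ?_ ?_ ?_ ?_ hn
  · rintro y ⟨a, g, rfl⟩
    have : h * (g⁻¹ * a • g) * h⁻¹ =
        ((g * h⁻¹)⁻¹ * a • (g * h⁻¹)) * ((h⁻¹)⁻¹ * a • h⁻¹)⁻¹ := by
      rw [smul_mul']; group
    rw [this]
    exact (comm G A).mul_mem (gen_mem a _) ((comm G A).inv_mem (gen_mem a _))
  · simp
  · intro x y _ _ hx hy
    have : h * (x * y) * h⁻¹ = (h * x * h⁻¹) * (h * y * h⁻¹) := by group
    rw [this]; exact (comm G A).mul_mem hx hy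
  · intro x _ hx
    have : h * x⁻¹ * h⁻¹ = (h * x * h⁻¹)⁻¹ := by group
    rw [this]; exact (comm G A).inv_mem hx

lemma smul_mem_comm (a' : A) {l : G} (hl : l ∈ comm G A) : a' • l ∈ comm G A := by
  refine Subgroup.closure_induction (p := fun n _ => a' • n ∈ comm G A) ?_ ?_ ?_ ?_ hl
  · rintro y ⟨a, g, rfl⟩
    have : a' • (g⁻¹ * a • g) = (a' • g)⁻¹ * (a' * a * a'⁻¹) • (a' • g) := by
      rw [smul_mul', smul_inv', mul_smul, mul_smul, inv_smul_smul]
    rw [this]
    exact gen_mem _ _
  · rw [smul_one]; exact (comm G A).one_mem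
  · intro x y _ _ hx hy
    rw [smul_mul']; exact (comm G A).mul_mem hx hy
  · intro x _ hx
    rw [smul_inv']; exact (comm G A).inv_mem hx

lemma smul_mem_commutator (a : A) {m : G} (hm : m ∈ commutator G) : a • m ∈ commutator G := by
  have hchar : (commutator G).Characteristic := by rw [commutator_def]; infer_instance
  have h := Subgroup.characteristic_iff_map_le.mp hchar (MulDistribMulAction.toMulAut A G a)
  exact h ⟨m, hm, rfl⟩

lemma conj_smul_eq (hM : IsCyclic (commutator G)) (a : A) (g : G) {m : G}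
    (hm : m ∈ commutator G) : (a • g) * m * (a • g)⁻¹ = g * m * g⁻¹ := by
  let φ : A → (↥(commutator G) →* ↥(commutator G)) := fun a =>
    { toFun := fun u => ⟨a • (u : G), smul_mem_commutator a u.2⟩
      map_one' := Subtype.ext (smul_one a)
      map_mul' := fun u v => Subtype.ext (smul_mul' a (u : G) (v : G)) }
  let ψ : ↥(commutator G) →* ↥(commutator G) :=
    (MulAut.conjNormal g : ↥(commutator G) ≃* ↥(commutator G)).toMonoidHom
  obtain ⟨i, hi⟩ := (φ a).map_cyclic
  obtain ⟨j, hj⟩ := ψ.map_cyclic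
  let u' : ↥(commutator G) := φ a⁻¹ ⟨m, hm⟩
  have h1 : φ a (ψ u') = ψ (φ a u') := by
    rw [hi, hj, hj, hi, ← zpow_mul, ← zpow_mul, mul_comm]
  have h2 := congrArg (Subtype.val : ↥(commutator G) → G) h1
  have h3 : ((φ a (ψ u') : ↥(commutator G)) : G) = a • (g * (a⁻¹ • m) * g⁻¹) := rfl
  have h4 : ((ψ (φ a u') : ↥(commutator G)) : G) = g * (a • (a⁻¹ • m)) * g⁻¹ := rfl
  rw [h3, h4, smul_mul', smul_mul', smul_inv', smul_inv_smul] at h2
  exact h2

lemma comm_le_centralizer (hM : IsCyclic (commutator G)) :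
    comm G A ≤ Subgroup.centralizer (commutator G : Set G) := by
  unfold comm
  rw [Subgroup.closure_le]
  rintro y ⟨a, g, rfl⟩
  rw [SetLike.mem_coe, Subgroup.mem_centralizer_iff]
  intro m hm
  have h := conj_smul_eq hM a g hm
  calc m * (g⁻¹ * a • g) = g⁻¹ * (g * m * g⁻¹) * (a • g) := by group
    _ = g⁻¹ * ((a • g) * m * (a • g)⁻¹) * (a • g) := by rw [h]
    _ = g⁻¹ * a • g * m := by group

lemma comm_abelian (hM : IsCyclic (commutator G)) (hQ : IsCyclic (G ⧸ commutator G))
    (u v : ↥(comm G A)) : u * v = v * u := by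
  refine commutative_of_cyclic_center_quotient
    ((QuotientGroup.mk' (commutator G)).comp (comm G A).subtype) ?_ u v
  intro l hl
  rw [Subgroup.mem_center_iff]
  intro l'
  have hlM : (l : G) ∈ commutator G := by
    have : ((l : G) : G ⧸ commutator G) = 1 := hl
    exact (QuotientGroup.eq_one_iff _).mp this
  have h := Subgroup.mem_centralizer_iff.mp (comm_le_centralizer hM l'.2) (l : G) hlM
  exact Subtype.ext h.symm

/-- the action of `a` restricted to `[G, A]` -/
def sig (a : A) : ↥(comm G A) →* ↥(comm G A) where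
  toFun u := ⟨a • (u : G), smul_mem_comm a u.2⟩
  map_one' := Subtype.ext (smul_one a)
  map_mul' u v := Subtype.ext (smul_mul' a (u : G) (v : G))

lemma sig_sig (a b : A) (u : ↥(comm G A)) : sig a (sig b u) = sig (a * b) u :=
  Subtype.ext (mul_smul a b (u : G)).symm

end

section
variable {G A : Type*} [Group G] [Group A] [MulDistribMulAction A G] [Finite G] [Finite A]

lemma exists_fixed_mul (hab : ∀ u v : ↥(comm G A), u * v = v * u)
    (hcop : (Nat.card A).Coprime (Nat.card G)) (g : G) :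
    ∃ e ∈ comm G A, ∀ a : A, a • (g * e) = g * e := by
  classical
  have := Fintype.ofFinite A
  let _ : CommGroup ↥(comm G A) := { (inferInstance : Group ↥(comm G A)) with mul_comm := hab }
  let c : A → ↥(comm G A) := fun a => ⟨g⁻¹ * a • g, gen_mem a g⟩
  have hcoc : ∀ a b : A, sig a (c b) = (c a)⁻¹ * c (a * b) := by
    intro a b
    apply Subtype.ext
    show a • (g⁻¹ * b • g) = (g⁻¹ * a • g)⁻¹ * (g⁻¹ * (a * b) • g)
    rw [smul_mul', smul_inv', mul_smul]; group
  have hcopL : (Nat.card ↥(comm G A)).Coprime (Fintype.card A) := by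
    rw [← Nat.card_eq_fintype_card]
    exact (hcop.coprime_dvd_right (Subgroup.card_subgroup_dvd_card _)).symm
  have hd : ∀ a : A, sig a (∏ b : A, c b) = (c a)⁻¹ ^ (Fintype.card A) * ∏ b : A, c b := by
    intro a
    rw [map_prod]
    simp_rw [hcoc a]
    rw [Finset.prod_mul_distrib, Finset.prod_const, Finset.card_univ]
    congr 1
    exact Equiv.prod_comp (Equiv.mulLeft a) c
  obtain ⟨e, he⟩ : ∃ e : ↥(comm G A), e ^ (Fintype.card A) = ∏ b : A, c b :=
    ⟨(powCoprime hcopL).symm (∏ b : A, c b), (powCoprime hcopL).apply_symm_apply _⟩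
  have hce : ∀ a : A, c a = e * (sig a e)⁻¹ := by
    intro a
    apply (powCoprime hcopL).injective
    show (c a) ^ (Fintype.card A) = (e * (sig a e)⁻¹) ^ (Fintype.card A)
    rw [mul_pow, inv_pow, ← map_pow, he, hd a, mul_inv_rev, mul_inv_cancel_left, inv_pow, inv_inv]
  refine ⟨(e : G), e.2, ?_⟩
  intro a
  have h1 := congrArg (Subtype.val : ↥(comm G A) → G) (hce a)
  have h2 : g⁻¹ * a • g = (e : G) * (a • (e : G))⁻¹ := h1
  rw [smul_mul']
  calc a • g * a • (e : G) = g * (g⁻¹ * a • g) * a • (e : G) := by group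
    _ = g * ((e : G) * (a • (e : G))⁻¹) * a • (e : G) := by rw [h2]
    _ = g * (e : G) := by group

lemma norm_eq_one (hab : ∀ u v : ↥(comm G A), u * v = v * u)
    (hcop : (Nat.card A).Coprime (Nat.card G)) [Fintype A] (l : ↥(comm G A)) :
    (Finset.univ : Finset A).noncommProd (fun a => sig a l) (fun a _ b _ _ => hab _ _) = 1 := by
  classical
  let _ : CommGroup ↥(comm G A) := { (inferInstance : Group ↥(comm G A)) with mul_comm := hab }
  rw [Finset.noncommProd_eq_prod]
  let ν : ↥(comm G A) →* ↥(comm G A) := ∏ a : A, sig a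
  have hν : ∀ u : ↥(comm G A), ν u = ∏ a : A, sig a u := fun u => MonoidHom.finsetProd_apply _ _ _
  rw [← hν]
  have hνσ : ∀ (b : A) (u : ↥(comm G A)), ν (sig b u) = ν u := by
    intro b u
    rw [hν, hν]
    simp_rw [sig_sig]
    exact Equiv.prod_comp (Equiv.mulRight b) (fun a => sig a u)
  have hle : comm G A ≤ (ν.ker).map (comm G A).subtype := by
    have hgen : {y : G | ∃ (a : A) (g : G), y = g⁻¹ * a • g} ⊆
        (((ν.ker).map (comm G A).subtype : Subgroup G) : Set G) := by
      rintro y ⟨b, g, rfl⟩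
      obtain ⟨e, heL, he⟩ := exists_fixed_mul hab hcop g
      have h1 := he b
      rw [smul_mul'] at h1
      have h2 : g⁻¹ * b • g = e * (b • e)⁻¹ := by
        calc g⁻¹ * b • g = g⁻¹ * (b • g * b • e) * (b • e)⁻¹ := by group
          _ = g⁻¹ * (g * e) * (b • e)⁻¹ := by rw [h1]
          _ = e * (b • e)⁻¹ := by group
      refine ⟨⟨e, heL⟩ * (sig b ⟨e, heL⟩)⁻¹, ?_, h2.symm⟩
      rw [SetLike.mem_coe, MonoidHom.mem_ker, map_mul, map_inv, hνσ, mul_inv_cancel]
    exact (Subgroup.closure_le _).mpr hgen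
  obtain ⟨l', hl', hl'l⟩ := hle l.2
  have : l' = l := Subtype.ext hl'l
  rw [← this]
  exact MonoidHom.mem_ker.mp hl'

lemma eq_one_of_mem_of_fixed (hab : ∀ u v : ↥(comm G A), u * v = v * u)
    (hcop : (Nat.card A).Coprime (Nat.card G)) {x : G} (hxL : x ∈ comm G A)
    (hx : ∀ a : A, a • x = x) : x = 1 := by
  classical
  have := Fintype.ofFinite A
  have h1 := norm_eq_one hab hcop (⟨x, hxL⟩ : ↥(comm G A))
  have h2 : ∀ a : A, sig a (⟨x, hxL⟩ : ↥(comm G A)) = ⟨x, hxL⟩ := fun a => Subtype.ext (hx a)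
  let _ : CommGroup ↥(comm G A) := { (inferInstance : Group ↥(comm G A)) with mul_comm := hab }
  rw [Finset.noncommProd_eq_prod] at h1
  simp_rw [h2] at h1
  rw [Finset.prod_const, Finset.card_univ] at h1
  have h3 : x ^ (Fintype.card A) = 1 := congrArg (Subtype.val : ↥(comm G A) → G) h1
  have h4 : orderOf x ∣ Nat.gcd (Nat.card A) (Nat.card G) := by
    apply Nat.dvd_gcd
    · rw [Nat.card_eq_fintype_card]; exact orderOf_dvd_of_pow_eq_one h3
    · exact orderOf_dvd_natCard x
  rw [hcop] at h4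
  exact orderOf_eq_one_iff.mp (Nat.dvd_one.mp h4)

end

lemma orderOf_conj' {G : Type*} [Group G] (g x : G) : orderOf (g * x * g⁻¹) = orderOf x := by
  have := orderOf_injective (MulAut.conj g).toMonoidHom (MulAut.conj g).injective x
  simpa [MulAut.conj_apply] using this

/-- every `p`-element lies in a conjugate of a given Sylow `p`-subgroup -/
lemma exists_conj_mem_sylow {G : Type*} [Group G] [Finite G] {p : ℕ} [Fact p.Prime] (P : Sylow p G)
    (u : G) (hu : ∃ k : ℕ, orderOf u = p ^ k) : ∃ g y : G, y ∈ P ∧ g * y * g⁻¹ = u := by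
  obtain ⟨k, hk⟩ := hu
  have hZ : IsPGroup p (Subgroup.zpowers u) := by
    apply IsPGroup.of_card (n := k)
    rw [Nat.card_zpowers, hk]
  obtain ⟨Q, hQ⟩ := hZ.exists_le_sylow
  obtain ⟨g, hg⟩ := MulAction.exists_smul_eq G P Q
  have h1 : u ∈ (Q : Subgroup G) := hQ (Subgroup.mem_zpowers u)
  rw [← hg, Sylow.coe_subgroup_smul, Subgroup.mem_pointwise_smul_iff_inv_smul_mem] at h1
  have h2 : g⁻¹ * u * g ∈ (P : Subgroup G) := by
    simpa [MulAut.smul_def, MulAut.conj_apply] using h1
  exact ⟨g, g⁻¹ * u * g, h2, by group⟩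

lemma mem_zpowers_of_orderOf_eq {P : Type*} [Group P] [Finite P] [IsCyclic P] {p : ℕ}
    (hp : p.Prime) (x y : P) (hx : orderOf x = p) (hy : orderOf y = p) :
    x ∈ Subgroup.zpowers y := by
  classical
  have := Fintype.ofFinite P
  have hS : (Finset.univ.filter (fun a : P => a ^ p = 1)).card ≤ p :=
    IsCyclic.card_pow_eq_one_le hp.pos
  have hT : ((Subgroup.zpowers y : Set P).toFinset).card = p := by
    rw [Set.toFinset_card, ← Nat.card_eq_fintype_card]
    exact (Nat.card_zpowers y).trans hy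
  by_contra hxy
  have hsub : insert x ((Subgroup.zpowers y : Set P).toFinset) ⊆
      Finset.univ.filter (fun a : P => a ^ p = 1) := by
    intro u hu
    rw [Finset.mem_filter]
    refine ⟨Finset.mem_univ _, ?_⟩
    rcases Finset.mem_insert.mp hu with rfl | hu
    · rw [← hx]; exact pow_orderOf_eq_one _
    · rw [Set.mem_toFinset, SetLike.mem_coe] at hu
      obtain ⟨k, rfl⟩ := Subgroup.mem_zpowers_iff.mp hu
      rw [← zpow_natCast, ← zpow_mul, mul_comm, zpow_mul, zpow_natCast, ← hy, pow_orderOf_eq_one,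
        one_zpow]
  have hcard := Finset.card_le_card hsub
  rw [Finset.card_insert_of_notMem (by rw [Set.mem_toFinset]; exact hxy), hT] at hcard
  omega

theorem result {G A : Type*} [Group G] [Finite G] [Group A] [Finite A]
    [MulDistribMulAction A G] (hcop : (Nat.card A).Coprime (Nat.card G))
    (hcyc : ∀ (p : ℕ) [Fact p.Prime] (P : Sylow p G), IsCyclic (P : Subgroup G)) :
    (Nat.card (MulAction.fixedPoints A G : Set G)).Coprime (Nat.card G / Nat.card (MulAction.fixedPoints A G : Set G)) ∧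
    IsCyclic (Subgroup.closure {y : G | ∃ (a : A) (g : G), y = g⁻¹ * a • g}) ∧
    (Subgroup.closure {y : G | ∃ (a : A) (g : G), y = g⁻¹ * a • g}).Normal ∧
    (Subgroup.closure {y : G | ∃ (a : A) (g : G), y = g⁻¹ * a • g} : Set G) ∩ MulAction.fixedPoints A G = {1} ∧
    Subgroup.closure {y : G | ∃ (a : A) (g : G), y = g⁻¹ * a • g} ⊔ Subgroup.closure (MulAction.fixedPoints A G) = ⊤ := by
  change (Nat.card (MulAction.fixedPoints A G : Set G)).Coprime
      (Nat.card G / Nat.card (MulAction.fixedPoints A G : Set G)) ∧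
    IsCyclic (comm G A) ∧ (comm G A).Normal ∧
    ((comm G A : Set G) ∩ MulAction.fixedPoints A G = {1}) ∧
    comm G A ⊔ Subgroup.closure (MulAction.fixedPoints A G) = ⊤
  have hZ : IsZGroup G := ⟨fun p hp P => by
    have : Fact p.Prime := ⟨hp⟩
    exact hcyc p P⟩
  have hM : IsCyclic (commutator G) := IsZGroup.isCyclic_commutator G
  have hQ : IsCyclic (G ⧸ commutator G) := IsZGroup.isCyclic_abelianization
  have hab : ∀ u v : ↥(comm G A), u * v = v * u := comm_abelian hM hQ
  have hnormal : (comm G A).Normal := comm_normal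
  have hcycL : IsCyclic (comm G A) := by
    let _ : CommGroup ↥(comm G A) := { (inferInstance : Group ↥(comm G A)) with mul_comm := hab }
    infer_instance
  have hfix : ∀ x : G, x ∈ MulAction.fixedPoints A G ↔ ∀ a : A, a • x = x := fun x => Iff.rfl
  have hint : ∀ x : G, x ∈ comm G A → x ∈ MulAction.fixedPoints A G → x = 1 :=
    fun x hxL hx => eq_one_of_mem_of_fixed hab hcop hxL ((hfix x).mp hx)
  -- the fixed points as a subgroup
  let Cs : Subgroup G :=
    { carrier := MulAction.fixedPoints A G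
      mul_mem' := fun {x y} hx hy a => by rw [smul_mul', hx a, hy a]
      one_mem' := fun a => smul_one a
      inv_mem' := fun {x} hx a => by rw [smul_inv', hx a] }
  have hCs : Nat.card (MulAction.fixedPoints A G : Set G) = Nat.card Cs := rfl
  have hcompl : Subgroup.IsComplement' Cs (comm G A) := by
    apply Subgroup.isComplement'_of_disjoint_and_mul_eq_univ
    · rw [Subgroup.disjoint_def]
      intro x hxC hxL
      exact hint x hxL hxC
    · rw [Set.eq_univ_iff_forall]
      intro g
      obtain ⟨e, heL, he⟩ := exists_fixed_mul hab hcop g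
      exact ⟨g * e, (fun a => he a), e⁻¹, (comm G A).inv_mem heL, by group⟩
  have hcard : Nat.card Cs * Nat.card (comm G A) = Nat.card G := hcompl.card_mul_card
  refine ⟨?_, hcycL, hnormal, ?_, ?_⟩
  · rw [hCs, ← hcard, Nat.mul_div_cancel_left _ Nat.card_pos]
    apply Nat.coprime_of_dvd
    intro p hp hpC hpL
    have : Fact p.Prime := ⟨hp⟩
    obtain ⟨x, hx⟩ := exists_prime_orderOf_dvd_card' p hpC
    obtain ⟨y₀, hy₀⟩ := exists_prime_orderOf_dvd_card' p hpL
    have hxo : orderOf (x : G) = p := by rw [Subgroup.orderOf_coe]; exact hx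
    have hyo : orderOf (y₀ : G) = p := by rw [Subgroup.orderOf_coe]; exact hy₀
    have hZx : IsPGroup p (Subgroup.zpowers (x : G)) := by
      apply IsPGroup.of_card (n := 1)
      rw [Nat.card_zpowers, hxo, pow_one]
    obtain ⟨P, hP⟩ := hZx.exists_le_sylow
    have hxP : (x : G) ∈ (P : Subgroup G) := hP (Subgroup.mem_zpowers _)
    obtain ⟨g, y, hyP, hgy⟩ := exists_conj_mem_sylow P (y₀ : G) ⟨1, by rw [hyo, pow_one]⟩
    have hyL : y ∈ comm G A := by
      have h1 : y = g⁻¹ * (y₀ : G) * g⁻¹⁻¹ := by rw [← hgy]; group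
      rw [h1]
      exact hnormal.conj_mem _ y₀.2 g⁻¹
    have hyo' : orderOf y = p := by rw [← hyo, ← hgy, orderOf_conj']
    have : IsCyclic (P : Subgroup G) := hcyc p P
    have hmem := mem_zpowers_of_orderOf_eq hp (⟨(x : G), hxP⟩ : (P : Subgroup G)) ⟨y, hyP⟩
      (by
        have h0 : orderOf (⟨(x : G), hxP⟩ : (P : Subgroup G)) = orderOf (x : G) :=
          Subgroup.orderOf_mk _ hxP
        rw [h0, hxo])
      (by
        have h0 : orderOf (⟨y, hyP⟩ : (P : Subgroup G)) = orderOf y := Subgroup.orderOf_mk _ hyP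
        rw [h0, hyo'])
    obtain ⟨k, hk⟩ := Subgroup.mem_zpowers_iff.mp hmem
    have hxL : (x : G) ∈ comm G A := by
      have h1 : y ^ k = (x : G) := by
        have h0 := Subtype.ext_iff.mp hk
        simpa using h0
      rw [← h1]
      exact (comm G A).zpow_mem hyL k
    have hx1 : (x : G) = 1 := hint _ hxL x.2
    rw [hx1, orderOf_one] at hxo
    exact hp.one_lt.ne hxo
  · ext x
    constructor
    · rintro ⟨hxL, hxC⟩
      exact hint x hxL hxC
    · intro hx
      rw [Set.mem_singleton_iff] at hx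
      subst hx
      exact ⟨(comm G A).one_mem, fun a => smul_one a⟩
  · rw [eq_top_iff]
    intro g _
    obtain ⟨e, heL, he⟩ := exists_fixed_mul hab hcop g
    have h1 : g = (g * e) * e⁻¹ := by group
    rw [h1]
    exact Subgroup.mul_mem _
      (Subgroup.mem_sup_right (Subgroup.subset_closure (fun a => he a)))
      (Subgroup.mem_sup_left ((comm G A).inv_mem heL))

end Cfsg.Agent.S4117
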