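import Cfsg.Statements.S4126
import Cfsg.Agent.S1946

set_option autoImplicit false
open Cfsg

namespace Cfsg.Agent.S4126

/-- Let G be a finite group and p a prime. Suppose every element of order p, and when p = 2 also every element of order 4, has a conjugacy class of p-power size. Then G has a normal p-complement. -/
theorem result {G : Type*} [Group G] [Finite G] (p : ℕ) [Fact p.Prime]
    (h : ∀ x : G, (orderOf x = p ∨ (p = 2 ∧ orderOf x = 4)) → ∃ a : ℕ, (Subgroup.centralizer ({x} : Set G)).index = p ^ a) :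
    Cfsg.HasNormalPComplement p G := by
  have hp : p.Prime := Fact.out
  have P : Sylow p G := default
  rw [Cfsg.Agent.S1946.result P]
  intro a ha haΩ g hg
  by_cases ha1 : a = 1
  · subst ha1
    exact ⟨1, one_mem _, by simp⟩
  have hord : orderOf a = p ∨ (p = 2 ∧ orderOf a = 4) := by
    rcases haΩ with h1 | ⟨h2, h3⟩
    · left
      exact orderOf_eq_prime h1 ha1
    · have hd : orderOf a ∣ 2 ^ 2 := orderOf_dvd_of_pow_eq_one (by simpa using h3)
      obtain ⟨j, hj, hj2⟩ := (Nat.dvd_prime_pow Nat.prime_two).mp hd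
      have hj0 : j ≠ 0 := by
        rintro rfl
        rw [pow_zero, orderOf_eq_one_iff] at hj2
        exact ha1 hj2
      interval_cases j
      · exact absurd rfl hj0
      · left; rw [hj2, h2]; rfl
      · right; exact ⟨h2, by rw [hj2]; rfl⟩
  obtain ⟨k, hk⟩ := h a hord
  obtain ⟨x, hx, c, hc, rfl⟩ := Cfsg.Agent.Lib.helper97.sylow_mul_of_index_pow P _ k hk g
  refine ⟨x, hx, ?_⟩
  rw [Subgroup.mem_centralizer_iff] at hc
  have h1 : a * c = c * a := hc a rfl
  have h2 : c * a * c⁻¹ = a := by rw [← h1, mul_inv_cancel_right]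
  calc x * c * a * (x * c)⁻¹ = x * (c * a * c⁻¹) * x⁻¹ := by group
    _ = x * a * x⁻¹ := by rw [h2]

end Cfsg.Agent.S4126
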