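import Cfsg.Statements.S4135
import Cfsg.Agent.S4134
import Cfsg.Agent.Lib.helper72.FreeAct
import Cfsg.Agent.Lib.helper72.TIHall
import Cfsg.Agent.Lib.helper62.Derangement

set_option autoImplicit false
open Cfsg

namespace Cfsg.Agent.S4135

open Cfsg.Agent.S4134 (cent_mul mem_cent_iff self_mem_cent center_le_cent conjAut conjAut_apply
  conjAut_pow_apply conj_not_mem_center)

section sylow
variable {K : Type*} [Group K] [Finite K]

/-- a subgroup of index prime to `p` contains a Sylow `p`-subgroup -/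
lemma exists_sylow_le (p : ℕ) [hp : Fact p.Prime] (C : Subgroup K) (h : ¬ p ∣ C.index) :
    ∃ Q : Sylow p K, (Q : Subgroup K) ≤ C := by
  obtain ⟨P⟩ : Nonempty (Sylow p C) := inferInstance
  have hPp : IsPGroup p ((P : Subgroup C).map C.subtype) := P.2.map _
  obtain ⟨Q, hQ⟩ := hPp.exists_le_sylow
  refine ⟨Q, ?_⟩
  have hcard : Nat.card ((P : Subgroup C).map C.subtype) = Nat.card (Q : Subgroup K) := by
    rw [Subgroup.card_map_of_injective C.subtype_injective, Sylow.card_eq_multiplicity,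
      Sylow.card_eq_multiplicity]
    congr 1
    have h1 := C.card_mul_index
    rw [← h1, Nat.factorization_mul Nat.card_pos.ne' Subgroup.index_ne_zero_of_finite]
    simp [Nat.factorization_eq_zero_of_not_dvd h]
  have heq : (P : Subgroup C).map C.subtype = (Q : Subgroup K) :=
    Subgroup.eq_of_le_of_card_ge hQ hcard.ge
  rw [← heq]
  exact Subgroup.map_subtype_le _

/-- if all class sizes are prime to `p`, the Sylow `p`-subgroups are central -/
lemma sylow_le_center (p : ℕ) [Fact p.Prime]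
    (h : ∀ x : K, ¬ p ∣ (Subgroup.centralizer ({x} : Set K)).index) (P : Sylow p K) :
    (P : Subgroup K) ≤ Subgroup.center K := by
  have hC : Subgroup.centralizer ((P : Subgroup K) : Set K) = ⊤ := by
    apply Cfsg.Agent.Lib.helper62.eq_of_forall_conj_mem _ ⊤ le_top
    intro c _
    obtain ⟨Q, hQ⟩ := exists_sylow_le p _ (h c)
    obtain ⟨g, hg⟩ := MulAction.exists_smul_eq K P Q
    refine ⟨g, Subgroup.mem_top g, ?_⟩
    rw [Subgroup.mem_centralizer_iff]
    intro y hy
    have h1 : g * y * g⁻¹ ∈ (Q : Subgroup K) := by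
      rw [← hg, Sylow.coe_subgroup_smul]
      have := Subgroup.smul_mem_pointwise_smul y (MulAut.conj g) (P : Subgroup K) hy
      simpa [MulAut.smul_def] using this
    have h2 : g * y * g⁻¹ * c = c * (g * y * g⁻¹) := mem_cent_iff.mp (hQ h1)
    calc y * (g⁻¹ * c * g) = g⁻¹ * (g * y * g⁻¹ * c) * g := by group
      _ = g⁻¹ * (c * (g * y * g⁻¹)) * g := by rw [h2]
      _ = g⁻¹ * c * g * y := by group
  intro y hy
  rw [Subgroup.mem_center_iff]
  intro g
  have hg : g ∈ Subgroup.centralizer ((P : Subgroup K) : Set K) := hC ▸ Subgroup.mem_top g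
  exact (Subgroup.mem_centralizer_iff.mp hg y hy).symm

end sylow

section two
variable {G : Type*} [Group G]

/-- the standing hypothesis: noncentral elements of `N` have class size `m` -/
def TwoN (N : Subgroup G) (m : ℕ) : Prop :=
  ∀ x ∈ N, x ∉ Subgroup.center G → (Subgroup.centralizer ({x} : Set G)).index = m

variable [Finite G] {N : Subgroup G} {m : ℕ}

lemma card_cent (h2 : TwoN N m) {x : G} (hxN : x ∈ N) (hx : x ∉ Subgroup.center G) :
    Nat.card (Subgroup.centralizer ({x} : Set G)) * m = Nat.card G := by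
  rw [← h2 x hxN hx]; exact Subgroup.card_mul_index _

lemma m_pos (h2 : TwoN N m) {x : G} (hxN : x ∈ N) (hx : x ∉ Subgroup.center G) : 0 < m := by
  rw [← h2 x hxN hx]
  exact Nat.pos_of_ne_zero Subgroup.index_ne_zero_of_finite

lemma card_cent_eq (h2 : TwoN N m) {x y : G} (hxN : x ∈ N) (hx : x ∉ Subgroup.center G)
    (hyN : y ∈ N) (hy : y ∉ Subgroup.center G) :
    Nat.card (Subgroup.centralizer ({x} : Set G)) =
      Nat.card (Subgroup.centralizer ({y} : Set G)) := by
  have h1 := card_cent h2 hxN hx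
  have h3 := card_cent h2 hyN hy
  exact Nat.eq_of_mul_eq_mul_right (m_pos h2 hxN hx) (h1.trans h3.symm)

/-- K1 -/
lemma cent_eq_of_le (h2 : TwoN N m) {x y : G} (hxN : x ∈ N) (hx : x ∉ Subgroup.center G)
    (hyN : y ∈ N) (hy : y ∉ Subgroup.center G)
    (hle : Subgroup.centralizer ({x} : Set G) ≤ Subgroup.centralizer ({y} : Set G)) :
    Subgroup.centralizer ({x} : Set G) = Subgroup.centralizer ({y} : Set G) :=
  Subgroup.eq_of_le_of_card_ge hle (card_cent_eq h2 hxN hx hyN hy).symm.le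

/-- K2 -/
lemma cent_le_of_coprime (h2 : TwoN N m) {x y : G} (hxN : x ∈ N) (hyN : y ∈ N)
    (hx : x ∉ Subgroup.center G)
    (hc : Commute x y) (hcop : (orderOf x).Coprime (orderOf y)) :
    Subgroup.centralizer ({x} : Set G) ≤ Subgroup.centralizer ({y} : Set G) := by
  have h1 := cent_mul hc hcop
  have hxy : x * y ∉ Subgroup.center G := by
    intro hmem
    apply hx
    have h3 : Subgroup.centralizer ({x * y} : Set G) = ⊤ := by
      rw [eq_top_iff]
      intro g _
      rw [mem_cent_iff]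
      exact (Subgroup.mem_center_iff.mp hmem g)
    rw [Subgroup.mem_center_iff]
    intro g
    have h4 : g ∈ Subgroup.centralizer ({x} : Set G) := by
      have : g ∈ Subgroup.centralizer ({x * y} : Set G) := h3 ▸ Subgroup.mem_top g
      rw [h1] at this
      exact this.1
    exact mem_cent_iff.mp h4
  have h5 : Subgroup.centralizer ({x * y} : Set G) = Subgroup.centralizer ({x} : Set G) :=
    cent_eq_of_le h2 (N.mul_mem hxN hyN) hxy hxN hx (h1 ▸ inf_le_left)
  rw [← h5, h1]
  exact inf_le_right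

/-- every noncentral centralizer (of an element of `N`) contains a noncentral `ℓ`-element as soon
as `N` has one -/
lemma exists_noncentral_pelem (h2 : TwoN N m) {ℓ : ℕ} [Fact ℓ.Prime] {x g : G}
    (hxN : x ∈ N) (hx : x ∉ Subgroup.center G) (hxo : ∃ k : ℕ, orderOf x = ℓ ^ k)
    (hgN : g ∈ N) (hg : g ∉ Subgroup.center G) :
    ∃ y ∈ Subgroup.centralizer ({g} : Set G), y ∉ Subgroup.center G ∧
      ∃ k : ℕ, orderOf y = ℓ ^ k := by
  classical
  have hℓ : ℓ.Prime := Fact.out
  obtain ⟨k, hk⟩ := hxo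
  set j := (Nat.card (Subgroup.center G)).factorization ℓ with hj
  have hdvd : ℓ ^ (j + 1) ∣ Nat.card (Subgroup.centralizer ({x} : Set G)) := by
    have hZle := center_le_cent x
    have hcard : Nat.card ((Subgroup.center G).subgroupOf (Subgroup.centralizer ({x} : Set G))) =
        Nat.card (Subgroup.center G) :=
      Nat.card_congr (Subgroup.subgroupOfEquivOfLe hZle).toEquiv
    have h1 := ((Subgroup.center G).subgroupOf (Subgroup.centralizer ({x} : Set G))).card_mul_index
    rw [hcard] at h1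
    rw [← h1, pow_succ]
    refine mul_dvd_mul (Nat.ordProj_dvd _ _) ?_
    rw [Subgroup.index_eq_card]
    set xb : Subgroup.centralizer ({x} : Set G) ⧸
        (Subgroup.center G).subgroupOf (Subgroup.centralizer ({x} : Set G)) :=
      QuotientGroup.mk (⟨x, self_mem_cent x⟩ : Subgroup.centralizer ({x} : Set G)) with hxb
    have hxb1 : xb ≠ 1 := by
      intro h
      rw [hxb, QuotientGroup.eq_one_iff, Subgroup.mem_subgroupOf] at h
      exact hx h
    have h3 : orderOf xb ∣ ℓ ^ k := by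
      have h4 : orderOf xb ∣ orderOf (⟨x, self_mem_cent x⟩ : Subgroup.centralizer ({x} : Set G)) :=
        orderOf_map_dvd (QuotientGroup.mk' _) _
      rw [Subgroup.orderOf_mk, hk] at h4
      exact h4
    obtain ⟨i, -, hi⟩ := (Nat.dvd_prime_pow hℓ).mp h3
    have hi0 : i ≠ 0 := by
      rintro rfl
      rw [pow_zero, orderOf_eq_one_iff] at hi
      exact hxb1 hi
    exact dvd_trans (dvd_trans (dvd_pow_self ℓ hi0) (dvd_of_eq hi.symm)) (orderOf_dvd_natCard xb)
  rw [card_cent_eq h2 hxN hx hgN hg] at hdvd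
  obtain ⟨K, hK⟩ := Sylow.exists_subgroup_card_pow_prime ℓ hdvd
  by_contra hcon
  push Not at hcon
  have hKZ : K.map (Subgroup.centralizer ({g} : Set G)).subtype ≤ Subgroup.center G := by
    rintro _ ⟨y, hy, rfl⟩
    by_contra hyZ
    have h1 : orderOf y ∣ ℓ ^ (j + 1) := hK ▸ Subgroup.orderOf_dvd_natCard K hy
    obtain ⟨i, -, hi⟩ := (Nat.dvd_prime_pow hℓ).mp h1
    exact hcon (y : G) y.2 hyZ i (by rw [Subgroup.orderOf_coe]; exact hi)
  have h5 := Subgroup.card_dvd_of_le hKZ
  rw [Subgroup.card_map_of_injective (Subgroup.subtype_injective _), hK] at h5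
  exact Nat.pow_succ_factorization_not_dvd Nat.card_pos.ne' hℓ h5

/-- all `r`-elements lie in a normal subgroup containing a Sylow `r`-subgroup -/
lemma r_elem_mem [N.Normal] (r : ℕ) [Fact r.Prime] (R : Sylow r G) (hRN : (R : Subgroup G) ≤ N)
    {y : G} (hy : ∃ k : ℕ, orderOf y = r ^ k) : y ∈ N := by
  obtain ⟨k, hk⟩ := hy
  have hp : IsPGroup r (Subgroup.zpowers y) :=
    IsPGroup.of_card (n := k) (by rw [Nat.card_zpowers, hk])
  obtain ⟨P, hP⟩ := hp.exists_le_sylow
  obtain ⟨g, hg⟩ := MulAction.exists_smul_eq G R P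
  have hyP : y ∈ (P : Subgroup G) := hP (Subgroup.mem_zpowers y)
  rw [← hg, Sylow.coe_subgroup_smul, Subgroup.mem_pointwise_smul_iff_inv_smul_mem] at hyP
  have h1 : g⁻¹ * y * g ∈ (R : Subgroup G) := by
    simpa [MulAut.smul_def] using hyP
  have h2 : g * (g⁻¹ * y * g) * g⁻¹ ∈ N := (inferInstance : N.Normal).conj_mem _ (hRN h1) g
  have e : g * (g⁻¹ * y * g) * g⁻¹ = y := by group
  rwa [e] at h2

/-- class sizes inside `N` of elements of `N` are prime to `p` if `p ∤ m` -/
lemma not_dvd_index_sub [N.Normal] (p : ℕ) (hp : p.Prime) (hpm : ¬ p ∣ m)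
    (h : ∀ x ∈ N, (Subgroup.centralizer ({x} : Set G)).index = 1 ∨
      (Subgroup.centralizer ({x} : Set G)).index = m) (x : N) :
    ¬ p ∣ (Subgroup.centralizer ({x} : Set N)).index := by
  have e : Subgroup.centralizer ({x} : Set N) =
      (Subgroup.centralizer ({(x : G)} : Set G)).subgroupOf N := by
    ext y
    rw [mem_cent_iff, Subgroup.mem_subgroupOf, mem_cent_iff, Subtype.ext_iff]
    rfl
  rw [e]
  intro hdvd
  have h1 : (Subgroup.centralizer ({(x : G)} : Set G)).relIndex N ∣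
      (Subgroup.centralizer ({(x : G)} : Set G)).index :=
    Cfsg.Agent.Lib.helper72.relIndex_dvd_index_of_normal_right _ N
  have h3 : p ∣ (Subgroup.centralizer ({(x : G)} : Set G)).index := dvd_trans hdvd h1
  rcases h x x.2 with h4 | h4
  · rw [h4] at h3
    exact hp.one_lt.ne' (Nat.dvd_one.mp h3)
  · rw [h4] at h3
    exact hpm h3

end two

section main
variable {G : Type*} [Group G] [Finite G] {N : Subgroup G} {m : ℕ}

/-- **Case `r ∣ m`**: there is no noncentral `q`-element in `N` for a prime `q ≠ r`. -/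
theorem caseB [N.Normal] (h2 : TwoN N m)
    (h : ∀ x ∈ N, (Subgroup.centralizer ({x} : Set G)).index = 1 ∨
      (Subgroup.centralizer ({x} : Set G)).index = m)
    (r : ℕ) [hr : Fact r.Prime] (R : Sylow r G)
    (hRN : (R : Subgroup G) ≤ N) (hR : ¬ (R : Subgroup G) ≤ Subgroup.center G) (hrm : r ∣ m)
    (q : ℕ) [hq : Fact q.Prime] (hqr : q ≠ r) (b : G) (hbN : b ∈ N)
    (hbZ : b ∉ Subgroup.center G) (hbq : ∃ k : ℕ, orderOf b = q ^ k) : False := by
  classical
  obtain ⟨a₀, ha₀R, ha₀Z⟩ := SetLike.not_le_iff_exists.mp hR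
  have ha₀N := hRN ha₀R
  have ha₀o : ∃ k, orderOf a₀ = r ^ k := by
    obtain ⟨k, hk⟩ := (IsPGroup.iff_orderOf.mp R.2) ⟨a₀, ha₀R⟩
    exact ⟨k, by rw [← hk, Subgroup.orderOf_mk]⟩
  obtain ⟨u, huL, huZ, ⟨ku, huo⟩⟩ := exists_noncentral_pelem h2 ha₀N ha₀Z ha₀o hbN hbZ
  have huN : u ∈ N := r_elem_mem r R hRN ⟨ku, huo⟩
  obtain ⟨kb, hbo⟩ := hbq
  set L := Subgroup.centralizer ({b} : Set G) with hL
  have hLidx : L.index = m := h2 b hbN hbZ
  have hrq' : Nat.Coprime r q := (Nat.coprime_primes hr.out hq.out).mpr (Ne.symm hqr)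
  have hub : Commute u b := mem_cent_iff.mp huL
  have hLu : Subgroup.centralizer ({u} : Set G) = L := by
    have h1 : L ≤ Subgroup.centralizer ({u} : Set G) :=
      cent_le_of_coprime h2 hbN huN hbZ hub.symm (by
        rw [huo, hbo]; exact Nat.Coprime.pow _ _ hrq'.symm)
    exact (cent_eq_of_le h2 hbN hbZ huN huZ h1).symm
  -- all noncentral elements of A = N ⊓ L have centralizer L
  have hA : ∀ y ∈ N, y ∈ L → y ∉ Subgroup.center G →
      Subgroup.centralizer ({y} : Set G) = L := by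
    intro y hyN hyL hyZ
    obtain ⟨w', u', h1, h2', ⟨k', h3⟩, -, h5⟩ := Cfsg.Agent.S4106.exists_decomp r hr.out
      (⟨y, Subgroup.mem_inf.mpr ⟨hyN, hyL⟩⟩ : (N ⊓ L : Subgroup G))
    have hw'N : (w' : G) ∈ N := (Subgroup.mem_inf.mp w'.2).1
    have hw'L : (w' : G) ∈ L := (Subgroup.mem_inf.mp w'.2).2
    have hu'N : (u' : G) ∈ N := (Subgroup.mem_inf.mp u'.2).1
    have hu'L : (u' : G) ∈ L := (Subgroup.mem_inf.mp u'.2).2
    have hy : y = (w' : G) * (u' : G) := congrArg Subtype.val h1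
    have hwv : Commute (w' : G) (u' : G) := congrArg Subtype.val h2'
    have hvo : orderOf (u' : G) = r ^ k' := by rw [Subgroup.orderOf_coe]; exact h3
    have hwo : ¬ r ∣ orderOf (w' : G) := by rwa [Subgroup.orderOf_coe]
    have hcop : (orderOf (w' : G)).Coprime (orderOf (u' : G)) := by
      rw [hvo]
      exact (Nat.Coprime.pow_left k' ((Nat.Prime.coprime_iff_not_dvd hr.out).mpr hwo)).symm
    have hcy := cent_mul hwv hcop
    rw [← hy] at hcy
    by_cases hw : (w' : G) ∈ Subgroup.center G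
    · have hv : (u' : G) ∉ Subgroup.center G := fun hv => hyZ (hy ▸ mul_mem hw hv)
      have hvb : Commute b (u' : G) := (mem_cent_iff.mp hu'L).symm
      have h6 : L ≤ Subgroup.centralizer ({(u' : G)} : Set G) :=
        cent_le_of_coprime h2 hbN hu'N hbZ hvb (by
          rw [hbo, hvo]; exact Nat.Coprime.pow _ _ hrq'.symm)
      have h7 : L = Subgroup.centralizer ({(u' : G)} : Set G) :=
        cent_eq_of_le h2 hbN hbZ hu'N hv h6
      have h8 : Subgroup.centralizer ({y} : Set G) ≤ Subgroup.centralizer ({(u' : G)} : Set G) :=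
        hcy ▸ inf_le_right
      rw [h7]
      exact cent_eq_of_le h2 hyN hyZ hu'N hv h8
    · have hwu : Commute u (w' : G) := by
        have : (w' : G) ∈ Subgroup.centralizer ({u} : Set G) := by rw [hLu]; exact hw'L
        exact (mem_cent_iff.mp this).symm
      have h6 : Subgroup.centralizer ({u} : Set G) ≤ Subgroup.centralizer ({(w' : G)} : Set G) :=
        cent_le_of_coprime h2 huN hw'N huZ hwu (by
          rw [huo]
          exact Nat.Coprime.pow_left ku ((Nat.Prime.coprime_iff_not_dvd hr.out).mpr hwo))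
      have h7 : Subgroup.centralizer ({u} : Set G) = Subgroup.centralizer ({(w' : G)} : Set G) :=
        cent_eq_of_le h2 huN huZ hw'N hw h6
      have h8 : Subgroup.centralizer ({y} : Set G) ≤ Subgroup.centralizer ({(w' : G)} : Set G) :=
        hcy ▸ inf_le_left
      rw [← hLu, h7]
      exact cent_eq_of_le h2 hyN hyZ hw'N hw h8
  -- A is abelian
  have hAcomm : ∀ a ∈ (N ⊓ L : Subgroup G), ∀ a' ∈ (N ⊓ L : Subgroup G), a * a' = a' * a := by
    intro a ha a' ha'
    by_cases haZ : a ∈ Subgroup.center G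
    · exact (Subgroup.mem_center_iff.mp haZ a').symm
    · have h1 := hA a (Subgroup.mem_inf.mp ha).1 (Subgroup.mem_inf.mp ha).2 haZ
      have h3 : a' ∈ Subgroup.centralizer ({a} : Set G) := h1 ▸ (Subgroup.mem_inf.mp ha').2
      exact (mem_cent_iff.mp h3).symm
  -- the normalizer of L
  set M := Subgroup.normalizer (L : Set G) with hM
  have hMmem : ∀ g : G, ∀ y ∈ N, y ∈ L → y ∉ Subgroup.center G → g * y * g⁻¹ ∈ L → g ∈ M := by
    intro g y hyN hyL hyZ hgy
    have hy'N : g * y * g⁻¹ ∈ N := (inferInstance : N.Normal).conj_mem y hyN g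
    have hy'Z : g * y * g⁻¹ ∉ Subgroup.center G := conj_not_mem_center hyZ
    have e1 := hA y hyN hyL hyZ
    have e2 := hA _ hy'N hgy hy'Z
    rw [hM, Subgroup.mem_normalizer_iff]
    intro x
    rw [← e1, mem_cent_iff]
    have e3 : g * x * g⁻¹ ∈ Subgroup.centralizer ({y} : Set G) ↔
        g * x * g⁻¹ ∈ Subgroup.centralizer ({g * y * g⁻¹} : Set G) := by rw [e1, e2]
    rw [e3, mem_cent_iff]
    constructor
    · intro hxy
      calc g * x * g⁻¹ * (g * y * g⁻¹) = g * (x * y) * g⁻¹ := by group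
        _ = g * (y * x) * g⁻¹ := by rw [hxy]
        _ = g * y * g⁻¹ * (g * x * g⁻¹) := by group
    · intro hxy
      have : g * (x * y) * g⁻¹ = g * (y * x) * g⁻¹ := by
        calc g * (x * y) * g⁻¹ = g * x * g⁻¹ * (g * y * g⁻¹) := by group
          _ = g * y * g⁻¹ * (g * x * g⁻¹) := hxy
          _ = g * (y * x) * g⁻¹ := by group
      exact mul_left_cancel (mul_right_cancel this)
  have hMA : ∀ g ∈ M, ∀ a ∈ (N ⊓ L : Subgroup G), g * a * g⁻¹ ∈ (N ⊓ L : Subgroup G) := by
    intro g hg a ha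
    exact Subgroup.mem_inf.mpr ⟨(inferInstance : N.Normal).conj_mem a (Subgroup.mem_inf.mp ha).1 g,
      (Subgroup.mem_normalizer_iff.mp hg a).mp (Subgroup.mem_inf.mp ha).2⟩
  have hMA' : ∀ g ∈ M, ∀ a ∈ (N ⊓ L : Subgroup G), g⁻¹ * a * g ∈ (N ⊓ L : Subgroup G) := by
    intro g hg a ha
    have := hMA g⁻¹ (M.inv_mem hg) a ha
    rwa [inv_inv] at this
  have hfree : ∀ g : G, g ∉ L → ∀ a ∈ (N ⊓ L : Subgroup G), g * a * g⁻¹ = a →
      a ∈ Subgroup.center G := by
    intro g hgL a ha hga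
    by_contra haZ
    have h1 := hA a (Subgroup.mem_inf.mp ha).1 (Subgroup.mem_inf.mp ha).2 haZ
    apply hgL
    rw [← h1, mem_cent_iff]
    calc g * a = g * a * g⁻¹ * g := by group
      _ = a * g := by rw [hga]
  have hLtriv : ∀ g ∈ L, ∀ a ∈ (N ⊓ L : Subgroup G), g * a * g⁻¹ = a := by
    intro g hgL a ha
    have hga : g * a = a * g := by
      by_cases haZ : a ∈ Subgroup.center G
      · exact Subgroup.mem_center_iff.mp haZ g
      · have h1 := hA a (Subgroup.mem_inf.mp ha).1 (Subgroup.mem_inf.mp ha).2 haZ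
        have : g ∈ Subgroup.centralizer ({a} : Set G) := h1 ▸ hgL
        exact mem_cent_iff.mp this
    rw [hga]; group
  -- normalizing elements of prime power order
  have hnorm : ∀ (ℓ : ℕ) [Fact ℓ.Prime], ℓ ∣ m → ∀ v ∈ N, v ∈ L → v ∉ Subgroup.center G →
      (∃ k : ℕ, orderOf v = ℓ ^ k) → ∃ x ∈ M, x ∉ L ∧ ∃ j : ℕ, x ^ ℓ ^ j = 1 := by
    intro ℓ hℓ hℓm v hvN hvL hvZ hvo
    obtain ⟨k, hk⟩ := hvo
    have hp : IsPGroup ℓ (Subgroup.zpowers v) :=
      IsPGroup.of_card (n := k) (by rw [Nat.card_zpowers, hk])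
    obtain ⟨P, hP⟩ := hp.exists_le_sylow
    have hvP : v ∈ (P : Subgroup G) := hP (Subgroup.mem_zpowers v)
    have hPL : ¬ (P : Subgroup G) ≤ L := by
      intro hle
      have h1 : L.index ∣ (P : Subgroup G).index := Subgroup.index_dvd_of_le hle
      rw [hLidx] at h1
      exact P.not_dvd_index (dvd_trans hℓm h1)
    have hD : L.subgroupOf (P : Subgroup G) < ⊤ := by
      rw [lt_top_iff_ne_top]
      intro h
      exact hPL (Subgroup.subgroupOf_eq_top.mp h)
    have hnil : Group.IsNilpotent (P : Subgroup G) := P.2.isNilpotent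
    have hnc := Group.normalizerCondition_of_isNilpotent (G := (P : Subgroup G)) _ hD
    obtain ⟨x', hx'n, hx'D⟩ := SetLike.exists_of_lt hnc
    refine ⟨(x' : G), ?_, ?_, ?_⟩
    · apply hMmem (x' : G) v hvN hvL hvZ
      have h1 : (⟨v, hvP⟩ : (P : Subgroup G)) ∈ L.subgroupOf (P : Subgroup G) := by
        rw [Subgroup.mem_subgroupOf]; exact hvL
      have h3 := (Subgroup.mem_normalizer_iff.mp hx'n _).mp h1
      rw [Subgroup.mem_subgroupOf] at h3
      simpa using h3
    · intro hxL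
      exact hx'D (Subgroup.mem_subgroupOf.mpr hxL)
    · obtain ⟨j, hj⟩ := P.2 x'
      exact ⟨j, by simpa using congrArg Subtype.val hj⟩
  -- q divides m
  have hqm : q ∣ m := by
    by_contra hqm
    have hall := not_dvd_index_sub (N := N) q hq.out hqm h
    have hp : IsPGroup q (Subgroup.zpowers (⟨b, hbN⟩ : N)) :=
      IsPGroup.of_card (n := kb) (by rw [Nat.card_zpowers, Subgroup.orderOf_mk, hbo])
    obtain ⟨Q, hQ⟩ := hp.exists_le_sylow
    have hbc : (⟨b, hbN⟩ : N) ∈ Subgroup.center N :=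
      sylow_le_center q hall Q (hQ (Subgroup.mem_zpowers _))
    have hNL : N ≤ L := by
      intro n hn
      rw [hL, mem_cent_iff]
      have := Subgroup.mem_center_iff.mp hbc ⟨n, hn⟩
      exact congrArg Subtype.val this
    have h1 : L.index ∣ (R : Subgroup G).index := Subgroup.index_dvd_of_le (le_trans hRN hNL)
    rw [hLidx] at h1
    exact R.not_dvd_index (dvd_trans hrm h1)
  obtain ⟨x, hxM, hxL, jx, hxj⟩ := hnorm r hrm u huN huL huZ ⟨ku, huo⟩
  obtain ⟨y, hyM, hyL, jy, hyj⟩ := hnorm q hqm b hbN (self_mem_cent b) hbZ ⟨kb, hbo⟩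
  -- the abelian group A and the group of automorphisms induced by M
  let instA : CommGroup (N ⊓ L : Subgroup G) :=
    { (inferInstance : Group (N ⊓ L : Subgroup G)) with
      mul_comm := fun a a' => Subtype.ext (hAcomm a a.2 a' a'.2) }
  let Hs : Subgroup (MulAut (N ⊓ L : Subgroup G)) :=
    { carrier := {σ | ∃ g ∈ M, ∀ a : (N ⊓ L : Subgroup G), ((σ a : (N ⊓ L : Subgroup G)) : G) =
        g * a * g⁻¹}
      mul_mem' := by
        rintro σ τ ⟨g, hg, hσ⟩ ⟨g', hg', hτ⟩
        refine ⟨g * g', M.mul_mem hg hg', fun a => ?_⟩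
        rw [MulAut.mul_apply, hσ, hτ]
        group
      one_mem' := ⟨1, M.one_mem, fun a => by simp⟩
      inv_mem' := by
        rintro σ ⟨g, hg, hσ⟩
        refine ⟨g⁻¹, M.inv_mem hg, fun a => ?_⟩
        have h1 := hσ (σ⁻¹ a)
        rw [MulAut.apply_inv_self] at h1
        rw [h1]
        group }
  let Z₀ : Subgroup (N ⊓ L : Subgroup G) := (Subgroup.center G).subgroupOf (N ⊓ L : Subgroup G)
  have huA : u ∈ (N ⊓ L : Subgroup G) := Subgroup.mem_inf.mpr ⟨huN, huL⟩
  have hbA : b ∈ (N ⊓ L : Subgroup G) := Subgroup.mem_inf.mpr ⟨hbN, self_mem_cent b⟩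
  have hZ : ∀ σ ∈ Hs, ∀ z ∈ Z₀, σ z = z := by
    rintro σ ⟨g, hg, hσ⟩ z hz
    apply Subtype.ext
    rw [hσ]
    have hzc : (z : G) ∈ Subgroup.center G := hz
    rw [Subgroup.mem_center_iff.mp hzc g]
    group
  have hfix : ∀ σ ∈ Hs, σ ≠ 1 → ∀ w : (N ⊓ L : Subgroup G), σ w = w → w ∈ Z₀ := by
    rintro σ ⟨g, hg, hσ⟩ hσ1 w hw
    by_contra hwZ
    have hwZ' : (w : G) ∉ Subgroup.center G := hwZ
    have hgw : g * (w : G) * g⁻¹ = w := by rw [← hσ, hw]
    have hgL : g ∈ L := by
      by_contra hgL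
      exact hwZ' (hfree g hgL w w.2 hgw)
    apply hσ1
    ext a
    rw [hσ, MulAut.one_apply]
    exact hLtriv g hgL a a.2
  let σx : MulAut (N ⊓ L : Subgroup G) := conjAut (N ⊓ L : Subgroup G) x (hMA x hxM) (hMA' x hxM)
  let σy : MulAut (N ⊓ L : Subgroup G) := conjAut (N ⊓ L : Subgroup G) y (hMA y hyM) (hMA' y hyM)
  have hσx : σx ∈ Hs := ⟨x, hxM, fun a => rfl⟩
  have hσy : σy ∈ Hs := ⟨y, hyM, fun a => rfl⟩
  have hσx1 : σx ≠ 1 := by
    intro h1
    have h3 : σx ⟨u, huA⟩ = ⟨u, huA⟩ := by rw [h1]; rfl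
    have h4 : x * u * x⁻¹ = u := congrArg Subtype.val h3
    exact huZ (hfree x hxL u huA h4)
  have hσy1 : σy ≠ 1 := by
    intro h1
    have h3 : σy ⟨u, huA⟩ = ⟨u, huA⟩ := by rw [h1]; rfl
    have h4 : y * u * y⁻¹ = u := congrArg Subtype.val h3
    exact huZ (hfree y hyL u huA h4)
  have hσxj : σx ^ r ^ jx = 1 := by
    ext a
    rw [conjAut_pow_apply, hxj, MulAut.one_apply]
    group
  have hσyj : σy ^ q ^ jy = 1 := by
    ext a
    rw [conjAut_pow_apply, hyj, MulAut.one_apply]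
    group
  have hwr : (⟨u, huA⟩ : (N ⊓ L : Subgroup G)) ∉ Z₀ := fun h => huZ h
  have hwq : (⟨b, hbA⟩ : (N ⊓ L : Subgroup G)) ∉ Z₀ := fun h => hbZ h
  have hwr' : (⟨u, huA⟩ : (N ⊓ L : Subgroup G)) ^ r ^ ku = 1 := by
    apply Subtype.ext
    rw [Subgroup.coe_pow, ← huo]
    exact pow_orderOf_eq_one u
  have hwq' : (⟨b, hbA⟩ : (N ⊓ L : Subgroup G)) ^ q ^ kb = 1 := by
    apply Subtype.ext
    rw [Subgroup.coe_pow, ← hbo]
    exact pow_orderOf_eq_one b
  exact Cfsg.Agent.Lib.helper72.false_of_free_action Hs Z₀ hZ hfix r q (Ne.symm hqr)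
    ⟨u, huA⟩ ⟨b, hbA⟩ hwr hwq ku kb hwr' hwq' σx σy hσx hσy hσx1 hσy1 jx jy hσxj hσyj

/-- the statement -/
theorem result {G : Type*} [Group G] [Finite G] (r : ℕ) [Fact r.Prime]
    (R : Sylow r G) (hR : ¬ (R : Subgroup G) ≤ Subgroup.center G) (N : Subgroup G) [N.Normal] (hRN : (R : Subgroup G) ≤ N)
    (m : ℕ) (h : ∀ x ∈ N, (Subgroup.centralizer ({x} : Set G)).index = 1 ∨ (Subgroup.centralizer ({x} : Set G)).index = m) : Group.IsNilpotent N := by
  classical
  have hr : r.Prime := Fact.out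
  have h2 : TwoN N m := by
    intro x hxN hxZ
    rcases h x hxN with h1 | h1
    · exfalso
      apply hxZ
      rw [Subgroup.index_eq_one] at h1
      rw [Subgroup.mem_center_iff]
      intro g
      have : g ∈ Subgroup.centralizer ({x} : Set G) := h1 ▸ Subgroup.mem_top g
      exact mem_cent_iff.mp this
    · exact h1
  obtain ⟨a₀, ha₀R, ha₀Z⟩ := SetLike.not_le_iff_exists.mp hR
  have ha₀N := hRN ha₀R
  obtain ⟨k₀, hk₀⟩ : ∃ k, orderOf a₀ = r ^ k := by
    obtain ⟨k, hk⟩ := (IsPGroup.iff_orderOf.mp R.2) ⟨a₀, ha₀R⟩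
    exact ⟨k, by rw [← hk, Subgroup.orderOf_mk]⟩
  by_cases hrm : r ∣ m
  · -- all `r'`-elements of `N` are central in `G`
    have hcentral : ∀ y ∈ N, ¬ r ∣ orderOf y → y ∈ Subgroup.center G := by
      intro y hyN hyr
      apply Cfsg.Agent.Lib.helper70.mem_of_prime_pow_powers_mem' (Subgroup.center G) y
        (orderOf_pos y)
      intro p k e hp hord
      by_contra hZ
      have hpr : p ≠ r := by
        rintro rfl
        have hk0 : k ≠ 0 := by
          rintro rfl
          rw [pow_zero, orderOf_eq_one_iff] at hord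
          exact hZ (hord ▸ Subgroup.one_mem _)
        have h1 : p ∣ orderOf (y ^ e) := hord ▸ dvd_pow_self p hk0
        exact hyr (dvd_trans h1 (orderOf_pow_dvd e))
      have : Fact p.Prime := ⟨hp⟩
      exact caseB h2 h r R hRN hR hrm p hpr (y ^ e) (N.pow_mem hyN e) hZ ⟨k, hord⟩
    -- `N` modulo the centre is an `r`-group
    let f : N →* G ⧸ Subgroup.center G := (QuotientGroup.mk' (Subgroup.center G)).comp N.subtype
    have hker : f.rangeRestrict.ker ≤ Subgroup.center N := by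
      intro x hx
      rw [MonoidHom.ker_rangeRestrict, MonoidHom.mem_ker] at hx
      have hxZ : (x : G) ∈ Subgroup.center G := by
        have : (QuotientGroup.mk' (Subgroup.center G)) (x : G) = 1 := hx
        rwa [QuotientGroup.mk'_apply, QuotientGroup.eq_one_iff] at this
      rw [Subgroup.mem_center_iff]
      intro g
      exact Subtype.ext (Subgroup.mem_center_iff.mp hxZ (g : G))
    have hp : IsPGroup r f.range := by
      rintro ⟨_, ⟨y, rfl⟩⟩
      obtain ⟨w', u', h1, -, ⟨k', h3⟩, -, h5⟩ := Cfsg.Agent.S4106.exists_decomp r hr y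
      refine ⟨k', ?_⟩
      apply Subtype.ext
      have hw : (w' : G) ∈ Subgroup.center G :=
        hcentral _ w'.2 (by rwa [Subgroup.orderOf_coe])
      have hfw : f w' = 1 := by
        change (QuotientGroup.mk' (Subgroup.center G)) (w' : G) = 1
        rw [QuotientGroup.mk'_apply, QuotientGroup.eq_one_iff]
        exact hw
      change f y ^ r ^ k' = 1
      rw [h1, map_mul, hfw, one_mul, ← map_pow, ← h3, pow_orderOf_eq_one, map_one]
    have hnil : Group.IsNilpotent f.range := hp.isNilpotent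
    exact Subgroup.isNilpotent_of_ker_le_center f.rangeRestrict hker
  · -- `N` is abelian
    have hall := not_dvd_index_sub (N := N) r hr hrm h
    have hrc : ∀ y ∈ N, (∃ k : ℕ, orderOf y = r ^ k) → ∀ n ∈ N, n * y = y * n := by
      intro y hyN ⟨k, hk⟩ n hn
      have hp : IsPGroup r (Subgroup.zpowers (⟨y, hyN⟩ : N)) :=
        IsPGroup.of_card (n := k) (by rw [Nat.card_zpowers, Subgroup.orderOf_mk, hk])
      obtain ⟨Q, hQ⟩ := hp.exists_le_sylow
      have hyc : (⟨y, hyN⟩ : N) ∈ Subgroup.center N :=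
        sylow_le_center r hall Q (hQ (Subgroup.mem_zpowers _))
      exact congrArg Subtype.val (Subgroup.mem_center_iff.mp hyc ⟨n, hn⟩)
    have hr' : ∀ y ∈ N, ¬ r ∣ orderOf y → y ∉ Subgroup.center G →
        Subgroup.centralizer ({y} : Set G) = Subgroup.centralizer ({a₀} : Set G) := by
      intro y hyN hyr hyZ
      have hc : Commute a₀ y := (hrc a₀ ha₀N ⟨k₀, hk₀⟩ y hyN).symm
      have h1 : Subgroup.centralizer ({a₀} : Set G) ≤ Subgroup.centralizer ({y} : Set G) :=
        cent_le_of_coprime h2 ha₀N hyN ha₀Z hc (by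
          rw [hk₀]
          exact Nat.Coprime.pow_left k₀ ((Nat.Prime.coprime_iff_not_dvd hr).mpr hyr))
      exact (cent_eq_of_le h2 ha₀N ha₀Z hyN hyZ h1).symm
    have hcomm : ∀ g₁ g₂ : N, g₁ * g₂ = g₂ * g₁ := by
      intro g₁ g₂
      obtain ⟨w₁, v₁, e1, -, ⟨k₁, o1⟩, -, n1⟩ := Cfsg.Agent.S4106.exists_decomp r hr g₁
      obtain ⟨w₂, v₂, e2, -, ⟨k₂, o2⟩, -, n2⟩ := Cfsg.Agent.S4106.exists_decomp r hr g₂
      have hv₁ : ∀ n : N, n * v₁ = v₁ * n := by
        intro n
        apply Subtype.ext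
        exact hrc (v₁ : G) v₁.2 ⟨k₁, by rw [Subgroup.orderOf_coe]; exact o1⟩ n n.2
      have hv₂ : ∀ n : N, n * v₂ = v₂ * n := by
        intro n
        apply Subtype.ext
        exact hrc (v₂ : G) v₂.2 ⟨k₂, by rw [Subgroup.orderOf_coe]; exact o2⟩ n n.2
      have hww : w₁ * w₂ = w₂ * w₁ := by
        apply Subtype.ext
        change (w₁ : G) * (w₂ : G) = (w₂ : G) * (w₁ : G)
        by_cases hw₁ : (w₁ : G) ∈ Subgroup.center G
        · exact (Subgroup.mem_center_iff.mp hw₁ (w₂ : G)).symm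
        · have h1 := hr' (w₁ : G) w₁.2 (by rwa [Subgroup.orderOf_coe]) hw₁
          have h3 : (w₂ : G) ∈ Subgroup.centralizer ({(w₁ : G)} : Set G) := by
            rw [h1, mem_cent_iff]
            exact hrc a₀ ha₀N ⟨k₀, hk₀⟩ (w₂ : G) w₂.2
          exact (mem_cent_iff.mp h3).symm
      rw [e1, e2]
      calc w₁ * v₁ * (w₂ * v₂) = w₁ * (v₁ * w₂) * v₂ := by group
        _ = w₁ * (w₂ * v₁) * v₂ := by rw [← hv₁ w₂]
        _ = (w₁ * w₂) * (v₁ * v₂) := by group
        _ = (w₂ * w₁) * (v₂ * v₁) := by rw [hww, hv₂ v₁]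
        _ = w₂ * (w₁ * v₂) * v₁ := by group
        _ = w₂ * (v₂ * w₁) * v₁ := by rw [hv₂ w₁]
        _ = w₂ * v₂ * (w₁ * v₁) := by group
    refine ⟨⟨1, ?_⟩⟩
    rw [Subgroup.upperCentralSeries_one, eq_top_iff]
    intro g _
    rw [Subgroup.mem_center_iff]
    intro g'
    exact hcomm g' g

end main

end Cfsg.Agent.S4135
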