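import Cfsg.Statements.S4139
import Mathlib
import Cfsg.Agent.Lib.helper70.ClassNilp

set_option autoImplicit false
open Cfsg
open Cfsg.Agent.Lib.helper70

namespace Cfsg.Agent.S4139

/-- Let G and H be finite groups such that for every natural number k, G and H have the same number of conjugacy classes of size k. If H is nilpotent then G is nilpotent. -/
theorem result {G H : Type*} [Group G] [Finite G] [Group H] [Finite H]
    (hH : Group.IsNilpotent H)
    (h : ∀ k : ℕ, Nat.card {C : ConjClasses G // Nat.card C.carrier = k} = Nat.card {C : ConjClasses H // Nat.card C.carrier = k}) :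
    Group.IsNilpotent G := by
  classical
  -- a bijection between the conjugacy classes preserving the class size
  have hequiv : ∀ k : ℕ, Nonempty ({C : ConjClasses G // Nat.card C.carrier = k} ≃
      {C : ConjClasses H // Nat.card C.carrier = k}) := fun k => Finite.card_eq.1 (h k)
  let e : ConjClasses G ≃ ConjClasses H :=
    (Equiv.sigmaFiberEquiv (fun C : ConjClasses G => Nat.card C.carrier)).symm.trans
      ((Equiv.sigmaCongrRight fun k => (hequiv k).some).trans
        (Equiv.sigmaFiberEquiv (fun C : ConjClasses H => Nat.card C.carrier)))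
  have he : ∀ C : ConjClasses G, Nat.card (e C).carrier = Nat.card C.carrier := by
    intro C
    exact ((hequiv (Nat.card C.carrier)).some ⟨C, rfl⟩).2
  -- a bijection between the elements preserving the class size
  have hfib : ∀ C : ConjClasses G, Nonempty ({x : G // ConjClasses.mk x = C} ≃
      {y : H // ConjClasses.mk y = e C}) := by
    intro C
    apply Finite.card_eq.1
    have h1 : Nat.card {x : G // ConjClasses.mk x = C} = Nat.card C.carrier :=
      Nat.card_congr (Equiv.subtypeEquivRight (fun x => ConjClasses.mem_carrier_iff_mk_eq.symm))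
    have h2 : Nat.card {y : H // ConjClasses.mk y = e C} = Nat.card (e C).carrier :=
      Nat.card_congr (Equiv.subtypeEquivRight (fun x => ConjClasses.mem_carrier_iff_mk_eq.symm))
    rw [h1, h2, he]
  let ε : G ≃ H := (Equiv.sigmaFiberEquiv (ConjClasses.mk : G → ConjClasses G)).symm.trans
    ((Equiv.sigmaCongr e (fun C => (hfib C).some)).trans
      (Equiv.sigmaFiberEquiv (ConjClasses.mk : H → ConjClasses H)))
  have hε : ∀ x : G, ConjClasses.mk (ε x) = e (ConjClasses.mk x) := by
    intro x
    exact ((hfib (ConjClasses.mk x)).some ⟨x, rfl⟩).2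
  have hci : ∀ x : G, cidx (ε x) = cidx x := by
    intro x
    rw [← card_carrier_eq_cidx, ← card_carrier_eq_cidx, hε, he]
  have htrans : ∀ φ : ℕ → Prop,
      Nat.card {x : G // φ (cidx x)} = Nat.card {y : H // φ (cidx y)} := by
    intro φ
    exact Nat.card_congr (Equiv.subtypeEquiv ε (fun x => by rw [hci]))
  have hcardGH : Nat.card G = Nat.card H := Nat.card_congr ε
  have hZ : Nat.card (Subgroup.center G) = Nat.card (Subgroup.center H) := by
    have h1 : Nat.card (Subgroup.center G) = Nat.card {x : G // cidx x = 1} :=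
      Nat.card_congr (Equiv.subtypeEquivRight mem_center_iff_cidx_eq_one)
    have h2 : Nat.card (Subgroup.center H) = Nat.card {x : H // cidx x = 1} :=
      Nat.card_congr (Equiv.subtypeEquivRight mem_center_iff_cidx_eq_one)
    rw [h1, h2]
    exact htrans (fun n => n = 1)
  have hquot : Nat.card (G ⧸ Subgroup.center G) = Nat.card (H ⧸ Subgroup.center H) := by
    rw [← Subgroup.index_eq_card, ← Subgroup.index_eq_card]
    have h1 := Subgroup.index_mul_card (Subgroup.center G)
    have h2 := Subgroup.index_mul_card (Subgroup.center H)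
    rw [hZ, hcardGH, ← h2] at h1
    exact Nat.eq_of_mul_eq_mul_right Nat.card_pos h1
  -- step A: centres of Sylow subgroups
  have hA : ∀ (r : ℕ) [Fact r.Prime] (R : Sylow r G),
      ¬ r ∣ Nat.card ((Subgroup.centralizer ((R : Subgroup G) : Set G)).map
        (QuotientGroup.mk' (Subgroup.center G))) := by
    intro r _ R
    apply not_dvd_card_map_centralizer r R
    rw [hZ, htrans (fun n => ¬ r ∣ n)]
    exact nilpotent_not_dvd_card r
  -- step B: the Sylow subgroups of `G / Z(G)` are normal
  apply Group.of_quotient_center_nilpotent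
  refine (Group.isNilpotent_of_finite_tfae.out 0 3).2 ?_
  intro p hp P
  have hsub : {x : G | ∃ j, cidx x = p ^ j} ⊆
      (QuotientGroup.mk ⁻¹' ((P : Subgroup (G ⧸ Subgroup.center G)) :
        Set (G ⧸ Subgroup.center G)) : Set G) := by
    rintro x ⟨j, hj⟩
    exact mk_mem_sylow_of_ppow_cidx p (fun r _ _ R => hA r R) x j hj P
  have hcard : Nat.card (QuotientGroup.mk ⁻¹' ((P : Subgroup (G ⧸ Subgroup.center G)) :
        Set (G ⧸ Subgroup.center G)) : Set G) ≤ Nat.card {x : G | ∃ j, cidx x = p ^ j} := by
    rw [QuotientGroup.card_preimage_mk]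
    have h1 : Nat.card ((P : Subgroup (G ⧸ Subgroup.center G)) :
        Set (G ⧸ Subgroup.center G)) =
        p ^ (Nat.card (G ⧸ Subgroup.center G)).factorization p := P.card_eq_multiplicity
    rw [h1, hquot, hZ]
    have h2 := nilpotent_card_ppow_ge (H := H) p
    have h3 : Nat.card {x : G | ∃ j, cidx x = p ^ j} =
        Nat.card {y : H // ∃ j, cidx y = p ^ j} := htrans (fun n => ∃ j, n = p ^ j)
    rw [h3]
    exact h2
  have hset : {x : G | ∃ j, cidx x = p ^ j} =
      (QuotientGroup.mk ⁻¹' ((P : Subgroup (G ⧸ Subgroup.center G)) :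
        Set (G ⧸ Subgroup.center G)) : Set G) := by
    apply Set.eq_of_subset_of_ncard_le hsub
    rw [← Nat.card_coe_set_eq, ← Nat.card_coe_set_eq]
    exact hcard
  constructor
  intro n hn g
  obtain ⟨x, rfl⟩ := QuotientGroup.mk_surjective n
  obtain ⟨g', rfl⟩ := QuotientGroup.mk_surjective g
  have hx : x ∈ {x : G | ∃ j, cidx x = p ^ j} := by
    rw [hset]
    exact hn
  obtain ⟨j, hj⟩ := hx
  have hmem : g' * x * g'⁻¹ ∈ (QuotientGroup.mk ⁻¹' ((P : Subgroup (G ⧸ Subgroup.center G)) :
        Set (G ⧸ Subgroup.center G)) : Set G) := by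
    rw [← hset]
    exact ⟨j, by rw [cidx_conj]; exact hj⟩
  exact hmem

end Cfsg.Agent.S4139
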