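import Cfsg.Statements.S4140
import Cfsg.Agent.Lib.helper72.Camina
import Cfsg.Agent.Lib.helper67.Tate
import Cfsg.Agent.Lib.helper40.PNil
import Cfsg.Agent.S0033

set_option autoImplicit false
open Cfsg

namespace Cfsg.Agent.S4140

open Cfsg.Agent.Lib.helper72

/-- Let G be a finite group and N a proper non-trivial normal subgroup such that for every g outside N the conjugacy class of g is a union of cosets of N (equivalently gn is conjugate to g for every n ∈ N). Then either every element of G outside N acts fixed-point-freely on N (C_G(x) ≤ N for all x ∈ N, x ≠ 1, so G is a Frobenius group with kernel N), or N has prime-power order, or G/N has prime-power order. -/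
theorem result {G : Type*} [Group G] [Finite G] (N : Subgroup G) [N.Normal] (hN1 : N ≠ ⊥) (hN2 : N ≠ ⊤)
    (hcam : ∀ g : G, g ∉ N → ∀ n ∈ N, ∃ x : G, x * g * x⁻¹ = g * n) :
    (∀ x ∈ N, x ≠ 1 → Subgroup.centralizer ({x} : Set G) ≤ N) ∨ IsPrimePow (Nat.card N) ∨ IsPrimePow N.index := by
  classical
  have hcam' : Cam N := hcam
  have hNn : N.Normal := inferInstance
  by_contra hcon
  push Not at hcon
  obtain ⟨⟨x, hxN, hx1, hxc⟩, hNpp, hIpp⟩ := hcon
  obtain ⟨g, hgc, hgN⟩ := SetLike.not_le_iff_exists.mp hxc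
  have hcomm : Commute g x := by
    rw [Subgroup.mem_centralizer_iff] at hgc
    exact (hgc x rfl).symm
  obtain ⟨m, hm, hmd⟩ := cam_fix hcam' hgN hxN hcomm hx1 (k := N.index) (N.pow_index_mem g)
  obtain ⟨p, hpdef⟩ : ∃ p, p = orderOf (x ^ m) := ⟨_, rfl⟩
  rw [← hpdef] at hm hmd
  haveI hp : Fact p.Prime := ⟨hm⟩
  have hxmN : x ^ m ∈ N := N.pow_mem hxN m
  -- a second prime dividing the index
  have hidx0 : N.index ≠ 0 := Subgroup.index_ne_zero_of_finite
  obtain ⟨q, hq, hqI, hqp⟩ : ∃ q, q.Prime ∧ q ∣ N.index ∧ q ≠ p := by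
    by_contra hno
    push Not at hno
    have h1 := Nat.eq_prime_pow_of_unique_prime_dvd hidx0 (fun {d} hd hdn => hno d hd hdn)
    apply hIpp
    rw [h1]
    have hk0 : N.index.primeFactorsList.length ≠ 0 := by
      intro h0
      rw [h0, pow_zero] at h1
      rw [h1] at hmd
      exact hm.one_lt.ne' (Nat.dvd_one.mp hmd)
    exact hm.isPrimePow.pow hk0
  haveI hqf : Fact q.Prime := ⟨hq⟩
  -- the Sylow `p`-subgroup
  obtain ⟨P⟩ : Nonempty (Sylow p G) := inferInstance
  have hPN : ¬ (P : Subgroup G) ≤ N := by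
    intro h
    exact P.not_dvd_index (hmd.trans (Subgroup.index_dvd_of_le h))
  have hP0 : ∃ n ∈ N, n ∈ (P : Subgroup G) ∧ n ≠ 1 := by
    have hpg : IsPGroup p (Subgroup.zpowers (x ^ m)) := by
      apply IsPGroup.of_card (n := 1)
      rw [Nat.card_zpowers, ← hpdef, pow_one]
    obtain ⟨Q, hQ⟩ := hpg.exists_le_sylow
    obtain ⟨c, hc⟩ := MulAction.exists_smul_eq G Q P
    refine ⟨c * x ^ m * c⁻¹, hNn.conj_mem _ hxmN c, ?_, ?_⟩
    · rw [← hc, Sylow.coe_subgroup_smul]
      exact ⟨x ^ m, hQ (Subgroup.mem_zpowers _), rfl⟩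
    · intro h
      have h1 : x ^ m = 1 := by simpa using h
      rw [h1, orderOf_one] at hpdef
      exact hm.ne_one hpdef
  obtain ⟨u, huP, v, hvP, hup, hvp, huv, hind⟩ := cam_sylow_pair hcam' P hPN hP0
  by_cases hqN : q ∣ Nat.card N
  · -- Tate: `N` has a normal `q`-complement
    obtain ⟨Q⟩ : Nonempty (Sylow q G) := inferInstance
    have hQN : ¬ (Q : Subgroup G) ≤ N := fun h =>
      Q.not_dvd_index (hqI.trans (Subgroup.index_dvd_of_le h))
    have hfr := cam_sylow_frattini hcam' Q hQN
    have hnpc := Cfsg.Agent.Lib.helper67.tate_normal Q N hfr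
    obtain ⟨K', hK'n, hK'cop, k, hK'idx⟩ :=
      Cfsg.Agent.Lib.helper40.exists_normal_coprime_of_hasNPC hnpc
    haveI := hK'n
    have hmem : ∀ x : ↥N, x ∈ K' ↔ (orderOf x).Coprime q := by
      intro x
      constructor
      · intro hx
        exact Nat.Coprime.coprime_dvd_left (Subgroup.orderOf_dvd_natCard K' hx) hK'cop
      · intro hx
        apply cam_mem_of_coprime K' (a := q ^ k) (b := orderOf x) (Nat.Coprime.pow_left k hx.symm)
        · rw [← hK'idx]; exact K'.pow_index_mem x
        · rw [pow_orderOf_eq_one]; exact K'.one_mem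
    refine cam_finish hcam' (P : Subgroup G) P.isPGroup' u v huP hvP hup hvp huv hind K'
      ?_ ?_ ?_ ?_
    · intro g x hx
      rw [hmem] at hx ⊢
      have h1 : orderOf (⟨g * x * g⁻¹, hNn.conj_mem x x.2 g⟩ : ↥N) = orderOf x := by
        rw [← Subgroup.orderOf_coe, ← Subgroup.orderOf_coe]
        exact (MulAut.conj g).orderOf_eq (x : G)
      rwa [h1]
    · intro h
      rw [h, Subgroup.card_top] at hK'cop
      exact (Nat.Prime.coprime_iff_not_dvd hq).mp hK'cop.symm hqN
    · intro x hx
      apply cam_mem_of_coprime K' (a := p) (b := q ^ k)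
        (Nat.Coprime.pow_right k ((Nat.coprime_primes hm hq).mpr (Ne.symm hqp))) hx
      rw [← hK'idx]; exact K'.pow_index_mem x
    · have hQ : IsPGroup q (↥N ⧸ K') :=
        IsPGroup.of_card (n := k) (by rw [← hK'idx]; rfl)
      exact hQ.isNilpotent
  · -- Thompson: `N` is nilpotent
    have hqG : q ∣ Nat.card G := hqI.trans (Subgroup.index_dvd_card N)
    obtain ⟨h, hh⟩ := exists_prime_orderOf_dvd_card' q hqG
    have hhN : h ∉ N := by
      intro hhN
      apply hqN
      rw [← hh]; exact Subgroup.orderOf_dvd_natCard N hhN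
    have hfpf : ∀ n : ↥N, (MulAut.conjNormal h : MulAut ↥N) n = n → n = 1 := by
      intro n hn
      by_contra hn1
      have hn' : h * (n : G) * h⁻¹ = (n : G) := by
        rw [← MulAut.conjNormal_apply]; exact congrArg Subtype.val hn
      have hc : Commute h (n : G) := mul_inv_eq_iff_eq_mul.mp hn'
      have hn1' : (n : G) ≠ 1 := fun e => hn1 (Subtype.ext e)
      obtain ⟨m', hm', hmd'⟩ := cam_fix hcam' hhN n.2 hc hn1' (k := q)
        (by rw [← hh, pow_orderOf_eq_one]; exact N.one_mem)
      have h2 : orderOf ((n : G) ^ m') = q := (Nat.prime_dvd_prime_iff_eq hm' hq).mp hmd'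
      apply hqN
      rw [← h2]; exact Subgroup.orderOf_dvd_natCard N (N.pow_mem n.2 m')
    have hord : orderOf (MulAut.conjNormal h : MulAut ↥N) = q := by
      apply orderOf_eq_prime
      · rw [← map_pow, ← hh, pow_orderOf_eq_one, map_one]
      · intro h1
        apply hN1
        rw [Subgroup.eq_bot_iff_forall]
        intro n hn
        have h2 := hfpf ⟨n, hn⟩ (by rw [h1]; rfl)
        exact congrArg Subtype.val h2
    have hnilN : Group.IsNilpotent ↥N :=
      Cfsg.Agent.S0033.result (MulAut.conjNormal h : MulAut ↥N) (fun n hn => hfpf n hn) q hq hord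
    obtain ⟨S⟩ : Nonempty (Sylow p ↥N) := inferInstance
    haveI hSn : (S : Subgroup ↥N).Normal := inferInstance
    have hmem : ∀ x : ↥N, x ∈ (S : Subgroup ↥N) ↔ ∃ k : ℕ, x ^ (p ^ k) = 1 := by
      intro x
      constructor
      · intro hx
        obtain ⟨k, hk⟩ := S.isPGroup' ⟨x, hx⟩
        exact ⟨k, congrArg Subtype.val hk⟩
      · rintro ⟨k, hk⟩
        have hpg : IsPGroup p (Subgroup.zpowers x) := by
          obtain ⟨j, -, hj⟩ := (Nat.dvd_prime_pow hm).mp (orderOf_dvd_of_pow_eq_one hk)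
          apply IsPGroup.of_card (n := j)
          rw [Nat.card_zpowers, hj]
        obtain ⟨S', hS'⟩ := hpg.exists_le_sylow
        obtain ⟨c, hc⟩ := MulAction.exists_smul_eq ↥N S S'
        rw [Sylow.smul_eq_of_normal] at hc
        rw [hc]; exact hS' (Subgroup.mem_zpowers x)
    refine cam_finish hcam' (P : Subgroup G) P.isPGroup' u v huP hvP hup hvp huv hind
      (S : Subgroup ↥N) ?_ ?_ ?_ ?_
    · intro g x hx
      rw [hmem] at hx ⊢
      obtain ⟨k, hk⟩ := hx
      refine ⟨k, ?_⟩
      apply Subtype.ext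
      have hk' : (x : G) ^ (p ^ k) = 1 := congrArg Subtype.val hk
      change (g * (x : G) * g⁻¹) ^ (p ^ k) = 1
      rw [conj_pow, hk', mul_one, mul_inv_cancel]
    · intro htop
      have hNp : IsPGroup p ↥N := by
        intro x
        exact (hmem x).mp (htop ▸ Subgroup.mem_top x)
      obtain ⟨n, hn⟩ := hNp.exists_card_eq
      apply hNpp
      rw [hn]
      have hn0 : n ≠ 0 := by
        rintro rfl
        rw [pow_zero] at hn
        exact hN1 (Subgroup.card_eq_one.mp hn)
      exact hm.isPrimePow.pow hn0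
    · intro x hx
      rw [hmem] at hx ⊢
      obtain ⟨k, hk⟩ := hx
      exact ⟨k + 1, by rw [pow_succ', pow_mul]; exact hk⟩
    · exact Group.nilpotent_of_surjective (QuotientGroup.mk' (S : Subgroup ↥N))
        (QuotientGroup.mk'_surjective _)

end Cfsg.Agent.S4140
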