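import Cfsg.Statements.S4142

set_option autoImplicit false
open Cfsg

namespace Cfsg.Agent.S4142

lemma card_class_mul {G : Type*} [Group G] [Finite G] (g : G) :
    Nat.card (MulAction.orbit (ConjAct G) g) * Nat.card (Subgroup.centralizer ({g} : Set G)) = Nat.card G := by
  rw [Subgroup.nat_card_centralizer_nat_card_stabilizer, ← Nat.card_prod]
  exact Nat.card_congr (MulAction.orbitProdStabilizerEquivGroup (ConjAct G) g)

lemma key {G : Type*} [Group G] [Finite G] (N : Subgroup G) [N.Normal] (g : G) :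
    (∀ n ∈ N, ∃ x : G, x * g * x⁻¹ = g * n) ↔
      Nat.card (Subgroup.centralizer ({g} : Set G)) =
        Nat.card (Subgroup.centralizer ({(QuotientGroup.mk g : G ⧸ N)} : Set (G ⧸ N))) := by
  set O : Set G := MulAction.orbit (ConjAct G) g with hO
  set O' : Set (G ⧸ N) := MulAction.orbit (ConjAct (G ⧸ N)) (QuotientGroup.mk g : G ⧸ N) with hO'
  set D : Set G := QuotientGroup.mk ⁻¹' O' with hD
  have h1 := card_class_mul g
  have h2 := card_class_mul (QuotientGroup.mk g : G ⧸ N)
  have h3 : Nat.card D = Nat.card N * Nat.card O' := QuotientGroup.card_preimage_mk N O'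
  have h4 : Nat.card G = Nat.card (G ⧸ N) * Nat.card N := Subgroup.card_eq_card_quotient_mul_card_subgroup N
  have hOmem : ∀ y : G, y ∈ O ↔ ∃ c : G, c * g * c⁻¹ = y := by
    intro y
    rw [hO, ConjAct.mem_orbit_conjAct, isConj_comm, isConj_iff]
  have hO'mem : ∀ y : G ⧸ N, y ∈ O' ↔ ∃ c : G ⧸ N, c * (QuotientGroup.mk g : G ⧸ N) * c⁻¹ = y := by
    intro y
    rw [hO', ConjAct.mem_orbit_conjAct, isConj_comm, isConj_iff]
  have hsub : O ⊆ D := by
    intro y hy
    obtain ⟨c, rfl⟩ := (hOmem y).mp hy
    show (QuotientGroup.mk (c * g * c⁻¹) : G ⧸ N) ∈ O'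
    rw [hO'mem]
    exact ⟨QuotientGroup.mk c, rfl⟩
  have h5 : Nat.card D * Nat.card (Subgroup.centralizer ({(QuotientGroup.mk g : G ⧸ N)} : Set (G ⧸ N))) =
      Nat.card O * Nat.card (Subgroup.centralizer ({g} : Set G)) := by
    rw [h1, h3, mul_assoc, h2, h4, mul_comm]
  have hOpos : 0 < Nat.card O := by
    have : Nonempty O := ⟨⟨g, MulAction.mem_orbit_self g⟩⟩
    exact Nat.card_pos
  have hCpos : 0 < Nat.card (Subgroup.centralizer ({g} : Set G)) := Nat.card_pos
  constructor
  · intro hcam
    have hDO : D ⊆ O := by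
      intro y hy
      have hy' : (QuotientGroup.mk y : G ⧸ N) ∈ O' := hy
      rw [hO'mem] at hy'
      obtain ⟨c', hc'⟩ := hy'
      induction c' using QuotientGroup.induction_on with
      | H c =>
        have h6 : (QuotientGroup.mk (c * g * c⁻¹) : G ⧸ N) = QuotientGroup.mk y := hc'
        rw [QuotientGroup.eq] at h6
        -- (c g c⁻¹)⁻¹ * y ∈ N, so c⁻¹ y c = g * n
        have h7 : c⁻¹ * ((c * g * c⁻¹)⁻¹ * y) * c⁻¹⁻¹ ∈ N :=
          Subgroup.Normal.conj_mem inferInstance _ h6 _
        obtain ⟨x, hx⟩ := hcam _ h7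
        rw [hOmem]
        refine ⟨c * x, ?_⟩
        have h8 : g * (c⁻¹ * ((c * g * c⁻¹)⁻¹ * y) * c⁻¹⁻¹) = c⁻¹ * y * c := by group
        rw [h8] at hx
        calc c * x * g * (c * x)⁻¹ = c * (x * g * x⁻¹) * c⁻¹ := by group
          _ = c * (c⁻¹ * y * c) * c⁻¹ := by rw [hx]
          _ = y := by group
    have hOD : O = D := Set.Subset.antisymm hsub hDO
    rw [← hOD] at h5
    exact (Nat.eq_of_mul_eq_mul_left hOpos h5).symm
  · intro hcard n hn
    rw [← hcard] at h5
    have h6 : Nat.card D = Nat.card O := Nat.eq_of_mul_eq_mul_right hCpos h5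
    have hOD : O = D := by
      apply Set.eq_of_subset_of_ncard_le hsub
      rw [← Nat.card_coe_set_eq, ← Nat.card_coe_set_eq, h6]
    have h7 : g * n ∈ D := by
      show (QuotientGroup.mk (g * n) : G ⧸ N) ∈ O'
      have : (QuotientGroup.mk (g * n) : G ⧸ N) = QuotientGroup.mk g := by
        rw [QuotientGroup.eq]
        simpa using N.inv_mem hn
      rw [this]
      exact MulAction.mem_orbit_self _
    rw [← hOD, hOmem] at h7
    exact h7

/-- Let G be a finite group and N a normal subgroup. Then the conjugacy class of every element g outside N is a union of cosets of N (gn is conjugate to g for all n ∈ N) if and only if for every g outside N the centralizer of g in G has the same order as the centralizer of gN in G/N. -/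
theorem result {G : Type*} [Group G] [Finite G] (N : Subgroup G) [N.Normal] :
    (∀ g : G, g ∉ N → ∀ n ∈ N, ∃ x : G, x * g * x⁻¹ = g * n) ↔
      ∀ g : G, g ∉ N → Nat.card (Subgroup.centralizer ({g} : Set G)) =
        Nat.card (Subgroup.centralizer ({(QuotientGroup.mk g : G ⧸ N)} : Set (G ⧸ N))) := by
  constructor
  · intro h g hg
    exact (key N g).mp (h g hg)
  · intro h g hg
    exact (key N g).mpr (h g hg)

end Cfsg.Agent.S4142
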