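import Cfsg.Statements.S4143

set_option autoImplicit false
open Cfsg

namespace Cfsg.Agent.S4143

universe u

/-- a group of order `p ^ k` with `k ≤ 2` is commutative -/
lemma comm_of_card_pow_le_two {H : Type*} [Group H] (p : ℕ) [Fact p.Prime] (k : ℕ) (hk : k ≤ 2)
    (hH : Nat.card H = p ^ k) (x y : H) : x * y = y * x := by
  have hp : p.Prime := Fact.out
  interval_cases k
  · rw [pow_zero, Nat.card_eq_one_iff_unique] at hH
    have := hH.1
    exact Subsingleton.elim _ _
  · rw [pow_one] at hH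
    have : IsCyclic H := isCyclic_of_prime_card hH
    obtain ⟨g, hg⟩ := IsCyclic.exists_generator (α := H)
    obtain ⟨i, rfl⟩ := Subgroup.mem_zpowers_iff.mp (hg x)
    obtain ⟨j, rfl⟩ := Subgroup.mem_zpowers_iff.mp (hg y)
    rw [← zpow_add, ← zpow_add, add_comm]
  · exact IsPGroup.commutative_of_card_eq_prime_sq hH x y

/-- the statement for self-centralizing subgroups of order `p ^ 2` -/
def PA (p n : ℕ) : Prop :=
  ∀ (X : Type u) [Group X] [Finite X], Nat.card X = p ^ n →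
    ∀ A : Subgroup X, Nat.card A = p ^ 2 → Subgroup.centralizer (A : Set X) ≤ A →
      Group.nilpotencyClass X = n - 1

/-- the statement for self-centralizing nonabelian subgroups of order `p ^ 3` -/
def QB (p n : ℕ) : Prop :=
  ∀ (X : Type u) [Group X] [Finite X], Nat.card X = p ^ n →
    ∀ B : Subgroup X, Nat.card B = p ^ 3 → (∃ a ∈ B, ∃ b ∈ B, a * b ≠ b * a) →
      Subgroup.centralizer (B : Set X) ≤ B → Group.nilpotencyClass X = n - 1

/-- conjugation by powers when the commutator is central -/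
lemma conj_pow_of_central {X : Type*} [Group X] (a b z : X) (hz : ∀ g : X, g * z = z * g)
    (h : b * a * b⁻¹ = a * z) (i : ℕ) : b ^ i * a * (b ^ i)⁻¹ = a * z ^ i := by
  induction i with
  | zero => simp
  | succ i ih =>
    have hzi : ∀ g : X, g * z ^ i = z ^ i * g := fun g => (Commute.pow_right (hz g) i)
    calc b ^ (i + 1) * a * (b ^ (i + 1))⁻¹ = b * (b ^ i * a * (b ^ i)⁻¹) * b⁻¹ := by
          rw [pow_succ']; group
      _ = b * (a * z ^ i) * b⁻¹ := by rw [ih]
      _ = (b * a * b⁻¹) * (b * z ^ i * b⁻¹) := by group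
      _ = (a * z) * (z ^ i * b * b⁻¹) := by rw [h, hzi b]
      _ = a * z ^ (i + 1) := by rw [pow_succ']; group

lemma QB_of_PA (p : ℕ) [Fact p.Prime] (n : ℕ) (hPA : PA.{u} p n) : QB.{u} p (n + 1) := by
  intro X _ _ hX B hB hBna hC
  classical
  have hp : p.Prime := Fact.out
  obtain ⟨a, haB, b, hbB, hab⟩ := hBna
  have hXp : IsPGroup p X := IsPGroup.of_card hX
  have hXnt : Nontrivial X := by
    refine ⟨⟨a, b, ?_⟩⟩
    rintro rfl
    exact hab rfl
  have hZB : Subgroup.center X ≤ B := le_trans (Subgroup.center_le_centralizer _) hC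
  have hZnt : Nontrivial (Subgroup.center X) := hXp.center_nontrivial
  obtain ⟨k, hk3, hZcard⟩ : ∃ k ≤ 3, Nat.card (Subgroup.center X) = p ^ k := by
    have h1 : Nat.card (Subgroup.center X) ∣ p ^ 3 := hB ▸ Subgroup.card_dvd_of_le hZB
    exact (Nat.dvd_prime_pow hp).mp h1
  have hk0 : k ≠ 0 := by
    rintro rfl
    rw [pow_zero, Nat.card_eq_one_iff_unique] at hZcard
    have := hZcard.1
    exact not_subsingleton (Subgroup.center X) this
  have hk3' : k ≠ 3 := by
    rintro rfl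
    have h1 : Subgroup.center X = B := Subgroup.eq_of_le_of_card_ge hZB (by rw [hB, hZcard])
    apply hab
    have haZ : a ∈ Subgroup.center X := h1 ▸ haB
    exact (Subgroup.mem_center_iff.mp haZ b).symm
  have hk2 : k ≠ 2 := by
    rintro rfl
    have hcardsub : Nat.card ((Subgroup.center X).subgroupOf B) = p ^ 2 := by
      rw [Nat.card_congr (Subgroup.subgroupOfEquivOfLe hZB).toEquiv, hZcard]
    have hidx : ((Subgroup.center X).subgroupOf B).index = p := by
      have h1 := ((Subgroup.center X).subgroupOf B).card_mul_index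
      rw [hcardsub, hB] at h1
      have h2 : p ^ 2 * ((Subgroup.center X).subgroupOf B).index = p ^ 2 * p := by rw [h1]; ring
      exact Nat.eq_of_mul_eq_mul_left (pow_pos hp.pos 2) h2
    have hcardq : Nat.card (B ⧸ (Subgroup.center X).subgroupOf B) = p := by
      rw [← Subgroup.index_eq_card]; exact hidx
    have : IsCyclic (B ⧸ (Subgroup.center X).subgroupOf B) := isCyclic_of_prime_card hcardq
    have hcomm := commutative_of_cyclic_center_quotient
      (QuotientGroup.mk' ((Subgroup.center X).subgroupOf B)) (by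
        rw [QuotientGroup.ker_mk']
        intro x hx
        rw [Subgroup.mem_subgroupOf] at hx
        rw [Subgroup.mem_center_iff]
        intro g
        exact Subtype.ext (Subgroup.mem_center_iff.mp hx g)) ⟨a, haB⟩ ⟨b, hbB⟩
    have hcomm' := congrArg Subtype.val hcomm
    exact hab hcomm'
  have hk1 : k = 1 := by omega
  subst hk1
  rw [pow_one] at hZcard
  have hXbar : Nat.card (X ⧸ Subgroup.center X) = p ^ n := by
    rw [← Subgroup.index_eq_card]
    have h1 := (Subgroup.center X).card_mul_index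
    rw [hZcard, hX, pow_succ'] at h1
    exact Nat.eq_of_mul_eq_mul_left hp.pos h1
  obtain ⟨m, rfl⟩ : ∃ m, n = m + 2 := by
    have h1 : p ^ 3 ∣ p ^ (n + 1) := by
      rw [← hB, ← hX]; exact Subgroup.card_subgroup_dvd_card B
    have h2 : 3 ≤ n + 1 := (Nat.pow_dvd_pow_iff_le_right hp.one_lt).mp h1
    exact ⟨n - 2, by omega⟩
  have hBidx : B.index = p ^ m := by
    have h1 := B.card_mul_index
    rw [hB, hX] at h1
    have h2 : p ^ 3 * B.index = p ^ 3 * p ^ m := by rw [h1]; ring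
    exact Nat.eq_of_mul_eq_mul_left (pow_pos hp.pos 3) h2
  have hBbar : Nat.card (B.map (QuotientGroup.mk' (Subgroup.center X))) = p ^ 2 := by
    have h1 : (B.map (QuotientGroup.mk' (Subgroup.center X))).index = B.index := by
      rw [← Subgroup.index_comap_of_surjective (B.map (QuotientGroup.mk' (Subgroup.center X)))
        (QuotientGroup.mk'_surjective _),
        Subgroup.comap_map_eq_self (by rw [QuotientGroup.ker_mk']; exact hZB)]
    have h2 := (B.map (QuotientGroup.mk' (Subgroup.center X))).card_mul_index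
    rw [h1, hBidx, hXbar] at h2
    have h3 : Nat.card (B.map (QuotientGroup.mk' (Subgroup.center X))) * p ^ m = p ^ 2 * p ^ m := by
      rw [h2]; ring
    exact Nat.eq_of_mul_eq_mul_right (pow_pos hp.pos m) h3
  have hBcomm : ∀ x ∈ B, ∀ y ∈ B, x * y * x⁻¹ * y⁻¹ ∈ Subgroup.center X := by
    intro x hx y hy
    have h1 := comm_of_card_pow_le_two p 2 le_rfl hBbar
      ⟨QuotientGroup.mk' (Subgroup.center X) x, Subgroup.mem_map_of_mem _ hx⟩
      ⟨QuotientGroup.mk' (Subgroup.center X) y, Subgroup.mem_map_of_mem _ hy⟩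
    have h1' := congrArg Subtype.val h1
    have h2 : QuotientGroup.mk' (Subgroup.center X) x * QuotientGroup.mk' (Subgroup.center X) y =
        QuotientGroup.mk' (Subgroup.center X) y * QuotientGroup.mk' (Subgroup.center X) x := h1'
    rw [← QuotientGroup.eq_one_iff]
    show QuotientGroup.mk' (Subgroup.center X) (x * y * x⁻¹ * y⁻¹) = 1
    rw [map_mul, map_mul, map_mul, map_inv, map_inv, h2]; group
  set z₀ := b * a * b⁻¹ * a⁻¹ with hz₀
  have hz₀Z : z₀ ∈ Subgroup.center X := hBcomm b hbB a haB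
  have hz₀1 : z₀ ≠ 1 := by
    intro h
    apply hab
    have h1 : b * a = a * b := by
      calc b * a = (b * a * b⁻¹ * a⁻¹) * (a * b) := by group
        _ = a * b := by rw [← hz₀, h, one_mul]
    exact h1.symm
  have hgen : ∀ z ∈ Subgroup.center X, ∃ i : ℕ, z₀ ^ i = z := by
    intro z hz
    have h1 : Subgroup.zpowers (⟨z₀, hz₀Z⟩ : Subgroup.center X) = ⊤ :=
      zpowers_eq_top_of_prime_card hZcard (by intro h; exact hz₀1 (congrArg Subtype.val h))
    have h2 : (⟨z, hz⟩ : Subgroup.center X) ∈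
        Subgroup.zpowers (⟨z₀, hz₀Z⟩ : Subgroup.center X) := h1 ▸ Subgroup.mem_top _
    rw [← mem_powers_iff_mem_zpowers] at h2
    obtain ⟨i, hi⟩ := h2
    refine ⟨i, ?_⟩
    have h3 := congrArg Subtype.val hi
    simpa using h3
  have hcen : ∀ g : X, g * z₀ = z₀ * g := fun g => Subgroup.mem_center_iff.mp hz₀Z g
  have hceninv : ∀ g : X, g * z₀⁻¹ = z₀⁻¹ * g :=
    fun g => Subgroup.mem_center_iff.mp ((Subgroup.center X).inv_mem hz₀Z) g
  have hcenpow : ∀ (i : ℕ) (g : X), g * z₀ ^ i = z₀ ^ i * g :=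
    fun i g => Subgroup.mem_center_iff.mp ((Subgroup.center X).pow_mem hz₀Z i) g
  have hba : b * a * b⁻¹ = a * z₀ := by rw [hcen a, hz₀]; group
  have hba' : b⁻¹ * a * b⁻¹⁻¹ = a * z₀⁻¹ := by
    have h1 : b⁻¹ * a * b * z₀ = a := by
      calc b⁻¹ * a * b * z₀ = b⁻¹ * a * (b * z₀) := by group
        _ = b⁻¹ * a * (z₀ * b) := by rw [hcen b]
        _ = b⁻¹ * (a * z₀) * b := by group
        _ = b⁻¹ * (b * a * b⁻¹) * b := by rw [hba]
        _ = a := by group
    calc b⁻¹ * a * b⁻¹⁻¹ = (b⁻¹ * a * b * z₀) * z₀⁻¹ := by group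
      _ = a * z₀⁻¹ := by rw [h1]
  have hab' : a * b * a⁻¹ = b * z₀⁻¹ := by rw [hceninv b, hz₀]; group
  have hCbar : Subgroup.centralizer
      ((B.map (QuotientGroup.mk' (Subgroup.center X)) : Subgroup (X ⧸ Subgroup.center X)) :
        Set (X ⧸ Subgroup.center X)) ≤ B.map (QuotientGroup.mk' (Subgroup.center X)) := by
    intro cbar hcbar
    obtain ⟨c, rfl⟩ := QuotientGroup.mk'_surjective (Subgroup.center X) cbar
    refine Subgroup.mem_map_of_mem _ ?_
    have hcB : ∀ x ∈ B, c * x * c⁻¹ * x⁻¹ ∈ Subgroup.center X := by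
      intro x hx
      have h1 := Subgroup.mem_centralizer_iff.mp hcbar
        (QuotientGroup.mk' (Subgroup.center X) x) (Subgroup.mem_map_of_mem _ hx)
      rw [← QuotientGroup.eq_one_iff]
      show QuotientGroup.mk' (Subgroup.center X) (c * x * c⁻¹ * x⁻¹) = 1
      rw [map_mul, map_mul, map_mul, map_inv, map_inv, ← h1]; group
    obtain ⟨i, hi⟩ := hgen _ (hcB a haB)
    obtain ⟨j, hj⟩ := hgen _ (hcB b hbB)
    have hpi := conj_pow_of_central a b⁻¹ z₀⁻¹ hceninv hba' i
    have hpj := conj_pow_of_central b a z₀⁻¹ hceninv hab' j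
    set c₁ := (b⁻¹) ^ i * c with hc₁
    set c₂ := a ^ j * c₁ with hc₂
    have hc₁a : c₁ * a * c₁⁻¹ = a := by
      calc c₁ * a * c₁⁻¹ = (b⁻¹) ^ i * (c * a * c⁻¹ * a⁻¹ * a) * ((b⁻¹) ^ i)⁻¹ := by
            rw [hc₁]; group
        _ = (b⁻¹) ^ i * (z₀ ^ i * a) * ((b⁻¹) ^ i)⁻¹ := by rw [← hi]
        _ = ((b⁻¹) ^ i * z₀ ^ i) * a * ((b⁻¹) ^ i)⁻¹ := by group
        _ = (z₀ ^ i * (b⁻¹) ^ i) * a * ((b⁻¹) ^ i)⁻¹ := by rw [hcenpow i]
        _ = z₀ ^ i * ((b⁻¹) ^ i * a * ((b⁻¹) ^ i)⁻¹) := by group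
        _ = z₀ ^ i * (a * z₀⁻¹ ^ i) := by rw [hpi]
        _ = (z₀ ^ i * a) * z₀⁻¹ ^ i := by group
        _ = (a * z₀ ^ i) * z₀⁻¹ ^ i := by rw [hcenpow i a]
        _ = a := by rw [inv_pow, mul_assoc, mul_inv_cancel, mul_one]
    have hc₁b : c₁ * b * c₁⁻¹ = z₀ ^ j * b := by
      calc c₁ * b * c₁⁻¹ = (b⁻¹) ^ i * (c * b * c⁻¹ * b⁻¹ * b) * ((b⁻¹) ^ i)⁻¹ := by
            rw [hc₁]; group
        _ = (b⁻¹) ^ i * (z₀ ^ j * b) * ((b⁻¹) ^ i)⁻¹ := by rw [← hj]
        _ = ((b⁻¹) ^ i * z₀ ^ j) * b * ((b⁻¹) ^ i)⁻¹ := by group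
        _ = (z₀ ^ j * (b⁻¹) ^ i) * b * ((b⁻¹) ^ i)⁻¹ := by rw [hcenpow j]
        _ = z₀ ^ j * b := by group
    have hc₂a : c₂ * a * c₂⁻¹ = a := by
      calc c₂ * a * c₂⁻¹ = a ^ j * (c₁ * a * c₁⁻¹) * (a ^ j)⁻¹ := by rw [hc₂]; group
        _ = a ^ j * a * (a ^ j)⁻¹ := by rw [hc₁a]
        _ = a := by group
    have hc₂b : c₂ * b * c₂⁻¹ = b := by
      calc c₂ * b * c₂⁻¹ = a ^ j * (c₁ * b * c₁⁻¹) * (a ^ j)⁻¹ := by rw [hc₂]; group
        _ = a ^ j * (z₀ ^ j * b) * (a ^ j)⁻¹ := by rw [hc₁b]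
        _ = (a ^ j * z₀ ^ j) * b * (a ^ j)⁻¹ := by group
        _ = (z₀ ^ j * a ^ j) * b * (a ^ j)⁻¹ := by rw [hcenpow j]
        _ = z₀ ^ j * (a ^ j * b * (a ^ j)⁻¹) := by group
        _ = z₀ ^ j * (b * z₀⁻¹ ^ j) := by rw [hpj]
        _ = (z₀ ^ j * b) * z₀⁻¹ ^ j := by group
        _ = (b * z₀ ^ j) * z₀⁻¹ ^ j := by rw [hcenpow j b]
        _ = b := by rw [inv_pow, mul_assoc, mul_inv_cancel, mul_one]
    -- c₂ centralizes B
    have hKB : B ⊓ Subgroup.centralizer ({c₂} : Set X) = B := by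
      refine Subgroup.eq_of_le_of_card_ge inf_le_left ?_
      have haK : a ∈ B ⊓ Subgroup.centralizer ({c₂} : Set X) := by
        refine ⟨haB, ?_⟩
        show a ∈ Subgroup.centralizer ({c₂} : Set X)
        rw [Subgroup.mem_centralizer_singleton_iff]
        calc a * c₂ = (c₂ * a * c₂⁻¹) * c₂ := by rw [hc₂a]
          _ = c₂ * a := by group
      have hbK : b ∈ B ⊓ Subgroup.centralizer ({c₂} : Set X) := by
        refine ⟨hbB, ?_⟩
        show b ∈ Subgroup.centralizer ({c₂} : Set X)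
        rw [Subgroup.mem_centralizer_singleton_iff]
        calc b * c₂ = (c₂ * b * c₂⁻¹) * c₂ := by rw [hc₂b]
          _ = c₂ * b := by group
      obtain ⟨k, hk3, hKcard⟩ : ∃ k ≤ 3,
          Nat.card (B ⊓ Subgroup.centralizer ({c₂} : Set X) : Subgroup X) = p ^ k := by
        have h1 : Nat.card (B ⊓ Subgroup.centralizer ({c₂} : Set X) : Subgroup X) ∣ p ^ 3 :=
          hB ▸ Subgroup.card_dvd_of_le inf_le_left
        exact (Nat.dvd_prime_pow hp).mp h1
      by_cases hk : k ≤ 2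
      · exfalso
        have h1 := comm_of_card_pow_le_two p k hk hKcard ⟨a, haK⟩ ⟨b, hbK⟩
        have h1' := congrArg Subtype.val h1
        exact hab h1'
      · have hk3'' : k = 3 := by omega
        rw [hKcard, hB, hk3'']
    have hc₂B : c₂ ∈ B := by
      apply hC
      rw [Subgroup.mem_centralizer_iff]
      intro x hx
      have hx' : x ∈ B ⊓ Subgroup.centralizer ({c₂} : Set X) := hKB.symm ▸ hx
      exact Subgroup.mem_centralizer_singleton_iff.mp hx'.2
    have hc : c = ((b⁻¹) ^ i)⁻¹ * ((a ^ j)⁻¹ * c₂) := by rw [hc₂, hc₁]; group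
    rw [hc]
    exact B.mul_mem (B.inv_mem (B.pow_mem (B.inv_mem hbB) i))
      (B.mul_mem (B.inv_mem (B.pow_mem haB j)) hc₂B)
  have hcl := hPA (X ⧸ Subgroup.center X) hXbar _ hBbar hCbar
  have : Group.IsNilpotent X := hXp.isNilpotent
  rw [Group.nilpotencyClass_eq_quotient_center_plus_one, hcl]
  omega

lemma PA_of_QB (p : ℕ) [Fact p.Prime] (n : ℕ) (hn : 3 ≤ n) (hQB : QB.{u} p n) : PA.{u} p n := by
  intro X _ _ hX A hA hC
  have hp : p.Prime := Fact.out
  have hdvd : p ^ (2 + 1) ∣ Nat.card X := by rw [hX]; exact pow_dvd_pow p hn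
  obtain ⟨M, hM, hAM⟩ := Sylow.exists_subgroup_card_pow_succ hdvd hA
  apply hQB X hX M hM
  · by_contra hcon
    push Not at hcon
    have h1 : M ≤ A := by
      intro m hm
      apply hC
      rw [Subgroup.mem_centralizer_iff]
      intro x hx
      exact hcon x (hAM hx) m hm
    have h2 := Subgroup.card_le_of_le h1
    rw [hM, hA] at h2
    exact absurd h2 (not_le.mpr (Nat.pow_lt_pow_right hp.one_lt (by norm_num)))
  · exact le_trans (Subgroup.centralizer_le hAM) (le_trans hC hAM)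

lemma PA_all (p : ℕ) [Fact p.Prime] : ∀ n, PA.{u} p n := by
  intro n
  have hp : p.Prime := Fact.out
  induction n with
  | zero =>
    intro X _ _ hX A hA hC
    exfalso
    have h1 : p ^ 2 ∣ p ^ 0 := by rw [← hA, ← hX]; exact Subgroup.card_subgroup_dvd_card A
    have h2 : 2 ≤ 0 := (Nat.pow_dvd_pow_iff_le_right hp.one_lt).mp h1
    omega
  | succ n ih =>
    by_cases hn : 3 ≤ n + 1
    · exact PA_of_QB p (n + 1) hn (QB_of_PA p n ih)
    · intro X _ _ hX A hA hC
      have h1 : p ^ 2 ∣ p ^ (n + 1) := by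
        rw [← hA, ← hX]; exact Subgroup.card_subgroup_dvd_card A
      have h2 : 2 ≤ n + 1 := (Nat.pow_dvd_pow_iff_le_right hp.one_lt).mp h1
      have h3 : n + 1 = 2 := by omega
      rw [h3] at hX ⊢
      have hXp : IsPGroup p X := IsPGroup.of_card hX
      have : Group.IsNilpotent X := hXp.isNilpotent
      have h5 : Group.nilpotencyClass X ≠ 0 := by
        rw [Ne, Group.nilpotencyClass_zero_iff_subsingleton]
        intro hs
        have h6 : Nat.card X = 1 := Nat.card_eq_one_iff_unique.mpr ⟨hs, ⟨1⟩⟩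
        rw [hX] at h6
        have h7 : 1 < p ^ 2 := Nat.one_lt_pow (by norm_num) hp.one_lt
        omega
      have h4 : Group.nilpotencyClass X ≤ 1 := by
        letI : CommGroup X :=
          { (inferInstance : Group X) with
            mul_comm := IsPGroup.commutative_of_card_eq_prime_sq hX }
        exact CommGroup.nilpotencyClass_le_one
      omega

theorem result {X : Type*} [Group X] [Finite X] {p : ℕ} [Fact p.Prime] (n : ℕ) (hX : Nat.card X = p ^ n)
    (B : Subgroup X) (hB : Nat.card B = p ^ 3) (hBna : ¬ IsMulCommutative B) (hC : Subgroup.centralizer (B : Set X) ≤ B) :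
    Group.nilpotencyClass X = n - 1 := by
  have hp : p.Prime := Fact.out
  have h1 : p ^ 3 ∣ p ^ n := by rw [← hB, ← hX]; exact Subgroup.card_subgroup_dvd_card B
  have h2 : 3 ≤ n := (Nat.pow_dvd_pow_iff_le_right hp.one_lt).mp h1
  obtain ⟨m, rfl⟩ : ∃ m, n = m + 1 := ⟨n - 1, by omega⟩
  apply QB_of_PA p m (PA_all p m) X hX B hB ?_ hC
  by_contra hcon
  push Not at hcon
  exact hBna ⟨⟨fun x y => Subtype.ext (hcon x x.2 y y.2)⟩⟩

end Cfsg.Agent.S4143
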