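import Cfsg.Statements.S4146
import Mathlib
import Cfsg.Agent.Lib.helper74.CG18
import Cfsg.Agent.Lib.helper72.CS4C
import Cfsg.Agent.Lib.helper83.CS4C1

set_option autoImplicit false
open Cfsg

namespace Cfsg.Agent.S4146

/-- Let G be a finite group whose conjugacy class sizes are exactly 1, n, m and nm for coprime integers n, m > 1. Then G is nilpotent and n and m are prime powers. -/
theorem result {G : Type*} [Group G] [Finite G] (n m : ℕ) (hn : 1 < n) (hm : 1 < m) (hcop : n.Coprime m)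
    (h : Set.range (fun x : G => (Subgroup.centralizer ({x} : Set G)).index) = ({1, n, m, n * m} : Set ℕ)) :
    Group.IsNilpotent G ∧ IsPrimePow n ∧ IsPrimePow m := by
  refine Cfsg.Agent.Lib.helper74.main_of_C1 ?_ n m hn hm hcop h
  intro n m hn hm hcop hlt h hX hY a b ha hb
  by_contra hab
  have hall := Cfsg.Agent.Lib.helper74.csz_cases h
  obtain ⟨b', N, a', q, k, hb', hbo, hNn, hNm, hNb, hNX, haN, ha', hq, hao⟩ :=
    Cfsg.Agent.Lib.helper74.partC1_stage1 n m hn hm hcop hlt hall hY a b ha hb hab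
  have hS4 := Cfsg.Agent.Lib.helper72.c1_S4 hbo hNm hNb
  have hA := Cfsg.Agent.Lib.helper72.c1_hA hn hm hall hX hbo hS4 haN ha' hq hao
  have hB := Cfsg.Agent.Lib.helper72.c1_hB hn hm hcop hlt hall hX hY hNn hNX hS4 haN ha' hq hao hA
  exact Cfsg.Agent.Lib.helper83.partC1_stage2b n m hn hm hcop hlt h hX hY b' hb' hbo N hNn hNm hNb
    hNX a' haN ha' q k hq hao hS4 hA hB

end Cfsg.Agent.S4146
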