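import Cfsg.Statements.S4149
import Cfsg.Agent.Lib.helper73.ConjCover

set_option autoImplicit false
open Cfsg

namespace Cfsg.Agent.S4149

open Cfsg.Agent.Lib.helper73

variable {G : Type*} [Group G] [Finite G]

/-- If the centralizer of a Sylow `s`-subgroup is self-normalizing, `G` has a normal
`s`-complement (Burnside). -/
theorem hasNormalPComplement_of_selfNormalizing (s : ℕ) [Fact s.Prime] (S : Sylow s G)
    (h : Subgroup.normalizer ((Subgroup.centralizer ((S : Subgroup G) : Set G) : Subgroup G) :
      Set G) = Subgroup.centralizer ((S : Subgroup G) : Set G)) :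
    Cfsg.HasNormalPComplement s G := by
  have hNC := normalizer_le_centralizer_of_selfNormalizing (S : Subgroup G) h
  exact ⟨S, (MonoidHom.transferSylow S hNC).ker, MonoidHom.normal_ker _,
    MonoidHom.ker_transferSylow_isComplement' S hNC⟩

/-- The elements whose class size is prime to `s` number at most `|G|/2`, unless `G` has a normal
`s`-complement. -/
theorem two_mul_ncard_le (s : ℕ) (hs : s.Prime) (hn : ¬ Cfsg.HasNormalPComplement s G) :
    2 * ({x : G | ¬ s ∣ (Subgroup.centralizer ({x} : Set G)).index} : Set G).ncard ≤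
      Nat.card G := by
  haveI := Fact.mk hs
  obtain ⟨S⟩ : Nonempty (Sylow s G) := inferInstance
  have hne : Subgroup.normalizer ((Subgroup.centralizer ((S : Subgroup G) : Set G) :
      Subgroup G) : Set G) ≠ Subgroup.centralizer ((S : Subgroup G) : Set G) :=
    fun h => hn (hasNormalPComplement_of_selfNormalizing s S h)
  have hsub : ({x : G | ¬ s ∣ (Subgroup.centralizer ({x} : Set G)).index} : Set G) ⊆
      insert 1 (conjSet (Subgroup.centralizer ((S : Subgroup G) : Set G))) := by
    intro x hx
    by_cases h1 : x = 1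
    · exact Or.inl h1
    · exact Or.inr ⟨h1, exists_conj_mem_centralizer_sylow S x hx⟩
  have h1 : ({x : G | ¬ s ∣ (Subgroup.centralizer ({x} : Set G)).index} : Set G).ncard ≤
      (Subgroup.normalizer ((Subgroup.centralizer ((S : Subgroup G) : Set G) : Subgroup G) :
        Set G)).index * (Nat.card (Subgroup.centralizer ((S : Subgroup G) : Set G)) - 1) + 1 := by
    calc _ ≤ (insert 1 (conjSet (Subgroup.centralizer ((S : Subgroup G) : Set G)))).ncard :=
          Set.ncard_le_ncard hsub (Set.toFinite _)
      _ ≤ (conjSet (Subgroup.centralizer ((S : Subgroup G) : Set G))).ncard + 1 :=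
          Set.ncard_insert_le _ _
      _ ≤ _ := by gcongr; exact ncard_conjSet_le _
  have h2 := two_mul_index_normalizer_mul_card_le _ hne
  have hi : (Subgroup.normalizer ((Subgroup.centralizer ((S : Subgroup G) : Set G) :
      Subgroup G) : Set G)).index ≠ 0 := Subgroup.index_ne_zero_of_finite
  have hk : 0 < Nat.card (Subgroup.centralizer ((S : Subgroup G) : Set G)) := Nat.card_pos
  obtain ⟨a, ha⟩ : ∃ k, Nat.card (Subgroup.centralizer ((S : Subgroup G) : Set G)) = k + 1 :=
    ⟨_, (Nat.succ_pred_eq_of_pos hk).symm⟩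
  rw [ha] at h1 h2
  rw [Nat.add_sub_cancel] at h1
  have e1 : (Subgroup.normalizer ((Subgroup.centralizer ((S : Subgroup G) : Set G) :
      Subgroup G) : Set G)).index * (a + 1) =
      (Subgroup.normalizer ((Subgroup.centralizer ((S : Subgroup G) : Set G) :
      Subgroup G) : Set G)).index * a +
      (Subgroup.normalizer ((Subgroup.centralizer ((S : Subgroup G) : Set G) :
      Subgroup G) : Set G)).index := by ring
  rw [e1] at h2
  omega

/-- Let G be a finite group that has a normal p-complement for at most one prime p dividing its order, and let σ be a natural number such that every conjugacy class size of G has at most σ distinct prime divisors. Then the number of primes dividing at least one conjugacy class size of G is at most 2σ. -/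
theorem result {G : Type*} [Group G] [Finite G] (σ : ℕ)
    (hσ : ∀ x : G, ((Subgroup.centralizer ({x} : Set G)).index).primeFactors.card ≤ σ)
    (hnil : ∀ p q : ℕ, p.Prime → q.Prime → p ∣ Nat.card G → q ∣ Nat.card G →
      Cfsg.HasNormalPComplement p G → Cfsg.HasNormalPComplement q G → p = q) :
    Nat.card {p : ℕ | p.Prime ∧ ∃ x : G, p ∣ (Subgroup.centralizer ({x} : Set G)).index} ≤ 2 * σ := by
  classical
  haveI : Fintype G := Fintype.ofFinite G
  have hi0 : ∀ x : G, (Subgroup.centralizer ({x} : Set G)).index ≠ 0 :=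
    fun x => Subgroup.index_ne_zero_of_finite
  -- the finite set of primes
  obtain ⟨Pi, hPi⟩ : ∃ Pi : Finset ℕ, Pi = (Nat.card G).primeFactors.filter
      (fun p => ∃ x : G, p ∣ (Subgroup.centralizer ({x} : Set G)).index) := ⟨_, rfl⟩
  have hmem : ∀ p : ℕ, p ∈ Pi ↔
      p.Prime ∧ ∃ x : G, p ∣ (Subgroup.centralizer ({x} : Set G)).index := by
    intro p
    rw [hPi, Finset.mem_filter, Nat.mem_primeFactors]
    constructor
    · rintro ⟨⟨hp, -, -⟩, hx⟩; exact ⟨hp, hx⟩
    · rintro ⟨hp, x, hx⟩
      exact ⟨⟨hp, hx.trans (Subgroup.index_dvd_card _), Nat.card_pos.ne'⟩, x, hx⟩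
  have hset : {p : ℕ | p.Prime ∧ ∃ x : G, p ∣ (Subgroup.centralizer ({x} : Set G)).index} =
      (Pi : Set ℕ) := by
    ext p; exact (hmem p).symm
  rw [hset, Nat.card_coe_set_eq, Set.ncard_coe_finset]
  -- the sets U s
  obtain ⟨U, hU⟩ : ∃ U : ℕ → Finset G, U = fun s => Finset.univ.filter
      (fun x : G => ¬ s ∣ (Subgroup.centralizer ({x} : Set G)).index) := ⟨_, rfl⟩
  have hUcard : ∀ s, (U s).card =
      ({x : G | ¬ s ∣ (Subgroup.centralizer ({x} : Set G)).index} : Set G).ncard := by
    intro s
    rw [← Set.ncard_coe_finset]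
    congr 1
    ext x
    simp [hU]
  -- double counting
  have hdc : ∑ s ∈ Pi, (U s).card = ∑ x : G, (Pi.filter
      (fun s => ¬ s ∣ (Subgroup.centralizer ({x} : Set G)).index)).card := by
    simp only [hU, Finset.card_filter]
    exact Finset.sum_comm
  have hlow : ∀ x : G, Pi.card - σ ≤ (Pi.filter
      (fun s => ¬ s ∣ (Subgroup.centralizer ({x} : Set G)).index)).card := by
    intro x
    have h1 := Finset.card_filter_add_card_filter_not (s := Pi)
      (fun s => s ∣ (Subgroup.centralizer ({x} : Set G)).index)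
    have h2 : (Pi.filter (fun s => s ∣ (Subgroup.centralizer ({x} : Set G)).index)).card ≤ σ := by
      refine le_trans (Finset.card_le_card ?_) (hσ x)
      intro s hs
      rw [Finset.mem_filter] at hs
      rw [Nat.mem_primeFactors]
      exact ⟨((hmem s).mp hs.1).1, hs.2, hi0 x⟩
    omega
  have hlow' : (Pi.card - σ) * Nat.card G ≤ ∑ s ∈ Pi, (U s).card := by
    rw [hdc, Nat.card_eq_fintype_card, ← Finset.card_univ, mul_comm, ← smul_eq_mul,
      ← Finset.sum_const]
    exact Finset.sum_le_sum (fun x _ => hlow x)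
  -- upper bounds
  have hbad : ∀ s ∈ Pi, ¬ Cfsg.HasNormalPComplement s G → 2 * (U s).card ≤ Nat.card G := by
    intro s hs hn
    rw [hUcard]
    exact two_mul_ncard_le s ((hmem s).mp hs).1 hn
  have hgood : ∀ s ∈ Pi, 2 * (U s).card ≤ 2 * Nat.card G - 2 := by
    intro s hs
    obtain ⟨-, x, hx⟩ := (hmem s).mp hs
    have h1 : U s ⊆ Finset.univ.erase x := by
      intro y hy
      rw [Finset.mem_erase]
      refine ⟨?_, Finset.mem_univ _⟩
      rintro rfl
      rw [hU, Finset.mem_filter] at hy
      exact hy.2 hx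
    have h2 := Finset.card_le_card h1
    rw [Finset.card_erase_of_mem (Finset.mem_univ _), Finset.card_univ,
      ← Nat.card_eq_fintype_card] at h2
    omega
  have hgoodcard : (Pi.filter (fun s => Cfsg.HasNormalPComplement s G)).card ≤ 1 := by
    rw [Finset.card_le_one]
    intro a ha b hb
    rw [Finset.mem_filter] at ha hb
    have ha' := (hmem a).mp ha.1
    have hb' := (hmem b).mp hb.1
    obtain ⟨x, hx⟩ := ha'.2
    obtain ⟨y, hy⟩ := hb'.2
    exact hnil a b ha'.1 hb'.1 (hx.trans (Subgroup.index_dvd_card _))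
      (hy.trans (Subgroup.index_dvd_card _)) ha.2 hb.2
  have hsplit := Finset.sum_filter_add_sum_filter_not Pi
    (fun s => Cfsg.HasNormalPComplement s G) (fun s => 2 * (U s).card)
  have hcs := Finset.card_filter_add_card_filter_not (s := Pi)
    (fun s => Cfsg.HasNormalPComplement s G)
  have hup1 : ∑ s ∈ Pi.filter (fun s => Cfsg.HasNormalPComplement s G), 2 * (U s).card ≤
      (Pi.filter (fun s => Cfsg.HasNormalPComplement s G)).card * (2 * Nat.card G - 2) := by
    rw [← smul_eq_mul, ← Finset.sum_const]
    exact Finset.sum_le_sum (fun s hs => hgood s (Finset.mem_filter.mp hs).1)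
  have hup2 : ∑ s ∈ Pi.filter (fun s => ¬ Cfsg.HasNormalPComplement s G), 2 * (U s).card ≤
      (Pi.filter (fun s => ¬ Cfsg.HasNormalPComplement s G)).card * Nat.card G := by
    rw [← smul_eq_mul, ← Finset.sum_const]
    exact Finset.sum_le_sum (fun s hs => hbad s (Finset.mem_filter.mp hs).1
      (Finset.mem_filter.mp hs).2)
  have htot : 2 * ((Pi.card - σ) * Nat.card G) ≤
      (Pi.filter (fun s => Cfsg.HasNormalPComplement s G)).card * (2 * Nat.card G - 2) +
      (Pi.filter (fun s => ¬ Cfsg.HasNormalPComplement s G)).card * Nat.card G := by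
    calc 2 * ((Pi.card - σ) * Nat.card G) ≤ 2 * ∑ s ∈ Pi, (U s).card :=
          Nat.mul_le_mul_left _ hlow'
      _ = ∑ s ∈ Pi, 2 * (U s).card := Finset.mul_sum _ _ _
      _ = _ := hsplit.symm
      _ ≤ _ := Nat.add_le_add hup1 hup2
  have hGpos : 0 < Nat.card G := Nat.card_pos
  by_contra hcon
  push Not at hcon
  -- Pi.card ≥ 2σ+1
  obtain ⟨d, hd⟩ : ∃ d, Pi.card - σ = σ + 1 + d := ⟨Pi.card - σ - (σ + 1), by omega⟩
  rcases Nat.lt_or_ge (Pi.filter (fun s => Cfsg.HasNormalPComplement s G)).card 1 with hg | hg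
  · have hg0 : (Pi.filter (fun s => Cfsg.HasNormalPComplement s G)).card = 0 := by omega
    rw [hg0, zero_mul, zero_add] at htot
    have hb : (Pi.filter (fun s => ¬ Cfsg.HasNormalPComplement s G)).card = Pi.card := by omega
    rw [hb, hd] at htot
    have : Pi.card = 2 * σ + 1 + d := by omega
    rw [this] at htot
    nlinarith
  · have hg1 : (Pi.filter (fun s => Cfsg.HasNormalPComplement s G)).card = 1 := by omega
    rw [hg1, one_mul] at htot
    have hb : (Pi.filter (fun s => ¬ Cfsg.HasNormalPComplement s G)).card = Pi.card - 1 := by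
      omega
    rw [hb, hd] at htot
    have hpc : Pi.card - 1 = 2 * σ + d := by omega
    rw [hpc] at htot
    have h3 : 2 * Nat.card G - 2 + (2 * σ + d) * Nat.card G < (2 * σ + d + 2) * Nat.card G := by
      have : (2 * σ + d + 2) * Nat.card G = (2 * σ + d) * Nat.card G + 2 * Nat.card G := by ring
      omega
    nlinarith

end Cfsg.Agent.S4149
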