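import Cfsg.Statements.S4150
import Cfsg.Agent.Lib.helper61.CycMain
import Cfsg.Agent.Lib.helper61.PrimesNT

set_option autoImplicit false
open Cfsg

namespace Cfsg.Agent.S4150

open Equiv Equiv.Perm Subgroup Cfsg.Agent.Lib.helper61 Cfsg.Agent.Lib.helper61.CycGen

/-- The choice of the two primes. -/
theorem exists_good (m : ℕ) (hm : 5 ≤ m) :
    ∃ p q : ℕ, p.Prime ∧ q.Prime ∧ m ≤ 2 * p ∧ p < q ∧ q ≤ m ∧ Good m p q := by
  rcases Nat.lt_or_ge m 18 with h | h
  · rcases Nat.lt_or_ge m 7 with h7 | h7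
    · exact ⟨3, 5, by norm_num, by norm_num, by omega, by omega, by omega,
        Or.inr (Or.inl ⟨rfl, rfl, by omega⟩)⟩
    rcases Nat.lt_or_ge m 11 with h11 | h11
    · exact ⟨5, 7, by norm_num, by norm_num, by omega, by omega, by omega,
        Or.inr (Or.inr (Or.inl ⟨rfl, rfl, by omega⟩))⟩
    rcases Nat.lt_or_ge m 14 with h14 | h14
    · exact ⟨7, 11, by norm_num, by norm_num, by omega, by omega, by omega,
        Or.inl ⟨by omega, by omega, by omega, by omega⟩⟩
    rcases Nat.lt_or_ge m 17 with h17 | h17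
    · exact ⟨11, 13, by norm_num, by norm_num, by omega, by omega, by omega,
        Or.inr (Or.inr (Or.inr ⟨rfl, rfl, by omega⟩))⟩
    · exact ⟨11, 17, by norm_num, by norm_num, by omega, by omega, by omega,
        Or.inl ⟨by omega, by omega, by omega, by omega⟩⟩
  · obtain ⟨p, r, hp, hr, h1, h2, h3⟩ := exists_nontwin_primes (m / 2) (by omega)
    exact ⟨p, r, hp, hr, by omega, by omega, by omega,
      Or.inl ⟨by omega, by omega, h2, by omega⟩⟩

/-- Restriction to the union of the supports. -/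
theorem layer (m : ℕ) (X Y : alternatingGroup (Fin m)) {p q : ℕ} (hp : p.Prime) (hq : q.Prime)
    (hX : orderOf X = p) (hY : orderOf Y = q) (hgood : Good m p q) :
    ∃ d : ℕ, 5 ≤ d ∧ Nonempty (Subgroup.closure ({X, Y} : Set (alternatingGroup (Fin m))) ≃*
      alternatingGroup (Fin d)) := by
  classical
  set x : Perm (Fin m) := (X : Perm (Fin m)) with hx
  set y : Perm (Fin m) := (Y : Perm (Fin m)) with hy
  have hxo : orderOf x = p := by rw [hx, Subgroup.orderOf_coe, hX]
  have hyo : orderOf y = q := by rw [hy, Subgroup.orderOf_coe, hY]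
  let Ω : Finset (Fin m) := x.support ∪ y.support
  have hinv : ∀ (g g' : Perm (Fin m)), (Ω = g.support ∪ g'.support ∨ Ω = g'.support ∪ g.support) →
      ∀ a, g a ∈ Ω ↔ a ∈ Ω := by
    intro g g' hΩ a
    have hsub : g.support ⊆ Ω := by
      rcases hΩ with h | h <;> rw [h]
      · exact Finset.subset_union_left
      · exact Finset.subset_union_right
    by_cases hga : g a = a
    · rw [hga]
    · have h1 : a ∈ g.support := Perm.mem_support.mpr hga
      have h2 : g a ∈ g.support := Perm.apply_mem_support.mpr h1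
      exact ⟨fun _ => hsub h1, fun _ => hsub h2⟩
  have hxΩ : ∀ a, x a ∈ Ω ↔ a ∈ Ω := hinv x y (Or.inl rfl)
  have hyΩ : ∀ a, y a ∈ Ω ↔ a ∈ Ω := hinv y x (Or.inr rfl)
  let x' : Perm {a // a ∈ Ω} := x.subtypePerm hxΩ
  let y' : Perm {a // a ∈ Ω} := y.subtypePerm hyΩ
  have hΦx : Perm.ofSubtype x' = x := Perm.ofSubtype_subtypePerm hxΩ (fun a ha =>
    Finset.mem_union_left _ (Perm.mem_support.mpr ha))
  have hΦy : Perm.ofSubtype y' = y := Perm.ofSubtype_subtypePerm hyΩ (fun a ha =>
    Finset.mem_union_right _ (Perm.mem_support.mpr ha))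
  have hinj : Function.Injective (Perm.ofSubtype : Perm {a // a ∈ Ω} →* Perm (Fin m)) :=
    Perm.ofSubtype_injective
  have hx'o : orderOf x' = p := by
    rw [← orderOf_injective (Perm.ofSubtype : Perm {a // a ∈ Ω} →* Perm (Fin m)) hinj, hΦx, hxo]
  have hy'o : orderOf y' = q := by
    rw [← orderOf_injective (Perm.ofSubtype : Perm {a // a ∈ Ω} →* Perm (Fin m)) hinj, hΦy, hyo]
  have hcov : ∀ a : {a // a ∈ Ω}, x' a ≠ a ∨ y' a ≠ a := by
    rintro ⟨a, ha⟩
    rcases Finset.mem_union.mp ha with h | h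
    · left
      intro h'
      exact (Perm.mem_support.mp h) (congrArg Subtype.val h')
    · right
      intro h'
      exact (Perm.mem_support.mp h) (congrArg Subtype.val h')
  have hcard : Fintype.card {a // a ∈ Ω} ≤ m := by
    rw [Fintype.card_coe]
    have := Finset.card_le_univ Ω
    rwa [Fintype.card_fin] at this
  obtain ⟨d, hd, ⟨ψ⟩⟩ := main_abstract x' y' hp hq hx'o hy'o hcov hcard hgood
  refine ⟨d, hd, ⟨?_⟩⟩
  have e1 := closureEquiv (alternatingGroup (Fin m)).subtype
    (Subgroup.subtype_injective _) X Y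
  have e2 := closureEquiv (Perm.ofSubtype : Perm {a // a ∈ Ω} →* Perm (Fin m)) hinj x' y'
  rw [hΦx, hΦy] at e2
  exact (e1.trans e2.symm).trans ψ

/-- Let m ≥ 5. Then there are primes p < q with m/2 ≤ p and q ≤ m such that any two elements x, y of the alternating group of degree m with x of order p and y of order q generate a subgroup isomorphic to an alternating group of some degree d ≥ 5. -/
theorem result (m : ℕ) (hm : 5 ≤ m) :
    ∃ p q : ℕ, p.Prime ∧ q.Prime ∧ m ≤ 2 * p ∧ p < q ∧ q ≤ m ∧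
      ∀ x y : alternatingGroup (Fin m), orderOf x = p → orderOf y = q →
        ∃ d : ℕ, 5 ≤ d ∧ Nonempty (Subgroup.closure ({x, y} : Set (alternatingGroup (Fin m))) ≃* alternatingGroup (Fin d)) := by
  obtain ⟨p, q, hp, hq, h1, h2, h3, hgood⟩ := exists_good m hm
  exact ⟨p, q, hp, hq, h1, h2, h3, fun x y hx hy => layer m x y hp hq hx hy hgood⟩

end Cfsg.Agent.S4150
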