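import Cfsg.Statements.S4151
import Cfsg.Agent.Lib.helper72.TIHall
import Cfsg.Agent.Lib.helper72.CyclicSylowAction

set_option autoImplicit false
open Cfsg
open scoped Pointwise

namespace Cfsg.Agent.S4151

open Cfsg.Agent.Lib.helper72 in
/-- Let G be a finite group and H a non-normal subgroup meeting each of its conjugates by elements outside N_G(H) trivially, with the order of H coprime to its index in N_G(H), such that G is π-separable for π the set of primes dividing the order of H (G has a chain of normal subgroups from 1 to G each of whose factors has order divisible only by primes dividing the order of H or coprime to it). Suppose a Sylow 2-subgroup of H is abelian and Q is a complement of H in N_G(H). Then C_H(Q), the subgroup of elements of H commuting with Q, has order coprime to its index in G and has a normal complement in G. -/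
theorem result {G : Type*} [Group G] [Finite G] (H : Subgroup G)
    (hTI : Cfsg.IsTISubset (H : Set G)) (hnn : ¬ H.Normal)
    (hHall : (Nat.card H).Coprime (H.subgroupOf (Subgroup.normalizer (H : Set G))).index)
    (hsep : ∃ (n : ℕ) (M : Fin (n + 1) → Subgroup G), M 0 = ⊥ ∧ M (Fin.last n) = ⊤ ∧ Monotone M ∧ (∀ i, (M i).Normal) ∧
      ∀ i : Fin n, (∀ q : ℕ, q.Prime → q ∣ (M i.castSucc).relIndex (M i.succ) → q ∣ Nat.card H) ∨
        ((M i.castSucc).relIndex (M i.succ)).Coprime (Nat.card H))
    (h2 : ∀ P : Sylow 2 H, IsMulCommutative (P : Subgroup H))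
    (Q : Subgroup G) (hQ : Q ≤ Subgroup.normalizer (H : Set G)) (hQH : Q ⊓ H = ⊥) (hQH' : Q ⊔ H = Subgroup.normalizer (H : Set G)) :
    (Nat.card ↥(H ⊓ Subgroup.centralizer (Q : Set G))).Coprime (H ⊓ Subgroup.centralizer (Q : Set G)).index ∧
    ∃ N : Subgroup G, N.Normal ∧ N.IsComplement' (H ⊓ Subgroup.centralizer (Q : Set G)) := by
  classical
  have hHL : H ≤ Subgroup.normalizer (H : Set G) := Subgroup.le_normalizer
  have hHne : Nat.card H ≠ 1 := by
    intro h
    have hb : H = ⊥ := Subgroup.card_eq_one.mp h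
    apply hnn
    rw [hb]
    exact Subgroup.normal_bot
  have hm : ¬ (Nat.card G).Coprime (Nat.card H) := by
    intro h
    exact hHne (Nat.Coprime.eq_one_of_dvd h.symm (Subgroup.card_subgroup_dvd_card H))
  obtain ⟨O, M, hOn, hMn, hOM, hOcop, hstep, hne⟩ := exists_step_of_chain (Nat.card H) hm hsep
  have hOL : O ⊔ Subgroup.normalizer (H : Set G) = ⊤ :=
    ti_sup_normalizer_eq_top hTI hHall O M hstep hne
  -- Sylow subgroups of `H` are cyclic
  have hsyl : ∀ (p : ℕ) [Fact p.Prime] (P : Sylow p H), IsCyclic (P : Subgroup H) := by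
    intro p _ P
    apply ti_sylow_cyclic hTI hnn O hOcop hOL p P
    intro hp2 a ha b hb
    subst hp2
    have := (h2 P).is_comm.comm ⟨a, ha⟩ ⟨b, hb⟩
    exact congrArg Subtype.val this
  have hcyc : ∀ (p : ℕ) [Fact p.Prime] (P : Subgroup G), P ≤ H → IsPGroup p P → IsCyclic P := by
    intro p _ P hPH hP
    have hP' : IsPGroup p (P.subgroupOf H) := hP.comap_subtype
    obtain ⟨S, hS⟩ := hP'.exists_le_sylow
    have hScyc := hsyl p S
    let f : P →* (S : Subgroup H) :=
      { toFun := fun x => ⟨⟨x.1, hPH x.2⟩, hS (Subgroup.mem_subgroupOf.mpr x.2)⟩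
        map_one' := rfl
        map_mul' := fun _ _ => rfl }
    have hf : Function.Injective f := by
      intro x y hxy
      have := congrArg (fun z : (S : Subgroup H) => ((z : H) : G)) hxy
      exact Subtype.ext this
    exact isCyclic_of_injective f hf
  have hsolvH : Group.IsSolvable H := isSolvable_of_pgroups_cyclic H hcyc
  -- `|Q|` divides the index of `H` in its normalizer
  have hQdvd : Nat.card Q ∣ (H.subgroupOf (Subgroup.normalizer (H : Set G))).index := by
    have hnorm : (H.subgroupOf (Subgroup.normalizer (H : Set G))).Normal :=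
      (Subgroup.normal_subgroupOf_iff_le_normalizer hHL).mpr le_rfl
    rw [Subgroup.index_eq_card]
    let f : Q →* (Subgroup.normalizer (H : Set G)) ⧸ (H.subgroupOf (Subgroup.normalizer (H : Set G))) :=
      (QuotientGroup.mk' _).comp (Subgroup.inclusion hQ)
    have hf : Function.Injective f := by
      rw [injective_iff_map_eq_one]
      intro x hx
      have h1 : Subgroup.inclusion hQ x ∈ H.subgroupOf (Subgroup.normalizer (H : Set G)) := by
        rw [← QuotientGroup.eq_one_iff]; exact hx
      have h3 : (x : G) ∈ Q ⊓ H := ⟨x.2, Subgroup.mem_subgroupOf.mp h1⟩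
      rw [hQH, Subgroup.mem_bot] at h3
      exact Subtype.ext h3
    exact Subgroup.card_dvd_of_injective f hf
  have hQcop : (Nat.card Q).Coprime (Nat.card H) :=
    Nat.Coprime.coprime_dvd_left hQdvd hHall.symm
  have hcop4 := coprime_card_commutator_card_fixed (Nat.card H) H Q le_rfl hQ hQcop hcyc
  have hsupfix := Cfsg.Agent.Lib.helper1.commutator_sup_fixed Q H hQ hQcop (Or.inr hsolvH)
  -- the candidate normal complement
  have hDH : H ⊓ Subgroup.centralizer (Q : Set G) ≤ H := inf_le_left
  have hnO : Subgroup.normalizer ((O : Subgroup G) : Set G) = ⊤ := Subgroup.normalizer_eq_top_iff.mpr hOn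
  have hDnorm : H ⊓ Subgroup.centralizer (Q : Set G) ≤
      Subgroup.normalizer (((O ⊔ (⁅H, Q⁆ ⊔ Q) : Subgroup G)) : Set G) := by
    apply le_normalizer_sup
    · rw [hnO]; exact le_top
    · apply le_normalizer_sup
      · exact hDH.trans (Cfsg.Agent.Lib.helper1.left_le_normalizer_commutator H Q)
      · exact inf_le_right.trans (Subgroup.centralizer_le_normalizer _)
  have hNnorm : (O ⊔ (⁅H, Q⁆ ⊔ Q) : Subgroup G).Normal := by
    have hN := Subgroup.le_normalizer (H := (O ⊔ (⁅H, Q⁆ ⊔ Q) : Subgroup G))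
    have hHN : H ≤ Subgroup.normalizer (((O ⊔ (⁅H, Q⁆ ⊔ Q) : Subgroup G)) : Set G) := by
      calc H = ⁅H, Q⁆ ⊔ (H ⊓ Subgroup.centralizer (Q : Set G)) := hsupfix.symm
        _ ≤ _ := sup_le ((le_sup_left.trans le_sup_right).trans hN) hDnorm
    rw [← Subgroup.normalizer_eq_top_iff, eq_top_iff, ← hOL, ← hQH']
    exact sup_le (le_sup_left.trans hN) (sup_le ((le_sup_right.trans le_sup_right).trans hN) hHN)
  have hsupD : (O ⊔ (⁅H, Q⁆ ⊔ Q) : Subgroup G) ⊔ (H ⊓ Subgroup.centralizer (Q : Set G)) = ⊤ := by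
    rw [eq_top_iff, ← hOL, ← hQH']
    refine sup_le (le_sup_left.trans le_sup_left) (sup_le
      ((le_sup_right.trans le_sup_right).trans le_sup_left) ?_)
    calc H = ⁅H, Q⁆ ⊔ (H ⊓ Subgroup.centralizer (Q : Set G)) := hsupfix.symm
      _ ≤ _ := sup_le ((le_sup_left.trans le_sup_right).trans le_sup_left) le_sup_right
  have hDcard : Nat.card ↥(H ⊓ Subgroup.centralizer (Q : Set G)) ∣ Nat.card H :=
    Subgroup.card_dvd_of_le hDH
  have hcard1 : Nat.card ↥(⁅H, Q⁆ ⊔ Q : Subgroup G) ∣ Nat.card ↥(⁅H, Q⁆ : Subgroup G) * Nat.card Q :=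
    card_sup_dvd_of_le_normalizer (Cfsg.Agent.Lib.helper1.right_le_normalizer_commutator hQ)
  have hcard2 : Nat.card ↥(O ⊔ (⁅H, Q⁆ ⊔ Q) : Subgroup G) ∣
      Nat.card O * Nat.card ↥(⁅H, Q⁆ ⊔ Q : Subgroup G) :=
    card_sup_dvd_of_le_normalizer (by rw [hnO]; exact le_top)
  have hcopND : (Nat.card ↥(O ⊔ (⁅H, Q⁆ ⊔ Q) : Subgroup G)).Coprime
      (Nat.card ↥(H ⊓ Subgroup.centralizer (Q : Set G))) := by
    apply Nat.Coprime.coprime_dvd_left hcard2
    apply Nat.Coprime.mul_left
    · exact Nat.Coprime.coprime_dvd_right hDcard hOcop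
    · apply Nat.Coprime.coprime_dvd_left hcard1
      apply Nat.Coprime.mul_left hcop4
      exact Nat.Coprime.coprime_dvd_right hDcard hQcop
  have hcompl : (O ⊔ (⁅H, Q⁆ ⊔ Q) : Subgroup G).IsComplement'
      (H ⊓ Subgroup.centralizer (Q : Set G)) := by
    apply Subgroup.isComplement'_of_disjoint_and_mul_eq_univ
    · exact Subgroup.disjoint_of_coprime_natCard hcopND
    · rw [← Subgroup.normal_mul, hsupD]
      rfl
  refine ⟨?_, _, hNnorm, hcompl⟩
  rw [hcompl.index_eq_card]
  exact hcopND.symm

end Cfsg.Agent.S4151
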