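import Cfsg.Statements.S4152

set_option autoImplicit false
open Cfsg

namespace Cfsg.Agent.S4152

lemma orderOf_conj' {G : Type*} [Group G] (g x : G) : orderOf (g * x * g⁻¹) = orderOf x := by
  have := orderOf_injective (MulAut.conj g).toMonoidHom (MulAut.conj g).injective x
  simpa [MulAut.conj_apply] using this

/-- uniform exponents for the `π`-part and `π'`-part of elements -/
lemma exists_exponents {G : Type*} [Group G] [Finite G] (π : Set ℕ) :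
    ∃ e f : ℕ, (∀ x : G, (∀ q : ℕ, q.Prime → q ∣ orderOf x → q ∈ π) → x ^ e = x) ∧
      (∀ n : G, ∀ q : ℕ, q.Prime → q ∣ orderOf (n ^ e) → q ∈ π) ∧
      (∀ n : G, (n ^ f) ^ e = 1) ∧ (∀ n : G, n ^ e * n ^ f = n) := by
  classical
  have hc0 : Nat.card G ≠ 0 := Nat.card_pos.ne'
  obtain ⟨A, B, hAB, hAπ, hBπ⟩ : ∃ A B : ℕ, A * B = Nat.card G ∧
      (∀ q : ℕ, q.Prime → q ∣ A → q ∈ π) ∧ (∀ q : ℕ, q.Prime → q ∣ B → q ∉ π) := by
    refine ⟨∏ q ∈ (Nat.card G).primeFactors.filter (· ∈ π), q ^ (Nat.card G).factorization q,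
      ∏ q ∈ (Nat.card G).primeFactors.filter (· ∉ π), q ^ (Nat.card G).factorization q, ?_, ?_, ?_⟩
    · rw [Finset.prod_filter_mul_prod_filter_not]
      have := Nat.prod_factorization_pow_eq_self hc0
      rw [Finsupp.prod, Nat.support_factorization] at this
      exact this
    · intro q hq hqA
      rw [Prime.dvd_finsetProd_iff hq.prime] at hqA
      obtain ⟨r, hr, hqr⟩ := hqA
      rw [Finset.mem_filter] at hr
      have := (Nat.prime_dvd_prime_iff_eq hq (Nat.prime_of_mem_primeFactors hr.1)).mp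
        (hq.dvd_of_dvd_pow hqr)
      rw [this]; exact hr.2
    · intro q hq hqA
      rw [Prime.dvd_finsetProd_iff hq.prime] at hqA
      obtain ⟨r, hr, hqr⟩ := hqA
      rw [Finset.mem_filter] at hr
      have := (Nat.prime_dvd_prime_iff_eq hq (Nat.prime_of_mem_primeFactors hr.1)).mp
        (hq.dvd_of_dvd_pow hqr)
      rw [this]; exact hr.2
  have hcop : Nat.Coprime A B := Nat.coprime_of_dvd (fun k hk hkA hkB => hBπ k hk hkB (hAπ k hk hkA))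
  obtain ⟨e, he1, he0⟩ := Nat.chineseRemainder hcop 1 0
  obtain ⟨f, hf0, hf1⟩ := Nat.chineseRemainder hcop 0 1
  have hBe : B ∣ e := (Nat.modEq_zero_iff_dvd).mp he0
  have hAf : A ∣ f := (Nat.modEq_zero_iff_dvd).mp hf0
  have hord : ∀ n : G, orderOf n ∣ A * B := fun n => hAB ▸ orderOf_dvd_natCard n
  refine ⟨e, f, ?_, ?_, ?_, ?_⟩
  · intro x hx
    have h1 : Nat.Coprime (orderOf x) B :=
      Nat.coprime_of_dvd (fun k hk hkx hkB => hBπ k hk hkB (hx k hk hkx))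
    have h2 : orderOf x ∣ A := h1.dvd_of_dvd_mul_right (hord x)
    have h3 : x ^ e = x ^ 1 := pow_eq_pow_iff_modEq.mpr (he1.of_dvd h2)
    rw [h3, pow_one]
  · intro n q hq hqd
    apply hAπ q hq
    refine hqd.trans (orderOf_dvd_of_pow_eq_one ?_)
    rw [← pow_mul, ← orderOf_dvd_iff_pow_eq_one]
    exact (hord n).trans (by rw [mul_comm e A]; exact Nat.mul_dvd_mul_left A hBe)
  · intro n
    rw [← pow_mul, ← orderOf_dvd_iff_pow_eq_one]
    exact (hord n).trans (Nat.mul_dvd_mul hAf hBe)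
  · intro n
    rw [← pow_add]
    have h1 : e + f ≡ 1 [MOD A] := by simpa using Nat.ModEq.add he1 hf0
    have h2 : e + f ≡ 1 [MOD B] := by simpa using Nat.ModEq.add he0 hf1
    have h3 : e + f ≡ 1 [MOD A * B] := (Nat.modEq_and_modEq_iff_modEq_mul hcop).mp ⟨h1, h2⟩
    have h4 : n ^ (e + f) = n ^ 1 := pow_eq_pow_iff_modEq.mpr (h3.of_dvd (hord n))
    rw [h4, pow_one]

lemma card_le_of_fibers {α β : Type*} [Finite α] [Finite β] (f : α → β) (c : ℕ)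
    (h : ∀ b, Nat.card {a // f a = b} ≤ c) : Nat.card α ≤ Nat.card β * c := by
  classical
  have := Fintype.ofFinite β
  rw [← Nat.card_congr (Equiv.sigmaFiberEquiv f), Nat.card_sigma]
  calc ∑ b, Nat.card {a // f a = b} ≤ ∑ _b : β, c := Finset.sum_le_sum (fun b _ => h b)
    _ = Nat.card β * c := by simp [Nat.card_eq_fintype_card]

/-- conjugation action on the `π`-elements -/
@[reducible] def conjPiAction (π : Set ℕ) (H : Type*) [Group H] :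
    MulAction H {x : H // ∀ q : ℕ, q.Prime → q ∣ orderOf x → q ∈ π} where
  smul a x := ⟨a * x.1 * a⁻¹, by rw [orderOf_conj']; exact x.2⟩
  one_smul x := Subtype.ext (by show 1 * x.1 * 1⁻¹ = x.1; simp)
  mul_smul a b x := Subtype.ext (by
    show (a * b) * x.1 * (a * b)⁻¹ = a * (b * x.1 * b⁻¹) * a⁻¹; group)

/-- Burnside count for `π`-classes -/
lemma card_pairs (π : Set ℕ) (H : Type*) [Group H] [Finite H] :
    Nat.card {p : H × H // (∀ q : ℕ, q.Prime → q ∣ orderOf p.2 → q ∈ π) ∧ p.1 * p.2 * p.1⁻¹ = p.2} =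
    Nat.card {C : ConjClasses H // ∀ q : ℕ, q.Prime →
      (∃ g : H, ConjClasses.mk g = C ∧ q ∣ orderOf g) → q ∈ π} * Nat.card H := by
  classical
  let act : MulAction H {x : H // ∀ q : ℕ, q.Prime → q ∣ orderOf x → q ∈ π} := conjPiAction π H
  have E1 : {p : H × H // (∀ q : ℕ, q.Prime → q ∣ orderOf p.2 → q ∈ π) ∧ p.1 * p.2 * p.1⁻¹ = p.2} ≃
      (Σ a : H, MulAction.fixedBy {x : H // ∀ q : ℕ, q.Prime → q ∣ orderOf x → q ∈ π} a) :=
    { toFun := fun p => ⟨p.1.1, ⟨⟨p.1.2, p.2.1⟩, Subtype.ext p.2.2⟩⟩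
      invFun := fun s => ⟨(s.1, s.2.1.1), s.2.1.2, congrArg Subtype.val s.2.2⟩
      left_inv := fun p => rfl
      right_inv := fun s => rfl }
  rw [Nat.card_congr E1, Nat.card_congr (MulAction.sigmaFixedByEquivOrbitsProdGroup H _),
    Nat.card_prod]
  congr 1
  have hP : ∀ x : H, (∀ q : ℕ, q.Prime → q ∣ orderOf x → q ∈ π) → ∀ q : ℕ, q.Prime →
      (∃ g : H, ConjClasses.mk g = ConjClasses.mk x ∧ q ∣ orderOf g) → q ∈ π := by
    intro x hx q hq ⟨g, hg, hqd⟩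
    rw [ConjClasses.mk_eq_mk_iff_isConj, isConj_iff] at hg
    obtain ⟨c, hc⟩ := hg
    rw [← orderOf_conj' c g, hc] at hqd
    exact hx q hq hqd
  let f : {x : H // ∀ q : ℕ, q.Prime → q ∣ orderOf x → q ∈ π} →
      {C : ConjClasses H // ∀ q : ℕ, q.Prime →
        (∃ g : H, ConjClasses.mk g = C ∧ q ∣ orderOf g) → q ∈ π} :=
    fun x => ⟨ConjClasses.mk x.1, hP x.1 x.2⟩
  have hf : ∀ x y : {x : H // ∀ q : ℕ, q.Prime → q ∣ orderOf x → q ∈ π},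
      @Setoid.r _ (MulAction.orbitRel H _) x y → f x = f y := by
    intro x y hxy
    obtain ⟨a, ha⟩ := hxy
    apply Subtype.ext
    show ConjClasses.mk x.1 = ConjClasses.mk y.1
    rw [ConjClasses.mk_eq_mk_iff_isConj, isConj_comm, isConj_iff]
    exact ⟨a, congrArg Subtype.val ha⟩
  refine Nat.card_congr (Equiv.ofBijective (Quotient.lift f hf) ⟨?_, ?_⟩)
  · intro X Y
    induction X using Quotient.inductionOn with
    | _ x =>
    induction Y using Quotient.inductionOn with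
    | _ y =>
    intro hxy
    apply Quotient.sound
    have h1 : ConjClasses.mk x.1 = ConjClasses.mk y.1 := congrArg Subtype.val hxy
    rw [ConjClasses.mk_eq_mk_iff_isConj, isConj_comm, isConj_iff] at h1
    obtain ⟨c, hc⟩ := h1
    exact ⟨c, Subtype.ext hc⟩
  · rintro ⟨C, hC⟩
    obtain ⟨g, rfl⟩ := ConjClasses.mk_surjective C
    exact ⟨Quotient.mk _ ⟨g, fun q hq hqd => hC q hq ⟨g, rfl, hqd⟩⟩, rfl⟩

lemma fiber_bound {G : Type*} [Group G] [Finite G] (N : Subgroup G) (π : Set ℕ) (e f : ℕ)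
    (hP1 : ∀ x : G, (∀ q : ℕ, q.Prime → q ∣ orderOf x → q ∈ π) → x ^ e = x)
    (hP2 : ∀ n : G, ∀ q : ℕ, q.Prime → q ∣ orderOf (n ^ e) → q ∈ π)
    (hP3 : ∀ n : G, (n ^ f) ^ e = 1) (hP4 : ∀ n : G, n ^ e * n ^ f = n) (a0 x0 : G) :
    Nat.card {p : G × G // (∀ q : ℕ, q.Prime → q ∣ orderOf p.2 → q ∈ π) ∧ p.1 * p.2 * p.1⁻¹ = p.2 ∧
        a0⁻¹ * p.1 ∈ N ∧ x0⁻¹ * p.2 ∈ N} ≤
    Nat.card {p : N × N // (∀ q : ℕ, q.Prime → q ∣ orderOf p.2 → q ∈ π) ∧ p.1 * p.2 * p.1⁻¹ = p.2} := by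
  classical
  have hc : ∀ x : G, ∃ c : G, (∃ a : G, a0⁻¹ * a ∈ N ∧ a * x * a⁻¹ = x) →
      (a0⁻¹ * c ∈ N ∧ c * x * c⁻¹ = x) := by
    intro x
    by_cases h : ∃ a : G, a0⁻¹ * a ∈ N ∧ a * x * a⁻¹ = x
    · obtain ⟨a, ha⟩ := h; exact ⟨a, fun _ => ha⟩
    · exact ⟨1, fun h' => absurd h' h⟩
  choose c hc using hc
  have hd : ∀ m : G, ∃ d : G, (∃ y : G, x0⁻¹ * y ∈ N ∧ y * m * y⁻¹ = m) →
      (x0⁻¹ * d ∈ N ∧ d * m * d⁻¹ = m) := by
    intro m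
    by_cases h : ∃ y : G, x0⁻¹ * y ∈ N ∧ y * m * y⁻¹ = m
    · obtain ⟨y, hy⟩ := h; exact ⟨y, fun _ => hy⟩
    · exact ⟨1, fun h' => absurd h' h⟩
  choose d hd using hd
  let nn : G × G → G := fun p => (c p.2)⁻¹ * p.1
  let mm : G × G → G := fun p => (nn p) ^ e
  let yy : G × G → G := fun p => p.2 * (nn p) ^ f
  let bb : G × G → G := fun p => (d (mm p))⁻¹ * yy p
  have facts : ∀ p : G × G, (∀ q : ℕ, q.Prime → q ∣ orderOf p.2 → q ∈ π) → p.1 * p.2 * p.1⁻¹ = p.2 →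
      a0⁻¹ * p.1 ∈ N → x0⁻¹ * p.2 ∈ N →
      nn p ∈ N ∧ Commute (nn p) p.2 ∧ bb p ∈ N ∧ Commute (bb p) (mm p) := by
    rintro ⟨a, x⟩ hpi hax ha hx
    have hcomm_a : Commute a x := mul_inv_eq_iff_eq_mul.mp hax
    obtain ⟨hcN, hcx⟩ := hc x ⟨a, ha, hax⟩
    have hcomm_c : Commute (c x) x := mul_inv_eq_iff_eq_mul.mp hcx
    have hnN : nn (a, x) ∈ N := by
      have : nn (a, x) = (a0⁻¹ * c x)⁻¹ * (a0⁻¹ * a) := by simp only [nn]; group
      rw [this]; exact N.mul_mem (N.inv_mem hcN) ha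
    have hnx : Commute (nn (a, x)) x := hcomm_c.inv_left.mul_left hcomm_a
    have hyN : x0⁻¹ * yy (a, x) ∈ N := by
      have : x0⁻¹ * yy (a, x) = (x0⁻¹ * x) * (nn (a, x)) ^ f := by simp only [yy]; group
      rw [this]; exact N.mul_mem hx (N.pow_mem hnN f)
    have hym : Commute (yy (a, x)) (mm (a, x)) :=
      (hnx.symm.pow_right e).mul_left ((Commute.refl _).pow_pow f e)
    obtain ⟨hdN, hdm⟩ := hd (mm (a, x)) ⟨yy (a, x), hyN, mul_inv_eq_iff_eq_mul.mpr hym.eq⟩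
    have hcomm_d : Commute (d (mm (a, x))) (mm (a, x)) := mul_inv_eq_iff_eq_mul.mp hdm
    refine ⟨hnN, hnx, ?_, hcomm_d.inv_left.mul_left hym⟩
    have : bb (a, x) = (x0⁻¹ * d (mm (a, x)))⁻¹ * (x0⁻¹ * yy (a, x)) := by simp only [bb]; group
    rw [this]; exact N.mul_mem (N.inv_mem hdN) hyN
  have hpiN : ∀ (p : G × G) (h : mm p ∈ N), ∀ q : ℕ, q.Prime →
      q ∣ orderOf (⟨mm p, h⟩ : N) → q ∈ π := by
    intro p h q hq hqd
    have h0 : orderOf (⟨mm p, h⟩ : N) = orderOf (mm p) := Subgroup.orderOf_mk _ h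
    rw [h0] at hqd
    exact hP2 (nn p) q hq hqd
  have hxe : ∀ (a x : G), (∀ q : ℕ, q.Prime → q ∣ orderOf x → q ∈ π) → Commute (nn (a, x)) x →
      (yy (a, x)) ^ e = x := by
    intro a x hpi hnx
    show (x * (nn (a, x)) ^ f) ^ e = x
    rw [(hnx.symm.pow_right f).mul_pow, hP3, mul_one, hP1 x hpi]
  refine Nat.card_le_card_of_injective
    (fun p => ⟨(⟨bb p.1, (facts p.1 p.2.1 p.2.2.1 p.2.2.2.1 p.2.2.2.2).2.2.1⟩,
      ⟨mm p.1, N.pow_mem (facts p.1 p.2.1 p.2.2.1 p.2.2.2.1 p.2.2.2.2).1 e⟩),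
      hpiN p.1 _, Subtype.ext (mul_inv_eq_iff_eq_mul.mpr
        (facts p.1 p.2.1 p.2.2.1 p.2.2.2.1 p.2.2.2.2).2.2.2.eq)⟩) ?_
  rintro ⟨⟨a, x⟩, hpi, hax, ha, hx⟩ ⟨⟨a', x'⟩, hpi', hax', ha', hx'⟩ hΘ
  have h1 : bb (a, x) = bb (a', x') := congrArg (fun t => (t.1.1 : G)) hΘ
  have h2 : mm (a, x) = mm (a', x') := congrArg (fun t => (t.1.2 : G)) hΘ
  obtain ⟨hnN, hnx, -, -⟩ := facts (a, x) hpi hax ha hx
  obtain ⟨hnN', hnx', -, -⟩ := facts (a', x') hpi' hax' ha' hx'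
  have h3 : yy (a, x) = yy (a', x') := by
    have h1' : (d (mm (a, x)))⁻¹ * yy (a, x) = (d (mm (a', x')))⁻¹ * yy (a', x') := h1
    rw [h2] at h1'
    exact mul_left_cancel h1'
  have hxx : x = x' := by rw [← hxe a x hpi hnx, ← hxe a' x' hpi' hnx', h3]
  subst hxx
  have h4 : (nn (a, x)) ^ f = (nn (a', x)) ^ f := mul_left_cancel (h3 : x * _ = x * _)
  have h2' : (nn (a, x)) ^ e = (nn (a', x)) ^ e := h2
  have h5 : nn (a, x) = nn (a', x) := by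
    rw [← hP4 (nn (a, x)), ← hP4 (nn (a', x)), h4, h2']
  have h6 : a = a' := mul_left_cancel (h5 : (c x)⁻¹ * a = (c x)⁻¹ * a')
  subst h6
  rfl

lemma card_pairs_le {G : Type*} [Group G] [Finite G] (N : Subgroup G) [N.Normal] (π : Set ℕ) :
    Nat.card {p : G × G // (∀ q : ℕ, q.Prime → q ∣ orderOf p.2 → q ∈ π) ∧ p.1 * p.2 * p.1⁻¹ = p.2} ≤
    Nat.card {p : (G ⧸ N) × (G ⧸ N) //
      (∀ q : ℕ, q.Prime → q ∣ orderOf p.2 → q ∈ π) ∧ p.1 * p.2 * p.1⁻¹ = p.2} *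
    Nat.card {p : N × N // (∀ q : ℕ, q.Prime → q ∣ orderOf p.2 → q ∈ π) ∧ p.1 * p.2 * p.1⁻¹ = p.2} := by
  classical
  obtain ⟨e, f, hP1, hP2, hP3, hP4⟩ := exists_exponents (G := G) π
  have hΨ1 : ∀ p : G × G, (∀ q : ℕ, q.Prime → q ∣ orderOf p.2 → q ∈ π) →
      ∀ q : ℕ, q.Prime → q ∣ orderOf (p.2 : G ⧸ N) → q ∈ π :=
    fun p hp q hq hqd => hp q hq (hqd.trans (orderOf_map_dvd (QuotientGroup.mk' N) p.2))
  let Ψ : {p : G × G // (∀ q : ℕ, q.Prime → q ∣ orderOf p.2 → q ∈ π) ∧ p.1 * p.2 * p.1⁻¹ = p.2} →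
      {p : (G ⧸ N) × (G ⧸ N) //
        (∀ q : ℕ, q.Prime → q ∣ orderOf p.2 → q ∈ π) ∧ p.1 * p.2 * p.1⁻¹ = p.2} :=
    fun p => ⟨((p.1.1 : G ⧸ N), (p.1.2 : G ⧸ N)), hΨ1 p.1 p.2.1,
      congrArg (QuotientGroup.mk (s := N)) p.2.2⟩
  refine card_le_of_fibers Ψ _ (fun b => ?_)
  rcases isEmpty_or_nonempty {p // Ψ p = b} with hemp | ⟨⟨⟨⟨a0, x0⟩, h0pi, h0c⟩, h0Ψ⟩⟩
  · rw [Nat.card_of_isEmpty]; exact Nat.zero_le _
  · refine le_trans ?_ (fiber_bound N π e f hP1 hP2 hP3 hP4 a0 x0)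
    have hmem : ∀ p : {p // Ψ p = b}, a0⁻¹ * p.1.1.1 ∈ N ∧ x0⁻¹ * p.1.1.2 ∈ N := by
      intro p
      have h1 : Ψ p.1 = Ψ ⟨(a0, x0), h0pi, h0c⟩ := p.2.trans h0Ψ.symm
      have h2 : ((p.1.1.1 : G ⧸ N), (p.1.1.2 : G ⧸ N)) = ((a0 : G ⧸ N), (x0 : G ⧸ N)) :=
        congrArg Subtype.val h1
      rw [Prod.mk.injEq] at h2
      exact ⟨QuotientGroup.eq.mp h2.1.symm, QuotientGroup.eq.mp h2.2.symm⟩
    exact Nat.card_le_card_of_injective
      (fun p => ⟨p.1.1, p.1.2.1, p.1.2.2, (hmem p).1, (hmem p).2⟩)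
      (fun p p' h => by
        have h' := congrArg Subtype.val h
        exact Subtype.ext (Subtype.ext h'))

theorem result {G : Type*} [Group G] [Finite G] (N : Subgroup G) [N.Normal] (π : Set ℕ) :
    Nat.card {C : ConjClasses G // ∀ q : ℕ, q.Prime → (∃ g : G, ConjClasses.mk g = C ∧ q ∣ orderOf g) → q ∈ π} ≤ Nat.card {C : ConjClasses N // ∀ q : ℕ, q.Prime → (∃ g : N, ConjClasses.mk g = C ∧ q ∣ orderOf g) → q ∈ π} * Nat.card {C : ConjClasses (G ⧸ N) // ∀ q : ℕ, q.Prime → (∃ g : (G ⧸ N), ConjClasses.mk g = C ∧ q ∣ orderOf g) → q ∈ π} := by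
  have hG := card_pairs π G
  have hN := card_pairs π N
  have hQ := card_pairs π (G ⧸ N)
  have hle := card_pairs_le N π
  rw [hG, hN, hQ] at hle
  have hcard : Nat.card G = Nat.card (G ⧸ N) * Nat.card N :=
    Subgroup.card_eq_card_quotient_mul_card_subgroup N
  have hpos : 0 < Nat.card G := Nat.card_pos
  generalize Nat.card {C : ConjClasses G // ∀ q : ℕ, q.Prime → (∃ g : G, ConjClasses.mk g = C ∧ q ∣ orderOf g) → q ∈ π} = kG at hle ⊢
  generalize Nat.card {C : ConjClasses N // ∀ q : ℕ, q.Prime → (∃ g : N, ConjClasses.mk g = C ∧ q ∣ orderOf g) → q ∈ π} = kN at hle ⊢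
  generalize Nat.card {C : ConjClasses (G ⧸ N) // ∀ q : ℕ, q.Prime → (∃ g : (G ⧸ N), ConjClasses.mk g = C ∧ q ∣ orderOf g) → q ∈ π} = kQ at hle ⊢
  have h : kG * Nat.card G ≤ kN * kQ * Nat.card G := by
    calc kG * Nat.card G ≤ kQ * Nat.card (G ⧸ N) * (kN * Nat.card N) := hle
      _ = kN * kQ * Nat.card G := by rw [hcard]; ring
  exact Nat.le_of_mul_le_mul_right h hpos

end Cfsg.Agent.S4152
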