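import Cfsg.Statements.S4153

set_option autoImplicit false
open Cfsg

namespace Cfsg.Agent.S4153

open scoped Pointwise

lemma pelt_of_mem {G : Type*} [Group G] {p : ℕ} [Fact p.Prime] {Q : Subgroup G} (hQ : IsPGroup p Q)
    {x : G} (hx : x ∈ Q) : ∃ k : ℕ, orderOf x = p ^ k := by
  obtain ⟨k, hk⟩ := IsPGroup.iff_orderOf.mp hQ ⟨x, hx⟩
  exact ⟨k, by rwa [Subgroup.orderOf_mk] at hk⟩

lemma orderOf_conj' {G : Type*} [Group G] (g x : G) : orderOf (g * x * g⁻¹) = orderOf x := by
  have := orderOf_injective (MulAut.conj g).toMonoidHom (MulAut.conj g).injective x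
  simpa [MulAut.conj_apply] using this

/-- every `p`-element lies in a conjugate of a given Sylow `p`-subgroup -/
lemma exists_conj_mem_sylow {G : Type*} [Group G] [Finite G] {p : ℕ} [Fact p.Prime] (P : Sylow p G)
    (u : G) (hu : ∃ k : ℕ, orderOf u = p ^ k) : ∃ g y : G, y ∈ P ∧ g * y * g⁻¹ = u := by
  obtain ⟨k, hk⟩ := hu
  have hZ : IsPGroup p (Subgroup.zpowers u) := by
    apply IsPGroup.of_card (n := k)
    rw [Nat.card_zpowers, hk]
  obtain ⟨Q, hQ⟩ := hZ.exists_le_sylow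
  obtain ⟨g, hg⟩ := MulAction.exists_smul_eq G P Q
  have h1 : u ∈ (Q : Subgroup G) := hQ (Subgroup.mem_zpowers u)
  rw [← hg, Sylow.coe_subgroup_smul, Subgroup.mem_pointwise_smul_iff_inv_smul_mem] at h1
  have h2 : g⁻¹ * u * g ∈ (P : Subgroup G) := by
    simpa [MulAut.smul_def, MulAut.conj_apply] using h1
  exact ⟨g, g⁻¹ * u * g, h2, by group⟩

lemma card_inf_mul {G : Type*} [Group G] [Finite G] (p : ℕ) [Fact p.Prime] (N : Subgroup G) [N.Normal]
    (P : Sylow p G) (Pbar : Sylow p (G ⧸ N)) :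
    Nat.card ((P : Subgroup G) ⊓ N : Subgroup G) * Nat.card (Pbar : Subgroup (G ⧸ N)) = Nat.card (P : Subgroup G) := by
  have h1 : Nat.card (Pbar : Subgroup (G ⧸ N)) =
      Nat.card ((P : Subgroup G).map (QuotientGroup.mk' N)) := by
    rw [Sylow.card_eq_multiplicity Pbar,
      ← Sylow.card_eq_multiplicity (P.mapSurjective (QuotientGroup.mk'_surjective N))]
    rfl
  let f : (P : Subgroup G) →* G ⧸ N := (QuotientGroup.mk' N).comp (P : Subgroup G).subtype
  have h2 : f.range = (P : Subgroup G).map (QuotientGroup.mk' N) := by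
    rw [← MonoidHom.map_range, Subgroup.range_subtype]
  have h3 : f.ker = N.subgroupOf (P : Subgroup G) := by
    ext x
    rw [MonoidHom.mem_ker, Subgroup.mem_subgroupOf]
    show (QuotientGroup.mk (x : G) : G ⧸ N) = 1 ↔ _
    rw [QuotientGroup.eq_one_iff]
  have h4 : Nat.card (N.subgroupOf (P : Subgroup G)) = Nat.card ((P : Subgroup G) ⊓ N : Subgroup G) := by
    rw [← Subgroup.card_map_of_injective (P : Subgroup G).subtype_injective,
      Subgroup.subgroupOf_map_subtype, inf_comm]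
  have h5 := Subgroup.card_mul_index f.ker
  rw [Subgroup.index_ker, h2, h3, h4] at h5
  rw [h1]; exact h5

/-- Let G be a finite group, p a prime, N a normal subgroup, P a Sylow p-subgroup of G and P̄ a Sylow p-subgroup of G/N. Count the elements of p-power order, the identity included. Then (number of such elements of G/N)/#P̄ ≤ (number of such elements of G)/#P, stated as a cross-multiplied inequality, with equality when N is central. -/
theorem result {G : Type*} [Group G] [Finite G] (p : ℕ) [Fact p.Prime] (N : Subgroup G) [N.Normal]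
    (P : Sylow p G) (Pbar : Sylow p (G ⧸ N)) :
    Nat.card {g : (G ⧸ N) // ∃ k : ℕ, orderOf g = p ^ k} * Nat.card (P : Subgroup G) ≤ Nat.card {g : G // ∃ k : ℕ, orderOf g = p ^ k} * Nat.card (Pbar : Subgroup (G ⧸ N)) ∧
    (N ≤ Subgroup.center G → Nat.card {g : (G ⧸ N) // ∃ k : ℕ, orderOf g = p ^ k} * Nat.card (P : Subgroup G) = Nat.card {g : G // ∃ k : ℕ, orderOf g = p ^ k} * Nat.card (Pbar : Subgroup (G ⧸ N))) := by
  classical
  have hcard := card_inf_mul p N P Pbar
  -- choose, for each p-element of G/N, a lift which is a conjugate of an element of P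
  have hA : ∀ ubar : {g : (G ⧸ N) // ∃ k : ℕ, orderOf g = p ^ k}, ∃ g y : G, y ∈ P ∧
      (QuotientGroup.mk (g * y * g⁻¹) : G ⧸ N) = ubar.1 := by
    intro ubar
    obtain ⟨gb, yb, hyb, hgy⟩ := exists_conj_mem_sylow (P.mapSurjective (QuotientGroup.mk'_surjective N))
      ubar.1 ubar.2
    obtain ⟨g, rfl⟩ := QuotientGroup.mk_surjective gb
    have hyb' : yb ∈ (P : Subgroup G).map (QuotientGroup.mk' N) := hyb
    obtain ⟨y, hy, rfl⟩ := hyb'
    exact ⟨g, y, hy, hgy⟩
  choose gs ys hys hgys using hA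
  let φ : {g : (G ⧸ N) // ∃ k : ℕ, orderOf g = p ^ k} × ((P : Subgroup G) ⊓ N : Subgroup G) →
      {g : G // ∃ k : ℕ, orderOf g = p ^ k} := fun q =>
    ⟨gs q.1 * (ys q.1 * (q.2 : G)) * (gs q.1)⁻¹, by
      rw [orderOf_conj']
      exact pelt_of_mem P.isPGroup' ((P : Subgroup G).mul_mem (hys q.1) q.2.2.1)⟩
  have hφπ : ∀ q, (QuotientGroup.mk ((φ q : G)) : G ⧸ N) = q.1.1 := by
    intro q
    have h1 : (φ q : G) = (gs q.1 * ys q.1 * (gs q.1)⁻¹) * (gs q.1 * (q.2 : G) * (gs q.1)⁻¹) := by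
      show gs q.1 * (ys q.1 * (q.2 : G)) * (gs q.1)⁻¹ = _
      group
    rw [h1, QuotientGroup.mk_mul, hgys]
    have h2 : (QuotientGroup.mk (gs q.1 * (q.2 : G) * (gs q.1)⁻¹) : G ⧸ N) = 1 := by
      rw [QuotientGroup.eq_one_iff]
      exact Subgroup.Normal.conj_mem inferInstance _ q.2.2.2 _
    rw [h2, mul_one]
  have hφinj : Function.Injective φ := by
    rintro ⟨u, n⟩ ⟨u', n'⟩ h
    have h1 : u.1 = u'.1 := by
      rw [← hφπ (u, n), ← hφπ (u', n'), h]
    have h2 : u = u' := Subtype.ext h1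
    subst h2
    have h3 : gs u * (ys u * (n : G)) * (gs u)⁻¹ = gs u * (ys u * (n' : G)) * (gs u)⁻¹ :=
      congrArg Subtype.val h
    have h4 : (n : G) = (n' : G) := mul_left_cancel (mul_left_cancel (mul_right_cancel h3))
    exact Prod.ext rfl (Subtype.ext h4)
  have hle : Nat.card {g : (G ⧸ N) // ∃ k : ℕ, orderOf g = p ^ k} *
      Nat.card ((P : Subgroup G) ⊓ N : Subgroup G) ≤ Nat.card {g : G // ∃ k : ℕ, orderOf g = p ^ k} := by
    rw [← Nat.card_prod]
    exact Nat.card_le_card_of_injective φ hφinj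
  constructor
  · rw [← hcard, ← mul_assoc]
    exact Nat.mul_le_mul_right _ hle
  · intro hcent
    have hφsurj : Function.Surjective φ := by
      rintro ⟨u, hu⟩
      have hubar : ∃ k : ℕ, orderOf (QuotientGroup.mk u : G ⧸ N) = p ^ k := by
        obtain ⟨k, hk⟩ := hu
        have h1 : orderOf (QuotientGroup.mk u : G ⧸ N) ∣ p ^ k := by
          rw [← hk]; exact orderOf_map_dvd (QuotientGroup.mk' N) u
        obtain ⟨j, -, hj⟩ := (Nat.dvd_prime_pow Fact.out).mp h1
        exact ⟨j, hj⟩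
      set ub : {g : (G ⧸ N) // ∃ k : ℕ, orderOf g = p ^ k} := ⟨QuotientGroup.mk u, hubar⟩ with hub
      set x := gs ub * ys ub * (gs ub)⁻¹ with hx
      have hxu : x⁻¹ * u ∈ N := by
        rw [← QuotientGroup.eq]
        exact hgys ub
      have hncent : x⁻¹ * u ∈ Subgroup.center G := hcent hxu
      have hcomm : ∀ g : G, g * (x⁻¹ * u) = (x⁻¹ * u) * g := fun g => Subgroup.mem_center_iff.mp hncent g
      -- n = x⁻¹ u is a p-element
      have hxp : ∃ k : ℕ, orderOf x = p ^ k := by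
        rw [hx, orderOf_conj']
        exact pelt_of_mem P.isPGroup' (hys ub)
      obtain ⟨a, ha⟩ := hxp
      obtain ⟨b, hb⟩ := hu
      have hn1 : (x⁻¹ * u) ^ (p ^ (a + b)) = 1 := by
        have hc : Commute x⁻¹ u := by
          have h1 := hcomm x
          -- x * (x⁻¹ * u) = x⁻¹ * u * x  →  u = x⁻¹ * u * x
          have h2 : u = x⁻¹ * u * x := by
            calc u = x * (x⁻¹ * u) := by group
              _ = x⁻¹ * u * x := h1
          show x⁻¹ * u = u * x⁻¹
          calc x⁻¹ * u = x⁻¹ * u * x * x⁻¹ := by group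
            _ = u * x⁻¹ := by rw [← h2]
        rw [hc.mul_pow, inv_pow]
        have h3 : x ^ (p ^ (a + b)) = 1 := by
          rw [pow_add, pow_mul, ← ha, pow_orderOf_eq_one, one_pow]
        have h4 : u ^ (p ^ (a + b)) = 1 := by
          rw [pow_add, mul_comm, pow_mul, ← hb, pow_orderOf_eq_one, one_pow]
        rw [h3, h4]; simp
      have hnp : ∃ k : ℕ, orderOf (x⁻¹ * u) = p ^ k := by
        have h1 : orderOf (x⁻¹ * u) ∣ p ^ (a + b) := orderOf_dvd_of_pow_eq_one hn1
        obtain ⟨j, -, hj⟩ := (Nat.dvd_prime_pow Fact.out).mp h1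
        exact ⟨j, hj⟩
      have hnP : x⁻¹ * u ∈ (P : Subgroup G) := by
        obtain ⟨g, y, hy, hgy⟩ := exists_conj_mem_sylow P (x⁻¹ * u) hnp
        have h1 : y = x⁻¹ * u := by
          calc y = g⁻¹ * (g * y * g⁻¹) * g := by group
            _ = g⁻¹ * (x⁻¹ * u) * g := by rw [hgy]
            _ = g⁻¹ * (g * (x⁻¹ * u)) := by rw [mul_assoc, ← hcomm g]
            _ = x⁻¹ * u := by group
        rw [← h1]; exact hy
      refine ⟨(ub, ⟨x⁻¹ * u, hnP, hxu⟩), ?_⟩
      apply Subtype.ext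
      show gs ub * (ys ub * (x⁻¹ * u)) * (gs ub)⁻¹ = u
      calc gs ub * (ys ub * (x⁻¹ * u)) * (gs ub)⁻¹
          = gs ub * ys ub * ((x⁻¹ * u) * (gs ub)⁻¹) := by group
        _ = gs ub * ys ub * ((gs ub)⁻¹ * (x⁻¹ * u)) := by rw [hcomm]
        _ = x * (x⁻¹ * u) := by rw [hx]; group
        _ = u := by group
    have heq : Nat.card {g : (G ⧸ N) // ∃ k : ℕ, orderOf g = p ^ k} *
        Nat.card ((P : Subgroup G) ⊓ N : Subgroup G) = Nat.card {g : G // ∃ k : ℕ, orderOf g = p ^ k} := by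
      rw [← Nat.card_prod]
      exact Nat.card_congr (Equiv.ofBijective φ ⟨hφinj, hφsurj⟩)
    rw [← hcard, ← mul_assoc, heq]

end Cfsg.Agent.S4153
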