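import Cfsg.Statements.S4154

set_option autoImplicit false
open Cfsg

namespace Cfsg.Agent.S4154

/-- Let G be a finite group and α an automorphism of G such that every element of G is the product of an element fixed by α and an element of the form g⁻¹α(g). If N is a normal α-invariant subgroup, then the automorphism ᾱ induced on G/N has the same property, and every coset fixed by ᾱ contains an element fixed by α (so the fixed points of ᾱ are the images of the fixed points of α). -/
theorem result {G : Type*} [Group G] [Finite G] (α : MulAut G)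
    (hccp : ∀ x : G, ∃ c g : G, α c = c ∧ x = c * (g⁻¹ * α g))
    (N : Subgroup G) [N.Normal] (hN : ∀ n ∈ N, α n ∈ N) :
    (∀ x : G, ∃ c g : G, c⁻¹ * α c ∈ N ∧ x⁻¹ * (c * (g⁻¹ * α g)) ∈ N) ∧
    (∀ x : G, x⁻¹ * α x ∈ N → ∃ c : G, α c = c ∧ c⁻¹ * x ∈ N) := by
  constructor
  · intro x
    obtain ⟨c, g, hc, hx⟩ := hccp x
    refine ⟨c, g, ?_, ?_⟩
    · rw [hc]; simp
    · rw [← hx]; simp
  · intro x hx
    obtain ⟨c, g, hc, hxe⟩ := hccp x
    refine ⟨c, hc, ?_⟩
    have hN' : N ≤ N.comap α.toMonoidHom := fun n hn => hN n hn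
    let β : G ⧸ N →* G ⧸ N := QuotientGroup.map N N α.toMonoidHom hN'
    have hβ : ∀ y : G, β (QuotientGroup.mk y) = QuotientGroup.mk (α y) := fun y => rfl
    let f : G ⧸ N → G ⧸ N := fun q => q⁻¹ * β q
    let C : Subgroup (G ⧸ N) := β.eqLocus (MonoidHom.id _)
    have hCmem : ∀ q : G ⧸ N, q ∈ C ↔ β q = q := fun q => Iff.rfl
    -- f is constant on right cosets of C
    have hfC : ∀ (c : G ⧸ N), c ∈ C → ∀ q, f (c * q) = f q := by
      intro c hc q
      have : β c = c := hc
      simp only [f, map_mul, this]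
      group
    have hfeq : ∀ a b : G ⧸ N, f a = f b → a * b⁻¹ ∈ C := by
      intro a b hab
      rw [hCmem]
      have h1 : a⁻¹ * β a = b⁻¹ * β b := hab
      have h2 : β a = a * b⁻¹ * β b := by
        calc β a = a * (a⁻¹ * β a) := by group
          _ = a * (b⁻¹ * β b) := by rw [h1]
          _ = a * b⁻¹ * β b := by group
      rw [map_mul, map_inv, h2]; group
    let I : Set (G ⧸ N) := Set.range f
    have hs : ∀ y : I, ∃ q, f q = y := fun y => y.2
    choose s hs' using hs
    let μ : C × I → G ⧸ N := fun p => (p.1 : G ⧸ N) * (p.2 : G ⧸ N)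
    let ν : C × I → G ⧸ N := fun p => (p.1 : G ⧸ N) * s p.2
    have hν : Function.Injective ν := by
      rintro ⟨c₁, y₁⟩ ⟨c₂, y₂⟩ h
      have h' : (c₁ : G ⧸ N) * s y₁ = (c₂ : G ⧸ N) * s y₂ := h
      have hy : (y₁ : G ⧸ N) = y₂ := by
        calc (y₁ : G ⧸ N) = f (s y₁) := (hs' y₁).symm
          _ = f ((c₁ : G ⧸ N) * s y₁) := (hfC c₁ c₁.2 _).symm
          _ = f ((c₂ : G ⧸ N) * s y₂) := by rw [h']
          _ = f (s y₂) := hfC c₂ c₂.2 _
          _ = y₂ := hs' y₂
      have hy' : y₁ = y₂ := Subtype.ext hy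
      subst hy'
      have hc : (c₁ : G ⧸ N) = c₂ := mul_right_cancel h'
      exact Prod.ext (Subtype.ext hc) rfl
    have hμ : Function.Surjective μ := by
      intro q
      induction q using QuotientGroup.induction_on with
      | H z =>
        obtain ⟨c, g, hc, hz⟩ := hccp z
        refine ⟨(⟨QuotientGroup.mk c, ?_⟩, ⟨f (QuotientGroup.mk g), Set.mem_range_self _⟩), ?_⟩
        · rw [hCmem, hβ, hc]
        · show (QuotientGroup.mk c : G ⧸ N) * ((QuotientGroup.mk g)⁻¹ * β (QuotientGroup.mk g)) = QuotientGroup.mk z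
          rw [hβ, hz]; rfl
    have hcard : Nat.card (C × I) = Nat.card (G ⧸ N) :=
      le_antisymm (Nat.card_le_card_of_injective ν hν) (Nat.card_le_card_of_surjective μ hμ)
    have hμinj : Function.Injective μ :=
      ((Nat.bijective_iff_surjective_and_card μ).mpr ⟨hμ, hcard⟩).1
    -- the element i = g⁻¹ α g
    have hi : (g⁻¹ * α g)⁻¹ * α (g⁻¹ * α g) ∈ N := by
      have : x⁻¹ * α x = (g⁻¹ * α g)⁻¹ * α (g⁻¹ * α g) := by
        rw [hxe]
        simp only [map_mul, hc]
        group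
      rw [← this]; exact hx
    have hiC : (QuotientGroup.mk (g⁻¹ * α g) : G ⧸ N) ∈ C := by
      rw [hCmem, hβ]
      symm
      rw [QuotientGroup.eq]
      exact hi
    have hiI : (QuotientGroup.mk (g⁻¹ * α g) : G ⧸ N) ∈ I := ⟨QuotientGroup.mk g, rfl⟩
    have h1I : (1 : G ⧸ N) ∈ I := ⟨1, by simp [f]⟩
    have hkey : μ (⟨QuotientGroup.mk (g⁻¹ * α g), hiC⟩, ⟨1, h1I⟩) = μ (1, ⟨QuotientGroup.mk (g⁻¹ * α g), hiI⟩) := by
      simp [μ]
    have h2 := hμinj hkey
    have h3 : (QuotientGroup.mk (g⁻¹ * α g) : G ⧸ N) = 1 := by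
      have := congrArg (fun p : C × I => (p.1 : G ⧸ N)) h2
      simpa using this
    rw [QuotientGroup.eq_one_iff] at h3
    have : c⁻¹ * x = g⁻¹ * α g := by rw [hxe]; group
    rw [this]; exact h3

end Cfsg.Agent.S4154
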