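import Cfsg.Statements.S4155
import Cfsg.Agent.S0016
import Cfsg.Agent.S4107

set_option autoImplicit false
open Cfsg

namespace Cfsg.Agent.S4155

lemma end_key {M : Type*} [AddCommGroup M] (q : ℕ) (hq : 0 < q) (α β : AddMonoid.End M)
    (hcomm : Commute α β) (hα : α ^ q = 1) (hβ : β ^ q = 1)
    (h1 : ∀ j : ℕ, ∀ m : M, (α * β ^ j) m = m → m = 0)
    (h2 : ∀ k : ℕ, 0 < k → k < q → ∀ m : M, (β ^ k) m = m → m = 0) :
    ∀ m : M, q • m = 0 := by
  have norm_zero : ∀ γ : AddMonoid.End M, γ ^ q = 1 → (∀ m, γ m = m → m = 0) →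
      ∑ k ∈ Finset.range q, γ ^ k = 0 := by
    intro γ hγ hfix
    have h := mul_geom_sum γ q
    rw [hγ, sub_self, sub_mul, one_mul, sub_eq_zero] at h
    apply AddMonoidHom.ext
    intro m
    apply hfix
    have h' := congrArg (fun f : AddMonoid.End M => f m) h
    exact h'
  have hsum : ∑ j ∈ Finset.range q, ∑ k ∈ Finset.range q, (α * β ^ j) ^ k = 0 := by
    apply Finset.sum_eq_zero
    intro j _
    apply norm_zero
    · rw [(hcomm.pow_right j).mul_pow, hα, ← pow_mul, mul_comm, pow_mul, hβ, one_pow, mul_one]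
    · exact h1 j
  rw [Finset.sum_comm] at hsum
  have hk : ∀ k ∈ Finset.range q, ∑ j ∈ Finset.range q, (α * β ^ j) ^ k =
      α ^ k * ∑ j ∈ Finset.range q, (β ^ k) ^ j := by
    intro k _
    rw [Finset.mul_sum]
    apply Finset.sum_congr rfl
    intro j _
    rw [(hcomm.pow_right j).mul_pow, ← pow_mul, ← pow_mul, mul_comm j k]
  rw [Finset.sum_congr rfl hk] at hsum
  obtain ⟨q', rfl⟩ : ∃ q', q = q' + 1 := ⟨q - 1, by omega⟩
  rw [Finset.sum_range_succ'] at hsum
  have hz : ∀ k ∈ Finset.range q',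
      α ^ (k + 1) * ∑ j ∈ Finset.range (q' + 1), (β ^ (k + 1)) ^ j = 0 := by
    intro k hk
    rw [norm_zero (β ^ (k + 1)) (by rw [← pow_mul, mul_comm, pow_mul, hβ, one_pow])
      (h2 (k + 1) (by omega) (by have := Finset.mem_range.mp hk; omega)), mul_zero]
  rw [Finset.sum_eq_zero hz, zero_add] at hsum
  simp only [pow_zero, one_pow, one_mul, Finset.sum_const, Finset.card_range, nsmul_eq_mul,
    mul_one] at hsum
  have hq0 : ((q' + 1 : ℕ) : AddMonoid.End M) = 0 := by
    rw [← hsum]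
  intro m
  have h3 : ((q' + 1 : ℕ) : AddMonoid.End M) m = (0 : AddMonoid.End M) m := by rw [hq0]
  rw [AddMonoid.End.natCast_apply] at h3
  exact h3

/-- two commuting (mod the kernel) elements of order `q` (mod the kernel) generating a
non-cyclic group cannot act fixed-point-freely on a nontrivial abelian normal subgroup -/
lemma no_fpf_pair {G : Type*} [Group G] (W : Subgroup G) [W.Normal]
    (hWc : ∀ u ∈ W, ∀ v ∈ W, u * v = v * u) (x y : G) (q : ℕ) (hq : 0 < q)
    (hxq : ∀ w ∈ W, x ^ q * w = w * x ^ q) (hyq : ∀ w ∈ W, y ^ q * w = w * y ^ q)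
    (hxy : ∀ w ∈ W, (x * y) * w * (x * y)⁻¹ = (y * x) * w * (y * x)⁻¹)
    (h1 : ∀ j : ℕ, ∀ w ∈ W, (x * y ^ j) * w = w * (x * y ^ j) → w = 1)
    (h2 : ∀ k : ℕ, 0 < k → k < q → ∀ w ∈ W, y ^ k * w = w * y ^ k → w = 1) :
    ∀ w ∈ W, w ^ q = 1 := by
  let _ : CommGroup ↥W :=
    { (inferInstance : Group ↥W) with
      mul_comm := fun a b => Subtype.ext (hWc a a.2 b b.2) }
  let Θ : G →* AddMonoid.End (Additive ↥W) :=
    { toFun := fun g => MonoidHom.toAdditive (MulAut.conjNormal g : ↥W ≃* ↥W).toMonoidHom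
      map_one' := by
        simp only [map_one]
        rfl
      map_mul' := by
        intro g h
        simp only [map_mul]
        rfl }
  have hΘ : ∀ (g : G) (w : ↥W), Θ g (Additive.ofMul w) =
      Additive.ofMul (⟨g * (w : G) * g⁻¹, ‹W.Normal›.conj_mem w w.2 g⟩ : ↥W) := by
    intro g w
    rfl
  have hfix : ∀ (g : G), (∀ w ∈ W, g * w = w * g → w = 1) →
      ∀ m : Additive ↥W, Θ g m = m → m = 0 := by
    intro g hg m hm
    have h3 := hΘ g (Additive.toMul m)
    rw [ofMul_toMul, hm] at h3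
    have h4 : ((Additive.toMul m : ↥W) : G) = g * ((Additive.toMul m : ↥W) : G) * g⁻¹ := by
      have := congrArg (fun t : Additive ↥W => ((Additive.toMul t : ↥W) : G)) h3
      simpa using this
    have h5 := hg _ (Additive.toMul m).2 (by rw [eq_mul_inv_iff_mul_eq] at h4; exact h4.symm)
    have h6 : (Additive.toMul m : ↥W) = 1 := Subtype.ext h5
    exact h6
  have htriv : ∀ (g : G), (∀ w ∈ W, g * w = w * g) → Θ g = 1 := by
    intro g hg
    apply AddMonoidHom.ext
    intro m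
    have h3 := hΘ g (Additive.toMul m)
    rw [ofMul_toMul] at h3
    refine h3.trans ?_
    show Additive.ofMul _ = m
    have : (⟨g * ((Additive.toMul m : ↥W) : G) * g⁻¹, ‹W.Normal›.conj_mem _ (Additive.toMul m).2 g⟩ : ↥W)
        = Additive.toMul m := by
      apply Subtype.ext
      show g * ((Additive.toMul m : ↥W) : G) * g⁻¹ = _
      rw [hg _ (Additive.toMul m).2]; group
    rw [this]; rfl
  have key := end_key (M := Additive ↥W) q hq (Θ x) (Θ y) ?_ ?_ ?_ ?_ ?_
  · intro w hw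
    have := key (Additive.ofMul ⟨w, hw⟩)
    have h3 : (⟨w, hw⟩ : ↥W) ^ q = 1 := this
    exact congrArg Subtype.val h3
  · show Θ x * Θ y = Θ y * Θ x
    rw [← map_mul, ← map_mul]
    apply AddMonoidHom.ext
    intro m
    have h3 := hΘ (x * y) (Additive.toMul m)
    have h4 := hΘ (y * x) (Additive.toMul m)
    rw [ofMul_toMul] at h3 h4
    refine h3.trans (Eq.trans ?_ h4.symm)
    congr 1
    apply Subtype.ext
    exact hxy _ (Additive.toMul m).2
  · rw [← map_pow]; exact htriv _ hxq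
  · rw [← map_pow]; exact htriv _ hyq
  · intro j
    rw [← map_pow, ← map_mul]
    exact hfix _ (h1 j)
  · intro k hk0 hkq
    rw [← map_pow]
    exact hfix _ (h2 k hk0 hkq)

/-- a nontrivial normal subgroup of a nilpotent group contains a nontrivial central element -/
lemma exists_central_of_normal {N : Type*} [Group N] (hN : Group.IsNilpotent N) (V : Subgroup N)
    [V.Normal] (hV : V ≠ ⊥) : ∃ v ∈ V, v ≠ 1 ∧ ∀ g : N, g * v = v * g := by
  classical
  obtain ⟨c, hc⟩ := hN.nilpotent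
  have hex : ∃ n, ∃ v ∈ V, v ≠ 1 ∧ v ∈ Subgroup.upperCentralSeries N n := by
    obtain ⟨⟨v, hv⟩, hv1⟩ := (Subgroup.ne_bot_iff_exists_ne_one.mp hV)
    exact ⟨c, v, hv, fun h => hv1 (Subtype.ext h), by rw [hc]; trivial⟩
  have hmin := fun m => Nat.find_min hex (m := m)
  obtain ⟨v, hvV, hv1, hvZ⟩ := Nat.find_spec hex
  refine ⟨v, hvV, hv1, ?_⟩
  rcases Nat.eq_zero_or_pos (Nat.find hex) with h0 | hpos
  · rw [h0, Subgroup.upperCentralSeries_zero] at hvZ
    exact absurd (Subgroup.mem_bot.mp hvZ) hv1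
  · obtain ⟨n, hn⟩ : ∃ n, Nat.find hex = n + 1 := ⟨Nat.find hex - 1, by omega⟩
    rw [hn, Subgroup.mem_upperCentralSeries_succ_iff] at hvZ
    intro g
    have h2 : v * g * v⁻¹ * g⁻¹ ∈ V := by
      have : v * g * v⁻¹ * g⁻¹ = v * (g * v⁻¹ * g⁻¹) := by group
      rw [this]; exact V.mul_mem hvV (‹V.Normal›.conj_mem _ (V.inv_mem hvV) g)
    by_contra hne
    apply hmin n (by omega)
    refine ⟨v * g * v⁻¹ * g⁻¹, h2, ?_, hvZ g⟩
    intro h1
    apply hne
    have : g * v = (v * g * v⁻¹ * g⁻¹)⁻¹ * (v * g) := by group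
    rw [this, h1, inv_one, one_mul]

/-- in a finite `q`-group with two subgroups of order `q` there is a non-cyclic pair -/
lemma exists_pair_of_not_unique {P : Type*} [Group P] [Finite P] (q : ℕ) [Fact q.Prime]
    (hP : IsPGroup q P) (H K : Subgroup P) (hH : Nat.card H = q) (hK : Nat.card K = q)
    (hne : H ≠ K) :
    ∃ a b : P, a ^ q = 1 ∧ b ^ q = 1 ∧ a * b = b * a ∧ (∀ j : ℕ, a * b ^ j ≠ 1) ∧
      (∀ k : ℕ, 0 < k → k < q → b ^ k ≠ 1) := by
  have hq : q.Prime := Fact.out
  have hnt : Nontrivial P := by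
    by_contra hcon
    rw [not_nontrivial_iff_subsingleton] at hcon
    have : Nat.card H = 1 := Nat.card_unique
    rw [hH] at this
    exact hq.one_lt.ne' this
  have hcen : Nontrivial (Subgroup.center P) := hP.center_nontrivial
  have hdvd : q ∣ Nat.card (Subgroup.center P) := by
    rcases (hP.to_subgroup (Subgroup.center P)).card_eq_or_dvd with h | h
    · exact absurd h (Finite.one_lt_card).ne'
    · exact h
  obtain ⟨z, hz⟩ := exists_prime_orderOf_dvd_card' q hdvd
  have hb : orderOf (z : P) = q := by rw [Subgroup.orderOf_coe]; exact hz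
  have hbc : ∀ g : P, g * (z : P) = (z : P) * g := fun g => Subgroup.mem_center_iff.mp z.2 g
  -- a subgroup of order q different from zpowers z gives the element a
  have main : ∀ H : Subgroup P, Nat.card H = q → H ≠ Subgroup.zpowers (z : P) →
      ∃ a : P, a ^ q = 1 ∧ a ∉ Subgroup.zpowers (z : P) := by
    intro H hH hHz
    have hHne : H ≠ ⊥ := by
      intro h
      rw [h, Subgroup.card_bot] at hH
      exact hq.one_lt.ne hH
    obtain ⟨⟨a, haH⟩, ha1'⟩ := Subgroup.ne_bot_iff_exists_ne_one.mp hHne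
    have ha1 : a ≠ 1 := fun h => ha1' (Subtype.ext h)
    have haq : a ^ q = 1 := by
      have := pow_card_eq_one' (G := H) (x := ⟨a, haH⟩)
      rw [hH] at this
      exact congrArg Subtype.val this
    refine ⟨a, haq, ?_⟩
    intro haz
    have hoa : orderOf a = q := by
      rcases (Nat.dvd_prime hq).mp (orderOf_dvd_of_pow_eq_one haq) with h | h
      · exact absurd (orderOf_eq_one_iff.mp h) ha1
      · exact h
    have h1 : Subgroup.zpowers a = H := by
      apply Subgroup.eq_of_le_of_card_ge ((Subgroup.zpowers_le).mpr haH)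
      rw [Nat.card_zpowers, hoa, hH]
    have h2 : Subgroup.zpowers a = Subgroup.zpowers (z : P) := by
      apply Subgroup.eq_of_le_of_card_ge ((Subgroup.zpowers_le).mpr haz)
      rw [Nat.card_zpowers, Nat.card_zpowers, hoa, hb]
    exact hHz (h1.symm.trans h2)
  have hex : ∃ a : P, a ^ q = 1 ∧ a ∉ Subgroup.zpowers (z : P) := by
    by_cases hHz : H = Subgroup.zpowers (z : P)
    · exact main K hK (fun h => hne (hHz.trans h.symm))
    · exact main H hH hHz
  obtain ⟨a, haq, haz⟩ := hex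
  refine ⟨a, (z : P), haq, ?_, hbc a, ?_, ?_⟩
  · rw [← hb]; exact pow_orderOf_eq_one _
  · intro j hj
    apply haz
    have : a = ((z : P) ^ j)⁻¹ := eq_inv_of_mul_eq_one_left hj
    rw [this]
    exact Subgroup.inv_mem _ (Subgroup.pow_mem _ (Subgroup.mem_zpowers _) j)
  · intro k hk0 hkq
    exact pow_ne_one_of_lt_orderOf hk0.ne' (by rw [hb]; exact hkq)

/-- elements outside `N` of `q`-power order modulo `N` centralize no nontrivial `p`-element
of `N` -/
lemma fpf_of_not_mem {G : Type*} [Group G] [Finite G] (N : Subgroup G) [N.Normal]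
    (heq : ∀ x : G, x ∉ N → ∀ n ∈ N, orderOf (x * n) = orderOf x)
    (p q : ℕ) (hp : p.Prime) (hq : q.Prime) (hpq : p ≠ q)
    (g : G) (hg : g ∉ N) (i : ℕ) (hgi : g ^ (q ^ i) ∈ N)
    (w : G) (hwN : w ∈ N) (hw : ∃ k : ℕ, orderOf w = p ^ k) (hcomm : g * w = w * g) : w = 1 := by
  have hm : orderOf g ≠ 0 := (orderOf_pos g).ne'
  obtain ⟨a, r, hr, hmr⟩ := Nat.exists_eq_pow_mul_and_not_dvd hm q hq.ne_one
  have hrpos : r ≠ 0 := by
    rintro rfl
    rw [mul_zero] at hmr
    exact hm hmr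
  have hord : orderOf (g ^ r) = q ^ a := by
    rw [orderOf_pow_of_dvd hrpos (Dvd.intro_left _ hmr.symm), hmr,
      Nat.mul_div_cancel _ (Nat.pos_of_ne_zero hrpos)]
  have hg' : g ^ r ∉ N := by
    intro h
    apply hg
    have h1 : ((g : G ⧸ N)) ^ r = 1 := by
      rw [← QuotientGroup.mk_pow]; exact (QuotientGroup.eq_one_iff _).mpr h
    have h2 : ((g : G ⧸ N)) ^ (q ^ i) = 1 := by
      rw [← QuotientGroup.mk_pow]; exact (QuotientGroup.eq_one_iff _).mpr hgi
    have h3 : orderOf (g : G ⧸ N) ∣ Nat.gcd r (q ^ i) :=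
      Nat.dvd_gcd (orderOf_dvd_of_pow_eq_one h1) (orderOf_dvd_of_pow_eq_one h2)
    have hcop : Nat.Coprime r (q ^ i) :=
      Nat.Coprime.pow_right i ((Nat.Prime.coprime_iff_not_dvd hq).mpr hr).symm
    rw [hcop] at h3
    have h4 : orderOf (g : G ⧸ N) = 1 := Nat.dvd_one.mp h3
    exact (QuotientGroup.eq_one_iff g).mp (orderOf_eq_one_iff.mp h4)
  obtain ⟨k, hk⟩ := hw
  have hc : Commute (g ^ r) w := Commute.pow_left hcomm r
  have h5 := hc.orderOf_mul_eq_mul_orderOf_of_coprime (by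
    rw [hord, hk]; exact Nat.Coprime.pow _ _ ((Nat.coprime_primes hq hp).mpr hpq.symm))
  rw [heq (g ^ r) hg' w hwN] at h5
  have h6 : orderOf w = 1 := by
    have hpos : 0 < orderOf (g ^ r) := orderOf_pos _
    exact Nat.eq_of_mul_eq_mul_left hpos (by rw [mul_one]; exact h5.symm)
  exact orderOf_eq_one_iff.mp h6

theorem result {G : Type*} [Group G] [Finite G] (N : Subgroup G) [N.Normal] (hN1 : N ≠ ⊥) (hN2 : N ≠ ⊤)
    (heq : ∀ x : G, x ∉ N → ∀ n ∈ N, orderOf (x * n) = orderOf x)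
    (hnil : Group.IsNilpotent N) (hnpp : ¬ IsPrimePow (Nat.card N)) :
    N = Cfsg.fittingSubgroup G ∧
    ∀ (q : ℕ) [Fact q.Prime] (Q : Sylow q (G ⧸ N)), IsCyclic (Q : Subgroup (G ⧸ N)) ∨ ∃ n : ℕ, Nonempty ((Q : Subgroup (G ⧸ N)) ≃* QuaternionGroup (2 ^ n)) := by
  have hF : N = Cfsg.fittingSubgroup G := by
    have h1 := Cfsg.Agent.S4107.result N hN1 hN2 heq
    have hle : N ≤ Cfsg.fittingSubgroup G := le_sSup ⟨inferInstance, hnil⟩
    apply eq_of_le_of_not_lt hle
    intro hlt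
    obtain ⟨p, k, hp, hk, hpk⟩ := (isPrimePow_nat_iff _).mp (h1.2 hlt)
    apply hnpp
    have hdvd : Nat.card N ∣ p ^ k := hpk ▸ Subgroup.card_dvd_of_le hle
    obtain ⟨j, hj, hjN⟩ := (Nat.dvd_prime_pow hp).mp hdvd
    rw [hjN, isPrimePow_nat_iff]
    refine ⟨p, j, hp, ?_, rfl⟩
    rcases Nat.eq_zero_or_pos j with h0 | h0
    · exfalso
      rw [h0, pow_zero] at hjN
      exact hN1 (Subgroup.card_eq_one.mp hjN)
    · exact h0
  refine ⟨hF, ?_⟩
  intro q _ Q
  have hq : q.Prime := Fact.out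
  have huniq : ∀ H K : Subgroup ↥(Q : Subgroup (G ⧸ N)), Nat.card H = q → Nat.card K = q → H = K := by
    intro H K hH hK
    by_contra hne
    obtain ⟨a, b, haq, hbq, hab, h1, h2⟩ := exists_pair_of_not_unique q Q.isPGroup' H K hH hK hne
    obtain ⟨x, hx⟩ := QuotientGroup.mk_surjective (a : G ⧸ N)
    obtain ⟨y, hy⟩ := QuotientGroup.mk_surjective (b : G ⧸ N)
    obtain ⟨p, hp, hpN, hpq⟩ : ∃ p : ℕ, p.Prime ∧ p ∣ Nat.card N ∧ p ≠ q := by
      by_contra hcon
      push Not at hcon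
      apply hnpp
      have hpow : Nat.card N = q ^ (Nat.card N).primeFactorsList.length :=
        Nat.eq_prime_pow_of_unique_prime_dvd Nat.card_pos.ne' (fun {d} hd hdN => hcon d hd hdN)
      rw [hpow, isPrimePow_nat_iff]
      refine ⟨q, _, hq, ?_, rfl⟩
      rcases Nat.eq_zero_or_pos (Nat.card N).primeFactorsList.length with h0 | h0
      · exfalso
        rw [h0, pow_zero] at hpow
        exact hN1 (Subgroup.card_eq_one.mp hpow)
      · exact h0
    have : Fact p.Prime := ⟨hp⟩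
    obtain ⟨V, hVn, hVp, hVN, hVc⟩ := Cfsg.Agent.S4107.exists_sylow_part N hnil p
    have hV1 : V ≠ ⊥ := by
      intro h
      rw [h, Subgroup.card_bot] at hVc
      have h3 : 0 < (Nat.card N).factorization p :=
        hp.factorization_pos_of_dvd Nat.card_pos.ne' hpN
      have h4 : 1 < p ^ (Nat.card N).factorization p := Nat.one_lt_pow h3.ne' hp.one_lt
      omega
    have hV' : V.subgroupOf N ≠ ⊥ := by
      intro h
      rw [Subgroup.subgroupOf_eq_bot] at h
      apply hV1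
      rw [disjoint_iff, inf_of_le_left hVN] at h
      exact h
    obtain ⟨v, hv, hv1, hvc⟩ := exists_central_of_normal hnil (V.subgroupOf N) hV'
    have hWnormal : (V ⊓ Subgroup.centralizer (N : Set G)).Normal := Subgroup.normal_inf_normal V _
    have hWN : V ⊓ Subgroup.centralizer (N : Set G) ≤ N := inf_le_left.trans hVN
    have hWcent : ∀ w ∈ V ⊓ Subgroup.centralizer (N : Set G), ∀ n ∈ N, n * w = w * n :=
      fun w hw n hn => Subgroup.mem_centralizer_iff.mp hw.2 n hn
    have hWp : ∀ w ∈ V ⊓ Subgroup.centralizer (N : Set G), ∃ k : ℕ, orderOf w = p ^ k := by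
      intro w hw
      obtain ⟨k, hk⟩ := IsPGroup.iff_orderOf.mp hVp ⟨w, hw.1⟩
      have h0 : orderOf (⟨w, hw.1⟩ : V) = orderOf w := Subgroup.orderOf_mk w hw.1
      exact ⟨k, h0 ▸ hk⟩
    have hmk : ∀ g : G, (g : G ⧸ N) = 1 ↔ g ∈ N := fun g => QuotientGroup.eq_one_iff g
    have hxq : x ^ q ∈ N := by
      rw [← hmk, QuotientGroup.mk_pow, hx, ← Subgroup.coe_pow, haq]; rfl
    have hyq : y ^ q ∈ N := by
      rw [← hmk, QuotientGroup.mk_pow, hy, ← Subgroup.coe_pow, hbq]; rfl
    have key := no_fpf_pair (V ⊓ Subgroup.centralizer (N : Set G))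
      (fun u hu v hv => (hWcent v hv u (hWN hu))) x y q hq.pos ?_ ?_ ?_ ?_ ?_
    · have hvW : (v : G) ∈ V ⊓ Subgroup.centralizer (N : Set G) := by
        refine ⟨Subgroup.mem_subgroupOf.mp hv, Subgroup.mem_centralizer_iff.mpr ?_⟩
        intro n hn
        exact congrArg Subtype.val (hvc ⟨n, hn⟩)
      have h3 := key (v : G) hvW
      obtain ⟨k, hk⟩ := hWp (v : G) hvW
      have h4 : orderOf (v : G) ∣ Nat.gcd q (p ^ k) :=
        Nat.dvd_gcd (orderOf_dvd_of_pow_eq_one h3) (hk ▸ dvd_rfl)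
      have hcop : Nat.Coprime q (p ^ k) := Nat.Coprime.pow_right k ((Nat.coprime_primes hq hp).mpr hpq.symm)
      rw [hcop] at h4
      have h5 : (v : G) = 1 := orderOf_eq_one_iff.mp (Nat.dvd_one.mp h4)
      exact hv1 (Subtype.ext h5)
    · intro w hw; exact hWcent w hw _ hxq
    · intro w hw; exact hWcent w hw _ hyq
    · intro w hw
      have hn : (y * x)⁻¹ * (x * y) ∈ N := by
        rw [← hmk]
        simp only [QuotientGroup.mk_mul, QuotientGroup.mk_inv, hx, hy]
        rw [← Subgroup.coe_mul, ← Subgroup.coe_mul, hab, inv_mul_cancel]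
      have h3 := hWcent w hw _ hn
      calc x * y * w * (x * y)⁻¹ = (y * x) * (((y * x)⁻¹ * (x * y)) * w) * (x * y)⁻¹ := by group
        _ = (y * x) * (w * ((y * x)⁻¹ * (x * y))) * (x * y)⁻¹ := by rw [h3]
        _ = y * x * w * (y * x)⁻¹ := by group
    · intro j w hw hc
      have hgN : x * y ^ j ∉ N := by
        rw [← hmk]
        simp only [QuotientGroup.mk_mul, QuotientGroup.mk_pow, hx, hy]
        intro h
        apply h1 j
        apply Subtype.ext
        simpa using h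
      have hgq : (x * y ^ j) ^ (q ^ 1) ∈ N := by
        rw [pow_one, ← hmk]
        simp only [QuotientGroup.mk_mul, QuotientGroup.mk_pow, hx, hy]
        have : (a * b ^ j) ^ q = 1 := by
          rw [(Commute.pow_right hab j).mul_pow, haq, ← pow_mul, mul_comm, pow_mul, hbq, one_pow,
            mul_one]
        have h' := congrArg (Subtype.val : ↥(Q : Subgroup (G ⧸ N)) → G ⧸ N) this
        simpa using h'
      exact fpf_of_not_mem N heq p q hp hq hpq _ hgN 1 hgq w (hWN hw) (hWp w hw) hc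
    · intro k hk0 hkq w hw hc
      have hgN : y ^ k ∉ N := by
        rw [← hmk]
        simp only [QuotientGroup.mk_pow, hy]
        intro h
        apply h2 k hk0 hkq
        apply Subtype.ext
        simpa using h
      have hgq : (y ^ k) ^ (q ^ 1) ∈ N := by
        rw [pow_one, ← pow_mul, mul_comm, pow_mul]
        exact N.pow_mem hyq k
      exact fpf_of_not_mem N heq p q hp hq hpq _ hgN 1 hgq w (hWN hw) (hWp w hw) hc
  rcases Cfsg.Agent.S0016.result q Q.isPGroup' huniq with h | ⟨-, n, hn⟩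
  · exact Or.inl h
  · exact Or.inr ⟨n, hn⟩

end Cfsg.Agent.S4155
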