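import Cfsg.Statements.S4156

set_option autoImplicit false
open Cfsg

namespace Cfsg.Agent.S4156

/-- coefficient function of the deleted permutation module -/
def q (n : ℕ) (F : Type*) [Field F] (a : Fin (n + 1)) (j : Fin n) : F :=
  (if a = Fin.castSucc j then 1 else 0) - (if a = Fin.last n then 1 else 0)

lemma q_sum (n : ℕ) (F : Type*) [Field F] (k : Fin n) : ∑ b : Fin (n + 1), q n F b k = 0 := by
  simp [q, Finset.sum_sub_distrib]

lemma q_key (n : ℕ) (F : Type*) [Field F] (a : Fin (n + 1)) (g : Fin (n + 1) → F) :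
    ∑ j : Fin n, q n F a j * g (Fin.castSucc j) =
      g a - (if a = Fin.last n then ∑ b, g b else 0) := by
  induction a using Fin.lastCases with
  | last =>
    have h : ∀ j : Fin n, q n F (Fin.last n) j = -1 := by
      intro j
      simp [q, (Fin.castSucc_ne_last j).symm]
    simp only [h, if_true, Fin.sum_univ_castSucc, neg_one_mul, Finset.sum_neg_distrib]
    ring
  | cast j0 =>
    have h : ∀ j : Fin n, q n F (Fin.castSucc j0) j = if j0 = j then 1 else 0 := by
      intro j
      simp [q, Fin.castSucc_ne_last j0, Fin.castSucc_inj]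
    simp [h, Fin.castSucc_ne_last j0]

/-- the matrices of the deleted permutation module -/
def M (n : ℕ) (F : Type*) [Field F] (σ : Equiv.Perm (Fin (n + 1))) : Matrix (Fin n) (Fin n) F :=
  Matrix.of fun i j => q n F (σ⁻¹ (Fin.castSucc i)) j

lemma M_one (n : ℕ) (F : Type*) [Field F] : M n F 1 = 1 := by
  ext i j
  simp [M, q, Matrix.one_apply, Fin.castSucc_inj]

lemma M_mul (n : ℕ) (F : Type*) [Field F] (σ τ : Equiv.Perm (Fin (n + 1))) :
    M n F (σ * τ) = M n F σ * M n F τ := by
  ext i k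
  rw [Matrix.mul_apply]
  simp only [M, Matrix.of_apply]
  rw [q_key n F (σ⁻¹ (Fin.castSucc i)) (fun b => q n F (τ⁻¹ b) k)]
  have h0 : ∑ b, q n F (τ⁻¹ b) k = 0 := by
    rw [Equiv.sum_comp τ⁻¹ (fun b => q n F b k)]; exact q_sum n F k
  show q n F ((σ * τ)⁻¹ (Fin.castSucc i)) k = q n F (τ⁻¹ (σ⁻¹ (Fin.castSucc i))) k -
    (if σ⁻¹ (Fin.castSucc i) = Fin.last n then ∑ b, q n F (τ⁻¹ b) k else 0)
  rw [h0, ite_self, sub_zero, mul_inv_rev]
  rfl

/-- the monoid homomorphism to matrices -/
def φ (n : ℕ) (F : Type*) [Field F] : Equiv.Perm (Fin (n + 1)) →* Matrix (Fin n) (Fin n) F where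
  toFun := M n F
  map_one' := M_one n F
  map_mul' := M_mul n F

lemma det_eq_one (n : ℕ) (hn : 5 ≤ n) (F : Type*) [Field F] (σ : Equiv.Perm (Fin (n + 1)))
    (hσ : σ ∈ alternatingGroup (Fin (n + 1))) : (M n F σ).det = 1 := by
  let δ : Equiv.Perm (Fin (n + 1)) →* F := Matrix.detMonoidHom.comp (φ n F)
  show δ σ = 1
  have h3 : ∀ c : Equiv.Perm (Fin (n + 1)), c.IsThreeCycle → δ c = 1 := by
    intro c hc
    have hcA : c ∈ alternatingGroup (Fin (n + 1)) := hc.mem_alternatingGroup
    have hc2 : (c * c).IsThreeCycle := Equiv.Perm.IsThreeCycle.isThreeCycle_sq hc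
    have hc2A : c * c ∈ alternatingGroup (Fin (n + 1)) := hc2.mem_alternatingGroup
    have hconj := alternatingGroup.isThreeCycle_isConj (α := Fin (n + 1)) (by simp; omega)
      (σ := ⟨c, hcA⟩) (τ := ⟨c * c, hc2A⟩) hc hc2
    obtain ⟨g, hg⟩ := isConj_iff.mp hconj
    have hg' : (g : Equiv.Perm (Fin (n + 1))) * c * (g : Equiv.Perm (Fin (n + 1)))⁻¹ = c * c :=
      congrArg Subtype.val hg
    have h1 : δ (c * c) = δ c := by
      rw [← hg', map_mul, map_mul, mul_comm (δ g) (δ c), mul_assoc, ← map_mul, mul_inv_cancel,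
        map_one, mul_one]
    have h2 : δ c ≠ 0 := by
      intro h0
      have : δ (c * c⁻¹) = 1 := by rw [mul_inv_cancel, map_one]
      rw [map_mul, h0, zero_mul] at this
      exact zero_ne_one this
    rw [map_mul] at h1
    exact mul_left_cancel₀ h2 (by rw [h1, mul_one])
  have hcl : alternatingGroup (Fin (n + 1)) ≤ δ.ker := by
    rw [← Equiv.Perm.closure_three_cycles_eq_alternating, Subgroup.closure_le]
    intro c hc
    exact MonoidHom.mem_ker.mpr (h3 c hc)
  exact MonoidHom.mem_ker.mp (hcl hσ)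

/-- the homomorphism to `SL` -/
def toSL (n : ℕ) (hn : 5 ≤ n) (F : Type*) [Field F] :
    alternatingGroup (Fin (n + 1)) →* Matrix.SpecialLinearGroup (Fin n) F where
  toFun σ := ⟨M n F σ.1, det_eq_one n hn F σ.1 σ.2⟩
  map_one' := Subtype.ext (M_one n F)
  map_mul' σ τ := Subtype.ext (M_mul n F σ.1 τ.1)

theorem result (n : ℕ) (hn : 5 ≤ n) (F : Type*) [Field F] [Finite F] :
    ∃ f : alternatingGroup (Fin (n + 1)) →* Matrix.ProjectiveSpecialLinearGroup (Fin n) F, Function.Injective f := by
  refine ⟨(QuotientGroup.mk' _).comp (toSL n hn F), ?_⟩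
  rw [injective_iff_map_eq_one]
  intro σ hσ
  have hc : toSL n hn F σ ∈ Subgroup.center (Matrix.SpecialLinearGroup (Fin n) F) :=
    (QuotientGroup.eq_one_iff _).mp hσ
  rw [Matrix.SpecialLinearGroup.mem_center_iff] at hc
  obtain ⟨r, hr, hrA⟩ := hc
  have hM : ∀ i j : Fin n, q n F (σ.1⁻¹ (Fin.castSucc i)) j = if i = j then r else 0 := by
    intro i j
    have h1 : Matrix.scalar (Fin n) r i j = M n F σ.1 i j := congrFun (congrFun hrA i) j
    rw [Matrix.scalar_apply, Matrix.diagonal_apply] at h1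
    exact h1.symm
  have h1 : ∀ i : Fin n, σ.1⁻¹ (Fin.castSucc i) = Fin.castSucc i := by
    intro i
    generalize hb : σ.1⁻¹ (Fin.castSucc i) = b
    have hMi := hM i
    rw [hb] at hMi
    induction b using Fin.lastCases with
    | last =>
      exfalso
      obtain ⟨j, hj⟩ : ∃ j : Fin n, i ≠ j := by
        by_cases h0 : (i : ℕ) = 0
        · exact ⟨⟨1, by omega⟩, fun h => by have := congrArg Fin.val h; simp at this; omega⟩
        · exact ⟨⟨0, by omega⟩, fun h => by have := congrArg Fin.val h; simp at this; omega⟩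
      have := hMi j
      simp [q, hj, (Fin.castSucc_ne_last j).symm] at this
    | cast j' =>
      have := hMi j'
      simp only [q, if_true, Fin.castSucc_ne_last j', if_false, sub_zero] at this
      by_cases hij : i = j'
      · rw [hij]
      · rw [if_neg hij] at this
        exact absurd this one_ne_zero
  have h2 : σ.1⁻¹ (Fin.last n) = Fin.last n := by
    by_contra hne
    obtain ⟨i, hi⟩ := Fin.exists_castSucc_eq.mpr hne
    have h3 := h1 i
    rw [hi] at h3
    exact hne ((σ.1⁻¹).injective h3)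
  have h3 : σ.1⁻¹ = 1 := by
    ext a : 1
    induction a using Fin.lastCases with
    | last => exact h2
    | cast i => exact h1 i
  apply Subtype.ext
  show σ.1 = 1
  exact inv_eq_one.mp h3

end Cfsg.Agent.S4156
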