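import Cfsg.Statements.S4157
import Cfsg.Agent.Lib.helper97.Miller
import Cfsg.Agent.Lib.helper97.WielandtSq
import Cfsg.Agent.Lib.helper97.TwoCyc3
import Cfsg.Agent.Lib.helper97.TwoClass
import Cfsg.Agent.Lib.helper59.NormalAbelianCyclic
import Cfsg.Agent.Lib.helper59.IrredPGroup3

set_option autoImplicit false
open Cfsg

namespace Cfsg.Agent.S4157

open Cfsg.Agent.Lib.helper97 Cfsg.Agent.Lib.helper69 Cfsg.Agent.Lib.helper59

/-- Let G be a finite p-group of order p^m that is not cyclic and, when p = 2, not of maximal class (nilpotency class m − 1). Then for every 1 ≤ k < m the number of subgroups of G of order p^k is congruent to 1 + p modulo p². -/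
theorem result {G : Type*} [Group G] [Finite G] {p : ℕ} [Fact p.Prime] (m : ℕ)
    (hG : Nat.card G = p ^ m) (hnc : ¬ IsCyclic G) (h2 : p = 2 → Group.nilpotencyClass G ≠ m - 1)
    (k : ℕ) (hk1 : 1 ≤ k) (hk2 : k < m) :
    Nat.card {H : Subgroup G // Nat.card H = p ^ k} ≡ 1 + p [MOD p ^ 2] := by
  classical
  have hp : p.Prime := Fact.out
  have hGp : IsPGroup p G := IsPGroup.of_card hG
  have hn : Nat.card G = p ^ (k + 1) * p ^ (m - (k + 1)) := by
    rw [hG, ← pow_add]; congr 1; omega
  have hW := card_subgroups_modEq_sq (G := G) p (k + 1) (p ^ (m - (k + 1))) hp (by omega) hn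
  rw [Nat.add_sub_cancel] at hW
  obtain ⟨c, hc⟩ : ∃ c : ℕ,
      c = Nat.card {H : Subgroup G // Nat.card H = p ^ (k + 1) ∧ ¬ IsCyclic H} := ⟨_, rfl⟩
  rw [← hc] at hW
  suffices h1 : c ≡ 1 [MOD p] by
    have h3 : p * c ≡ p * 1 [MOD p * p] := Nat.ModEq.mul_left' p h1
    rw [mul_one, ← pow_two] at h3
    exact hW.trans (Nat.ModEq.add_left 1 h3)
  rcases Nat.lt_or_ge (k + 1) m with hkm | hkm
  swap
  · -- `k + 1 = m`: the only subgroup of order `p^m` is `⊤`
    have hkm' : k + 1 = m := by omega
    have hc1 : c = 1 := by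
      rw [hc, Nat.card_eq_one_iff_unique]
      constructor
      · constructor
        rintro ⟨H, hH, _⟩ ⟨K, hK, _⟩
        have hHtop : H = ⊤ := (Subgroup.card_eq_iff_eq_top H).mp (by rw [hH, hG, hkm'])
        have hKtop : K = ⊤ := (Subgroup.card_eq_iff_eq_top K).mp (by rw [hK, hG, hkm'])
        exact Subtype.ext (hHtop.trans hKtop.symm)
      · refine ⟨⟨⊤, by rw [Subgroup.card_top, hG, hkm'], ?_⟩⟩
        intro hcyc
        exact hnc ((Subgroup.topEquiv (G := G)).isCyclic.mp hcyc)
    rw [hc1]
  · -- `k + 1 < m`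
    have hnβ := card_subgroups_prime_pow_modEq_one (G := G) p (k + 1) hp ⟨_, hn⟩
    have e : ({H : Subgroup G // Nat.card H = p ^ (k + 1) ∧ ¬ IsCyclic H} ⊕
        {C : Subgroup G // IsCyclic C ∧ Nat.card C = p ^ (k + 1)}) ≃
        {H : Subgroup G // Nat.card H = p ^ (k + 1)} :=
      { toFun := fun x => Sum.elim (fun C => ⟨C.1, C.2.1⟩) (fun C => ⟨C.1, C.2.2⟩) x
        invFun := fun C => if h : IsCyclic C.1 then Sum.inr ⟨C.1, h, C.2⟩
          else Sum.inl ⟨C.1, C.2, h⟩
        left_inv := by
          rintro (⟨C, hC, h⟩ | ⟨C, h, hC⟩)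
          · exact dif_neg h
          · exact dif_pos h
        right_inv := by
          rintro ⟨C, hC⟩
          by_cases h : IsCyclic C
          · simp [h]
          · simp [h] }
    rw [← Nat.card_congr e, Nat.card_sum, ← hc] at hnβ
    suffices hcyc : p ∣ Nat.card {C : Subgroup G // IsCyclic C ∧ Nat.card C = p ^ (k + 1)} by
      have h4 : c + Nat.card {C : Subgroup G // IsCyclic C ∧ Nat.card C = p ^ (k + 1)} ≡
          c + 0 [MOD p] :=
        Nat.ModEq.add_left c ((Nat.modEq_zero_iff_dvd).mpr hcyc)
      rw [add_zero] at h4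
      exact h4.symm.trans hnβ
    rcases eq_or_ne p 2 with rfl | hp2
    · -- `p = 2`
      have h2' := h2 rfl
      by_cases hab : ∀ A : Subgroup G, A.Normal → (∀ a ∈ A, ∀ b ∈ A, a * b = b * a) → IsCyclic A
      · exfalso
        obtain ⟨n, a, b, ha, hcard, hb, hrel⟩ := rel_of_normal_abelian_cyclic hGp hab hnc
        have hm : m = n + 3 := Nat.pow_right_injective (le_refl 2) (hG.symm.trans hcard)
        apply h2'
        rw [hm]
        show Group.nilpotencyClass G = n + 2
        rcases hrel with ⟨_, hconj⟩ | ⟨_, _, hconj⟩ | ⟨hn1, _, hconj⟩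
        · exact nilpotencyClass_of_conj_pow ha hcard (c₁ := 1) odd_one
            (by rw [hconj, ← zpow_neg_one]; norm_num)
        · exact nilpotencyClass_of_conj_pow ha hcard (c₁ := 1) odd_one
            (by rw [hconj, ← zpow_neg_one]; norm_num)
        · have hodd : Odd ((1 : ℤ) - 2 ^ n) := by
            obtain ⟨n', rfl⟩ : ∃ n', n = n' + 1 := ⟨n - 1, by omega⟩
            refine ⟨-2 ^ n', ?_⟩
            ring
          refine nilpotencyClass_of_conj_pow (b := b) ha hcard (c₁ := 1 - 2 ^ n) hodd ?_
          rw [hconj, ← zpow_natCast]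
          congr 1
          have h5 : 1 ≤ 2 ^ (n + 1) := Nat.one_le_two_pow
          push_cast [Nat.cast_sub h5]
          ring
      · push Not at hab
        obtain ⟨B, hBn, hBc, hBnc⟩ := hab
        obtain ⟨z, a, hz, hz1, hz2, ha2, haz, hconj⟩ := exists_central_pair hGp B hBc hBnc
        have hcp : CPair z a :=
          { zc := fun g => (Subgroup.mem_center_iff.mp hz g)
            z2 := by rw [← pow_two]; exact hz2
            a2 := by rw [← pow_two]; exact ha2
            z1 := hz1
            a1 := fun h => haz (h ▸ Subgroup.one_mem _)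
            az := fun h => haz (h ▸ Subgroup.mem_zpowers z)
            conj := by
              intro g
              obtain ⟨j, hj, hg⟩ := hconj g
              interval_cases j
              · left; rw [hg, pow_zero, mul_one]
              · right; rw [hg, pow_one] }
        obtain ⟨C, hCdef⟩ : ∃ C : Subgroup G, C = Subgroup.centralizer {a} := ⟨_, rfl⟩
        have hC : ∀ y, y ∈ C ↔ y * a = a * y := by
          intro y
          rw [hCdef, Subgroup.mem_centralizer_iff]
          constructor
          · intro h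
            exact (h a rfl).symm
          · intro h x hx
            rw [Set.mem_singleton_iff.mp hx]
            exact h.symm
        have hC8 := hcp.eight_dvd_card_centralizer hG (by omega) h2' C hC
        exact hcp.two_dvd_card_cyclic hGp C hC hC8 (k + 1) (by omega)
    · exact card_cyclic_subgroups_dvd p hp2 m G hG hnc (k + 1) (by omega)

end Cfsg.Agent.S4157
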