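import Cfsg.Statements.S4160
import Cfsg.Agent.Lib.helper73.ConjCover

set_option autoImplicit false
open Cfsg

namespace Cfsg.Agent.S4160

open Cfsg.Agent.Lib.helper73

/-- Let G be a finite group and p ≠ q primes each dividing the size of some conjugacy class of G, such that no conjugacy class size is divisible by pq. Then G has a normal p-complement or a normal q-complement. -/
theorem result {G : Type*} [Group G] [Finite G] (p q : ℕ) (hp : p.Prime) (hq : q.Prime) (hpq : p ≠ q)
    (hp' : ∃ x : G, p ∣ (Subgroup.centralizer ({x} : Set G)).index) (hq' : ∃ x : G, q ∣ (Subgroup.centralizer ({x} : Set G)).index) (h : ∀ x : G, ¬ p * q ∣ (Subgroup.centralizer ({x} : Set G)).index) :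
    Cfsg.HasNormalPComplement p G ∨ Cfsg.HasNormalPComplement q G := by
  haveI := Fact.mk hp
  haveI := Fact.mk hq
  obtain ⟨P⟩ : Nonempty (Sylow p G) := inferInstance
  obtain ⟨Q⟩ : Nonempty (Sylow q G) := inferInstance
  have hcov : ∀ g : G,
      (∃ x : G, x * g * x⁻¹ ∈ Subgroup.centralizer ((P : Subgroup G) : Set G)) ∨
      (∃ x : G, x * g * x⁻¹ ∈ Subgroup.centralizer ((Q : Subgroup G) : Set G)) := by
    intro g
    by_cases h1 : p ∣ (Subgroup.centralizer ({g} : Set G)).index
    · right
      apply exists_conj_mem_centralizer_sylow Q g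
      intro h2
      exact h g (Nat.Coprime.mul_dvd_of_dvd_of_dvd ((Nat.coprime_primes hp hq).mpr hpq) h1 h2)
    · left
      exact exists_conj_mem_centralizer_sylow P g h1
  rcases normalizer_eq_of_conj_cover_two _ _ hcov with h1 | h1
  · left
    have hNC := normalizer_le_centralizer_of_selfNormalizing (P : Subgroup G) h1
    exact ⟨P, (MonoidHom.transferSylow P hNC).ker, MonoidHom.normal_ker _,
      MonoidHom.ker_transferSylow_isComplement' P hNC⟩
  · right
    have hNC := normalizer_le_centralizer_of_selfNormalizing (Q : Subgroup G) h1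
    exact ⟨Q, (MonoidHom.transferSylow Q hNC).ker, MonoidHom.normal_ker _,
      MonoidHom.ker_transferSylow_isComplement' Q hNC⟩

end Cfsg.Agent.S4160
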