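-- Statement S4163 (Isaacs: subgroups generated by small classes).
import Cfsg.Statements.S4163

set_option autoImplicit false
open Cfsg

namespace Cfsg.Agent.S4163

open Subgroup
open scoped commutatorElement

/-- A group in which commutators lie in a subgroup `B` whose commutators with everything are
central has upper central series reaching the top at step `3`. -/
theorem ucs_three_of_comm {K : Type*} [Group K] (B : Subgroup K)
    (h1 : ∀ g : K, ∀ a ∈ B, ⁅a, g⁆ ∈ center K) (h2 : ∀ g h : K, ⁅g, h⁆ ∈ B) :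
    Subgroup.upperCentralSeries K 3 = ⊤ := by
  rw [eq_top_iff]
  intro g _
  rw [Subgroup.mem_upperCentralSeries_succ_iff]
  intro y
  rw [Subgroup.mem_upperCentralSeries_succ_iff]
  intro z
  rw [Subgroup.upperCentralSeries_one]
  exact h1 z _ (h2 g y)

/-- Key lemma: if `x` has a conjugacy class of minimal size `> 1` and `A` is a normal abelian
subgroup, then `⁅a, x⁆` is central for every `a ∈ A`. -/
theorem comm_mem_center {G : Type*} [Group G] [Finite G] (A : Subgroup G) [A.Normal]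
    (hA : ∀ a ∈ A, ∀ b ∈ A, a * b = b * a) (m : ℕ)
    (hmin : ∀ x : G, 1 < (centralizer ({x} : Set G)).index → m ≤ (centralizer ({x} : Set G)).index)
    (x : G) (hx : (centralizer ({x} : Set G)).index = m) (a : G) (ha : a ∈ A) :
    ⁅a, x⁆ ∈ center G := by
  classical
  by_contra hnc
  set H : Subgroup G := centralizer ({x} : Set G) with hH
  -- the homomorphism `a ↦ ⁅a, x⁆`
  have hconjA : ∀ b ∈ A, x * b * x⁻¹ ∈ A := fun b hb => Subgroup.Normal.conj_mem ‹A.Normal› b hb x
  let φ : ↥A →* G := MonoidHom.mk' (fun b => ⁅(b : G), x⁆) (by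
    intro b c
    have h1 : x * (c : G)⁻¹ * x⁻¹ ∈ A := hconjA _ (A.inv_mem c.2)
    have h2 : x * (b : G)⁻¹ * x⁻¹ ∈ A := hconjA _ (A.inv_mem b.2)
    have e1 : (c : G) * (x * (b : G)⁻¹ * x⁻¹) = (x * (b : G)⁻¹ * x⁻¹) * c := hA _ c.2 _ h2
    have e2 : (x * (c : G)⁻¹ * x⁻¹) * (x * (b : G)⁻¹ * x⁻¹) =
        (x * (b : G)⁻¹ * x⁻¹) * (x * (c : G)⁻¹ * x⁻¹) := hA _ h1 _ h2
    simp only [commutatorElement_def, Subgroup.coe_mul]
    calc (b : G) * c * x * ((b : G) * c)⁻¹ * x⁻¹
        = (b : G) * (c * (x * (c : G)⁻¹ * x⁻¹)) * (x * (b : G)⁻¹ * x⁻¹) := by group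
      _ = (b : G) * (c * ((x * (c : G)⁻¹ * x⁻¹) * (x * (b : G)⁻¹ * x⁻¹))) := by group
      _ = (b : G) * (c * ((x * (b : G)⁻¹ * x⁻¹) * (x * (c : G)⁻¹ * x⁻¹))) := by rw [e2]
      _ = (b : G) * ((c * (x * (b : G)⁻¹ * x⁻¹)) * (x * (c : G)⁻¹ * x⁻¹)) := by group
      _ = (b : G) * (((x * (b : G)⁻¹ * x⁻¹) * c) * (x * (c : G)⁻¹ * x⁻¹)) := by rw [e1]
      _ = (b : G) * x * (b : G)⁻¹ * x⁻¹ * ((c : G) * x * (c : G)⁻¹ * x⁻¹) := by group)
  have hφ : ∀ b : ↥A, φ b = ⁅(b : G), x⁆ := fun b => rfl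
  set D : Subgroup G := φ.range with hD
  set d : G := ⁅a, x⁆ with hd
  have hdD : d ∈ D := ⟨⟨a, ha⟩, rfl⟩
  have hDA : D ≤ A := by
    rintro _ ⟨b, rfl⟩
    rw [hφ, commutatorElement_def]
    have := A.mul_mem b.2 (hconjA _ (A.inv_mem b.2))
    convert this using 1
    group
  have hdA : d ∈ A := hDA hdD
  set C : Subgroup G := centralizer ({d} : Set G) with hC
  have hAC : A ≤ C := by
    intro b hb
    rw [hC, mem_centralizer_iff]
    intro y hy
    rw [Set.mem_singleton_iff] at hy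
    subst hy
    exact hA _ hdA _ hb
  -- `|D| = H.relIndex A`
  have hker : φ.ker = H.subgroupOf A := by
    ext b
    rw [MonoidHom.mem_ker, hφ, commutatorElement_eq_one_iff_mul_comm, mem_subgroupOf, hH,
      mem_centralizer_iff]
    constructor
    · intro h y hy
      rw [Set.mem_singleton_iff] at hy
      subst hy
      exact h.symm
    · intro h
      exact (h x rfl).symm
  have hcardD : Nat.card D = H.relIndex A := by
    rw [hD, ← Subgroup.index_ker, hker]; rfl
  -- the index of `C` is at least `m`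
  have hCidx : m ≤ C.index := by
    apply hmin
    show 1 < C.index
    by_contra h1
    have h2 : C.index = 1 := by
      have : C.index ≠ 0 := Subgroup.index_ne_zero_of_finite
      omega
    rw [Subgroup.index_eq_one] at h2
    apply hnc
    rw [Subgroup.mem_center_iff]
    intro g
    have hg : g ∈ C := by rw [h2]; trivial
    rw [hC, mem_centralizer_iff] at hg
    exact (hg d rfl).symm
  have hCH : Nat.card C ≤ Nat.card H := by
    have e1 := Subgroup.card_mul_index C
    have e2 := Subgroup.card_mul_index H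
    rw [hx] at e2
    have hmpos : 0 < m := by
      rcases Nat.eq_zero_or_pos m with h0 | h0
      · exfalso
        have : H.index ≠ 0 := Subgroup.index_ne_zero_of_finite
        exact this (hx.trans h0)
      · exact h0
    have : Nat.card C * m ≤ Nat.card H * m := by
      calc Nat.card C * m ≤ Nat.card C * C.index := Nat.mul_le_mul_left _ hCidx
        _ = Nat.card H * m := by rw [e1, e2]
    exact Nat.le_of_mul_le_mul_right this hmpos
  set K : Subgroup G := H ⊓ C with hK
  have hKpos : 0 < Nat.card K := Nat.card_pos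
  -- `|C| = |K| * H.relIndex C ≥ |K| * |D|`
  have h3 : Nat.card K * H.relIndex C = Nat.card C := by
    have := Subgroup.relIndex_mul_relIndex (⊥ : Subgroup G) K C bot_le inf_le_right
    rw [Subgroup.relIndex_bot_left, Subgroup.relIndex_bot_left, hK,
      Subgroup.inf_relIndex_right] at this
    exact this
  have h4 : H.relIndex A ≤ H.relIndex C := by
    apply Subgroup.relIndex_le_of_le_right hAC
    intro h0
    rw [h0, Nat.mul_zero] at h3
    have : 0 < Nat.card C := Nat.card_pos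
    omega
  -- `|H| = |K| * C.relIndex H` and `C.relIndex H < |D|`
  have h5 : Nat.card K * C.relIndex H = Nat.card H := by
    have := Subgroup.relIndex_mul_relIndex (⊥ : Subgroup G) K H bot_le inf_le_left
    rw [Subgroup.relIndex_bot_left, Subgroup.relIndex_bot_left, hK,
      Subgroup.inf_relIndex_left] at this
    exact this
  have h6 : C.relIndex H < Nat.card D := by
    have hconjD : ∀ h ∈ H, h * d * h⁻¹ ∈ D := by
      intro h hh
      have hhx : h * x = x * h := by
        rw [hH, mem_centralizer_iff] at hh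
        exact (hh x rfl).symm
      refine ⟨⟨h * a * h⁻¹, Subgroup.Normal.conj_mem ‹A.Normal› a ha h⟩, ?_⟩
      rw [hφ, hd]
      simp only [commutatorElement_def]
      have hx1 : h⁻¹ * x * h = x := by
        calc h⁻¹ * x * h = h⁻¹ * (x * h) := by group
          _ = h⁻¹ * (h * x) := by rw [hhx]
          _ = x := by group
      have hx2 : h⁻¹ * x⁻¹ * h = x⁻¹ := by
        have : h⁻¹ * x⁻¹ * h = (h⁻¹ * x * h)⁻¹ := by group
        rw [this, hx1]
      calc h * a * h⁻¹ * x * (h * a * h⁻¹)⁻¹ * x⁻¹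
          = h * a * (h⁻¹ * x * h) * a⁻¹ * (h⁻¹ * x⁻¹ * h) * h⁻¹ := by group
        _ = h * (a * x * a⁻¹ * x⁻¹) * h⁻¹ := by rw [hx1, hx2]; group
    let ψ : ↥H ⧸ C.subgroupOf H → ↥D := fun q =>
      Quotient.liftOn' q (fun h => (⟨(h : G) * d * (h : G)⁻¹, hconjD h h.2⟩ : ↥D)) (by
        intro h1 h2 h12
        rw [QuotientGroup.leftRel_apply, mem_subgroupOf, hC, mem_centralizer_iff] at h12
        have := h12 d rfl
        simp only [Subgroup.coe_mul, Subgroup.coe_inv] at this
        apply Subtype.ext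
        simp only
        calc (h1 : G) * d * (h1 : G)⁻¹
            = (h1 : G) * (d * ((h1 : G)⁻¹ * h2)) * (h2 : G)⁻¹ := by group
          _ = (h1 : G) * (((h1 : G)⁻¹ * h2) * d) * (h2 : G)⁻¹ := by rw [this]
          _ = (h2 : G) * d * (h2 : G)⁻¹ := by group)
    have hψinj : Function.Injective ψ := by
      intro q1 q2
      refine Quotient.inductionOn₂' q1 q2 ?_
      intro h1 h2 h12
      apply Quotient.sound'
      rw [QuotientGroup.leftRel_apply, mem_subgroupOf, hC, mem_centralizer_iff]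
      intro y hy
      rw [Set.mem_singleton_iff] at hy
      subst hy
      have h12' : (h1 : G) * d * (h1 : G)⁻¹ = (h2 : G) * d * (h2 : G)⁻¹ :=
        congrArg Subtype.val h12
      simp only [Subgroup.coe_mul, Subgroup.coe_inv]
      calc d * ((h1 : G)⁻¹ * h2)
          = (h1 : G)⁻¹ * ((h1 : G) * d * (h1 : G)⁻¹) * h2 := by group
        _ = (h1 : G)⁻¹ * ((h2 : G) * d * (h2 : G)⁻¹) * h2 := by rw [h12']
        _ = (h1 : G)⁻¹ * h2 * d := by group
    have hone : (1 : ↥D) ∉ Set.range ψ := by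
      rintro ⟨q, hq⟩
      revert hq
      refine Quotient.inductionOn' q ?_
      intro h hq
      have hq' : (h : G) * d * (h : G)⁻¹ = 1 := congrArg Subtype.val hq
      apply hnc
      have : d = 1 := by
        calc d = (h : G)⁻¹ * ((h : G) * d * (h : G)⁻¹) * h := by group
          _ = 1 := by rw [hq']; group
      rw [this]
      exact Subgroup.one_mem _
    let _i1 : Fintype (↥H ⧸ C.subgroupOf H) := Fintype.ofFinite _
    let _i2 : Fintype ↥D := Fintype.ofFinite _
    have := Fintype.card_lt_of_injective_of_notMem ψ hψinj hone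
    rw [← Nat.card_eq_fintype_card, ← Nat.card_eq_fintype_card] at this
    exact this
  -- contradiction
  have h7 : Nat.card K * Nat.card D ≤ Nat.card K * C.relIndex H := by
    calc Nat.card K * Nat.card D = Nat.card K * H.relIndex A := by rw [hcardD]
      _ ≤ Nat.card K * H.relIndex C := Nat.mul_le_mul_left _ h4
      _ = Nat.card C := h3
      _ ≤ Nat.card H := hCH
      _ = Nat.card K * C.relIndex H := h5.symm
  have h8 := Nat.le_of_mul_le_mul_left h7 hKpos
  omega

/-- Consequences for the subgroup generated by the small classes. -/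
theorem small_classes {G : Type*} [Group G] [Finite G] (A : Subgroup G) [A.Normal]
    (hA : ∀ a ∈ A, ∀ b ∈ A, a * b = b * a)
    (hCA : ∀ g : G, (∀ a ∈ A, g * a = a * g) → g ∈ A) (m : ℕ)
    (hmin : ∀ x : G, 1 < (centralizer ({x} : Set G)).index → m ≤ (centralizer ({x} : Set G)).index)
    (M : Subgroup G)
    (hM : M ≤ closure {x : G | (centralizer ({x} : Set G)).index = 1 ∨
      (centralizer ({x} : Set G)).index = m}) :
    (∀ g ∈ M, ∀ a ∈ A, ⁅a, g⁆ ∈ center G) ∧ (∀ g ∈ M, ∀ h ∈ M, ⁅g, h⁆ ∈ A) := by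
  -- the subgroup of elements acting trivially on `A` modulo the center
  let π := QuotientGroup.mk' (center G)
  let T : Subgroup G := (centralizer ((A.map π : Subgroup (G ⧸ center G)) : Set (G ⧸ center G))).comap π
  have hT : ∀ g : G, g ∈ T ↔ ∀ a ∈ A, ⁅a, g⁆ ∈ center G := by
    intro g
    rw [Subgroup.mem_comap, mem_centralizer_iff]
    constructor
    · intro h a ha
      have h1 := h (π a) ⟨a, ha, rfl⟩
      have h2 : π (⁅a, g⁆) = 1 := by
        rw [commutatorElement_def, map_mul, map_mul, map_mul, h1, map_inv, map_inv]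
        group
      exact (QuotientGroup.eq_one_iff _).mp h2
    · rintro h _ ⟨a, ha, rfl⟩
      have h2 : π (⁅a, g⁆) = 1 := (QuotientGroup.eq_one_iff _).mpr (h a ha)
      rw [commutatorElement_def, map_mul, map_mul, map_mul, map_inv, map_inv] at h2
      calc π a * π g = (π a * π g * (π a)⁻¹ * (π g)⁻¹) * π g * π a := by group
        _ = π g * π a := by rw [h2]; group
  have hMT : M ≤ T := by
    refine hM.trans ?_
    rw [closure_le]
    intro x hx
    rw [SetLike.mem_coe, hT]
    intro a ha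
    rcases hx with hx | hx
    · rw [Subgroup.index_eq_one] at hx
      have hxc : ∀ g : G, g * x = x * g := by
        intro g
        have hg : g ∈ centralizer ({x} : Set G) := by rw [hx]; trivial
        rw [mem_centralizer_iff] at hg
        exact (hg x rfl).symm
      have : ⁅a, x⁆ = 1 := by
        rw [commutatorElement_eq_one_iff_mul_comm]; exact hxc a
      rw [this]; exact Subgroup.one_mem _
    · exact comm_mem_center A hA m hmin x hx a ha
  have h1 : ∀ g ∈ M, ∀ a ∈ A, ⁅a, g⁆ ∈ center G := fun g hg => (hT g).mp (hMT hg)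
  refine ⟨h1, ?_⟩
  intro g hg h hh
  apply hCA
  intro a ha
  -- conjugation by `g`, `h` multiplies `a` by central elements
  have key : ∀ g ∈ M, ∀ a ∈ A, ∃ z ∈ center G, g * a * g⁻¹ = a * z ∧ g⁻¹ * a * g = a * z⁻¹ := by
    intro g hg a ha
    refine ⟨⁅a⁻¹, g⁆, h1 g hg _ (A.inv_mem ha), ?_, ?_⟩
    · rw [commutatorElement_def]; group
    · have hz := h1 g hg _ (A.inv_mem ha)
      rw [Subgroup.mem_center_iff] at hz
      set z := ⁅a⁻¹, g⁆ with hzdef
      have hzc : g⁻¹ * z * g = z := by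
        calc g⁻¹ * z * g = g⁻¹ * (z * g) := by group
          _ = g⁻¹ * (g * z) := by rw [hz g]
          _ = z := by group
      have e : g⁻¹ * a * g = a * (g⁻¹ * z * g)⁻¹ := by
        rw [hzdef, commutatorElement_def]; group
      rw [e, hzc]
  obtain ⟨z1, hz1, e1, e1'⟩ := key g hg a ha
  obtain ⟨z2, hz2, e2, e2'⟩ := key h hh a ha
  rw [Subgroup.mem_center_iff] at hz1 hz2
  -- `⁅g, h⁆ * a * ⁅g, h⁆⁻¹ = a`
  have hz1i : ∀ y : G, y * z1⁻¹ = z1⁻¹ * y := by
    intro y
    have := hz1 y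
    calc y * z1⁻¹ = z1⁻¹ * (z1 * y) * z1⁻¹ := by group
      _ = z1⁻¹ * (y * z1) * z1⁻¹ := by rw [this]
      _ = z1⁻¹ * y := by group
  have hz2i : ∀ y : G, y * z2⁻¹ = z2⁻¹ * y := by
    intro y
    have := hz2 y
    calc y * z2⁻¹ = z2⁻¹ * (z2 * y) * z2⁻¹ := by group
      _ = z2⁻¹ * (y * z2) * z2⁻¹ := by rw [this]
      _ = z2⁻¹ * y := by group
  have : ⁅g, h⁆ * a * ⁅g, h⁆⁻¹ = a := by
    rw [commutatorElement_def]
    calc g * h * g⁻¹ * h⁻¹ * a * (g * h * g⁻¹ * h⁻¹)⁻¹
        = g * h * g⁻¹ * (h⁻¹ * a * h) * g * h⁻¹ * g⁻¹ := by group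
      _ = g * h * g⁻¹ * (a * z2⁻¹) * g * h⁻¹ * g⁻¹ := by rw [e2']
      _ = g * h * (g⁻¹ * a * (z2⁻¹ * g)) * h⁻¹ * g⁻¹ := by group
      _ = g * h * (g⁻¹ * a * (g * z2⁻¹)) * h⁻¹ * g⁻¹ := by rw [hz2i g]
      _ = g * h * ((g⁻¹ * a * g) * z2⁻¹) * h⁻¹ * g⁻¹ := by group
      _ = g * h * ((a * z1⁻¹) * z2⁻¹) * h⁻¹ * g⁻¹ := by rw [e1']
      _ = g * ((h * a) * (z1⁻¹ * (z2⁻¹ * h⁻¹))) * g⁻¹ := by group
      _ = g * ((h * a) * (z1⁻¹ * (h⁻¹ * z2⁻¹))) * g⁻¹ := by rw [hz2i h⁻¹]
      _ = g * ((h * a) * ((z1⁻¹ * h⁻¹) * z2⁻¹)) * g⁻¹ := by group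
      _ = g * ((h * a) * ((h⁻¹ * z1⁻¹) * z2⁻¹)) * g⁻¹ := by rw [hz1i h⁻¹]
      _ = g * ((h * a * h⁻¹) * z1⁻¹ * z2⁻¹) * g⁻¹ := by group
      _ = g * ((a * z2) * z1⁻¹ * z2⁻¹) * g⁻¹ := by rw [e2]
      _ = g * (a * (z2 * z1⁻¹) * z2⁻¹) * g⁻¹ := by group
      _ = g * (a * (z1⁻¹ * z2) * z2⁻¹) * g⁻¹ := by rw [hz1i z2]
      _ = (g * a) * (z1⁻¹ * g⁻¹) := by group
      _ = (g * a) * (g⁻¹ * z1⁻¹) := by rw [hz1i g⁻¹]
      _ = (g * a * g⁻¹) * z1⁻¹ := by group
      _ = (a * z1) * z1⁻¹ := by rw [e1]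
      _ = a := by group
  calc ⁅g, h⁆ * a = (⁅g, h⁆ * a * ⁅g, h⁆⁻¹) * ⁅g, h⁆ := by group
    _ = a * ⁅g, h⁆ := by rw [this]

/-- Let G be a finite group with a normal abelian subgroup A satisfying C_G(A) = A. Suppose some conjugacy class of G has size greater than 1, let m be the smallest such size, and let M be the subgroup generated by the elements whose class has size 1 or m. Then M is nilpotent of class at most 3. -/
theorem result {G : Type*} [Group G] [Finite G]
    (A : Subgroup G) [A.Normal] (hA : IsMulCommutative A) (hCA : Subgroup.centralizer (A : Set G) = A)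
    (m : ℕ) (hm1 : 1 < m) (hm : ∃ x : G, (Subgroup.centralizer ({x} : Set G)).index = m) (hmin : ∀ x : G, 1 < (Subgroup.centralizer ({x} : Set G)).index → m ≤ (Subgroup.centralizer ({x} : Set G)).index) :
    Subgroup.upperCentralSeries ↥(Subgroup.closure {x : G | (Subgroup.centralizer ({x} : Set G)).index = 1 ∨ (Subgroup.centralizer ({x} : Set G)).index = m}) 3 = ⊤ := by
  have hA' : ∀ a ∈ A, ∀ b ∈ A, a * b = b * a := by
    intro a ha b hb
    have := hA.is_comm.comm (⟨a, ha⟩ : ↥A) ⟨b, hb⟩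
    exact congrArg Subtype.val this
  have hCA' : ∀ g : G, (∀ a ∈ A, g * a = a * g) → g ∈ A := by
    intro g hg
    rw [← hCA, mem_centralizer_iff]
    intro a ha
    exact (hg a ha).symm
  set M := Subgroup.closure {x : G | (Subgroup.centralizer ({x} : Set G)).index = 1 ∨ (Subgroup.centralizer ({x} : Set G)).index = m} with hM
  obtain ⟨h1, h2⟩ := small_classes A hA' hCA' m hmin M le_rfl
  apply ucs_three_of_comm (A.subgroupOf M)
  · intro g a ha
    rw [mem_subgroupOf] at ha
    have := h1 g g.2 a ha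
    rw [Subgroup.mem_center_iff] at this ⊢
    intro y
    apply Subtype.ext
    exact this y
  · intro g h
    rw [mem_subgroupOf]
    exact h2 g g.2 h h.2

end Cfsg.Agent.S4163
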