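import Cfsg.Statements.S4168

set_option autoImplicit false
open Cfsg

namespace Cfsg.Agent.S4168

open scoped commutatorElement

/-- Let L be a finite quasisimple group (perfect with L/Z(L) simple). Then every prime dividing the order of the centre Z(L) also divides the order of L/Z(L). -/
theorem result {L : Type*} [Group L] [Finite L] (hL : Cfsg.IsQuasisimple L)
    (p : ℕ) (hp : p.Prime) (hdiv : p ∣ Nat.card (Subgroup.center L)) : p ∣ (Subgroup.center L).index := by
  by_contra hnd
  have hpf : Fact p.Prime := ⟨hp⟩
  obtain ⟨hperf, -⟩ := hL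
  let P : Sylow p L := default
  -- `P` is central
  have hPZ : (P : Subgroup L) ≤ Subgroup.center L := by
    intro x hx
    obtain ⟨k, hk⟩ := (IsPGroup.iff_orderOf.mp P.2) ⟨x, hx⟩
    have hk' : orderOf x = p ^ k := by
      rw [← hk]
      exact (Subgroup.orderOf_mk x hx).symm
    have hcop : ((Subgroup.center L).index).Coprime (orderOf x) := by
      rw [hk']
      exact Nat.Coprime.pow_right k ((Nat.Prime.coprime_iff_not_dvd hp).mpr hnd).symm
    obtain ⟨m, hm⟩ := exists_pow_eq_self_of_coprime hcop
    rw [← hm]
    exact Subgroup.pow_mem _ (Subgroup.pow_index_mem _ x) m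
  have hP : Subgroup.normalizer ((P : Subgroup L) : Set L) ≤ Subgroup.centralizer (P : Set L) := by
    intro x _
    rw [Subgroup.mem_centralizer_iff]
    intro y hy
    have h1 := hPZ hy
    rw [Subgroup.mem_center_iff] at h1
    exact (h1 x).symm
  have hcompl := MonoidHom.ker_transferSylow_isComplement' P hP
  have hker : (MonoidHom.transferSylow P hP).ker = ⊤ := by
    rw [eq_top_iff, ← hperf.commutator_eq_top, commutator_eq_closure, Subgroup.closure_le]
    rintro g ⟨a, b, rfl⟩
    show MonoidHom.transferSylow P hP ⁅a, b⁆ = 1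
    rw [map_commutatorElement]
    rw [commutatorElement_eq_one_iff_mul_comm]
    apply Subtype.ext
    have h1 := hPZ (MonoidHom.transferSylow P hP a).2
    rw [Subgroup.mem_center_iff] at h1
    exact (h1 _).symm
  rw [hker, Subgroup.isComplement'_top_left] at hcompl
  exact P.ne_bot_of_dvd_card (hdiv.trans (Subgroup.card_subgroup_dvd_card _)) hcompl

end Cfsg.Agent.S4168
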