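-- Statement S4169 (Ishikawa: p-groups with two class sizes have class at most 3).
import Cfsg.Statements.S4169
import Cfsg.Agent.S4163
import Cfsg.Agent.Lib.helper59.UniqueOrderP

set_option autoImplicit false
open Cfsg

namespace Cfsg.Agent.S4169

open scoped commutatorElement

/-- Let P be a finite p-group whose conjugacy classes have exactly two sizes (1 and one other value). Then P has nilpotency class at most 3. -/
theorem result {P : Type*} [Group P] [Finite P] {p : ℕ} [Fact p.Prime] (hP : IsPGroup p P)
    (m : ℕ) (hm : 1 < m) (h : ∀ x : P, (Subgroup.centralizer ({x} : Set P)).index = 1 ∨ (Subgroup.centralizer ({x} : Set P)).index = m) :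
    upperCentralSeries P 3 = ⊤ := by
  obtain ⟨A, hAn, hAc, hAself⟩ := Cfsg.Agent.Lib.helper59.exists_normal_abelian_self_centralizing hP
  have := hAn
  have hmin : ∀ x : P, 1 < (Subgroup.centralizer ({x} : Set P)).index →
      m ≤ (Subgroup.centralizer ({x} : Set P)).index := by
    intro x hx
    rcases h x with h1 | h1
    · omega
    · omega
  have htop : (⊤ : Subgroup P) ≤ Subgroup.closure
      {x : P | (Subgroup.centralizer ({x} : Set P)).index = 1 ∨
      (Subgroup.centralizer ({x} : Set P)).index = m} := by
    intro x _
    exact Subgroup.subset_closure (h x)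
  obtain ⟨h1, h2⟩ := Cfsg.Agent.S4163.small_classes A hAc hAself m hmin ⊤ htop
  exact Cfsg.Agent.S4163.ucs_three_of_comm A (fun g a ha => h1 g (Subgroup.mem_top g) a ha)
    (fun g k => h2 g (Subgroup.mem_top g) k (Subgroup.mem_top k))

end Cfsg.Agent.S4169
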