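-- Statement S4170.  Elementary proof: take a Sylow p-subgroup P, F its fixed point set,
-- gamma a point moved by P; then ({gamma}, F) (or ({gamma}, {x0 gamma}) if F is empty) works.
import Cfsg.Statements.S4170
import Mathlib

set_option autoImplicit false
open scoped Pointwise
open Cfsg

namespace Cfsg.Agent.S4170

section general

variable {Γ Ω : Type*} [Group Γ] [MulAction Γ Ω]

theorem exists_conj_le [Finite Γ] (p : ℕ) [Fact p.Prime] (P : Sylow p Γ) (K : Subgroup Γ)
    (hK : ¬ p ∣ K.index) :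
    ∃ g : Γ, ∀ x ∈ (P : Subgroup Γ), g⁻¹ * x * g ∈ K := by
  have hcard : ¬ p ∣ Nat.card (Γ ⧸ K) := by
    rwa [← Subgroup.index_eq_card]
  obtain ⟨a, ha⟩ := P.2.nonempty_fixed_point_of_prime_not_dvd_card (Γ ⧸ K) hcard
  induction a using QuotientGroup.induction_on with
  | H g =>
    refine ⟨g, fun x hx => ?_⟩
    rw [MulAction.mem_fixedPoints] at ha
    have h1 : (⟨x, hx⟩ : (P : Subgroup Γ)) • (g : Γ ⧸ K) = (g : Γ ⧸ K) := ha ⟨x, hx⟩
    have h2 : ((x * g : Γ) : Γ ⧸ K) = (g : Γ ⧸ K) := h1
    rw [QuotientGroup.eq] at h2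
    have h3 := K.inv_mem h2
    simpa [mul_assoc] using h3

theorem key [Finite Γ] (p : ℕ) [Fact p.Prime] (P : Sylow p Γ) (γ : Ω) (x0 : Γ)
    (hx0 : x0 ∈ (P : Subgroup Γ)) (hγ : x0 • γ ≠ γ) :
    ∃ Δ₁ Δ₂ : Set Ω, Δ₁.Nonempty ∧ Δ₂.Nonempty ∧ Disjoint Δ₁ Δ₂ ∧
      p ∣ (MulAction.stabilizer Γ Δ₁ ⊓ MulAction.stabilizer Γ Δ₂).index := by
  classical
  set F : Set Ω := {ω | ∀ x ∈ (P : Subgroup Γ), x • ω = ω} with hF
  have hγF : γ ∉ F := fun h => hγ (h x0 hx0)
  have core : ∀ g : Γ, g • γ ∈ F → (∀ ω ∈ F, g • ω ∈ F) → False := by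
    intro g hg hgF
    have hpow : ∀ k : ℕ, ∀ ω ∈ F, g ^ k • ω ∈ F := by
      intro k
      induction k with
      | zero => intro ω hω; simpa using hω
      | succ k ih =>
        intro ω hω
        rw [pow_succ, mul_smul]
        exact ih _ (hgF ω hω)
    have hinv : g⁻¹ = g ^ (orderOf g - 1) := by
      have hpos : 0 < orderOf g := orderOf_pos g
      apply inv_eq_of_mul_eq_one_left
      rw [← pow_succ, Nat.sub_add_cancel hpos, pow_orderOf_eq_one]
    have h : g⁻¹ • (g • γ) ∈ F := by
      rw [hinv]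
      exact hpow _ _ hg
    rw [inv_smul_smul] at h
    exact hγF h
  -- a conjugate of P fixing γ sends γ into F
  have hfix : ∀ g : Γ, (∀ x ∈ (P : Subgroup Γ), (g⁻¹ * x * g) • γ = γ) → g • γ ∈ F := by
    intro g h x hx
    have := h x hx
    rw [mul_smul, mul_smul, inv_smul_eq_iff] at this
    exact this
  have hsing : ∀ (y : Γ) (ω : Ω), y ∈ MulAction.stabilizer Γ ({ω} : Set Ω) → y • ω = ω := by
    intro y ω hy
    rw [MulAction.mem_stabilizer_iff, Set.smul_set_singleton] at hy
    exact Set.singleton_eq_singleton_iff.mp hy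
  by_cases hFe : F.Nonempty
  · refine ⟨{γ}, F, Set.singleton_nonempty γ, hFe, Set.disjoint_singleton_left.mpr hγF, ?_⟩
    by_contra hnd
    obtain ⟨g, hg⟩ := exists_conj_le p P _ hnd
    have h1 : g • γ ∈ F := hfix g (fun x hx => hsing _ _ (hg x hx).1)
    -- pointwise and setwise stabilizers of F
    set H : Subgroup Γ := MulAction.stabilizer Γ F with hH
    let N : Subgroup Γ :=
      { carrier := {n | ∀ ω ∈ F, n • ω = ω}
        mul_mem' := by
          intro a b ha hb ω hω
          rw [mul_smul, hb ω hω, ha ω hω]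
        one_mem' := by
          intro ω _
          exact one_smul _ _
        inv_mem' := by
          intro a ha ω hω
          rw [inv_smul_eq_iff, ha ω hω] }
    have hmemN : ∀ n : Γ, n ∈ N ↔ ∀ ω ∈ F, n • ω = ω := fun n => Iff.rfl
    have hPN : (P : Subgroup Γ) ≤ N := fun x hx ω hω => hω x hx
    have hNH : N ≤ H := by
      intro n hn
      rw [hH, MulAction.mem_stabilizer_iff]
      ext ω
      constructor
      · rintro ⟨ω', hω', rfl⟩
        have : n • ω' = ω' := hn ω' hω'
        simpa [this] using hω'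
      · intro hω
        exact ⟨ω, hω, hn ω hω⟩
    have hnormal : (N.subgroupOf H).Normal := by
      constructor
      intro n hn h
      rw [Subgroup.mem_subgroupOf] at hn ⊢
      rw [hmemN] at hn ⊢
      intro ω hω
      have hh : (h : Γ)⁻¹ • ω ∈ F := by
        have h2 : (h : Γ) • F = F := MulAction.mem_stabilizer_iff.mp h.2
        have h3 : (h : Γ)⁻¹ • F = F := by
          rw [inv_smul_eq_iff]
          exact h2.symm
        rw [← h3]
        exact Set.smul_mem_smul_set hω
      simp only [Subgroup.coe_mul, Subgroup.coe_inv, mul_smul]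
      rw [hn _ hh, smul_inv_smul]
    have hindex : ¬ p ∣ (N.subgroupOf H).index := by
      intro hdvd
      have h1 : (N.subgroupOf H).index ∣ N.index :=
        Dvd.intro _ (Subgroup.relIndex_mul_index hNH)
      have h2 : N.index ∣ (P : Subgroup Γ).index := Subgroup.index_dvd_of_le hPN
      exact P.not_dvd_index (hdvd.trans (h1.trans h2))
    have h2 : ∀ ω ∈ F, g • ω ∈ F := by
      intro ω hω x hx
      have hyH : g⁻¹ * x * g ∈ H := (hg x hx).2
      obtain ⟨k, hk⟩ := P.2 ⟨x, hx⟩
      have hxk : x ^ (p ^ k) = 1 := by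
        have := congrArg (fun z : (P : Subgroup Γ) => (z : Γ)) hk
        simpa using this
      have hyk : (g⁻¹ * x * g) ^ (p ^ k) = 1 := by
        have : g⁻¹ * x * g = g⁻¹ * x * g⁻¹⁻¹ := by rw [inv_inv]
        rw [this, conj_pow, hxk]
        simp
      let y' : H := ⟨g⁻¹ * x * g, hyH⟩
      have hy'k : y' ^ (p ^ k) = 1 := by
        apply Subtype.ext
        simpa [y'] using hyk
      have hord : orderOf y' ∣ p ^ k := orderOf_dvd_of_pow_eq_one hy'k
      have hcop : ((N.subgroupOf H).index).Coprime (orderOf y') := by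
        have hp : p.Prime := Fact.out
        have hc1 : (p ^ k).Coprime ((N.subgroupOf H).index) :=
          Nat.Coprime.pow_left k ((Nat.Prime.coprime_iff_not_dvd hp).mpr hindex)
        exact (Nat.Coprime.coprime_dvd_left hord hc1).symm
      obtain ⟨m, hm⟩ := exists_pow_eq_self_of_coprime hcop
      have hmem : y' ∈ N.subgroupOf H := by
        rw [← hm]
        have := hnormal
        exact Subgroup.pow_mem _ (Subgroup.pow_index_mem _ y') m
      rw [Subgroup.mem_subgroupOf, hmemN] at hmem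
      have := hmem ω hω
      simp only [y'] at this
      rw [mul_smul, mul_smul, inv_smul_eq_iff] at this
      exact this
    exact core g h1 h2
  · have hFempty : F = ∅ := Set.not_nonempty_iff_eq_empty.mp hFe
    refine ⟨{γ}, {x0 • γ}, Set.singleton_nonempty γ, Set.singleton_nonempty _,
      Set.disjoint_singleton.mpr (Ne.symm hγ), ?_⟩
    by_contra hnd
    obtain ⟨g, hg⟩ := exists_conj_le p P _ hnd
    have h1 : g • γ ∈ F := hfix g (fun x hx => hsing _ _ (hg x hx).1)
    rw [hFempty] at h1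
    exact h1

end general

/-- Let p be an odd prime and G a nontrivial group of permutations of a finite set Ω that is generated by its elements of p-power order. Then Ω has two disjoint nonempty subsets Δ₁ and Δ₂ such that the index in G of the subgroup of elements mapping Δ₁ onto Δ₁ and Δ₂ onto Δ₂ (and hence also the complement of their union onto itself) is divisible by p. -/
theorem result {Ω : Type*} [Fintype Ω] (p : ℕ) [Fact p.Prime] (hp : p ≠ 2) (G : Subgroup (Equiv.Perm Ω)) (hG : G ≠ ⊥) (hgen : Subgroup.closure {g : G | ∃ k : ℕ, orderOf g = p ^ k} = ⊤) :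
    ∃ Δ₁ Δ₂ : Set Ω, Δ₁.Nonempty ∧ Δ₂.Nonempty ∧ Disjoint Δ₁ Δ₂ ∧ p ∣ (MulAction.stabilizer G Δ₁ ⊓ MulAction.stabilizer G Δ₂).index := by
  classical
  haveI : Finite G := inferInstance
  -- a nontrivial element of p-power order
  have hex : ∃ g : G, g ≠ 1 ∧ ∃ k : ℕ, orderOf g = p ^ k := by
    by_contra hcon
    have hsub : {g : G | ∃ k : ℕ, orderOf g = p ^ k} ⊆ ((⊥ : Subgroup G) : Set G) := by
      intro g hg
      by_contra hne
      exact hcon ⟨g, fun h => hne (by rw [h]; exact Subgroup.one_mem _), hg⟩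
    have hbot : (⊤ : Subgroup G) = ⊥ := by
      rw [← hgen]
      exact le_antisymm ((Subgroup.closure_le _).mpr hsub) bot_le
    apply hG
    rw [Subgroup.eq_bot_iff_forall]
    intro x hx
    have : (⟨x, hx⟩ : G) ∈ (⊤ : Subgroup G) := Subgroup.mem_top _
    rw [hbot, Subgroup.mem_bot] at this
    exact congrArg Subtype.val this
  obtain ⟨g0, hg0, k, hk⟩ := hex
  have hpdvd : p ∣ Nat.card G := by
    have hk0 : k ≠ 0 := by
      rintro rfl
      rw [pow_zero, orderOf_eq_one_iff] at hk
      exact hg0 hk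
    have h1 : p ∣ orderOf g0 := by
      rw [hk]
      exact dvd_pow_self p hk0
    exact h1.trans (orderOf_dvd_natCard g0)
  obtain ⟨P⟩ : Nonempty (Sylow p G) := inferInstance
  have hPne : (P : Subgroup G) ≠ ⊥ := P.ne_bot_of_dvd_card hpdvd
  obtain ⟨x0, hx0P, hx0ne⟩ : ∃ x0 ∈ (P : Subgroup G), x0 ≠ 1 := by
    by_contra hcon
    apply hPne
    rw [Subgroup.eq_bot_iff_forall]
    intro x hx
    by_contra hne
    exact hcon ⟨x, hx, hne⟩
  have hmove : ∃ γ : Ω, x0 • γ ≠ γ := by
    by_contra hcon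
    apply hx0ne
    apply Subtype.ext
    apply Equiv.ext
    intro γ
    by_contra hne
    exact hcon ⟨γ, hne⟩
  obtain ⟨γ, hγ⟩ := hmove
  exact key p P γ x0 hx0P hγ

end Cfsg.Agent.S4170
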