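import Cfsg.Statements.S4172
import Mathlib
import Cfsg.Agent.Lib.helper54.TwoGenSylow
import Cfsg.Agent.Lib.helper54.FStarQuot
import Cfsg.Agent.Lib.helper3.PGroupFrattini
import Cfsg.Agent.Lib.helper3.TransferLemmas
import Cfsg.Agent.Lib.helper27.Basic
import Cfsg.Agent.Lib.helper27.Radical
import Cfsg.Agent.Lib.helper28.Components
import Cfsg.Agent.Lib.helper28.Fitting
import Cfsg.Agent.Lib.helper53.PCore

set_option autoImplicit false
open Cfsg

namespace Cfsg.Agent.S4172
open Cfsg.Agent.Lib.helper54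
set_option linter.style.haveILetI false

/-- Let p be a prime and G a finite group with a non-commutative Sylow p-subgroup P whose Frattini subgroup has index p² in P (P is generated by two elements). Suppose G has no nontrivial normal subgroup of order prime to p and the Frattini subgroup of P contains no nontrivial normal subgroup of G. Then the generalized Fitting subgroup F*(G) is the unique minimal normal subgroup of G, the image of P in G/F*(G) is cyclic, and if F*(G) is not commutative then P permutes the components of G transitively by conjugation. -/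
theorem result {G : Type*} [Group G] [Finite G] (p : ℕ) [Fact p.Prime] (P : Sylow p G) (hna : ¬ IsMulCommutative (P : Subgroup G)) (hgen : (frattini ↥(P : Subgroup G)).index = p ^ 2) (hcore : Cfsg.pPrimeCore p G = ⊥) (hfrat : ((frattini ↥(P : Subgroup G)).map (P : Subgroup G).subtype).normalCore = ⊥) [hFn : (Cfsg.generalizedFittingSubgroup G).Normal] :
    (Cfsg.generalizedFittingSubgroup G ≠ ⊥ ∧ ∀ K : Subgroup G, K.Normal → K ≠ ⊥ → Cfsg.generalizedFittingSubgroup G ≤ K) ∧
      IsCyclic ↥((P : Subgroup G).map (QuotientGroup.mk' (Cfsg.generalizedFittingSubgroup G))) ∧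
      (¬ IsMulCommutative (Cfsg.generalizedFittingSubgroup G) → ∀ K L : Subgroup G, Cfsg.IsComponent K → Cfsg.IsComponent L → ∃ x ∈ (P : Subgroup G), L = K.map (MulAut.conj x).toMonoidHom) := by
  classical
  have hp : p.Prime := Fact.out
  have hPp : IsPGroup p ↥(P : Subgroup G) := P.isPGroup'
  -- Step 1: no nontrivial normal subgroup meets `P` inside `Φ(P)`
  have step1 : ∀ N : Subgroup G, N.Normal → N ≠ ⊥ →
      ¬ (N ⊓ (P : Subgroup G) ≤ (frattini ↥(P : Subgroup G)).map (P : Subgroup G).subtype) := by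
    intro N hNn hN1 hle
    haveI := hNn
    haveI hXn : (Subgroup.normalClosure {g : G | g ∈ N ∧ (orderOf g).Coprime p}).Normal :=
      Subgroup.normalClosure_normal
    have hXN : Subgroup.normalClosure {g : G | g ∈ N ∧ (orderOf g).Coprime p} ≤ N :=
      Subgroup.normalClosure_le_normal (fun g hg => hg.1)
    have hXgen : Subgroup.normalClosure {g : G | g ∈ N ∧ (orderOf g).Coprime p}
        ≤ Subgroup.closure {g : G | g ∈ Subgroup.normalClosure
            {g : G | g ∈ N ∧ (orderOf g).Coprime p} ∧ (orderOf g).Coprime p} := by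
      conv_lhs => unfold Subgroup.normalClosure
      apply Subgroup.closure_mono
      intro g hg
      obtain ⟨a, ha, hconj⟩ := Group.mem_conjugatesOfSet_iff.mp hg
      refine ⟨Subgroup.conjugatesOfSet_subset_normalClosure hg, ?_⟩
      obtain ⟨c, hc⟩ := isConj_iff.mp hconj
      rw [← hc]
      have h1 : orderOf (c * a * c⁻¹) = orderOf a := (MulAut.conj c).orderOf_eq a
      rw [h1]; exact ha.2
    have hbot := Cfsg.Agent.Lib.helper67.tate_frattini P _ hXgen
      ((inf_le_inf_right _ hXN).trans hle)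
    have hcop := Cfsg.Agent.Lib.helper67.card_coprime_of_inf_sylow_eq_bot P _ hbot
    have hX1 : Subgroup.normalClosure {g : G | g ∈ N ∧ (orderOf g).Coprime p} = ⊥ := by
      have h1 : Subgroup.normalClosure {g : G | g ∈ N ∧ (orderOf g).Coprime p}
          ≤ Cfsg.pPrimeCore p G :=
        le_sSup (show _ ∈ {N : Subgroup G | N.Normal ∧ (Nat.card N).Coprime p} from ⟨hXn, hcop⟩)
      rwa [hcore, le_bot_iff] at h1
    have hNp : IsPGroup p ↥N := by
      intro g
      obtain ⟨a, m, hm, hn⟩ := Nat.exists_eq_pow_mul_and_not_dvd (orderOf_pos g).ne' p hp.ne_one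
      refine ⟨a, ?_⟩
      have h1 : ((g ^ p ^ a : ↥N) : G) ∈ {g : G | g ∈ N ∧ (orderOf g).Coprime p} := by
        refine ⟨(g ^ p ^ a).2, ?_⟩
        rw [Subgroup.orderOf_coe]
        have h2 : orderOf (g ^ p ^ a) ∣ m := by
          apply orderOf_dvd_of_pow_eq_one
          rw [← pow_mul, ← hn]; exact pow_orderOf_eq_one g
        exact Nat.Coprime.coprime_dvd_left h2 ((Nat.Prime.coprime_iff_not_dvd hp).mpr hm).symm
      have h2 : ((g ^ p ^ a : ↥N) : G) ∈ Subgroup.normalClosure
          {g : G | g ∈ N ∧ (orderOf g).Coprime p} := Subgroup.subset_normalClosure h1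
      rw [hX1, Subgroup.mem_bot] at h2
      exact Subtype.ext h2
    have hNP : N ≤ (P : Subgroup G) := normal_pgroup_le_sylow hNp P
    have hNΦ : N ≤ (frattini ↥(P : Subgroup G)).map (P : Subgroup G).subtype :=
      (le_inf le_rfl hNP).trans hle
    have h3 : N ≤ ((frattini ↥(P : Subgroup G)).map (P : Subgroup G).subtype).normalCore :=
      Subgroup.normal_le_normalCore.mpr hNΦ
    rw [hfrat, le_bot_iff] at h3
    exact hN1 h3
  -- normalizers of intersections
  have hninf : ∀ A : Subgroup G, (P : Subgroup G) ≤ Subgroup.normalizer (A : Set G) →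
      (P : Subgroup G) ≤ Subgroup.normalizer ((A ⊓ (P : Subgroup G) : Subgroup G) : Set G) := by
    intro A hA x hx
    rw [Subgroup.mem_normalizer_iff]
    intro n
    have h1 := Subgroup.mem_normalizer_iff.mp (hA hx) n
    constructor
    · rintro ⟨hn1, hn2⟩
      exact ⟨h1.mp hn1, (P : Subgroup G).mul_mem ((P : Subgroup G).mul_mem hx hn2)
        ((P : Subgroup G).inv_mem hx)⟩
    · rintro ⟨hn1, hn2⟩
      refine ⟨h1.mpr hn1, ?_⟩
      have h := (P : Subgroup G).mul_mem ((P : Subgroup G).mul_mem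
        ((P : Subgroup G).inv_mem hx) hn2) hx
      have e : x⁻¹ * (x * n * x⁻¹) * x = n := by group
      rw [e] at h
      exact h
  -- cyclic quotient consequences
  have step2 : ∀ A : Subgroup G, (P : Subgroup G) ≤ Subgroup.normalizer (A : Set G) →
      ¬ (A ⊓ (P : Subgroup G) ≤ (frattini ↥(P : Subgroup G)).map (P : Subgroup G).subtype) →
      ∀ a ∈ (P : Subgroup G), ∀ b ∈ (P : Subgroup G), a * b * a⁻¹ * b⁻¹ ∈ A := by
    intro A hA hR a ha b hb
    obtain ⟨x, hx, hxR⟩ := exists_zpowers_sup_of_not_le_frattini (P : Subgroup G) hgen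
      (A ⊓ (P : Subgroup G)) inf_le_right hR
    exact (commutator_mem_of_zpowers_sup hx (hninf A hA) inf_le_right hxR ha hb).1
  have hnormal_le : ∀ N : Subgroup G, N.Normal →
      (P : Subgroup G) ≤ Subgroup.normalizer (N : Set G) := by
    intro N hNn
    haveI := hNn
    rw [Subgroup.normalizer_eq_top]; exact le_top
  -- a nontrivial commutator
  obtain ⟨a₀, ha₀, b₀, hb₀, hab₀⟩ : ∃ a ∈ (P : Subgroup G), ∃ b ∈ (P : Subgroup G),
      a * b ≠ b * a := by
    by_contra hcon
    apply hna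
    refine ⟨⟨fun a b => Subtype.ext ?_⟩⟩
    by_contra h
    exact hcon ⟨a, a.2, b, b.2, h⟩
  have hc₀1 : a₀ * b₀ * a₀⁻¹ * b₀⁻¹ ≠ 1 := by
    intro h; apply hab₀
    calc a₀ * b₀ = (a₀ * b₀ * a₀⁻¹ * b₀⁻¹) * (b₀ * a₀) := by group
      _ = b₀ * a₀ := by rw [h, one_mul]
  have hc₀N : ∀ N : Subgroup G, N.Normal → N ≠ ⊥ → a₀ * b₀ * a₀⁻¹ * b₀⁻¹ ∈ N :=
    fun N hNn hN1 => step2 N (hnormal_le N hNn) (step1 N hNn hN1) a₀ ha₀ b₀ hb₀
  -- the minimal normal subgroup
  haveI hMn : (Subgroup.normalClosure ({a₀ * b₀ * a₀⁻¹ * b₀⁻¹} : Set G)).Normal :=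
    Subgroup.normalClosure_normal
  have hc₀M : a₀ * b₀ * a₀⁻¹ * b₀⁻¹ ∈ Subgroup.normalClosure ({a₀ * b₀ * a₀⁻¹ * b₀⁻¹} : Set G) :=
    Subgroup.subset_normalClosure (Set.mem_singleton _)
  have hM1 : Subgroup.normalClosure ({a₀ * b₀ * a₀⁻¹ * b₀⁻¹} : Set G) ≠ ⊥ := by
    intro h
    rw [h, Subgroup.mem_bot] at hc₀M
    exact hc₀1 hc₀M
  have hMle : ∀ N : Subgroup G, N.Normal → N ≠ ⊥ →
      Subgroup.normalClosure ({a₀ * b₀ * a₀⁻¹ * b₀⁻¹} : Set G) ≤ N := by
    intro N hNn hN1
    haveI := hNn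
    exact Subgroup.normalClosure_le_normal (Set.singleton_subset_iff.mpr (hc₀N N hNn hN1))
  have hFp : Cfsg.fittingSubgroup G ≤ Cfsg.pCore p G := by
    have h1 := fittingSubgroup_le_pCore_sup_pPrimeCore (X := G) p
    rwa [hcore, sup_bot_eq] at h1
  haveI hQn : (Cfsg.pCore p G).Normal := Cfsg.Agent.Lib.helper53.pCore_normal p G
  have hQp : IsPGroup p ↥(Cfsg.pCore p G) := Cfsg.Agent.Lib.helper53.pCore_isPGroup p G
  have hQP : Cfsg.pCore p G ≤ (P : Subgroup G) := normal_pgroup_le_sylow hQp P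
  -- F(G) ≤ M
  have hF : Cfsg.fittingSubgroup G ≤ Subgroup.normalClosure ({a₀ * b₀ * a₀⁻¹ * b₀⁻¹} : Set G) := by
    refine hFp.trans ?_
    by_cases hQ1 : Cfsg.pCore p G = ⊥
    · rw [hQ1]; exact bot_le
    have hMQ := hMle _ hQn hQ1
    -- `O_p(G)` is elementary abelian
    have hSQΦ : ∀ c ∈ {c : G | (∃ a ∈ Cfsg.pCore p G, ∃ b ∈ Cfsg.pCore p G, c = a * b * a⁻¹ * b⁻¹)
          ∨ ∃ a ∈ Cfsg.pCore p G, c = a ^ p},
        c ∈ (frattini ↥(P : Subgroup G)).map (P : Subgroup G).subtype := by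
      rintro c (⟨a, ha, b, hb, rfl⟩ | ⟨a, ha, rfl⟩)
      · exact comm_mem_frattini_map (P : Subgroup G) hPp (hQP ha) (hQP hb)
      · exact pow_mem_frattini_map (P : Subgroup G) hPp (hQP ha)
    have hSQconj : ∀ c ∈ {c : G | (∃ a ∈ Cfsg.pCore p G, ∃ b ∈ Cfsg.pCore p G,
          c = a * b * a⁻¹ * b⁻¹) ∨ ∃ a ∈ Cfsg.pCore p G, c = a ^ p}, ∀ g : G,
        g * c * g⁻¹ ∈ {c : G | (∃ a ∈ Cfsg.pCore p G, ∃ b ∈ Cfsg.pCore p G,
          c = a * b * a⁻¹ * b⁻¹) ∨ ∃ a ∈ Cfsg.pCore p G, c = a ^ p} := by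
      rintro c (⟨a, ha, b, hb, rfl⟩ | ⟨a, ha, rfl⟩) g
      · left
        exact ⟨g * a * g⁻¹, hQn.conj_mem a ha g, g * b * g⁻¹, hQn.conj_mem b hb g, by group⟩
      · right
        exact ⟨g * a * g⁻¹, hQn.conj_mem a ha g, by rw [conj_pow]⟩
    haveI hTn : (Subgroup.normalClosure {c : G | (∃ a ∈ Cfsg.pCore p G, ∃ b ∈ Cfsg.pCore p G,
          c = a * b * a⁻¹ * b⁻¹) ∨ ∃ a ∈ Cfsg.pCore p G, c = a ^ p}).Normal :=
      Subgroup.normalClosure_normal
    have hTΦ : Subgroup.normalClosure {c : G | (∃ a ∈ Cfsg.pCore p G, ∃ b ∈ Cfsg.pCore p G,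
          c = a * b * a⁻¹ * b⁻¹) ∨ ∃ a ∈ Cfsg.pCore p G, c = a ^ p}
        ≤ (frattini ↥(P : Subgroup G)).map (P : Subgroup G).subtype := by
      conv_lhs => unfold Subgroup.normalClosure
      rw [Subgroup.closure_le]
      intro c hc
      obtain ⟨a, ha, hconj⟩ := Group.mem_conjugatesOfSet_iff.mp hc
      obtain ⟨g, hg⟩ := isConj_iff.mp hconj
      rw [← hg]; exact hSQΦ _ (hSQconj a ha g)
    have hT1 : Subgroup.normalClosure {c : G | (∃ a ∈ Cfsg.pCore p G, ∃ b ∈ Cfsg.pCore p G,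
          c = a * b * a⁻¹ * b⁻¹) ∨ ∃ a ∈ Cfsg.pCore p G, c = a ^ p} = ⊥ := by
      have h1 := Subgroup.normal_le_normalCore.mpr hTΦ
      rwa [hfrat, le_bot_iff] at h1
    have hSQ1 : ∀ c ∈ {c : G | (∃ a ∈ Cfsg.pCore p G, ∃ b ∈ Cfsg.pCore p G,
          c = a * b * a⁻¹ * b⁻¹) ∨ ∃ a ∈ Cfsg.pCore p G, c = a ^ p}, c = 1 := by
      intro c hc
      have h1 : c ∈ Subgroup.normalClosure {c : G | (∃ a ∈ Cfsg.pCore p G, ∃ b ∈ Cfsg.pCore p G,
          c = a * b * a⁻¹ * b⁻¹) ∨ ∃ a ∈ Cfsg.pCore p G, c = a ^ p} :=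
        Subgroup.subset_normalClosure hc
      rwa [hT1, Subgroup.mem_bot] at h1
    have hQab : ∀ a ∈ Cfsg.pCore p G, ∀ b ∈ Cfsg.pCore p G, a * b = b * a := by
      intro a ha b hb
      have h1 := hSQ1 _ (Or.inl ⟨a, ha, b, hb, rfl⟩)
      calc a * b = (a * b * a⁻¹ * b⁻¹) * (b * a) := by group
        _ = b * a := by rw [h1, one_mul]
    have hQexp : ∀ a ∈ Cfsg.pCore p G, a ^ p = 1 := fun a ha => hSQ1 _ (Or.inr ⟨a, ha, rfl⟩)
    have hMP : Subgroup.normalClosure ({a₀ * b₀ * a₀⁻¹ * b₀⁻¹} : Set G) ≤ (P : Subgroup G) :=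
      hMQ.trans hQP
    obtain ⟨x, hx, hxR⟩ := exists_zpowers_sup_of_not_le_frattini (P : Subgroup G) hgen
      (Subgroup.normalClosure ({a₀ * b₀ * a₀⁻¹ * b₀⁻¹} : Set G) ⊓ (P : Subgroup G)) inf_le_right
      (step1 _ hMn hM1)
    rw [inf_eq_left.mpr hMP] at hxR
    haveI : IsCyclic ↥(Cfsg.pCore p G ⊓ Subgroup.zpowers x) :=
      Subgroup.isCyclic_of_le (inf_le_right : Cfsg.pCore p G ⊓ Subgroup.zpowers x ≤ Subgroup.zpowers x)
    obtain ⟨⟨y, hyY⟩, hygen⟩ :=
      IsCyclic.exists_generator (α := ↥(Cfsg.pCore p G ⊓ Subgroup.zpowers x))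
    have hyQ : y ∈ Cfsg.pCore p G := hyY.1
    have hyx : y ∈ Subgroup.zpowers x := hyY.2
    have hgenQ : ∀ q ∈ Cfsg.pCore p G, ∃ k : ℕ,
        ∃ m ∈ Subgroup.normalClosure ({a₀ * b₀ * a₀⁻¹ * b₀⁻¹} : Set G), q = y ^ k * m := by
      intro q hq
      have hqP : q ∈ Subgroup.zpowers x ⊔ Subgroup.normalClosure ({a₀ * b₀ * a₀⁻¹ * b₀⁻¹} : Set G) :=
        hxR ▸ hQP hq
      obtain ⟨z, hz, m, hm, rfl⟩ := Subgroup.mem_sup_of_normal_right.mp hqP
      have hzQ : z ∈ Cfsg.pCore p G := by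
        have h1 := (Cfsg.pCore p G).mul_mem hq ((Cfsg.pCore p G).inv_mem (hMQ hm))
        simpa using h1
      have hzY : (⟨z, ⟨hzQ, hz⟩⟩ : ↥(Cfsg.pCore p G ⊓ Subgroup.zpowers x))
          ∈ Subgroup.zpowers (⟨y, hyY⟩ : ↥(Cfsg.pCore p G ⊓ Subgroup.zpowers x)) := hygen _
      obtain ⟨k, hk⟩ := mem_powers_iff_mem_zpowers.mpr hzY
      refine ⟨k, m, hm, ?_⟩
      have h1 := congrArg Subtype.val hk
      simp only [Subgroup.coe_pow] at h1
      rw [h1]
    by_cases hyM : y ∈ Subgroup.normalClosure ({a₀ * b₀ * a₀⁻¹ * b₀⁻¹} : Set G)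
    · intro q hq
      obtain ⟨k, m, hm, rfl⟩ := hgenQ q hq
      exact Subgroup.mul_mem _ (Subgroup.pow_mem _ hyM k) hm
    · exfalso
      have hyP : ∀ t ∈ (P : Subgroup G), t * y = y * t := by
        intro t ht
        have htP : t ∈ Subgroup.zpowers x
            ⊔ Subgroup.normalClosure ({a₀ * b₀ * a₀⁻¹ * b₀⁻¹} : Set G) := hxR ▸ ht
        obtain ⟨z, hz, m, hm, rfl⟩ := Subgroup.mem_sup_of_normal_right.mp htP
        obtain ⟨i, rfl⟩ := Subgroup.mem_zpowers_iff.mp hz
        obtain ⟨j, hj⟩ := Subgroup.mem_zpowers_iff.mp hyx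
        have h1 : x ^ i * y = y * x ^ i := by
          rw [← hj, ← zpow_add, ← zpow_add, add_comm]
        have h2 : m * y = y * m := hQab m (hMQ hm) y hyQ
        calc x ^ i * m * y = x ^ i * (m * y) := by group
          _ = x ^ i * (y * m) := by rw [h2]
          _ = (x ^ i * y) * m := by group
          _ = (y * x ^ i) * m := by rw [h1]
          _ = y * (x ^ i * m) := by group
      have hidx : ((P : Subgroup G).index).Coprime p :=
        ((Nat.Prime.coprime_iff_not_dvd hp).mpr P.not_dvd_index).symm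
      obtain ⟨u, huQ, huM, hu⟩ := exists_invariant_zpowers (Cfsg.pCore p G)
        (Subgroup.normalClosure ({a₀ * b₀ * a₀⁻¹ * b₀⁻¹} : Set G)) (P : Subgroup G) hMQ hQab hQexp
        hidx y hyQ hyM hyP hgenQ
      have hUn : (Subgroup.zpowers u).Normal := by
        refine ⟨fun n hn g => ?_⟩
        obtain ⟨i, rfl⟩ := Subgroup.mem_zpowers_iff.mp hn
        have h1 : g * u ^ i * g⁻¹ = (g * u * g⁻¹) ^ i := by
          rw [conj_zpow]
        rw [h1]
        exact Subgroup.zpow_mem _ (hu g) i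
      have hU1 : Subgroup.zpowers u ≠ ⊥ := by
        intro h
        have h1 : u ∈ (⊥ : Subgroup G) := h ▸ Subgroup.mem_zpowers u
        rw [Subgroup.mem_bot] at h1
        exact huM (h1 ▸ Subgroup.one_mem _)
      have hcU := hc₀N _ hUn hU1
      obtain ⟨i, hi⟩ := mem_powers_iff_mem_zpowers.mpr hcU
      have hi' : u ^ i = a₀ * b₀ * a₀⁻¹ * b₀⁻¹ := hi
      by_cases hpi : p ∣ i
      · obtain ⟨c, rfl⟩ := hpi
        rw [pow_mul, hQexp u huQ, one_pow] at hi'
        exact hc₀1 hi'.symm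
      · exact huM (Cfsg.Agent.Lib.helper52.mem_of_pow_mem_of_coprime
          ((Nat.Prime.coprime_iff_not_dvd hp).mpr hpi).symm (hQexp u huQ) (hi' ▸ hc₀M))
  -- E(G) ≤ M
  have hE : Cfsg.layer G ≤ Subgroup.normalClosure ({a₀ * b₀ * a₀⁻¹ * b₀⁻¹} : Set G) := by
    apply sSup_le
    intro K hK
    rcases Cfsg.Agent.Lib.helper28.isComponent_le_or_commute hK hMn.isSubnormal with h | h
    · exact h
    exfalso
    haveI hN₂n : (Subgroup.normalClosure (K : Set G)).Normal := Subgroup.normalClosure_normal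
    have hKN₂ : K ≤ Subgroup.normalClosure (K : Set G) := Subgroup.subset_normalClosure
    have hN₂1 : Subgroup.normalClosure (K : Set G) ≠ ⊥ := fun h0 =>
      Cfsg.Agent.Lib.helper28.isComponent_ne_bot hK (le_bot_iff.mp (h0 ▸ hKN₂))
    have hMN₂ := hMle _ hN₂n hN₂1
    have hN₂c : Subgroup.normalClosure (K : Set G)
        ≤ Subgroup.centralizer ((Subgroup.normalClosure ({a₀ * b₀ * a₀⁻¹ * b₀⁻¹} : Set G) : Subgroup G) : Set G) :=
      Subgroup.normalClosure_le_normal (Subgroup.commutator_eq_bot_iff_le_centralizer.mp h)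
    have hN₂perf : ⁅Subgroup.normalClosure (K : Set G), Subgroup.normalClosure (K : Set G)⁆
        = Subgroup.normalClosure (K : Set G) := by
      apply le_antisymm
      · rw [Subgroup.commutator_le]
        intro a ha b hb
        exact Subgroup.mul_mem _ (Subgroup.mul_mem _ (Subgroup.mul_mem _ ha hb)
          (Subgroup.inv_mem _ ha)) (Subgroup.inv_mem _ hb)
      · apply Subgroup.normalClosure_le_normal
        have h1 : K ≤ ⁅Subgroup.normalClosure (K : Set G), Subgroup.normalClosure (K : Set G)⁆ := by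
          calc K = ⁅K, K⁆ := (Cfsg.Agent.Lib.helper28.isComponent_isPerfect hK).symm
            _ ≤ _ := Subgroup.commutator_mono hKN₂ hKN₂
        exact h1
    have hperf : Group.IsPerfect ↥(Subgroup.normalClosure (K : Set G)) :=
      Subgroup.isPerfect_iff.mpr hN₂perf
    have hMab : ∀ a ∈ Subgroup.normalClosure ({a₀ * b₀ * a₀⁻¹ * b₀⁻¹} : Set G),
        ∀ b ∈ Subgroup.normalClosure ({a₀ * b₀ * a₀⁻¹ * b₀⁻¹} : Set G), a * b = b * a :=
      fun a ha b hb => Subgroup.mem_centralizer_iff.mp (hN₂c (hMN₂ hb)) a ha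
    have hMP : Subgroup.normalClosure ({a₀ * b₀ * a₀⁻¹ * b₀⁻¹} : Set G) ≤ (P : Subgroup G) := by
      have h1 : Subgroup.normalClosure ({a₀ * b₀ * a₀⁻¹ * b₀⁻¹} : Set G) ≤ Cfsg.fittingSubgroup G := by
        apply Cfsg.Agent.Lib.helper28.le_fittingSubgroup hMn
        haveI : IsMulCommutative ↥(Subgroup.normalClosure ({a₀ * b₀ * a₀⁻¹ * b₀⁻¹} : Set G)) :=
          ⟨⟨fun a b => Subtype.ext (hMab a a.2 b b.2)⟩⟩
        open scoped IsMulCommutative in exact inferInstance
      exact (h1.trans hFp).trans hQP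
    obtain ⟨Q₂, hQ₂⟩ := Cfsg.Agent.Lib.helper53.exists_sylow_eq_inf_normal P
      (Subgroup.normalClosure (K : Set G))
    have hMΦ : Subgroup.normalClosure ({a₀ * b₀ * a₀⁻¹ * b₀⁻¹} : Set G)
        ≤ (frattini ↥(P : Subgroup G)).map (P : Subgroup G).subtype := by
      intro z hz
      have hzN₂ : z ∈ Subgroup.normalClosure (K : Set G) := hMN₂ hz
      have hzQ₂ : (⟨z, hzN₂⟩ : ↥(Subgroup.normalClosure (K : Set G)))
          ∈ (Q₂ : Subgroup ↥(Subgroup.normalClosure (K : Set G))) := by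
        have h1 : z ∈ (Q₂ : Subgroup ↥(Subgroup.normalClosure (K : Set G))).map
            (Subgroup.normalClosure (K : Set G)).subtype := by
          rw [hQ₂]; exact ⟨hMP hz, hzN₂⟩
        obtain ⟨z', hz', hzc⟩ := h1
        have h2 : z' = ⟨z, hzN₂⟩ := Subtype.ext hzc
        rwa [h2] at hz'
      have hzcen : (⟨z, hzN₂⟩ : ↥(Subgroup.normalClosure (K : Set G)))
          ∈ Subgroup.center ↥(Subgroup.normalClosure (K : Set G)) := by
        rw [Subgroup.mem_center_iff]
        intro g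
        apply Subtype.ext
        exact (Subgroup.mem_centralizer_iff.mp (hN₂c g.2) z hz).symm
      have hmem := Cfsg.Agent.Lib.helper3.mem_commutator_sylow_of_mem_center_of_mem_commutator
        Q₂ ⟨z, hzN₂⟩ hzQ₂ hzcen (by rw [hperf.commutator_eq_top]; exact Subgroup.mem_top _)
      have hmap : (commutator ↥(Q₂ : Subgroup ↥(Subgroup.normalClosure (K : Set G)))).map
          ((Subgroup.normalClosure (K : Set G)).subtype.comp
            (Q₂ : Subgroup ↥(Subgroup.normalClosure (K : Set G))).subtype)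
          ≤ (frattini ↥(P : Subgroup G)).map (P : Subgroup G).subtype := by
        rw [commutator_eq_closure, MonoidHom.map_closure, Subgroup.closure_le]
        rintro _ ⟨_, ⟨a, b, rfl⟩, rfl⟩
        have hmemP : ∀ c : ↥(Q₂ : Subgroup ↥(Subgroup.normalClosure (K : Set G))),
            ((c : ↥(Subgroup.normalClosure (K : Set G))) : G) ∈ (P : Subgroup G) := by
          intro c
          have h1 : ((c : ↥(Subgroup.normalClosure (K : Set G))) : G)
              ∈ (Q₂ : Subgroup ↥(Subgroup.normalClosure (K : Set G))).map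
                (Subgroup.normalClosure (K : Set G)).subtype := ⟨c, c.2, rfl⟩
          rw [hQ₂] at h1
          exact h1.1
        have h1 := comm_mem_frattini_map (P : Subgroup G) hPp (hmemP a) (hmemP b)
        simpa [commutatorElement_def] using h1
      exact hmap ⟨_, hmem, rfl⟩
    have h3 := Subgroup.normal_le_normalCore.mpr hMΦ
    rw [hfrat, le_bot_iff] at h3
    exact hM1 h3
  have hFM : Cfsg.generalizedFittingSubgroup G
      ≤ Subgroup.normalClosure ({a₀ * b₀ * a₀⁻¹ * b₀⁻¹} : Set G) := sup_le hE hF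
  have hFne : Cfsg.generalizedFittingSubgroup G ≠ ⊥ := by
    intro h
    have h1 := Cfsg.Agent.Lib.helper28.centralizer_generalizedFittingSubgroup_le G
    rw [h] at h1
    have h2 : a₀ * b₀ * a₀⁻¹ * b₀⁻¹ ∈ (⊥ : Subgroup G) := by
      apply h1
      rw [Subgroup.mem_centralizer_iff]
      intro y hy
      have hy' : y ∈ (⊥ : Subgroup G) := hy
      rw [Subgroup.mem_bot] at hy'
      rw [hy', one_mul, mul_one]
    exact hc₀1 (Subgroup.mem_bot.mp h2)
  have hFall : ∀ K : Subgroup G, K.Normal → K ≠ ⊥ → Cfsg.generalizedFittingSubgroup G ≤ K :=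
    fun K hK hK1 => hFM.trans (hMle K hK hK1)
  refine ⟨⟨hFne, hFall⟩, ?_, ?_⟩
  · -- the image of `P` is cyclic
    obtain ⟨x, hx, hxR⟩ := exists_zpowers_sup_of_not_le_frattini (P : Subgroup G) hgen
      (Cfsg.generalizedFittingSubgroup G ⊓ (P : Subgroup G)) inf_le_right (step1 _ hFn hFne)
    have h1 : (P : Subgroup G).map (QuotientGroup.mk' (Cfsg.generalizedFittingSubgroup G))
        = Subgroup.zpowers (QuotientGroup.mk' (Cfsg.generalizedFittingSubgroup G) x) := by
      conv_lhs => rw [← hxR]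
      rw [Subgroup.map_sup, MonoidHom.map_zpowers]
      have h2 : (Cfsg.generalizedFittingSubgroup G ⊓ (P : Subgroup G)).map
          (QuotientGroup.mk' (Cfsg.generalizedFittingSubgroup G)) = ⊥ := by
        rw [eq_bot_iff, ← QuotientGroup.map_mk'_self (Cfsg.generalizedFittingSubgroup G)]
        exact Subgroup.map_mono inf_le_left
      rw [h2, sup_bot_eq]
    rw [h1]
    infer_instance
  · intro hnc K L hK hL
    by_contra hcon
    push Not at hcon
    have hcomp : ∀ x y : G, (MulAut.conj y).toMonoidHom.comp (MulAut.conj x).toMonoidHom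
        = (MulAut.conj (y * x)).toMonoidHom := by
      intro x y
      ext z
      simp [MulAut.conj_apply, mul_assoc]
    have key : ∀ S : Set (Subgroup G), (∀ L' ∈ S, Cfsg.IsComponent L') →
        (∀ L' ∈ S, ∀ x ∈ (P : Subgroup G), L'.map (MulAut.conj x).toMonoidHom ∈ S) →
        S.Nonempty → a₀ * b₀ * a₀⁻¹ * b₀⁻¹ ∈ sSup S := by
      intro S hS1 hS2 hSne
      have hmaple : ∀ x ∈ (P : Subgroup G), (sSup S).map (MulAut.conj x).toMonoidHom ≤ sSup S := by
        intro x hx
        rw [Subgroup.map_le_iff_le_comap]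
        apply sSup_le
        intro L' hL'
        rw [← Subgroup.map_le_iff_le_comap]
        exact le_sSup (hS2 L' hL' x hx)
      have hPn : (P : Subgroup G) ≤ Subgroup.normalizer ((sSup S : Subgroup G) : Set G) := by
        intro x hx
        rw [Subgroup.mem_normalizer_iff]
        intro n
        constructor
        · intro hn
          exact hmaple x hx ⟨n, hn, rfl⟩
        · intro hn
          have h1 := hmaple x⁻¹ ((P : Subgroup G).inv_mem hx) ⟨_, hn, rfl⟩
          have e : (MulAut.conj x⁻¹).toMonoidHom (x * n * x⁻¹) = n := by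
            simp [MulAut.conj_apply, mul_assoc]
          rwa [e] at h1
      have hgenS : sSup S ≤ Subgroup.closure {g : G | g ∈ sSup S ∧ (orderOf g).Coprime p} := by
        apply sSup_le
        intro L' hL'
        have hperf : Group.IsPerfect ↥L' :=
          Subgroup.isPerfect_iff.mpr (Cfsg.Agent.Lib.helper28.isComponent_isPerfect (hS1 L' hL'))
        refine (perfect_le_closure_coprime p L' hperf).trans ?_
        apply Subgroup.closure_mono
        intro g hg
        exact ⟨le_sSup hL' hg.1, hg.2⟩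
      have hnot : ¬ (sSup S ⊓ (P : Subgroup G)
          ≤ (frattini ↥(P : Subgroup G)).map (P : Subgroup G).subtype) := by
        intro hle
        have hcop := relative_tate P (sSup S) hPn hgenS hle
        obtain ⟨L', hL'⟩ := hSne
        have hcop' : (Nat.card ↥L').Coprime p :=
          Nat.Coprime.coprime_dvd_left (Subgroup.card_dvd_of_le (le_sSup hL')) hcop
        have h1 := Cfsg.Agent.Lib.helper27.subnormal_coprime_le_pPrimeCore p L' (hS1 L' hL').1 hcop'
        rw [hcore, le_bot_iff] at h1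
        exact Cfsg.Agent.Lib.helper28.isComponent_ne_bot (hS1 L' hL') h1
      exact step2 (sSup S) hPn hnot a₀ ha₀ b₀ hb₀
    -- the two orbits
    have hS₁ := key {L' : Subgroup G | ∃ x ∈ (P : Subgroup G), L' = K.map (MulAut.conj x).toMonoidHom}
      (by
        rintro L' ⟨x, -, rfl⟩
        exact Cfsg.Agent.Lib.helper27.isComponent_map_conj x hK)
      (by
        rintro L' ⟨x, hx, rfl⟩ y hy
        refine ⟨y * x, (P : Subgroup G).mul_mem hy hx, ?_⟩
        rw [Subgroup.map_map, hcomp])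
      ⟨K.map (MulAut.conj 1).toMonoidHom, 1, (P : Subgroup G).one_mem, rfl⟩
    have hS₂ := key {L' : Subgroup G | Cfsg.IsComponent L' ∧
        ∀ x ∈ (P : Subgroup G), L' ≠ K.map (MulAut.conj x).toMonoidHom}
      (fun L' hL' => hL'.1)
      (by
        rintro L' ⟨hL'1, hL'2⟩ y hy
        refine ⟨Cfsg.Agent.Lib.helper27.isComponent_map_conj y hL'1, ?_⟩
        intro x hx heq
        apply hL'2 (y⁻¹ * x) ((P : Subgroup G).mul_mem ((P : Subgroup G).inv_mem hy) hx)
        have h1 : (L'.map (MulAut.conj y).toMonoidHom).map (MulAut.conj y⁻¹).toMonoidHom = L' := by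
          rw [Subgroup.map_map, hcomp, inv_mul_cancel]
          have e : (MulAut.conj (1 : G)).toMonoidHom = MonoidHom.id G := by
            ext z; simp
          rw [e, Subgroup.map_id]
        rw [← h1, heq, Subgroup.map_map, hcomp])
      ⟨L, hL, hcon⟩
    -- the two sups commute
    have hcomm : sSup {L' : Subgroup G | ∃ x ∈ (P : Subgroup G),
          L' = K.map (MulAut.conj x).toMonoidHom}
        ≤ Subgroup.centralizer ((sSup {L' : Subgroup G | Cfsg.IsComponent L' ∧
          ∀ x ∈ (P : Subgroup G), L' ≠ K.map (MulAut.conj x).toMonoidHom} : Subgroup G) : Set G) := by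
      apply sSup_le
      rintro K' ⟨x, hx, rfl⟩
      rw [Subgroup.le_centralizer_iff]
      apply sSup_le
      rintro L' ⟨hL'1, hL'2⟩
      rw [← Subgroup.commutator_eq_bot_iff_le_centralizer]
      exact Cfsg.Agent.Lib.helper28.isComponent_commute hL'1
        (Cfsg.Agent.Lib.helper27.isComponent_map_conj x hK) (hL'2 x hx)
    have hlayer : Cfsg.layer G ≤ sSup {L' : Subgroup G | ∃ x ∈ (P : Subgroup G),
          L' = K.map (MulAut.conj x).toMonoidHom}
        ⊔ sSup {L' : Subgroup G | Cfsg.IsComponent L' ∧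
          ∀ x ∈ (P : Subgroup G), L' ≠ K.map (MulAut.conj x).toMonoidHom} := by
      apply sSup_le
      intro L' hL'
      by_cases h : ∃ x ∈ (P : Subgroup G), L' = K.map (MulAut.conj x).toMonoidHom
      · exact (le_sSup (show L' ∈ {L' : Subgroup G | ∃ x ∈ (P : Subgroup G),
          L' = K.map (MulAut.conj x).toMonoidHom} from h)).trans le_sup_left
      · push Not at h
        exact (le_sSup (show L' ∈ {L' : Subgroup G | Cfsg.IsComponent L' ∧
          ∀ x ∈ (P : Subgroup G), L' ≠ K.map (MulAut.conj x).toMonoidHom} from ⟨hL', h⟩)).trans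
          le_sup_right
    have hc₀layer : a₀ * b₀ * a₀⁻¹ * b₀⁻¹ ∈ Cfsg.layer G := by
      have h1 : sSup {L' : Subgroup G | ∃ x ∈ (P : Subgroup G),
          L' = K.map (MulAut.conj x).toMonoidHom} ≤ Cfsg.layer G := by
        apply sSup_le
        rintro K' ⟨x, hx, rfl⟩
        exact le_sSup (Cfsg.Agent.Lib.helper27.isComponent_map_conj x hK)
      exact h1 hS₁
    have hcen : a₀ * b₀ * a₀⁻¹ * b₀⁻¹
        ∈ Subgroup.centralizer ((Cfsg.generalizedFittingSubgroup G : Subgroup G) : Set G) := by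
      have h1 : Cfsg.generalizedFittingSubgroup G
          ≤ Subgroup.centralizer ((Subgroup.zpowers (a₀ * b₀ * a₀⁻¹ * b₀⁻¹) : Subgroup G) : Set G) := by
        apply sup_le
        · refine hlayer.trans (sup_le ?_ ?_)
          · rw [Subgroup.le_centralizer_iff, Subgroup.zpowers_le]
            exact (Subgroup.le_centralizer_iff.mp hcomm) hS₂
          · rw [Subgroup.le_centralizer_iff, Subgroup.zpowers_le]
            exact hcomm hS₁
        · rw [Subgroup.le_centralizer_iff, Subgroup.zpowers_le]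
          have h2 := Cfsg.Agent.Lib.helper28.commutator_layer_fittingSubgroup G
          rw [Subgroup.commutator_eq_bot_iff_le_centralizer] at h2
          exact h2 hc₀layer
      exact (Subgroup.le_centralizer_iff.mp h1) (Subgroup.mem_zpowers _)
    have hCne : Subgroup.centralizer ((Cfsg.generalizedFittingSubgroup G : Subgroup G) : Set G) ≠ ⊥ := by
      intro h
      rw [h, Subgroup.mem_bot] at hcen
      exact hc₀1 hcen
    have hFC := hFall _ inferInstance hCne
    apply hnc
    refine ⟨⟨fun a b => Subtype.ext ?_⟩⟩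
    exact (Subgroup.mem_centralizer_iff.mp (hFC b.2) a a.2)

end Cfsg.Agent.S4172
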