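import Cfsg.Statements.S4176
import Cfsg.Agent.Lib.helper73.OrbitAvg
import Cfsg.Agent.Lib.helper73.PSolv

set_option autoImplicit false
open Cfsg

namespace Cfsg.Agent.S4176

open Cfsg.Agent.Lib.helper73 in
/-- Let k be a field of prime characteristic p, H a finite p-soluble group and ρ a k-linear representation of H on V. Let a be a vector that is fixed by some Sylow p-subgroup of H and whose H-orbit spans V. Then the space of H-fixed vectors has dimension at most 1, and every vector b whose H-orbit has size coprime to the size of the orbit of a is fixed by H. -/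
theorem result {k V H : Type*} [Field k] (p : ℕ) [Fact p.Prime] [CharP k p] [AddCommGroup V] [Module k V]
    [Group H] [Finite H] (hsol : Cfsg.IsPSolvable p H) (ρ : Representation k H V) (a : V)
    (hfix : ∃ P : Sylow p H, ∀ x : H, x ∈ (P : Subgroup H) → ρ x a = a)
    (hspan : Submodule.span k {u : V | ∃ h : H, ρ h a = u} = ⊤) :
    Module.finrank k ρ.invariants ≤ 1 ∧
    ∀ b : V, (Nat.card {u : V | ∃ h : H, ρ h a = u}).Coprime (Nat.card {u : V | ∃ h : H, ρ h b = u}) → ∀ h : H, ρ h b = b := by
  classical
  have hp : p.Prime := Fact.out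
  let _ : MulAction H V := MulAction.compHom V (ρ : H →* Module.End k V)
  have horb : ∀ v : V, {u : V | ∃ h : H, ρ h v = u} = MulAction.orbit H v := fun v => rfl
  have hcard : ∀ v : V, Nat.card {u : V | ∃ h : H, ρ h v = u} = (MulAction.stabilizer H v).index := by
    intro v
    rw [MulAction.index_stabilizer, horb]
    exact Nat.card_coe_set_eq _
  have hne : ∀ d : ℕ, ¬ p ∣ d → (d : k) ≠ 0 := fun d hd h0 =>
    hd ((CharP.cast_eq_zero_iff k p d).mp h0)
  have hne' : ∀ d : ℕ, d.Coprime p → (d : k) ≠ 0 := fun d hd =>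
    hne d ((Nat.Prime.coprime_iff_not_dvd hp).mp hd.symm)
  obtain ⟨P, hP⟩ := hfix
  have hPA : (P : Subgroup H) ≤ MulAction.stabilizer H a := fun x hx => hP x hx
  have hAidx : ¬ p ∣ (MulAction.stabilizer H a).index := fun h =>
    P.not_dvd_index (h.trans (Subgroup.index_dvd_of_le hPA))
  have hAcop : ((MulAction.stabilizer H a).index).Coprime p :=
    ((Nat.Prime.coprime_iff_not_dvd hp).mpr hAidx).symm
  have hspan' : Submodule.span k (Set.range fun h : H => ρ h a) = ⊤ := hspan
  have hO : (Nat.card (Set.range fun h : H => ρ h a) : k) ≠ 0 := by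
    apply hne
    have h2 : Nat.card (Set.range fun h : H => ρ h a) = (MulAction.stabilizer H a).index := hcard a
    rw [h2]
    exact hAidx
  constructor
  · obtain ⟨Q, hQ, j, hj⟩ := exists_pcomplement hp hsol
    obtain ⟨s, hs, hs'⟩ := exists_invariant_spanning ρ a hspan' Q
      (fun g => exists_mem_smul_eq_of_coprime_index a Q
        (by rw [hj]; exact Nat.Coprime.pow_right j hAcop) g)
      (hne' _ hQ) hO
    have hsmem : s ∈ ρ.invariants := by
      rw [Representation.mem_invariants]
      exact hs
    apply finrank_le_one (⟨s, hsmem⟩ : ρ.invariants)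
    rintro ⟨w, hw⟩
    rw [Representation.mem_invariants] at hw
    obtain ⟨c, hc⟩ := hs' w (fun h _ => hw h)
    exact ⟨c, Subtype.ext hc.symm⟩
  · intro b hcop g
    rw [hcard a, hcard b] at hcop
    set B := MulAction.stabilizer H b with hBdef
    have hB : Cfsg.IsPSolvable p B := isPSolvable_subgroup hp hsol B
    obtain ⟨K, hK, j, hj⟩ := exists_pcomplement hp hB
    -- `B` is transitive on the orbit of `a`
    have htB : ∀ g : H, ∃ x ∈ B, x • a = g • a := fun g =>
      exists_mem_stabilizer_smul_eq a b hcop g
    have horbB : MulAction.orbit B a = MulAction.orbit H a := by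
      apply Set.Subset.antisymm
      · rintro _ ⟨x, rfl⟩
        exact ⟨(x : H), rfl⟩
      · rintro _ ⟨g, rfl⟩
        obtain ⟨x, hx, hxa⟩ := htB g
        exact ⟨⟨x, hx⟩, hxa⟩
    have hstabB : (MulAction.stabilizer B a).index = (MulAction.stabilizer H a).index := by
      rw [MulAction.index_stabilizer, MulAction.index_stabilizer, horbB]
    have htK : ∀ x : B, ∃ h ∈ K, h • a = x • a := fun x =>
      exists_mem_smul_eq_of_coprime_index a K
        (by rw [hstabB, hj]; exact Nat.Coprime.pow_right j hAcop) x
    obtain ⟨s, hs, hs'⟩ := exists_invariant_spanning ρ a hspan' (K.map B.subtype)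
      (fun g => by
        obtain ⟨x, hx, hxa⟩ := htB g
        obtain ⟨h, hh, hha⟩ := htK ⟨x, hx⟩
        refine ⟨(h : H), Subgroup.mem_map_of_mem B.subtype hh, ?_⟩
        exact hha.trans hxa)
      (by
        rw [Subgroup.card_subtype]
        exact hne' _ hK) hO
    obtain ⟨c, hc⟩ := hs' b (fun h hh => by
      obtain ⟨x, -, rfl⟩ := Subgroup.mem_map.mp hh
      exact x.2)
    rw [hc, map_smul, hs g]

end Cfsg.Agent.S4176
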