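import Cfsg.Statements.S4177
import Cfsg.Agent.Lib.helper73.OrbitAvg

set_option autoImplicit false
open Cfsg

namespace Cfsg.Agent.S4177

/-- Let k be a field whose characteristic does not divide the order of the finite group H (for instance a field of characteristic zero), and ρ a k-linear representation of H on V. Let a be a vector whose H-orbit spans V. Then the space of H-fixed vectors has dimension at most 1, and every vector b whose H-orbit has size coprime to the size of the orbit of a is fixed by H. -/
theorem result {k V H : Type*} [Field k] [AddCommGroup V] [Module k V] [Group H] [Finite H]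
    (hchar : ¬ ringChar k ∣ Nat.card H) (ρ : Representation k H V) (a : V)
    (hspan : Submodule.span k {u : V | ∃ h : H, ρ h a = u} = ⊤) :
    Module.finrank k ρ.invariants ≤ 1 ∧
    ∀ b : V, (Nat.card {u : V | ∃ h : H, ρ h a = u}).Coprime (Nat.card {u : V | ∃ h : H, ρ h b = u}) → ∀ h : H, ρ h b = b := by
  classical
  let _ : MulAction H V := MulAction.compHom V (ρ : H →* Module.End k V)
  have hsmul : ∀ (h : H) (v : V), h • v = ρ h v := fun _ _ => rfl
  have horb : ∀ v : V, {u : V | ∃ h : H, ρ h v = u} = MulAction.orbit H v := fun v => rfl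
  have hcard : ∀ v : V, Nat.card {u : V | ∃ h : H, ρ h v = u} = (MulAction.stabilizer H v).index := by
    intro v
    rw [MulAction.index_stabilizer, horb]
    exact Nat.card_coe_set_eq _
  have hdvd : ∀ d : ℕ, d ∣ Nat.card H → (d : k) ≠ 0 := by
    intro d hd h0
    exact hchar (((ringChar.spec k d).mp h0).trans hd)
  have hspan' : Submodule.span k (Set.range fun h : H => ρ h a) = ⊤ := hspan
  have hO : (Nat.card (Set.range fun h : H => ρ h a) : k) ≠ 0 := by
    apply hdvd
    have := hcard a
    have h2 : Nat.card (Set.range fun h : H => ρ h a) = (MulAction.stabilizer H a).index := this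
    rw [h2]
    exact Subgroup.index_dvd_card _
  constructor
  · obtain ⟨s, hs, hs'⟩ := Cfsg.Agent.Lib.helper73.exists_invariant_spanning ρ a hspan' ⊤
      (fun g => ⟨g, Subgroup.mem_top g, rfl⟩)
      (hdvd _ (Subgroup.card_subgroup_dvd_card _)) hO
    have hsmem : s ∈ ρ.invariants := by
      rw [Representation.mem_invariants]
      exact hs
    apply finrank_le_one (⟨s, hsmem⟩ : ρ.invariants)
    rintro ⟨w, hw⟩
    rw [Representation.mem_invariants] at hw
    obtain ⟨c, hc⟩ := hs' w (fun h _ => hw h)
    exact ⟨c, Subtype.ext hc.symm⟩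
  · intro b hcop g
    rw [hcard a, hcard b] at hcop
    obtain ⟨s, hs, hs'⟩ := Cfsg.Agent.Lib.helper73.exists_invariant_spanning ρ a hspan'
      (MulAction.stabilizer H b)
      (fun g => Cfsg.Agent.Lib.helper73.exists_mem_stabilizer_smul_eq a b hcop g)
      (hdvd _ (Subgroup.card_subgroup_dvd_card _)) hO
    obtain ⟨c, hc⟩ := hs' b (fun h hh => hh)
    rw [hc, map_smul, hs g]

end Cfsg.Agent.S4177
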