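import Cfsg.Statements.S4178

set_option autoImplicit false
open Cfsg

namespace Cfsg.Agent.S4178

/-- The contragredient action of a group of linear automorphisms on the dual space. -/
@[reducible] def dualAct {F V : Type*} [Field F] [AddCommGroup V] [Module F V] (H : Subgroup (V ≃ₗ[F] V)) :
    MulAction H (Module.Dual F V) where
  smul h φ := φ.comp (((h⁻¹ : H) : V ≃ₗ[F] V) : V →ₗ[F] V)
  one_smul φ := by
    apply LinearMap.ext
    intro v
    show φ ((((1 : H)⁻¹ : H) : V ≃ₗ[F] V) v) = φ v
    simp
  mul_smul g h φ := by
    apply LinearMap.ext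
    intro v
    show φ ((((g * h)⁻¹ : H) : V ≃ₗ[F] V) v) = φ (((h⁻¹ : H) : V ≃ₗ[F] V) (((g⁻¹ : H) : V ≃ₗ[F] V) v))
    simp [mul_inv_rev]

lemma index_le_orbit {G X : Type*} [Group G] [Finite G] [MulAction G X] (R : Subgroup G) (x : X)
    (hx : MulAction.stabilizer G x ≤ R) : R.index ≤ (MulAction.orbit G x).ncard := by
  rw [← MulAction.index_stabilizer]
  exact Nat.le_of_dvd (Nat.pos_of_ne_zero Subgroup.index_ne_zero_of_finite)
    (Subgroup.index_dvd_of_le hx)

/-- Let F be a finite field with q elements, V a non-zero finite-dimensional F-space of dimension d, H a group of invertible linear maps of V, and R the subgroup of H generated by the elements of H that fix some non-zero vector (have eigenvalue 1). Then the index of R in H is at most q^d − 1; and if H leaves invariant some proper non-zero subspace, the index is at most q^(d/2) − 1. -/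
theorem result {F V : Type*} [Field F] [Fintype F] [AddCommGroup V] [Module F V] [FiniteDimensional F V] [Nontrivial V]
    (H : Subgroup (V ≃ₗ[F] V)) :
    (Subgroup.closure {h : ↥H | ∃ v : V, v ≠ 0 ∧ (h : V ≃ₗ[F] V) v = v}).index ≤ Fintype.card F ^ Module.finrank F V - 1 ∧
    ((∃ W : Submodule F V, W ≠ ⊥ ∧ W ≠ ⊤ ∧ ∀ h ∈ H, ∀ w ∈ W, h w ∈ W) →
      ((Subgroup.closure {h : ↥H | ∃ v : V, v ≠ 0 ∧ (h : V ≃ₗ[F] V) v = v}).index : ℝ) ≤ Real.sqrt ((Fintype.card F : ℝ) ^ Module.finrank F V) - 1) := by
  classical
  have hfinV : Finite V := Module.finite_of_finite F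
  have hfinE : Finite (V ≃ₗ[F] V) :=
    Finite.of_injective (fun e : V ≃ₗ[F] V => (e : V → V)) DFunLike.coe_injective
  set R := Subgroup.closure {h : ↥H | ∃ v : V, v ≠ 0 ∧ (h : V ≃ₗ[F] V) v = v} with hR
  -- stabilizers of nonzero vectors are in `R`
  have hstab : ∀ x : V, x ≠ 0 → MulAction.stabilizer H x ≤ R := by
    intro x hx h hh
    exact Subgroup.subset_closure ⟨x, hx, hh⟩
  -- bound for an invariant subspace `W` of `V`
  have hbound : ∀ W : Submodule F V, (∀ h ∈ H, ∀ w ∈ W, h w ∈ W) → W ≠ ⊥ →
      R.index + 1 ≤ Fintype.card F ^ Module.finrank F W := by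
    intro W hW hne
    obtain ⟨x, hxW, hx0⟩ := Submodule.exists_mem_ne_zero_of_ne_bot hne
    have h1 := index_le_orbit R x (hstab x hx0)
    have h0 : (0 : V) ∉ MulAction.orbit H x := by
      rintro ⟨h, hh⟩
      apply hx0
      have : (h : V ≃ₗ[F] V) x = 0 := hh
      simpa using this
    have hsub : insert (0 : V) (MulAction.orbit H x) ⊆ (W : Set V) := by
      intro y hy
      rcases hy with rfl | ⟨h, rfl⟩
      · exact W.zero_mem
      · exact hW h h.2 x hxW
    have h2 : (insert (0 : V) (MulAction.orbit H x)).ncard = (MulAction.orbit H x).ncard + 1 :=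
      Set.ncard_insert_of_notMem h0 (Set.toFinite _)
    have h3 : (insert (0 : V) (MulAction.orbit H x)).ncard ≤ (W : Set V).ncard :=
      Set.ncard_le_ncard hsub (Set.toFinite _)
    have h4 : (W : Set V).ncard = Fintype.card F ^ Module.finrank F W := by
      rw [← Nat.card_coe_set_eq]
      show Nat.card W = _
      rw [Module.natCard_eq_pow_finrank (K := F) (V := W), Nat.card_eq_fintype_card]
    omega
  constructor
  · have h1 := hbound ⊤ (fun _ _ _ _ => Submodule.mem_top) top_ne_bot
    rw [finrank_top] at h1
    omega
  · rintro ⟨W, hW0, hW1, hW⟩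
    have hb1 := hbound W hW hW0
    -- the dual bound
    have hb2 : R.index + 1 ≤ Fintype.card F ^ Module.finrank F W.dualAnnihilator := by
      let _ := dualAct H
      have hfinD : Finite (Module.Dual F V) := Module.finite_of_finite F
      have hlt : Module.finrank F W < Module.finrank F V := Submodule.finrank_lt hW1
      have hsum := Subspace.finrank_add_finrank_dualAnnihilator_eq W
      have hne : W.dualAnnihilator ≠ ⊥ := by
        intro h
        rw [h, finrank_bot] at hsum
        omega
      obtain ⟨φ, hφW, hφ0⟩ := Submodule.exists_mem_ne_zero_of_ne_bot hne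
      have hsmul : ∀ (h : H) (ψ : Module.Dual F V) (v : V),
          (h • ψ) v = ψ (((h⁻¹ : H) : V ≃ₗ[F] V) v) := fun _ _ _ => rfl
      have hst : MulAction.stabilizer H φ ≤ R := by
        intro h hh
        have hh' : h • φ = φ := hh
        apply Subgroup.subset_closure
        by_contra hcon
        simp only [Set.mem_ofPred_eq, not_exists, not_and] at hcon
        let f : V →ₗ[F] V := ((h : V ≃ₗ[F] V) : V →ₗ[F] V) - LinearMap.id
        have hinj : Function.Injective f := by
          rw [injective_iff_map_eq_zero]
          intro v hv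
          by_contra hv0
          apply hcon v hv0
          have : (h : V ≃ₗ[F] V) v - v = 0 := hv
          exact sub_eq_zero.mp this
        have hsurj : Function.Surjective f := LinearMap.injective_iff_surjective.mp hinj
        apply hφ0
        apply LinearMap.ext
        intro v
        obtain ⟨u, rfl⟩ := hsurj v
        have h1 : (h • φ) ((h : V ≃ₗ[F] V) u) = φ u := by
          rw [hsmul]
          simp
        rw [hh'] at h1
        show φ ((h : V ≃ₗ[F] V) u - u) = (0 : Module.Dual F V) ((h : V ≃ₗ[F] V) u - u)
        rw [map_sub, h1]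
        simp
      have h1 := index_le_orbit R φ hst
      have h0 : (0 : Module.Dual F V) ∉ MulAction.orbit H φ := by
        rintro ⟨h, hh⟩
        apply hφ0
        have hh' : h • φ = 0 := hh
        apply LinearMap.ext
        intro v
        have := hsmul h φ ((h : V ≃ₗ[F] V) v)
        rw [hh'] at this
        simpa using this.symm
      have hsub : insert (0 : Module.Dual F V) (MulAction.orbit H φ) ⊆
          (W.dualAnnihilator : Set (Module.Dual F V)) := by
        intro y hy
        rcases hy with rfl | ⟨h, rfl⟩
        · exact (W.dualAnnihilator).zero_mem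
        · show h • φ ∈ W.dualAnnihilator
          rw [Submodule.mem_dualAnnihilator]
          intro w hw
          rw [hsmul]
          exact (Submodule.mem_dualAnnihilator φ).mp hφW _ (hW _ (h⁻¹ : H).2 w hw)
      have h2 : (insert (0 : Module.Dual F V) (MulAction.orbit H φ)).ncard =
          (MulAction.orbit H φ).ncard + 1 :=
        Set.ncard_insert_of_notMem h0 (Set.toFinite _)
      have h3 : (insert (0 : Module.Dual F V) (MulAction.orbit H φ)).ncard ≤
          (W.dualAnnihilator : Set (Module.Dual F V)).ncard :=
        Set.ncard_le_ncard hsub (Set.toFinite _)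
      have h4 : (W.dualAnnihilator : Set (Module.Dual F V)).ncard =
          Fintype.card F ^ Module.finrank F W.dualAnnihilator := by
        rw [← Nat.card_coe_set_eq]
        show Nat.card W.dualAnnihilator = _
        rw [Module.natCard_eq_pow_finrank (K := F) (V := W.dualAnnihilator),
          Nat.card_eq_fintype_card]
      omega
    have hsum := Subspace.finrank_add_finrank_dualAnnihilator_eq W
    have hsq : (R.index + 1) ^ 2 ≤ Fintype.card F ^ Module.finrank F V := by
      rw [← hsum, pow_add, pow_two]
      exact Nat.mul_le_mul hb1 hb2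
    have hsqR : ((R.index : ℝ) + 1) ^ 2 ≤ (Fintype.card F : ℝ) ^ Module.finrank F V := by
      exact_mod_cast hsq
    have : (R.index : ℝ) + 1 ≤ Real.sqrt ((Fintype.card F : ℝ) ^ Module.finrank F V) :=
      Real.le_sqrt_of_sq_le hsqR
    linarith

end Cfsg.Agent.S4178
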