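import Cfsg.Statements.S4182
import Mathlib
import Cfsg.Agent.Lib.helper66.Basic

set_option autoImplicit false
set_option linter.style.haveILetI false
set_option linter.unusedSectionVars false
open Cfsg

namespace Cfsg.Agent.S4182

open Cfsg.Agent.Lib.helper66

universe u v

/-- A finite `p`-group is not the union of at most `p` proper subgroups. -/
theorem pgroup_cover {G : Type*} [Group G] [Finite G] (p : ℕ) [hp : Fact p.Prime]
    (hG : IsPGroup p G) {ι : Type*} [Fintype ι] (K : ι → Subgroup G) (hK : ∀ i, K i ≠ ⊤)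
    (hcov : ∀ g : G, ∃ i, g ∈ K i) : p + 1 ≤ Fintype.card ι := by
  classical
  by_contra hlt
  have hr : Fintype.card ι ≤ p := by omega
  haveI := Fintype.ofFinite G
  obtain ⟨n, hn⟩ := IsPGroup.iff_card.mp hG
  have hKp : ∀ i, Nat.card (K i) * p ≤ Nat.card G := by
    intro i
    have h1 : (K i).index ≠ 1 := fun h => hK i (Subgroup.index_eq_one.mp h)
    have hdvd : (K i).index ∣ p ^ n := hn ▸ Subgroup.index_dvd_card (K i)
    obtain ⟨m, -, hm⟩ := (Nat.dvd_prime_pow hp.out).mp hdvd
    have hm0 : m ≠ 0 := by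
      rintro rfl; exact h1 (by simpa using hm)
    have hpi : p ≤ (K i).index := by
      rw [hm]
      calc p = p ^ 1 := (pow_one p).symm
        _ ≤ p ^ m := Nat.pow_le_pow_right hp.out.pos (by omega)
    calc Nat.card (K i) * p ≤ Nat.card (K i) * (K i).index := Nat.mul_le_mul_left _ hpi
      _ = Nat.card G := Subgroup.card_mul_index (K i)
  have hsub : (Finset.univ : Finset G).erase 1 ⊆
      Finset.univ.biUnion (fun i => (Finset.univ.filter (fun g => g ∈ K i)).erase 1) := by
    intro g hg
    obtain ⟨i, hi⟩ := hcov g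
    simp only [Finset.mem_biUnion, Finset.mem_univ, true_and, Finset.mem_erase, ne_eq,
      Finset.mem_filter]
    exact ⟨i, (Finset.mem_erase.mp hg).1, hi⟩
  have hcard1 := Finset.card_le_card hsub
  have hcard2 := Finset.card_biUnion_le (s := (Finset.univ : Finset ι))
    (t := fun i => (Finset.univ.filter (fun g => g ∈ K i)).erase 1)
  have hone : ∀ i, ((Finset.univ.filter (fun g => g ∈ K i)).erase (1 : G)).card
      = Nat.card (K i) - 1 := by
    intro i
    rw [Finset.card_erase_of_mem (by simp [(K i).one_mem])]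
    congr 1
    rw [Nat.card_eq_fintype_card, Fintype.card_subtype]
  have hG1 : ((Finset.univ : Finset G).erase 1).card = Nat.card G - 1 := by
    rw [Finset.card_erase_of_mem (Finset.mem_univ _), Finset.card_univ,
      Nat.card_eq_fintype_card]
  rw [hG1] at hcard1
  have hsum : ∑ i : ι, ((Finset.univ.filter (fun g => g ∈ K i)).erase (1 : G)).card * p
      ≤ ∑ _i : ι, (Nat.card G - p) := by
    apply Finset.sum_le_sum
    intro i _
    rw [hone i]
    have := hKp i
    have hpos : 0 < Nat.card (K i) := Nat.card_pos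
    rw [Nat.sub_mul, one_mul]
    omega
  rw [Finset.sum_const, Finset.card_univ, smul_eq_mul] at hsum
  obtain ⟨i₀, -⟩ := hcov 1
  have hGp : p ≤ Nat.card G := by
    have := hKp i₀
    have hpos : 0 < Nat.card (K i₀) := Nat.card_pos
    nlinarith
  have h1 : (Nat.card G - 1) * p ≤ Fintype.card ι * (Nat.card G - p) := by
    calc (Nat.card G - 1) * p
        ≤ (∑ i : ι, ((Finset.univ.filter (fun g => g ∈ K i)).erase (1 : G)).card) * p :=
          Nat.mul_le_mul_right _ (hcard1.trans hcard2)
      _ = ∑ i : ι, ((Finset.univ.filter (fun g => g ∈ K i)).erase (1 : G)).card * p :=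
          Finset.sum_mul _ _ _
      _ ≤ _ := hsum
  have h2 : Fintype.card ι * (Nat.card G - p) ≤ p * (Nat.card G - p) :=
    Nat.mul_le_mul_right _ hr
  have h3 : (Nat.card G - 1) * p ≤ p * (Nat.card G - p) := h1.trans h2
  have hp2 := hp.out.two_le
  have h4 : Nat.card G - 1 ≤ Nat.card G - p := by
    rw [mul_comm] at h3
    exact Nat.le_of_mul_le_mul_left h3 hp.out.pos
  omega

/-- Being generated by `p`-elements. -/
def PGen {G : Type*} [Group G] (p : ℕ) (T : Subgroup G) : Prop :=
  ∃ S : Set G, (∀ s ∈ S, ∃ k : ℕ, orderOf s = p ^ k) ∧ T = Subgroup.closure S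

theorem pGen_sup {G : Type*} [Group G] {p : ℕ} {T U : Subgroup G} (hT : PGen p T)
    (hU : PGen p U) : PGen p (T ⊔ U) := by
  obtain ⟨S, hS, rfl⟩ := hT
  obtain ⟨S', hS', rfl⟩ := hU
  refine ⟨S ∪ S', ?_, (Subgroup.closure_union S S').symm⟩
  rintro s (hs | hs)
  · exact hS s hs
  · exact hS' s hs

theorem pGen_zpowers {G : Type*} [Group G] {p : ℕ} {x : G} (hx : ∃ k : ℕ, orderOf x = p ^ k) :
    PGen p (Subgroup.zpowers x) := by
  refine ⟨{x}, ?_, Subgroup.zpowers_eq_closure x⟩
  rintro s rfl
  exact hx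

theorem pGen_conj {G : Type*} [Group G] {p : ℕ} {T : Subgroup G} (hT : PGen p T) (g : G) :
    PGen p (T.map (MulAut.conj g).toMonoidHom) := by
  obtain ⟨S, hS, rfl⟩ := hT
  refine ⟨(MulAut.conj g).toMonoidHom '' S, ?_, MonoidHom.map_closure _ _⟩
  rintro _ ⟨s, hs, rfl⟩
  obtain ⟨k, hk⟩ := hS s hs
  exact ⟨k, by
    rw [MulEquiv.coe_toMonoidHom, MulEquiv.orderOf_eq]; exact hk⟩

theorem main (p : ℕ) [hp : Fact p.Prime] : ∀ n : ℕ, ∀ (G : Type u) [Group G] [Finite G],
    Nat.card G = n → Subgroup.closure {g : G | ∃ k : ℕ, orderOf g = p ^ k} = ⊤ →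
    ∀ {ι : Type v} [Fintype ι] (K : ι → Subgroup G), (∀ i, K i ≠ ⊤) →
    (∀ g : G, (∃ k : ℕ, orderOf g = p ^ k) → ∃ i, g ∈ K i) → p + 1 ≤ Fintype.card ι := by
  intro n
  induction n using Nat.strong_induction_on with
  | _ n ih =>
  intro G _ _ hn hgen ι _ K hK hcov
  classical
  by_contra hlt
  have hr : Fintype.card ι ≤ p := by omega
  have hcardlt : ∀ T : Subgroup G, T ≠ ⊤ → Nat.card T < Nat.card G := fun T hT =>
    lt_of_le_of_ne (Subgroup.card_le_card_group T) (fun h => hT (Subgroup.eq_top_of_card_eq T h))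
  -- Claim 1: every proper p-generated subgroup lies in some `K i`
  have hC1 : ∀ T : Subgroup G, PGen p T → T ≠ ⊤ → ∃ i, T ≤ K i := by
    intro T hTgen hT
    obtain ⟨S, hS, hTS⟩ := hTgen
    by_contra hno
    push Not at hno
    have hcard : Nat.card T < n := hn ▸ hcardlt T hT
    have hgenT : Subgroup.closure {g : ↥T | ∃ k : ℕ, orderOf g = p ^ k} = ⊤ := by
      rw [eq_top_iff]; intro t _
      have hle : T ≤ (Subgroup.closure {g : ↥T | ∃ k : ℕ, orderOf g = p ^ k}).map T.subtype := by
        rw [MonoidHom.map_closure]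
        conv_lhs => rw [hTS]
        apply Subgroup.closure_mono
        intro s hs
        have hsT : s ∈ T := hTS ▸ Subgroup.subset_closure hs
        obtain ⟨k, hk⟩ := hS s hs
        exact ⟨⟨s, hsT⟩, ⟨k, by rw [Subgroup.orderOf_mk]; exact hk⟩, rfl⟩
      obtain ⟨t', ht', hte⟩ := hle t.2
      have : t' = t := Subtype.ext hte
      exact this ▸ ht'
    have := ih (Nat.card T) hcard ↥T rfl hgenT (fun i => (K i).subgroupOf T)
      (fun i h => hno i (Subgroup.subgroupOf_eq_top.mp h))
      (fun g hg => by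
        obtain ⟨k, hk⟩ := hg
        obtain ⟨i, hi⟩ := hcov (g : G) ⟨k, by rw [Subgroup.orderOf_coe]; exact hk⟩
        exact ⟨i, Subgroup.mem_subgroupOf.mpr hi⟩)
    exact hlt this
  obtain ⟨P⟩ := (inferInstance : Nonempty (Sylow p G))
  have hPelt : ∀ g ∈ (P : Subgroup G), ∃ k : ℕ, orderOf g = p ^ k := fun g hg => by
    obtain ⟨k, hk⟩ := P.2 ⟨g, hg⟩
    have : g ^ p ^ k = 1 := by simpa using congrArg Subtype.val hk
    obtain ⟨m, -, hm⟩ := (Nat.dvd_prime_pow hp.out).mp (orderOf_dvd_of_pow_eq_one this)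
    exact ⟨m, hm⟩
  by_cases hPtop : (P : Subgroup G) = ⊤
  · have hG : IsPGroup p G := by
      intro g
      obtain ⟨k, hk⟩ := P.2 ⟨g, hPtop ▸ Subgroup.mem_top g⟩
      exact ⟨k, by simpa using congrArg Subtype.val hk⟩
    exact hlt (pgroup_cover p hG K hK (fun g => hcov g (hPelt g (hPtop ▸ Subgroup.mem_top g))))
  let 𝒯 : Set (Subgroup G) := {T | T ≠ ⊤ ∧ PGen p T ∧ ¬ p ∣ T.index}
  have hP𝒯 : (P : Subgroup G) ∈ 𝒯 :=
    ⟨hPtop, ⟨(P : Subgroup G), hPelt, (Subgroup.closure_eq (P : Subgroup G)).symm⟩,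
      P.not_dvd_index⟩
  obtain ⟨T, ⟨hTtop, hTgen, hTidx⟩, hTmax⟩ := Set.exists_max_image 𝒯
    (fun T => Nat.card T) (Set.toFinite 𝒯) ⟨P, hP𝒯⟩
  -- conjugates of T
  have hconj𝒯 : ∀ g : G, T.map (MulAut.conj g).toMonoidHom ∈ 𝒯 := by
    intro g
    refine ⟨?_, pGen_conj hTgen g, ?_⟩
    · intro h
      have h1 := card_map_conj T g
      rw [h, Subgroup.card_top] at h1
      exact (hcardlt T hTtop).ne h1.symm
    · have h := Subgroup.index_map_equiv (H := T) (MulAut.conj g)
      intro hd
      apply hTidx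
      rw [← h]
      exact hd
  have hmaxconj : ∀ g : G, ∀ U ∈ 𝒯, T.map (MulAut.conj g).toMonoidHom ≤ U →
      U = T.map (MulAut.conj g).toMonoidHom := by
    intro g U hU hle
    refine (Subgroup.eq_of_le_of_card_ge hle ?_).symm
    rw [card_map_conj]; exact hTmax U hU
  -- every p-element normalises T
  have hnorm : ∀ x : G, (∃ k : ℕ, orderOf x = p ^ k) → x ∈ Subgroup.normalizer (T : Set G) := by
    intro x hx
    obtain ⟨kx, hkx⟩ := hx
    obtain ⟨is, his⟩ := hcov x ⟨kx, hkx⟩
    have hex : ∀ j : ℕ, ∃ i, T.map (MulAut.conj (x ^ j)).toMonoidHom ≤ K i := fun j =>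
      hC1 _ (hconj𝒯 (x ^ j)).2.1 (hconj𝒯 (x ^ j)).1
    choose idx hidx using hex
    -- two equal conjugates
    have hcaseA : ∀ j k : ℕ, j < k → k < p →
        T.map (MulAut.conj (x ^ j)).toMonoidHom = T.map (MulAut.conj (x ^ k)).toMonoidHom →
        x ∈ Subgroup.normalizer (T : Set G) := by
      intro j k hjk hkp heq
      have hk : x ^ k = x ^ j * x ^ (k - j) := by rw [← pow_add]; congr 1; omega
      rw [hk, map_conj_mul] at heq
      have hinj : Function.Injective (Subgroup.map (MulAut.conj (x ^ j)).toMonoidHom) :=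
        Subgroup.map_injective (MulAut.conj (x ^ j)).injective
      have h1 : T.map (MulAut.conj (x ^ (k - j))).toMonoidHom = T := (hinj heq).symm
      have h2 : x ^ (k - j) ∈ Subgroup.normalizer (T : Set G) :=
        (mem_normalizer_iff_map_conj T _).mpr h1
      have hcop : (k - j).Coprime (orderOf x) := by
        rw [hkx]
        apply Nat.Coprime.pow_right
        exact ((Nat.Prime.coprime_iff_not_dvd hp.out).mpr
          (Nat.not_dvd_of_pos_of_lt (by omega) (by omega))).symm
      obtain ⟨m, hm⟩ := exists_pow_eq_self_of_coprime hcop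
      rw [← hm]
      exact pow_mem h2 m
    have hcaseB : ∀ j : ℕ, is = idx j → x ∈ Subgroup.normalizer (T : Set G) := by
      intro j hj
      set Tj := T.map (MulAut.conj (x ^ j)).toMonoidHom with hTj
      have hU : Tj ⊔ Subgroup.zpowers x ∈ 𝒯 := by
        refine ⟨?_, pGen_sup (hconj𝒯 (x ^ j)).2.1 (pGen_zpowers ⟨kx, hkx⟩), ?_⟩
        · intro h
          apply hK is
          rw [eq_top_iff, ← h]
          refine sup_le (hj ▸ hidx j) ?_
          rw [Subgroup.zpowers_le]; exact his
        · intro hdvd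
          exact (hconj𝒯 (x ^ j)).2.2 (hdvd.trans (Subgroup.index_dvd_of_le le_sup_left))
      have hU' := hmaxconj (x ^ j) _ hU le_sup_left
      have hxTj : x ∈ Tj := by
        rw [hTj, ← hU']
        exact le_sup_right (a := Tj) (Subgroup.mem_zpowers x)
      rw [hTj, mem_map_conj_iff] at hxTj
      have : (x ^ j)⁻¹ * x * x ^ j = x := by
        rw [mul_assoc, ((Commute.refl x).pow_right j).eq, inv_mul_cancel_left]
      rw [this] at hxTj
      exact Subgroup.le_normalizer hxTj
    let f : Option (Fin p) → ι := fun o => match o with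
      | none => is
      | some j => idx j
    obtain ⟨a, b, hab, hfab⟩ := Fintype.exists_ne_map_eq_of_card_lt f (by
      rw [Fintype.card_option, Fintype.card_fin]; omega)
    have hcaseA' : ∀ j k : Fin p, j ≠ k → idx j = idx k →
        x ∈ Subgroup.normalizer (T : Set G) := by
      intro j k hjk hidxeq
      -- both conjugates lie in `K (idx j)`
      set Tj := T.map (MulAut.conj (x ^ (j : ℕ))).toMonoidHom with hTj
      set Tk := T.map (MulAut.conj (x ^ (k : ℕ))).toMonoidHom with hTk
      have hU : Tj ⊔ Tk ∈ 𝒯 := by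
        refine ⟨?_, pGen_sup (hconj𝒯 _).2.1 (hconj𝒯 _).2.1, ?_⟩
        · intro h
          apply hK (idx j)
          rw [eq_top_iff, ← h]
          exact sup_le (hidx j) (hidxeq ▸ hidx k)
        · intro hdvd
          exact (hconj𝒯 (x ^ (j : ℕ))).2.2
            (hdvd.trans (Subgroup.index_dvd_of_le le_sup_left))
      have h1 := hmaxconj (x ^ (j : ℕ)) _ hU le_sup_left
      have h2 := hmaxconj (x ^ (k : ℕ)) _ hU le_sup_right
      have heq : Tj = Tk := h1.symm.trans h2
      have hne : (j : ℕ) ≠ (k : ℕ) := fun h => hjk (Fin.ext h)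
      rcases lt_or_gt_of_ne hne with hlt' | hgt'
      · exact hcaseA j k hlt' k.2 heq
      · exact hcaseA k j hgt' j.2 heq.symm
    rcases a with _ | j <;> rcases b with _ | k
    · exact absurd rfl hab
    · exact hcaseB k hfab
    · exact hcaseB j hfab.symm
    · exact hcaseA' j k (fun h => hab (by rw [h])) hfab
  -- T is normal
  have hNtop : Subgroup.normalizer (T : Set G) = ⊤ := by
    rw [eq_top_iff, ← hgen, Subgroup.closure_le]
    exact fun x hx => hnorm x hx
  haveI hTn : T.Normal := Subgroup.normalizer_eq_top_iff.mp hNtop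
  -- T contains all p-elements
  have hall : ∀ x : G, (∃ k : ℕ, orderOf x = p ^ k) → x ∈ T := by
    rintro x ⟨k, hk⟩
    have h1 : (QuotientGroup.mk' T x) ^ p ^ k = 1 := by
      rw [← map_pow, ← hk, pow_orderOf_eq_one, map_one]
    obtain ⟨m, -, hm⟩ := (Nat.dvd_prime_pow hp.out).mp (orderOf_dvd_of_pow_eq_one h1)
    have h2 : orderOf (QuotientGroup.mk' T x) ∣ T.index := by
      rw [Subgroup.index_eq_card]; exact orderOf_dvd_natCard _
    have hm0 : m = 0 := by
      by_contra hm0
      apply hTidx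
      refine dvd_trans ?_ h2
      rw [hm]
      exact dvd_pow_self p hm0
    rw [hm0, pow_zero, orderOf_eq_one_iff] at hm
    exact (QuotientGroup.eq_one_iff x).mp hm
  apply hTtop
  rw [eq_top_iff, ← hgen, Subgroup.closure_le]
  exact fun x hx => hall x hx

/-- Let p be a prime and G a finite group generated by its p-elements. If a finite family of proper subgroups of G covers the set of p-elements of G (every element of p-power order lies in one of them), then the family has at least p + 1 members. -/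
theorem result {G : Type*} [Group G] [Finite G] (p : ℕ) [Fact p.Prime] (hgen : Subgroup.closure {g : G | ∃ k : ℕ, orderOf g = p ^ k} = ⊤)
    {ι : Type*} [Fintype ι] (K : ι → Subgroup G) (hK : ∀ i, K i ≠ ⊤)
    (hcov : ∀ g : G, (∃ k : ℕ, orderOf g = p ^ k) → ∃ i, g ∈ K i) :
    p + 1 ≤ Fintype.card ι := by
  exact main p (Nat.card G) G rfl hgen K hK hcov

end Cfsg.Agent.S4182
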