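import Cfsg.Statements.S4184
import Mathlib

set_option autoImplicit false
open Cfsg

namespace Cfsg.Agent.S4184

variable {X : Type*} [Group X] [Finite X]

/-- A finite group is not covered by the conjugates of a proper subgroup. -/
theorem eq_top_of_conj_cover (H : Subgroup X) (h : ∀ g : X, ∃ x : X, x * g * x⁻¹ ∈ H) :
    H = ⊤ := by
  classical
  let f : (X ⧸ H) × H → X := fun p => (Quotient.out p.1) * (p.2 : X) * (Quotient.out p.1)⁻¹
  let S : Set ((X ⧸ H) × H) := Set.univ ×ˢ ({1}ᶜ : Set H)
  have hcov : (Set.univ : Set X) ⊆ insert 1 (f '' S) := by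
    intro g _
    by_cases hg : g = 1
    · exact Or.inl hg
    right
    obtain ⟨x, hx⟩ := h g
    have hr : (Quotient.out (QuotientGroup.mk x⁻¹ : X ⧸ H))⁻¹ * x⁻¹ ∈ H := by
      rw [← QuotientGroup.eq]; exact QuotientGroup.out_eq' _
    set r := Quotient.out (QuotientGroup.mk x⁻¹ : X ⧸ H) with hrdef
    refine ⟨(QuotientGroup.mk x⁻¹, ⟨(r⁻¹ * x⁻¹) * (x * g * x⁻¹) * (r⁻¹ * x⁻¹)⁻¹,
      H.mul_mem (H.mul_mem hr hx) (H.inv_mem hr)⟩), ⟨Set.mem_univ _, ?_⟩, ?_⟩
    · simp only [Set.mem_compl_iff, Set.mem_singleton_iff]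
      intro h1
      apply hg
      have h2 := congrArg Subtype.val h1
      simp only [Subgroup.coe_one] at h2
      have h3 : r⁻¹ * g * r = 1 := by rw [← h2]; group
      calc g = r * (r⁻¹ * g * r) * r⁻¹ := by group
        _ = 1 := by rw [h3]; group
    · simp only [f]
      rw [← hrdef]
      group
  have hcard : Nat.card X ≤ H.index * (Nat.card H - 1) + 1 := by
    calc Nat.card X = (Set.univ : Set X).ncard := (Set.ncard_univ X).symm
      _ ≤ (insert 1 (f '' S)).ncard := Set.ncard_le_ncard hcov (Set.toFinite _)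
      _ ≤ (f '' S).ncard + 1 := Set.ncard_insert_le _ _
      _ ≤ S.ncard + 1 := by gcongr; exact Set.ncard_image_le (Set.toFinite _)
      _ = H.index * (Nat.card H - 1) + 1 := by
        rw [Set.ncard_prod, Set.ncard_univ, Set.ncard_compl, Set.ncard_singleton]; rfl
  have hmul := H.card_mul_index
  have hi : H.index ≠ 0 := Subgroup.index_ne_zero_of_finite
  have hk : 0 < Nat.card H := Nat.card_pos
  rw [← Subgroup.index_eq_one]
  obtain ⟨k, hk'⟩ : ∃ k, Nat.card H = k + 1 := ⟨Nat.card H - 1, by omega⟩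
  rw [hk'] at hcard hmul
  rw [← hmul] at hcard
  have e1 : (k + 1) * H.index = k * H.index + H.index := by ring
  have e2 : H.index * (k + 1 - 1) = k * H.index := by rw [Nat.add_sub_cancel, mul_comm]
  rw [e1, e2] at hcard
  omega

omit [Finite X] in
theorem index_centralizer_eq_one_iff (hZ : Subgroup.center X = ⊥) (g : X) :
    (Subgroup.centralizer ({g} : Set X)).index = 1 ↔ g = 1 := by
  rw [Subgroup.index_eq_one, Subgroup.centralizer_eq_top_iff_subset, Set.singleton_subset_iff,
    SetLike.mem_coe, hZ, Subgroup.mem_bot]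

theorem centralizer_mul_le {u w : X} (hc : Commute u w)
    (hcop : (orderOf u).Coprime (orderOf w)) :
    Subgroup.centralizer ({u * w} : Set X) ≤ Subgroup.centralizer ({u} : Set X) := by
  intro x hx
  rw [Subgroup.mem_centralizer_singleton_iff] at hx ⊢
  by_cases h1 : orderOf u = 1
  · rw [orderOf_eq_one_iff] at h1; rw [h1]; simp
  have hpos : 0 < orderOf u := orderOf_pos u
  obtain ⟨t, -, ht⟩ := Nat.exists_mul_mod_eq_one_of_coprime hcop.symm (by omega : 1 < orderOf u)
  have hpow : (u * w) ^ (orderOf w * t) = u := by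
    rw [hc.mul_pow, pow_mul w, pow_orderOf_eq_one, one_pow, mul_one, ← pow_mod_orderOf, ht,
      pow_one]
  have h2 : Commute x ((u * w) ^ (orderOf w * t)) := (show Commute x (u * w) from hx).pow_right _
  rw [hpow] at h2
  exact h2

theorem fact_card_centralizer (g : X) (r : ℕ) :
    (Nat.card (Subgroup.centralizer ({g} : Set X))).factorization r +
      (Subgroup.centralizer ({g} : Set X)).index.factorization r =
      (Nat.card X).factorization r := by
  have h := (Subgroup.centralizer ({g} : Set X)).card_mul_index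
  rw [← h, Nat.factorization_mul Nat.card_pos.ne' Subgroup.index_ne_zero_of_finite]
  rfl

theorem exists_centralizer_grow (p : ℕ) [Fact p.Prime] (R : Subgroup X) (e : ℕ)
    (hR : Nat.card R = p ^ e) (he1 : 1 ≤ e) (he : e < (Nat.card X).factorization p) :
    ∃ u ∈ R, u ≠ 1 ∧ p ^ (e + 1) ∣ Nat.card (Subgroup.centralizer ({u} : Set X)) := by
  have hp : p.Prime := Fact.out
  have hRp : IsPGroup p R := IsPGroup.of_card hR
  obtain ⟨P, hRP⟩ := hRp.exists_le_sylow
  have hPcard : Nat.card P = p ^ (Nat.card X).factorization p := P.card_eq_multiplicity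
  have hpdvd : p ^ (e + 1) ∣ Nat.card (P : Subgroup X) := by
    rw [hPcard]; exact pow_dvd_pow p he
  haveI : Nontrivial (P : Subgroup X) := by
    rw [← Finite.one_lt_card_iff_nontrivial, hPcard]
    exact Nat.one_lt_pow (by omega) hp.one_lt
  haveI : Nontrivial R := by
    rw [← Finite.one_lt_card_iff_nontrivial, hR]
    exact Nat.one_lt_pow (by omega) hp.one_lt
  haveI := IsPGroup.center_nontrivial P.isPGroup'
  haveI := IsPGroup.center_nontrivial hRp
  obtain ⟨z, hz⟩ := exists_ne (1 : Subgroup.center (P : Subgroup X))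
  obtain ⟨y, hy⟩ := exists_ne (1 : Subgroup.center R)
  have hzc : ∀ a ∈ (P : Subgroup X), a * z.1.1 = z.1.1 * a := by
    intro a ha
    have := Subgroup.mem_center_iff.mp z.2 ⟨a, ha⟩
    exact congrArg Subtype.val this
  have hyc : ∀ a ∈ R, a * y.1.1 = y.1.1 * a := by
    intro a ha
    have := Subgroup.mem_center_iff.mp y.2 ⟨a, ha⟩
    exact congrArg Subtype.val this
  by_cases hzR : z.1.1 ∈ R
  · refine ⟨z.1.1, hzR, ?_, ?_⟩
    · intro h1; exact hz (Subtype.ext (Subtype.ext h1))
    · have hle : (P : Subgroup X) ≤ Subgroup.centralizer {z.1.1} := by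
        intro a ha; rw [Subgroup.mem_centralizer_singleton_iff]; exact hzc a ha
      exact hpdvd.trans (Subgroup.card_dvd_of_le hle)
  · refine ⟨y.1.1, y.1.2, ?_, ?_⟩
    · intro h1; exact hy (Subtype.ext (Subtype.ext h1))
    · have hDP : R ⊔ Subgroup.zpowers (z.1.1) ≤ (P : Subgroup X) :=
        sup_le hRP (by rw [Subgroup.zpowers_le]; exact z.1.2)
      have hDc : R ⊔ Subgroup.zpowers (z.1.1) ≤ Subgroup.centralizer {y.1.1} := by
        apply sup_le
        · intro a ha; rw [Subgroup.mem_centralizer_singleton_iff]; exact hyc a ha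
        · rw [Subgroup.zpowers_le, Subgroup.mem_centralizer_singleton_iff]
          exact (hzc _ (hRP y.1.2)).symm
      have hDp : IsPGroup p ↥(R ⊔ Subgroup.zpowers (z.1.1)) := P.isPGroup'.to_le hDP
      obtain ⟨j, hj⟩ := IsPGroup.iff_card.mp hDp
      have hlt : e < j := by
        by_contra hle
        push Not at hle
        have hRD : R = R ⊔ Subgroup.zpowers (z.1.1) :=
          Subgroup.eq_of_le_of_card_ge le_sup_left
            (by rw [hj, hR]; exact Nat.pow_le_pow_right hp.pos hle)
        apply hzR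
        rw [hRD]
        exact (le_sup_right : Subgroup.zpowers (z.1.1) ≤ _) (Subgroup.mem_zpowers _)
      have h3 : p ^ (e + 1) ∣ Nat.card ↥(R ⊔ Subgroup.zpowers (z.1.1)) := by
        rw [hj]; exact pow_dvd_pow p hlt
      exact h3.trans (Subgroup.card_dvd_of_le hDc)

/-- `c` has full `A`-part relative to `m` -/
def Typ (m : ℕ) (A : Set ℕ) (c : ℕ) : Prop :=
  ∀ a : ℕ, a.Prime → a ∈ A → c.factorization a = m.factorization a

theorem core (m : ℕ) (hm : m ≠ 0) (A B : Set ℕ)
    (H1 : ∀ g : X, g ≠ 1 → Typ m A (Subgroup.centralizer ({g} : Set X)).index ∨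
      Typ m B (Subgroup.centralizer ({g} : Set X)).index)
    (H2 : ∀ g : X, ¬ (Typ m A (Subgroup.centralizer ({g} : Set X)).index ∧
      Typ m B (Subgroup.centralizer ({g} : Set X)).index))
    (H3 : ∀ g : X, (Subgroup.centralizer ({g} : Set X)).index ∣ m)
    (p : ℕ) (hp : p.Prime) (hpA : p ∈ A) (hpm : p ∣ m)
    (q : ℕ) (hq : q.Prime) (hqB : q ∈ B) (hqm : q ∣ m) (hqn : q ∣ Nat.card X) (hpq : p ≠ q) :
    (Nat.card X).factorization p ≤ m.factorization p := by
  by_contra hlt
  push Not at hlt
  haveI := Fact.mk hp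
  haveI := Fact.mk hq
  have hn0 : Nat.card X ≠ 0 := Nat.card_pos.ne'
  have hi0 : ∀ g : X, (Subgroup.centralizer ({g} : Set X)).index ≠ 0 :=
    fun g => Subgroup.index_ne_zero_of_finite
  obtain ⟨Q⟩ : Nonempty (Sylow q X) := inferInstance
  have hQcard : Nat.card Q = q ^ (Nat.card X).factorization q := Q.card_eq_multiplicity
  have hvq : 1 ≤ (Nat.card X).factorization q := hq.factorization_pos_of_dvd hn0 hqn
  haveI : Nontrivial (Q : Subgroup X) := by
    rw [← Finite.one_lt_card_iff_nontrivial, hQcard]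
    exact Nat.one_lt_pow (by omega) hq.one_lt
  haveI := IsPGroup.center_nontrivial Q.isPGroup'
  obtain ⟨z, hz⟩ := exists_ne (1 : Subgroup.center (Q : Subgroup X))
  have hw1 : z.1.1 ≠ 1 := fun h1 => hz (Subtype.ext (Subtype.ext h1))
  have hQw : (Q : Subgroup X) ≤ Subgroup.centralizer {z.1.1} := by
    intro a ha
    rw [Subgroup.mem_centralizer_singleton_iff]
    have := Subgroup.mem_center_iff.mp z.2 ⟨a, ha⟩
    exact congrArg Subtype.val this
  have hcq : (Subgroup.centralizer ({z.1.1} : Set X)).index.factorization q = 0 := by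
    have h1 : q ^ (Nat.card X).factorization q ∣
        Nat.card (Subgroup.centralizer ({z.1.1} : Set X)) :=
      hQcard ▸ Subgroup.card_dvd_of_le hQw
    have h2 := (hq.pow_dvd_iff_le_factorization Nat.card_pos.ne').mp h1
    have h3 := fact_card_centralizer z.1.1 q
    omega
  have hTA : Typ m A (Subgroup.centralizer ({z.1.1} : Set X)).index := by
    rcases H1 _ hw1 with h | h
    · exact h
    · exfalso
      have h1 := h q hq hqB
      have h2 : 0 < m.factorization q := hq.factorization_pos_of_dvd hm hqm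
      omega
  have hvp := hTA p hp hpA
  have hCp := fact_card_centralizer z.1.1 p
  obtain ⟨e, he⟩ : ∃ e, e = (Nat.card X).factorization p - m.factorization p := ⟨_, rfl⟩
  obtain ⟨R0⟩ : Nonempty (Sylow p (Subgroup.centralizer ({z.1.1} : Set X))) := inferInstance
  have hR0 : Nat.card R0 = p ^ e := by
    rw [R0.card_eq_multiplicity]
    congr 1
    omega
  have hRcard : Nat.card ((R0 : Subgroup _).map
      (Subgroup.centralizer ({z.1.1} : Set X)).subtype) = p ^ e := by
    rw [Subgroup.card_map_of_injective (Subgroup.subtype_injective _)]; exact hR0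
  have hRle : (R0 : Subgroup _).map (Subgroup.centralizer ({z.1.1} : Set X)).subtype ≤
      Subgroup.centralizer {z.1.1} := Subgroup.map_subtype_le _
  have hRtype : ∀ u ∈ (R0 : Subgroup _).map (Subgroup.centralizer ({z.1.1} : Set X)).subtype,
      u ≠ 1 → (Subgroup.centralizer ({u} : Set X)).index.factorization p =
        m.factorization p := by
    intro u hu hu1
    have hcomm : Commute u z.1.1 := by
      have := hRle hu
      rw [Subgroup.mem_centralizer_singleton_iff] at this
      exact this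
    have hou : orderOf u ∣ p ^ e := hRcard ▸ Subgroup.orderOf_dvd_natCard _ hu
    have how : orderOf z.1.1 ∣ q ^ (Nat.card X).factorization q :=
      hQcard ▸ Subgroup.orderOf_dvd_natCard _ z.1.2
    have hcop : (orderOf u).Coprime (orderOf z.1.1) :=
      Nat.Coprime.of_dvd hou how (Nat.Coprime.pow _ _ ((Nat.coprime_primes hp hq).mpr hpq))
    have h1 := Subgroup.index_dvd_of_le (centralizer_mul_le hcomm hcop)
    have h2 : (Subgroup.centralizer ({z.1.1} : Set X)).index ∣
        (Subgroup.centralizer ({u * z.1.1} : Set X)).index := by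
      have := centralizer_mul_le hcomm.symm hcop.symm
      rw [← hcomm.eq] at this
      exact Subgroup.index_dvd_of_le this
    rcases H1 u hu1 with h | h
    · exact h p hp hpA
    · exfalso
      apply H2 (u * z.1.1)
      constructor
      · intro a ha haA
        apply le_antisymm
        · exact (Nat.factorization_le_iff_dvd (hi0 _) hm).mpr (H3 _) a
        · rw [← hTA a ha haA]
          exact (Nat.factorization_le_iff_dvd (hi0 _) (hi0 _)).mpr h2 a
      · intro b hb hbB
        apply le_antisymm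
        · exact (Nat.factorization_le_iff_dvd (hi0 _) hm).mpr (H3 _) b
        · rw [← h b hb hbB]
          exact (Nat.factorization_le_iff_dvd (hi0 _) (hi0 _)).mpr h1 b
  have hvpm : 0 < m.factorization p := hp.factorization_pos_of_dvd hm hpm
  obtain ⟨u, huR, hu1, hdvd⟩ := exists_centralizer_grow p _ e hRcard (by omega) (by omega)
  have h5 := hRtype u huR hu1
  have h6 := fact_card_centralizer u p
  have h7 := (hp.pow_dvd_iff_le_factorization Nat.card_pos.ne').mp hdvd
  omega

theorem prime_dvd_of_dvd_card (hZ : Subgroup.center X = ⊥) (m : ℕ)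
    (H3 : ∀ g : X, (Subgroup.centralizer ({g} : Set X)).index ∣ m)
    (p : ℕ) (hp : p.Prime) (hpn : p ∣ Nat.card X) : p ∣ m := by
  by_contra hpm
  haveI := Fact.mk hp
  obtain ⟨P⟩ : Nonempty (Sylow p X) := inferInstance
  have hPcard : Nat.card P = p ^ (Nat.card X).factorization p := P.card_eq_multiplicity
  have hcov : ∀ g : X, ∃ x : X,
      x * g * x⁻¹ ∈ Subgroup.centralizer ((P : Subgroup X) : Set X) := by
    intro g
    have hcg : (Subgroup.centralizer ({g} : Set X)).index.factorization p = 0 :=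
      Nat.factorization_eq_zero_of_not_dvd (fun h => hpm (h.trans (H3 g)))
    have hC := fact_card_centralizer g p
    obtain ⟨R0⟩ : Nonempty (Sylow p (Subgroup.centralizer ({g} : Set X))) := inferInstance
    have hRcard : Nat.card ((R0 : Subgroup _).map
        (Subgroup.centralizer ({g} : Set X)).subtype) = p ^ (Nat.card X).factorization p := by
      rw [Subgroup.card_map_of_injective (Subgroup.subtype_injective _),
        R0.card_eq_multiplicity]
      congr 1
      omega
    obtain ⟨x, hx⟩ := MulAction.exists_smul_eq X (Sylow.ofCard _ hRcard) P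
    refine ⟨x, ?_⟩
    rw [Subgroup.mem_centralizer_iff]
    intro y hy
    have hy' : x⁻¹ * y * x ∈ (R0 : Subgroup _).map
        (Subgroup.centralizer ({g} : Set X)).subtype := by
      have hy2 : y ∈ ((x • Sylow.ofCard _ hRcard : Sylow p X) : Subgroup X) := by
        rw [hx]; exact hy
      rw [Sylow.coe_subgroup_smul, Subgroup.mem_pointwise_smul_iff_inv_smul_mem] at hy2
      simpa [MulAut.smul_def] using hy2
    have h1 := Subgroup.map_subtype_le _ hy'
    rw [Subgroup.mem_centralizer_singleton_iff] at h1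
    calc y * (x * g * x⁻¹) = x * (x⁻¹ * y * x * g) * x⁻¹ := by group
      _ = x * (g * (x⁻¹ * y * x)) * x⁻¹ := by rw [h1]
      _ = x * g * x⁻¹ * y := by group
  have htop := eq_top_of_conj_cover _ hcov
  have hPc : (P : Subgroup X) ≤ Subgroup.center X := by
    intro y hy
    rw [Subgroup.mem_center_iff]
    intro g
    have hg : g ∈ Subgroup.centralizer ((P : Subgroup X) : Set X) := by rw [htop]; trivial
    exact (Subgroup.mem_centralizer_iff.mp hg y hy).symm
  rw [hZ, le_bot_iff] at hPc
  have h1 : Nat.card (P : Subgroup X) = 1 := by rw [hPc]; exact Subgroup.card_bot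
  rw [hPcard] at h1
  have h2 : 0 < (Nat.card X).factorization p :=
    hp.factorization_pos_of_dvd Nat.card_pos.ne' hpn
  have h3 := Nat.one_lt_pow (by omega : (Nat.card X).factorization p ≠ 0) hp.one_lt
  omega

theorem generic (hZ : Subgroup.center X = ⊥) (m : ℕ) (hm : m ≠ 0) (A B : Set ℕ)
    (hAB : ∀ r : ℕ, r.Prime → r ∈ A ∨ r ∈ B) (hdisj : ∀ r : ℕ, r ∈ A → r ∈ B → False)
    (H1 : ∀ g : X, g ≠ 1 → Typ m A (Subgroup.centralizer ({g} : Set X)).index ∨
      Typ m B (Subgroup.centralizer ({g} : Set X)).index)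
    (H2 : ∀ g : X, ¬ (Typ m A (Subgroup.centralizer ({g} : Set X)).index ∧
      Typ m B (Subgroup.centralizer ({g} : Set X)).index))
    (H3 : ∀ g : X, (Subgroup.centralizer ({g} : Set X)).index ∣ m)
    (H5a : ∃ g : X, Typ m A (Subgroup.centralizer ({g} : Set X)).index)
    (H5b : ∃ g : X, Typ m B (Subgroup.centralizer ({g} : Set X)).index)
    (qa : ℕ) (hqa : qa.Prime) (hqaA : qa ∈ A) (hqam : qa ∣ m)
    (qb : ℕ) (hqb : qb.Prime) (hqbB : qb ∈ B) (hqbm : qb ∣ m) : Nat.card X = m := by
  have hn0 : Nat.card X ≠ 0 := Nat.card_pos.ne'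
  have hi0 : ∀ g : X, (Subgroup.centralizer ({g} : Set X)).index ≠ 0 :=
    fun g => Subgroup.index_ne_zero_of_finite
  have hmn : m ∣ Nat.card X := by
    rw [← Nat.factorization_le_iff_dvd hm hn0]
    intro r
    by_cases hr : r.Prime
    · rcases hAB r hr with h | h
      · obtain ⟨g, hg⟩ := H5a
        rw [← hg r hr h]
        exact (Nat.factorization_le_iff_dvd (hi0 g) hn0).mpr (Subgroup.index_dvd_card _) r
      · obtain ⟨g, hg⟩ := H5b
        rw [← hg r hr h]
        exact (Nat.factorization_le_iff_dvd (hi0 g) hn0).mpr (Subgroup.index_dvd_card _) r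
    · simp [Nat.factorization_eq_zero_of_not_prime _ hr]
  have hnm : Nat.card X ∣ m := by
    rw [← Nat.factorization_le_iff_dvd hn0 hm]
    intro r
    by_cases hr : r.Prime
    · by_cases hrn : r ∣ Nat.card X
      · have hrm := prime_dvd_of_dvd_card hZ m H3 r hr hrn
        rcases hAB r hr with h | h
        · exact core m hm A B H1 H2 H3 r hr h hrm qb hqb hqbB hqbm (hqbm.trans hmn)
            (fun e => hdisj r h (e ▸ hqbB))
        · exact core m hm B A (fun g hg => (H1 g hg).symm) (fun g hh => H2 g hh.symm) H3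
            r hr h hrm qa hqa hqaA hqam (hqam.trans hmn) (fun e => hdisj r (e ▸ hqaA) h)
      · rw [Nat.factorization_eq_zero_of_not_dvd hrn]; exact Nat.zero_le _
    · simp [Nat.factorization_eq_zero_of_not_prime _ hr]
  exact Nat.dvd_antisymm hnm hmn

theorem typ_of_prime_dvd_order (A B : Set ℕ)
    (hno : ∀ a ∈ A, ∀ b ∈ B, a.Prime → b.Prime → a ∣ Nat.card X → b ∣ Nat.card X →
      ¬ ∃ x : X, orderOf x = a * b)
    (hdisj : ∀ r : ℕ, r ∈ A → r ∈ B → False)
    (x : X) (r : ℕ) (hr : r.Prime) (hrA : r ∈ A) (hrx : r ∣ orderOf x) :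
    Typ (Nat.card X) B (Subgroup.centralizer ({x} : Set X)).index := by
  intro b hb hbB
  by_contra hne
  have hm0 : Nat.card X ≠ 0 := Nat.card_pos.ne'
  have hle : (Subgroup.centralizer ({x} : Set X)).index.factorization b ≤
      (Nat.card X).factorization b :=
    (Nat.factorization_le_iff_dvd Subgroup.index_ne_zero_of_finite hm0).mpr
      (Subgroup.index_dvd_card _) b
  have h1 := fact_card_centralizer x b
  have hbdvd : b ∣ Nat.card (Subgroup.centralizer ({x} : Set X)) :=
    Nat.dvd_of_factorization_pos (by omega)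
  haveI := Fact.mk hb
  obtain ⟨y, hy⟩ := exists_prime_orderOf_dvd_card' b hbdvd
  have hyc : (y : X) * x = x * y := Subgroup.mem_centralizer_singleton_iff.mp y.2
  have hx' : orderOf (x ^ (orderOf x / r)) = r :=
    orderOf_pow_orderOf_div (orderOf_pos x).ne' hrx
  have hyo : orderOf (y : X) = b := by rw [Subgroup.orderOf_coe]; exact hy
  have hcomm : Commute (x ^ (orderOf x / r)) (y : X) :=
    Commute.pow_left (show Commute x y from hyc.symm) _
  have hord : orderOf (x ^ (orderOf x / r) * (y : X)) = r * b := by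
    rw [hcomm.orderOf_mul_eq_mul_orderOf_of_coprime, hx', hyo]
    rw [hx', hyo]
    exact (Nat.coprime_primes hr hb).mpr (fun e => hdisj r hrA (e ▸ hbB))
  exact hno r hrA b hbB hr hb (hrx.trans (orderOf_dvd_natCard x))
    (hbdvd.trans (Subgroup.card_subgroup_dvd_card _)) ⟨_, hord⟩

theorem not_typ_both [Nontrivial X] (A B : Set ℕ) (hAB : ∀ r : ℕ, r.Prime → r ∈ A ∨ r ∈ B)
    (x : X) :
    ¬ (Typ (Nat.card X) A (Subgroup.centralizer ({x} : Set X)).index ∧
      Typ (Nat.card X) B (Subgroup.centralizer ({x} : Set X)).index) := by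
  rintro ⟨hA, hB⟩
  have hm0 : Nat.card X ≠ 0 := Nat.card_pos.ne'
  have heq : (Subgroup.centralizer ({x} : Set X)).index = Nat.card X := by
    apply Nat.eq_of_factorization_eq Subgroup.index_ne_zero_of_finite hm0
    intro r
    by_cases hr : r.Prime
    · rcases hAB r hr with h | h
      · exact hA r hr h
      · exact hB r hr h
    · simp [Nat.factorization_eq_zero_of_not_prime _ hr]
  have h1 := (Subgroup.centralizer ({x} : Set X)).card_mul_index
  rw [heq] at h1
  have hc1 : Nat.card (Subgroup.centralizer ({x} : Set X)) = 1 :=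
    Nat.eq_of_mul_eq_mul_right Nat.card_pos (by rw [h1, one_mul])
  have hbot : Subgroup.centralizer ({x} : Set X) = ⊥ := Subgroup.card_eq_one.mp hc1
  have hx : x ∈ Subgroup.centralizer ({x} : Set X) :=
    Subgroup.mem_centralizer_singleton_iff.mpr rfl
  rw [hbot, Subgroup.mem_bot] at hx
  subst hx
  have htop : Subgroup.centralizer ({1} : Set X) = ⊤ := by
    ext; simp [Subgroup.mem_centralizer_singleton_iff]
  rw [htop] at hbot
  exact top_ne_bot hbot

/-- Let G and M be finite groups with trivial centres and the same set of conjugacy class sizes, and suppose the prime graph of M is disconnected: the prime divisors of #M split into two non-empty parts such that M has no element of order pq with p in one part and q in the other. Then #G = #M. -/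
theorem result {G M : Type*}
    [Group G] [Finite G] [Group M] [Finite M] (hZG : Subgroup.center G = ⊥) (hZM : Subgroup.center M = ⊥)
    (h : Set.range (fun g : G => (Subgroup.centralizer ({g} : Set G)).index) = Set.range (fun g : M => (Subgroup.centralizer ({g} : Set M)).index))
    (hdisc : ∃ A : Set ℕ, (∃ a ∈ A, a.Prime ∧ a ∣ Nat.card M) ∧ (∃ b ∉ A, b.Prime ∧ b ∣ Nat.card M) ∧
      ∀ a ∈ A, ∀ b ∉ A, a.Prime → b.Prime → a ∣ Nat.card M → b ∣ Nat.card M → ¬ ∃ x : M, orderOf x = a * b) :
    Nat.card G = Nat.card M := by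
  obtain ⟨A, ⟨a, haA, ha, ham⟩, ⟨b, hbA, hb, hbm⟩, hno⟩ := hdisc
  have hm0 : Nat.card M ≠ 0 := Nat.card_pos.ne'
  haveI : Nontrivial M := by
    rw [← Finite.one_lt_card_iff_nontrivial]
    exact lt_of_lt_of_le ha.one_lt (Nat.le_of_dvd Nat.card_pos ham)
  have hGM : ∀ g : G, ∃ x : M, (Subgroup.centralizer ({x} : Set M)).index =
      (Subgroup.centralizer ({g} : Set G)).index := by
    intro g
    have h1 : (Subgroup.centralizer ({g} : Set G)).index ∈
        Set.range (fun g : M => (Subgroup.centralizer ({g} : Set M)).index) := by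
      rw [← h]; exact ⟨g, rfl⟩
    exact h1
  have hMG : ∀ x : M, ∃ g : G, (Subgroup.centralizer ({g} : Set G)).index =
      (Subgroup.centralizer ({x} : Set M)).index := by
    intro x
    have h1 : (Subgroup.centralizer ({x} : Set M)).index ∈
        Set.range (fun g : G => (Subgroup.centralizer ({g} : Set G)).index) := by
      rw [h]; exact ⟨x, rfl⟩
    exact h1
  have hno' : ∀ b ∈ Aᶜ, ∀ a ∈ A, b.Prime → a.Prime → b ∣ Nat.card M → a ∣ Nat.card M →
      ¬ ∃ x : M, orderOf x = b * a := by
    intro b hb a ha hbp hap hbm ham hx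
    obtain ⟨x, hx⟩ := hx
    exact hno a ha b hb hap hbp ham hbm ⟨x, by rw [hx, mul_comm]⟩
  have hM1 : ∀ x : M, x ≠ 1 →
      Typ (Nat.card M) A (Subgroup.centralizer ({x} : Set M)).index ∨
      Typ (Nat.card M) Aᶜ (Subgroup.centralizer ({x} : Set M)).index := by
    intro x hx
    have h1 : orderOf x ≠ 1 := fun h => hx (orderOf_eq_one_iff.mp h)
    obtain ⟨r, hr, hrx⟩ := Nat.exists_prime_and_dvd h1
    by_cases hrA : r ∈ A
    · right
      exact typ_of_prime_dvd_order A Aᶜ hno (fun r h1 h2 => h2 h1) x r hr hrA hrx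
    · left
      exact typ_of_prime_dvd_order Aᶜ A hno' (fun r h1 h2 => h1 h2) x r hr hrA hrx
  have hM2 : ∀ x : M, ¬ (Typ (Nat.card M) A (Subgroup.centralizer ({x} : Set M)).index ∧
      Typ (Nat.card M) Aᶜ (Subgroup.centralizer ({x} : Set M)).index) :=
    fun x => not_typ_both A Aᶜ (fun r _ => Classical.em (r ∈ A)) x
  have hone : (Subgroup.centralizer ({(1 : M)} : Set M)).index = 1 := by
    rw [Subgroup.index_eq_one]
    ext; simp [Subgroup.mem_centralizer_singleton_iff]
  refine generic hZG (Nat.card M) hm0 A Aᶜ (fun r _ => Classical.em (r ∈ A))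
    (fun r h1 h2 => h2 h1) ?_ ?_ ?_ ?_ ?_ a ha haA ham b hb hbA hbm
  · intro g hg
    obtain ⟨x, hx⟩ := hGM g
    rw [← hx]
    apply hM1
    rintro rfl
    rw [hone] at hx
    exact hg ((index_centralizer_eq_one_iff hZG g).mp hx.symm)
  · intro g
    obtain ⟨x, hx⟩ := hGM g
    rw [← hx]
    exact hM2 x
  · intro g
    obtain ⟨x, hx⟩ := hGM g
    rw [← hx]
    exact Subgroup.index_dvd_card _
  · haveI := Fact.mk hb
    obtain ⟨x, hx⟩ := exists_prime_orderOf_dvd_card' b hbm
    obtain ⟨g, hg⟩ := hMG x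
    refine ⟨g, ?_⟩
    rw [hg]
    exact typ_of_prime_dvd_order Aᶜ A hno' (fun r h1 h2 => h1 h2) x b hb hbA (by rw [hx])
  · haveI := Fact.mk ha
    obtain ⟨x, hx⟩ := exists_prime_orderOf_dvd_card' a ham
    obtain ⟨g, hg⟩ := hMG x
    refine ⟨g, ?_⟩
    rw [hg]
    exact typ_of_prime_dvd_order A Aᶜ hno (fun r h1 h2 => h2 h1) x a ha haA (by rw [hx])

end Cfsg.Agent.S4184
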