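import Cfsg.Statements.S4186

set_option autoImplicit false
open Cfsg

namespace Cfsg.Agent.S4186

/-- Let T and X be subgroups of a group with T a finite 2-group normalizing X but not centralizing it. Then some element of T inverts some non-identity element of X under conjugation. -/
theorem result {G : Type*} [Group G] (T X : Subgroup G) [Finite ↥T] (hT : IsPGroup 2 ↥T) (hTN : T ≤ Subgroup.normalizer (X : Set G)) (hTC : ¬ T ≤ Subgroup.centralizer (X : Set G)) : ∃ t ∈ T, ∃ x ∈ X, x ≠ 1 ∧ t * x * t⁻¹ = x⁻¹ := by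
  -- an element of `T` outside the centralizer whose square centralizes `X`
  have step : ∀ k : ℕ, ∀ t : G, t ∈ T → t ∉ Subgroup.centralizer (X : Set G) → t ^ 2 ^ k = 1 →
      ∃ t' : G, t' ∈ T ∧ t' ∉ Subgroup.centralizer (X : Set G) ∧
        t' ^ 2 ∈ Subgroup.centralizer (X : Set G) := by
    intro k
    induction k with
    | zero =>
      intro t _ htC ht1
      exfalso
      apply htC
      have : t = 1 := by simpa using ht1
      rw [this]
      exact Subgroup.one_mem _
    | succ k ih =>
      intro t htT htC ht1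
      by_cases h2 : t ^ 2 ∈ Subgroup.centralizer (X : Set G)
      · exact ⟨t, htT, htC, h2⟩
      · apply ih (t ^ 2) (Subgroup.pow_mem _ htT 2) h2
        rw [← pow_mul, ← pow_succ']
        exact ht1
  obtain ⟨t0, ht0T, ht0C⟩ := SetLike.not_le_iff_exists.mp hTC
  obtain ⟨k, hk⟩ := hT ⟨t0, ht0T⟩
  have hk' : t0 ^ 2 ^ k = 1 := by
    have := congrArg (Subtype.val) hk
    simpa using this
  obtain ⟨t, htT, htC, ht2⟩ := step k t0 ht0T ht0C hk'
  rw [Subgroup.mem_centralizer_iff] at htC
  push Not at htC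
  obtain ⟨y, hyX, hy⟩ := htC
  have hyX' : y ∈ X := hyX
  have htN := hTN htT
  rw [Subgroup.mem_normalizer_iff] at htN
  have hcomm : t * t * y = y * (t * t) := by
    rw [Subgroup.mem_centralizer_iff] at ht2
    have := ht2 y hyX
    rw [pow_two] at this
    exact this.symm
  refine ⟨t, htT, y⁻¹ * (t * y * t⁻¹), ?_, ?_, ?_⟩
  · exact Subgroup.mul_mem _ (Subgroup.inv_mem _ hyX') ((htN y).mp hyX')
  · intro h
    apply hy
    have h' : t * y * t⁻¹ = y := by
      have := congrArg (fun z => y * z) h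
      simpa using this
    have := congrArg (fun z => z * t) h'
    simpa using this.symm
  · calc t * (y⁻¹ * (t * y * t⁻¹)) * t⁻¹
        = t * y⁻¹ * t⁻¹ * (t * t * y) * t⁻¹ * t⁻¹ := by group
      _ = t * y⁻¹ * t⁻¹ * (y * (t * t)) * t⁻¹ * t⁻¹ := by rw [hcomm]
      _ = (y⁻¹ * (t * y * t⁻¹))⁻¹ := by group

end Cfsg.Agent.S4186
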