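import Cfsg.Statements.S4207
import Cfsg.Agent.Lib.helper73.Frattini

set_option autoImplicit false
open Cfsg

namespace Cfsg.Agent.S4207

/-- The action of a group of automorphisms that are trivial on the Frattini quotient on the
tuples lying in the cosets `Φ x i`, parametrised by `Fin r → Φ`. -/
@[reducible] def frattAct {P : Type*} [Group P] {r : ℕ} (x : Fin r → P) (A : Subgroup (MulAut P))
    (hA : ∀ α ∈ A, ∀ y : P, α y * y⁻¹ ∈ frattini P) : MulAction A (Fin r → frattini P) where
  smul α z := fun i => ⟨(α : MulAut P) ((z i : P) * x i) * (x i)⁻¹, by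
      have h1 := hA α α.2 ((z i : P) * x i)
      have h2 : (α : MulAut P) ((z i : P) * x i) * (x i)⁻¹ =
          ((α : MulAut P) ((z i : P) * x i) * ((z i : P) * x i)⁻¹) * (z i : P) := by group
      rw [h2]
      exact Subgroup.mul_mem _ h1 (z i).2⟩
  one_smul z := by
    funext i
    apply Subtype.ext
    show ((1 : A) : MulAut P) ((z i : P) * x i) * (x i)⁻¹ = z i
    simp
  mul_smul α β z := by
    funext i
    apply Subtype.ext
    show ((α * β : A) : MulAut P) ((z i : P) * x i) * (x i)⁻¹ =
      (α : MulAut P) ((β : MulAut P) ((z i : P) * x i) * (x i)⁻¹ * x i) * (x i)⁻¹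
    simp [MulAut.mul_apply]

/-- Let `P` be a group of order `p^n` whose Frattini subgroup has index `p^r`. Then any group of automorphisms of `P` each of which induces the identity on the Frattini quotient has order dividing `p^(r(n-r))`; in particular it is a `p`-group. -/
theorem result {P : Type*} [Group P] [Finite P] {p n r : ℕ} [Fact p.Prime] (hP : Nat.card P = p ^ n) (hr : (frattini P).index = p ^ r) (A : Subgroup (MulAut P)) (hA : ∀ α ∈ A, ∀ x : P, α x * x⁻¹ ∈ frattini P) : Nat.card A ∣ p ^ (r * (n - r)) := by
  classical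
  have hp : p.Prime := Fact.out
  obtain ⟨x, hx⟩ := Cfsg.Agent.Lib.helper73.exists_generating_tuple_frattini hp hr
  let _ := frattAct x A hA
  have hsmul : ∀ (α : A) (z : Fin r → frattini P) (i : Fin r),
      ((α • z) i : P) = (α : MulAut P) ((z i : P) * x i) * (x i)⁻¹ := fun _ _ _ => rfl
  have hfree : ∀ z : Fin r → frattini P, MulAction.stabilizer A z = ⊥ := by
    intro z
    rw [eq_bot_iff]
    intro α hα
    rw [Subgroup.mem_bot]
    have hα' : α • z = z := hα
    have hfix : ∀ i, (α : MulAut P) ((z i : P) * x i) = (z i : P) * x i := by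
      intro i
      have h1 : ((α • z) i : P) = (z i : P) := by rw [hα']
      rw [hsmul] at h1
      calc (α : MulAut P) ((z i : P) * x i)
          = (α : MulAut P) ((z i : P) * x i) * (x i)⁻¹ * x i := by group
        _ = (z i : P) * x i := by rw [h1]
    have hy : Subgroup.closure (Set.range (fun i => (z i : P) * x i)) = ⊤ :=
      Cfsg.Agent.Lib.helper73.closure_eq_top_of_frattini_cosets x _ hx (fun i => by
        have : (z i : P) * x i * (x i)⁻¹ = (z i : P) := by group
        rw [this]
        exact (z i).2)
    have h2 : (α : MulAut P).toMonoidHom = MonoidHom.id P :=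
      MonoidHom.eq_of_eqOn_dense hy (by
        rintro _ ⟨i, rfl⟩
        exact hfix i)
    apply Subtype.ext
    apply MulEquiv.ext
    intro g
    exact DFunLike.congr_fun h2 g
  have e := MulAction.selfEquivOrbitsQuotientProd hfree
  have hcard : Nat.card (Fin r → frattini P) =
      Nat.card (Quotient (MulAction.orbitRel A (Fin r → frattini P))) * Nat.card A := by
    rw [Nat.card_congr e, Nat.card_prod]
  have hrn : r ≤ n := by
    have h1 : p ^ r ∣ p ^ n := by
      rw [← hr, ← hP]
      exact Subgroup.index_dvd_card _
    exact (Nat.pow_dvd_pow_iff_le_right hp.one_lt).mp h1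
  have hΦcard : Nat.card (frattini P) = p ^ (n - r) := by
    have h1 := Subgroup.card_mul_index (frattini P)
    rw [hr, hP] at h1
    have h2 : p ^ n = p ^ (n - r) * p ^ r := by
      rw [← pow_add]
      congr 1
      omega
    rw [h2] at h1
    exact Nat.eq_of_mul_eq_mul_right (Nat.pow_pos hp.pos) h1
  have htot : Nat.card (Fin r → frattini P) = p ^ (r * (n - r)) := by
    rw [Nat.card_fun, Nat.card_fin, hΦcard, ← pow_mul, mul_comm]
  exact ⟨_, by rw [← htot, hcard, mul_comm]⟩

end Cfsg.Agent.S4207
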