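import Cfsg.Statements.S4208
import Cfsg.Agent.Lib.helper73.GenTuples

set_option autoImplicit false
open Cfsg

namespace Cfsg.Agent.S4208

/-- The action of the automorphism group on generating tuples. -/
@[reducible] def tupleAct (P : Type*) [Group P] (r : ℕ) :
    MulAction (MulAut P) {x : Fin r → P // Subgroup.closure (Set.range x) = ⊤} where
  smul α x := ⟨fun i => α (x.1 i), by
    have h1 : (Subgroup.closure (Set.range x.1)).map α.toMonoidHom =
        Subgroup.closure (Set.range fun i => α (x.1 i)) := by
      rw [MonoidHom.map_closure, ← Set.range_comp]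
      rfl
    rw [← h1, x.2]
    exact Subgroup.map_top_of_surjective _ α.surjective⟩
  one_smul x := by
    apply Subtype.ext
    rfl
  mul_smul α β x := by
    apply Subtype.ext
    rfl

/-- Splitting a group as a set into the quotient by a subgroup times the subgroup, the first
coordinate being the quotient map. -/
noncomputable def splitEquiv {P : Type*} [Group P] (N : Subgroup P) : P ≃ (P ⧸ N) × N where
  toFun x := ((x : P ⧸ N), ⟨(Quotient.out (x : P ⧸ N))⁻¹ * x, by
    rw [← QuotientGroup.eq, QuotientGroup.out_eq']⟩)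
  invFun w := Quotient.out w.1 * (w.2 : P)
  left_inv x := by
    show Quotient.out (x : P ⧸ N) * ((Quotient.out (x : P ⧸ N))⁻¹ * x) = x
    group
  right_inv w := by
    obtain ⟨q, z⟩ := w
    have h1 : ((Quotient.out q * (z : P) : P) : P ⧸ N) = q := by
      rw [QuotientGroup.mk_mul_of_mem _ z.2, QuotientGroup.out_eq']
    apply Prod.ext
    · exact h1
    · apply Subtype.ext
      show (Quotient.out ((Quotient.out q * (z : P) : P) : P ⧸ N))⁻¹ * (Quotient.out q * (z : P))
        = z
      rw [h1]
      group

/-- Let `P` be a group of order `p^n` whose Frattini subgroup has index `p^r`. Then the order of the automorphism group of `P` divides `p^(r(n-r)) · (p^r - 1)(p^r - p) ⋯ (p^r - p^(r-1))`. -/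
theorem result {P : Type*} [Group P] [Finite P] {p n r : ℕ} [Fact p.Prime] (hP : Nat.card P = p ^ n) (hr : (frattini P).index = p ^ r) : Nat.card (MulAut P) ∣ p ^ (r * (n - r)) * ∏ i ∈ Finset.range r, (p ^ r - p ^ i) := by
  classical
  have hp : p.Prime := Fact.out
  let _ := tupleAct P r
  have hfree : ∀ x : {x : Fin r → P // Subgroup.closure (Set.range x) = ⊤},
      MulAction.stabilizer (MulAut P) x = ⊥ := by
    intro x
    rw [eq_bot_iff]
    intro α hα
    rw [Subgroup.mem_bot]
    have hα' : α • x = x := hα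
    have hfix : ∀ i, α (x.1 i) = x.1 i := by
      intro i
      have h1 : (α • x).1 i = x.1 i := by rw [hα']
      exact h1
    have h2 : α.toMonoidHom = MonoidHom.id P :=
      MonoidHom.eq_of_eqOn_dense x.2 (by
        rintro _ ⟨i, rfl⟩
        exact hfix i)
    apply MulEquiv.ext
    intro g
    exact DFunLike.congr_fun h2 g
  have e := MulAction.selfEquivOrbitsQuotientProd hfree
  have hcard : Nat.card {x : Fin r → P // Subgroup.closure (Set.range x) = ⊤} =
      Nat.card (Quotient (MulAction.orbitRel (MulAut P)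
        {x : Fin r → P // Subgroup.closure (Set.range x) = ⊤})) * Nat.card (MulAut P) := by
    rw [Nat.card_congr e, Nat.card_prod]
  have hrn : r ≤ n := by
    have h1 : p ^ r ∣ p ^ n := by
      rw [← hr, ← hP]
      exact Subgroup.index_dvd_card _
    exact (Nat.pow_dvd_pow_iff_le_right hp.one_lt).mp h1
  have hΦcard : Nat.card (frattini P) = p ^ (n - r) := by
    have h1 := Subgroup.card_mul_index (frattini P)
    rw [hr, hP] at h1
    have h2 : p ^ n = p ^ (n - r) * p ^ r := by
      rw [← pow_add]
      congr 1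
      omega
    rw [h2] at h1
    exact Nat.eq_of_mul_eq_mul_right (Nat.pow_pos hp.pos) h1
  have hQcard : Nat.card (P ⧸ frattini P) = p ^ r := by
    rw [← Subgroup.index_eq_card, hr]
  have hcomm : ∀ a b : P ⧸ frattini P, a * b = b * a := by
    intro a b
    obtain ⟨x, rfl⟩ := QuotientGroup.mk_surjective a
    obtain ⟨y, rfl⟩ := QuotientGroup.mk_surjective b
    rw [← QuotientGroup.mk_mul, ← QuotientGroup.mk_mul, QuotientGroup.eq]
    have h1 := Cfsg.Agent.Lib.helper73.commutator_mem_frattini hP y⁻¹ x⁻¹
    have h2 : (x * y)⁻¹ * (y * x) = y⁻¹ * x⁻¹ * y⁻¹⁻¹ * x⁻¹⁻¹ := by group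
    rw [h2]
    exact h1
  have hexp : ∀ a : P ⧸ frattini P, a ^ p = 1 := by
    intro a
    obtain ⟨x, rfl⟩ := QuotientGroup.mk_surjective a
    rw [← QuotientGroup.mk_pow, QuotientGroup.eq_one_iff]
    exact Cfsg.Agent.Lib.helper73.pow_mem_frattini hP x
  have hY := Cfsg.Agent.Lib.helper73.card_generating_tuples hcomm hexp hQcard
  -- the generating tuples of `P` are those of the Frattini quotient times tuples in `Φ`
  let E : (Fin r → P) ≃ (Fin r → P ⧸ frattini P) × (Fin r → frattini P) :=
    (Equiv.piCongrRight (fun _ : Fin r => splitEquiv (frattini P))).trans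
      (Equiv.arrowProdEquivProdArrow (Fin r) (fun _ => P ⧸ frattini P) (fun _ => frattini P))
  have hE : ∀ x : Fin r → P, (E x).1 = fun i => (x i : P ⧸ frattini P) := fun _ => rfl
  have e1 : {x : Fin r → P // Subgroup.closure (Set.range x) = ⊤} ≃
      {w : (Fin r → P ⧸ frattini P) × (Fin r → frattini P) //
        Subgroup.closure (Set.range w.1) = ⊤} :=
    Equiv.subtypeEquiv E (fun x => by
      rw [hE]
      exact Cfsg.Agent.Lib.helper73.closure_eq_top_iff_mk_frattini x)
  have e2 := e1.trans (Equiv.prodSubtypeFstEquivSubtypeProd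
    (p := fun y : Fin r → P ⧸ frattini P => Subgroup.closure (Set.range y) = ⊤)
    (β := Fin r → frattini P))
  have hX : Nat.card {x : Fin r → P // Subgroup.closure (Set.range x) = ⊤} =
      (∏ i ∈ Finset.range r, (p ^ r - p ^ i)) * p ^ (r * (n - r)) := by
    rw [Nat.card_congr e2, Nat.card_prod, hY, Nat.card_fun, Nat.card_fin, hΦcard, ← pow_mul,
      mul_comm (n - r) r, Fin.prod_univ_eq_prod_range (fun i => p ^ r - p ^ i) r]
  exact ⟨_, by rw [mul_comm, ← hX, hcard, mul_comm]⟩

end Cfsg.Agent.S4208
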