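import Cfsg.Statements.S4189
import Cfsg.Agent.S4207
import Cfsg.Agent.S4208
import Cfsg.Agent.Lib.helper73.Quaternion

set_option autoImplicit false
open Cfsg

namespace Cfsg.Agent.S4189

open scoped commutatorElement

/-- A group generated by pairwise commuting elements is commutative. -/
theorem comm_of_closure {H : Type*} [Group H] (S : Set H) (hgen : Subgroup.closure S = ⊤)
    (hcomm : ∀ s ∈ S, ∀ t ∈ S, s * t = t * s) : ∀ x y : H, x * y = y * x := by
  have h1 : Subgroup.closure S ≤ Subgroup.centralizer S := by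
    rw [Subgroup.closure_le]
    intro s hs
    rw [SetLike.mem_coe, Subgroup.mem_centralizer_iff]
    intro t ht
    exact hcomm t ht s hs
  rw [hgen] at h1
  have h2 : Subgroup.closure S ≤ Subgroup.center H := by
    rw [Subgroup.closure_le]
    intro s hs
    rw [SetLike.mem_coe, Subgroup.mem_center_iff]
    intro g
    have hg : g ∈ Subgroup.centralizer S := h1 (Subgroup.mem_top g)
    rw [Subgroup.mem_centralizer_iff] at hg
    exact (hg s hs).symm
  rw [hgen] at h2
  intro x y
  have hy : y ∈ Subgroup.center H := h2 (Subgroup.mem_top y)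
  rw [Subgroup.mem_center_iff] at hy
  exact hy x

/-- An element commuting with two generators is central. -/
theorem central_of_commute_gens {H : Type*} [Group H] (a b w : H)
    (hgen : Subgroup.closure {a, b} = (⊤ : Subgroup H)) (ha : w * a = a * w)
    (hb : w * b = b * w) : ∀ g : H, w * g = g * w := by
  have h1 : Subgroup.closure {a, b} ≤ Subgroup.centralizer ({w} : Set H) := by
    rw [Subgroup.closure_le]
    rintro s (rfl | rfl)
    · rw [SetLike.mem_coe, Subgroup.mem_centralizer_iff]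
      rintro t rfl
      exact ha
    · rw [SetLike.mem_coe, Subgroup.mem_centralizer_iff]
      rintro t rfl
      exact hb
  rw [hgen] at h1
  intro g
  have hg : g ∈ Subgroup.centralizer ({w} : Set H) := h1 (Subgroup.mem_top g)
  rw [Subgroup.mem_centralizer_iff] at hg
  exact hg w rfl

/-- The commutator subgroup is the Frattini subgroup, and some automorphism of order dividing
`3` acts non-trivially modulo it. -/
theorem stepAB {P : Type*} [Group P] [Finite P] (hP : IsPGroup 2 P) (hna : ¬ IsMulCommutative P)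
    (h4 : (commutator P).index = 4) (haut : ¬ IsPGroup 2 (MulAut P)) :
    commutator P = frattini P ∧
      ∃ β : MulAut P, β ^ 3 = 1 ∧ ∃ x0 : P, β x0 * x0⁻¹ ∉ commutator P := by
  have : Fact (Nat.Prime 2) := ⟨Nat.prime_two⟩
  have : Fact (Nat.Prime 3) := ⟨Nat.prime_three⟩
  obtain ⟨n, hn⟩ := IsPGroup.iff_card.mp hP
  have hCle : commutator P ≤ frattini P := by
    rw [commutator_eq_closure, Subgroup.closure_le]
    rintro _ ⟨g₁, g₂, rfl⟩
    rw [commutatorElement_def]
    exact Cfsg.Agent.Lib.helper73.commutator_mem_frattini hn g₁ g₂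
  have hdvd : (frattini P).index ∣ 4 := h4 ▸ Subgroup.index_dvd_of_le hCle
  obtain ⟨r, -, hr⟩ := (Nat.dvd_prime_pow Nat.prime_two).mp
    (hn ▸ Subgroup.index_dvd_card (frattini P))
  have hr2 : r ≤ 2 := by
    rw [hr] at hdvd
    exact (Nat.pow_dvd_pow_iff_le_right (by norm_num : 1 < 2)).mp (by simpa using hdvd)
  have hr2' : 2 ≤ r := by
    by_contra hlt
    obtain ⟨x, hx⟩ := Cfsg.Agent.Lib.helper73.exists_generating_tuple_frattini Nat.prime_two hr
    apply hna
    rw [isMulCommutative_iff]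
    apply comm_of_closure _ hx
    rintro _ ⟨i, rfl⟩ _ ⟨j, rfl⟩
    have hij : i = j := by
      apply Fin.ext
      have := i.2
      have := j.2
      omega
    rw [hij]
  have hr' : (frattini P).index = 2 ^ 2 := by
    rw [hr]
    congr 1
    omega
  have hCeq : commutator P = frattini P := by
    apply Subgroup.eq_of_le_of_card_ge hCle
    have h1 := Subgroup.card_mul_index (commutator P)
    have h2 := Subgroup.card_mul_index (frattini P)
    rw [h4] at h1
    rw [hr'] at h2
    omega
  refine ⟨hCeq, ?_⟩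
  have hdiv := Cfsg.Agent.S4208.result hn hr'
  have hprod : ∏ i ∈ Finset.range 2, (2 ^ 2 - 2 ^ i) = 2 * 3 := by
    rw [Finset.prod_range_succ, Finset.prod_range_succ, Finset.prod_range_zero]
    norm_num
  rw [hprod] at hdiv
  have h3 : 3 ∣ Nat.card (MulAut P) := by
    by_contra h
    have hcop : Nat.Coprime (Nat.card (MulAut P)) 3 :=
      ((Nat.Prime.coprime_iff_not_dvd Nat.prime_three).mpr h).symm
    have h5 : Nat.card (MulAut P) ∣ 2 ^ (2 * (n - 2) + 1) := by
      apply hcop.dvd_of_dvd_mul_right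
      have : 2 ^ (2 * (n - 2) + 1) * 3 = 2 ^ (2 * (n - 2)) * (2 * 3) := by ring
      rw [this]
      exact hdiv
    obtain ⟨j, -, hj⟩ := (Nat.dvd_prime_pow Nat.prime_two).mp h5
    exact haut (IsPGroup.of_card hj)
  obtain ⟨α, hα⟩ := exists_prime_orderOf_dvd_card' 3 h3
  by_contra hall
  push Not at hall
  have hα3 : α ^ 3 = 1 := by
    rw [← hα]
    exact pow_orderOf_eq_one α
  have hA : ∀ β ∈ Subgroup.zpowers α, ∀ x : P, β x * x⁻¹ ∈ frattini P := by
    intro β hβ x
    obtain ⟨k, rfl⟩ := Subgroup.mem_zpowers_iff.mp hβ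
    rw [← hCeq]
    apply hall
    rw [← zpow_natCast, ← zpow_mul, mul_comm, zpow_mul, zpow_natCast, hα3, one_zpow]
  have h6 := Cfsg.Agent.S4207.result hn hr' (Subgroup.zpowers α) hA
  rw [Nat.card_zpowers, hα] at h6
  have h7 := Nat.Prime.dvd_of_dvd_pow Nat.prime_three h6
  omega

/-- The elements of a group of order `4` in which every element is an involution. -/
theorem four_elements {Q : Type*} [Group Q] [Finite Q] (hcard : Nat.card Q = 4) (a x : Q)
    (ha : a ≠ 1) (hx : x ≠ 1) (hax : a ≠ x) (hsq : ∀ q : Q, q * q = 1) :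
    ∀ q : Q, q = 1 ∨ q = a ∨ q = x ∨ q = a * x := by
  classical
  have := Fintype.ofFinite Q
  have h1 : x ≠ a * x := fun h => ha (by
    have : 1 * x = a * x := by rw [one_mul]; exact h
    exact (mul_right_cancel this).symm)
  have h2 : a ≠ a * x := fun h => hx (by
    have : a * 1 = a * x := by rw [mul_one]; exact h
    exact (mul_left_cancel this).symm)
  have h3 : (1 : Q) ≠ a * x := fun h => hax (by
    have : a * x = x * x := by rw [← h, hsq x]
    exact mul_right_cancel this)
  have hS : ({1, a, x, a * x} : Finset Q).card = 4 := by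
    rw [Finset.card_insert_of_notMem (by simp [ha.symm, hx.symm, h3]),
      Finset.card_insert_of_notMem (by simp [hax, h2]),
      Finset.card_insert_of_notMem (by simp [h1]), Finset.card_singleton]
  have huniv : ({1, a, x, a * x} : Finset Q) = Finset.univ := by
    apply Finset.eq_univ_of_card
    rw [hS, ← Nat.card_eq_fintype_card, hcard]
  intro q
  have hq : q ∈ ({1, a, x, a * x} : Finset Q) := by
    rw [huniv]
    exact Finset.mem_univ q
  simpa using hq

/-- The induced automorphism of order `3` of the four-group `P ⧸ C` fixes no non-trivial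
coset. -/
theorem no_fixed_coset {P : Type*} [Group P] [Finite P] (C : Subgroup P) [C.Normal]
    (hidx : C.index = 4) (hsq : ∀ x : P, x * x ∈ C) (β : MulAut P)
    (hβC : ∀ x, β x ∈ C ↔ x ∈ C) (hβ3 : ∀ x, β (β (β x)) = x) (x0 : P)
    (hx0 : β x0 * x0⁻¹ ∉ C) (a : P) (ha : a ∉ C) :
    (QuotientGroup.mk (β a) : P ⧸ C) ≠ QuotientGroup.mk a := by
  have hcard : Nat.card (P ⧸ C) = 4 := by rw [← Subgroup.index_eq_card, hidx]
  have hsqQ : ∀ q : P ⧸ C, q * q = 1 := by
    intro q
    obtain ⟨x, rfl⟩ := QuotientGroup.mk_surjective q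
    rw [← QuotientGroup.mk_mul, QuotientGroup.eq_one_iff]
    exact hsq x
  have hπβ : ∀ x y : P, (QuotientGroup.mk (β x) : P ⧸ C) = QuotientGroup.mk (β y) ↔
      (QuotientGroup.mk x : P ⧸ C) = QuotientGroup.mk y := by
    intro x y
    rw [QuotientGroup.eq, QuotientGroup.eq, ← map_inv, ← map_mul, hβC]
  intro hfix
  have h1 : (QuotientGroup.mk a : P ⧸ C) ≠ 1 := by
    rw [Ne, QuotientGroup.eq_one_iff]
    exact ha
  have h2 : (QuotientGroup.mk x0 : P ⧸ C) ≠ 1 := by
    rw [Ne, QuotientGroup.eq_one_iff]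
    intro h
    exact hx0 (C.mul_mem ((hβC x0).mpr h) (C.inv_mem h))
  have h3 : (QuotientGroup.mk (β x0) : P ⧸ C) ≠ QuotientGroup.mk x0 := by
    intro h
    apply hx0
    rw [← QuotientGroup.eq_one_iff, QuotientGroup.mk_mul, QuotientGroup.mk_inv, h,
      mul_inv_cancel]
  have h4 : (QuotientGroup.mk a : P ⧸ C) ≠ QuotientGroup.mk x0 := by
    intro h
    apply h3
    rw [← (hπβ a x0).mpr h, hfix, h]
  rcases four_elements hcard _ _ h1 h2 h4 hsqQ (QuotientGroup.mk (β x0)) with h | h | h | h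
  · rw [QuotientGroup.eq_one_iff, hβC, ← QuotientGroup.eq_one_iff] at h
    exact h2 h
  · rw [← hfix, hπβ] at h
    exact h4 h.symm
  · exact h3 h
  · rw [← QuotientGroup.mk_mul] at h
    have h5 : (QuotientGroup.mk (β (β x0)) : P ⧸ C) = QuotientGroup.mk x0 := by
      rw [(hπβ (β x0) (a * x0)).mpr h, map_mul, QuotientGroup.mk_mul, hfix, h,
        QuotientGroup.mk_mul, ← mul_assoc, hsqQ, one_mul]
    have h6 := (hπβ (β (β x0)) x0).mpr h5
    rw [hβ3] at h6
    exact h3 h6.symm

/-- Generators `a`, `β a` with `β (β a) ≡ a * β a` modulo `C`. -/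
theorem stepCD {P : Type*} [Group P] [Finite P] (C : Subgroup P) [C.Normal]
    (hidx : C.index = 4) (hfr : C = frattini P) (hsq : ∀ x : P, x * x ∈ C) (β : MulAut P)
    (hβC : ∀ x, β x ∈ C ↔ x ∈ C) (hβ3 : ∀ x, β (β (β x)) = x) (x0 : P)
    (hx0 : β x0 * x0⁻¹ ∉ C) :
    ∃ a : P, Subgroup.closure {a, β a} = (⊤ : Subgroup P) ∧ (a * β a)⁻¹ * β (β a) ∈ C := by
  have hcard : Nat.card (P ⧸ C) = 4 := by rw [← Subgroup.index_eq_card, hidx]
  have hsqQ : ∀ q : P ⧸ C, q * q = 1 := by
    intro q
    obtain ⟨x, rfl⟩ := QuotientGroup.mk_surjective q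
    rw [← QuotientGroup.mk_mul, QuotientGroup.eq_one_iff]
    exact hsq x
  have ha : x0 ∉ C := by
    intro h
    exact hx0 (C.mul_mem ((hβC x0).mpr h) (C.inv_mem h))
  have hb : β x0 ∉ C := fun h => ha ((hβC x0).mp h)
  have hc : β (β x0) ∉ C := fun h => hb ((hβC _).mp h)
  have hab := no_fixed_coset C hidx hsq β hβC hβ3 x0 hx0 x0 ha
  have hbc := no_fixed_coset C hidx hsq β hβC hβ3 x0 hx0 (β x0) hb
  have hca := no_fixed_coset C hidx hsq β hβC hβ3 x0 hx0 (β (β x0)) hc
  rw [hβ3] at hca
  have h1 : (QuotientGroup.mk x0 : P ⧸ C) ≠ 1 := by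
    rw [Ne, QuotientGroup.eq_one_iff]
    exact ha
  have h2 : (QuotientGroup.mk (β x0) : P ⧸ C) ≠ 1 := by
    rw [Ne, QuotientGroup.eq_one_iff]
    exact hb
  have h3 : (QuotientGroup.mk (β (β x0)) : P ⧸ C) ≠ 1 := by
    rw [Ne, QuotientGroup.eq_one_iff]
    exact hc
  have hfour := four_elements hcard _ _ h1 h2 hab.symm hsqQ
  refine ⟨x0, ?_, ?_⟩
  · apply frattini_nongenerating
    rw [← hfr, eq_top_iff]
    intro g _
    have hmem_a : x0 ∈ Subgroup.closure ({x0, β x0} : Set P) :=
      Subgroup.subset_closure (Set.mem_insert _ _)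
    have hmem_b : β x0 ∈ Subgroup.closure ({x0, β x0} : Set P) :=
      Subgroup.subset_closure (Set.mem_insert_of_mem _ rfl)
    rcases hfour (QuotientGroup.mk g) with h | h | h | h
    · rw [QuotientGroup.eq_one_iff] at h
      exact Subgroup.mem_sup_right h
    · have h' := QuotientGroup.eq.mp h.symm
      have : g = x0 * (x0⁻¹ * g) := by group
      rw [this]
      exact Subgroup.mul_mem_sup hmem_a h'
    · have h' := QuotientGroup.eq.mp h.symm
      have : g = β x0 * ((β x0)⁻¹ * g) := by group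
      rw [this]
      exact Subgroup.mul_mem_sup hmem_b h'
    · rw [← QuotientGroup.mk_mul] at h
      have h' := QuotientGroup.eq.mp h.symm
      have : g = (x0 * β x0) * ((x0 * β x0)⁻¹ * g) := by group
      rw [this]
      exact Subgroup.mul_mem_sup (Subgroup.mul_mem _ hmem_a hmem_b) h'
  · rcases hfour (QuotientGroup.mk (β (β x0))) with h | h | h | h
    · exact absurd h h3
    · exact absurd h.symm hca
    · exact absurd h hbc
    · rw [← QuotientGroup.mk_mul] at h
      exact QuotientGroup.eq.mp h.symm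

/-- In a group generated by `a`, `b` whose commutator `z` is central and with `a²` commuting
with `b`, one has `z² = 1` and every element of the commutator subgroup is `1` or `z`. -/
theorem class_two_pair {G : Type*} [Group G] (a b : G)
    (hgen : Subgroup.closure {a, b} = (⊤ : Subgroup G))
    (hz : ∀ g : G, (a * b * a⁻¹ * b⁻¹) * g = g * (a * b * a⁻¹ * b⁻¹))
    (ha2 : (a * a) * b = b * (a * a)) :
    (a * b * a⁻¹ * b⁻¹) * (a * b * a⁻¹ * b⁻¹) = 1 ∧
      ∀ w ∈ commutator G, w = 1 ∨ w = a * b * a⁻¹ * b⁻¹ := by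
  obtain ⟨z, hzdef⟩ : ∃ z : G, z = a * b * a⁻¹ * b⁻¹ := ⟨_, rfl⟩
  rw [← hzdef] at hz ⊢
  have hab : a * b = z * b * a := by rw [hzdef]; group
  have hz2 : z * z = 1 := by
    have h1 : a * a * b = z * z * (b * (a * a)) := by
      calc a * a * b = a * (a * b) := by group
        _ = a * (z * b * a) := by rw [← hab]
        _ = (a * z) * b * a := by group
        _ = (z * a) * b * a := by rw [hz a]
        _ = z * (a * b) * a := by group
        _ = z * (z * b * a) * a := by rw [← hab]
        _ = z * z * (b * (a * a)) := by group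
    rw [ha2] at h1
    have h2 : 1 * (b * (a * a)) = z * z * (b * (a * a)) := by rw [one_mul]; exact h1
    exact (mul_right_cancel h2).symm
  refine ⟨hz2, ?_⟩
  let Z : Subgroup G :=
    { carrier := {g | g = 1 ∨ g = z}
      one_mem' := Or.inl rfl
      mul_mem' := by
        rintro x y (rfl | rfl) (rfl | rfl)
        · left; simp
        · right; simp
        · right; simp
        · left; exact hz2
      inv_mem' := by
        rintro x (rfl | rfl)
        · left; simp
        · right; exact inv_eq_of_mul_eq_one_left hz2 }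
  have hmemZ : ∀ g : G, g ∈ Z ↔ g = 1 ∨ g = z := fun g => Iff.rfl
  have hZn : Z.Normal := ⟨by
    rintro x hx g
    rw [hmemZ] at hx ⊢
    rcases hx with rfl | rfl
    · left; simp
    · right
      rw [← hz g]
      group⟩
  have hab' : (QuotientGroup.mk a : G ⧸ Z) * QuotientGroup.mk b =
      QuotientGroup.mk b * QuotientGroup.mk a := by
    rw [← QuotientGroup.mk_mul, ← QuotientGroup.mk_mul, QuotientGroup.eq, hab]
    have h3 : z * b * a = b * a * z := by rw [mul_assoc, hz (b * a)]
    have h4 : (z * b * a)⁻¹ * (b * a) = z⁻¹ := by rw [h3]; group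
    rw [h4]
    exact Z.inv_mem ((hmemZ z).mpr (Or.inr rfl))
  have hQ : ∀ x y : G ⧸ Z, x * y = y * x := by
    apply comm_of_closure ({(QuotientGroup.mk a : G ⧸ Z), QuotientGroup.mk b} : Set (G ⧸ Z))
    · have h1 : (Subgroup.closure ({a, b} : Set G)).map (QuotientGroup.mk' Z) = ⊤ := by
        rw [hgen]
        exact Subgroup.map_top_of_surjective _ (QuotientGroup.mk'_surjective Z)
      rw [MonoidHom.map_closure, Set.image_pair] at h1
      exact h1
    · rintro s (rfl | rfl) t (rfl | rfl)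
      · rfl
      · exact hab'
      · exact hab'.symm
      · rfl
  have hle : commutator G ≤ Z := by
    rw [commutator_eq_closure, Subgroup.closure_le]
    rintro _ ⟨g₁, g₂, rfl⟩
    rw [SetLike.mem_coe, commutatorElement_def, ← QuotientGroup.eq_one_iff (N := Z)]
    simp only [QuotientGroup.mk_mul, QuotientGroup.mk_inv]
    rw [hQ (QuotientGroup.mk g₁) (QuotientGroup.mk g₂)]
    group
  intro w hw
  exact (hmemZ w).mp (hle hw)

/-- Elements of a normal subgroup `H` are central modulo `⁅H, ⊤⁆`. -/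
theorem central_mod {P : Type*} [Group P] (H : Subgroup P) [H.Normal] (t : P) (ht : t ∈ H)
    (g : P ⧸ ⁅H, (⊤ : Subgroup P)⁆) :
    (QuotientGroup.mk t : P ⧸ ⁅H, (⊤ : Subgroup P)⁆) * g = g * QuotientGroup.mk t := by
  obtain ⟨x, rfl⟩ := QuotientGroup.mk_surjective g
  have h := Subgroup.commutator_mem_commutator ht (Subgroup.mem_top x)
  rw [commutatorElement_def, ← QuotientGroup.eq_one_iff] at h
  simp only [QuotientGroup.mk_mul, QuotientGroup.mk_inv] at h
  calc (QuotientGroup.mk t : P ⧸ ⁅H, (⊤ : Subgroup P)⁆) * QuotientGroup.mk x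
      = (QuotientGroup.mk t * QuotientGroup.mk x * (QuotientGroup.mk t)⁻¹ *
          (QuotientGroup.mk x)⁻¹) * (QuotientGroup.mk x * QuotientGroup.mk t) := by group
    _ = QuotientGroup.mk x * QuotientGroup.mk t := by rw [h, one_mul]

/-- The relations of the quaternion group hold modulo the third term of the lower central
series. -/
theorem stepE {P : Type*} [Group P] (β : MulAut P)
    (hsq : ∀ x : P, x * x ∈ commutator P) (a : P)
    (hgen : Subgroup.closure {a, β a} = (⊤ : Subgroup P))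
    (hc : (a * β a)⁻¹ * β (β a) ∈ commutator P) :
    (a * a)⁻¹ * (a * β a * a⁻¹ * (β a)⁻¹) ∈ ⁅commutator P, (⊤ : Subgroup P)⁆ ∧
    (β a * β a)⁻¹ * (a * a) ∈ ⁅commutator P, (⊤ : Subgroup P)⁆ ∧
    (a * a) * (a * a) ∈ ⁅commutator P, (⊤ : Subgroup P)⁆ ∧
    ∀ t ∈ commutator P, t ∈ ⁅commutator P, (⊤ : Subgroup P)⁆ ∨
      (a * a)⁻¹ * t ∈ ⁅commutator P, (⊤ : Subgroup P)⁆ := by
  obtain ⟨T, hT⟩ : ∃ T : Subgroup P, T = ⁅commutator P, (⊤ : Subgroup P)⁆ := ⟨_, rfl⟩
  obtain ⟨b, hb⟩ : ∃ b : P, b = β a := ⟨_, rfl⟩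
  obtain ⟨c, hcdef⟩ : ∃ c : P, c = β b := ⟨_, rfl⟩
  rw [← hb] at hgen hc ⊢
  rw [← hcdef] at hc
  have hTn : T.Normal := by rw [hT]; infer_instance
  have hcen : ∀ t ∈ commutator P, ∀ g : P ⧸ T,
      (QuotientGroup.mk t : P ⧸ T) * g = g * QuotientGroup.mk t := by
    subst hT
    exact fun t ht g => central_mod (commutator P) t ht g
  rw [← hT]
  have hzmem : a * b * a⁻¹ * b⁻¹ ∈ commutator P := by
    rw [commutator_def]
    have := Subgroup.commutator_mem_commutator (Subgroup.mem_top a)
      (Subgroup.mem_top (G := P) b)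
    rwa [commutatorElement_def] at this
  obtain ⟨A, hA⟩ : ∃ A : P ⧸ T, A = QuotientGroup.mk a := ⟨_, rfl⟩
  obtain ⟨B, hB⟩ : ∃ B : P ⧸ T, B = QuotientGroup.mk b := ⟨_, rfl⟩
  obtain ⟨z, hz⟩ : ∃ z : P ⧸ T, z = A * B * A⁻¹ * B⁻¹ := ⟨_, rfl⟩
  have hzmk : z = QuotientGroup.mk (a * b * a⁻¹ * b⁻¹) := by
    rw [hz, hA, hB]
    simp only [QuotientGroup.mk_mul, QuotientGroup.mk_inv]
  have hzc : ∀ g : P ⧸ T, z * g = g * z := by
    intro g
    rw [hzmk]
    exact hcen _ hzmem g
  have hAA : A * A = QuotientGroup.mk (a * a) := by rw [hA, QuotientGroup.mk_mul]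
  have hBB : B * B = QuotientGroup.mk (b * b) := by rw [hB, QuotientGroup.mk_mul]
  have hA2 : A * A * B = B * (A * A) := by
    rw [hAA]
    exact hcen _ (hsq a) B
  have hgenG : Subgroup.closure {A, B} = (⊤ : Subgroup (P ⧸ T)) := by
    have h1 : (Subgroup.closure ({a, b} : Set P)).map (QuotientGroup.mk' T) = ⊤ := by
      rw [hgen]
      exact Subgroup.map_top_of_surjective _ (QuotientGroup.mk'_surjective T)
    rw [MonoidHom.map_closure, Set.image_pair] at h1
    rw [hA, hB]
    exact h1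
  obtain ⟨hz2, hcomm⟩ := class_two_pair A B hgenG (by rw [← hz]; exact hzc) hA2
  rw [← hz] at hz2 hcomm
  have hCz : ∀ t ∈ commutator P, (QuotientGroup.mk t : P ⧸ T) = 1 ∨
      (QuotientGroup.mk t : P ⧸ T) = z := by
    intro t ht
    have hle : (commutator P).map (QuotientGroup.mk' T) ≤ commutator (P ⧸ T) := by
      rw [commutator_def, Subgroup.map_commutator, commutator_def]
      exact Subgroup.commutator_mono le_top le_top
    exact hcomm _ (hle (Subgroup.mem_map_of_mem _ ht))
  have hβC : ∀ x, β x ∈ commutator P ↔ x ∈ commutator P := by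
    intro x
    have h1 := Subgroup.characteristic_iff_comap_eq.mp
      (inferInstance : (commutator P).Characteristic) β
    rw [← Subgroup.ext_iff.mp h1 x]
    rfl
  have hβT : ∀ x, β x ∈ T ↔ x ∈ T := by
    intro x
    have hchar : T.Characteristic := by rw [hT]; infer_instance
    have h1 := Subgroup.characteristic_iff_comap_eq.mp hchar β
    rw [← Subgroup.ext_iff.mp h1 x]
    rfl
  have hβρ : ∀ t ∈ commutator P, (QuotientGroup.mk (β t) : P ⧸ T) = QuotientGroup.mk t := by
    intro t ht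
    rcases hCz t ht with h | h
    · rw [h]
      rw [QuotientGroup.eq_one_iff] at h ⊢
      exact (hβT t).mpr h
    · rcases hCz (β t) ((hβC t).mpr ht) with h' | h'
      · rw [h']
        rw [QuotientGroup.eq_one_iff] at h'
        exact ((QuotientGroup.eq_one_iff t).mpr ((hβT t).mp h')).symm
      · rw [h', h]
  have hBBAA : B * B = A * A := by
    rw [hBB, hAA, hb, ← map_mul]
    exact hβρ _ (hsq a)
  have hCC : (QuotientGroup.mk c : P ⧸ T) * QuotientGroup.mk c = B * B := by
    rw [hBB, ← QuotientGroup.mk_mul, hcdef, ← map_mul]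
    exact hβρ _ (hsq b)
  obtain ⟨τ, hτ⟩ : ∃ τ : P ⧸ T, τ = QuotientGroup.mk ((a * b)⁻¹ * c) := ⟨_, rfl⟩
  have hτ2 : τ * τ = 1 := by
    rcases hCz _ hc with h | h
    · rw [hτ, h, one_mul]
    · rw [hτ, h, hz2]
  have hτc : ∀ g : P ⧸ T, τ * g = g * τ := by
    intro g
    rw [hτ]
    exact hcen _ hc g
  have hCc : (QuotientGroup.mk c : P ⧸ T) = A * B * τ := by
    rw [hτ, hA, hB, ← QuotientGroup.mk_mul, ← QuotientGroup.mk_mul]
    congr 1
    group
  have hBA : B * A = z⁻¹ * A * B := by rw [hz]; group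
  have hzinv : ∀ g : P ⧸ T, z⁻¹ * g = g * z⁻¹ := by
    intro g
    have := hzc g
    calc z⁻¹ * g = z⁻¹ * (g * z) * z⁻¹ := by group
      _ = z⁻¹ * (z * g) * z⁻¹ := by rw [this]
      _ = g * z⁻¹ := by group
  have hkey : A * A = z⁻¹ * (A * A) * (A * A) := by
    calc A * A = B * B := hBBAA.symm
      _ = QuotientGroup.mk c * QuotientGroup.mk c := hCC.symm
      _ = A * B * τ * (A * B * τ) := by rw [hCc]
      _ = A * B * (τ * (A * B)) * τ := by group
      _ = A * B * (A * B * τ) * τ := by rw [hτc (A * B)]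
      _ = A * B * (A * B) * (τ * τ) := by group
      _ = A * (B * A) * B := by rw [hτ2]; group
      _ = A * (z⁻¹ * A * B) * B := by rw [hBA]
      _ = (A * z⁻¹) * A * (B * B) := by group
      _ = (z⁻¹ * A) * A * (B * B) := by rw [hzinv A]
      _ = z⁻¹ * (A * A) * (A * A) := by rw [hBBAA]; group
  have hzAA : z = A * A := by
    have h1 : 1 * (A * A) = z⁻¹ * (A * A) * (A * A) := by rw [one_mul]; exact hkey
    have h2 : 1 = z⁻¹ * (A * A) := mul_right_cancel h1
    calc z = z * 1 := (mul_one z).symm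
      _ = z * (z⁻¹ * (A * A)) := by rw [← h2]
      _ = A * A := by group
  refine ⟨?_, ?_, ?_, ?_⟩
  · rw [← QuotientGroup.eq, ← hzmk, ← hAA, hzAA]
  · rw [← QuotientGroup.eq, ← hBB, ← hAA, hBBAA]
  · rw [← QuotientGroup.eq_one_iff, QuotientGroup.mk_mul, ← hAA, ← hzAA, hz2]
  · intro t ht
    rcases hCz t ht with h | h
    · left
      exact (QuotientGroup.eq_one_iff t).mp h
    · right
      rw [← QuotientGroup.eq, ← hAA, ← hzAA, h]

/-- Let P be a finite non-abelian 2-group whose commutator subgroup has index 4 and whose automorphism group is not a 2-group (some automorphism has order that is not a power of 2). Then P is isomorphic to the quaternion group of order 8. -/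
theorem result {P : Type*} [Group P] [Finite P] (hP : IsPGroup 2 P) (hna : ¬ IsMulCommutative P) (h4 : (commutator P).index = 4) (haut : ¬ IsPGroup 2 (MulAut P)) : Nonempty (P ≃* QuaternionGroup 2) := by
  have : Fact (Nat.Prime 2) := ⟨Nat.prime_two⟩
  obtain ⟨hCeq, β, hβ3, x0, hx0⟩ := stepAB hP hna h4 haut
  obtain ⟨n, hn⟩ := IsPGroup.iff_card.mp hP
  have hsq : ∀ x : P, x * x ∈ commutator P := by
    intro x
    rw [hCeq, ← pow_two]
    exact Cfsg.Agent.Lib.helper73.pow_mem_frattini hn x
  have hβ3' : ∀ x, β (β (β x)) = x := by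
    intro x
    have h := congrArg (fun f : MulAut P => f x) hβ3
    simpa [pow_succ, MulAut.mul_apply] using h
  have hβC : ∀ x, β x ∈ commutator P ↔ x ∈ commutator P := by
    intro x
    have h1 := Subgroup.characteristic_iff_comap_eq.mp
      (inferInstance : (commutator P).Characteristic) β
    rw [← Subgroup.ext_iff.mp h1 x]
    rfl
  obtain ⟨a, hgen, hc⟩ := stepCD (commutator P) h4 hCeq hsq β hβC hβ3' x0 hx0
  obtain ⟨h1, h2, h3, h4'⟩ := stepE β hsq a hgen hc
  have hTU : ⁅commutator P, (⊤ : Subgroup P)⁆ ≤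
      ⁅⁅commutator P, (⊤ : Subgroup P)⁆, (⊤ : Subgroup P)⁆ := by
    rw [Subgroup.commutator_le]
    intro t ht x _
    obtain ⟨T, hT⟩ : ∃ T : Subgroup P, T = ⁅commutator P, (⊤ : Subgroup P)⁆ := ⟨_, rfl⟩
    rw [← hT] at h1 h2 h3 h4' ⊢
    have hTn : T.Normal := by rw [hT]; infer_instance
    have hcen : ∀ s ∈ T, ∀ g : P ⧸ ⁅T, (⊤ : Subgroup P)⁆,
        (QuotientGroup.mk s : P ⧸ ⁅T, (⊤ : Subgroup P)⁆) * g = g * QuotientGroup.mk s :=
      fun s hs g => central_mod T s hs g
    have hgenG : Subgroup.closure {(QuotientGroup.mk a : P ⧸ ⁅T, (⊤ : Subgroup P)⁆),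
        QuotientGroup.mk (β a)} = (⊤ : Subgroup (P ⧸ ⁅T, (⊤ : Subgroup P)⁆)) := by
      have h5 : (Subgroup.closure ({a, β a} : Set P)).map
          (QuotientGroup.mk' ⁅T, (⊤ : Subgroup P)⁆) = ⊤ := by
        rw [hgen]
        exact Subgroup.map_top_of_surjective _ (QuotientGroup.mk'_surjective _)
      rw [MonoidHom.map_closure, Set.image_pair] at h5
      exact h5
    have hw : ∀ g : P ⧸ ⁅T, (⊤ : Subgroup P)⁆,
        (QuotientGroup.mk (a * a) : P ⧸ ⁅T, (⊤ : Subgroup P)⁆) * g =
          g * QuotientGroup.mk (a * a) := by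
      apply central_of_commute_gens _ _ _ hgenG
      · rw [QuotientGroup.mk_mul]
        group
      · have hab : a * a = β a * β a * ((β a * β a)⁻¹ * (a * a)) := by group
        rw [hab, QuotientGroup.mk_mul, QuotientGroup.mk_mul]
        have h6 := hcen _ h2 (QuotientGroup.mk (β a))
        rw [mul_assoc, h6]
        group
    have ht' : (QuotientGroup.mk t : P ⧸ ⁅T, (⊤ : Subgroup P)⁆) * QuotientGroup.mk x =
        QuotientGroup.mk x * QuotientGroup.mk t := by
      rcases h4' t ht with h | h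
      · exact hcen t h _
      · have h7 : t = (a * a) * ((a * a)⁻¹ * t) := by group
        rw [h7, QuotientGroup.mk_mul, mul_assoc, hcen _ h, ← mul_assoc, hw, mul_assoc]
    rw [commutatorElement_def, ← QuotientGroup.eq_one_iff]
    simp only [QuotientGroup.mk_mul, QuotientGroup.mk_inv]
    rw [ht']
    group
  have hnil : Group.IsNilpotent P := hP.isNilpotent
  obtain ⟨k, hk⟩ := Subgroup.nilpotent_iff_lowerCentralSeries.mp hnil
  have hTk : ∀ j, ⁅commutator P, (⊤ : Subgroup P)⁆ ≤ (⊤ : Subgroup P).lowerCentralSeries j := by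
    intro j
    induction j with
    | zero =>
      rw [Subgroup.lowerCentralSeries_zero]
      exact le_top
    | succ j ih =>
      rw [Subgroup.lowerCentralSeries_succ]
      exact le_trans hTU (Subgroup.commutator_mono ih le_rfl)
  have hTbot : ⁅commutator P, (⊤ : Subgroup P)⁆ = ⊥ := by
    rw [eq_bot_iff, ← hk]
    exact hTk k
  rw [hTbot, Subgroup.mem_bot] at h1 h2 h3
  have h1' : a * a = a * β a * a⁻¹ * (β a)⁻¹ := inv_mul_eq_one.mp h1
  have h2' : β a * β a = a * a := inv_mul_eq_one.mp h2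
  have ha4 : a ^ 4 = 1 := by
    calc a ^ 4 = a * a * (a * a) := by simp [pow_succ, mul_assoc]
      _ = 1 := h3
  have ha2 : a ^ 2 ≠ 1 := by
    intro h
    rw [pow_two] at h
    rw [h] at h1'
    apply hna
    rw [isMulCommutative_iff]
    apply comm_of_closure _ hgen
    have hab : a * β a = β a * a := by
      calc a * β a = (a * β a * a⁻¹ * (β a)⁻¹) * (β a * a) := by group
        _ = β a * a := by rw [← h1', one_mul]
    rintro s (rfl | rfl) t (rfl | rfl)
    · rfl
    · exact hab
    · exact hab.symm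
    · rfl
  have hb : (β a) ^ 2 = a ^ 2 := by rw [pow_two, pow_two, h2']
  have hab : β a * a * (β a)⁻¹ = a⁻¹ := by
    have h5 : a = β a * a⁻¹ * (β a)⁻¹ := by
      calc a = a⁻¹ * (a * a) := by group
        _ = a⁻¹ * (a * β a * a⁻¹ * (β a)⁻¹) := by rw [← h1']
        _ = β a * a⁻¹ * (β a)⁻¹ := by group
    calc β a * a * (β a)⁻¹ = (β a * a⁻¹ * (β a)⁻¹)⁻¹ := by group
      _ = a⁻¹ := by rw [← h5]
  exact Cfsg.Agent.Lib.helper73.nonempty_mulEquiv_quaternion a (β a) ha4 ha2 hb hab hgen

end Cfsg.Agent.S4189
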