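import Cfsg.Statements.S4194
import Cfsg.Agent.Lib.helper76.CaminaHerzog

set_option autoImplicit false
open Cfsg

namespace Cfsg.Agent.S4194

/-- A finite group G has commutative Sylow 2-subgroups if and only if every 2-element of G (element of order a power of 2) is 2-central, that is, its centralizer contains a Sylow 2-subgroup of G. -/
theorem result {G : Type*} [Group G] [Finite G] (P : Sylow 2 G) :
    IsMulCommutative (P : Subgroup G) ↔ ∀ x : G, (∃ k : ℕ, orderOf x = 2 ^ k) → (∃ Q : Sylow 2 G, (Q : Subgroup G) ≤ Subgroup.centralizer ({x} : Set G)) := by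
  have : Fact (Nat.Prime 2) := ⟨Nat.prime_two⟩
  constructor
  · intro hP x hx
    obtain ⟨R, hR⟩ := Cfsg.Agent.Lib.helper76.exists_sylow_of_orderOf 2 x hx
    obtain ⟨g, hg⟩ := MulAction.exists_smul_eq G P R
    refine ⟨R, ?_⟩
    intro q hq
    rw [Subgroup.mem_centralizer_singleton_iff]
    have hq' : q ∈ g • P := by rw [hg]; exact hq
    have hx' : x ∈ g • P := by rw [hg]; exact hR
    rw [Cfsg.Agent.Lib.helper76.mem_smul_sylow] at hq' hx'
    have hcomm : (g⁻¹ * q * g) * (g⁻¹ * x * g) = (g⁻¹ * x * g) * (g⁻¹ * q * g) := by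
      have h1 := hP.is_comm.comm (⟨_, hq'⟩ : (P : Subgroup G)) ⟨_, hx'⟩
      exact congrArg Subtype.val h1
    calc q * x = g * ((g⁻¹ * q * g) * (g⁻¹ * x * g)) * g⁻¹ := by group
      _ = g * ((g⁻¹ * x * g) * (g⁻¹ * q * g)) * g⁻¹ := by rw [hcomm]
      _ = x * q := by group
  · intro H
    have hc := Cfsg.Agent.Lib.helper76.ch_comm H P
    exact ⟨⟨fun a b => Subtype.ext (hc a.1 a.2 b.1 b.2)⟩⟩

end Cfsg.Agent.S4194
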