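import Cfsg.Statements.S4195

set_option autoImplicit false
open Cfsg

namespace Cfsg.Agent.S4195

/-- Let x be a non-identity element of a finite group G whose centralizer contains a Sylow 2-subgroup of G. If x is conjugate to its inverse, then x has order 2. -/
theorem result {G : Type*} [Group G] [Finite G] (x : G) (hx : x ≠ 1) (P : Sylow 2 G) (hP : (P : Subgroup G) ≤ Subgroup.centralizer ({x} : Set G)) (hreal : IsConj x x⁻¹) : orderOf x = 2 := by
  classical
  haveI : Fact (Nat.Prime 2) := ⟨Nat.prime_two⟩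
  let X : Set G := MulAction.orbit (ConjAct G) x
  have hX : ∀ y, y ∈ X ↔ IsConj y x := fun y => ConjAct.mem_orbit_conjAct
  have hcard : Nat.card X = (Subgroup.centralizer ({x} : Set G)).index := by
    have e := ((MulAction.orbitEquivQuotientStabilizer (ConjAct G) x).trans
            (Subgroup.quotientEquivOfEq (ConjAct.stabilizer_eq_centralizer x)))
    exact Nat.card_congr e
  have hodd : ¬ 2 ∣ Nat.card X := by
    rw [hcard]
    intro h
    exact P.not_dvd_index (h.trans (Subgroup.index_dvd_of_le hP))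
  have hinv : ∀ y ∈ X, y⁻¹ ∈ X := by
    intro y hy
    rw [hX] at hy ⊢
    obtain ⟨c, hc⟩ := isConj_iff.mp hy
    have h1 : IsConj y⁻¹ x⁻¹ := by
      rw [isConj_iff]
      refine ⟨c, ?_⟩
      rw [← hc]
      group
    exact h1.trans hreal.symm
  let σ : Equiv.Perm X := ⟨fun y => ⟨y.1⁻¹, hinv y.1 y.2⟩, fun y => ⟨y.1⁻¹, hinv y.1 y.2⟩,
    fun y => by simp, fun y => by simp⟩
  haveI : Fintype X := Fintype.ofFinite X
  have hσ : σ ^ 2 ^ 1 = 1 := by
    ext y
    simp [σ, pow_two]
  obtain ⟨a, ha⟩ := Equiv.Perm.exists_fixed_point_of_prime (p := 2) (n := 1)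
    (by rwa [← Nat.card_eq_fintype_card]) hσ
  have ha' : (a : G)⁻¹ = a := by
    have := congrArg Subtype.val ha
    simpa [σ] using this
  have ha2 : (a : G) ^ 2 = 1 := by
    rw [pow_two]
    nth_rewrite 1 [← ha']
    simp
  have hx2 : x ^ 2 = 1 := by
    obtain ⟨c, hc⟩ := isConj_iff.mp ((hX a).mp a.2)
    rw [← hc, conj_pow, ha2]
    simp
  exact orderOf_eq_prime hx2 hx

end Cfsg.Agent.S4195
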