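import Cfsg.Statements.S4198
import Mathlib.GroupTheory.Perm.Cycle.PossibleTypes
import Mathlib.GroupTheory.SpecificGroups.Alternating.Centralizer

set_option autoImplicit false
open Cfsg

namespace Cfsg.Agent.S4198

/-- cycle types available in degree `n` -/
def CT (n : ℕ) : Set (Multiset ℕ) := {m | m.sum ≤ n ∧ ∀ a ∈ m, 2 ≤ a}

theorem mem_CT {n : ℕ} {m : Multiset ℕ} : m ∈ CT n ↔ m.sum ≤ n ∧ ∀ a ∈ m, 2 ≤ a := Iff.rfl

theorem CT_eq_range (n : ℕ) :
    CT n = Set.range (fun σ : Equiv.Perm (Fin n) => σ.cycleType) := by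
  ext m
  constructor
  · rintro ⟨h1, h2⟩
    obtain ⟨σ, hσ⟩ := (Equiv.Perm.exists_with_cycleType_iff (α := Fin n)).mpr
      ⟨by simpa using h1, h2⟩
    exact ⟨σ, hσ⟩
  · rintro ⟨σ, rfl⟩
    exact ⟨by simpa using σ.sum_cycleType_le, fun a ha => Equiv.Perm.two_le_of_mem_cycleType ha⟩

theorem CT_finite (n : ℕ) : (CT n).Finite := by
  rw [CT_eq_range]; exact Set.finite_range _

theorem CT_mono {a b : ℕ} (h : a ≤ b) : CT a ⊆ CT b := fun _ hm => ⟨hm.1.trans h, hm.2⟩

/-- an element of a nonzero multiset -/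
noncomputable def pick (m : Multiset ℕ) : ℕ :=
  if h : m = 0 then 0 else Classical.choose (Multiset.exists_mem_of_ne_zero h)

theorem pick_mem {m : Multiset ℕ} (h : m ≠ 0) : pick m ∈ m := by
  unfold pick
  rw [dif_neg h]
  exact Classical.choose_spec (Multiset.exists_mem_of_ne_zero h)

theorem CT_zero : CT 0 ⊆ {0} := by
  intro m hm
  rw [Set.mem_singleton_iff]
  by_contra h
  have h1 := pick_mem h
  have h2 := hm.2 _ h1
  have h3 := Multiset.le_sum_of_mem h1
  have h4 := hm.1
  omega

theorem CT_one : CT 1 ⊆ {0} := by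
  intro m hm
  rw [Set.mem_singleton_iff]
  by_contra h
  have h1 := pick_mem h
  have h2 := hm.2 _ h1
  have h3 := Multiset.le_sum_of_mem h1
  have h4 := hm.1
  omega

theorem CT_step (n : ℕ) : (CT (n + 2)).ncard ≤ (CT (n + 1)).ncard + (CT n).ncard := by
  classical
  have hsub : CT (n + 2) ⊆ CT (n + 1) ∪ {m | m ∈ CT (n + 2) ∧ m.sum = n + 2} := by
    intro m hm
    by_cases h : m.sum = n + 2
    · exact Or.inr ⟨hm, h⟩
    · exact Or.inl ⟨by have := hm.1; omega, hm.2⟩
  have hfin : ({m | m ∈ CT (n + 2) ∧ m.sum = n + 2} : Set (Multiset ℕ)).Finite :=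
    (CT_finite (n + 2)).subset (fun m hm => hm.1)
  have h1 : (CT (n + 2)).ncard ≤ (CT (n + 1) ∪ {m | m ∈ CT (n + 2) ∧ m.sum = n + 2}).ncard :=
    Set.ncard_le_ncard hsub ((CT_finite _).union hfin)
  have h2 := Set.ncard_union_le (CT (n + 1)) {m | m ∈ CT (n + 2) ∧ m.sum = n + 2}
  have hne : ∀ m ∈ ({m | m ∈ CT (n + 2) ∧ m.sum = n + 2} : Set (Multiset ℕ)), m ≠ 0 := by
    rintro m ⟨-, hs⟩ rfl
    simp at hs
  have h3 : ({m | m ∈ CT (n + 2) ∧ m.sum = n + 2} : Set (Multiset ℕ)).ncard ≤ (CT n).ncard := by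
    apply Set.ncard_le_ncard_of_injOn (fun m => m.erase (pick m)) _ _ (CT_finite n)
    · rintro m hm
      have hm0 := hne m hm
      obtain ⟨hm1, hs⟩ := hm
      have hp := pick_mem hm0
      have hsum : (m.erase (pick m)).sum + pick m = m.sum := by
        conv_rhs => rw [← Multiset.cons_erase hp, Multiset.sum_cons]
        omega
      have := hm1.2 _ hp
      exact ⟨by omega, fun a ha => hm1.2 a (Multiset.mem_of_mem_erase ha)⟩
    · rintro m hm m' hm' heq
      have hm0 := hne m hm
      have hm0' := hne m' hm'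
      have hp := pick_mem hm0
      have hp' := pick_mem hm0'
      have hsum : (m.erase (pick m)).sum + pick m = m.sum := by
        conv_rhs => rw [← Multiset.cons_erase hp, Multiset.sum_cons]
        omega
      have hsum' : (m'.erase (pick m')).sum + pick m' = m'.sum := by
        conv_rhs => rw [← Multiset.cons_erase hp', Multiset.sum_cons]
        omega
      simp only at heq
      have e1 := hm.2
      have e2 := hm'.2
      have hpp : pick m = pick m' := by rw [heq] at hsum; omega
      rw [← Multiset.cons_erase hp, ← Multiset.cons_erase hp', heq, hpp]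
  omega

theorem CT_bound (k : ℕ) : (CT (k + 5)).ncard ≤ 2 ^ (k + 3) ∧ (CT (k + 6)).ncard ≤ 2 ^ (k + 4) := by
  induction k with
  | zero =>
    have b0 : (CT 0).ncard ≤ 1 := by
      have := Set.ncard_le_ncard CT_zero (Set.finite_singleton _)
      simpa using this
    have b1 : (CT 1).ncard ≤ 1 := by
      have := Set.ncard_le_ncard CT_one (Set.finite_singleton _)
      simpa using this
    have b2 := CT_step 0
    have b3 := CT_step 1
    have b4 := CT_step 2
    have b5 := CT_step 3
    have b6 := CT_step 4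
    norm_num at b2 b3 b4 b5 b6 ⊢
    omega
  | succ k ih =>
    refine ⟨ih.2, ?_⟩
    have := CT_step (k + 5)
    have e1 : 2 ^ (k + 1 + 4) = 4 * 2 ^ (k + 3) := by ring
    have e2 : 2 ^ (k + 4) = 2 * 2 ^ (k + 3) := by ring
    have e3 : k + 1 + 6 = k + 5 + 2 := by ring
    have e4 : k + 6 = k + 5 + 1 := by ring
    rw [e3, e1]
    rw [e4, e2] at ih
    omega

theorem card_conjClasses_perm_le (n : ℕ) :
    Nat.card (ConjClasses (Equiv.Perm (Fin n))) ≤ (CT n).ncard := by
  classical
  rw [← Set.ncard_univ]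
  apply Set.ncard_le_ncard_of_injOn
    (fun c : ConjClasses (Equiv.Perm (Fin n)) => (Quotient.out c).cycleType) _ _ (CT_finite n)
  · intro c _
    rw [CT_eq_range]
    exact ⟨_, rfl⟩
  · intro c _ c' _ h
    simp only at h
    rw [← Equiv.Perm.isConj_iff_cycleType_eq, ← ConjClasses.mk_eq_mk_iff_isConj] at h
    have e1 : ConjClasses.mk (Quotient.out c) = c := Quotient.out_eq c
    have e2 : ConjClasses.mk (Quotient.out c') = c' := Quotient.out_eq c'
    rw [← e1, ← e2, h]

theorem part2 (n : ℕ) (hn : 5 ≤ n) :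
    Nat.card (ConjClasses (Equiv.Perm (Fin n))) ≤ 2 ^ (n - 2) := by
  obtain ⟨k, rfl⟩ := Nat.exists_eq_add_of_le' hn
  have h1 := card_conjClasses_perm_le (k + 5)
  have h2 := (CT_bound k).1
  have e : k + 5 - 2 = k + 3 := by omega
  rw [e]
  omega

/-- shift: lower a chosen part by one -/
noncomputable def shift (m : Multiset ℕ) : Multiset ℕ := (pick m - 1) ::ₘ m.erase (pick m)

theorem shift_inj_of_odd {m m' : Multiset ℕ} (hm0 : m ≠ 0) (hm0' : m' ≠ 0)
    (hm : ∀ a ∈ m, Odd a) (hm' : ∀ a ∈ m', Odd a) (h : shift m = shift m') : m = m' := by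
  have hp := pick_mem hm0
  have hp' := pick_mem hm0'
  have ho := hm _ hp
  have ho' := hm' _ hp'
  have h1 : pick m - 1 ∈ shift m' := by rw [← h]; exact Multiset.mem_cons_self _ _
  unfold shift at h1
  rcases Multiset.mem_cons.mp h1 with h2 | h2
  · have hpp : pick m = pick m' := by
      obtain ⟨k, hk⟩ := ho; obtain ⟨k', hk'⟩ := ho'; omega
    unfold shift at h
    rw [hpp] at h
    have h3 := (Multiset.cons_inj_right _).mp h
    rw [← Multiset.cons_erase hp, ← Multiset.cons_erase hp', hpp, h3]
  · have h3 := hm' _ (Multiset.mem_of_mem_erase h2)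
    obtain ⟨k, hk⟩ := ho; obtain ⟨k', hk'⟩ := h3; omega

theorem shift_sum {m : Multiset ℕ} (hm0 : m ≠ 0) (h1 : 1 ≤ pick m) :
    (shift m).sum + 1 = m.sum := by
  have hp := pick_mem hm0
  conv_rhs => rw [← Multiset.cons_erase hp, Multiset.sum_cons]
  unfold shift
  rw [Multiset.sum_cons]
  omega

theorem shift_card {m : Multiset ℕ} (hm0 : m ≠ 0) :
    Multiset.card (shift m) = Multiset.card m := by
  have hp := pick_mem hm0
  conv_rhs => rw [← Multiset.cons_erase hp, Multiset.card_cons]
  unfold shift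
  rw [Multiset.card_cons]

variable {n : ℕ}

/-- cycle type of the chosen representative of an `A_n`-class -/
noncomputable def ty (c : ConjClasses (alternatingGroup (Fin n))) : Multiset ℕ :=
  ((Quotient.out c : alternatingGroup (Fin n)) : Equiv.Perm (Fin n)).cycleType

theorem mk_out (c : ConjClasses (alternatingGroup (Fin n))) :
    ConjClasses.mk (Quotient.out c) = c := Quotient.out_eq c

/-- conjugate by an even permutation implies same class -/
theorem class_eq_of_even {c c' : ConjClasses (alternatingGroup (Fin n))}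
    (g : Equiv.Perm (Fin n)) (hg : g ∈ alternatingGroup (Fin n))
    (h : g * (Quotient.out c : alternatingGroup (Fin n)).1 * g⁻¹ = (Quotient.out c').1) :
    c = c' := by
  rw [← mk_out c, ← mk_out c', ConjClasses.mk_eq_mk_iff_isConj, isConj_iff]
  exact ⟨⟨g, hg⟩, Subtype.ext h⟩

theorem exists_conj_of_ty_eq {c c' : ConjClasses (alternatingGroup (Fin n))}
    (h : ty c = ty c') :
    ∃ g : Equiv.Perm (Fin n),
      g * (Quotient.out c : alternatingGroup (Fin n)).1 * g⁻¹ = (Quotient.out c').1 := by
  have := Equiv.Perm.isConj_iff_cycleType_eq.mpr h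
  exact isConj_iff.mp this

theorem odd_mul_odd_mem {g h : Equiv.Perm (Fin n)} (hg : g ∉ alternatingGroup (Fin n))
    (hh : h ∉ alternatingGroup (Fin n)) : h * g ∈ alternatingGroup (Fin n) := by
  rw [Equiv.Perm.mem_alternatingGroup] at hg hh ⊢
  rcases Int.units_eq_one_or (Equiv.Perm.sign g) with h1 | h1
  · exact absurd h1 hg
  rcases Int.units_eq_one_or (Equiv.Perm.sign h) with h2 | h2
  · exact absurd h2 hh
  rw [Equiv.Perm.sign_mul, h1, h2]
  decide

theorem odd_inv {g : Equiv.Perm (Fin n)} (hg : g ∉ alternatingGroup (Fin n)) :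
    g⁻¹ ∉ alternatingGroup (Fin n) := fun h => hg (by simpa using inv_mem h)

theorem fiber_le_two (c1 c2 c3 : ConjClasses (alternatingGroup (Fin n)))
    (h12 : ty c1 = ty c2) (h13 : ty c1 = ty c3) : c1 = c2 ∨ c1 = c3 ∨ c2 = c3 := by
  obtain ⟨g, hg⟩ := exists_conj_of_ty_eq h12
  obtain ⟨h, hh⟩ := exists_conj_of_ty_eq h13
  by_cases hge : g ∈ alternatingGroup (Fin n)
  · exact Or.inl (class_eq_of_even g hge hg)
  by_cases hhe : h ∈ alternatingGroup (Fin n)
  · exact Or.inr (Or.inl (class_eq_of_even h hhe hh))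
  refine Or.inr (Or.inr (class_eq_of_even (h * g⁻¹) (odd_mul_odd_mem (odd_inv hge) hhe) ?_))
  rw [← hg, ← hh]
  group

theorem centralizer_le_of_ne {c c' : ConjClasses (alternatingGroup (Fin n))} (hne : c ≠ c')
    (h : ty c = ty c') :
    Subgroup.centralizer {((Quotient.out c : alternatingGroup (Fin n)) : Equiv.Perm (Fin n))} ≤
      alternatingGroup (Fin n) := by
  obtain ⟨g, hg⟩ := exists_conj_of_ty_eq h
  have hgo : g ∉ alternatingGroup (Fin n) := fun hge => hne (class_eq_of_even g hge hg)
  intro z hz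
  by_contra hzo
  apply hne
  apply class_eq_of_even (g * z) (odd_mul_odd_mem hzo hgo)
  have hz' := Subgroup.mem_centralizer_singleton_iff.mp hz
  rw [← hg]
  have e : z * (Quotient.out c : alternatingGroup (Fin n)).1 * z⁻¹ =
      (Quotient.out c : alternatingGroup (Fin n)).1 := by
    rw [hz']; group
  calc g * z * (Quotient.out c : alternatingGroup (Fin n)).1 * (g * z)⁻¹
      = g * (z * (Quotient.out c : alternatingGroup (Fin n)).1 * z⁻¹) * g⁻¹ := by group
    _ = _ := by rw [e]

theorem ty_mem_CT (c : ConjClasses (alternatingGroup (Fin n))) : ty c ∈ CT n := by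
  rw [CT_eq_range]; exact ⟨_, rfl⟩

theorem ty_even (c : ConjClasses (alternatingGroup (Fin n))) :
    Even ((ty c).sum + Multiset.card (ty c)) := by
  have h := (Quotient.out c : alternatingGroup (Fin n)).2
  rw [Equiv.Perm.mem_alternatingGroup, Equiv.Perm.sign_of_cycleType] at h
  exact (neg_one_pow_eq_one_iff_even (by decide)).mp h

theorem CT_ncard_le (n : ℕ) :
    (CT n).ncard ≤ Nat.card (ConjClasses (Equiv.Perm (Fin n))) := by
  classical
  have hsub : CT n ⊆ (fun c : ConjClasses (Equiv.Perm (Fin n)) => (Quotient.out c).cycleType) ''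
      Set.univ := by
    intro m hm
    rw [CT_eq_range] at hm
    obtain ⟨σ, rfl⟩ := hm
    refine ⟨ConjClasses.mk σ, Set.mem_univ _, ?_⟩
    simp only
    rw [← Equiv.Perm.isConj_iff_cycleType_eq, ← ConjClasses.mk_eq_mk_iff_isConj]
    exact Quotient.out_eq (ConjClasses.mk σ)
  calc (CT n).ncard ≤ ((fun c : ConjClasses (Equiv.Perm (Fin n)) => (Quotient.out c).cycleType) ''
      Set.univ).ncard := Set.ncard_le_ncard hsub (Set.toFinite _)
    _ ≤ (Set.univ : Set (ConjClasses (Equiv.Perm (Fin n)))).ncard := Set.ncard_image_le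
    _ = _ := Set.ncard_univ _

theorem part1 (n : ℕ) (hn : 5 ≤ n) :
    Nat.card (ConjClasses (alternatingGroup (Fin n))) <
      Nat.card (ConjClasses (Equiv.Perm (Fin n))) := by
  classical
  let fib : Multiset ℕ → Finset (ConjClasses (alternatingGroup (Fin n))) :=
    fun m => Finset.univ.filter (fun c => ty c = m)
  let E : Finset (Multiset ℕ) := Finset.univ.image (ty (n := n))
  let D : Finset (Multiset ℕ) := E.filter (fun m => 2 ≤ (fib m).card)
  let S : Finset (Multiset ℕ) := D.image shift
  have hDE : D ⊆ E := Finset.filter_subset _ _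
  have hcard : Fintype.card (ConjClasses (alternatingGroup (Fin n))) =
      ∑ m ∈ E, (fib m).card := by
    rw [← Finset.card_univ]
    exact Finset.card_eq_sum_card_fiberwise
      (fun c _ => Finset.mem_image_of_mem _ (Finset.mem_univ c))
  have hfib : ∀ m ∈ E, (fib m).card ≤ 1 + if m ∈ D then 1 else 0 := by
    intro m hm
    have h2 : (fib m).card ≤ 2 := by
      by_contra hlt
      push Not at hlt
      obtain ⟨a, ha, b, hb, c, hc, hab, hac, hbc⟩ := Finset.two_lt_card.mp hlt
      simp only [fib, Finset.mem_filter, Finset.mem_univ, true_and] at ha hb hc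
      rcases fiber_le_two a b c (ha.trans hb.symm) (ha.trans hc.symm) with h | h | h
      · exact hab h
      · exact hac h
      · exact hbc h
    by_cases hD : m ∈ D
    · rw [if_pos hD]; omega
    · rw [if_neg hD]
      have : ¬ 2 ≤ (fib m).card := fun h => hD (Finset.mem_filter.mpr ⟨hm, h⟩)
      omega
  have h1 : Fintype.card (ConjClasses (alternatingGroup (Fin n))) ≤ E.card + D.card := by
    rw [hcard]
    calc ∑ m ∈ E, (fib m).card ≤ ∑ m ∈ E, (1 + if m ∈ D then 1 else 0) := Finset.sum_le_sum hfib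
      _ = E.card + (E.filter (· ∈ D)).card := by
        rw [Finset.sum_add_distrib, Finset.sum_const, smul_eq_mul, mul_one, Finset.sum_boole]
        simp
      _ = E.card + D.card := by
        rw [Finset.filter_mem_eq_inter, Finset.inter_eq_right.mpr hDE]
  -- properties of D
  have hD : ∀ m ∈ D, (∀ a ∈ m, Odd a) ∧ n ≤ m.sum + 1 ∧ m ∈ CT n ∧
      Even (m.sum + Multiset.card m) := by
    intro m hm
    obtain ⟨hmE, hm2⟩ := Finset.mem_filter.mp hm
    obtain ⟨a, ha, b, hb, hab⟩ := Finset.one_lt_card.mp hm2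
    simp only [fib, Finset.mem_filter, Finset.mem_univ, true_and] at ha hb
    have hcen := centralizer_le_of_ne hab (ha.trans hb.symm)
    rw [Equiv.Perm.centralizer_le_alternating_iff] at hcen
    obtain ⟨ho, hs, -⟩ := hcen
    rw [Fintype.card_fin] at hs
    change ∀ c ∈ ty a, Odd c at ho
    change n ≤ (ty a).sum + 1 at hs
    rw [ha] at ho hs
    refine ⟨ho, hs, ?_, ?_⟩
    · rw [← ha]; exact ty_mem_CT a
    · rw [← ha]; exact ty_even a
  have hD0 : ∀ m ∈ D, m ≠ 0 := by
    rintro m hm rfl
    have := (hD _ hm).2.1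
    simp at this
    omega
  have hDp : ∀ m ∈ D, 3 ≤ pick m := by
    intro m hm
    have hp := pick_mem (hD0 m hm)
    obtain ⟨k, hk⟩ := (hD m hm).1 _ hp
    have := (hD m hm).2.2.1.2 _ hp
    omega
  have hScard : S.card = D.card := by
    apply Finset.card_image_of_injOn
    intro m hm m' hm' h
    exact shift_inj_of_odd (hD0 m hm) (hD0 m' hm') (hD m hm).1 (hD m' hm').1 h
  have hSodd : ∀ s ∈ S, ¬ Even (s.sum + Multiset.card s) := by
    intro s hs
    obtain ⟨m, hm, rfl⟩ := Finset.mem_image.mp hs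
    have e1 := shift_sum (hD0 m hm) (by have := hDp m hm; omega)
    have e2 := shift_card (hD0 m hm)
    have e3 := (hD m hm).2.2.2
    rw [e2]
    intro h
    rw [← e1] at e3
    rw [Nat.even_add] at h e3
    rw [Nat.even_add_one] at e3
    tauto
  have hdisj : Disjoint E S := by
    rw [Finset.disjoint_left]
    intro m hmE hmS
    obtain ⟨c, -, rfl⟩ := Finset.mem_image.mp hmE
    exact hSodd _ hmS (ty_even c)
  have h2E : ({2} : Multiset ℕ) ∉ E := by
    intro h
    obtain ⟨c, -, hc⟩ := Finset.mem_image.mp h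
    have := ty_even c
    rw [hc] at this
    simp at this
    exact absurd this (by decide)
  have h2S : ({2} : Multiset ℕ) ∉ S := by
    intro h
    obtain ⟨m, hm, hc⟩ := Finset.mem_image.mp h
    have e1 := shift_sum (hD0 m hm) (by have := hDp m hm; omega)
    rw [hc] at e1
    have := (hD m hm).2.1
    simp at e1
    omega
  have hsubT : insert ({2} : Multiset ℕ) (E ∪ S) ⊆ (CT_finite n).toFinset := by
    intro m hm
    rw [Set.Finite.mem_toFinset]
    rcases Finset.mem_insert.mp hm with rfl | hm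
    · refine ⟨by simp; omega, by simp⟩
    rcases Finset.mem_union.mp hm with hm | hm
    · obtain ⟨c, -, rfl⟩ := Finset.mem_image.mp hm
      exact ty_mem_CT c
    · obtain ⟨m, hmD, rfl⟩ := Finset.mem_image.mp hm
      clear hm
      have hm := hmD
      have e1 := shift_sum (hD0 m hm) (by have := hDp m hm; omega)
      have hCT := (hD m hm).2.2.1
      refine ⟨by have := hCT.1; omega, ?_⟩
      intro a ha
      unfold shift at ha
      rcases Multiset.mem_cons.mp ha with rfl | ha
      · have := hDp m hm; omega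
      · exact hCT.2 a (Multiset.mem_of_mem_erase ha)
  have h3 := Finset.card_le_card hsubT
  rw [Finset.card_insert_of_notMem (by
    intro h
    rcases Finset.mem_union.mp h with h | h
    · exact h2E h
    · exact h2S h), Finset.card_union_of_disjoint hdisj, hScard,
    ← Set.ncard_eq_toFinset_card (CT n) (CT_finite n)] at h3
  have h4 := CT_ncard_le n
  rw [Nat.card_eq_fintype_card]
  omega

/-- For n ≥ 5 the alternating group of degree n has strictly fewer conjugacy classes than the symmetric group of degree n, and the symmetric group of degree n (whose classes correspond to the partitions of n) has at most 2^(n−2) conjugacy classes. -/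
theorem result (n : ℕ) (hn : 5 ≤ n) : Nat.card (ConjClasses (alternatingGroup (Fin n))) < Nat.card (ConjClasses (Equiv.Perm (Fin n))) ∧ Nat.card (ConjClasses (Equiv.Perm (Fin n))) ≤ 2 ^ (n - 2) :=
  ⟨part1 n hn, part2 n hn⟩

end Cfsg.Agent.S4198
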