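import Cfsg.Statements.S4200
import Cfsg.Agent.Lib.helper73.CommPairs

set_option autoImplicit false
open Cfsg

namespace Cfsg.Agent.S4200

open Cfsg.Agent.Lib.helper73

/-- Let Y be a subgroup of the finite group X, of index m. Then the numbers of conjugacy classes satisfy k(Y) ≤ m·k(X) and k(X) ≤ m·k(Y), and the second inequality is strict unless Y is normal in X. -/
theorem result {X : Type*} [Group X] [Finite X] (Y : Subgroup X) : Nat.card (ConjClasses Y) ≤ Y.index * Nat.card (ConjClasses X) ∧ Nat.card (ConjClasses X) ≤ Y.index * Nat.card (ConjClasses Y) ∧ (¬ Y.Normal → Nat.card (ConjClasses X) < Y.index * Nat.card (ConjClasses Y)) := by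
  classical
  have := Fintype.ofFinite X
  have := Fintype.ofFinite Y
  have hcX := card_comm_eq_card_conjClasses_mul_card X
  have hcY := card_comm_eq_card_conjClasses_mul_card Y
  have hidx := Subgroup.card_mul_index Y
  have hYpos : 0 < Nat.card Y := Nat.card_pos
  have hmpos : 0 < Y.index := Nat.pos_of_ne_zero Subgroup.index_ne_zero_of_finite
  -- the mixed count
  have hA1 := card_rel_eq_sum_left (fun (x : X) (y : Y) => Commute x (y : X))
  have hA2 := card_rel_eq_sum_right (fun (x : X) (y : Y) => Commute x (y : X))
  have hX1 := card_rel_eq_sum_left (fun (x : X) (z : X) => Commute x z)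
  have hY1 := card_rel_eq_sum_right (fun (y' : Y) (y : Y) => Commute y' y)
  -- termwise bounds
  have hterm2 : ∀ y : Y, Nat.card {x : X // Commute x (y : X)} ≤
      Y.index * Nat.card {y' : Y // Commute y' y} := by
    intro y
    have h1 := card_commute_le_index_mul Y (y : X)
    have e1 : {x : X // Commute x (y : X)} ≃ {z : X // Commute (y : X) z} :=
      Equiv.subtypeEquivRight (fun z => ⟨Commute.symm, Commute.symm⟩)
    have e2 : {y' : Y // Commute y' y} ≃ {y' : Y // Commute (y : X) (y' : X)} :=
      Equiv.subtypeEquivRight (fun y' => by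
        constructor
        · intro h
          have := congrArg (fun w : Y => (w : X)) h.eq
          exact this.symm
        · intro h
          exact Subtype.ext h.eq.symm)
    rw [Nat.card_congr e1, Nat.card_congr e2]
    exact h1
  have hXA : Nat.card {p : X × X // Commute p.1 p.2} ≤
      Y.index * Nat.card {p : X × Y // Commute p.1 (p.2 : X)} := by
    rw [hX1, hA1, Finset.mul_sum]
    exact Finset.sum_le_sum (fun x _ => card_commute_le_index_mul Y x)
  have hAY : Nat.card {p : X × Y // Commute p.1 (p.2 : X)} ≤
      Y.index * Nat.card {p : Y × Y // Commute p.1 p.2} := by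
    rw [hY1, hA2, Finset.mul_sum]
    exact Finset.sum_le_sum (fun y _ => hterm2 y)
  refine ⟨?_, ?_, ?_⟩
  · -- commuting pairs of `Y` inject into those of `X`
    have hinj : Nat.card {p : Y × Y // Commute p.1 p.2} ≤
        Nat.card {p : X × X // Commute p.1 p.2} := by
      apply Nat.card_le_card_of_injective
        (fun p : {p : Y × Y // Commute p.1 p.2} =>
          (⟨((p.1.1 : X), (p.1.2 : X)), by
            have := congrArg (fun w : Y => (w : X)) p.2.eq
            exact this⟩ : {p : X × X // Commute p.1 p.2}))
      intro p q hpq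
      have h1 : (p.1.1 : X) = q.1.1 := congrArg (fun w => w.1.1) hpq
      have h2 : (p.1.2 : X) = q.1.2 := congrArg (fun w => w.1.2) hpq
      exact Subtype.ext (Prod.ext (Subtype.ext h1) (Subtype.ext h2))
    rw [hcX, hcY, ← hidx] at hinj
    have : Nat.card (ConjClasses Y) * Nat.card Y ≤
        (Y.index * Nat.card (ConjClasses X)) * Nat.card Y := by
      calc Nat.card (ConjClasses Y) * Nat.card Y
          ≤ Nat.card (ConjClasses X) * (Nat.card Y * Y.index) := hinj
        _ = (Y.index * Nat.card (ConjClasses X)) * Nat.card Y := by ring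
    exact Nat.le_of_mul_le_mul_right this hYpos
  · have h1 : Nat.card {p : X × X // Commute p.1 p.2} ≤
        Y.index * (Y.index * Nat.card {p : Y × Y // Commute p.1 p.2}) :=
      le_trans hXA (Nat.mul_le_mul_left _ hAY)
    rw [hcX, hcY, ← hidx] at h1
    have : Nat.card (ConjClasses X) * (Nat.card Y * Y.index) ≤
        (Y.index * Nat.card (ConjClasses Y)) * (Nat.card Y * Y.index) := by
      calc Nat.card (ConjClasses X) * (Nat.card Y * Y.index)
          ≤ Y.index * (Y.index * (Nat.card (ConjClasses Y) * Nat.card Y)) := h1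
        _ = (Y.index * Nat.card (ConjClasses Y)) * (Nat.card Y * Y.index) := by ring
    exact Nat.le_of_mul_le_mul_right this (Nat.mul_pos hYpos hmpos)
  · intro hnn
    -- a witness of non-normality
    have hex : ∃ y : Y, ∃ g : X, g * (y : X) * g⁻¹ ∉ Y := by
      by_contra hcon
      push Not at hcon
      exact hnn ⟨fun y hy g => hcon ⟨y, hy⟩ g⟩
    obtain ⟨y0, g, hg⟩ := hex
    have hstrict : Nat.card {x : X // Commute x (y0 : X)} <
        Y.index * Nat.card {y' : Y // Commute y' y0} := by
      have h1 := card_commute_lt_index_mul Y (y0 : X) g⁻¹ (by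
        intro z hz hmem
        apply hg
        have h2 : g * (y0 : X) * g⁻¹ = (z⁻¹ * g⁻¹)⁻¹ * (y0 : X) * (z⁻¹ * g⁻¹) := by
          have h3 : (y0 : X) * z = z * (y0 : X) := hz.eq
          have h4 : z * (y0 : X) * z⁻¹ = (y0 : X) := by
            rw [← h3, mul_assoc, mul_inv_cancel, mul_one]
          calc g * (y0 : X) * g⁻¹ = g * (z * (y0 : X) * z⁻¹) * g⁻¹ := by rw [h4]
            _ = (z⁻¹ * g⁻¹)⁻¹ * (y0 : X) * (z⁻¹ * g⁻¹) := by group
        rw [h2]
        exact Y.mul_mem (Y.mul_mem (Y.inv_mem hmem) y0.2) hmem)
      have e1 : {x : X // Commute x (y0 : X)} ≃ {z : X // Commute (y0 : X) z} :=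
        Equiv.subtypeEquivRight (fun z => ⟨Commute.symm, Commute.symm⟩)
      have e2 : {y' : Y // Commute y' y0} ≃ {y' : Y // Commute (y0 : X) (y' : X)} :=
        Equiv.subtypeEquivRight (fun y' => by
          constructor
          · intro h
            have := congrArg (fun w : Y => (w : X)) h.eq
            exact this.symm
          · intro h
            exact Subtype.ext h.eq.symm)
      rw [Nat.card_congr e1, Nat.card_congr e2]
      exact h1
    have hAY' : Nat.card {p : X × Y // Commute p.1 (p.2 : X)} <
        Y.index * Nat.card {p : Y × Y // Commute p.1 p.2} := by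
      rw [hY1, hA2, Finset.mul_sum]
      exact Finset.sum_lt_sum (fun y _ => hterm2 y) ⟨y0, Finset.mem_univ _, hstrict⟩
    have h1 : Nat.card {p : X × X // Commute p.1 p.2} <
        Y.index * (Y.index * Nat.card {p : Y × Y // Commute p.1 p.2}) :=
      lt_of_le_of_lt hXA (Nat.mul_lt_mul_of_pos_left hAY' hmpos)
    rw [hcX, hcY, ← hidx] at h1
    have : Nat.card (ConjClasses X) * (Nat.card Y * Y.index) <
        (Y.index * Nat.card (ConjClasses Y)) * (Nat.card Y * Y.index) := by
      calc Nat.card (ConjClasses X) * (Nat.card Y * Y.index)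
          < Y.index * (Y.index * (Nat.card (ConjClasses Y) * Nat.card Y)) := h1
        _ = (Y.index * Nat.card (ConjClasses Y)) * (Nat.card Y * Y.index) := by ring
    exact Nat.lt_of_mul_lt_mul_right this

end Cfsg.Agent.S4200
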