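import Cfsg.Statements.S4201
import Cfsg.Agent.Lib.helper73.CommPairs

set_option autoImplicit false
open Cfsg

namespace Cfsg.Agent.S4201

open Cfsg.Agent.Lib.helper73

/-- `|C_X(x)| ≤ |C_{X/N}(xN)| · |C_N(x)|`. -/
theorem card_commute_le_quotient_mul {X : Type*} [Group X] [Finite X] (N : Subgroup X)
    [N.Normal] (x : X) :
    Nat.card {z : X // Commute x z} ≤
      Nat.card {w : X ⧸ N // Commute (x : X ⧸ N) w} * Nat.card {n : N // Commute x (n : X)} := by
  apply card_le_mul_of_fiber_le (fun z : {z : X // Commute x z} =>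
    (⟨((z : X) : X ⧸ N), z.2.map (QuotientGroup.mk' N)⟩ : {w : X ⧸ N // Commute (x : X ⧸ N) w}))
  intro q
  by_cases hne : Nonempty {a : {z : X // Commute x z} //
      (⟨((a : X) : X ⧸ N), a.2.map (QuotientGroup.mk' N)⟩ :
        {w : X ⧸ N // Commute (x : X ⧸ N) w}) = q}
  · obtain ⟨a0⟩ := hne
    apply Nat.card_le_card_of_injective
      (fun a : {a : {z : X // Commute x z} //
          (⟨((a : X) : X ⧸ N), a.2.map (QuotientGroup.mk' N)⟩ :
            {w : X ⧸ N // Commute (x : X ⧸ N) w}) = q} =>
        (⟨⟨(a0.1.1)⁻¹ * a.1.1, by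
          have h0 : ((a0.1.1 : X) : X ⧸ N) = q.1 := congrArg Subtype.val a0.2
          have h1 : ((a.1.1 : X) : X ⧸ N) = q.1 := congrArg Subtype.val a.2
          rw [← QuotientGroup.eq, h0, h1]⟩, by
          exact (a0.1.2.inv_right).mul_right a.1.2⟩ : {n : N // Commute x (n : X)}))
    intro a b hab
    have h1 : (a0.1.1)⁻¹ * a.1.1 = (a0.1.1)⁻¹ * b.1.1 := congrArg (fun w => (w.1 : X)) hab
    exact Subtype.ext (Subtype.ext (mul_left_cancel h1))
  · rw [not_nonempty_iff] at hne
    rw [Nat.card_of_isEmpty]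
    exact Nat.zero_le _

/-- The elements of a coset of `N` commuting with `n ∈ N` are at most `|C_N(n)|`. -/
theorem card_coset_commute_le {X : Type*} [Group X] [Finite X] (N : Subgroup X)
    [N.Normal] (q : X ⧸ N) (n : N) :
    Nat.card {x : {x : X // (x : X ⧸ N) = q} // Commute (x : X) (n : X)} ≤
      Nat.card {n' : N // Commute n' n} := by
  by_cases hne : Nonempty {x : {x : X // (x : X ⧸ N) = q} // Commute (x : X) (n : X)}
  · obtain ⟨a0⟩ := hne
    apply Nat.card_le_card_of_injective
      (fun a : {x : {x : X // (x : X ⧸ N) = q} // Commute (x : X) (n : X)} =>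
        (⟨⟨(a0.1.1)⁻¹ * a.1.1, by
          rw [← QuotientGroup.eq, a0.1.2, a.1.2]⟩, by
          have h1 : Commute ((a0.1.1)⁻¹ * a.1.1) (n : X) := (a0.2.inv_left).mul_left a.2
          exact Subtype.ext h1.eq⟩ : {n' : N // Commute n' n}))
    intro a b hab
    have h1 : (a0.1.1)⁻¹ * a.1.1 = (a0.1.1)⁻¹ * b.1.1 := congrArg (fun w => (w.1 : X)) hab
    exact Subtype.ext (Subtype.ext (mul_left_cancel h1))
  · rw [not_nonempty_iff] at hne
    rw [Nat.card_of_isEmpty]
    exact Nat.zero_le _

/-- If N is a normal subgroup of the finite group X then k(X) ≤ k(N)·k(X ⧸ N), where k denotes the number of conjugacy classes. -/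
theorem result {X : Type*} [Group X] [Finite X] (N : Subgroup X) [N.Normal] : Nat.card (ConjClasses X) ≤ Nat.card (ConjClasses N) * Nat.card (ConjClasses (X ⧸ N)) := by
  classical
  have := Fintype.ofFinite X
  have := Fintype.ofFinite N
  have := Fintype.ofFinite (X ⧸ N)
  have hcX := card_comm_eq_card_conjClasses_mul_card X
  have hcN := card_comm_eq_card_conjClasses_mul_card N
  have hcQ := card_comm_eq_card_conjClasses_mul_card (X ⧸ N)
  have hidx := Subgroup.card_mul_index N
  rw [Subgroup.index_eq_card] at hidx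
  have hXpos : 0 < Nat.card X := Nat.card_pos
  have hX1 := card_rel_eq_sum_left (fun (x : X) (z : X) => Commute x z)
  have hQ1 := card_rel_eq_sum_left (fun (q : X ⧸ N) (w : X ⧸ N) => Commute q w)
  have hN1 := card_rel_eq_sum_right (fun (n' : N) (n : N) => Commute n' n)
  -- the inner bound
  have hinner : ∀ q : X ⧸ N, ∑ x : {x : X // (x : X ⧸ N) = q},
      Nat.card {n : N // Commute (x : X) (n : X)} ≤ Nat.card {p : N × N // Commute p.1 p.2} := by
    intro q
    rw [← card_rel_eq_sum_left (fun (x : {x : X // (x : X ⧸ N) = q}) (n : N) =>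
      Commute (x : X) (n : X)),
      card_rel_eq_sum_right (fun (x : {x : X // (x : X ⧸ N) = q}) (n : N) =>
      Commute (x : X) (n : X)), hN1]
    exact Finset.sum_le_sum (fun n _ => card_coset_commute_le N q n)
  have hmain : Nat.card {p : X × X // Commute p.1 p.2} ≤
      Nat.card {p : (X ⧸ N) × (X ⧸ N) // Commute p.1 p.2} *
        Nat.card {p : N × N // Commute p.1 p.2} := by
    rw [hX1]
    calc ∑ x : X, Nat.card {z : X // Commute x z}
        ≤ ∑ x : X, Nat.card {w : X ⧸ N // Commute (x : X ⧸ N) w} *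
            Nat.card {n : N // Commute x (n : X)} :=
          Finset.sum_le_sum (fun x _ => card_commute_le_quotient_mul N x)
      _ = ∑ q : X ⧸ N, ∑ x : {x : X // (x : X ⧸ N) = q},
            Nat.card {w : X ⧸ N // Commute ((x : X) : X ⧸ N) w} *
              Nat.card {n : N // Commute (x : X) (n : X)} :=
          (Fintype.sum_fiberwise (fun x : X => (x : X ⧸ N)) (fun x =>
            Nat.card {w : X ⧸ N // Commute (x : X ⧸ N) w} *
              Nat.card {n : N // Commute x (n : X)})).symm
      _ = ∑ q : X ⧸ N, Nat.card {w : X ⧸ N // Commute q w} *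
            ∑ x : {x : X // (x : X ⧸ N) = q}, Nat.card {n : N // Commute (x : X) (n : X)} := by
          apply Finset.sum_congr rfl
          intro q _
          rw [Finset.mul_sum]
          apply Finset.sum_congr rfl
          intro x _
          rw [x.2]
      _ ≤ ∑ q : X ⧸ N, Nat.card {w : X ⧸ N // Commute q w} *
            Nat.card {p : N × N // Commute p.1 p.2} :=
          Finset.sum_le_sum (fun q _ => Nat.mul_le_mul_left _ (hinner q))
      _ = Nat.card {p : (X ⧸ N) × (X ⧸ N) // Commute p.1 p.2} *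
            Nat.card {p : N × N // Commute p.1 p.2} := by
          rw [hQ1, Finset.sum_mul]
  rw [hcX, hcN, hcQ] at hmain
  have : Nat.card (ConjClasses X) * Nat.card X ≤
      (Nat.card (ConjClasses N) * Nat.card (ConjClasses (X ⧸ N))) * Nat.card X := by
    calc Nat.card (ConjClasses X) * Nat.card X
        ≤ Nat.card (ConjClasses (X ⧸ N)) * Nat.card (X ⧸ N) *
            (Nat.card (ConjClasses N) * Nat.card N) := hmain
      _ = (Nat.card (ConjClasses N) * Nat.card (ConjClasses (X ⧸ N))) *
            (Nat.card N * Nat.card (X ⧸ N)) := by ring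
      _ = (Nat.card (ConjClasses N) * Nat.card (ConjClasses (X ⧸ N))) * Nat.card X := by
          rw [hidx]
  exact Nat.le_of_mul_le_mul_right this hXpos

end Cfsg.Agent.S4201
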