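import Cfsg.Statements.S4203

set_option autoImplicit false
open Cfsg

namespace Cfsg.Agent.S4203

universe u

open Group in
lemma comm_of_sq_eq_one {G : Type*} [Group G] (h : ∀ x : G, x ^ 2 = 1) (a b : G) :
    a * b = b * a := by
  have ha' : a⁻¹ = a := by rw [inv_eq_iff_mul_eq_one, ← pow_two, h a]
  have hb' : b⁻¹ = b := by rw [inv_eq_iff_mul_eq_one, ← pow_two, h b]
  have hab' : (a * b)⁻¹ = a * b := by rw [inv_eq_iff_mul_eq_one, ← pow_two, h (a * b)]
  calc a * b = (a * b)⁻¹ := hab'.symm
    _ = b⁻¹ * a⁻¹ := mul_inv_rev a b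
    _ = b * a := by rw [ha', hb']

lemma solvable_of_card_dvd_two {G : Type*} [Group G] (h : Nat.card G ∣ 2) :
    Group.IsSolvable G := by
  apply Group.isSolvable_of_comm
  apply comm_of_sq_eq_one
  intro x
  obtain ⟨k, hk⟩ := h
  rw [hk, pow_mul, pow_card_eq_one', one_pow]

lemma solvable_of_index_dvd_two {G : Type*} [Group G] (H : Subgroup G)
    (hsol : Group.IsSolvable H) (h : H.index ∣ 2) : Group.IsSolvable G := by
  have hn : H.Normal := by
    rcases (Nat.dvd_prime Nat.prime_two).mp h with h1 | h2
    · exact Subgroup.normal_of_index_eq_one h1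
    · exact Subgroup.normal_of_index_eq_two h2
  have : Group.IsSolvable (G ⧸ H) :=
    solvable_of_card_dvd_two (by rwa [← Subgroup.index_eq_card])
  exact Group.isSolvable_of_ker_le_range H.subtype (QuotientGroup.mk' H) (by simp)

lemma solvable_of_card_dvd_six {G : Type*} [Group G] [Finite G] (h : Nat.card G ∣ 6) :
    Group.IsSolvable G := by
  have hp3 : Fact (Nat.Prime 3) := ⟨by norm_num⟩
  let P : Sylow 3 G := default
  have h1 : (P : Subgroup G).index ∣ 2 := by
    have h2 : (P : Subgroup G).index ∣ 3 * 2 := ((P : Subgroup G).index_dvd_card).trans h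
    have h3 : Nat.Coprime ((P : Subgroup G).index) 3 :=
      ((Nat.Prime.coprime_iff_not_dvd (by norm_num)).mpr P.not_dvd_index).symm
    exact h3.dvd_of_dvd_mul_left h2
  have : Group.IsSolvable (P : Subgroup G) := by
    have := P.2.isNilpotent
    infer_instance
  exact solvable_of_index_dvd_two (P : Subgroup G) this h1

lemma solvable_of_card_dvd_24 {G : Type*} [Group G] [Finite G] (h : Nat.card G ∣ 24) :
    Group.IsSolvable G := by
  have hp2 : Fact (Nat.Prime 2) := ⟨Nat.prime_two⟩
  let Q : Sylow 2 G := default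
  have h1 : (Q : Subgroup G).index ∣ 3 := by
    have h2 : (Q : Subgroup G).index ∣ 2 ^ 3 * 3 := ((Q : Subgroup G).index_dvd_card).trans h
    have h3 : Nat.Coprime ((Q : Subgroup G).index) (2 ^ 3) :=
      Nat.Coprime.pow_right 3 ((Nat.Prime.coprime_iff_not_dvd Nat.prime_two).mpr Q.not_dvd_index).symm
    exact h3.dvd_of_dvd_mul_left h2
  set K := (Q : Subgroup G).normalCore with hKdef
  have hK : Group.IsSolvable K := by
    have h2 : IsPGroup 2 K := Q.2.to_le (Subgroup.normalCore_le _)
    have := h2.isNilpotent
    infer_instance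
  have hidx : K.index ∣ 6 := by
    have h2 : K.index ∣ Nat.factorial (Q : Subgroup G).index := by
      rw [hKdef, Subgroup.normalCore_eq_ker, Subgroup.index_ker, Subgroup.index_eq_card,
        ← Nat.card_perm]
      exact Subgroup.card_subgroup_dvd_card _
    rcases (Nat.dvd_prime (by norm_num : Nat.Prime 3)).mp h1 with h3 | h3 <;> rw [h3] at h2
    · exact h2.trans (by decide)
    · exact h2.trans (by decide)
  have : Group.IsSolvable (G ⧸ K) :=
    solvable_of_card_dvd_six (by rwa [← Subgroup.index_eq_card])
  exact Group.isSolvable_of_ker_le_range K.subtype (QuotientGroup.mk' K) (by simp)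

/-- If a subgroup `M` contains the normalizer of a Sylow `p`-subgroup then its index is `1` mod `p`. -/
lemma sylow_index_modEq_one {G : Type*} [Group G] [Finite G] {p : ℕ} [Fact p.Prime] (P : Sylow p G)
    (M : Subgroup G) (hM : Subgroup.normalizer ((P : Subgroup G) : Set G) ≤ M) :
    M.index ≡ 1 [MOD p] := by
  have hPM : (P : Subgroup G) ≤ M := le_trans Subgroup.le_normalizer hM
  have e1 : Nat.card (Sylow p G) = (Subgroup.normalizer ((P : Subgroup G) : Set G)).index :=
    P.card_eq_index_normalizer
  have e2 : Nat.card (Sylow p M) =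
      (Subgroup.normalizer (((P.subtype hPM : Sylow p M) : Subgroup M) : Set M)).index :=
    (P.subtype hPM).card_eq_index_normalizer
  have e3 : Subgroup.normalizer (((P.subtype hPM : Sylow p M) : Subgroup M) : Set M) =
      (Subgroup.normalizer ((P : Subgroup G) : Set G)).subgroupOf M := by
    rw [P.coe_subtype, ← Subgroup.subgroupOf_normalizer_eq hPM]
  have e4 := Subgroup.relIndex_mul_index hM
  have e5 : Nat.card (Sylow p G) = Nat.card (Sylow p M) * M.index := by
    rw [e1, e2, e3, ← e4]
    rfl
  have h1 := card_sylow_modEq_one p G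
  have h2 := card_sylow_modEq_one p M
  calc M.index = 1 * M.index := (one_mul _).symm
    _ ≡ Nat.card (Sylow p M) * M.index [MOD p] := Nat.ModEq.mul_right _ h2.symm
    _ = Nat.card (Sylow p G) := e5.symm
    _ ≡ 1 [MOD p] := h1

/-- The hypothesis of the theorem. -/
def MaxIdx (G : Type u) [Group G] : Prop :=
  ∀ M : Subgroup G, IsCoatom M → ∃ p : ℕ, p.Prime ∧ (M.index = p ∨ M.index = p ^ 2)

lemma isCoatom_comap {G : Type u} [Group G] (N : Subgroup G) [N.Normal] (Mb : Subgroup (G ⧸ N))
    (h : IsCoatom Mb) : IsCoatom (Mb.comap (QuotientGroup.mk' N)) := by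
  have hπ : Function.Surjective (QuotientGroup.mk' N) := QuotientGroup.mk'_surjective N
  refine ⟨?_, ?_⟩
  · intro htop
    apply h.1
    rw [← Subgroup.map_comap_eq_self_of_surjective hπ Mb, htop]
    exact Subgroup.map_top_of_surjective _ hπ
  · intro K hK
    have hNK : N ≤ K := by
      refine le_trans ?_ hK.le
      intro x hx
      show QuotientGroup.mk' N x ∈ Mb
      have : QuotientGroup.mk' N x = 1 := by
        rw [← MonoidHom.mem_ker, QuotientGroup.ker_mk']
        exact hx
      rw [this]
      exact Subgroup.one_mem _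
    have h1 : Mb ≤ K.map (QuotientGroup.mk' N) := by
      rw [← Subgroup.map_comap_eq_self_of_surjective hπ Mb]
      exact Subgroup.map_mono hK.le
    have h2 : Mb ≠ K.map (QuotientGroup.mk' N) := by
      intro heq
      apply hK.not_ge
      rw [heq]
      exact Subgroup.le_comap_map _ _
    have h3 : K.map (QuotientGroup.mk' N) = ⊤ := h.2 _ (lt_of_le_of_ne h1 h2)
    have h4 : (K.map (QuotientGroup.mk' N)).comap (QuotientGroup.mk' N) = K := by
      apply Subgroup.comap_map_eq_self
      rw [QuotientGroup.ker_mk']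
      exact hNK
    rw [← h4, h3]
    exact Subgroup.comap_top _

lemma maxIdx_quotient {G : Type u} [Group G] (N : Subgroup G) [N.Normal] (h : MaxIdx G) :
    MaxIdx (G ⧸ N) := by
  intro Mb hMb
  obtain ⟨p, hp, hpi⟩ := h _ (isCoatom_comap N Mb hMb)
  rw [Subgroup.index_comap_of_surjective Mb (QuotientGroup.mk'_surjective N)] at hpi
  exact ⟨p, hp, hpi⟩

theorem main (n : ℕ) : ∀ (G : Type u) [Group G] [Finite G], Nat.card G = n → MaxIdx G →
    Group.IsSolvable G := by
  induction n using Nat.strong_induction_on with
  | _ n ih =>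
  intro G _ _ hcard hG
  classical
  by_contra hns
  have hnontriv : (⊤ : Subgroup G) ≠ ⊥ := by
    intro h
    exact hns (Group.isSolvable_of_top_eq_bot G h)
  -- a nontrivial normal subgroup of minimal order
  have hex : ∃ k : ℕ, ∃ N : Subgroup G, N.Normal ∧ N ≠ ⊥ ∧ Nat.card N = k :=
    ⟨_, ⊤, inferInstance, hnontriv, rfl⟩
  obtain ⟨N, hN, hN0, hNcard⟩ := Nat.find_spec hex
  have hmin : ∀ K : Subgroup G, K.Normal → K ≠ ⊥ → Nat.card N ≤ Nat.card K := by
    intro K hK hK0
    rw [hNcard]
    exact Nat.find_min' hex ⟨K, hK, hK0, rfl⟩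
  have hquot : ∀ K : Subgroup G, ∀ hK : K.Normal, K ≠ ⊥ → Group.IsSolvable (G ⧸ K) := by
    intro K hK hK0
    refine ih (Nat.card (G ⧸ K)) ?_ (G ⧸ K) rfl (maxIdx_quotient K hG)
    rw [← hcard, Subgroup.card_eq_card_quotient_mul_card_subgroup K]
    have h1 : 1 < Nat.card K := (Subgroup.one_lt_card_iff_ne_bot K).mpr hK0
    have h2 : 0 < Nat.card (G ⧸ K) := Nat.card_pos
    nlinarith
  have hle : ∀ K : Subgroup G, K.Normal → K ≠ ⊥ → N ≤ K := by
    intro K hK hK0
    by_contra hNK
    have hbot : N ⊓ K = ⊥ := by
      by_contra h0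
      have h1 := hmin (N ⊓ K) inferInstance h0
      have h2 : N ⊓ K = N := Subgroup.eq_of_le_of_card_ge inf_le_left h1
      exact hNK (h2 ▸ inf_le_right)
    apply hns
    have := hquot N hN hN0
    have := hquot K hK hK0
    refine Group.isSolvable_of_isSolvable_injective
      (f := (QuotientGroup.mk' N).prod (QuotientGroup.mk' K)) ?_
    rw [injective_iff_map_eq_one]
    intro x hx
    have hx1 : QuotientGroup.mk' N x = 1 := congrArg Prod.fst hx
    have hx2 : QuotientGroup.mk' K x = 1 := congrArg Prod.snd hx
    rw [← MonoidHom.mem_ker, QuotientGroup.ker_mk'] at hx1 hx2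
    have : x ∈ N ⊓ K := ⟨hx1, hx2⟩
    rw [hbot] at this
    exact Subgroup.mem_bot.mp this
  have hNns : ¬ Group.IsSolvable N := by
    intro hNs
    apply hns
    have := hquot N hN hN0
    exact Group.isSolvable_of_ker_le_range N.subtype (QuotientGroup.mk' N) (by simp)
  -- the largest prime dividing the order of `N`
  have hNcard1 : Nat.card N ≠ 1 := fun h => hN0 (Subgroup.eq_bot_of_card_eq N h)
  have hne : (Nat.card N).primeFactors.Nonempty :=
    ⟨(Nat.card N).minFac, Nat.mem_primeFactors.mpr
      ⟨Nat.minFac_prime hNcard1, Nat.minFac_dvd _, Nat.card_pos.ne'⟩⟩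
  obtain ⟨p, hp_mem, hp_max⟩ := Finset.exists_max_image (Nat.card N).primeFactors id hne
  obtain ⟨hp, hpN, -⟩ := Nat.mem_primeFactors.mp hp_mem
  have hpf : Fact p.Prime := ⟨hp⟩
  let P : Sylow p N := default
  have hfr := Sylow.normalizer_sup_eq_top P
  set P' := (P : Subgroup N).map N.subtype with hP'
  have hP'N : P' ≤ N := by
    rintro _ ⟨y, -, rfl⟩
    exact y.2
  have hP'0 : P' ≠ ⊥ := by
    intro h
    apply P.ne_bot_of_dvd_card hpN
    rw [hP'] at h
    exact (Subgroup.map_eq_bot_iff_of_injective _ N.subtype_injective).mp h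
  have hPsub : P'.subgroupOf N = (P : Subgroup N) :=
    Subgroup.comap_map_eq_self_of_injective N.subtype_injective _
  by_cases hnorm : Subgroup.normalizer (P' : Set G) = ⊤
  · have hP'n : P'.Normal := Subgroup.normalizer_eq_top_iff.mp hnorm
    have hNP' : N ≤ P' := hle P' hP'n hP'0
    apply hNns
    have hpg : IsPGroup p N := by
      intro g
      have hg : g ∈ (P : Subgroup N) := by
        rw [← hPsub]
        exact hNP' g.2
      obtain ⟨k, hk⟩ := P.2 ⟨g, hg⟩
      exact ⟨k, congrArg Subtype.val hk⟩
    have := hpg.isNilpotent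
    infer_instance
  · obtain ⟨M, hMco, hM⟩ := (eq_top_or_exists_le_coatom _).resolve_left hnorm
    obtain ⟨q, hq, hqidx⟩ := hG M hMco
    have hsup : M ⊔ N = ⊤ := top_le_iff.mp (hfr ▸ sup_le_sup_right hM N)
    -- `M.relIndex N = M.index`
    have hrel : M.relIndex N = M.index := by
      have ha : N.relIndex M = N.index := by
        rw [← Subgroup.relIndex_sup_right, hsup, Subgroup.relIndex_top_right]
      have hb : M.relIndex N * N.index = (M ⊓ N).index := by
        rw [← Subgroup.inf_relIndex_right, Subgroup.relIndex_mul_index inf_le_right]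
      have hc : N.relIndex M * M.index = (M ⊓ N).index := by
        rw [← Subgroup.inf_relIndex_left, Subgroup.relIndex_mul_index inf_le_left]
      rw [ha] at hc
      have hN0' : N.index ≠ 0 := Subgroup.index_ne_zero_of_finite
      have : M.relIndex N * N.index = M.index * N.index := by
        rw [hb, ← hc, mul_comm]
      exact Nat.eq_of_mul_eq_mul_right (Nat.pos_of_ne_zero hN0') this
    have hmod : M.index ≡ 1 [MOD p] := by
      rw [← hrel]
      apply sylow_index_modEq_one P (M.subgroupOf N)
      rw [← hPsub, ← Subgroup.subgroupOf_normalizer_eq hP'N]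
      exact Subgroup.comap_mono hM
    have hidxN : M.index ∣ Nat.card N := by
      rw [← hrel]
      exact Subgroup.index_dvd_card _
    have hMtop : M.index ≠ 1 := fun h => hMco.1 (Subgroup.index_eq_one.mp h)
    have hqN : q ∣ Nat.card N := by
      refine dvd_trans ?_ hidxN
      rcases hqidx with h1 | h2
      · rw [h1]
      · rw [h2]; exact dvd_pow_self q (by norm_num)
    have hqp : q ≤ p := hp_max q (Nat.mem_primeFactors.mpr ⟨hq, hqN, Nat.card_pos.ne'⟩)
    have hq2 := hq.two_le
    have hp2 := hp.two_le
    rcases hqidx with h1 | h2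
    · rw [h1] at hmod
      have h3 : q % p = 1 % p := hmod
      rw [Nat.mod_eq_of_lt (by omega : 1 < p)] at h3
      rcases Nat.lt_or_ge q p with hlt | hge
      · rw [Nat.mod_eq_of_lt hlt] at h3
        omega
      · have : q = p := le_antisymm hqp hge
        rw [this, Nat.mod_self] at h3
        omega
    · rw [h2] at hmod
      have h3 : p ∣ q ^ 2 - 1 := (Nat.modEq_iff_dvd' (Nat.one_le_pow _ _ (by omega))).mp hmod.symm
      have h4 : q ^ 2 - 1 = (q - 1) * (q + 1) := by
        have : q ^ 2 = (q - 1) * (q + 1) + 1 := by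
          obtain ⟨r, rfl⟩ : ∃ r, q = r + 1 := ⟨q - 1, by omega⟩
          simp only [Nat.add_sub_cancel]
          ring
        omega
      rw [h4] at h3
      have hpq1 : p = q + 1 := by
        rcases (Nat.Prime.dvd_mul hp).mp h3 with h5 | h5
        · have := Nat.le_of_dvd (by omega) h5
          omega
        · obtain ⟨c, hc⟩ := h5
          have hc1 : c = 1 := by
            rcases Nat.lt_or_ge c 2 with hlt | hge
            · interval_cases c
              · omega
              · rfl
            · have : p * 2 ≤ p * c := Nat.mul_le_mul_left p hge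
              omega
          rw [hc1, mul_one] at hc
          exact hc.symm
      have hq2' : q = 2 := by
        rcases hq.eq_two_or_odd with h5 | h5
        · exact h5
        · exfalso
          have hpodd : p % 2 = 0 := by omega
          rcases hp.eq_two_or_odd with h6 | h6
          · omega
          · omega
      have hidx4 : M.index = 4 := by rw [h2, hq2']; norm_num
      have hcore : M.normalCore = ⊥ := by
        by_contra hc
        have h5 := hle M.normalCore inferInstance hc
        have h6 : N ≤ M := le_trans h5 (Subgroup.normalCore_le M)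
        rw [sup_eq_left.mpr h6] at hsup
        exact hMco.1 hsup
      have h24 : Nat.card G ∣ 24 := by
        have h5 : M.normalCore.index ∣ Nat.factorial M.index := by
          rw [Subgroup.normalCore_eq_ker, Subgroup.index_ker, Subgroup.index_eq_card,
            ← Nat.card_perm]
          exact Subgroup.card_subgroup_dvd_card _
        rw [hcore, Subgroup.index_bot, hidx4] at h5
        exact h5
      exact hns (solvable_of_card_dvd_24 h24)

/-- A finite group in which every maximal subgroup has index a prime or the square of a prime is solvable. -/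
theorem result {G : Type*} [Group G] [Finite G] (h : ∀ M : Subgroup G, IsCoatom M → ∃ p : ℕ, p.Prime ∧ (M.index = p ∨ M.index = p ^ 2)) : Group.IsSolvable G := by
  exact main (Nat.card G) G rfl h

end Cfsg.Agent.S4203
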