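import Cfsg.Statements.S4204

set_option autoImplicit false
open Cfsg

namespace Cfsg.Agent.S4204

open scoped commutatorElement

variable {G : Type*} [Group G]

/-- shifted lower central series: `sh H 0 = ⊤`, `sh H (i+1) = H.lowerCentralSeries i`. -/
def sh (H : Subgroup G) : ℕ → Subgroup G
  | 0 => ⊤
  | (i + 1) => H.lowerCentralSeries i

lemma lcs_normal (H : Subgroup G) [hH : H.Normal] (n : ℕ) : (H.lowerCentralSeries n).Normal := by
  induction n with
  | zero => simpa using hH
  | succ n ih =>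
    rw [Subgroup.lowerCentralSeries_succ]
    have := ih
    infer_instance

lemma sh_normal (H : Subgroup G) [H.Normal] (n : ℕ) : (sh H n).Normal := by
  cases n with
  | zero => exact Subgroup.normal_top
  | succ n => exact lcs_normal H n

lemma comm_le_iff (A C M : Subgroup G) [M.Normal] :
    ⁅A, C⁆ ≤ M ↔ A.map (QuotientGroup.mk' M) ≤
      Subgroup.centralizer (C.map (QuotientGroup.mk' M) : Set (G ⧸ M)) := by
  rw [← Subgroup.commutator_eq_bot_iff_le_centralizer, ← Subgroup.map_commutator,
    Subgroup.map_eq_bot_iff, QuotientGroup.ker_mk']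

lemma comm_iSup_le {ι : Sort*} (A : ι → Subgroup G) (C M : Subgroup G) [M.Normal]
    (h : ∀ i, ⁅A i, C⁆ ≤ M) : ⁅⨆ i, A i, C⁆ ≤ M := by
  rw [comm_le_iff, Subgroup.map_iSup]
  exact iSup_le fun i => (comm_le_iff _ _ _).mp (h i)

lemma comm_sup_right_le (A B C M : Subgroup G) [M.Normal] (h1 : ⁅A, B⁆ ≤ M) (h2 : ⁅A, C⁆ ≤ M) :
    ⁅A, B ⊔ C⁆ ≤ M := by
  rw [Subgroup.commutator_comm] at h1 h2 ⊢
  rw [comm_le_iff, Subgroup.map_sup]
  exact sup_le ((comm_le_iff _ _ _).mp h1) ((comm_le_iff _ _ _).mp h2)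

lemma sh_comm_le (H : Subgroup G) [H.Normal] (i : ℕ) : ⁅sh H i, H⁆ ≤ sh H (i + 1) := by
  cases i with
  | zero =>
    show ⁅(⊤ : Subgroup G), H⁆ ≤ H.lowerCentralSeries 0
    rw [Subgroup.lowerCentralSeries_zero]
    exact Subgroup.commutator_le_right ⊤ H
  | succ i => exact le_of_eq rfl

lemma sh_comm_le' (H K : Subgroup G) [H.Normal] (i : ℕ) : ⁅sh H i, K⁆ ≤ sh H i := by
  have := sh_normal H i
  exact Subgroup.commutator_le_left (sh H i) K

/-- The sup of the mixed terms. -/
def F (H K : Subgroup G) (n : ℕ) : Subgroup G := ⨆ i : Fin (n + 2), sh H i ⊓ sh K (n + 1 - i)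

lemma F_normal (H K : Subgroup G) [H.Normal] [K.Normal] (n : ℕ) : (F H K n).Normal := by
  unfold F
  have : ∀ i : Fin (n + 2), (sh H i ⊓ sh K (n + 1 - i)).Normal := by
    intro i
    have := sh_normal H i
    have := sh_normal K (n + 1 - i)
    infer_instance
  infer_instance

lemma key (H K : Subgroup G) [H.Normal] [K.Normal] (n : ℕ) :
    (H ⊔ K).lowerCentralSeries n ≤ F H K n := by
  induction n with
  | zero =>
    rw [Subgroup.lowerCentralSeries_zero]
    apply sup_le
    · refine le_trans ?_ (le_iSup (fun i : Fin 2 => sh H i ⊓ sh K (0 + 1 - i)) 1)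
      simp [sh]
    · refine le_trans ?_ (le_iSup (fun i : Fin 2 => sh H i ⊓ sh K (0 + 1 - i)) 0)
      simp [sh]
  | succ n ih =>
    rw [Subgroup.lowerCentralSeries_succ]
    have := F_normal H K (n + 1)
    refine le_trans (Subgroup.commutator_mono ih le_rfl) ?_
    apply comm_iSup_le
    intro i
    apply comm_sup_right_le
    · -- commutator with `H`
      have h1 : ⁅sh H i ⊓ sh K (n + 1 - i), H⁆ ≤ sh H (i + 1) ⊓ sh K (n + 1 - i) := by
        apply le_inf
        · exact le_trans (Subgroup.commutator_mono inf_le_left le_rfl) (sh_comm_le H i)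
        · exact le_trans (Subgroup.commutator_mono inf_le_right le_rfl) (sh_comm_le' K H _)
      refine le_trans h1 ?_
      have h2 := le_iSup (fun j : Fin (n + 1 + 2) => sh H j ⊓ sh K (n + 1 + 1 - j)) i.succ
      have h3 : n + 1 + 1 - ((i.succ : Fin (n + 1 + 2)) : ℕ) = n + 1 - (i : ℕ) := by
        simp
      simp only [h3] at h2
      show _ ≤ ⨆ j : Fin (n + 1 + 2), sh H j ⊓ sh K (n + 1 + 1 - j)
      simpa using h2
    · -- commutator with `K`
      have h1 : ⁅sh H i ⊓ sh K (n + 1 - i), K⁆ ≤ sh H i ⊓ sh K (n + 1 - i + 1) := by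
        apply le_inf
        · exact le_trans (Subgroup.commutator_mono inf_le_left le_rfl) (sh_comm_le' H K _)
        · exact le_trans (Subgroup.commutator_mono inf_le_right le_rfl) (sh_comm_le K _)
      refine le_trans h1 ?_
      have h2 := le_iSup (fun j : Fin (n + 1 + 2) => sh H j ⊓ sh K (n + 1 + 1 - j)) i.castSucc
      have h3 : n + 1 + 1 - ((i.castSucc : Fin (n + 1 + 2)) : ℕ) = n + 1 - (i : ℕ) + 1 := by
        have := i.isLt
        simp
        omega
      simp only [h3] at h2
      show _ ≤ ⨆ j : Fin (n + 1 + 2), sh H j ⊓ sh K (n + 1 + 1 - j)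
      simpa using h2

/-- If `H` and `K` are normal subgroups of a finite group with `H` nilpotent of class at most `c` and `K` nilpotent of class at most `d` (the terms with index `c`, respectively `d`, of their lower central series are trivial, indices starting at `0`), then `HK` is nilpotent of class at most `c + d`. -/
theorem result {G : Type*} [Group G] [Finite G] (H K : Subgroup G) [H.Normal] [K.Normal] (c d : ℕ) (hH : H.lowerCentralSeries c = ⊥) (hK : K.lowerCentralSeries d = ⊥) : (H ⊔ K).lowerCentralSeries (c + d) = ⊥ := by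
  rw [eq_bot_iff]
  refine le_trans (key H K (c + d)) ?_
  unfold F
  apply iSup_le
  intro i
  by_cases hi : c + 1 ≤ (i : ℕ)
  · refine le_trans inf_le_left ?_
    obtain ⟨j, hj⟩ : ∃ j, (i : ℕ) = j + 1 := ⟨(i : ℕ) - 1, by omega⟩
    rw [hj]
    show H.lowerCentralSeries j ≤ ⊥
    rw [← hH]
    exact H.lowerCentralSeries_antitone (by omega)
  · refine le_trans inf_le_right ?_
    obtain ⟨j, hj⟩ : ∃ j, c + d + 1 - (i : ℕ) = j + 1 := ⟨c + d - (i : ℕ), by omega⟩
    rw [hj]
    show K.lowerCentralSeries j ≤ ⊥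
    rw [← hK]
    exact K.lowerCentralSeries_antitone (by omega)

end Cfsg.Agent.S4204
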