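import Cfsg.Statements.S4211
import Cfsg.Agent.Lib.helper73.Quaternion

set_option autoImplicit false
open Cfsg

namespace Cfsg.Agent.S4211

/-- Conjugating a power of `x` by `y` when the commutator `x y x⁻¹ y⁻¹` commutes with `x`. -/
theorem conj_pow_eq {G : Type*} [Group G] (x y : G) (hc : Commute (x * y * x⁻¹ * y⁻¹) x) (n : ℕ) :
    y * x ^ n * y⁻¹ = ((x * y * x⁻¹ * y⁻¹)⁻¹) ^ n * x ^ n := by
  have h1 : y * x * y⁻¹ = (x * y * x⁻¹ * y⁻¹)⁻¹ * x := by group
  rw [← conj_pow, h1, Commute.mul_pow hc.inv_left]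

theorem pow_mul_of_comm {G : Type*} [Group G] (u y e : G) (h : y * u = e * u * y)
    (hey : Commute e y) (n : ℕ) : y ^ n * u = e ^ n * u * y ^ n := by
  induction n with
  | zero => simp
  | succ n ih =>
    have h1 : y ^ n * e = e * y ^ n := (hey.pow_right n).eq.symm
    calc y ^ (n + 1) * u = y ^ n * (y * u) := by rw [pow_succ, mul_assoc]
      _ = y ^ n * (e * u * y) := by rw [h]
      _ = (y ^ n * e) * u * y := by simp only [mul_assoc]
      _ = e * (y ^ n * u) * y := by rw [h1]; simp only [mul_assoc]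
      _ = e * (e ^ n * u * y ^ n) * y := by rw [ih]
      _ = e ^ (n + 1) * u * y ^ (n + 1) := by
          rw [pow_succ' e, pow_succ y]; simp only [mul_assoc]

theorem mul_pow_of_comm {G : Type*} [Group G] (u y e : G) (h : y * u = e * u * y)
    (heu : Commute e u) (hey : Commute e y) (n : ℕ) :
    (u * y) ^ n = e ^ (n.choose 2) * u ^ n * y ^ n := by
  induction n with
  | zero => simp
  | succ n ih =>
    have h1 := pow_mul_of_comm u y e h hey n
    have h2 : (n + 1).choose 2 = n.choose 2 + n := by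
      rw [Nat.choose_succ_succ', Nat.choose_one_right, add_comm]
    have h3 : u ^ n * e ^ n = e ^ n * u ^ n := ((heu.pow_left n).pow_right n).eq.symm
    calc (u * y) ^ (n + 1) = (u * y) ^ n * (u * y) := pow_succ _ _
      _ = e ^ (n.choose 2) * u ^ n * y ^ n * (u * y) := by rw [ih]
      _ = e ^ (n.choose 2) * u ^ n * (y ^ n * u) * y := by simp only [mul_assoc]
      _ = e ^ (n.choose 2) * u ^ n * (e ^ n * u * y ^ n) * y := by rw [h1]
      _ = e ^ (n.choose 2) * (u ^ n * e ^ n) * u * y ^ n * y := by simp only [mul_assoc]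
      _ = e ^ (n.choose 2) * (e ^ n * u ^ n) * u * y ^ n * y := by rw [h3]
      _ = e ^ ((n + 1).choose 2) * u ^ (n + 1) * y ^ (n + 1) := by
          rw [h2, pow_add, pow_succ u, pow_succ y]; simp only [mul_assoc]

theorem pow_mem_zpowers_of_order {G : Type*} [Group G] [Finite G] (x c : G) (p a : ℕ)
    (hp : p.Prime) (hx : orderOf x = p ^ (a + 1)) (hc : orderOf c = p)
    (hcx : c ∈ Subgroup.zpowers x) : x ^ (p ^ a) ∈ Subgroup.zpowers c := by
  obtain ⟨r, hr⟩ := (mem_powers_iff_mem_zpowers.mpr hcx)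
  have hr' : x ^ r = c := hr
  have h1 : x ^ (r * p) = 1 := by rw [pow_mul, hr', ← hc, pow_orderOf_eq_one]
  have h2 : p ^ (a + 1) ∣ r * p := by rw [← hx]; exact orderOf_dvd_of_pow_eq_one h1
  have h3 : p ^ a ∣ r := by
    rw [pow_succ] at h2
    exact Nat.dvd_of_mul_dvd_mul_right hp.pos h2
  obtain ⟨s, rfl⟩ := h3
  have h4 : c ∈ Subgroup.zpowers (x ^ (p ^ a)) := by
    rw [← hr', pow_mul]; exact Subgroup.pow_mem _ (Subgroup.mem_zpowers _) _
  have h5 : orderOf (x ^ (p ^ a)) = p := by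
    rw [orderOf_pow_of_dvd (pow_ne_zero _ hp.ne_zero)
      (by rw [hx]; exact pow_dvd_pow _ (Nat.le_succ _)), hx, pow_succ,
      Nat.mul_div_cancel_left _ (pow_pos hp.pos _)]
  have h6 : Subgroup.zpowers c = Subgroup.zpowers (x ^ (p ^ a)) := by
    apply Subgroup.eq_of_le_of_card_ge
    · exact (Subgroup.zpowers_le).mpr h4
    · rw [Nat.card_zpowers, Nat.card_zpowers, h5, hc]
  rw [h6]; exact Subgroup.mem_zpowers _

theorem key {G : Type*} [Group G] [Finite G]
    (hN : ∀ x g : G, g * x * g⁻¹ ∈ Subgroup.zpowers x)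
    (x y : G) (hxy : ¬ Commute x y)
    (hmin : ∀ x' y' : G, ¬ Commute x' y' → orderOf x + orderOf y ≤ orderOf x' + orderOf y')
    (hle : orderOf y ≤ orderOf x) :
    x ^ 4 = 1 ∧ x ^ 2 ≠ 1 ∧ y ^ 2 = x ^ 2 ∧ y * x * y⁻¹ = x⁻¹ := by
  obtain ⟨c, hcdef⟩ : ∃ c, c = x * y * x⁻¹ * y⁻¹ := ⟨_, rfl⟩
  have hcx : c ∈ Subgroup.zpowers x := by
    have h1 : y * x * y⁻¹ ∈ Subgroup.zpowers x := hN x y
    have h2 : c = x * (y * x * y⁻¹)⁻¹ := by rw [hcdef]; group
    rw [h2]
    exact Subgroup.mul_mem _ (Subgroup.mem_zpowers x) (Subgroup.inv_mem _ h1)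
  have hcy : c ∈ Subgroup.zpowers y := by
    have h1 : x * y * x⁻¹ ∈ Subgroup.zpowers y := hN y x
    rw [hcdef]
    exact Subgroup.mul_mem _ h1 (Subgroup.inv_mem _ (Subgroup.mem_zpowers y))
  have hcomx : Commute c x := by
    obtain ⟨k, hk⟩ := Subgroup.mem_zpowers_iff.mp hcx
    rw [← hk]
    exact (Commute.refl x).zpow_left k
  have hcomy : Commute c y := by
    obtain ⟨k, hk⟩ := Subgroup.mem_zpowers_iff.mp hcy
    rw [← hk]
    exact (Commute.refl y).zpow_left k
  have hc1 : c ≠ 1 := by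
    intro h
    apply hxy
    rw [hcdef] at h
    have h2 : x * y = y * x := by
      calc x * y = (x * y * x⁻¹ * y⁻¹) * (y * x) := by group
        _ = y * x := by rw [h, one_mul]
    exact h2
  -- conjugation formulas
  have hFx : ∀ n : ℕ, y * x ^ n * y⁻¹ = (c⁻¹) ^ n * x ^ n := by
    intro n
    rw [hcdef]
    exact conj_pow_eq x y (hcdef ▸ hcomx) n
  have hFy : ∀ n : ℕ, x * y ^ n * x⁻¹ = c ^ n * y ^ n := by
    intro n
    have h1 : y * x * y⁻¹ * x⁻¹ = c⁻¹ := by rw [hcdef]; group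
    have h2 := conj_pow_eq y x (by rw [h1]; exact hcomy.inv_left) n
    rw [h1, inv_inv] at h2
    exact h2
  -- prime steps
  have hpx : ∀ p : ℕ, p.Prime → p ∣ orderOf x → orderOf c = p := by
    intro p hp hdvd
    have hcom : Commute (x ^ p) y := by
      by_contra hnc
      have h1 := hmin (x ^ p) y hnc
      have h2 : orderOf (x ^ p) = orderOf x / p := orderOf_pow_of_dvd hp.ne_zero hdvd
      have h3 : orderOf x / p < orderOf x := Nat.div_lt_self (orderOf_pos x) hp.one_lt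
      omega
    have h4 : y * x ^ p * y⁻¹ = x ^ p := by
      rw [← hcom.eq]; group
    rw [hFx p] at h4
    have h5 : c ^ p = 1 := by
      have : (c⁻¹) ^ p = 1 := by
        have := mul_right_cancel (h4.trans (one_mul _).symm)
        exact this
      rw [inv_pow, inv_eq_one] at this
      exact this
    rcases (Nat.dvd_prime hp).mp (orderOf_dvd_of_pow_eq_one h5) with h6 | h6
    · exact absurd (orderOf_eq_one_iff.mp h6) hc1
    · exact h6
  have hpy : ∀ p : ℕ, p.Prime → p ∣ orderOf y → orderOf c = p := by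
    intro p hp hdvd
    have hcom : Commute x (y ^ p) := by
      by_contra hnc
      have h1 := hmin x (y ^ p) hnc
      have h2 : orderOf (y ^ p) = orderOf y / p := orderOf_pow_of_dvd hp.ne_zero hdvd
      have h3 : orderOf y / p < orderOf y := Nat.div_lt_self (orderOf_pos y) hp.one_lt
      omega
    have h4 : x * y ^ p * x⁻¹ = y ^ p := by
      rw [hcom.eq]; group
    rw [hFy p] at h4
    have h5 : c ^ p = 1 := mul_right_cancel (h4.trans (one_mul _).symm)
    rcases (Nat.dvd_prime hp).mp (orderOf_dvd_of_pow_eq_one h5) with h6 | h6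
    · exact absurd (orderOf_eq_one_iff.mp h6) hc1
    · exact h6
  have hx1 : orderOf x ≠ 1 := by
    intro h
    rw [orderOf_eq_one_iff] at h
    apply hxy
    rw [h]
    exact Commute.one_left y
  have hy1 : orderOf y ≠ 1 := by
    intro h
    rw [orderOf_eq_one_iff] at h
    apply hxy
    rw [h]
    exact Commute.one_right x
  obtain ⟨p, hp, hpdvd⟩ := Nat.exists_prime_and_dvd hx1
  have hcp : orderOf c = p := hpx p hp hpdvd
  have hxpow : ∃ a, orderOf x = p ^ (a + 1) := by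
    have h1 := Nat.eq_prime_pow_of_unique_prime_dvd (orderOf_pos x).ne'
      (fun {d} hd hdvd => (hpx d hd hdvd).symm.trans hcp)
    rcases Nat.exists_eq_succ_of_ne_zero (n := (orderOf x).primeFactorsList.length)
      (by
        intro h0
        rw [h0, pow_zero] at h1
        exact hx1 h1) with ⟨a, ha⟩
    exact ⟨a, by rw [h1, ha] ⟩
  have hypow : ∃ b, orderOf y = p ^ (b + 1) := by
    have h1 := Nat.eq_prime_pow_of_unique_prime_dvd (orderOf_pos y).ne'
      (fun {d} hd hdvd => (hpy d hd hdvd).symm.trans hcp)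
    rcases Nat.exists_eq_succ_of_ne_zero (n := (orderOf y).primeFactorsList.length)
      (by
        intro h0
        rw [h0, pow_zero] at h1
        exact hy1 h1) with ⟨b, hb⟩
    exact ⟨b, by rw [h1, hb]⟩
  obtain ⟨a, ha⟩ := hxpow
  obtain ⟨b, hb⟩ := hypow
  have hba : b ≤ a := by
    rw [ha, hb] at hle
    have := (Nat.pow_le_pow_iff_right hp.one_lt).mp hle
    omega
  have hx0 : x ^ (p ^ a) ∈ Subgroup.zpowers c := pow_mem_zpowers_of_order x c p a hp ha hcp hcx
  have hy0 : y ^ (p ^ b) ∈ Subgroup.zpowers c := pow_mem_zpowers_of_order y c p b hp hb hcp hcy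
  -- y ^ (p ^ b) is a power of x
  have hy0x : y ^ (p ^ b) ∈ Subgroup.zpowers x :=
    (Subgroup.zpowers_le.mpr hcx) hy0
  obtain ⟨r, hr⟩ := (mem_powers_iff_mem_zpowers.mpr hy0x)
  have hr' : x ^ r = y ^ (p ^ b) := hr
  have h1 : x ^ (r * p) = 1 := by
    rw [pow_mul, hr', ← pow_mul, ← pow_succ, ← hb, pow_orderOf_eq_one]
  have h2 : p ^ (a + 1) ∣ r * p := by rw [← ha]; exact orderOf_dvd_of_pow_eq_one h1
  have h3 : p ^ a ∣ r := by
    rw [pow_succ] at h2
    exact Nat.dvd_of_mul_dvd_mul_right hp.pos h2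
  obtain ⟨j, rfl⟩ := h3
  obtain ⟨m, hm⟩ : ∃ m, m = p ^ (a - b) * j := ⟨_, rfl⟩
  obtain ⟨z, hz⟩ : ∃ z, z = x ^ m := ⟨_, rfl⟩
  have hzpow : z ^ (p ^ b) = y ^ (p ^ b) := by
    rw [← hr', hz, ← pow_mul, hm]
    congr 1
    rw [mul_right_comm, pow_sub_mul_pow p hba]
  have hzx : Commute x z := by rw [hz]; exact (Commute.refl x).pow_right m
  have hcz : Commute c z := by rw [hz]; exact hcomx.pow_right m
  obtain ⟨w, hw⟩ : ∃ w, w = z⁻¹ * y := ⟨_, rfl⟩
  have hxw : ¬ Commute x w := by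
    intro h
    apply hxy
    have h2 : y = z * w := by rw [hw]; group
    rw [h2]
    exact hzx.mul_right h
  have hyw : orderOf y ≤ orderOf w := by
    have := hmin x w hxw
    omega
  have hyz : y * z⁻¹ = c ^ m * z⁻¹ * y := by
    have h4 : y * z * y⁻¹ = (c⁻¹) ^ m * z := by rw [hz]; exact hFx m
    have h5 : y * z⁻¹ * y⁻¹ = (y * z * y⁻¹)⁻¹ := by group
    rw [h4, mul_inv_rev, inv_pow, inv_inv] at h5
    have h6 : z⁻¹ * c ^ m = c ^ m * z⁻¹ := ((hcz.pow_left m).inv_right).eq.symm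
    rw [h6] at h5
    calc y * z⁻¹ = (y * z⁻¹ * y⁻¹) * y := by group
      _ = c ^ m * z⁻¹ * y := by rw [h5]
  have hwpow : w ^ (p ^ b) = c ^ (m * (p ^ b).choose 2) := by
    rw [hw, mul_pow_of_comm z⁻¹ y (c ^ m) hyz ((hcz.pow_left m).inv_right) (hcomy.pow_left m),
      inv_pow, hzpow, mul_assoc, inv_mul_cancel, mul_one, pow_mul]
  have hwne : w ^ (p ^ b) ≠ 1 := by
    intro h
    have h4 : orderOf w ∣ p ^ b := orderOf_dvd_of_pow_eq_one h
    have h5 : orderOf w ≤ p ^ b := Nat.le_of_dvd (pow_pos hp.pos _) h4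
    have h6 : p ^ b < p ^ (b + 1) := Nat.pow_lt_pow_right hp.one_lt (Nat.lt_succ_self b)
    rw [hb] at hyw
    omega
  have hndvd : ¬ p ∣ m * (p ^ b).choose 2 := by
    intro h
    apply hwne
    rw [hwpow]
    have h' : orderOf c ∣ m * (p ^ b).choose 2 := by rw [hcp]; exact h
    exact orderOf_dvd_iff_pow_eq_one.mp h' 
  have hab : a = b := by
    by_contra hne
    apply hndvd
    have h4 : p ∣ p ^ (a - b) := dvd_pow_self p (by omega)
    rw [hm]
    exact Dvd.dvd.mul_right (Dvd.dvd.mul_right h4 j) _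
  have hb0 : b ≠ 0 := by
    intro h0
    apply hndvd
    rw [h0, pow_zero]
    simp
  have hpb : p ^ b = 2 := by
    by_contra hne
    apply hndvd
    exact Dvd.dvd.mul_left (hp.dvd_choose_pow two_ne_zero (fun h => hne h.symm)) _
  have hp2 : p = 2 := by
    have h4 : p ∣ 2 := by
      rw [← hpb]
      exact dvd_pow_self p hb0
    exact (Nat.prime_dvd_prime_iff_eq hp Nat.prime_two).mp h4
  subst hp2
  have hb1 : b = 1 := by
    have h4 : 2 ^ b = 2 ^ 1 := hpb.trans (pow_one 2).symm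
    exact Nat.pow_right_injective (le_refl 2) h4
  subst hb1
  subst hab
  have hox : orderOf x = 4 := by rw [ha]; norm_num
  have hoy : orderOf y = 4 := by rw [hb]; norm_num
  have hx4 : x ^ 4 = 1 := by rw [← hox]; exact pow_orderOf_eq_one x
  have hx2 : x ^ 2 ≠ 1 := by
    intro h
    have := orderOf_dvd_of_pow_eq_one h
    rw [hox] at this
    omega
  have hy2 : y ^ 2 ≠ 1 := by
    intro h
    have := orderOf_dvd_of_pow_eq_one h
    rw [hoy] at this
    omega
  have hc2 : c ^ 2 = 1 := by rw [← hcp]; exact pow_orderOf_eq_one c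
  have hsq : ∀ g : G, g ∈ Subgroup.zpowers c → g ≠ 1 → g = c := by
    intro g hg hg1
    obtain ⟨k, hk⟩ := (mem_powers_iff_mem_zpowers.mpr hg)
    have hk' : c ^ k = g := hk
    rw [← hk', ← pow_mod_orderOf, hcp] at hg1 ⊢
    have h4 : k % 2 < 2 := Nat.mod_lt _ (by norm_num)
    have h5 : k % 2 = 0 ∨ k % 2 = 1 := by omega
    rcases h5 with h5 | h5
    · rw [h5, pow_zero] at hg1
      exact absurd rfl hg1
    · rw [h5, pow_one]
  have hxc : x ^ 2 = c := by
    apply hsq _ _ hx2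
    simpa using hx0
  have hyc : y ^ 2 = c := by
    apply hsq _ _ hy2
    simpa using hy0
  refine ⟨hx4, hx2, hyc.trans hxc.symm, ?_⟩
  have h4 := hFx 1
  rw [pow_one, pow_one, ← hxc] at h4
  rw [h4]
  group

theorem exists_quat_gens {G : Type*} [Group G] [Finite G]
    (hN : ∀ x g : G, g * x * g⁻¹ ∈ Subgroup.zpowers x) (hna : ∃ x y : G, ¬ Commute x y) :
    ∃ x y : G, x ^ 4 = 1 ∧ x ^ 2 ≠ 1 ∧ y ^ 2 = x ^ 2 ∧ y * x * y⁻¹ = x⁻¹ := by
  classical
  have hex : ∃ n, ∃ x y : G, ¬ Commute x y ∧ orderOf x + orderOf y = n := by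
    obtain ⟨x, y, h⟩ := hna
    exact ⟨_, x, y, h, rfl⟩
  obtain ⟨x, y, hxy, hn⟩ := Nat.find_spec hex
  have hmin : ∀ x' y' : G, ¬ Commute x' y' →
      orderOf x + orderOf y ≤ orderOf x' + orderOf y' := by
    intro x' y' h
    rw [hn]
    exact Nat.find_min' hex ⟨x', y', h, rfl⟩
  rcases le_total (orderOf y) (orderOf x) with hle | hle
  · exact ⟨x, y, key hN x y hxy hmin hle⟩
  · refine ⟨y, x, key hN y x (fun h => hxy h.symm) ?_ hle⟩
    intro x' y' h
    rw [add_comm]
    exact hmin x' y' h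

theorem conj_eq_or_inv {G : Type*} [Group G] [Finite G] (x g : G) (hx4 : x ^ 4 = 1)
    (hx2 : x ^ 2 ≠ 1) (h : g * x * g⁻¹ ∈ Subgroup.zpowers x) :
    g * x * g⁻¹ = x ∨ g * x * g⁻¹ = x⁻¹ := by
  obtain ⟨k, hk⟩ := (mem_powers_iff_mem_zpowers.mpr h)
  have hk' : x ^ k = g * x * g⁻¹ := hk
  rw [pow_eq_pow_mod k hx4] at hk'
  have hlt : k % 4 < 4 := Nat.mod_lt _ (by norm_num)
  have hx1 : x ≠ 1 := by
    rintro rfl
    exact hx2 (one_pow 2)
  have h3 : k % 4 = 0 ∨ k % 4 = 1 ∨ k % 4 = 2 ∨ k % 4 = 3 := by omega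
  rcases h3 with h3 | h3 | h3 | h3
  · rw [h3, pow_zero] at hk'
    exfalso
    apply hx1
    have h4 : x = g⁻¹ * (g * x * g⁻¹) * g := by group
    rw [h4, ← hk']
    group
  · left
    rw [← hk', h3, pow_one]
  · exfalso
    apply hx2
    rw [h3] at hk'
    have h5 : g * x ^ 2 * g⁻¹ = 1 := by
      rw [← conj_pow, ← hk', ← pow_mul]
      exact hx4
    have h4 : x ^ 2 = g⁻¹ * (g * x ^ 2 * g⁻¹) * g := by group
    rw [h4, h5]
    group
  · right
    rw [← hk', h3]
    apply eq_inv_of_mul_eq_one_left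
    rw [← pow_succ]
    exact hx4

theorem mem_range_quat {G : Type*} [Group G] (x y : G) (f : QuaternionGroup 2 →* G)
    (hfx : f (QuaternionGroup.a 1) = x) (hfy : f (QuaternionGroup.xa 0) = y) (g : G)
    (hg : g ∈ f.range) : ∃ i : ℕ, g = x ^ i ∨ g = y * x ^ i := by
  obtain ⟨q, rfl⟩ := hg
  rcases q with i | i
  · refine ⟨i.val, Or.inl ?_⟩
    have h1 : QuaternionGroup.a i = (QuaternionGroup.a 1 : QuaternionGroup 2) ^ i.val := by
      rw [QuaternionGroup.a_one_pow, ZMod.natCast_zmod_val]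
    rw [h1, map_pow, hfx]
  · refine ⟨i.val, Or.inr ?_⟩
    have h1 : QuaternionGroup.xa i =
        (QuaternionGroup.xa 0 : QuaternionGroup 2) * (QuaternionGroup.a 1) ^ i.val := by
      rw [QuaternionGroup.a_one_pow, ZMod.natCast_zmod_val, QuaternionGroup.xa_mul_a, zero_add]
    rw [h1, map_mul, map_pow, hfx, hfy]

/-- The elements of a commutative subgroup `C` killed by `n`. -/
def torsionIn {G : Type*} [Group G] (C : Subgroup G) (hC : ∀ z ∈ C, ∀ w ∈ C, z * w = w * z)
    (n : ℕ) : Subgroup G where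
  carrier := {z | z ∈ C ∧ z ^ n = 1}
  mul_mem' := by
    rintro a b ⟨ha, ha'⟩ ⟨hb, hb'⟩
    refine ⟨C.mul_mem ha hb, ?_⟩
    rw [(show Commute a b from hC a ha b hb).mul_pow, ha', hb', one_mul]
  one_mem' := ⟨C.one_mem, one_pow n⟩
  inv_mem' := by
    rintro a ⟨ha, ha'⟩
    exact ⟨C.inv_mem ha, by rw [inv_pow, ha', inv_one]⟩

/-- A finite non-abelian group in which every subgroup is normal is the internal direct product of a subgroup isomorphic to the quaternion group of order `8`, an elementary abelian `2`-subgroup and an abelian subgroup of odd order. -/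
theorem result {G : Type*} [Group G] [Finite G] (hna : ¬ IsMulCommutative G) (hn : ∀ H : Subgroup G, H.Normal) : ∃ Q E A : Subgroup G, Nonempty (Q ≃* QuaternionGroup 2) ∧ Cfsg.IsElementaryAbelian 2 E ∧ IsMulCommutative A ∧ Odd (Nat.card A) ∧ E ⊓ A = ⊥ ∧ Q ⊓ (E ⊔ A) = ⊥ ∧ Q ⊔ (E ⊔ A) = ⊤ := by
  classical
  have hN : ∀ x g : G, g * x * g⁻¹ ∈ Subgroup.zpowers x := fun x g =>
    (hn (Subgroup.zpowers x)).conj_mem x (Subgroup.mem_zpowers x) g
  have hna' : ∃ x y : G, ¬ Commute x y := by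
    by_contra h
    push Not at h
    exact hna ⟨⟨fun a b => (h a b).eq⟩⟩
  obtain ⟨x, y, hx4, hx2, hy2, hyx⟩ := exists_quat_gens hN hna'
  obtain ⟨f, hf, hfx, hfy⟩ := Lib.helper73.exists_quaternion_hom x y hx4 hx2 hy2 hyx
  have hy4 : y ^ 4 = 1 := by
    have h1 : y ^ 4 = (y ^ 2) ^ 2 := by rw [← pow_mul]
    rw [h1, hy2, ← pow_mul]
    exact hx4
  have hy2' : y ^ 2 ≠ 1 := by rw [hy2]; exact hx2
  have hxyx : x * y * x⁻¹ = y⁻¹ := by
    have h1 : x * y * x⁻¹ * y = 1 := by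
      calc x * y * x⁻¹ * y = x * (y * x * y⁻¹)⁻¹ * y ^ 2 := by group
        _ = x * (x⁻¹)⁻¹ * x ^ 2 := by rw [hyx, hy2]
        _ = x ^ 4 := by group
        _ = 1 := hx4
    exact eq_inv_of_mul_eq_one_left h1
  have hxy : x * y ≠ y * x := by
    intro h
    apply hx2
    have h1 : y * x * y⁻¹ = x := by rw [← h]; group
    rw [hyx] at h1
    calc x ^ 2 = x * x := pow_two x
      _ = x⁻¹ * x := by rw [h1]
      _ = 1 := inv_mul_cancel x
  obtain ⟨C, hCdef⟩ : ∃ C : Subgroup G, C = Subgroup.centralizer ({x, y} : Set G) := ⟨_, rfl⟩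
  have hCmem : ∀ z, z ∈ C ↔ x * z = z * x ∧ y * z = z * y := by
    intro z
    rw [hCdef, Subgroup.mem_centralizer_iff]
    constructor
    · intro h
      exact ⟨h x (by simp), h y (by simp)⟩
    · rintro ⟨h1, h2⟩ g hg
      rcases hg with rfl | rfl
      · exact h1
      · exact h2
  have hxQ : x ∈ f.range := ⟨_, hfx⟩
  have hyQ : y ∈ f.range := ⟨_, hfy⟩
  -- G = Q * C
  have hdecomp : ∀ g : G, ∃ q ∈ f.range, ∃ z ∈ C, g = q * z := by
    intro g
    have h1 : ∃ q1 ∈ f.range, (q1⁻¹ * g) * x * (q1⁻¹ * g)⁻¹ = x := by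
      rcases conj_eq_or_inv x g hx4 hx2 (hN x g) with h | h
      · exact ⟨1, f.range.one_mem, by simpa using h⟩
      · refine ⟨y, hyQ, ?_⟩
        have h2 : (y⁻¹ * g) * x * (y⁻¹ * g)⁻¹ = y⁻¹ * (g * x * g⁻¹) * y := by group
        rw [h2, h, ← hyx]
        group
    obtain ⟨q1, hq1, hq1x⟩ := h1
    obtain ⟨g', hg'⟩ : ∃ g', g' = q1⁻¹ * g := ⟨_, rfl⟩
    rw [← hg'] at hq1x
    rcases conj_eq_or_inv y g' hy4 hy2' (hN y g') with h | h
    · refine ⟨q1, hq1, g', ?_, by rw [hg']; group⟩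
      rw [hCmem]
      constructor
      · calc x * g' = (g' * x * g'⁻¹) * g' := by rw [hq1x]
          _ = g' * x := by group
      · calc y * g' = (g' * y * g'⁻¹) * g' := by rw [h]
          _ = g' * y := by group
    · refine ⟨q1 * x, f.range.mul_mem hq1 hxQ, x⁻¹ * g', ?_, by rw [hg']; group⟩
      rw [hCmem]
      constructor
      · calc x * (x⁻¹ * g') = x⁻¹ * x * g' := by group
          _ = x⁻¹ * (g' * x * g'⁻¹) * g' := by rw [hq1x]
          _ = x⁻¹ * g' * x := by group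
      · calc y * (x⁻¹ * g') = x⁻¹ * (x * y * x⁻¹) * g' := by group
          _ = x⁻¹ * (g' * y * g'⁻¹) * g' := by rw [hxyx, h]
          _ = x⁻¹ * g' * y := by group
  -- C has no element of order 4
  have hno4 : ∀ z ∈ C, z ^ 4 = 1 → z ^ 2 = 1 := by
    intro z hz hz4
    by_contra hz2
    obtain ⟨hzx, hzy⟩ := (hCmem z).mp hz
    have hcomm : Commute x z := hzx
    have h1 : y * (x * z) * y⁻¹ = x⁻¹ * z := by
      calc y * (x * z) * y⁻¹ = (y * x * y⁻¹) * (y * z) * y⁻¹ := by group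
        _ = x⁻¹ * (z * y) * y⁻¹ := by rw [hyx, hzy]
        _ = x⁻¹ * z := by group
    have h2 := hN (x * z) y
    rw [h1] at h2
    obtain ⟨k, hk⟩ := (mem_powers_iff_mem_zpowers.mpr h2)
    have hk' : (x * z) ^ k = x⁻¹ * z := hk
    have hxz4 : (x * z) ^ 4 = 1 := by rw [hcomm.mul_pow, hx4, hz4, one_mul]
    rw [pow_eq_pow_mod k hxz4, hcomm.mul_pow] at hk'
    have hzx' : z ≠ x := by
      rintro rfl
      exact hxy hzy.symm
    have hlt : k % 4 < 4 := Nat.mod_lt _ (by norm_num)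
    have h3 : k % 4 = 0 ∨ k % 4 = 1 ∨ k % 4 = 2 ∨ k % 4 = 3 := by omega
    rcases h3 with h3 | h3 | h3 | h3
    · rw [h3, pow_zero, pow_zero, one_mul] at hk'
      apply hzx'
      calc z = x * (x⁻¹ * z) := by group
        _ = x := by rw [← hk', mul_one]
    · rw [h3, pow_one, pow_one] at hk'
      have h4 : x = x⁻¹ := mul_right_cancel hk'
      apply hx2
      calc x ^ 2 = x * x := pow_two x
        _ = x⁻¹ * x := by rw [← h4]
        _ = 1 := inv_mul_cancel x
    · rw [h3] at hk'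
      apply hzx'
      have h4 : x ^ 3 * z = 1 := by
        apply mul_right_cancel (b := z)
        calc x ^ 3 * z * z = x * (x ^ 2 * z ^ 2) := by
              simp only [pow_succ, pow_zero, one_mul, mul_assoc]
          _ = x * (x⁻¹ * z) := by rw [hk']
          _ = 1 * z := by group
      calc z = x ^ 4 * z := by rw [hx4, one_mul]
        _ = x * (x ^ 3 * z) := by group
        _ = x := by rw [h4, mul_one]
    · rw [h3] at hk'
      apply hz2
      have h4 : x ^ 3 = x⁻¹ := by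
        apply eq_inv_of_mul_eq_one_left
        rw [← pow_succ]
        exact hx4
      rw [h4] at hk'
      have h5 : z ^ 3 = z := mul_left_cancel hk'
      calc z ^ 2 = z ^ 3 * z⁻¹ := by group
        _ = z * z⁻¹ := by rw [h5]
        _ = 1 := mul_inv_cancel z
  -- C is abelian
  have hCcomm : ∀ z ∈ C, ∀ w ∈ C, z * w = w * z := by
    by_contra hcon
    push Not at hcon
    obtain ⟨z, hz, w, hw, hzw⟩ := hcon
    have hNC : ∀ u g : C, g * u * g⁻¹ ∈ Subgroup.zpowers u := by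
      intro u g
      obtain ⟨k, hk⟩ := Subgroup.mem_zpowers_iff.mp (hN (u : G) (g : G))
      rw [Subgroup.mem_zpowers_iff]
      refine ⟨k, ?_⟩
      apply Subtype.ext
      simp only [Subgroup.coe_zpow, Subgroup.coe_mul, Subgroup.coe_inv]
      exact hk
    have hnaC : ∃ u v : C, ¬ Commute u v := by
      refine ⟨⟨z, hz⟩, ⟨w, hw⟩, ?_⟩
      intro h
      apply hzw
      exact congrArg Subtype.val h.eq
    obtain ⟨u, v, hu4, hu2, -, -⟩ := exists_quat_gens hNC hnaC
    apply hu2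
    apply Subtype.ext
    have h1 : (u : G) ^ 4 = 1 := by
      have := congrArg Subtype.val hu4
      simpa using this
    have := hno4 (u : G) u.2 h1
    simpa using this
  obtain ⟨k, m, hmodd, hkm⟩ := Nat.exists_eq_two_pow_mul_odd (n := Nat.card G) Nat.card_pos.ne'
  obtain ⟨t, ht⟩ := hmodd
  obtain ⟨T, hT⟩ : ∃ T : Subgroup G, T = torsionIn C hCcomm 2 := ⟨_, rfl⟩
  obtain ⟨A, hA⟩ : ∃ A : Subgroup G, A = torsionIn C hCcomm m := ⟨_, rfl⟩
  have hTmem : ∀ z, z ∈ T ↔ z ∈ C ∧ z ^ 2 = 1 := by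
    intro z
    rw [hT]
    exact Iff.rfl
  have hAmem : ∀ z, z ∈ A ↔ z ∈ C ∧ z ^ m = 1 := by
    intro z
    rw [hA]
    exact Iff.rfl
  have h2k : ∀ k : ℕ, ∀ w ∈ C, w ^ (2 ^ k) = 1 → w ^ 2 = 1 := by
    intro k
    induction k with
    | zero =>
      intro w hw h
      rw [pow_zero, pow_one] at h
      rw [h, one_pow]
    | succ k ih =>
      intro w hw h
      rcases Nat.eq_zero_or_pos k with rfl | hkpos
      · simpa using h
      · obtain ⟨k', rfl⟩ := Nat.exists_eq_succ_of_ne_zero hkpos.ne'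
        apply ih w hw
        have h1 : (w ^ (2 ^ k')) ^ 4 = 1 := by
          rw [← pow_mul, ← h]
          congr 1
          show 2 ^ k' * 4 = 2 ^ (k' + 1 + 1)
          ring
        have h2 := hno4 _ (C.pow_mem hw _) h1
        rw [← pow_mul] at h2
        rw [pow_succ]
        exact h2
  have hzmT : ∀ z ∈ C, z ^ m ∈ T := by
    intro z hz
    rw [hTmem]
    refine ⟨C.pow_mem hz m, h2k k _ (C.pow_mem hz m) ?_⟩
    rw [← pow_mul, mul_comm, ← hkm]
    exact pow_card_eq_one'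
  have hzA : ∀ z ∈ C, ((z ^ 2) ^ t)⁻¹ ∈ A := by
    intro z hz
    rw [hAmem]
    refine ⟨C.inv_mem (C.pow_mem (C.pow_mem hz 2) t), ?_⟩
    have h1 := ((hTmem _).mp (hzmT z hz)).2
    rw [inv_pow, inv_eq_one, ← pow_mul, ← pow_mul]
    have h2 : 2 * (t * m) = m * 2 * t := by ring
    rw [h2, pow_mul, pow_mul, h1, one_pow]
  have hzdec : ∀ z : G, z = z ^ m * ((z ^ 2) ^ t)⁻¹ := by
    intro z
    rw [ht]
    group
  have hTA : ∀ z, z ∈ T → z ∈ A → z = 1 := by
    intro z hzT hzA'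
    have h1 := ((hTmem z).mp hzT).2
    have h2 := ((hAmem z).mp hzA').2
    rw [hzdec z, h2, h1, one_pow, inv_one, one_mul]
  have hcT : x ^ 2 ∈ T := by
    rw [hTmem, hCmem]
    refine ⟨⟨by group, ?_⟩, ?_⟩
    · rw [← hy2]
      group
    · rw [← pow_mul]
      exact hx4
  -- a complement of ⟨x²⟩ in T
  have hSfin : ({E : Subgroup G | E ≤ T ∧ x ^ 2 ∉ E}).Finite := Set.toFinite _
  have hSne : ({E : Subgroup G | E ≤ T ∧ x ^ 2 ∉ E}).Nonempty :=
    ⟨⊥, bot_le, by rw [Subgroup.mem_bot]; exact hx2⟩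
  obtain ⟨E, hEmax⟩ := hSfin.exists_maximal hSne
  have hET : E ≤ T := hEmax.prop.1
  have hcE : x ^ 2 ∉ E := hEmax.prop.2
  have hE3 : ∀ s ∈ T, s ∈ E ∨ ∃ e ∈ E, s = e * x ^ 2 := by
    intro s hs
    by_cases hsE : s ∈ E
    · exact Or.inl hsE
    · right
      have hs2 : s ^ 2 = 1 := ((hTmem s).mp hs).2
      have hc' : x ^ 2 ∈ E ⊔ Subgroup.zpowers s := by
        by_contra hnot
        have hle : E ⊔ Subgroup.zpowers s ≤ E :=
          hEmax.le_of_ge ⟨sup_le hET (Subgroup.zpowers_le.mpr hs), hnot⟩ le_sup_left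
        exact hsE (hle (Subgroup.mem_sup_right (Subgroup.mem_zpowers s)))
      have := hn (Subgroup.zpowers s)
      obtain ⟨e, he, u, hu, heu⟩ := Subgroup.mem_sup_of_normal_right.mp hc'
      obtain ⟨i, hi⟩ := (mem_powers_iff_mem_zpowers.mpr hu)
      have hi' : s ^ i = u := hi
      rw [pow_eq_pow_mod i hs2] at hi'
      have h5 : i % 2 = 0 ∨ i % 2 = 1 := by omega
      rcases h5 with h5 | h5
      · rw [h5, pow_zero] at hi'
        rw [← hi', mul_one] at heu
        rw [heu] at he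
        exact absurd he hcE
      · rw [h5, pow_one] at hi'
        rw [← hi'] at heu
        refine ⟨e⁻¹, E.inv_mem he, ?_⟩
        rw [← heu]
        group
  have hEC : E ≤ C := fun g hg => ((hTmem g).mp (hET hg)).1
  have hAC : A ≤ C := fun g hg => ((hAmem g).mp hg).1
  refine ⟨f.range, E, A, ⟨(MonoidHom.ofInjective hf).symm⟩,
    ⟨⟨⟨fun a b => Subtype.ext (hCcomm a.1 (hEC a.2) b.1 (hEC b.2))⟩⟩,
      fun a ha => ((hTmem a).mp (hET ha)).2⟩,
    ⟨⟨fun a b => Subtype.ext (hCcomm a.1 (hAC a.2) b.1 (hAC b.2))⟩⟩, ?_, ?_, ?_, ?_⟩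
  · rw [← Nat.not_even_iff_odd]
    intro hev
    have : Fact (Nat.Prime 2) := ⟨Nat.prime_two⟩
    obtain ⟨a, ha⟩ := exists_prime_orderOf_dvd_card' (G := A) 2 hev.two_dvd
    have h1 : (a : G) ^ 2 = 1 := by
      have h0 : a ^ 2 = 1 := by rw [← ha]; exact pow_orderOf_eq_one a
      have := congrArg Subtype.val h0
      simpa using this
    have h2 : (a : G) = 1 := hTA _ ((hTmem _).mpr ⟨hAC a.2, h1⟩) a.2
    have h3 : a = 1 := Subtype.ext h2
    rw [h3, orderOf_one] at ha
    omega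
  · rw [eq_bot_iff]
    rintro g ⟨hgE, hgA⟩
    rw [Subgroup.mem_bot]
    exact hTA g (hET hgE) hgA
  · rw [eq_bot_iff]
    rintro g ⟨hgQ, hgEA⟩
    rw [Subgroup.mem_bot]
    have hgC : g ∈ C := (sup_le hEC hAC) hgEA
    obtain ⟨hgx, hgy⟩ := (hCmem g).mp hgC
    have hg1 : g = 1 ∨ g = x ^ 2 := by
      obtain ⟨i, hi | hi⟩ := mem_range_quat x y f hfx hfy g hgQ
      · rw [hi] at hgy ⊢
        have h1 : y * x ^ i * y⁻¹ = (x ^ i)⁻¹ := by rw [← conj_pow, hyx, inv_pow]
        have h2 : y * x ^ i * y⁻¹ = x ^ i := by rw [hgy]; group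
        have h3 : (x ^ i) ^ 2 = 1 := by
          rw [pow_two]
          nth_rewrite 1 [← h2]
          rw [h1]
          exact inv_mul_cancel _
        rw [pow_eq_pow_mod i hx4] at h3 ⊢
        have hlt : i % 4 < 4 := Nat.mod_lt _ (by norm_num)
        have h4 : i % 4 = 0 ∨ i % 4 = 1 ∨ i % 4 = 2 ∨ i % 4 = 3 := by omega
        rcases h4 with h4 | h4 | h4 | h4
        · left
          rw [h4, pow_zero]
        · rw [h4, pow_one] at h3
          exact absurd h3 hx2
        · right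
          rw [h4]
        · rw [h4, ← pow_mul] at h3
          exfalso
          apply hx2
          have h6 : x ^ 6 = 1 := h3
          calc x ^ 2 = x ^ 6 * (x ^ 4)⁻¹ := by group
            _ = 1 := by rw [h6, hx4]; group
      · exfalso
        rw [hi] at hgx
        apply hxy
        have h1 : x * y * x ^ i = y * x * x ^ i := by
          calc x * y * x ^ i = x * (y * x ^ i) := by group
            _ = y * x ^ i * x := hgx
            _ = y * x * x ^ i := by group
        exact mul_right_cancel h1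
    rcases hg1 with hg1 | hg1
    · exact hg1
    · exfalso
      rw [hg1] at hgEA
      have := hn A
      obtain ⟨e, he, a, ha, hea⟩ := Subgroup.mem_sup_of_normal_right.mp hgEA
      have haT : a ∈ T := by
        have h1 : a = e⁻¹ * x ^ 2 := by rw [← hea]; group
        rw [h1]
        exact T.mul_mem (T.inv_mem (hET he)) hcT
      have ha1 : a = 1 := hTA a haT ha
      rw [ha1, mul_one] at hea
      rw [hea] at he
      exact hcE he
  · rw [eq_top_iff]
    intro g _
    obtain ⟨q, hq, z, hz, rfl⟩ := hdecomp g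
    apply Subgroup.mul_mem _ (Subgroup.mem_sup_left hq)
    rw [hzdec z]
    apply Subgroup.mul_mem
    · rcases hE3 (z ^ m) (hzmT z hz) with h | ⟨e, he, h⟩
      · exact Subgroup.mem_sup_right (Subgroup.mem_sup_left h)
      · rw [h]
        exact Subgroup.mul_mem _ (Subgroup.mem_sup_right (Subgroup.mem_sup_left he))
          (Subgroup.mem_sup_left ⟨QuaternionGroup.a 1 ^ 2, by rw [map_pow, hfx]⟩)
    · exact Subgroup.mem_sup_right (Subgroup.mem_sup_right (hzA z hz))

end Cfsg.Agent.S4211
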