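import Cfsg.Statements.S4212
import Cfsg.Agent.Lib.helper70.Frob

set_option autoImplicit false
open Cfsg

namespace Cfsg.Agent.S4212

/-- If all fibres of `f : α → β` have exactly `k` elements then `|α| = |β| * k`. -/
theorem card_eq_mul_of_fiber_eq {α β : Type*} [Finite α] [Finite β] (f : α → β) (k : ℕ)
    (h : ∀ b, Nat.card {a // f a = b} = k) : Nat.card α = Nat.card β * k := by
  classical
  have := Fintype.ofFinite β
  rw [← Nat.card_congr (Equiv.sigmaFiberEquiv f), Nat.card_sigma]
  rw [Finset.sum_congr rfl (fun b _ => h b)]
  simp [Nat.card_eq_fintype_card]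

/-- The number of `n`-th roots is a class function. -/
theorem card_root_conj {G : Type*} [Group G] (c c' : G) (n : ℕ) (h : IsConj c c') :
    Nat.card {x : G // x ^ n = c'} = Nat.card {x : G // x ^ n = c} := by
  obtain ⟨g, hg⟩ := isConj_iff.mp h
  symm
  apply Nat.card_congr
  refine (MulAut.conj g).toEquiv.subtypeEquiv ?_
  intro x
  show x ^ n = c ↔ (g * x * g⁻¹) ^ n = c'
  rw [conj_pow, ← hg]
  constructor
  · intro h
    rw [h]
  · intro h
    exact mul_left_cancel (mul_right_cancel h)

theorem card_conj_pow {G : Type*} [Group G] [Finite G] (c : G) (n : ℕ) :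
    Nat.card {x : G // IsConj c (x ^ n)} =
      Nat.card {y : G // IsConj c y} * Nat.card {x : G // x ^ n = c} := by
  apply card_eq_mul_of_fiber_eq
    (fun x : {x : G // IsConj c (x ^ n)} => (⟨x.1 ^ n, x.2⟩ : {y : G // IsConj c y}))
  intro b
  rw [← card_root_conj c b.1 n b.2]
  apply Nat.card_congr
  exact ⟨fun a => ⟨a.1.1, congrArg Subtype.val a.2⟩,
    fun x => ⟨⟨x.1, by rw [x.2]; exact b.2⟩, Subtype.ext x.2⟩, fun a => rfl, fun x => rfl⟩

theorem card_class_mul_centralizer {G : Type*} [Group G] [Finite G] (c : G) :
    Nat.card {y : G // IsConj c y} * Nat.card (Subgroup.centralizer ({c} : Set G)) =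
      Nat.card G := by
  classical
  have := Fintype.ofFinite G
  rw [Lib.helper70.natCard_centralizer, Nat.card_eq_fintype_card (α := G),
    ← Lib.helper70.card_conj_mul_card_comm c]
  congr 1
  rw [Lib.helper70.natCard_subtype_eq_card_filter]
  congr 1
  ext y
  simp only [Finset.mem_filter, Finset.mem_univ, true_and]
  exact isConj_comm

theorem card_root_centralizer {G : Type*} [Group G] (c : G) (n : ℕ)
    (hc : c ∈ Subgroup.centralizer ({c} : Set G)) :
    Nat.card {x : Subgroup.centralizer ({c} : Set G) // x ^ n = ⟨c, hc⟩} =
      Nat.card {x : G // x ^ n = c} := by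
  apply Nat.card_congr
  refine ⟨fun x => ⟨x.1.1, by have := congrArg Subtype.val x.2; simpa using this⟩,
    fun x => ⟨⟨x.1, ?_⟩, ?_⟩, fun x => rfl, fun x => rfl⟩
  · rw [Subgroup.mem_centralizer_iff]
    intro h hh
    rw [Set.mem_singleton_iff] at hh
    rw [hh]
    have h2 : (x.1) ^ n * x.1 = x.1 * x.1 ^ n := ((Commute.refl x.1).pow_left n).eq
    rw [x.2] at h2
    exact h2
  · apply Subtype.ext
    simpa using x.2

theorem card_class_central {G : Type*} [Group G] (c : G) (hc : ∀ g : G, g * c = c * g) :
    Nat.card {y : G // IsConj c y} = 1 := by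
  rw [Nat.card_eq_one_iff_unique]
  have h1 : ∀ y : G, IsConj c y → y = c := by
    intro y hy
    obtain ⟨g, hg⟩ := isConj_iff.mp hy
    rw [← hg, hc g]
    group
  refine ⟨⟨fun a b => Subtype.ext ?_⟩, ⟨⟨c, IsConj.refl c⟩⟩⟩
  rw [h1 a.1 a.2, h1 b.1 b.2]

theorem orderOf_root {G : Type*} [Group G] [Finite G] (c x : G) (p a : ℕ) (hp : p.Prime)
    (hpc : p ∣ orderOf c) (hx : x ^ (p ^ a) = c) : orderOf x = orderOf c * p ^ a := by
  have h1 : orderOf c = orderOf x / Nat.gcd (orderOf x) (p ^ a) := by
    rw [← hx]
    exact orderOf_pow x
  obtain ⟨b, hb, hd⟩ := (Nat.dvd_prime_pow hp).mp (Nat.gcd_dvd_right (orderOf x) (p ^ a))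
  have h2 : orderOf x = orderOf c * p ^ b := by
    have h3 : p ^ b ∣ orderOf x := hd ▸ Nat.gcd_dvd_left _ _
    rw [h1, hd]
    exact (Nat.div_mul_cancel h3).symm
  by_contra hne
  have hlt : b < a := lt_of_le_of_ne hb (fun h => hne (by rw [h2, h]))
  have h3 : p ^ (b + 1) ∣ orderOf x := by
    rw [h2, pow_succ, mul_comm]
    exact mul_dvd_mul hpc (dvd_refl _)
  have h4 : p ^ (b + 1) ∣ p ^ a := pow_dvd_pow p hlt
  have h5 : p ^ (b + 1) ∣ p ^ b := by
    rw [← hd]
    exact Nat.dvd_gcd h3 h4
  have h6 := Nat.le_of_dvd (pow_pos hp.pos b) h5
  have h7 : p ^ b < p ^ (b + 1) := Nat.pow_lt_pow_right hp.one_lt (Nat.lt_succ_self b)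
  omega

/-- If `p` divides the order of `c`, the number of `p ^ a`-th roots of `c` is a multiple
of `p ^ a`: the roots generating a given cyclic subgroup come in packets of `p ^ a`. -/
theorem pow_dvd_card_root {G : Type*} [Group G] [Finite G] (c : G) (p a : ℕ) (hp : p.Prime)
    (hpc : p ∣ orderOf c) : p ^ a ∣ Nat.card {x : G // x ^ (p ^ a) = c} := by
  classical
  have := Fintype.ofFinite G
  rw [Lib.helper70.natCard_subtype_eq_card_filter]
  obtain ⟨n, hn⟩ : ∃ n, n = p ^ a := ⟨_, rfl⟩
  obtain ⟨m, hm⟩ : ∃ m, m = orderOf c := ⟨_, rfl⟩
  rw [← hn]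
  obtain ⟨X, hX⟩ : ∃ X : Finset G, X = Finset.univ.filter (fun x : G => x ^ n = c) := ⟨_, rfl⟩
  rw [← hX]
  have hXmem : ∀ x, x ∈ X ↔ x ^ n = c := by
    intro x
    rw [hX]
    simp
  have hord : ∀ x ∈ X, orderOf x = m * n := by
    intro x hx
    rw [hm, hn]
    exact orderOf_root c x p a hp hpc (hn ▸ (hXmem x).mp hx)
  have hm2 : 2 ≤ m := by
    rw [hm]
    exact le_trans hp.two_le (Nat.le_of_dvd (orderOf_pos c) hpc)
  have hn0 : 0 < n := by
    rw [hn]
    exact pow_pos hp.pos a
  rw [Finset.card_eq_sum_card_fiberwise (f := fun x => Subgroup.zpowers x)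
    (t := X.image (fun x => Subgroup.zpowers x)) (fun x hx => Finset.mem_image_of_mem _ hx)]
  apply Finset.dvd_sum
  intro H hH
  obtain ⟨x0, hx0, rfl⟩ := Finset.mem_image.mp hH
  have hfib : (X.filter (fun x => Subgroup.zpowers x = Subgroup.zpowers x0)).card = n := by
    rw [← Finset.card_range n]
    symm
    apply Finset.card_nbij (fun i => x0 ^ (1 + i * m))
    · intro i hi
      have hxi : x0 ^ (1 + i * m) ∈ X := by
        rw [hXmem, ← pow_mul, mul_comm, pow_mul, (hXmem x0).mp hx0, pow_add, pow_one,
          mul_comm i m, pow_mul, hm, pow_orderOf_eq_one, one_pow, mul_one]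
      simp only [Finset.coe_filter, Set.mem_ofPred_eq]
      refine ⟨hxi, ?_⟩
      apply Subgroup.eq_of_le_of_card_ge
      · exact Subgroup.zpowers_le.mpr (Subgroup.pow_mem _ (Subgroup.mem_zpowers x0) _)
      · rw [Nat.card_zpowers, Nat.card_zpowers, hord _ hxi, hord _ hx0]
    · intro i hi j hj hij
      simp only [Finset.coe_range, Set.mem_Iio] at hi hj
      have hij' : x0 ^ (1 + i * m) = x0 ^ (1 + j * m) := hij
      have h1 : 1 + i * m ≡ 1 + j * m [MOD m * n] := by
        rw [← hord x0 hx0]
        exact pow_eq_pow_iff_modEq.mp hij'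
      have h2 : i * m ≡ j * m [MOD n * m] := by
        rw [mul_comm n m]
        exact Nat.ModEq.add_left_cancel' 1 h1
      have h3 : i ≡ j [MOD n] := Nat.ModEq.mul_right_cancel' (by omega) h2
      exact Nat.ModEq.eq_of_lt_of_lt h3 hi hj
    · intro x hx
      simp only [Finset.coe_filter, Set.mem_ofPred_eq] at hx
      obtain ⟨hxX, hxz⟩ := hx
      have hxmem : x ∈ Subgroup.zpowers x0 := by
        rw [← hxz]
        exact Subgroup.mem_zpowers x
      obtain ⟨j, hj⟩ := (mem_powers_iff_mem_zpowers.mpr hxmem)
      have hj' : x0 ^ j = x := hj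
      have h1 : c ^ j = c ^ 1 := by
        rw [pow_one]
        calc c ^ j = (x0 ^ n) ^ j := by rw [(hXmem x0).mp hx0]
          _ = (x0 ^ j) ^ n := by rw [← pow_mul, mul_comm, pow_mul]
          _ = c := by rw [hj']; exact (hXmem x).mp hxX
      have h2 : j ≡ 1 [MOD m] := by
        rw [hm]
        exact pow_eq_pow_iff_modEq.mp h1
      have h3 : j % m = 1 := by
        have h2' : j % m = 1 % m := h2
        rw [h2']
        exact Nat.mod_eq_of_lt hm2
      refine ⟨(j / m) % n, by simp [Nat.mod_lt _ hn0], ?_⟩
      show x0 ^ (1 + (j / m) % n * m) = x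
      rw [← hj']
      apply pow_eq_pow_iff_modEq.mpr
      rw [hord x0 hx0]
      have h4 : j = 1 + (j / m) * m := by
        have h5 := Nat.div_add_mod j m
        rw [h3] at h5
        rw [mul_comm (j / m) m]
        omega
      have h5 : (j / m) % n * m ≡ (j / m) * m [MOD n * m] := (Nat.mod_modEq _ _).mul_right' m
      have h6 : 1 + (j / m) % n * m ≡ 1 + (j / m) * m [MOD n * m] := h5.add_left 1
      rw [← h4, mul_comm n m] at h6
      exact h6
  rw [hfib]

/-- For a central element of order prime to `n`, the `n`-th roots are in bijection with the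
`n`-th roots of `1`. -/
theorem card_root_central_coprime {G : Type*} [Group G] [Finite G] (c : G)
    (hc : ∀ g : G, g * c = c * g) (n : ℕ) (hcop : Nat.Coprime n (orderOf c)) :
    Nat.card {x : G // x ^ n = c} = Nat.card {x : G // x ^ n = 1} := by
  obtain ⟨k, hk⟩ := exists_pow_eq_self_of_coprime hcop
  have hw : (c ^ k) ^ n = c := by
    rw [← pow_mul, mul_comm, pow_mul]
    exact hk
  have hwc : ∀ g : G, Commute g (c ^ k)⁻¹ := fun g =>
    ((show Commute g c from hc g).pow_right k).inv_right
  apply Nat.card_congr
  refine ⟨fun x => ⟨x.1 * (c ^ k)⁻¹, ?_⟩, fun x => ⟨x.1 * c ^ k, ?_⟩,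
    fun x => Subtype.ext (by simp), fun x => Subtype.ext (by simp)⟩
  · rw [(hwc x.1).mul_pow, x.2, inv_pow, hw, mul_inv_cancel]
  · rw [((show Commute x.1 c from hc x.1).pow_right k).mul_pow, x.2, hw, one_mul]

theorem main.{u} : ∀ (N : ℕ) (G : Type u) [Group G] [Finite G], Nat.card G = N →
    ∀ (n : ℕ) (c : G), Nat.gcd (Nat.card {y : G // IsConj c y} * n) (Nat.card G) ∣
      Nat.card {x : G // IsConj c (x ^ n)} := by
  intro N
  induction N using Nat.strong_induction_on with
  | _ N IH =>
    intro G _ _ hN n
    induction n using Nat.strong_induction_on with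
    | _ n IHn =>
      intro c
      by_cases hcen : ∀ g : G, g * c = c * g
      · -- central case
        rw [card_conj_pow, card_class_central c hcen, one_mul, one_mul]
        -- splitting lemma
        have key : ∀ A B : ℕ, A < n →
            Nat.gcd A (Nat.card G) ∣ Nat.card {x : G // x ^ (A * B) = c} := by
          intro A B hA
          classical
          have := Fintype.ofFinite G
          obtain ⟨Y, hY⟩ : ∃ Y : Finset G, Y = Finset.univ.filter (fun y : G => y ^ B = c) :=
            ⟨_, rfl⟩
          have hYmem : ∀ y, y ∈ Y ↔ y ^ B = c := by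
            intro y
            rw [hY]
            simp
          have hsum : Nat.card {x : G // x ^ (A * B) = c} =
              ∑ y ∈ Y, Nat.card {x : G // x ^ A = y} := by
            rw [Lib.helper70.natCard_subtype_eq_card_filter]
            rw [Finset.card_eq_sum_card_fiberwise (f := fun x => x ^ A) (t := Y)
              (fun x hx => by
                show x ^ A ∈ Y
                rw [hYmem, ← pow_mul]
                simpa using hx)]
            apply Finset.sum_congr rfl
            intro y hy
            rw [Lib.helper70.natCard_subtype_eq_card_filter]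
            congr 1
            ext x
            simp only [Finset.mem_filter, Finset.mem_univ, true_and]
            constructor
            · exact fun h => h.2
            · intro h
              refine ⟨?_, h⟩
              rw [pow_mul, h]
              exact (hYmem y).mp hy
          rw [hsum]
          apply Lib.helper70.dvd_sum_of_fibers Y (ConjClasses.mk (α := G))
          · intro y _ y' _ hc
            rw [ConjClasses.mk_eq_mk_iff_isConj] at hc
            exact card_root_conj y y' A hc.symm
          · intro y hy
            have hfib : Y.filter (fun y' => ConjClasses.mk y' = ConjClasses.mk y) =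
                Finset.univ.filter (fun y' : G => IsConj y y') := by
              ext y'
              simp only [Finset.mem_filter, Finset.mem_univ, true_and,
                ConjClasses.mk_eq_mk_iff_isConj]
              constructor
              · exact fun h => h.2.symm
              · intro h
                refine ⟨?_, h.symm⟩
                obtain ⟨g, hg⟩ := isConj_iff.mp h
                rw [hYmem, ← hg, conj_pow, (hYmem y).mp hy, hcen g]
                group
            rw [hfib, ← Lib.helper70.natCard_subtype_eq_card_filter, ← card_conj_pow]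
            exact (Nat.gcd_dvd_gcd_of_dvd_left _ (Dvd.intro_left _ rfl)).trans (IHn A hA y)
        rcases Nat.eq_zero_or_pos n with hn0 | hnpos
        · -- n = 0
          subst hn0
          rw [Nat.gcd_zero_left]
          by_cases hc1 : c = 1
          · subst hc1
            have h1 : Nat.card {x : G // x ^ 0 = 1} = Nat.card G :=
              Nat.card_congr (Equiv.subtypeUnivEquiv (fun x => pow_zero x))
            rw [h1]
          · have h1 : IsEmpty {x : G // x ^ 0 = c} :=
              ⟨fun x => hc1 (by rw [← x.2, pow_zero])⟩
            have h2 : Nat.card {x : G // x ^ 0 = c} = 0 := Nat.card_of_isEmpty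
            rw [h2]
            exact dvd_zero _
        · by_cases hn1 : n = 1
          · subst hn1
            rw [Nat.gcd_one_left]
            exact one_dvd _
          · obtain ⟨p, hp, hpn⟩ := Nat.exists_prime_and_dvd hn1
            obtain ⟨e, n', hpn', hnn'⟩ :=
              Nat.exists_eq_pow_mul_and_not_dvd hnpos.ne' p hp.ne_one
            have he0 : e ≠ 0 := by
              rintro rfl
              rw [pow_zero, one_mul] at hnn'
              rw [hnn'] at hpn
              exact hpn' hpn
            have hn'0 : n' ≠ 0 := by
              rintro rfl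
              rw [mul_zero] at hnn'
              omega
            by_cases hn'1 : n' = 1
            · -- prime power
              rw [hn'1, mul_one] at hnn'
              by_cases hpc : p ∣ orderOf c
              · rw [hnn']
                exact (Nat.gcd_dvd_left _ _).trans (pow_dvd_card_root c p e hp hpc)
              · have hcop : Nat.Coprime n (orderOf c) := by
                  rw [hnn']
                  exact Nat.Coprime.pow_left e ((Nat.Prime.coprime_iff_not_dvd hp).mpr hpc)
                rw [card_root_central_coprime c hcen n hcop]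
                exact Lib.helper70.frobenius_gcd_dvd n
            · -- coprime splitting
              have hA2 : 2 ≤ p ^ e := by
                calc 2 ≤ p := hp.two_le
                  _ = p ^ 1 := (pow_one p).symm
                  _ ≤ p ^ e := Nat.pow_le_pow_right hp.pos (by omega)
              have hB2 : 2 ≤ n' := by omega
              have hcop : Nat.Coprime (p ^ e) n' :=
                Nat.Coprime.pow_left e ((Nat.Prime.coprime_iff_not_dvd hp).mpr hpn')
              have hAn : p ^ e < n := by
                rw [hnn']
                nlinarith [Nat.pos_of_ne_zero hn'0]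
              have hBn : n' < n := by
                rw [hnn']
                nlinarith [Nat.pos_of_ne_zero hn'0]
              have h1 := key (p ^ e) n' hAn
              have h2 := key n' (p ^ e) hBn
              rw [mul_comm n' (p ^ e)] at h2
              rw [← hnn'] at h1 h2
              have h3 : Nat.Coprime (Nat.gcd (p ^ e) (Nat.card G)) (Nat.gcd n' (Nat.card G)) :=
                Nat.Coprime.coprime_dvd_left (Nat.gcd_dvd_left _ _)
                  (Nat.Coprime.coprime_dvd_right (Nat.gcd_dvd_left _ _) hcop)
              have h4 := Nat.Coprime.mul_dvd_of_dvd_of_dvd h3 h1 h2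
              have h5 : Nat.gcd n (Nat.card G) =
                  Nat.gcd (p ^ e) (Nat.card G) * Nat.gcd n' (Nat.card G) := by
                rw [hnn', Nat.gcd_comm, Nat.Coprime.gcd_mul _ hcop, Nat.gcd_comm,
                  Nat.gcd_comm (Nat.card G) n']
              rw [h5]
              exact h4
      · -- non-central case
        rw [card_conj_pow]
        have hcC : c ∈ Subgroup.centralizer ({c} : Set G) := by
          rw [Subgroup.mem_centralizer_iff]
          intro h hh
          rw [Set.mem_singleton_iff] at hh
          rw [hh]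
        have hlt : Nat.card (Subgroup.centralizer ({c} : Set G)) < N := by
          rw [← hN]
          by_contra hge
          push Not at hge
          have htop := Subgroup.eq_top_of_le_card _ hge
          apply hcen
          intro g
          have hg : g ∈ Subgroup.centralizer ({c} : Set G) := by
            rw [htop]
            exact Subgroup.mem_top g
          rw [Subgroup.mem_centralizer_iff] at hg
          exact (hg c rfl).symm
        have h1 := IH _ hlt (Subgroup.centralizer ({c} : Set G)) rfl n ⟨c, hcC⟩
        have hcen' : ∀ g : Subgroup.centralizer ({c} : Set G),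
            g * ⟨c, hcC⟩ = ⟨c, hcC⟩ * g := by
          intro g
          apply Subtype.ext
          have hg := g.2
          rw [Subgroup.mem_centralizer_iff] at hg
          exact (hg c rfl).symm
        rw [card_conj_pow, card_class_central _ hcen', one_mul, one_mul,
          card_root_centralizer c n hcC] at h1
        rw [← card_class_mul_centralizer c, Nat.gcd_mul_left]
        exact mul_dvd_mul_left _ h1

/-- Let `G` be a finite group of order `g`, `c` an element whose conjugacy class has `h` elements, and `n` a natural number. Then the number of elements `x` of `G` with `x^n` conjugate to `c` is a multiple of `gcd(hn, g)`. -/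
theorem result {G : Type*} [Group G] [Finite G] (c : G) (n : ℕ) : Nat.gcd (Nat.card {y : G // IsConj c y} * n) (Nat.card G) ∣ Nat.card {x : G // IsConj c (x ^ n)} := by
  exact main _ G rfl n c

end Cfsg.Agent.S4212
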