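import Cfsg.Statements.S4213
import Cfsg.Agent.S4208
import Cfsg.Agent.Lib.helper70.Frob
import Cfsg.Agent.Lib.helper12.MinNormal

set_option autoImplicit false
open Cfsg

namespace Cfsg.Agent.S4213

open Cfsg.Agent.Lib.helper70 Cfsg.Agent.Lib.helper12

/-- Counting a union of cosets of a normal subgroup. -/
theorem card_preimage {G : Type*} [Group G] (M : Subgroup G) [M.Normal]
    (P : G ⧸ M → Prop) :
    Nat.card {x : G // P (x : G ⧸ M)} = Nat.card {y : G ⧸ M // P y} * Nat.card M := by
  have e1 : {x : G // P (x : G ⧸ M)} ≃ {w : (G ⧸ M) × M // P w.1} :=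
    Equiv.subtypeEquiv (Cfsg.Agent.S4208.splitEquiv M) (fun x => Iff.rfl)
  rw [Nat.card_congr (e1.trans Equiv.prodSubtypeFstEquivSubtypeProd), Nat.card_prod]

/-- A subgroup of exponent dividing `n` that has as many elements as there are solutions of
`x ^ n = 1` is the set of solutions. -/
theorem coe_eq_of_subset_of_card {G : Type*} [Group G] [Finite G] (H : Subgroup G) (n : ℕ)
    (hsub : ∀ x ∈ H, x ^ n = 1) (hcard : Nat.card {x : G // x ^ n = 1} ≤ Nat.card H) :
    (H : Set G) = {x : G | x ^ n = 1} := by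
  have h1 : Nat.card {x : G // x ^ n = 1} = ({x : G | x ^ n = 1} : Set G).ncard :=
    Nat.card_coe_set_eq {x : G | x ^ n = 1}
  have h2 : Nat.card H = (H : Set G).ncard := Nat.card_coe_set_eq (H : Set G)
  exact Set.eq_of_subset_of_ncard_le (fun x hx => hsub x hx)
    (le_of_eq_of_le h1.symm (le_of_le_of_eq hcard h2)) (Set.toFinite _)

/-- Monotonicity of the number of solutions. -/
theorem card_le_of_imp {α : Type*} [Finite α] (P Q : α → Prop) (h : ∀ a, P a → Q a) :
    Nat.card {a // P a} ≤ Nat.card {a // Q a} :=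
  Nat.card_le_card_of_injective (fun x => (⟨x.1, h x.1 x.2⟩ : {a // Q a}))
    (fun _ _ hxy => Subtype.ext (congrArg (fun w : {a // Q a} => w.1) hxy))

theorem aux.{u} : ∀ (N : ℕ) (G : Type u) [Group G] [Finite G] [Group.IsSolvable G],
    Nat.card G = N → ∀ n : ℕ, n ∣ Nat.card G → Nat.card {x : G // x ^ n = 1} = n →
    ∃ H : Subgroup G, H.Normal ∧ (H : Set G) = {x : G | x ^ n = 1} := by
  intro N
  induction N using Nat.strong_induction_on with
  | _ N IH =>
  intro G _ _ _ hN n hn hcount
  by_cases hn1 : n = 1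
  · subst hn1
    refine ⟨⊥, inferInstance, ?_⟩
    ext x
    simp
  have hGpos : 0 < Nat.card G := Nat.card_pos
  have hnpos : 0 < n := Nat.pos_of_ne_zero (by
    rintro rfl
    rw [zero_dvd_iff] at hn
    omega)
  have hn2 : 1 < n := by omega
  have hnt : Nontrivial G := by
    by_contra h
    rw [not_nontrivial_iff_subsingleton] at h
    have h1 : Nat.card G = 1 := Nat.card_eq_one_iff_unique.mpr ⟨h, ⟨1⟩⟩
    rw [h1] at hn
    exact hn1 (Nat.dvd_one.mp hn)
  obtain ⟨M, hMne, hMn, hMmin⟩ := exists_minimal_normal (G := G)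
  obtain ⟨p, hp, hMp⟩ := minimal_normal_exponent M hMne hMmin
  have : Fact p.Prime := ⟨hp⟩
  have hMpg : IsPGroup p M := by
    intro g
    refine ⟨1, ?_⟩
    rw [pow_one]
    exact Subtype.ext (by simpa using hMp g g.2)
  obtain ⟨i, hi⟩ := IsPGroup.iff_card.mp hMpg
  have hi1 : 1 ≤ i := by
    by_contra h
    have h0 : i = 0 := by omega
    rw [h0, pow_zero] at hi
    exact hMne (Subgroup.card_eq_one.mp hi)
  have hpi : 0 < p ^ i := pow_pos hp.pos i
  have hpi_eq : p ^ i = p * p ^ (i - 1) := by
    rw [← pow_succ']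
    congr 1
    omega
  have hQcard : Nat.card (G ⧸ M) * p ^ i = N := by
    rw [← hi, ← hN, ← Subgroup.index_eq_card, mul_comm]
    exact Subgroup.card_mul_index M
  have hQpos : 0 < Nat.card (G ⧸ M) := Nat.card_pos
  have hQlt : Nat.card (G ⧸ M) < N := by
    rw [← hQcard]
    have h2 : 2 ≤ p ^ i := by
      rw [hpi_eq]
      have := hp.two_le
      have h3 : 0 < p ^ (i - 1) := pow_pos hp.pos _
      nlinarith
    nlinarith
  have hIH := IH (Nat.card (G ⧸ M)) hQlt (G ⧸ M) rfl
  have hlift : ∀ (k : ℕ) (x : G), ((x : G ⧸ M)) ^ k = 1 → x ^ (k * p) = 1 := by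
    intro k x hx
    rw [← QuotientGroup.mk_pow, QuotientGroup.eq_one_iff] at hx
    rw [pow_mul]
    exact hMp _ hx
  have hfrob : ∀ k : ℕ, Nat.gcd k (Nat.card (G ⧸ M)) ∣ Nat.card {y : G ⧸ M // y ^ k = 1} :=
    fun k => frobenius_gcd_dvd k
  have hpos : ∀ k : ℕ, 0 < Nat.card {y : G ⧸ M // y ^ k = 1} := fun k => by
    have : Nonempty {y : G ⧸ M // y ^ k = 1} := ⟨⟨1, one_pow k⟩⟩
    exact Nat.card_pos
  by_cases hpn : p ∣ n
  · -- `p ∣ n`: first `p ^ i ∣ n`
    have hA1 : p ^ i ∣ n := by
      obtain ⟨a, m, hm, hnam⟩ := Nat.exists_eq_pow_mul_and_not_dvd hnpos.ne' p hp.ne_one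
      have ha1 : 1 ≤ a := by
        by_contra h
        have h0 : a = 0 := by omega
        rw [h0, pow_zero, one_mul] at hnam
        exact hm (hnam ▸ hpn)
      have hle : Nat.card {y : G ⧸ M // y ^ (n / p) = 1} * p ^ i ≤ n := by
        have h1 : Nat.card {x : G // (x : G ⧸ M) ^ (n / p) = 1} ≤
            Nat.card {x : G // x ^ n = 1} :=
          card_le_of_imp _ _ (fun x hx => by
            have := hlift (n / p) x hx
            rwa [Nat.div_mul_cancel hpn] at this)
        rw [hcount, card_preimage M (fun y => y ^ (n / p) = 1), hi] at h1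
        exact h1
      have hm1 : m ∣ n / p := by
        have h1 : n / p = p ^ (a - 1) * m := by
          rw [hnam]
          have h2 : p ^ a = p * p ^ (a - 1) := by
            rw [← pow_succ']
            congr 1
            omega
          rw [h2, mul_assoc, Nat.mul_div_cancel_left _ hp.pos]
        rw [h1]
        exact Dvd.intro_left _ rfl
      have hmcop : Nat.Coprime m (p ^ i) :=
        Nat.Coprime.pow_right i ((Nat.Prime.coprime_iff_not_dvd hp).mpr hm).symm
      have hm2 : m ∣ Nat.card (G ⧸ M) := by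
        have hmN : m ∣ Nat.card (G ⧸ M) * p ^ i := by
          rw [hQcard, ← hN]
          exact dvd_trans (hnam ▸ Dvd.intro_left _ rfl) hn
        exact hmcop.dvd_of_dvd_mul_right hmN
      have hmd : m ≤ Nat.card {y : G ⧸ M // y ^ (n / p) = 1} :=
        Nat.le_of_dvd (hpos _) (dvd_trans (Nat.dvd_gcd hm1 hm2) (hfrob _))
      have hmpos : 0 < m := Nat.pos_of_ne_zero (by
        rintro rfl
        rw [mul_zero] at hnam
        omega)
      have h3 : m * p ^ i ≤ m * p ^ a := by
        calc m * p ^ i ≤ Nat.card {y : G ⧸ M // y ^ (n / p) = 1} * p ^ i :=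
              Nat.mul_le_mul_right _ hmd
          _ ≤ n := hle
          _ = m * p ^ a := by rw [hnam, mul_comm]
      have hia : p ^ i ≤ p ^ a := Nat.le_of_mul_le_mul_left h3 hmpos
      have hia' : i ≤ a := (Nat.pow_le_pow_iff_right hp.one_lt).mp hia
      rw [hnam]
      exact dvd_mul_of_dvd_left (pow_dvd_pow p hia') m
    obtain ⟨n', hn'⟩ := hA1
    have hle2 : Nat.card {y : G ⧸ M // y ^ n' = 1} * p ^ i ≤ n := by
      have h1 : Nat.card {x : G // (x : G ⧸ M) ^ n' = 1} ≤ Nat.card {x : G // x ^ n = 1} :=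
        card_le_of_imp _ _ (fun x hx => by
          have h1 := hlift n' x hx
          have h2 : n = (n' * p) * p ^ (i - 1) := by
            rw [hn', hpi_eq]
            ring
          rw [h2, pow_mul, h1, one_pow])
      rw [hcount, card_preimage M (fun y => y ^ n' = 1), hi] at h1
      exact h1
    have hn'Q : n' ∣ Nat.card (G ⧸ M) := by
      have h1 : p ^ i * n' ∣ p ^ i * Nat.card (G ⧸ M) := by
        rw [← hn', mul_comm (p ^ i), hQcard, ← hN]
        exact hn
      exact (Nat.mul_dvd_mul_iff_left hpi).mp h1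
    have hfr := hfrob n'
    rw [Nat.gcd_eq_left hn'Q] at hfr
    have hcountQ : Nat.card {y : G ⧸ M // y ^ n' = 1} = n' := by
      apply le_antisymm
      · rw [hn', mul_comm (p ^ i) n'] at hle2
        exact Nat.le_of_mul_le_mul_right hle2 hpi
      · exact Nat.le_of_dvd (hpos _) hfr
    obtain ⟨H', hH'n, hH'⟩ := hIH n' hn'Q hcountQ
    have hmem : ∀ x : G, x ∈ H'.comap (QuotientGroup.mk' M) ↔ (x : G ⧸ M) ^ n' = 1 := by
      intro x
      rw [Subgroup.mem_comap]
      exact Set.ext_iff.mp hH' (QuotientGroup.mk x)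
    refine ⟨H'.comap (QuotientGroup.mk' M), hH'n.comap _, ?_⟩
    apply coe_eq_of_subset_of_card
    · intro x hx
      have h1 := hlift n' x ((hmem x).mp hx)
      have h2 : n = (n' * p) * p ^ (i - 1) := by
        rw [hn', hpi_eq]
        ring
      rw [h2, pow_mul, h1, one_pow]
    · have hc : Nat.card (H'.comap (QuotientGroup.mk' M)) =
          Nat.card {y : G ⧸ M // y ^ n' = 1} * Nat.card M := by
        rw [← card_preimage M (fun y => y ^ n' = 1)]
        exact Nat.card_congr (Equiv.subtypeEquivRight hmem)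
      rw [hc, hcountQ, hi, hcount, hn', mul_comm]
  · -- `p ∤ n`
    have hcop : Nat.Coprime n p := ((Nat.Prime.coprime_iff_not_dvd hp).mpr hpn).symm
    have hnQ : n ∣ Nat.card (G ⧸ M) := by
      have h1 : n ∣ Nat.card (G ⧸ M) * p ^ i := by
        rw [hQcard, ← hN]
        exact hn
      exact (Nat.Coprime.pow_right i hcop).dvd_of_dvd_mul_right h1
    obtain ⟨e', -, he'⟩ := Nat.exists_mul_mod_eq_one_of_coprime hcop.symm hn2
    have hliftB : ∀ y : G ⧸ M, y ^ n = 1 → ∃ z : G, (z : G ⧸ M) = y ∧ z ^ n = 1 := by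
      intro y hy
      obtain ⟨x, rfl⟩ := QuotientGroup.mk_surjective y
      refine ⟨x ^ (p * e'), ?_, ?_⟩
      · rw [QuotientGroup.mk_pow, pow_eq_pow_mod (p * e') hy, he', pow_one]
      · have h1 := hlift n x hy
        calc (x ^ (p * e')) ^ n = (x ^ (n * p)) ^ e' := by
              rw [← pow_mul, ← pow_mul]
              congr 1
              ring
          _ = 1 := by rw [h1, one_pow]
    choose! zf hzf1 hzf2 using hliftB
    have hleB : Nat.card {y : G ⧸ M // y ^ n = 1} ≤ n := by
      have h0 : Nat.card {y : G ⧸ M // y ^ n = 1} ≤ Nat.card {x : G // x ^ n = 1} := by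
        apply Nat.card_le_card_of_injective
          (fun y : {y : G ⧸ M // y ^ n = 1} =>
            (⟨zf y.1, hzf2 y.1 y.2⟩ : {x : G // x ^ n = 1}))
        intro y y' h
        have h1 : zf y.1 = zf y'.1 := congrArg (fun w : {x : G // x ^ n = 1} => w.1) h
        apply Subtype.ext
        rw [← hzf1 y.1 y.2, ← hzf1 y'.1 y'.2, h1]
      rw [hcount] at h0
      exact h0
    have hfr := hfrob n
    rw [Nat.gcd_eq_left hnQ] at hfr
    have hcountQ : Nat.card {y : G ⧸ M // y ^ n = 1} = n :=
      le_antisymm hleB (Nat.le_of_dvd (hpos _) hfr)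
    obtain ⟨H', hH'n, hH'⟩ := hIH n hnQ hcountQ
    have hmem : ∀ x : G, x ∈ H'.comap (QuotientGroup.mk' M) ↔ (x : G ⧸ M) ^ n = 1 := by
      intro x
      rw [Subgroup.mem_comap]
      exact Set.ext_iff.mp hH' (QuotientGroup.mk x)
    obtain ⟨H1, hH1⟩ : ∃ H1 : Subgroup G, H1 = H'.comap (QuotientGroup.mk' M) := ⟨_, rfl⟩
    rw [← hH1] at hmem
    have hMH1 : M ≤ H1 := by
      intro x hx
      rw [hmem, (QuotientGroup.eq_one_iff x).mpr hx, one_pow]
    have hH1card : Nat.card H1 = n * p ^ i := by
      have hc : Nat.card H1 = Nat.card {y : G ⧸ M // y ^ n = 1} * Nat.card M := by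
        rw [← card_preimage M (fun y => y ^ n = 1)]
        exact Nat.card_congr (Equiv.subtypeEquivRight hmem)
      rw [hc, hcountQ, hi]
    have hMsub_card : Nat.card (M.subgroupOf H1) = p ^ i := by
      rw [← hi]
      exact Nat.card_congr (Subgroup.subgroupOfEquivOfLe hMH1).toEquiv
    have hMsub_idx : (M.subgroupOf H1).index = n := by
      have h1 := Subgroup.card_mul_index (M.subgroupOf H1)
      rw [hMsub_card, hH1card, mul_comm n] at h1
      exact Nat.eq_of_mul_eq_mul_left hpi h1
    obtain ⟨C', hC'⟩ := Subgroup.exists_right_complement'_of_coprime (N := M.subgroupOf H1) (by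
      rw [hMsub_card, hMsub_idx]
      exact Nat.Coprime.pow_left i hcop.symm)
    have hC'card : Nat.card C' = n := by
      have h1 := hC'.card_mul_card
      rw [hMsub_card, hH1card, mul_comm n] at h1
      exact Nat.eq_of_mul_eq_mul_left hpi h1
    have hCcard : Nat.card (C'.map H1.subtype) = n := by
      rw [← hC'card]
      exact Nat.card_congr
        (C'.equivMapOfInjective H1.subtype (Subgroup.subtype_injective H1)).symm.toEquiv
    have hCset : ((C'.map H1.subtype : Subgroup G) : Set G) = {x : G | x ^ n = 1} := by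
      apply coe_eq_of_subset_of_card
      · intro x hx
        have h1 : (⟨x, hx⟩ : (C'.map H1.subtype : Subgroup G)) ^
            Nat.card (C'.map H1.subtype : Subgroup G) = 1 := pow_card_eq_one'
        rw [hCcard] at h1
        have h2 := congrArg Subtype.val h1
        simpa using h2
      · rw [hCcard, hcount]
    refine ⟨C'.map H1.subtype, ⟨?_⟩, hCset⟩
    intro x hx g
    have hx' : x ∈ ((C'.map H1.subtype : Subgroup G) : Set G) := hx
    rw [hCset] at hx'
    have hx'' : x ^ n = 1 := hx'
    have h1 : g * x * g⁻¹ ∈ ((C'.map H1.subtype : Subgroup G) : Set G) := by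
      rw [hCset]
      show (g * x * g⁻¹) ^ n = 1
      rw [conj_pow, hx'', mul_one, mul_inv_cancel]
    exact h1

/-- If `G` is a finite solvable group and `n` divides the order of `G` and exactly `n` elements `x` of `G` satisfy `x^n = 1`, then these elements form a normal subgroup. -/
theorem result {G : Type*} [Group G] [Finite G] [Group.IsSolvable G] (n : ℕ) (hn : n ∣ Nat.card G) (hcount : Nat.card {x : G // x ^ n = 1} = n) : ∃ H : Subgroup G, H.Normal ∧ (H : Set G) = {x : G | x ^ n = 1} :=
  aux (Nat.card G) G rfl n hn hcount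

end Cfsg.Agent.S4213
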