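import Cfsg.Statements.S4214
import Cfsg.Agent.Lib.helper1.Hall
import Cfsg.Agent.Lib.helper12.MinNormal
import Cfsg.Agent.Lib.helper76.Hall

set_option autoImplicit false
open Cfsg

namespace Cfsg.Agent.S4214

open Pointwise
open scoped commutatorElement
open Cfsg.Agent.Lib.helper1

/-- If all fibres of `f : α → β` have exactly `k` elements then `|α| = |β| * k`. -/
theorem card_eq_mul_of_fiber_eq {α β : Type*} [Finite α] [Finite β] (f : α → β) (k : ℕ)
    (h : ∀ b, Nat.card {a // f a = b} = k) : Nat.card α = Nat.card β * k := by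
  classical
  have := Fintype.ofFinite β
  rw [← Nat.card_congr (Equiv.sigmaFiberEquiv f), Nat.card_sigma]
  rw [Finset.sum_congr rfl (fun b _ => h b)]
  simp [Nat.card_eq_fintype_card]

/-- If the subgroups of order `m` are all conjugate to `H`, their number is `|G : N_G(H)|`. -/
theorem card_eq_index_normalizer {G : Type*} [Group G] [Finite G] (m : ℕ) (H : Subgroup G)
    (hH : Nat.card H = m)
    (hconj : ∀ K : Subgroup G, Nat.card K = m → ∃ g : G, MulAut.conj g • H = K) :
    Nat.card {K : Subgroup G // Nat.card K = m} = (Subgroup.normalizer (H : Set G)).index := by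
  have h1 : Nat.card G = Nat.card {K : Subgroup G // Nat.card K = m} *
      Nat.card (Subgroup.normalizer (H : Set G)) := by
    apply card_eq_mul_of_fiber_eq (fun g : G =>
      (⟨MulAut.conj g • H, by rw [card_conj_smul, hH]⟩ : {K : Subgroup G // Nat.card K = m}))
    intro K
    obtain ⟨g0, hg0⟩ := hconj K.1 K.2
    apply Nat.card_congr
    refine ⟨fun g => ⟨g0⁻¹ * g.1, ?_⟩, fun n => ⟨g0 * n.1, ?_⟩,
      fun g => Subtype.ext (by simp), fun n => Subtype.ext (by simp)⟩
    · apply mem_normalizer_of_conj_smul_eq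
      have h2 : MulAut.conj g.1 • H = K.1 := congrArg Subtype.val g.2
      rw [← conj_smul_conj_smul, h2, ← hg0, conj_smul_conj_smul, inv_mul_cancel, map_one,
        one_smul]
    · apply Subtype.ext
      show MulAut.conj (g0 * n.1) • H = K.1
      rw [← conj_smul_conj_smul, conj_smul_eq_of_mem_normalizer n.2, hg0]
  have h2 := (Subgroup.normalizer (H : Set G)).index_mul_card
  rw [h1] at h2
  exact (Nat.eq_of_mul_eq_mul_right Nat.card_pos h2).symm

/-- If `M` is a normal subgroup contained in every subgroup of order `m = m' |M|`, the subgroups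
of order `m` correspond to the subgroups of order `m'` of `G ⧸ M`. -/
theorem card_subgroups_quotient {G : Type*} [Group G] [Finite G] (M : Subgroup G) [M.Normal]
    (m m' : ℕ) (hm : m = m' * Nat.card M) (hle : ∀ H : Subgroup G, Nat.card H = m → M ≤ H) :
    Nat.card {H : Subgroup G // Nat.card H = m} =
      Nat.card {H : Subgroup (G ⧸ M) // Nat.card H = m'} := by
  apply Nat.card_congr
  refine ⟨fun H => ⟨H.1.map (QuotientGroup.mk' M), ?_⟩,
    fun H => ⟨H.1.comap (QuotientGroup.mk' M), ?_⟩, ?_, ?_⟩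
  · have h1 := card_comap_mk' M (H.1.map (QuotientGroup.mk' M))
    rw [Subgroup.comap_map_eq, QuotientGroup.ker_mk', sup_eq_left.mpr (hle H.1 H.2), H.2] at h1
    exact (Nat.eq_of_mul_eq_mul_right Nat.card_pos (hm.symm.trans h1)).symm
  · rw [card_comap_mk', H.2, hm]
  · intro H
    apply Subtype.ext
    show (H.1.map (QuotientGroup.mk' M)).comap (QuotientGroup.mk' M) = H.1
    rw [Subgroup.comap_map_eq, QuotientGroup.ker_mk', sup_eq_left.mpr (hle H.1 H.2)]
  · intro H
    apply Subtype.ext
    exact Subgroup.map_comap_eq_self_of_surjective (QuotientGroup.mk'_surjective M) H.1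

/-- The property required of each factor. -/
def Good (G : Type*) [Group G] (m f : ℕ) : Prop :=
  (∃ q e : ℕ, q.Prime ∧ f = q ^ e) ∧
  (∃ K L : Subgroup G, K.Normal ∧ L.Normal ∧ K < L ∧
    (∀ M : Subgroup G, M.Normal → K ≤ M → M ≤ L → M = K ∨ M = L) ∧ f ∣ K.relIndex L) ∧
  (∃ q : ℕ, q.Prime ∧ q ∣ m ∧ f ≡ 1 [MOD q])

theorem good_of_quotient {G : Type*} [Group G] (M : Subgroup G) [M.Normal] (m' m f : ℕ)
    (hm : m' ∣ m) (h : Good (G ⧸ M) m' f) : Good G m f := by
  obtain ⟨h1, ⟨K, L, hK, hL, hKL, hmin, hdvd⟩, ⟨q, hq, hqm, hmod⟩⟩ := h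
  have hsurj := QuotientGroup.mk'_surjective M
  refine ⟨h1, ⟨K.comap (QuotientGroup.mk' M), L.comap (QuotientGroup.mk' M), hK.comap _,
    hL.comap _, (Subgroup.comap_lt_comap_of_surjective hsurj).mpr hKL, ?_, ?_⟩,
    ⟨q, hq, hqm.trans hm, hmod⟩⟩
  · intro X hX hKX hXL
    have hker : (QuotientGroup.mk' M).ker ≤ X := le_trans (Subgroup.ker_le_comap _ _) hKX
    have hX' : (X.map (QuotientGroup.mk' M)).comap (QuotientGroup.mk' M) = X := by
      rw [Subgroup.comap_map_eq, sup_eq_left.mpr hker]
    have hXn : (X.map (QuotientGroup.mk' M)).Normal := hX.map _ hsurj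
    have h2 : K ≤ X.map (QuotientGroup.mk' M) := by
      rw [← Subgroup.map_comap_eq_self_of_surjective hsurj K]
      exact Subgroup.map_mono hKX
    have h3 : X.map (QuotientGroup.mk' M) ≤ L := by
      rw [← Subgroup.map_comap_eq_self_of_surjective hsurj L]
      exact Subgroup.map_mono hXL
    rcases hmin _ hXn h2 h3 with h4 | h4
    · left
      rw [← hX', h4]
    · right
      rw [← hX', h4]
  · rw [Subgroup.relIndex_comap, Subgroup.map_comap_eq_self_of_surjective hsurj]
    exact hdvd

/-- A nontrivial solvable subgroup `H` is generated by a proper subgroup `H'`, normalised by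
`H`, and an element `x` with `x ^ p ∈ H'` for a prime `p` dividing `|H|`. -/
theorem exists_step {G : Type*} [Group G] [Finite G] [Group.IsSolvable G] (H : Subgroup G)
    (hH : H ≠ ⊥) :
    ∃ (H' : Subgroup G) (x : G) (p : ℕ), p.Prime ∧ H' < H ∧ x ∈ H ∧
      (∀ h ∈ H', x⁻¹ * h * x ∈ H') ∧ H' ⊔ Subgroup.zpowers x = H ∧ x ^ p ∈ H' ∧
      p ∣ Nat.card H := by
  classical
  have hlt : ⁅H, H⁆ < H := Group.IsSolvable.commutator_lt_of_ne_bot hH
  have hSfin : ({K : Subgroup G | ⁅H, H⁆ ≤ K ∧ K < H}).Finite := Set.toFinite _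
  obtain ⟨H', hmax⟩ := hSfin.exists_maximal ⟨⁅H, H⁆, le_refl _, hlt⟩
  have hcH' : ⁅H, H⁆ ≤ H' := hmax.prop.1
  have hH'H : H' < H := hmax.prop.2
  have hnorm : ∀ g ∈ H, ∀ h ∈ H', g * h * g⁻¹ ∈ H' := by
    intro g hg h hh
    have h1 : ⁅g, h⁆ ∈ ⁅H, H⁆ := Subgroup.commutator_mem_commutator hg (hH'H.le hh)
    have h2 : g * h * g⁻¹ = ⁅g, h⁆ * h := by
      rw [commutatorElement_def]
      group
    rw [h2]
    exact H'.mul_mem (hcH' h1) hh
  have hex : ∃ n, ∃ x ∈ H, x ∉ H' ∧ orderOf x = n := by
    obtain ⟨x, hx, hx'⟩ := SetLike.exists_of_lt hH'H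
    exact ⟨_, x, hx, hx', rfl⟩
  obtain ⟨x, hxH, hxH', hxo⟩ := Nat.find_spec hex
  have hmin : ∀ y ∈ H, y ∉ H' → orderOf x ≤ orderOf y := by
    intro y hy hy'
    rw [hxo]
    exact Nat.find_min' hex ⟨y, hy, hy', rfl⟩
  have hx1 : orderOf x ≠ 1 := by
    intro h
    rw [orderOf_eq_one_iff] at h
    exact hxH' (h ▸ H'.one_mem)
  obtain ⟨p, hp, hpx⟩ := Nat.exists_prime_and_dvd hx1
  refine ⟨H', x, p, hp, hH'H, hxH, ?_, ?_, ?_, ?_⟩
  · intro h hh
    have h1 := hnorm x⁻¹ (H.inv_mem hxH) h hh
    rwa [inv_inv] at h1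
  · by_contra hne
    have hle : H' ⊔ Subgroup.zpowers x ≤ H := sup_le hH'H.le (Subgroup.zpowers_le.mpr hxH)
    have h1 : H' ⊔ Subgroup.zpowers x ≤ H' :=
      hmax.le_of_ge ⟨le_trans hcH' le_sup_left, lt_of_le_of_ne hle hne⟩ le_sup_left
    exact hxH' (h1 (Subgroup.mem_sup_right (Subgroup.mem_zpowers x)))
  · by_contra hnot
    have h1 := hmin (x ^ p) (H.pow_mem hxH p) hnot
    have h2 : orderOf (x ^ p) = orderOf x / p := orderOf_pow_of_dvd hp.ne_zero hpx
    have h3 : orderOf x / p < orderOf x := Nat.div_lt_self (orderOf_pos x) hp.one_lt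
    omega
  · exact hpx.trans (H.orderOf_dvd_natCard hxH)

/-- Fixed points of an element acting with `p`-th power trivial. -/
theorem step_modEq {G : Type*} [Group G] [Finite G] (M : Subgroup G) [hMn : M.Normal]
    (H' : Subgroup G) (x : G) (p : ℕ) [Fact p.Prime] (hnorm : ∀ h ∈ H', x⁻¹ * h * x ∈ H')
    (hxp : x ^ p ∈ H') :
    Nat.card ↥(M ⊓ Subgroup.centralizer (H' : Set G)) ≡
      Nat.card ↥(M ⊓ Subgroup.centralizer ((H' ⊔ Subgroup.zpowers x : Subgroup G) : Set G))
        [MOD p] := by
  classical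
  obtain ⟨V, hV⟩ : ∃ V : Subgroup G, V = M ⊓ Subgroup.centralizer (H' : Set G) := ⟨_, rfl⟩
  rw [← hV]
  have hVmem : ∀ v, v ∈ V ↔ v ∈ M ∧ ∀ h ∈ H', h * v = v * h := by
    intro v
    rw [hV, Subgroup.mem_inf, Subgroup.mem_centralizer_iff]
    rfl
  have hconj : ∀ v ∈ V, x * v * x⁻¹ ∈ V := by
    intro v hv
    rw [hVmem] at hv ⊢
    refine ⟨hMn.conj_mem v hv.1 x, ?_⟩
    intro h hh
    have h1 := hv.2 (x⁻¹ * h * x) (hnorm h hh)
    calc h * (x * v * x⁻¹) = x * (x⁻¹ * h * x * v) * x⁻¹ := by group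
      _ = x * (v * (x⁻¹ * h * x)) * x⁻¹ := by rw [h1]
      _ = x * v * x⁻¹ * h := by group
  obtain ⟨σ, hσ⟩ : ∃ σ : Function.End V, ∀ v : V, ((σ v : V) : G) = x * v.1 * x⁻¹ :=
    ⟨fun v => ⟨x * v.1 * x⁻¹, hconj v.1 v.2⟩, fun v => rfl⟩
  have hσpow : ∀ (k : ℕ) (v : V), (((σ ^ k) v : V) : G) = x ^ k * v.1 * (x ^ k)⁻¹ := by
    intro k
    induction k with
    | zero =>
      intro v
      rw [pow_zero, pow_zero, one_mul, inv_one, mul_one]
      rfl
    | succ k ih =>
      intro v
      have h1 : (σ ^ (k + 1)) v = (σ ^ k) (σ v) := by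
        rw [pow_succ]
        rfl
      rw [h1, ih (σ v), hσ v, pow_succ]
      group
  have hσp : σ ^ p ^ 1 = 1 := by
    funext v
    apply Subtype.ext
    rw [pow_one, hσpow p v]
    have h1 := ((hVmem v.1).mp v.2).2 (x ^ p) hxp
    show x ^ p * v.1 * (x ^ p)⁻¹ = v.1
    rw [h1]
    group
  have := Fintype.ofFinite V
  have hmod := Equiv.Perm.card_fixedPoints_modEq (f := σ) (p := p) (n := 1) hσp
  simp only [← Nat.card_eq_fintype_card] at hmod
  have hfixcard : Nat.card (Function.fixedPoints σ) =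
      Nat.card ↥(M ⊓ Subgroup.centralizer ((H' ⊔ Subgroup.zpowers x : Subgroup G) : Set G)) := by
    apply Nat.card_congr
    refine ⟨fun v => ⟨v.1.1, ?_⟩, fun w => ⟨⟨w.1, ?_⟩, ?_⟩, fun v => rfl, fun w => rfl⟩
    · have hv := (hVmem v.1.1).mp v.1.2
      have hfix : σ v.1 = v.1 := v.2
      have hfix' : x * v.1.1 * x⁻¹ = v.1.1 := by
        rw [← hσ v.1, hfix]
      refine Subgroup.mem_inf.mpr ⟨hv.1, ?_⟩
      have hle : H' ⊔ Subgroup.zpowers x ≤ Subgroup.centralizer ({v.1.1} : Set G) := by
        apply sup_le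
        · intro h hh
          rw [Subgroup.mem_centralizer_iff]
          intro y hy
          rw [Set.mem_singleton_iff] at hy
          rw [hy]
          exact (hv.2 h hh).symm
        · rw [Subgroup.zpowers_le, Subgroup.mem_centralizer_iff]
          intro y hy
          rw [Set.mem_singleton_iff] at hy
          rw [hy]
          calc v.1.1 * x = (x * v.1.1 * x⁻¹) * x := by rw [hfix']
            _ = x * v.1.1 := by group
      rw [Subgroup.mem_centralizer_iff]
      intro h hh
      have h1 := Subgroup.mem_centralizer_iff.mp (hle hh) v.1.1 rfl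
      exact h1.symm
    · rw [hVmem]
      refine ⟨w.2.1, fun h hh => ?_⟩
      exact Subgroup.mem_centralizer_iff.mp w.2.2 h (Subgroup.mem_sup_left hh)
    · show σ _ = _
      apply Subtype.ext
      rw [hσ]
      show x * w.1 * x⁻¹ = w.1
      have h1 := Subgroup.mem_centralizer_iff.mp w.2.2 x
        (Subgroup.mem_sup_right (Subgroup.mem_zpowers x))
      rw [h1]
      group
  rw [← hfixcard]
  exact hmod

/-- `|M : C_M(H)|` is a product of divisors of `|M|` that are `≡ 1` modulo primes dividing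
`|H|`, when `H` is solvable of order prime to `|M|`. -/
theorem relIndex_centralizer_factor {G : Type*} [Group G] [Finite G] [Group.IsSolvable G]
    (M : Subgroup G) [M.Normal] :
    ∀ (k : ℕ) (H : Subgroup G), Nat.card H = k → (Nat.card H).Coprime (Nat.card M) →
      ∃ l : List ℕ, (M ⊓ Subgroup.centralizer (H : Set G)).relIndex M = l.prod ∧
        ∀ f ∈ l, f ∣ Nat.card M ∧ ∃ p : ℕ, p.Prime ∧ p ∣ Nat.card H ∧ f ≡ 1 [MOD p] := by
  intro k
  induction k using Nat.strong_induction_on with
  | _ k IH =>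
    intro H hk hcop
    by_cases hH : H = ⊥
    · refine ⟨[], ?_, by simp⟩
      subst hH
      have h1 : M ⊓ Subgroup.centralizer (((⊥ : Subgroup G) : Subgroup G) : Set G) = M := by
        rw [inf_eq_left]
        intro g _
        rw [Subgroup.mem_centralizer_iff]
        intro h hh
        have h2 : h = 1 := Subgroup.mem_bot.mp hh
        rw [h2, one_mul, mul_one]
      rw [h1, Subgroup.relIndex_self, List.prod_nil]
    · obtain ⟨H', x, p, hp, hH'H, hxH, hnorm, hsup, hxp, hpH⟩ := exists_step H hH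
      have hlt : Nat.card H' < k := by
        rw [← hk]
        by_contra hge
        push Not at hge
        exact hH'H.ne (Subgroup.eq_of_le_of_card_ge hH'H.le hge)
      have hcop' : (Nat.card H').Coprime (Nat.card M) :=
        Nat.Coprime.coprime_dvd_left (Subgroup.card_dvd_of_le hH'H.le) hcop
      obtain ⟨l', hl', hl'2⟩ := IH _ hlt H' rfl hcop'
      obtain ⟨A, hA⟩ : ∃ A : Subgroup G, A = M ⊓ Subgroup.centralizer (H : Set G) := ⟨_, rfl⟩
      obtain ⟨B, hB⟩ : ∃ B : Subgroup G, B = M ⊓ Subgroup.centralizer (H' : Set G) := ⟨_, rfl⟩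
      have hAB : A ≤ B := by
        rw [hA, hB]
        exact inf_le_inf_left _ (Subgroup.centralizer_le hH'H.le)
      have hBM : B ≤ M := by
        rw [hB]
        exact inf_le_left
      rw [← hA]
      rw [← hB] at hl'
      refine ⟨A.relIndex B :: l', ?_, ?_⟩
      · rw [List.prod_cons, ← hl', Subgroup.relIndex_mul_relIndex A B M hAB hBM]
      · intro f hf
        rcases List.mem_cons.mp hf with rfl | hf
        · refine ⟨(Subgroup.relIndex_dvd_card A B).trans (Subgroup.card_dvd_of_le hBM), p, hp,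
            hpH, ?_⟩
          have : Fact p.Prime := ⟨hp⟩
          have hmod := step_modEq M H' x p hnorm hxp
          rw [hsup, ← hA, ← hB] at hmod
          have hcard : A.relIndex B * Nat.card A = Nat.card B := by
            have h1 := Subgroup.relIndex_mul_relIndex ⊥ A B bot_le hAB
            rw [Subgroup.relIndex_bot_left, Subgroup.relIndex_bot_left] at h1
            rw [mul_comm]
            exact h1
          rw [← hcard] at hmod
          have hcopA : Nat.gcd p (Nat.card A) = 1 :=
            Nat.Coprime.coprime_dvd_left hpH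
              (Nat.Coprime.coprime_dvd_right (Subgroup.card_dvd_of_le (hAB.trans hBM)) hcop)
          exact Nat.ModEq.cancel_right_of_coprime hcopA (by rw [one_mul]; exact hmod)
        · obtain ⟨h1, q, hq, hqH', hmod⟩ := hl'2 f hf
          exact ⟨h1, q, hq, hqH'.trans (Subgroup.card_dvd_of_le hH'H.le), hmod⟩

/-- Frattini argument for a complement of a normal subgroup of coprime order. -/
theorem normalizer_sup_eq {G : Type*} [Group G] [Finite G] [Group.IsSolvable G]
    (M H : Subgroup G) [hMn : M.Normal] (hcop : (Nat.card M).Coprime (Nat.card H)) :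
    Subgroup.normalizer ((H ⊔ M : Subgroup G) : Set G) =
      Subgroup.normalizer (H : Set G) ⊔ M := by
  apply le_antisymm
  · intro g hg
    have h1 : MulAut.conj g • (H ⊔ M) = H ⊔ M := conj_smul_eq_of_mem_normalizer hg
    rw [Subgroup.smul_sup, Subgroup.Normal.conj_smul_eq_self g M] at h1
    have hK : M ⊓ (MulAut.conj g • H) = ⊥ :=
      (Subgroup.disjoint_of_coprime_natCard (by rw [card_conj_smul]; exact hcop)).eq_bot
    have hH : M ⊓ H = ⊥ := (Subgroup.disjoint_of_coprime_natCard hcop).eq_bot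
    obtain ⟨n, hn, hnH⟩ := sz_conj_internal M H (MulAut.conj g • H)
      Subgroup.le_normalizer_of_normal hH hK (by rw [sup_comm M H, sup_comm M, h1]) hcop
      (Or.inl inferInstance)
    have h2 : n⁻¹ * g ∈ Subgroup.normalizer (H : Set G) := by
      apply mem_normalizer_of_conj_smul_eq
      rw [← conj_smul_conj_smul, ← hnH, conj_smul_conj_smul, inv_mul_cancel, map_one, one_smul]
    have h3 : g = n * (n⁻¹ * g) := by group
    rw [h3]
    exact Subgroup.mul_mem _ (Subgroup.mem_sup_right hn) (Subgroup.mem_sup_left h2)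
  · apply sup_le
    · intro g hg
      apply mem_normalizer_of_conj_smul_eq
      rw [Subgroup.smul_sup, Subgroup.Normal.conj_smul_eq_self g M,
        conj_smul_eq_of_mem_normalizer hg]
    · exact le_trans le_sup_right Subgroup.le_normalizer

/-- The number of Hall subgroups of order `m` when `M` is a normal subgroup of order prime
to `m`. -/
theorem count_eq_mul {G : Type*} [Group G] [Finite G] [Group.IsSolvable G] (M : Subgroup G)
    [hMn : M.Normal] (m n n' : ℕ) (hG : Nat.card G = m * n) (hmn : m.Coprime n)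
    (hn : n = Nat.card M * n') (H : Subgroup G) (hH : Nat.card H = m) :
    Nat.card {K : Subgroup G // Nat.card K = m} =
      Nat.card {K : Subgroup (G ⧸ M) // Nat.card K = m} *
        (M ⊓ Subgroup.centralizer (H : Set G)).relIndex M := by
  have hMm : (Nat.card M).Coprime m := (Nat.Coprime.coprime_dvd_right ⟨n', hn⟩ hmn).symm
  have hHM : H ⊓ M = ⊥ :=
    (Subgroup.disjoint_of_coprime_natCard (by rw [hH]; exact hMm.symm)).eq_bot
  have h1 := card_eq_index_normalizer m H hH
    (fun K hK => (hallProp G m n hG hmn).1 H K hH hK)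
  have hcardQ : Nat.card (G ⧸ M) = m * n' := by
    have h2 := Subgroup.card_eq_card_quotient_mul_card_subgroup M
    rw [hG, hn] at h2
    have h3 : (m * n') * Nat.card M = Nat.card (G ⧸ M) * Nat.card M := by
      rw [← h2]
      ring
    exact (Nat.eq_of_mul_eq_mul_right Nat.card_pos h3).symm
  have hmn' : m.Coprime n' :=
    Nat.Coprime.coprime_dvd_right ⟨Nat.card M, by rw [hn, mul_comm]⟩ hmn
  have hHbar : Nat.card (H.map (QuotientGroup.mk' M)) = m := by
    rw [card_map_of_disjoint_ker _ _ (by rw [QuotientGroup.ker_mk']; exact hHM), hH]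
  have h2 := card_eq_index_normalizer m (H.map (QuotientGroup.mk' M)) hHbar
    (fun K hK => (hallProp (G ⧸ M) m n' hcardQ hmn').1 _ K hHbar hK)
  rw [h1, h2]
  have h3 : (Subgroup.normalizer
      ((H.map (QuotientGroup.mk' M) : Subgroup (G ⧸ M)) : Set (G ⧸ M))).index =
      (Subgroup.normalizer (H : Set G) ⊔ M).index := by
    rw [← Subgroup.index_comap_of_surjective _ (QuotientGroup.mk'_surjective M),
      Subgroup.comap_normalizer_eq_of_surjective _ (QuotientGroup.mk'_surjective M),
      Subgroup.comap_map_eq, QuotientGroup.ker_mk',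
      normalizer_sup_eq M H (by rw [hH]; exact hMm)]
  rw [h3, Lib.helper76.index_eq_relIndex_mul_index_sup (Subgroup.normalizer (H : Set G)) M,
    mul_comm]
  congr 1
  rw [← Subgroup.inf_relIndex_right (Subgroup.normalizer (H : Set G)) M]
  congr 1
  apply le_antisymm
  · rintro x ⟨hxN, hxM⟩
    refine Subgroup.mem_inf.mpr ⟨hxM, ?_⟩
    rw [Subgroup.mem_centralizer_iff]
    intro h hh
    have h4 : x * h * x⁻¹ * h⁻¹ ∈ H ⊓ M := by
      refine Subgroup.mem_inf.mpr
        ⟨H.mul_mem ((Subgroup.mem_normalizer_iff.mp hxN h).mp hh) (H.inv_mem hh), ?_⟩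
      have h5 : x * h * x⁻¹ * h⁻¹ = x * (h * x⁻¹ * h⁻¹) := by group
      rw [h5]
      exact M.mul_mem hxM (hMn.conj_mem x⁻¹ (M.inv_mem hxM) h)
    rw [hHM, Subgroup.mem_bot] at h4
    calc h * x = (x * h * x⁻¹ * h⁻¹)⁻¹ * (x * h) := by group
      _ = x * h := by rw [h4]; group
  · rintro x ⟨hxM, hxC⟩
    exact Subgroup.mem_inf.mpr ⟨Subgroup.centralizer_le_normalizer _ hxC, hxM⟩

theorem main.{u} : ∀ (N : ℕ) (G : Type u) [Group G] [Finite G] [Group.IsSolvable G],
    Nat.card G = N → ∀ m n : ℕ, Nat.card G = m * n → m.Coprime n →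
      ∃ l : List ℕ, Nat.card {H : Subgroup G // Nat.card H = m} = l.prod ∧
        ∀ f ∈ l, Good G m f := by
  intro N
  induction N using Nat.strong_induction_on with
  | _ N IH =>
    intro G _ _ _ hN m n hG hmn
    by_cases hm1 : m = 1
    · subst hm1
      refine ⟨[], ?_, by simp⟩
      rw [List.prod_nil, Nat.card_eq_one_iff_unique]
      refine ⟨⟨fun a b => Subtype.ext ?_⟩, ⟨⟨⊥, Subgroup.card_bot⟩⟩⟩
      rw [Subgroup.card_eq_one.mp a.2, Subgroup.card_eq_one.mp b.2]
    · have hnt : Nontrivial G := by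
        by_contra hnt
        rw [not_nontrivial_iff_subsingleton] at hnt
        have h1 : Nat.card G = 1 := Nat.card_unique
        rw [hG] at h1
        exact hm1 (Nat.eq_one_of_dvd_one ⟨n, h1.symm⟩)
      obtain ⟨M, hMne, hMn, hMmin⟩ := Lib.helper12.exists_minimal_normal (G := G)
      obtain ⟨q, hq, hqM⟩ := Lib.helper12.minimal_normal_isPGroup M hMne hMmin
      have : Fact q.Prime := ⟨hq⟩
      obtain ⟨r, hr⟩ := hqM.exists_card_eq
      have hcardQ := Subgroup.card_eq_card_quotient_mul_card_subgroup M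
      have hlt : Nat.card (G ⧸ M) < N := by
        rw [← hN]
        exact card_quot_lt hMne
      by_cases hqm : q ∣ m
      · have hcopMn : (Nat.card M).Coprime n := by
          rw [hr]
          exact Nat.Coprime.pow_left r (Nat.Coprime.coprime_dvd_left hqm hmn)
        have hMm : Nat.card M ∣ m :=
          hcopMn.dvd_of_dvd_mul_right (by rw [← hG]; exact Subgroup.card_subgroup_dvd_card M)
        obtain ⟨m', hm'⟩ := hMm
        have hmm' : m = m' * Nat.card M := by rw [hm', mul_comm]
        have hcardQ' : Nat.card (G ⧸ M) = m' * n := by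
          have h3 : (m' * n) * Nat.card M = Nat.card (G ⧸ M) * Nat.card M := by
            rw [← hcardQ, hG, hmm']
            ring
          exact (Nat.eq_of_mul_eq_mul_right Nat.card_pos h3).symm
        have hm'n : m'.Coprime n := Nat.Coprime.coprime_dvd_left ⟨Nat.card M, hmm'⟩ hmn
        obtain ⟨l, hl, hl2⟩ := IH _ hlt (G ⧸ M) rfl m' n hcardQ' hm'n
        refine ⟨l, ?_, fun f hf => good_of_quotient M m' m f ⟨Nat.card M, hmm'⟩ (hl2 f hf)⟩
        rw [← hl]
        apply card_subgroups_quotient M m m' hmm'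
        intro H hH
        have hidx : H.index = n := by
          have h1 := H.card_mul_index
          rw [hH, hG] at h1
          have hm0 : 0 < m := by
            rw [← hH]
            exact Nat.card_pos
          exact Nat.eq_of_mul_eq_mul_left hm0 h1
        have h1 : H.relIndex M ∣ Nat.card M := Subgroup.relIndex_dvd_card H M
        have h2 : H.relIndex M ∣ H.index := by
          rw [← Lib.helper76.relIndex_sup_eq_of_le H M H le_rfl Subgroup.le_normalizer_of_normal]
          exact Subgroup.relIndex_dvd_index_of_le le_sup_left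
        rw [hidx] at h2
        have h3 : H.relIndex M = 1 := Nat.eq_one_of_dvd_coprimes hcopMn h1 h2
        exact Subgroup.relIndex_eq_one.mp h3
      · have hcopMm : (Nat.card M).Coprime m := by
          rw [hr]
          exact Nat.Coprime.pow_left r ((Nat.Prime.coprime_iff_not_dvd hq).mpr hqm)
        have hMn' : Nat.card M ∣ n :=
          hcopMm.dvd_of_dvd_mul_left (by rw [← hG]; exact Subgroup.card_subgroup_dvd_card M)
        obtain ⟨n', hn'⟩ := hMn'
        have hcardQ' : Nat.card (G ⧸ M) = m * n' := by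
          have h3 : (m * n') * Nat.card M = Nat.card (G ⧸ M) * Nat.card M := by
            rw [← hcardQ, hG, hn']
            ring
          exact (Nat.eq_of_mul_eq_mul_right Nat.card_pos h3).symm
        have hmn' : m.Coprime n' := Nat.Coprime.coprime_dvd_right ⟨Nat.card M, by rw [hn', mul_comm]⟩ hmn
        obtain ⟨H, hH, -⟩ := (hallProp G m n hG hmn).2 ⊥ (by rw [Subgroup.card_bot]; exact Nat.coprime_one_left n)
        obtain ⟨l, hl, hl2⟩ := IH _ hlt (G ⧸ M) rfl m n' hcardQ' hmn'
        obtain ⟨lt, hlt1, hlt2⟩ := relIndex_centralizer_factor M _ H rfl (by rw [hH]; exact hcopMm.symm)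
        refine ⟨l ++ lt, ?_, ?_⟩
        · rw [List.prod_append, ← hl, ← hlt1]
          exact count_eq_mul M m n n' hG hmn hn' H hH
        · intro f hf
          rcases List.mem_append.mp hf with hf | hf
          · exact good_of_quotient M m m f dvd_rfl (hl2 f hf)
          · obtain ⟨hfM, p, hp, hpH, hmod⟩ := hlt2 f hf
            rw [hr] at hfM
            obtain ⟨e, -, he⟩ := (Nat.dvd_prime_pow hq).mp hfM
            refine ⟨⟨q, e, hq, he⟩, ⟨⊥, M, Subgroup.normal_bot, hMn, bot_lt_iff_ne_bot.mpr hMne, ?_, ?_⟩,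
              ⟨p, hp, hH ▸ hpH, hmod⟩⟩
            · intro X hX _ hXM
              exact hMmin X hX hXM
            · rw [Subgroup.relIndex_bot_left, hr, he]
              exact pow_dvd_pow q (by
                have := Nat.le_of_dvd (pow_pos hq.pos r) (he ▸ hfM)
                exact (Nat.pow_le_pow_iff_right hq.one_lt).mp this)

/-- Let `G` be a finite solvable group of order `mn` with `gcd(m, n) = 1`. Then the number of subgroups of order `m` is a product of natural numbers each of which is a power of a prime, divides the order of some chief factor of `G` (a quotient `L/K` of normal subgroups `K < L` of `G` with no normal subgroup of `G` strictly between them), and is congruent to `1` modulo some prime divisor of `m`. -/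
theorem result {G : Type*} [Group G] [Finite G] [Group.IsSolvable G] (m n : ℕ) (hG : Nat.card G = m * n) (hmn : Nat.Coprime m n) : ∃ (k : ℕ) (f : Fin k → ℕ), Nat.card {H : Subgroup G // Nat.card H = m} = ∏ i, f i ∧ ∀ i, (∃ q e : ℕ, q.Prime ∧ f i = q ^ e) ∧ (∃ K L : Subgroup G, K.Normal ∧ L.Normal ∧ K < L ∧ (∀ M : Subgroup G, M.Normal → K ≤ M → M ≤ L → M = K ∨ M = L) ∧ f i ∣ K.relIndex L) ∧ (∃ q : ℕ, q.Prime ∧ q ∣ m ∧ f i ≡ 1 [MOD q]) := by
  obtain ⟨l, hl, hl2⟩ := main _ G rfl m n hG hmn
  refine ⟨l.length, l.get, ?_, fun i => hl2 _ (List.get_mem l i)⟩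
  rw [hl, ← List.prod_ofFn, List.ofFn_get]

end Cfsg.Agent.S4214
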