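import Mathlib
import Cfsg.Statements.S4217
import Cfsg.Agent.Lib.helper74.Gaschutz

set_option autoImplicit false
open Cfsg

namespace Cfsg.Agent.S4217

open Cfsg.Agent.Lib.helper74

/-- Let `A` be an abelian normal subgroup of the finite group `G`. Then `A` has a complement in `G` if and only if, for every prime `p` dividing the index of `A`, there are a Sylow `p`-subgroup `S` of `G/A` and a subgroup `K` of `G` with `K ∩ A = 1` and `KA` equal to the preimage of `S` (that is, `A` has a complement in the preimage of a Sylow `p`-subgroup of `G/A`). -/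
theorem result {G : Type*} [Group G] [Finite G] (A : Subgroup G) [A.Normal] (hA : IsMulCommutative A) : (∃ K : Subgroup G, K.IsComplement' A) ↔ ∀ p : ℕ, p.Prime → p ∣ A.index → ∃ (S : Sylow p (G ⧸ A)) (K : Subgroup G), K ⊓ A = ⊥ ∧ K ⊔ A = (S : Subgroup (G ⧸ A)).comap (QuotientGroup.mk' A) := by
  classical
  constructor
  · rintro ⟨K, hK⟩ p hp _
    have : Fact p.Prime := ⟨hp⟩
    obtain ⟨S⟩ : Nonempty (Sylow p (G ⧸ A)) := inferInstance
    have hKA : K ⊓ A = ⊥ := disjoint_iff.mp hK.disjoint
    refine ⟨S, K ⊓ (S : Subgroup (G ⧸ A)).comap (QuotientGroup.mk' A), ?_, ?_⟩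
    · rw [eq_bot_iff, ← hKA]
      exact inf_le_inf_right A inf_le_left
    · apply le_antisymm
      · refine sup_le inf_le_right ?_
        intro a ha
        rw [Subgroup.mem_comap]
        have : QuotientGroup.mk' A a = 1 := (QuotientGroup.eq_one_iff a).mpr ha
        rw [this]
        exact Subgroup.one_mem _
      · intro x hx
        obtain ⟨⟨k, a⟩, hka, -⟩ := Subgroup.isComplement_iff_existsUnique.mp hK x
        have hka' : (k : G) * (a : G) = x := hka
        rw [← hka']
        have hkS : (k : G) ∈ (S : Subgroup (G ⧸ A)).comap (QuotientGroup.mk' A) := ?_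
        · exact Subgroup.mul_mem_sup (Subgroup.mem_inf.mpr ⟨k.2, hkS⟩) a.2
        rw [Subgroup.mem_comap] at hx ⊢
        have h1 : QuotientGroup.mk' A (a : G) = 1 := (QuotientGroup.eq_one_iff _).mpr a.2
        have h2 : QuotientGroup.mk' A x = QuotientGroup.mk' A (k : G) := by
          rw [← hka', map_mul, h1, mul_one]
        rw [← h2]
        exact hx
  · intro h
    have hn : ((A.index : ℕ) : ℤ) ∈ crossedExp A := by
      have := index_mem_crossedExp A ⊥ (bot_inf_eq A)
      rwa [bot_sup_eq] at this
    have h1 : (1 : ℤ) ∈ crossedExp A := by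
      apply one_mem_of_forall_prime (crossedExp A) hn
      intro p hp hpn
      have : Fact p.Prime := ⟨hp⟩
      obtain ⟨S, K, hKA, hsup⟩ := h p hp hpn
      refine ⟨(K ⊔ A).index, index_mem_crossedExp A K hKA, ?_⟩
      rw [hsup, Subgroup.index_comap_of_surjective _ (QuotientGroup.mk'_surjective A)]
      exact S.not_dvd_index
    obtain ⟨K, hK⟩ := exists_complement_of_one_mem A h1
    exact ⟨K, hK.symm⟩

end Cfsg.Agent.S4217
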