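import Mathlib
import Cfsg.Statements.S4218
import Cfsg.Agent.Lib.helper38.HallHigman2
import Cfsg.Agent.Lib.helper3.PGroupFrattini
import Cfsg.Agent.S4207

set_option autoImplicit false
open Cfsg
open scoped commutatorElement

namespace Cfsg.Agent.S4218

open Cfsg.Agent.Lib.helper40 Cfsg.Agent.Lib.helper38

/-- Frattini subgroups correspond under a group isomorphism. -/
theorem frattini_comap_mulEquiv {Q R : Type*} [Group Q] [Group R] (e : Q ≃* R) (y : Q) :
    y ∈ frattini Q ↔ e y ∈ frattini R := by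
  have h := e.comapSubgroup.map_radical
  have h2 : (frattini R).comap e.toMonoidHom = frattini Q := h
  rw [← h2]
  rfl

/-- Transport of membership in the preimage of the Frattini subgroup of `P₁ / N₀`. -/
theorem mem_F_iff {G : Type*} [Group G] (p : ℕ) (x : G)
    (hx : x ∈ pPrimePCore p G) :
    x ∈ ((frattini (↥(pPrimePCore p G) ⧸ (pPrimeCore p G).subgroupOf (pPrimePCore p G))).comap
        (QuotientGroup.mk' ((pPrimeCore p G).subgroupOf (pPrimePCore p G)))).map
        (pPrimePCore p G).subtype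
    ↔ QuotientGroup.mk' (pPrimeCore p G) x ∈
        (frattini ↥(pCore p (G ⧸ pPrimeCore p G))).map (pCore p (G ⧸ pPrimeCore p G)).subtype := by
  let ψ : ↥(pPrimePCore p G) →* ↥(pCore p (G ⧸ pPrimeCore p G)) :=
    (QuotientGroup.mk' (pPrimeCore p G)).subgroupComap (pCore p (G ⧸ pPrimeCore p G))
  have hψ : Function.Surjective ψ :=
    MonoidHom.subgroupComap_surjective_of_surjective _ _ (QuotientGroup.mk'_surjective _)
  have hψval : ∀ y : ↥(pPrimePCore p G), ((ψ y : ↥(pCore p (G ⧸ pPrimeCore p G))) : G ⧸ pPrimeCore p G)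
      = QuotientGroup.mk' (pPrimeCore p G) (y : G) := fun y => rfl
  have hker : ψ.ker = (pPrimeCore p G).subgroupOf (pPrimePCore p G) := by
    ext y
    rw [MonoidHom.mem_ker, Subgroup.mem_subgroupOf, ← QuotientGroup.eq_one_iff (y : G),
      ← OneMemClass.coe_eq_one, hψval]
    rfl
  let e : (↥(pPrimePCore p G) ⧸ (pPrimeCore p G).subgroupOf (pPrimePCore p G)) ≃*
      ↥(pCore p (G ⧸ pPrimeCore p G)) :=
    (QuotientGroup.quotientMulEquivOfEq hker.symm).trans
      (QuotientGroup.quotientKerEquivOfSurjective ψ hψ)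
  have he : ∀ y : ↥(pPrimePCore p G),
      e (QuotientGroup.mk' ((pPrimeCore p G).subgroupOf (pPrimePCore p G)) y) = ψ y := by
    intro y
    rfl
  constructor
  · intro h
    obtain ⟨y, hy, rfl⟩ := Subgroup.mem_map.mp h
    rw [Subgroup.mem_comap, frattini_comap_mulEquiv e, he] at hy
    exact Subgroup.mem_map.mpr ⟨ψ y, hy, rfl⟩
  · intro h
    obtain ⟨z, hz, hzx⟩ := Subgroup.mem_map.mp h
    refine Subgroup.mem_map.mpr ⟨⟨x, hx⟩, ?_, rfl⟩
    rw [Subgroup.mem_comap, frattini_comap_mulEquiv e, he]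
    have : ψ ⟨x, hx⟩ = z := by
      apply Subtype.ext
      rw [hψval]
      exact hzx.symm
    rw [this]
    exact hz

/-- Let `G` be a finite `p`-solvable group, `N₀ = O_{p'}(G)`, `P₁ = O_{p',p}(G)`, and let `F ≤ P₁` be the preimage of the Frattini subgroup of `P₁/N₀`. Then an element `g` of `G` induces the identity on `P₁/F` by conjugation (that is, `g x g⁻¹ x⁻¹ ∈ F` for all `x ∈ P₁`) if and only if `g ∈ P₁`: the group `G/P₁` acts faithfully on `P₁/F`. -/
theorem result {G : Type*} [Group G] [Finite G] {p : ℕ} [Fact p.Prime] (hG : Cfsg.IsPSolvable p G) (g : G) : (∀ x ∈ Cfsg.pPrimePCore p G, g * x * g⁻¹ * x⁻¹ ∈ ((frattini (↥(Cfsg.pPrimePCore p G) ⧸ (Cfsg.pPrimeCore p G).subgroupOf (Cfsg.pPrimePCore p G))).comap (QuotientGroup.mk' ((Cfsg.pPrimeCore p G).subgroupOf (Cfsg.pPrimePCore p G)))).map (Cfsg.pPrimePCore p G).subtype) ↔ g ∈ Cfsg.pPrimePCore p G := by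
  classical
  have hp : p.Prime := Fact.out
  have hP1n : (pPrimePCore p G).Normal := by
    unfold pPrimePCore
    exact (pCore_normal' p _).comap _
  have hPbn : (pCore p (G ⧸ pPrimeCore p G)).Normal := pCore_normal' p _
  have hPbp : IsPGroup p ↥(pCore p (G ⧸ pPrimeCore p G)) := pCore_isPGroup p _
  have hπs := QuotientGroup.mk'_surjective (pPrimeCore p G)
  have hmemP1 : ∀ y : G, y ∈ pPrimePCore p G ↔
      QuotientGroup.mk' (pPrimeCore p G) y ∈ pCore p (G ⧸ pPrimeCore p G) := fun y => Iff.rfl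
  have hΦn : ((frattini ↥(pCore p (G ⧸ pPrimeCore p G))).map
      (pCore p (G ⧸ pPrimeCore p G)).subtype).Normal :=
    ConjAct.normal_of_characteristic_of_normal
  constructor
  · intro h
    -- the subgroup `C` of elements acting trivially on the Frattini quotient
    have hC : ∀ x ∈ pCore p (G ⧸ pPrimeCore p G),
        QuotientGroup.mk' (pPrimeCore p G) g * x * (QuotientGroup.mk' (pPrimeCore p G) g)⁻¹ * x⁻¹ ∈
        (frattini ↥(pCore p (G ⧸ pPrimeCore p G))).map (pCore p (G ⧸ pPrimeCore p G)).subtype := by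
      intro xb hxb
      obtain ⟨x, rfl⟩ := hπs xb
      have hx : x ∈ pPrimePCore p G := hxb
      have h1 := h x hx
      have hmem : g * x * g⁻¹ * x⁻¹ ∈ pPrimePCore p G :=
        (pPrimePCore p G).mul_mem (hP1n.conj_mem x hx g) ((pPrimePCore p G).inv_mem hx)
      have h2 := (mem_F_iff p _ hmem).mp h1
      simpa using h2
    let C : Subgroup (G ⧸ pPrimeCore p G) :=
      { carrier := {c | ∀ x ∈ pCore p (G ⧸ pPrimeCore p G), c * x * c⁻¹ * x⁻¹ ∈
          (frattini ↥(pCore p (G ⧸ pPrimeCore p G))).map (pCore p (G ⧸ pPrimeCore p G)).subtype}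
        one_mem' := by
          intro x _
          simp
        mul_mem' := by
          intro a b ha hb x hx
          have h1 := hΦn.conj_mem _ (hb x hx) a
          have h2 := ha x hx
          have e : a * b * x * (a * b)⁻¹ * x⁻¹ = (a * (b * x * b⁻¹ * x⁻¹) * a⁻¹) * (a * x * a⁻¹ * x⁻¹) := by
            group
          rw [e]
          exact Subgroup.mul_mem _ h1 h2
        inv_mem' := by
          intro a ha x hx
          have h1 := Subgroup.inv_mem _ (ha x hx)
          have h2 := hΦn.conj_mem _ h1 a⁻¹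
          have e : a⁻¹ * x * a⁻¹⁻¹ * x⁻¹ = a⁻¹ * (a * x * a⁻¹ * x⁻¹)⁻¹ * a⁻¹⁻¹ := by group
          rw [e]
          exact h2 }
    have hCmem : ∀ c, c ∈ C ↔ ∀ x ∈ pCore p (G ⧸ pPrimeCore p G), c * x * c⁻¹ * x⁻¹ ∈
          (frattini ↥(pCore p (G ⧸ pPrimeCore p G))).map (pCore p (G ⧸ pPrimeCore p G)).subtype :=
      fun c => Iff.rfl
    have hCn : C.Normal := by
      refine ⟨fun a ha k => ?_⟩
      rw [hCmem]
      intro x hx
      have hx' : k⁻¹ * x * k⁻¹⁻¹ ∈ pCore p (G ⧸ pPrimeCore p G) := hPbn.conj_mem x hx k⁻¹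
      have h1 := ha _ hx'
      have h2 := hΦn.conj_mem _ h1 k
      have e : k * a * k⁻¹ * x * (k * a * k⁻¹)⁻¹ * x⁻¹ =
          k * (a * (k⁻¹ * x * k⁻¹⁻¹) * a⁻¹ * (k⁻¹ * x * k⁻¹⁻¹)⁻¹) * k⁻¹ := by group
      rw [e]
      exact h2
    -- the conjugation action on `O_p(G/N₀)`
    let φ : (G ⧸ pPrimeCore p G) →* MulAut ↥(pCore p (G ⧸ pPrimeCore p G)) := MulAut.conjNormal
    have hφ : ∀ (c : G ⧸ pPrimeCore p G) (x : ↥(pCore p (G ⧸ pPrimeCore p G))),
        ((φ c x : ↥(pCore p (G ⧸ pPrimeCore p G))) : G ⧸ pPrimeCore p G) = c * x * c⁻¹ :=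
      fun c x => rfl
    have hA : ∀ α ∈ C.map φ, ∀ x : ↥(pCore p (G ⧸ pPrimeCore p G)),
        α x * x⁻¹ ∈ frattini ↥(pCore p (G ⧸ pPrimeCore p G)) := by
      rintro α ⟨c, hc, rfl⟩ x
      obtain ⟨y, hy, hyx⟩ := hc (x : G ⧸ pPrimeCore p G) x.2
      have : φ c x * x⁻¹ = y := by
        apply Subtype.ext
        rw [Subgroup.coe_mul, hφ, Subgroup.coe_inv]
        exact hyx.symm
      rw [this]
      exact hy
    obtain ⟨n, hn⟩ := hPbp.exists_card_eq
    have hidx : ∃ r, (frattini ↥(pCore p (G ⧸ pPrimeCore p G))).index = p ^ r := by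
      have hdvd := Subgroup.index_dvd_card (frattini ↥(pCore p (G ⧸ pPrimeCore p G)))
      rw [hn] at hdvd
      obtain ⟨r, -, hr⟩ := (Nat.dvd_prime_pow hp).mp hdvd
      exact ⟨r, hr⟩
    obtain ⟨r, hr⟩ := hidx
    have hcardA := Cfsg.Agent.S4207.result hn hr (C.map φ) hA
    obtain ⟨j, -, hj⟩ := (Nat.dvd_prime_pow hp).mp hcardA
    have hHH := centralizer_pCore_le_of_isPSolvable (isPSolvable_quotient (pPrimeCore p G) hG)
      (pPrimeCore_quotient_pPrimeCore p G)
    have hCp : IsPGroup p ↥C := by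
      intro c
      have h1 : (⟨φ c, Subgroup.mem_map_of_mem φ c.2⟩ : ↥(C.map φ)) ^ (p ^ j) = 1 := by
        rw [← hj]
        exact pow_card_eq_one'
      have h2 : φ ((c : G ⧸ pPrimeCore p G) ^ (p ^ j)) = 1 := by
        have := congrArg Subtype.val h1
        rw [map_pow]
        simpa using this
      have h3 : (c : G ⧸ pPrimeCore p G) ^ (p ^ j) ∈
          Subgroup.centralizer (pCore p (G ⧸ pPrimeCore p G) : Set (G ⧸ pPrimeCore p G)) := by
        rw [Subgroup.mem_centralizer_iff]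
        intro x hx
        have h4 := congrArg (fun α : MulAut ↥(pCore p (G ⧸ pPrimeCore p G)) =>
          ((α ⟨x, hx⟩ : ↥(pCore p (G ⧸ pPrimeCore p G))) : G ⧸ pPrimeCore p G)) h2
        simp only [hφ, MulAut.one_apply] at h4
        exact (mul_inv_eq_iff_eq_mul.mp h4).symm
      have h5 := hHH h3
      obtain ⟨i, hi⟩ := hPbp ⟨_, h5⟩
      refine ⟨j + i, ?_⟩
      apply Subtype.ext
      have h6 := congrArg Subtype.val hi
      rw [pow_add, pow_mul]
      simpa using h6
    have hle := le_pCore C hCn hCp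
    exact hle hC
  · intro hg x hx
    have hmem : g * x * g⁻¹ * x⁻¹ ∈ pPrimePCore p G :=
      (pPrimePCore p G).mul_mem (hP1n.conj_mem x hx g) ((pPrimePCore p G).inv_mem hx)
    rw [mem_F_iff p _ hmem]
    refine ⟨⁅(⟨QuotientGroup.mk' (pPrimeCore p G) g, hg⟩ : ↥(pCore p (G ⧸ pPrimeCore p G))),
      (⟨QuotientGroup.mk' (pPrimeCore p G) x, hx⟩ : ↥(pCore p (G ⧸ pPrimeCore p G)))⁆, ?_, ?_⟩
    · apply Cfsg.Agent.Lib.helper3.commutator_le_frattini hPbp
      exact Subgroup.commutator_mem_commutator (Subgroup.mem_top _) (Subgroup.mem_top _)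
    · simp [commutatorElement_def]

end Cfsg.Agent.S4218
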