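import Mathlib
import Cfsg.Statements.S4219

set_option autoImplicit false
open Cfsg
open scoped Pointwise

namespace Cfsg.Agent.S4219

theorem conj_mul {G : Type*} [Group G] (H : Subgroup G) (a b : G) :
    H.map (MulAut.conj (a * b)).toMonoidHom =
      (H.map (MulAut.conj b).toMonoidHom).map (MulAut.conj a).toMonoidHom := by
  ext x
  simp only [Subgroup.mem_map, MulEquiv.coe_toMonoidHom, MulAut.conj_apply]
  constructor
  · rintro ⟨y, hy, rfl⟩
    exact ⟨b * y * b⁻¹, ⟨y, hy, rfl⟩, by group⟩
  · rintro ⟨_, ⟨y, hy, rfl⟩, rfl⟩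
    exact ⟨y, hy, by group⟩

/-- Witt's lemma in a general form: if `G` acts transitively on `β`, `P` is a Sylow `p`-subgroup of
the stabilizer of `x` and `P` fixes `a`, then some element of the normalizer of `P` maps `x` to
`a`. -/
theorem exists_normalizer_smul {G : Type*} [Group G] [Finite G] {β : Type*} [MulAction G β]
    [MulAction.IsPretransitive G β] (x : β) {p : ℕ} [Fact p.Prime]
    (P : Sylow p (MulAction.stabilizer G x)) (a : β)
    (ha : (P : Subgroup (MulAction.stabilizer G x)).map (MulAction.stabilizer G x).subtype ≤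
      MulAction.stabilizer G a) :
    ∃ n ∈ Subgroup.normalizer ((((P : Subgroup (MulAction.stabilizer G x)).map
      (MulAction.stabilizer G x).subtype) : Subgroup G) : Set G), n • x = a := by
  obtain ⟨g₁, hg₁⟩ := MulAction.exists_smul_eq G x a
  have hRH : ((P : Subgroup (MulAction.stabilizer G x)).map
      (MulAction.stabilizer G x).subtype).map (MulAut.conj g₁⁻¹).toMonoidHom ≤
      MulAction.stabilizer G x := by
    rintro _ ⟨y, hy, rfl⟩
    have hya : y • a = a := ha hy
    rw [MulAction.mem_stabilizer_iff]
    simp only [MulEquiv.coe_toMonoidHom, MulAut.conj_apply, inv_inv]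
    rw [mul_smul, mul_smul, hg₁, hya, ← hg₁, inv_smul_smul]
  have hP₀p : IsPGroup p ((P : Subgroup (MulAction.stabilizer G x)).map
      (MulAction.stabilizer G x).subtype) := P.isPGroup'.map _
  have hRp := hP₀p.map (MulAut.conj g₁⁻¹).toMonoidHom
  have hR'p := hRp.comap_subtype (K := MulAction.stabilizer G x)
  obtain ⟨Q, hQ⟩ := hR'p.exists_le_sylow
  obtain ⟨h, hh⟩ := MulAction.exists_smul_eq (MulAction.stabilizer G x) P Q
  have hcard : Nat.card Q ≤ Nat.card ((((P : Subgroup (MulAction.stabilizer G x)).map
      (MulAction.stabilizer G x).subtype).map (MulAut.conj g₁⁻¹).toMonoidHom).subgroupOf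
      (MulAction.stabilizer G x)) := by
    rw [Q.card_eq_multiplicity, ← P.card_eq_multiplicity]
    have e1 := Nat.card_congr (Subgroup.subgroupOfEquivOfLe hRH).toEquiv
    have e2 := Subgroup.card_map_of_injective (K := (P : Subgroup (MulAction.stabilizer G x)).map
      (MulAction.stabilizer G x).subtype) (f := (MulAut.conj g₁⁻¹).toMonoidHom)
      (MulAut.conj g₁⁻¹).injective
    have e3 := Subgroup.card_subtype (MulAction.stabilizer G x)
      (P : Subgroup (MulAction.stabilizer G x))
    rw [e1, e2, e3]
  have hRQ := Subgroup.eq_of_le_of_card_ge hQ hcard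
  have key : ((P : Subgroup (MulAction.stabilizer G x)).map
      (MulAction.stabilizer G x).subtype).map (MulAut.conj (h : G)).toMonoidHom =
      ((P : Subgroup (MulAction.stabilizer G x)).map
      (MulAction.stabilizer G x).subtype).map (MulAut.conj g₁⁻¹).toMonoidHom := by
    ext y
    constructor
    · rintro ⟨_, ⟨w, hw, rfl⟩, rfl⟩
      have h1 : h * w * h⁻¹ ∈ (Q : Subgroup (MulAction.stabilizer G x)) := by
        rw [← hh, Sylow.coe_subgroup_smul, Subgroup.mem_pointwise_smul_iff_inv_smul_mem]
        have e : (MulAut.conj h)⁻¹ • (h * w * h⁻¹) = w := by simp [mul_assoc]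
        rw [e]
        exact hw
      rw [← hRQ] at h1
      have h2 := Subgroup.mem_comap.mp h1
      simpa using h2
    · intro hy
      have hyH : y ∈ MulAction.stabilizer G x := hRH hy
      have h1 : (⟨y, hyH⟩ : MulAction.stabilizer G x) ∈
          (Q : Subgroup (MulAction.stabilizer G x)) := by
        rw [← hRQ]
        exact Subgroup.mem_comap.mpr hy
      rw [← hh, Sylow.coe_subgroup_smul, Subgroup.mem_pointwise_smul_iff_inv_smul_mem] at h1
      simp only [MulAut.smul_def, MulAut.conj_inv_apply] at h1
      refine ⟨((h⁻¹ * ⟨y, hyH⟩ * h : MulAction.stabilizer G x) : G), ⟨_, h1, rfl⟩, ?_⟩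
      simp [mul_assoc]
  refine ⟨g₁ * h, ?_, ?_⟩
  · rw [Subgroup.mem_normalizer_iff_map_conj_eq]
    have h2 := conj_mul ((P : Subgroup (MulAction.stabilizer G x)).map
      (MulAction.stabilizer G x).subtype) g₁ (h : G)
    rw [key, ← conj_mul, mul_inv_cancel] at h2
    have h3 : ((P : Subgroup (MulAction.stabilizer G x)).map
      (MulAction.stabilizer G x).subtype).map (MulAut.conj (1 : G)).toMonoidHom =
      (P : Subgroup (MulAction.stabilizer G x)).map (MulAction.stabilizer G x).subtype := by
      ext y; simp
    rw [h3] at h2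
    exact h2
  · rw [mul_smul]
    have : (h : G) • x = x := h.2
    rw [this, hg₁]

/-- Let a finite group `G` act `t`-fold transitively on a finite set, let `H` be the stabilizer of `t` distinct points and `P` a Sylow `p`-subgroup of `H`. Then the normalizer of `P` in `G` is `t`-fold transitive on the fixed points of `P`: any `t` distinct fixed points of `P` can be carried to any other `t` distinct fixed points of `P` by an element normalizing `P`. -/
theorem result {G : Type*} [Group G] [Finite G] {α : Type*} [Fintype α] [MulAction G α] {t : ℕ} (hG : MulAction.IsMultiplyPretransitive G α t) (x : Fin t ↪ α) {p : ℕ} [Fact p.Prime] (P : Sylow p (MulAction.stabilizer G x)) (a b : Fin t ↪ α) (ha : ∀ i, a i ∈ MulAction.fixedPoints ((P : Subgroup (MulAction.stabilizer G x)).map (MulAction.stabilizer G x).subtype) α) (hb : ∀ i, b i ∈ MulAction.fixedPoints ((P : Subgroup (MulAction.stabilizer G x)).map (MulAction.stabilizer G x).subtype) α) : ∃ g ∈ Subgroup.normalizer ((((P : Subgroup (MulAction.stabilizer G x)).map (MulAction.stabilizer G x).subtype)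 : Subgroup G) : Set G), g • a = b := by
  have : MulAction.IsPretransitive G (Fin t ↪ α) := hG
  have hfix : ∀ c : Fin t ↪ α, (∀ i, c i ∈ MulAction.fixedPoints
      ((P : Subgroup (MulAction.stabilizer G x)).map (MulAction.stabilizer G x).subtype) α) →
      (P : Subgroup (MulAction.stabilizer G x)).map (MulAction.stabilizer G x).subtype ≤
        MulAction.stabilizer G c := by
    intro c hc y hy
    rw [MulAction.mem_stabilizer_iff]
    ext i
    rw [Function.Embedding.smul_apply]
    exact (MulAction.mem_fixedPoints.mp (hc i)) ⟨y, hy⟩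
  obtain ⟨na, hna, hna'⟩ := exists_normalizer_smul x P a (hfix a ha)
  obtain ⟨nb, hnb, hnb'⟩ := exists_normalizer_smul x P b (hfix b hb)
  refine ⟨nb * na⁻¹, Subgroup.mul_mem _ hnb (Subgroup.inv_mem _ hna), ?_⟩
  rw [mul_smul, ← hna', inv_smul_smul, hnb']

end Cfsg.Agent.S4219
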