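import Mathlib
import Cfsg.Statements.S4220
import Cfsg.Agent.Lib.helper96.MillerD

set_option autoImplicit false
set_option linter.unusedSimpArgs false
set_option linter.unnecessarySimpa false
open Cfsg

namespace Cfsg.Agent.S4220

open MulAction Subgroup Cfsg.Agent.Lib.helper96.Miller

universe u

lemma swap_pres {α : Type*} [DecidableEq α] {Δ : Finset α} {a b : α} (ha : a ∈ Δ) (hb : b ∈ Δ)
    (z : α) : Equiv.swap a b z ∈ Δ ↔ z ∈ Δ := by
  rw [Equiv.swap_apply_def]
  split_ifs with h1 h2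
  · subst h1; exact ⟨fun _ => ha, fun _ => hb⟩
  · subst h2; exact ⟨fun _ => hb, fun _ => ha⟩
  · exact Iff.rfl

lemma comm_apply {α : Type*} {x y : Equiv.Perm α} {a a1 a2 a3 a4 : α} (h1 : y a1 = a)
    (h2 : x a2 = a1) (h3 : y a2 = a3) (h4 : x a3 = a4) : (x * y * x⁻¹ * y⁻¹) a = a4 := by
  simp only [Equiv.Perm.mul_apply]
  rw [(Equiv.Perm.inv_eq_iff_eq).mpr h1.symm, (Equiv.Perm.inv_eq_iff_eq).mpr h2.symm, h3, h4]

/-- The setup: Sylow subgroup of the pointwise stabiliser of `Δ`, its normaliser, and the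
kernel of the action on orbits. -/
lemma setup {α : Type u} [Fintype α] [DecidableEq α] (G : Subgroup (Equiv.Perm α)) {k p r : ℕ}
    (hp : p.Prime) (hn : Fintype.card α = k * p + r) (hk : 1 ≤ k) (hpk : k < p)
    (hG : MulAction.IsMultiplyPretransitive G α (r + 1)) (Δ : Finset α) (hΔ : Δ.card = r) :
    ∃ P N N₀ : Subgroup (Equiv.Perm α), Ctx Δ P N N₀ p ∧ P ≤ G ∧ N ≤ G ∧ IsPGroup p P ∧
      (∀ a ∉ Δ, (orbit P a).ncard = p) ∧
      (∀ σ : Equiv.Perm α, (∀ z ∈ Δ, σ z ∈ Δ) → ∃ y ∈ N, ∀ z ∈ Δ, y z = σ z) ∧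
      (∀ y ∈ N, ∀ w ∈ N₀, y * w * y⁻¹ ∈ N₀) ∧ (∀ y ∈ N, y ^ k.factorial ∈ N₀) ∧
      (∀ (ι : Type u) [Fintype ι] (f : ι → Equiv.Perm α), (∀ i, f i ∈ N) →
        k.factorial < Fintype.card ι → ∃ i j, i ≠ j ∧ (f i)⁻¹ * f j ∈ N₀) := by
  classical
  have : Fact p.Prime := ⟨hp⟩
  have hkp : p ≤ k * p := Nat.le_mul_of_pos_left p hk
  have hrn : r + 1 ≤ Fintype.card α := by have := hp.two_le; omega
  have hGr : IsMultiplyPretransitive G α r := by
    have := hG
    exact isMultiplyPretransitive_of_le (n := r + 1) (by omega)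
      (by rw [Nat.card_eq_fintype_card]; exact hrn)
  have hΔc : (Δᶜ).card = k * p := by rw [Finset.card_compl, hΔ, hn]; omega
  let H : Subgroup (Equiv.Perm α) :=
    { carrier := {x | x ∈ G ∧ ∀ z ∈ Δ, x z = z}
      mul_mem' := by
        rintro σ τ ⟨h1, h2⟩ ⟨h3, h4⟩
        exact ⟨G.mul_mem h1 h3, fun z hz => by rw [Equiv.Perm.mul_apply, h4 z hz, h2 z hz]⟩
      one_mem' := ⟨G.one_mem, fun z _ => rfl⟩
      inv_mem' := by
        rintro σ ⟨h1, h2⟩
        refine ⟨G.inv_mem h1, fun z hz => ?_⟩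
        rw [Equiv.Perm.inv_eq_iff_eq]
        exact (h2 z hz).symm }
  let T : Subgroup (Equiv.Perm α) :=
    { carrier := {x | x ∈ G ∧ ∀ z, x z ∈ Δ ↔ z ∈ Δ}
      mul_mem' := by
        rintro σ τ ⟨h1, h2⟩ ⟨h3, h4⟩
        exact ⟨G.mul_mem h1 h3, fun z => by rw [Equiv.Perm.mul_apply, h2, h4]⟩
      one_mem' := ⟨G.one_mem, fun z => Iff.rfl⟩
      inv_mem' := by
        rintro σ ⟨h1, h2⟩
        refine ⟨G.inv_mem h1, fun z => ?_⟩
        rw [← h2 (σ⁻¹ z)]; simp }
  have hH : ∀ x, x ∈ H ↔ x ∈ G ∧ ∀ z ∈ Δ, x z = z := fun x => Iff.rfl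
  have hT : ∀ x, x ∈ T ↔ x ∈ G ∧ ∀ z, x z ∈ Δ ↔ z ∈ Δ := fun x => Iff.rfl
  have hHT : H ≤ T := by
    intro h hh
    rw [hH] at hh
    refine ⟨hh.1, fun z => ⟨fun hz => ?_, fun hz => ?_⟩⟩
    · have h3 := hh.2 _ hz
      rw [← h.injective h3]; exact hz
    · rw [hh.2 z hz]; exact hz
  have hTH : ∀ t ∈ T, ∀ h, h ∈ H ↔ t * h * t⁻¹ ∈ H := by
    intro t ht h
    rw [hT] at ht
    rw [hH, hH]
    constructor
    · rintro ⟨h1, h2⟩
      refine ⟨G.mul_mem (G.mul_mem ht.1 h1) (G.inv_mem ht.1), fun z hz => ?_⟩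
      have hz' : t⁻¹ z ∈ Δ := by rw [← ht.2]; simpa using hz
      simp only [Equiv.Perm.mul_apply]
      rw [h2 _ hz']; simp
    · rintro ⟨h1, h2⟩
      refine ⟨?_, fun z hz => ?_⟩
      · have := G.mul_mem (G.mul_mem (G.inv_mem ht.1) h1) ht.1
        simpa [mul_assoc] using this
      · have hz' : t z ∈ Δ := (ht.2 z).mpr hz
        have := h2 _ hz'
        simp only [Equiv.Perm.mul_apply] at this
        simpa using this
  obtain ⟨Q⟩ : Nonempty (Sylow p H) := inferInstance
  obtain ⟨P, hPdef⟩ : ∃ P : Subgroup (Equiv.Perm α), P = (Q : Subgroup H).map H.subtype :=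
    ⟨_, rfl⟩
  have hPH : P ≤ H := by rw [hPdef]; exact Subgroup.map_subtype_le _
  have hfrat := frattini_elt H T hTH Q
  rw [← hPdef] at hfrat
  have hPpg : IsPGroup p P := by
    rw [hPdef]; exact Q.isPGroup'.map _
  have hPfix : ∀ x ∈ P, ∀ z ∈ Δ, x z = z := fun x hx => ((hH x).mp (hPH hx)).2
  have hHtrans : ∀ β ∉ Δ, ∀ β' ∉ Δ, ∃ x ∈ H, x β = β' := by
    intro β hβ β' hβ'
    obtain ⟨x, hxG, hx⟩ := Cfsg.Agent.S0713.ext_perm G hG (insert β Δ)
      (by rw [Finset.card_insert_of_notMem hβ, hΔ]) (Equiv.swap β β')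
    refine ⟨x, ⟨hxG, fun z hz => ?_⟩, ?_⟩
    · rw [hx z (Finset.mem_insert_of_mem hz)]
      exact Equiv.swap_apply_of_ne_of_ne (fun h => hβ (h ▸ hz)) (fun h => hβ' (h ▸ hz))
    · rw [hx β (Finset.mem_insert_self _ _), Equiv.swap_apply_left]
  have hPmove : ∀ a ∉ Δ, ∃ x ∈ P, x a ≠ a := by
    intro a ha
    by_contra hcon
    push Not at hcon
    have hle : (Q : Subgroup H) ≤ stabilizer H a := by
      intro q hq
      rw [mem_stabilizer_iff]
      exact hcon q.1 (by rw [hPdef]; exact ⟨q, hq, rfl⟩)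
    have h1 := Subgroup.index_dvd_of_le hle
    rw [index_stabilizer] at h1
    have h2 : orbit H a = ↑(Δᶜ) := by
      ext b
      rw [Finset.mem_coe, Finset.mem_compl]
      constructor
      · rintro ⟨x, rfl⟩ hb
        have hb' : x.1 a ∈ Δ := hb
        have h3 := ((hH x.1).mp x.2).2 _ hb'
        rw [x.1.injective h3] at hb'
        exact ha hb'
      · intro hb
        obtain ⟨x, hx, hxa⟩ := hHtrans a ha b hb
        exact ⟨⟨x, hx⟩, hxa⟩
    rw [h2, Set.ncard_coe_finset, hΔc] at h1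
    exact Q.not_dvd_index ((dvd_mul_left p k).trans h1)
  have hPnot : ∀ x ∈ P, ∀ a ∉ Δ, x a ∉ Δ := by
    intro x hx a ha h
    have h3 := hPfix x hx _ h
    rw [x.injective h3] at h
    exact ha h
  have horb : ∀ a ∉ Δ, (orbit P a).ncard = p := by
    intro a ha
    obtain ⟨e, he⟩ := hPpg.card_orbit a
    rw [Nat.card_coe_set_eq] at he
    have hsub : orbit P a ⊆ ↑(Δᶜ) := by
      rintro b ⟨x, rfl⟩
      rw [Finset.mem_coe, Finset.mem_compl]
      exact hPnot x.1 x.2 a ha
    have hle := Set.ncard_le_ncard hsub (Finset.finite_toSet _)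
    rw [Set.ncard_coe_finset, hΔc, he] at hle
    have he2 : e < 2 := by
      by_contra h
      have : p ^ 2 ≤ p ^ e := Nat.pow_le_pow_right hp.pos (by omega)
      nlinarith
    have he0 : e ≠ 0 := by
      rintro rfl
      rw [pow_zero] at he
      obtain ⟨x, hx, hxa⟩ := hPmove a ha
      rw [Set.ncard_eq_one] at he
      obtain ⟨c, hc⟩ := he
      have h1 : a ∈ orbit P a := mem_orbit_self a
      have h2 : x a ∈ orbit P a := ⟨⟨x, hx⟩, rfl⟩
      rw [hc, Set.mem_singleton_iff] at h1 h2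
      exact hxa (h2.trans h1.symm)
    have : e = 1 := by omega
    rw [he, this, pow_one]
  have hF := fun a (ha : a ∉ Δ) => orbit_prime_facts hPpg a (horb a ha)
  obtain ⟨N, hNdef⟩ : ∃ N : Subgroup (Equiv.Perm α),
      N = T ⊓ Subgroup.normalizer (P : Set (Equiv.Perm α)) := ⟨_, rfl⟩
  have hNT : ∀ y ∈ N, y ∈ T := fun y hy => by rw [hNdef] at hy; exact hy.1
  have hNG : N ≤ G := fun y hy => ((hT y).mp (hNT y hy)).1
  have hNset : ∀ y ∈ N, ∀ z, y z ∈ Δ ↔ z ∈ Δ := fun y hy => ((hT y).mp (hNT y hy)).2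
  have hNnorm : ∀ y ∈ N, ∀ x ∈ P, y * x * y⁻¹ ∈ P := by
    intro y hy x hx
    rw [hNdef] at hy
    exact (Subgroup.mem_set_normalizer_iff.mp hy.2 x).mp hx
  obtain ⟨N₀, hN₀N, hN₀pres, hN₀conj, hN₀pow, hN₀pig⟩ :=
    orb_kernel P N Δ hNset hNnorm hPfix hΔc hp.pos (fun a ha => (horb a ha).ge)
  have C : Ctx Δ P N N₀ p :=
    { P_fix := hPfix
      P_move := hPmove
      F1 := fun a ha x hx g hg h => (hF a ha).1 ⟨x, hx⟩ ⟨g, hg⟩ h
      F2 := fun a ha x hx => (hF a ha).2.1 ⟨x, hx⟩
      F3 := fun a ha h hh hha x hx => by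
        obtain ⟨i, hi⟩ := (hF a ha).2.2 ⟨h, hh⟩ hha ⟨x, hx⟩
        exact ⟨i, fun g hg => hi ⟨g, hg⟩⟩
      N_set := hNset
      N_norm := hNnorm
      N0_le := hN₀N
      N0_pres := hN₀pres }
  have hwitt : ∀ σ : Equiv.Perm α, (∀ z ∈ Δ, σ z ∈ Δ) → ∃ y ∈ N, ∀ z ∈ Δ, y z = σ z := by
    intro σ hσ
    obtain ⟨x, hxG, hx⟩ := Cfsg.Agent.S0713.ext_perm G hGr Δ hΔ σ
    have hxT : x ∈ T := by
      refine ⟨hxG, ?_⟩
      have himg : Δ.image x = Δ := by
        apply Finset.eq_of_subset_of_card_le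
        · intro w hw
          obtain ⟨z, hz, rfl⟩ := Finset.mem_image.mp hw
          rw [hx z hz]; exact hσ z hz
        · rw [Finset.card_image_of_injective _ x.injective]
      intro z
      constructor
      · intro h
        rw [← himg] at h
        obtain ⟨z', hz', hzz⟩ := Finset.mem_image.mp h
        rw [← x.injective hzz]; exact hz'
      · intro h
        rw [hx z h]; exact hσ z h
    obtain ⟨h, hhH, hnorm⟩ := hfrat x hxT
    refine ⟨h * x, ?_, fun z hz => ?_⟩
    · rw [hNdef]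
      exact ⟨T.mul_mem (hHT hhH) hxT, Subgroup.mem_set_normalizer_iff.mpr hnorm⟩
    · rw [Equiv.Perm.mul_apply, hx z hz]
      exact ((hH h).mp hhH).2 _ (hσ z hz)
  exact ⟨P, N, N₀, C, fun x hx => ((hH x).mp (hPH hx)).1, hNG, hPpg, horb, hwitt, hN₀conj,
    hN₀pow, hN₀pig⟩

/-- The case where `N₀` induces the two 3-cycles `(a b c)` and `(a b d)` on `Δ`. -/
lemma finish_local {α : Type u} [Fintype α] [DecidableEq α] (G : Subgroup (Equiv.Perm α))
    (hprim : IsPreprimitive G α) {p r : ℕ} (hp : p.Prime) (hp3 : 3 ≤ p)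
    (hG : MulAction.IsMultiplyPretransitive G α (r + 1)) (hrn : r + 1 ≤ Fintype.card α)
    {Δ : Finset α} (hΔ : Δ.card = r) {P N N₀ : Subgroup (Equiv.Perm α)} (C : Ctx Δ P N N₀ p)
    (hNG : N ≤ G) {a b c d : α} (hab : a ≠ b) {x y : Equiv.Perm α} (hx : x ∈ N₀) (hy : y ∈ N₀)
    (hxa : x a = b) (hxc : x c = a) (hxd : x d = d) (hya : y a = b) (hyd : y d = a)
    (hyc : y c = c) : alternatingGroup α ≤ G := by
  have hD : x * y * x⁻¹ * y⁻¹ ∈ N₀ :=
    N₀.mul_mem (N₀.mul_mem (N₀.mul_mem hx hy) (N₀.inv_mem hx)) (N₀.inv_mem hy)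
  have hDa : (x * y * x⁻¹ * y⁻¹) a = b := comm_apply hyd hxd hyd hxa
  have hDb : (x * y * x⁻¹ * y⁻¹) b = a := comm_apply hya hxc hyc hxc
  have hD2 : ((x * y * x⁻¹ * y⁻¹) ^ 2) a = a := by
    rw [pow_two, Equiv.Perm.mul_apply, hDa, hDb]
  have hcop : Nat.Coprime 2 p :=
    (Nat.coprime_primes Nat.prime_two hp).mpr (by omega)
  exact C.tail G hprim hG hrn hΔ hNG hD (C.cent_local hx hy) (a := a)
    (by rw [hDa]; exact hab.symm) hD2 hcop

/-- The case where `w ∈ N₀` acts on `P` by a global power map. -/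
lemma finish_global {α : Type u} [Fintype α] [DecidableEq α] (G : Subgroup (Equiv.Perm α))
    (hprim : IsPreprimitive G α) {p r : ℕ}
    (hG : MulAction.IsMultiplyPretransitive G α (r + 1)) (hrn : r + 1 ≤ Fintype.card α)
    {Δ : Finset α} (hΔ : Δ.card = r) {P N N₀ : Subgroup (Equiv.Perm α)} (C : Ctx Δ P N N₀ p)
    (hNG : N ≤ G) (hconj : ∀ y ∈ N, ∀ w ∈ N₀, y * w * y⁻¹ ∈ N₀)
    {w y : Equiv.Perm α} (hw : w ∈ N₀) (hy : y ∈ N) {m : ℕ}
    (hm : ∀ g ∈ P, w * g * w⁻¹ = g ^ m) {a : α} (hDa : (w * y * w⁻¹ * y⁻¹) a ≠ a) {q : ℕ}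
    (hq : ((w * y * w⁻¹ * y⁻¹) ^ q) a = a) (hqp : Nat.Coprime q p) :
    alternatingGroup α ≤ G := by
  have hD : w * y * w⁻¹ * y⁻¹ ∈ N₀ := by
    have h1 : w * y * w⁻¹ * y⁻¹ = w * (y * w⁻¹ * y⁻¹) := by group
    rw [h1]
    exact N₀.mul_mem hw (hconj y hy _ (N₀.inv_mem hw))
  exact C.tail G hprim hG hrn hΔ hNG hD (C.cent_global (C.N0_le hw) hy hm) hDa hq hqp

/-- Let `n = kp + r` with `p` prime, `1 ≤ k < p` and `r > k`, excluding the case `k = 1, r = 2`. Then a permutation group of degree `n` that is `(r + 1)`-fold transitive contains the alternating group. -/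
theorem result {α : Type*} [Fintype α] [DecidableEq α] (G : Subgroup (Equiv.Perm α)) {k p r : ℕ} (hp : p.Prime) (hn : Fintype.card α = k * p + r) (hk : 1 ≤ k) (hpk : k < p) (hrk : k < r) (hex : ¬ (k = 1 ∧ r = 2)) (hG : MulAction.IsMultiplyPretransitive G α (r + 1)) : alternatingGroup α ≤ G := by
  classical
  have hp2 := hp.two_le
  have hr3 : 3 ≤ r := by
    by_contra h
    exact hex ⟨by omega, by omega⟩
  have hkp : p ≤ k * p := Nat.le_mul_of_pos_left p hk
  have hn5 : 5 ≤ Fintype.card α := by omega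
  have hrn : r + 1 ≤ Fintype.card α := by omega
  have hprim : IsPreprimitive G α := by
    have := hG
    have : IsMultiplyPretransitive G α 2 :=
      isMultiplyPretransitive_of_le (n := r + 1) (by omega)
        (by rw [Nat.card_eq_fintype_card]; exact hrn)
    exact isPreprimitive_of_is_two_pretransitive inferInstance
  obtain ⟨Δ, -, hΔ⟩ := Finset.exists_subset_card_eq (s := (Finset.univ : Finset α)) (n := r)
    (by rw [Finset.card_univ]; omega)
  have hΔc : (Δᶜ).card = k * p := by rw [Finset.card_compl, hΔ, hn]; omega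
  obtain ⟨P, N, N₀, C, hPG, hNG, hPpg, horb, hwitt, hconj, hpow, hpig⟩ :=
    setup G hp hn hk hpk hG Δ hΔ
  -- elements of small support give a `p`-cycle
  by_cases hsmall : ∃ g ∈ P, g ≠ 1 ∧ g.support.card < 2 * p
  · obtain ⟨g, hgP, hg1, hgs⟩ := hsmall
    obtain ⟨j, hj⟩ := hPpg ⟨g, hgP⟩
    have hj' : g ^ p ^ j = 1 := by
      have := congrArg Subtype.val hj
      simpa using this
    obtain ⟨i, hi, hio⟩ := (Nat.dvd_prime_pow hp).mp (orderOf_dvd_of_pow_eq_one hj')
    have hi0 : i ≠ 0 := by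
      rintro rfl
      rw [pow_zero, orderOf_eq_one_iff] at hio
      exact hg1 hio
    have hpd : p ∣ orderOf g := by rw [hio]; exact dvd_pow_self p hi0
    obtain ⟨σ, hσ⟩ : ∃ σ, σ = g ^ (orderOf g / p) := ⟨_, rfl⟩
    have hσo : orderOf σ = p := by
      rw [hσ]; exact orderOf_pow_orderOf_div (orderOf_pos g).ne' hpd
    have hσs : σ.support.card < 2 * p := by
      rw [hσ]
      exact lt_of_le_of_lt (Finset.card_le_card (Equiv.Perm.support_pow_le g _)) hgs
    have hcyc : σ.IsCycle :=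
      Equiv.Perm.isCycle_of_prime_order (by rw [hσo]; exact hp) (by rw [hσo]; exact hσs)
    have hσc : σ.support.card = p := by rw [← hcyc.orderOf, hσo]
    exact Cfsg.Agent.S0713.result G hprim hp hn5 (by omega) hcyc hσc
      (by rw [hσ]; exact G.pow_mem (hPG hgP) _)
  push Not at hsmall
  have hNSS : ∀ g ∈ P, g ≠ 1 → 2 * p ≤ g.support.card := hsmall
  obtain ⟨a₀, ha₀⟩ : ∃ a₀, a₀ ∉ Δ := by
    have : 0 < (Δᶜ).card := by rw [hΔc]; exact Nat.mul_pos hk hp.pos
    obtain ⟨a, ha⟩ := Finset.card_pos.mp this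
    exact ⟨a, Finset.mem_compl.mp ha⟩
  have hk2 : 2 ≤ k := by
    obtain ⟨x, hx, hxa⟩ := C.P_move a₀ ha₀
    have h1 := hNSS x hx (by rintro rfl; exact hxa rfl)
    have h2 := Finset.card_le_card (C.supp_sub hx)
    rw [hΔc] at h2
    by_contra h
    have : k = 1 := by omega
    subst this; omega
  have hp3 : 3 ≤ p := by omega
  rcases Nat.lt_or_ge r 4 with hr4 | hr4
  · -- `r = 3`, `k = 2`
    have hr : r = 3 := by omega
    have hk' : k = 2 := by omega
    subst hr hk'
    by_cases hp3' : p = 3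
    · subst hp3'
      exact degree_nine G (by rw [hn]) hG
    obtain ⟨a, ha, b, hb, c, hc, hab, hac, hbc⟩ := Finset.two_lt_card.mp (by rw [hΔ]; norm_num : 2 < Δ.card)
    obtain ⟨x', hx'N, hx'⟩ := hwitt (Equiv.swap a b * Equiv.swap b c)
      (fun z hz => by
        rw [Equiv.Perm.mul_apply, swap_pres ha hb, swap_pres hb hc]; exact hz)
    obtain ⟨y, hyN, hy⟩ := hwitt (Equiv.swap a b) (fun z hz => by rw [swap_pres ha hb]; exact hz)
    have hx'a : x' a = b := by
      rw [hx' a ha]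
      simp [Equiv.Perm.mul_apply, Equiv.swap_apply_def, hab, hac, hbc, hab.symm, hac.symm,
        hbc.symm]
    have hx'b : x' b = c := by
      rw [hx' b hb]
      simp [Equiv.Perm.mul_apply, Equiv.swap_apply_def, hab, hac, hbc, hab.symm, hac.symm,
        hbc.symm]
    have hx'c : x' c = a := by
      rw [hx' c hc]
      simp [Equiv.Perm.mul_apply, Equiv.swap_apply_def, hab, hac, hbc, hab.symm, hac.symm,
        hbc.symm]
    have hya : y a = b := by rw [hy a ha]; simp
    have hyb : y b = a := by rw [hy b hb]; simp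
    have hyc : y c = c := by
      rw [hy c hc]; exact Equiv.swap_apply_of_ne_of_ne hac.symm hbc.symm
    have hw : x' ^ 2 ∈ N₀ := hpow x' hx'N
    have hwa : (x' ^ 2) a = c := by rw [pow_two, Equiv.Perm.mul_apply, hx'a, hx'b]
    have hwb : (x' ^ 2) b = a := by rw [pow_two, Equiv.Perm.mul_apply, hx'b, hx'c]
    have hwc : (x' ^ 2) c = b := by rw [pow_two, Equiv.Perm.mul_apply, hx'c, hx'a]
    obtain ⟨m, hm⟩ := C.gm hNSS (by rw [hΔc]; omega) horb hp.pos ha₀ hw
    have hDa : (x' ^ 2 * y * (x' ^ 2)⁻¹ * y⁻¹) a = b := comm_apply hyb hwc hyc hwc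
    have hDb : (x' ^ 2 * y * (x' ^ 2)⁻¹ * y⁻¹) b = c := comm_apply hya hwb hyb hwa
    have hDc : (x' ^ 2 * y * (x' ^ 2)⁻¹ * y⁻¹) c = a := comm_apply hyc hwa hya hwb
    have hD3 : ((x' ^ 2 * y * (x' ^ 2)⁻¹ * y⁻¹) ^ 3) a = a := by
      rw [pow_succ, pow_two, Equiv.Perm.mul_apply, Equiv.Perm.mul_apply, hDa, hDb, hDc]
    have hcop : Nat.Coprime 3 p :=
      (Nat.coprime_primes Nat.prime_three hp).mpr (Ne.symm hp3')
    exact finish_global G hprim hG hrn hΔ C hNG hconj hw hyN hm (a := a)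
      (by rw [hDa]; exact hab.symm) hD3 hcop
  · obtain ⟨a, b, c, d, ha, hb, hc, hd, hab, hac, had, hbc, hbd, hcd⟩ :=
      Finset.three_lt_card_iff.mp (by rw [hΔ]; omega : 3 < Δ.card)
    by_cases h34 : k = 3 ∧ r = 4
    · -- `(k, r) = (3, 4)`
      obtain ⟨hk', hr⟩ := h34
      subst hk' hr
      obtain ⟨x', hx'N, hx'⟩ := hwitt (Equiv.swap a b * Equiv.swap b c * Equiv.swap c d)
        (fun z hz => by
          rw [Equiv.Perm.mul_apply, Equiv.Perm.mul_apply, swap_pres ha hb, swap_pres hb hc,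
            swap_pres hc hd]; exact hz)
      obtain ⟨y, hyN, hy⟩ := hwitt (Equiv.swap a b * Equiv.swap b c)
        (fun z hz => by
          rw [Equiv.Perm.mul_apply, swap_pres ha hb, swap_pres hb hc]; exact hz)
      have hx'a : x' a = b := by
        rw [hx' a ha]
        simp [Equiv.Perm.mul_apply, Equiv.swap_apply_def, hab, hac, had, hbc, hbd, hcd,
          hab.symm, hac.symm, had.symm, hbc.symm, hbd.symm, hcd.symm]
      have hx'b : x' b = c := by
        rw [hx' b hb]
        simp [Equiv.Perm.mul_apply, Equiv.swap_apply_def, hab, hac, had, hbc, hbd, hcd,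
          hab.symm, hac.symm, had.symm, hbc.symm, hbd.symm, hcd.symm]
      have hx'c : x' c = d := by
        rw [hx' c hc]
        simp [Equiv.Perm.mul_apply, Equiv.swap_apply_def, hab, hac, had, hbc, hbd, hcd,
          hab.symm, hac.symm, had.symm, hbc.symm, hbd.symm, hcd.symm]
      have hx'd : x' d = a := by
        rw [hx' d hd]
        simp [Equiv.Perm.mul_apply, Equiv.swap_apply_def, hab, hac, had, hbc, hbd, hcd,
          hab.symm, hac.symm, had.symm, hbc.symm, hbd.symm, hcd.symm]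
      have hya : y a = b := by
        rw [hy a ha]
        simp [Equiv.Perm.mul_apply, Equiv.swap_apply_def, hab, hac, had, hbc, hbd, hcd,
          hab.symm, hac.symm, had.symm, hbc.symm, hbd.symm, hcd.symm]
      have hyb : y b = c := by
        rw [hy b hb]
        simp [Equiv.Perm.mul_apply, Equiv.swap_apply_def, hab, hac, had, hbc, hbd, hcd,
          hab.symm, hac.symm, had.symm, hbc.symm, hbd.symm, hcd.symm]
      have hyc : y c = a := by
        rw [hy c hc]
        simp [Equiv.Perm.mul_apply, Equiv.swap_apply_def, hab, hac, had, hbc, hbd, hcd,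
          hab.symm, hac.symm, had.symm, hbc.symm, hbd.symm, hcd.symm]
      have hyd : y d = d := by
        rw [hy d hd]
        simp [Equiv.Perm.mul_apply, Equiv.swap_apply_def, hab, hac, had, hbc, hbd, hcd,
          hab.symm, hac.symm, had.symm, hbc.symm, hbd.symm, hcd.symm]
      have hw : x' ^ 6 ∈ N₀ := hpow x' hx'N
      have hwa : (x' ^ 6) a = c := by
        simp only [pow_succ, pow_zero, one_mul, Equiv.Perm.mul_apply, hx'a, hx'b, hx'c, hx'd]
      have hwb : (x' ^ 6) b = d := by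
        simp only [pow_succ, pow_zero, one_mul, Equiv.Perm.mul_apply, hx'a, hx'b, hx'c, hx'd]
      have hwc : (x' ^ 6) c = a := by
        simp only [pow_succ, pow_zero, one_mul, Equiv.Perm.mul_apply, hx'a, hx'b, hx'c, hx'd]
      obtain ⟨m, hm⟩ := C.gm hNSS (by rw [hΔc]) horb hp.pos ha₀ hw
      have hDa : (x' ^ 6 * y * (x' ^ 6)⁻¹ * y⁻¹) a = d := comm_apply hyc hwa hya hwb
      have hDd : (x' ^ 6 * y * (x' ^ 6)⁻¹ * y⁻¹) d = a := comm_apply hyd hwb hyb hwc
      have hD2 : ((x' ^ 6 * y * (x' ^ 6)⁻¹ * y⁻¹) ^ 2) a = a := by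
        rw [pow_two, Equiv.Perm.mul_apply, hDa, hDd]
      have hcop : Nat.Coprime 2 p :=
        (Nat.coprime_primes Nat.prime_two hp).mpr (by omega)
      exact finish_global G hprim hG hrn hΔ C hNG hconj hw hyN hm (a := a)
        (by rw [hDa]; exact had.symm) hD2 hcop
    · -- the remaining cases: `N₀` induces `(a b c)` and `(a b d)`
      have key : ∃ x ∈ N₀, ∃ y ∈ N₀, x a = b ∧ x c = a ∧ x d = d ∧ y a = b ∧ y d = a ∧
          y c = c := by
        rcases Nat.lt_or_ge r 5 with hr5 | hr5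
        · have hr : r = 4 := by omega
          have hk' : k = 2 := by omega
          subst hr hk'
          obtain ⟨x', hx'N, hx'⟩ := hwitt (Equiv.swap a c * Equiv.swap c b)
            (fun z hz => by
              rw [Equiv.Perm.mul_apply, swap_pres ha hc, swap_pres hc hb]; exact hz)
          obtain ⟨y', hy'N, hy'⟩ := hwitt (Equiv.swap a d * Equiv.swap d b)
            (fun z hz => by
              rw [Equiv.Perm.mul_apply, swap_pres ha hd, swap_pres hd hb]; exact hz)
          have e1 : x' a = c := by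
            rw [hx' a ha]
            simp [Equiv.Perm.mul_apply, Equiv.swap_apply_def, hab, hac, had, hbc, hbd, hcd,
              hab.symm, hac.symm, had.symm, hbc.symm, hbd.symm, hcd.symm]
          have e2 : x' c = b := by
            rw [hx' c hc]
            simp [Equiv.Perm.mul_apply, Equiv.swap_apply_def, hab, hac, had, hbc, hbd, hcd,
              hab.symm, hac.symm, had.symm, hbc.symm, hbd.symm, hcd.symm]
          have e3 : x' b = a := by
            rw [hx' b hb]
            simp [Equiv.Perm.mul_apply, Equiv.swap_apply_def, hab, hac, had, hbc, hbd, hcd,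
              hab.symm, hac.symm, had.symm, hbc.symm, hbd.symm, hcd.symm]
          have e4 : x' d = d := by
            rw [hx' d hd]
            simp [Equiv.Perm.mul_apply, Equiv.swap_apply_def, hab, hac, had, hbc, hbd, hcd,
              hab.symm, hac.symm, had.symm, hbc.symm, hbd.symm, hcd.symm]
          have f1 : y' a = d := by
            rw [hy' a ha]
            simp [Equiv.Perm.mul_apply, Equiv.swap_apply_def, hab, hac, had, hbc, hbd, hcd,
              hab.symm, hac.symm, had.symm, hbc.symm, hbd.symm, hcd.symm]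
          have f2 : y' d = b := by
            rw [hy' d hd]
            simp [Equiv.Perm.mul_apply, Equiv.swap_apply_def, hab, hac, had, hbc, hbd, hcd,
              hab.symm, hac.symm, had.symm, hbc.symm, hbd.symm, hcd.symm]
          have f3 : y' b = a := by
            rw [hy' b hb]
            simp [Equiv.Perm.mul_apply, Equiv.swap_apply_def, hab, hac, had, hbc, hbd, hcd,
              hab.symm, hac.symm, had.symm, hbc.symm, hbd.symm, hcd.symm]
          have f4 : y' c = c := by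
            rw [hy' c hc]
            simp [Equiv.Perm.mul_apply, Equiv.swap_apply_def, hab, hac, had, hbc, hbd, hcd,
              hab.symm, hac.symm, had.symm, hbc.symm, hbd.symm, hcd.symm]
          refine ⟨x' ^ 2, hpow x' hx'N, y' ^ 2, hpow y' hy'N, ?_, ?_, ?_, ?_, ?_, ?_⟩
          · rw [pow_two, Equiv.Perm.mul_apply, e1, e2]
          · rw [pow_two, Equiv.Perm.mul_apply, e2, e3]
          · rw [pow_two, Equiv.Perm.mul_apply, e4, e4]
          · rw [pow_two, Equiv.Perm.mul_apply, f1, f2]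
          · rw [pow_two, Equiv.Perm.mul_apply, f2, f3]
          · rw [pow_two, Equiv.Perm.mul_apply, f4, f4]
        · let π : N →* Equiv.Perm {z // z ∈ Δ} :=
            { toFun := fun y => Equiv.Perm.subtypePerm y.1 (C.N_set y.1 y.2)
              map_one' := by ext; rfl
              map_mul' := by intro y y'; ext; rfl }
          have hπ : ∀ (y : N) (z : α) (hz : z ∈ Δ), (π y ⟨z, hz⟩ : α) = y.1 z :=
            fun y z hz => rfl
          have hsurj : Function.Surjective π := by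
            intro τ
            obtain ⟨y, hyN, hy⟩ := hwitt (Equiv.Perm.ofSubtype τ) (fun z hz => by
              rw [Equiv.Perm.ofSubtype_apply_of_mem τ hz]; exact (τ ⟨z, hz⟩).2)
            refine ⟨⟨y, hyN⟩, ?_⟩
            ext ⟨z, hz⟩
            rw [hπ, hy z hz, Equiv.Perm.ofSubtype_apply_of_mem τ hz]
          have hsurj' := hsurj
          choose f hf using hsurj
          obtain ⟨τ, τ', hne, hmem⟩ := hpig (Equiv.Perm {z // z ∈ Δ}) (fun τ => (f τ).1)
            (fun τ => (f τ).2) (by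
              rw [Fintype.card_perm, Fintype.card_coe, hΔ]
              exact (Nat.factorial_lt (by omega)).mpr hrk)
          let M : Subgroup (Equiv.Perm {z // z ∈ Δ}) := (N₀.subgroupOf N).map π
          have hnormal : (N₀.subgroupOf N).Normal := ⟨fun n hn g => by
            rw [Subgroup.mem_subgroupOf] at hn ⊢
            exact hconj g.1 g.2 n.1 hn⟩
          have hMn : M.Normal := Subgroup.Normal.map hnormal π hsurj'
          have hnt : Nontrivial M := by
            rw [Subgroup.nontrivial_iff_exists_ne_one]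
            refine ⟨π ((f τ)⁻¹ * f τ'), ⟨(f τ)⁻¹ * f τ', Subgroup.mem_subgroupOf.mpr hmem, rfl⟩,
              ?_⟩
            rw [map_mul, map_inv, hf, hf]
            intro h
            exact hne (inv_mul_eq_one.mp h)
          have hA := Equiv.Perm.alternatingGroup_le_of_normal (α := {z // z ∈ Δ})
            (by rw [Nat.card_eq_fintype_card, Fintype.card_coe, hΔ]; exact hr5) hnt
          have h3 : ∀ (u v w : α) (hu : u ∈ Δ) (hv : v ∈ Δ) (hw : w ∈ Δ), u ≠ v → v ≠ w →
              ∃ x ∈ N₀, ∀ z ∈ Δ, x z = (Equiv.swap u v * Equiv.swap v w) z := by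
            intro u v w hu hv hw huv hvw
            have hpres : ∀ z, (Equiv.swap u v * Equiv.swap v w) z ∈ Δ ↔ z ∈ Δ := fun z => by
              rw [Equiv.Perm.mul_apply, swap_pres hu hv, swap_pres hv hw]
            have hmemA : Equiv.Perm.subtypePerm (Equiv.swap u v * Equiv.swap v w) hpres ∈
                alternatingGroup {z // z ∈ Δ} := by
              rw [Equiv.Perm.mem_alternatingGroup]
              have h1 := Equiv.Perm.sign_subtypePerm (Equiv.swap u v * Equiv.swap v w) hpres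
                (by
                  intro z hz
                  by_contra hzΔ
                  apply hz
                  have hzu : z ≠ u := fun h => hzΔ (h ▸ hu)
                  have hzv : z ≠ v := fun h => hzΔ (h ▸ hv)
                  have hzw : z ≠ w := fun h => hzΔ (h ▸ hw)
                  rw [Equiv.Perm.mul_apply, Equiv.swap_apply_of_ne_of_ne hzv hzw,
                    Equiv.swap_apply_of_ne_of_ne hzu hzv])
              have h2 : Equiv.Perm.sign (Equiv.swap u v * Equiv.swap v w) = 1 := by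
                rw [map_mul, Equiv.Perm.sign_swap huv, Equiv.Perm.sign_swap hvw]; rfl
              rw [h2] at h1
              convert h1
            obtain ⟨w₁, hw₁, hw₁e⟩ := hA hmemA
            refine ⟨w₁.1, Subgroup.mem_subgroupOf.mp hw₁, fun z hz => ?_⟩
            have := congrArg (fun t : Equiv.Perm {z // z ∈ Δ} => (t ⟨z, hz⟩ : α)) hw₁e
            exact this
          obtain ⟨x, hx, hxe⟩ := h3 a b c ha hb hc hab hbc
          obtain ⟨y, hy, hye⟩ := h3 a b d ha hb hd hab hbd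
          refine ⟨x, hx, y, hy, ?_, ?_, ?_, ?_, ?_, ?_⟩
          · rw [hxe a ha]
            simp [Equiv.Perm.mul_apply, Equiv.swap_apply_def, hab, hac, had, hbc, hbd, hcd,
              hab.symm, hac.symm, had.symm, hbc.symm, hbd.symm, hcd.symm]
          · rw [hxe c hc]
            simp [Equiv.Perm.mul_apply, Equiv.swap_apply_def, hab, hac, had, hbc, hbd, hcd,
              hab.symm, hac.symm, had.symm, hbc.symm, hbd.symm, hcd.symm]
          · rw [hxe d hd]
            simp [Equiv.Perm.mul_apply, Equiv.swap_apply_def, hab, hac, had, hbc, hbd, hcd,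
              hab.symm, hac.symm, had.symm, hbc.symm, hbd.symm, hcd.symm]
          · rw [hye a ha]
            simp [Equiv.Perm.mul_apply, Equiv.swap_apply_def, hab, hac, had, hbc, hbd, hcd,
              hab.symm, hac.symm, had.symm, hbc.symm, hbd.symm, hcd.symm]
          · rw [hye d hd]
            simp [Equiv.Perm.mul_apply, Equiv.swap_apply_def, hab, hac, had, hbc, hbd, hcd,
              hab.symm, hac.symm, had.symm, hbc.symm, hbd.symm, hcd.symm]
          · rw [hye c hc]
            simp [Equiv.Perm.mul_apply, Equiv.swap_apply_def, hab, hac, had, hbc, hbd, hcd,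
              hab.symm, hac.symm, had.symm, hbc.symm, hbd.symm, hcd.symm]
      obtain ⟨x, hx, y, hy, hxa, hxc, hxd, hya, hyd, hyc⟩ := key
      exact finish_local G hprim hp hp3 hG hrn hΔ C hNG hab hx hy hxa hxc hxd hya hyd hyc

end Cfsg.Agent.S4220
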