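import Mathlib
import Cfsg.Statements.S4221
import Cfsg.Agent.Lib.helper10.Jordan
import Cfsg.Agent.Lib.helper16.Hall4F
-- import your own Cfsg.Agent.* helpers here

set_option autoImplicit false
open Cfsg

namespace Cfsg.Agent.S4221

theorem h4_of_hyp {α : Type*} [Fintype α] [DecidableEq α] (G : Subgroup (Equiv.Perm α))
    (hG : MulAction.IsMultiplyPretransitive G α 4) (x : Fin 4 ↪ α)
    (hodd : Odd (Nat.card (MulAction.stabilizer G x))) :
    Cfsg.Agent.Lib.helper16.Hall4.H4 G := by
  constructor
  · intro p q r s p' q' r' s' hpq hpr hps hqr hqs hrs hpq' hpr' hps' hqr' hqs' hrs'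
    obtain ⟨e₁, he₁⟩ : ∃ e₁ : Fin 4 ↪ α, (e₁ : Fin 4 → α) = ![p, q, r, s] :=
      ⟨⟨![p, q, r, s], Cfsg.Agent.Lib.helper10.injective_vec4 hpq hpr hps hqr hqs hrs⟩, rfl⟩
    obtain ⟨e₂, he₂⟩ : ∃ e₂ : Fin 4 ↪ α, (e₂ : Fin 4 → α) = ![p', q', r', s'] :=
      ⟨⟨![p', q', r', s'],
        Cfsg.Agent.Lib.helper10.injective_vec4 hpq' hpr' hps' hqr' hqs' hrs'⟩, rfl⟩
    obtain ⟨g, hg⟩ := MulAction.exists_smul_eq G e₁ e₂
    have key : ∀ i, g.1 (e₁ i) = e₂ i := by
      intro i
      have h1 := congrFun (congrArg DFunLike.coe hg) i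
      exact h1
    refine ⟨g.1, g.2, ?_, ?_, ?_, ?_⟩
    · have := key 0
      rw [he₁, he₂] at this
      exact this
    · have := key 1
      rw [he₁, he₂] at this
      exact this
    · have := key 2
      rw [he₁, he₂] at this
      exact this
    · have := key 3
      rw [he₁, he₂] at this
      exact this
  · intro g hg p q r s hpq hpr hps hqr hqs hrs hp hq hr hs
    obtain ⟨e₁, he₁⟩ : ∃ e₁ : Fin 4 ↪ α, (e₁ : Fin 4 → α) = ![p, q, r, s] :=
      ⟨⟨![p, q, r, s], Cfsg.Agent.Lib.helper10.injective_vec4 hpq hpr hps hqr hqs hrs⟩, rfl⟩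
    obtain ⟨k, hk⟩ := MulAction.exists_smul_eq G x e₁
    have hmem : (⟨g, hg⟩ : G) ∈ MulAction.stabilizer G e₁ := by
      rw [MulAction.mem_stabilizer_iff]
      ext i
      show g (e₁ i) = e₁ i
      rw [he₁]
      fin_cases i
      · exact hp
      · exact hq
      · exact hr
      · exact hs
    have hcard : Nat.card (MulAction.stabilizer G e₁) = Nat.card (MulAction.stabilizer G x) :=
      (Nat.card_congr (MulAction.stabilizerEquivStabilizer hk.symm).toEquiv).symm
    have h1 : Odd (orderOf (⟨g, hg⟩ : G)) := by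
      apply Odd.of_dvd_nat (hcard ▸ hodd)
      exact Subgroup.orderOf_dvd_natCard _ hmem
    rw [Subgroup.orderOf_mk g hg] at h1
    exact h1


/-- Let `G` be a `4`-fold transitive permutation group on a finite set of `n` points in which the pointwise stabilizer of some four distinct points has odd order. Then `n = 4` or `n = 5` with `G` the full symmetric group, or `n = 6` or `n = 7` with `G` the alternating group, or `n = 11` and `G` has order `7920`. -/
theorem result {α : Type*} [Fintype α] [DecidableEq α] (G : Subgroup (Equiv.Perm α)) (hG : MulAction.IsMultiplyPretransitive G α 4) (x : Fin 4 ↪ α) (hodd : Odd (Nat.card (MulAction.stabilizer G x))) : ((Fintype.card α = 4 ∨ Fintype.card α = 5) ∧ G = ⊤) ∨ ((Fintype.card α = 6 ∨ Fintype.card α = 7) ∧ G = alternatingGroup α) ∨ (Fintype.card α = 11 ∧ Nat.card G = 7920) := by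
  classical
  have hH4 := h4_of_hyp G hG x hodd
  have hG' : MulAction.IsPretransitive G (Fin 4 ↪ α) := hG
  have hcardG : Nat.card G =
      (Fintype.card α).descFactorial 4 * Nat.card (MulAction.stabilizer G x) := by
    have h1 : Nat.card G =
        Nat.card (MulAction.orbit G x) * Nat.card (MulAction.stabilizer G x) := by
      rw [← Nat.card_prod]
      exact (Nat.card_congr (MulAction.orbitProdStabilizerEquivGroup G x)).symm
    have h2 : MulAction.orbit G x = Set.univ := by
      apply Set.eq_univ_of_forall
      intro y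
      obtain ⟨k, hk⟩ := MulAction.exists_smul_eq G x y
      exact ⟨k, hk⟩
    rw [h1, h2, Nat.card_coe_set_eq, Set.ncard_univ, Nat.card_eq_fintype_card,
      Fintype.card_embedding_eq, Fintype.card_fin]
  have hdvd : Nat.card G ∣ (Fintype.card α).factorial := by
    have := Subgroup.card_subgroup_dvd_card G
    rw [Nat.card_eq_fintype_card (α := Equiv.Perm α), Fintype.card_perm] at this
    exact this
  have hcardP : Nat.card (Equiv.Perm α) = (Fintype.card α).factorial := by
    rw [Nat.card_eq_fintype_card, Fintype.card_perm]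
  have hn4 : 4 ≤ Fintype.card α := by
    have := Fintype.card_le_of_embedding x
    simpa using this
  have hpos : 0 < Nat.card (MulAction.stabilizer G x) := Nat.card_pos
  have hconj : ∀ y : Fin 4 ↪ α,
      Nat.card (MulAction.stabilizer G y) = Nat.card (MulAction.stabilizer G x) := by
    intro y
    obtain ⟨k, hk⟩ := MulAction.exists_smul_eq G x y
    exact (Nat.card_congr (MulAction.stabilizerEquivStabilizer hk.symm).toEquiv).symm
  have hidx : Nat.card G * G.index = (Fintype.card α).factorial := by
    rw [← hcardP]; exact Subgroup.card_mul_index G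
  obtain ⟨d, hd⟩ : ∃ d, d = Nat.card (MulAction.stabilizer G x) := ⟨_, rfl⟩
  rw [← hd] at hcardG hodd hpos
  by_cases h8 : 8 ≤ Fintype.card α
  · right; right
    have hx := x.injective
    have hne : ∀ i j : Fin 4, i ≠ j → x i ≠ x j := fun i j hij e => hij (hx e)
    obtain ⟨h11, htriv⟩ := Cfsg.Agent.Lib.helper16.Hall4.hall4_big hH4 h8
      (hne 0 1 (by decide)) (hne 0 2 (by decide)) (hne 0 3 (by decide)) (hne 1 2 (by decide))
      (hne 1 3 (by decide)) (hne 2 3 (by decide))
    refine ⟨h11, ?_⟩
    have hbot : MulAction.stabilizer G x = ⊥ := by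
      rw [eq_bot_iff]
      intro k hk
      rw [MulAction.mem_stabilizer_iff] at hk
      have key : ∀ i, k.1 (x i) = x i := by
        intro i
        have h1 := congrFun (congrArg DFunLike.coe hk) i
        exact h1
      rw [Subgroup.mem_bot]
      exact Subtype.ext (htriv k.1 k.2 (key 0) (key 1) (key 2) (key 3))
    have hd1 : d = 1 := by rw [hd, hbot, Subgroup.card_bot]
    rw [hcardG, h11, hd1]
    rfl
  · have hn : Fintype.card α = 4 ∨ Fintype.card α = 5 ∨ Fintype.card α = 6 ∨
        Fintype.card α = 7 := by omega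
    rcases hn with h | h | h | h
    · left
      refine ⟨Or.inl h, ?_⟩
      rw [h] at hcardG hdvd
      have e1 : Nat.descFactorial 4 4 = 24 := by decide
      have e2 : Nat.factorial 4 = 24 := by decide
      rw [e1] at hcardG
      rw [e2, hcardG] at hdvd
      have hle := Nat.le_of_dvd (by norm_num) hdvd
      have hd1 : d = 1 := by omega
      apply Subgroup.eq_top_of_card_eq
      rw [hcardP, h, e2, hcardG, hd1]
    · left
      refine ⟨Or.inr h, ?_⟩
      rw [h] at hcardG hdvd
      have e1 : Nat.descFactorial 5 4 = 120 := by decide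
      have e2 : Nat.factorial 5 = 120 := by decide
      rw [e1] at hcardG
      rw [e2, hcardG] at hdvd
      have hle := Nat.le_of_dvd (by norm_num) hdvd
      have hd1 : d = 1 := by omega
      apply Subgroup.eq_top_of_card_eq
      rw [hcardP, h, e2, hcardG, hd1]
    · right; left
      refine ⟨Or.inl h, ?_⟩
      rw [h] at hcardG hdvd hidx
      have e1 : Nat.descFactorial 6 4 = 360 := by decide
      have e2 : Nat.factorial 6 = 720 := by decide
      rw [e1] at hcardG
      rw [e2, hcardG] at hdvd
      rw [e2, hcardG] at hidx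
      have hle := Nat.le_of_dvd (by norm_num) hdvd
      obtain ⟨j, hj⟩ := hodd
      have hd1 : d = 1 := by omega
      rw [hd1] at hidx
      apply Equiv.Perm.eq_alternatingGroup_of_index_eq_two
      omega
    · right; left
      refine ⟨Or.inr h, ?_⟩
      rw [h] at hcardG hdvd hidx
      have e1 : Nat.descFactorial 7 4 = 840 := by decide
      have e2 : Nat.factorial 7 = 5040 := by decide
      rw [e1] at hcardG
      rw [e2, hcardG] at hdvd
      rw [e2, hcardG] at hidx
      have hd6 : d ∣ 6 :=
        Nat.dvd_of_mul_dvd_mul_left (by norm_num : 0 < 840) (show 840 * d ∣ 840 * 6 from hdvd)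
      have hd13 : d = 1 ∨ d = 3 := by
        obtain ⟨j, hj⟩ := hodd
        have hle : d ≤ 6 := Nat.le_of_dvd (by norm_num) hd6
        interval_cases d <;> omega
      rcases hd13 with hd1 | hd3
      · exfalso
        have hsharp : ∀ y : Fin 4 ↪ α, MulAction.stabilizer G y = ⊥ := by
          intro y
          apply Subgroup.eq_bot_of_card_eq
          rw [hconj y, ← hd, hd1]
        have h7 := Cfsg.Agent.Lib.helper10.sharp_four_ne_seven (G := G) (α := α) hsharp
        rw [Nat.card_eq_fintype_card] at h7
        exact h7 h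
      · rw [hd3] at hidx
        apply Equiv.Perm.eq_alternatingGroup_of_index_eq_two
        omega

end Cfsg.Agent.S4221
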