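import Cfsg.Statements.S4226
import Cfsg.Agent.Lib.helper57.HallWielandtRes

set_option autoImplicit false
open Cfsg

namespace Cfsg.Agent.S4226

/-- Let `P` be a Sylow `p`-subgroup of the finite group `G` with nilpotency class less than `p` (the term of index `p - 1` of the lower central series of `P`, indexed from `0`, is trivial), and let `N` be its normalizer. Then `O^p(N) = O^p(G) ∩ N`, where `O^p` denotes the subgroup generated by the elements of order prime to `p`; so the largest `p`-factor groups of `G` and of `N` are isomorphic. -/
theorem result {G : Type*} [Group G] [Finite G] {p : ℕ} [Fact p.Prime] (P : Sylow p G) (hcl : (P : Subgroup G).lowerCentralSeries (p - 1) = ⊥) : Cfsg.pResidualOf p (Subgroup.normalizer ((P : Subgroup G) : Set G)) = Cfsg.pResidual p G ⊓ Subgroup.normalizer ((P : Subgroup G) : Set G) := by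
  -- `P` is weakly closed in itself
  have hwc : Cfsg.IsWeaklyClosed (P : Subgroup G) (P : Subgroup G) := by
    refine ⟨le_rfl, fun g hg => ?_⟩
    apply Subgroup.eq_of_le_of_card_ge hg
    have e : Nat.card ↥((P : Subgroup G).map (MulAut.conj g).toMonoidHom) =
        Nat.card ↥(P : Subgroup G) :=
      Nat.card_congr ((P : Subgroup G).equivMapOfInjective (MulAut.conj g).toMonoidHom
        (MulAut.conj g).injective).symm.toEquiv
    exact e.symm.le
  -- the Engel condition from the class bound
  have hE : ∀ u ∈ (P : Subgroup G), ∀ z ∈ (P : Subgroup G),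
      (fun y : G => y⁻¹ * z⁻¹ * y * z)^[p - 1] u = 1 := by
    intro u hu z hz
    have key : ∀ k : ℕ, (fun y : G => y⁻¹ * z⁻¹ * y * z)^[k] u ∈
        (P : Subgroup G).lowerCentralSeries k := by
      intro k
      induction k with
      | zero => exact hu
      | succ k ih =>
        rw [Function.iterate_succ_apply', Subgroup.lowerCentralSeries_succ]
        have h1 := Subgroup.commutator_mem_commutator
          (((P : Subgroup G).lowerCentralSeries k).inv_mem ih) ((P : Subgroup G).inv_mem hz)
        rw [commutatorElement_def, inv_inv, inv_inv] at h1
        exact h1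
    have h2 := key (p - 1)
    rw [hcl, Subgroup.mem_bot] at h2
    exact h2
  exact Cfsg.Agent.Lib.helper57.hallWielandt_residual P (P : Subgroup G) hwc hE

end Cfsg.Agent.S4226
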