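import Mathlib
import Cfsg.Statements.S4230

set_option autoImplicit false
open Cfsg

namespace Cfsg.Agent.S4230

theorem isRoot_iff (p : ℕ) [Fact p.Prime] (x : ZMod p) (j m : ℕ) (hm : ¬ p ∣ m) :
    (Polynomial.cyclotomic (p ^ j * m) (ZMod p)).IsRoot x ↔ orderOf x = m := by
  have : NeZero (m : ZMod p) := ⟨by rwa [Ne, ZMod.natCast_eq_zero_iff]⟩
  have h1 : (Polynomial.cyclotomic (p ^ j * m) (ZMod p)).IsRoot x ↔
      (Polynomial.cyclotomic m (ZMod p)).IsRoot x := by
    rcases Nat.eq_zero_or_pos j with rfl | hj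
    · simp
    · rw [Polynomial.cyclotomic_mul_prime_pow_eq (ZMod p) hm hj, Polynomial.IsRoot.def,
        Polynomial.eval_pow, Polynomial.IsRoot.def]
      have hne : p ^ j - p ^ (j - 1) ≠ 0 := by
        have : p ^ (j - 1) < p ^ j :=
          Nat.pow_lt_pow_right (Fact.out : p.Prime).one_lt (Nat.sub_lt hj Nat.one_pos)
        omega
      exact pow_eq_zero_iff hne
  rw [h1, Polynomial.isRoot_cyclotomic_iff]
  constructor
  · intro h
    exact h.eq_orderOf.symm
  · rintro rfl
    exact IsPrimitiveRoot.orderOf x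

/-- Let p be an odd prime, q a natural number not divisible by p, and e the multiplicative order of q modulo p. For a natural number f, p divides the value at q of the f-th cyclotomic polynomial if and only if f = e·p^j for some j ≥ 0. -/
theorem result (p q f : ℕ) (hp : p.Prime) (hp2 : p ≠ 2) (hpq : ¬ p ∣ q) :
    ((p : ℤ) ∣ (Polynomial.cyclotomic f ℤ).eval (q : ℤ)) ↔ ∃ j : ℕ, f = orderOf (q : ZMod p) * p ^ j := by
  have := Fact.mk hp
  have hx : (q : ZMod p) ≠ 0 := by
    rwa [Ne, ZMod.natCast_eq_zero_iff]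
  have hroot : ((p : ℤ) ∣ (Polynomial.cyclotomic f ℤ).eval (q : ℤ)) ↔
      (Polynomial.cyclotomic f (ZMod p)).IsRoot (q : ZMod p) := by
    rw [← ZMod.intCast_zmod_eq_zero_iff_dvd, Polynomial.IsRoot.def,
      ← Polynomial.map_cyclotomic_int f (ZMod p)]
    have h := Polynomial.eval_map_apply (p := Polynomial.cyclotomic f ℤ) (Int.castRingHom (ZMod p))
      (q : ℤ)
    simp only [eq_intCast, Int.cast_natCast] at h
    rw [h]
  have he : ¬ p ∣ orderOf (q : ZMod p) := by
    intro hdvd
    have h1 := ZMod.orderOf_dvd_card_sub_one hx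
    have h2 : p ∣ p - 1 := hdvd.trans h1
    have h3 : p ≤ p - 1 := Nat.le_of_dvd (by have := hp.two_le; omega) h2
    have := hp.two_le
    omega
  rw [hroot]
  constructor
  · intro h
    rcases Nat.eq_zero_or_pos f with rfl | hf
    · exfalso
      rw [Polynomial.cyclotomic_zero, Polynomial.IsRoot.def, Polynomial.eval_one] at h
      exact one_ne_zero h
    · obtain ⟨j, m, hm, rfl⟩ := Nat.exists_eq_pow_mul_and_not_dvd hf.ne' p hp.ne_one
      rw [isRoot_iff p _ j m hm] at h
      exact ⟨j, by rw [h, mul_comm]⟩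
  · rintro ⟨j, rfl⟩
    rw [mul_comm, isRoot_iff p _ j _ he]

end Cfsg.Agent.S4230
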