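import Cfsg.Statements.S4231
import Mathlib
import Cfsg.Agent.S2119
-- import your own Cfsg.Agent.* helpers here

set_option autoImplicit false
open Cfsg

namespace Cfsg.Agent.S4231

open Equiv Equiv.Perm
open Cfsg.Agent.S2119

/-- an `r`-subgroup of `Sym(α)` with `|α| < r²` is abelian -/
theorem comm_of_pgroup_small {α : Type*} [Fintype α] [DecidableEq α] {r : ℕ} [hr : Fact r.Prime]
    (R : Subgroup (Perm α)) (hR : IsPGroup r R) (hn : Fintype.card α < r ^ 2)
    (x y : Perm α) (hx : x ∈ R) (hy : y ∈ R) : x * y = y * x := by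
  ext o
  let f : R →* Perm (MulAction.orbit R o) := MulAction.toPermHom R (MulAction.orbit R o)
  obtain ⟨j, hj⟩ := hR.card_orbit o
  have hj1 : j ≤ 1 := by
    by_contra hj2
    push Not at hj2
    have h1 : r ^ 2 ≤ Nat.card (MulAction.orbit R o) := by
      rw [hj]; exact Nat.pow_le_pow_right hr.out.pos hj2
    have h2 : Nat.card (MulAction.orbit R o) ≤ Fintype.card α := by
      rw [← Nat.card_eq_fintype_card]
      exact Nat.card_le_card_of_injective _ Subtype.val_injective
    omega
  have hrange : IsPGroup r f.range := hR.of_surjective f.rangeRestrict f.rangeRestrict_surjective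
  obtain ⟨k, hk⟩ := IsPGroup.iff_card.mp hrange
  have hdiv : r ^ k ∣ (Nat.card (MulAction.orbit R o)).factorial := by
    have := Subgroup.card_subgroup_dvd_card f.range
    rwa [Nat.card_perm, hk] at this
  have hk1 : k ≤ 1 := by
    by_contra hk2
    push Not at hk2
    have h1 : r ^ 2 ∣ (Nat.card (MulAction.orbit R o)).factorial :=
      dvd_trans (pow_dvd_pow r hk2) hdiv
    have hr2 := hr.out.two_le
    interval_cases j
    · rw [hj] at h1
      simp only [pow_zero, Nat.factorial_one, Nat.dvd_one] at h1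
      nlinarith
    · rw [hj, pow_one, ← Nat.mul_factorial_pred hr.out.ne_zero, pow_two] at h1
      have h2 : r ∣ (r - 1).factorial := Nat.dvd_of_mul_dvd_mul_left hr.out.pos h1
      have h3 := (hr.out.dvd_factorial).mp h2
      omega
  have hcomm : ∀ a b : f.range, a * b = b * a := by
    interval_cases k
    · rw [pow_zero] at hk
      have : Subsingleton f.range := (Nat.card_eq_one_iff_unique.mp hk).1
      intro a b; rw [Subsingleton.elim a b]
    · rw [pow_one] at hk
      haveI : IsCyclic f.range := isCyclic_of_prime_card hk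
      intro a b
      exact (IsCyclic.commGroup (α := f.range)).mul_comm a b
  have h1 := hcomm ⟨f ⟨x, hx⟩, ⟨_, rfl⟩⟩ ⟨f ⟨y, hy⟩, ⟨_, rfl⟩⟩
  have h2 := congrArg (fun σ : f.range =>
    (((σ : Perm (MulAction.orbit R o)) ⟨o, MulAction.mem_orbit_self o⟩ : MulAction.orbit R o) : α)) h1
  exact h2

/-- a permutation centralizing `A_n` (`n ≥ 4`) is trivial -/
theorem perm_eq_one_of_centralizes {n : ℕ} (hn : 4 ≤ n) (σ : Perm (Fin n))
    (h : ∀ x : alternatingGroup (Fin n), σ * (x : Perm (Fin n)) * σ⁻¹ = x) : σ = 1 := by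
  have hcard : Fintype.card (Fin n) = n := Fintype.card_fin n
  by_contra hne
  obtain ⟨a, ha⟩ : ∃ a, σ a ≠ a := by
    by_contra h; push Not at h; exact hne (Equiv.Perm.ext h)
  obtain ⟨c, -, hc⟩ := Finset.exists_mem_notMem_of_card_lt_card
    (s := ({a, σ a} : Finset (Fin n))) (t := Finset.univ) (by
     calc _ ≤ 2 := Finset.card_le_two
       _ < Fintype.card (Fin n) := by omega
       _ = Finset.univ.card := Finset.card_univ.symm)
  obtain ⟨d, -, hd⟩ := Finset.exists_mem_notMem_of_card_lt_card
    (s := ({a, σ a, c} : Finset (Fin n))) (t := Finset.univ) (by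
     calc _ ≤ 3 := Finset.card_le_three
       _ < Fintype.card (Fin n) := by omega
       _ = Finset.univ.card := Finset.card_univ.symm)
  simp only [Finset.mem_insert, Finset.mem_singleton, not_or] at hc hd
  obtain ⟨hca, hcs⟩ := hc
  obtain ⟨hda, hds, hdc⟩ := hd
  have h3 : Equiv.Perm.IsThreeCycle (cyc (σ a) c d) :=
    cyc_isThreeCycle (Ne.symm hcs) (Ne.symm hds) (Ne.symm hdc)
  have h1 := congrArg (fun f : Perm (Fin n) => f (σ a)) (h ⟨cyc (σ a) c d, h3.mem_alternatingGroup⟩)
  simp only [Equiv.Perm.mul_apply] at h1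
  rw [show σ⁻¹ (σ a) = a from by simp] at h1
  rw [cyc_apply_other ha.symm (Ne.symm hca) (Ne.symm hda),
    cyc_apply_first (Ne.symm hcs) (Ne.symm hds)] at h1
  exact hcs h1.symm

/-- an automorphism of odd order preserving 3-cycles is inner -/
theorem inner_of_odd_order {n : ℕ} (hn : 5 ≤ n) (φ : MulAut (alternatingGroup (Fin n))) (m : ℕ)
    (hm : Odd m) (hφ : φ ^ m = 1)
    (h3 : ∀ x : alternatingGroup (Fin n), IsThreeCycle (x : Perm (Fin n)) →
      IsThreeCycle ((φ x : alternatingGroup (Fin n)) : Perm (Fin n))) :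
    ∃ a : alternatingGroup (Fin n), φ = MulAut.conj a := by
  have hcard : Fintype.card (Fin n) = n := Fintype.card_fin n
  obtain ⟨τ, hτ⟩ := exists_perm_of_preserves (⟨0, by omega⟩ : Fin n) ⟨1, by omega⟩
    (by simp [Fin.ext_iff]) (by rw [hcard]; omega) φ h3
  have hpow : ∀ k : ℕ, ∀ x : alternatingGroup (Fin n),
      (((φ ^ k) x : alternatingGroup (Fin n)) : Perm (Fin n)) = τ ^ k * x * (τ ^ k)⁻¹ := by
    intro k
    induction k with
    | zero => intro x; simp
    | succ k ih =>
      intro x
      rw [pow_succ, MulAut.mul_apply, ih, hτ, pow_succ]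
      group
  have hτm : τ ^ m = 1 := by
    apply perm_eq_one_of_centralizes (by omega : 4 ≤ n)
    intro x
    rw [← hpow m x, hφ]; rfl
  have hsign : Perm.sign τ = 1 := by
    have h1 : (Perm.sign τ) ^ m = 1 := by rw [← map_pow, hτm, map_one]
    rcases Int.units_eq_one_or (Perm.sign τ) with h | h
    · exact h
    · rw [h, hm.neg_one_pow] at h1
      exact absurd h1 (by decide)
  refine ⟨⟨τ, mem_alternatingGroup.mpr hsign⟩, ?_⟩
  ext x : 2
  rw [hτ x]
  simp [MulAut.conj_apply]

section six

theorem cycleType_of_order_three {x : Perm (Fin 6)} (hx3 : x ^ 3 = 1) (hx1 : x ≠ 1) :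
    x.cycleType = {3} ∨ x.cycleType = {3, 3} := by
  haveI : Fact (Nat.Prime 3) := ⟨Nat.prime_three⟩
  have h3 := pow_prime_eq_one_iff.mp hx3
  have hrep : x.cycleType = Multiset.replicate (Multiset.card x.cycleType) 3 :=
    Multiset.eq_replicate.mpr ⟨rfl, h3⟩
  have hsum := sum_cycleType_le x
  rw [hrep] at hsum
  simp only [Multiset.sum_replicate, smul_eq_mul, Fintype.card_fin] at hsum
  have hne : Multiset.card x.cycleType ≠ 0 := by rw [Ne, card_cycleType_eq_zero]; exact hx1
  have h12 : Multiset.card x.cycleType = 1 ∨ Multiset.card x.cycleType = 2 := by omega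
  rcases h12 with h | h
  · left; rw [hrep, h]; rfl
  · right; rw [hrep, h]; rfl

theorem card_three : (Finset.univ.filter (fun g : Perm (Fin 6) => g.cycleType = {3})).card = 40 := by
  rw [card_of_cycleType]
  simp [Nat.factorial]

theorem card_three_three :
    (Finset.univ.filter (fun g : Perm (Fin 6) => g.cycleType = {3, 3})).card = 40 := by
  rw [card_of_cycleType]
  have h1 : (({3, 3} : Multiset ℕ)).toFinset = {3} := by decide
  have h2 : (({3, 3} : Multiset ℕ)).count 3 = 2 := by decide
  have h3 : (({3, 3} : Multiset ℕ)).sum = 6 := by decide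
  have h4 : (({3, 3} : Multiset ℕ)).prod = 9 := by decide
  have h5 : ∀ a ∈ ({3, 3} : Multiset ℕ), 2 ≤ a := by decide
  rw [if_pos ⟨by rw [h3]; simp, h5⟩, h1, h3, h4]
  simp [Nat.factorial]

theorem sq_preserves_six (ψ : MulAut (alternatingGroup (Fin 6))) :
    ∀ x : alternatingGroup (Fin 6), IsThreeCycle (x : Perm (Fin 6)) →
      IsThreeCycle (((ψ * ψ) x : alternatingGroup (Fin 6)) : Perm (Fin 6)) := by
  -- images of elements of order 3
  have hord : ∀ (χ : MulAut (alternatingGroup (Fin 6))) (x : alternatingGroup (Fin 6)),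
      (x : Perm (Fin 6)) ^ 3 = 1 → (x : Perm (Fin 6)) ≠ 1 →
      ((χ x : alternatingGroup (Fin 6)) : Perm (Fin 6)).cycleType = {3} ∨
      ((χ x : alternatingGroup (Fin 6)) : Perm (Fin 6)).cycleType = {3, 3} := by
    intro χ x hx3 hx1
    apply cycleType_of_order_three
    · have h1 : x ^ 3 = 1 := Subtype.ext (by simpa using hx3)
      have h2 : (χ x) ^ 3 = 1 := by rw [← map_pow, h1, map_one]
      have := congrArg Subtype.val h2
      simpa using this
    · intro h
      have h1 : χ x = 1 := Subtype.ext h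
      have h2 : x = 1 := (MulEquiv.map_eq_one_iff χ).mp h1
      exact hx1 (by rw [h2]; rfl)
  have h3c : ∀ x : alternatingGroup (Fin 6), IsThreeCycle (x : Perm (Fin 6)) →
      (x : Perm (Fin 6)) ^ 3 = 1 ∧ (x : Perm (Fin 6)) ≠ 1 := by
    intro x hx
    exact ⟨by rw [← hx.orderOf]; exact pow_orderOf_eq_one _, hx.ne_one⟩
  have h33 : ∀ x : Perm (Fin 6), x.cycleType = {3, 3} → x ^ 3 = 1 ∧ x ≠ 1 ∧
      x ∈ alternatingGroup (Fin 6) := by
    intro x hx
    haveI : Fact (Nat.Prime 3) := ⟨Nat.prime_three⟩
    refine ⟨?_, ?_, ?_⟩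
    · rw [pow_prime_eq_one_iff, hx]; intro c hc; simpa using hc
    · intro h; rw [h, cycleType_one] at hx; exact absurd hx (by decide)
    · rw [mem_alternatingGroup, sign_of_cycleType, hx]; decide
  -- dichotomy
  have hdich : ∀ χ : MulAut (alternatingGroup (Fin 6)),
      (∀ x : alternatingGroup (Fin 6), IsThreeCycle (x : Perm (Fin 6)) →
        IsThreeCycle ((χ x : alternatingGroup (Fin 6)) : Perm (Fin 6))) ∨
      (∀ x : alternatingGroup (Fin 6), IsThreeCycle (x : Perm (Fin 6)) →
        ((χ x : alternatingGroup (Fin 6)) : Perm (Fin 6)).cycleType = {3, 3}) := by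
    intro χ
    have h0 : IsThreeCycle (cyc (0 : Fin 6) 1 2) := cyc_isThreeCycle (by decide) (by decide) (by decide)
    have key : ∀ x : alternatingGroup (Fin 6), IsThreeCycle (x : Perm (Fin 6)) →
        ((χ x : alternatingGroup (Fin 6)) : Perm (Fin 6)).cycleType =
        ((χ ⟨cyc (0 : Fin 6) 1 2, h0.mem_alternatingGroup⟩ : alternatingGroup (Fin 6)) :
          Perm (Fin 6)).cycleType := by
      intro x hx
      have hconj : IsConj (⟨cyc (0 : Fin 6) 1 2, h0.mem_alternatingGroup⟩ :
          alternatingGroup (Fin 6)) x :=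
        alternatingGroup.isThreeCycle_isConj (by simp) h0 hx
      obtain ⟨g, hg⟩ := isConj_iff.mp hconj
      rw [← hg, map_mul, map_mul, map_inv]
      simp only [Subgroup.coe_mul, Subgroup.coe_inv]
      exact cycleType_conj
    rcases hord χ ⟨cyc (0 : Fin 6) 1 2, h0.mem_alternatingGroup⟩ (h3c _ h0).1 (h3c _ h0).2
      with h | h
    · left; intro x hx; rw [IsThreeCycle, key x hx]; exact h
    · right; intro x hx; rw [key x hx]; exact h
  intro x hx
  rw [MulAut.mul_apply]
  rcases hdich ψ with h | h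
  · exact h _ (h _ hx)
  · -- ψ maps 3-cycles onto the class {3,3}; so it maps {3,3} into 3-cycles
    have hsurj := Finset.surj_on_of_inj_on_of_card_le
      (s := Finset.univ.filter (fun g : Perm (Fin 6) => g.cycleType = {3}))
      (t := Finset.univ.filter (fun g : Perm (Fin 6) => g.cycleType = {3, 3}))
      (fun g hg => ((ψ ⟨g, IsThreeCycle.mem_alternatingGroup
        (by simpa [IsThreeCycle] using hg)⟩ : alternatingGroup (Fin 6)) : Perm (Fin 6)))
      (by
        intro g hg
        simp only [Finset.mem_filter, Finset.mem_univ, true_and] at hg ⊢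
        exact h _ hg)
      (by
        intro g1 g2 hg1 hg2 he
        have := ψ.injective (Subtype.ext he)
        exact congrArg Subtype.val this)
      (by rw [card_three, card_three_three])
    have hy := h x hx
    obtain ⟨g, hg, hge⟩ := hsurj _ (by simpa using hy)
    -- ψ x = ψ g' with g' a 3-cycle; now consider ψ (ψ x)
    have hyy := h33 _ hy
    rcases hord ψ (ψ x) hyy.1 hyy.2.1 with h' | h'
    · exact h'
    · exfalso
      obtain ⟨g2, hg2, hge2⟩ := hsurj _ (by simpa using h')
      have h1 : ψ x = ⟨g2, IsThreeCycle.mem_alternatingGroup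
          (by simpa [IsThreeCycle] using hg2)⟩ := by
        apply ψ.injective
        exact Subtype.ext hge2
      have h2 : ((ψ x : alternatingGroup (Fin 6)) : Perm (Fin 6)).cycleType = {3} := by
        rw [h1]; simpa using hg2
      rw [hy] at h2
      exact absurd h2 (by decide)

theorem preserves_six (φ : MulAut (alternatingGroup (Fin 6))) (m : ℕ) (hm : Odd m)
    (hφ : φ ^ m = 1) : ∀ x : alternatingGroup (Fin 6), IsThreeCycle (x : Perm (Fin 6)) →
      IsThreeCycle ((φ x : alternatingGroup (Fin 6)) : Perm (Fin 6)) := by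
  obtain ⟨k, hk⟩ := hm
  have hφeq : φ = (φ * φ) ^ (k + 1) := by
    have : (φ * φ) ^ (k + 1) = φ ^ m * φ := by
      rw [hk, ← pow_two, ← pow_mul, ← pow_succ]; congr 1
    rw [this, hφ, one_mul]
  have hpow : ∀ j : ℕ, ∀ x : alternatingGroup (Fin 6), IsThreeCycle (x : Perm (Fin 6)) →
      IsThreeCycle ((((φ * φ) ^ j) x : alternatingGroup (Fin 6)) : Perm (Fin 6)) := by
    intro j
    induction j with
    | zero => intro x hx; simpa using hx
    | succ j ih =>
      intro x hx
      rw [pow_succ, MulAut.mul_apply]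
      exact ih _ (sq_preserves_six φ x hx)
  intro x hx
  rw [hφeq]
  exact hpow (k + 1) x hx

end six

/-- elements of order `p * q` in `A_n` -/
theorem exists_order_mul {n p q : ℕ} (hp : p.Prime) (hq : q.Prime) (hpq : p ≠ q)
    (hn : if p = 2 then q + 4 ≤ n else if q = 2 then p + 4 ≤ n else p + q ≤ n) :
    ∃ g : alternatingGroup (Fin n), orderOf g = p * q := by
  have hcop : Nat.Coprime p q := (Nat.coprime_primes hp hq).mpr hpq
  have key : ∀ m : Multiset ℕ, m.sum ≤ n → (∀ a ∈ m, 2 ≤ a) → Even (m.sum + Multiset.card m) →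
      m.lcm = p * q → ∃ g : alternatingGroup (Fin n), orderOf g = p * q := by
    intro m h1 h2 h3 h4
    obtain ⟨g, hg⟩ := (Equiv.Perm.exists_with_cycleType_iff (Fin n)).mpr
      ⟨by rw [Fintype.card_fin]; exact h1, h2⟩
    have hsign : Perm.sign g = 1 := by
      rw [sign_of_cycleType, hg]; exact h3.neg_one_pow
    refine ⟨⟨g, mem_alternatingGroup.mpr hsign⟩, ?_⟩
    rw [Subgroup.orderOf_mk, ← lcm_cycleType, hg, h4]
  by_cases hp2 : p = 2
  · rw [if_pos hp2] at hn
    have hqodd : Odd q := hq.odd_of_ne_two (fun h => hpq (hp2.trans h.symm))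
    apply key {2, 2, q}
    · simp only [Multiset.insert_eq_cons, Multiset.sum_cons, Multiset.sum_singleton]; omega
    · intro a ha
      simp only [Multiset.insert_eq_cons, Multiset.mem_cons, Multiset.mem_singleton] at ha
      have := hq.two_le
      rcases ha with rfl | rfl | rfl <;> omega
    · simp only [Multiset.insert_eq_cons, Multiset.sum_cons, Multiset.sum_singleton,
        Multiset.card_cons, Multiset.card_singleton]
      obtain ⟨k, hk⟩ := hqodd
      exact ⟨k + 4, by omega⟩
    · simp only [Multiset.insert_eq_cons, Multiset.lcm_cons, Multiset.lcm_singleton,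
        normalize_eq]
      subst hp2
      have h2q : Nat.lcm 2 q = 2 * q := hcop.lcm_eq_mul
      change Nat.lcm 2 (Nat.lcm 2 q) = 2 * q
      rw [h2q]
      exact Nat.lcm_eq_right (dvd_mul_right 2 q)
  by_cases hq2 : q = 2
  · rw [if_neg hp2, if_pos hq2] at hn
    have hpodd : Odd p := hp.odd_of_ne_two hp2
    apply key {2, 2, p}
    · simp only [Multiset.insert_eq_cons, Multiset.sum_cons, Multiset.sum_singleton]; omega
    · intro a ha
      simp only [Multiset.insert_eq_cons, Multiset.mem_cons, Multiset.mem_singleton] at ha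
      have := hp.two_le
      rcases ha with rfl | rfl | rfl <;> omega
    · simp only [Multiset.insert_eq_cons, Multiset.sum_cons, Multiset.sum_singleton,
        Multiset.card_cons, Multiset.card_singleton]
      obtain ⟨k, hk⟩ := hpodd
      exact ⟨k + 4, by omega⟩
    · simp only [Multiset.insert_eq_cons, Multiset.lcm_cons, Multiset.lcm_singleton,
        normalize_eq]
      subst hq2
      have h2p : Nat.lcm 2 p = 2 * p := hcop.symm.lcm_eq_mul
      change Nat.lcm 2 (Nat.lcm 2 p) = p * 2
      rw [h2p, mul_comm p 2]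
      exact Nat.lcm_eq_right (dvd_mul_right 2 p)
  · rw [if_neg hp2, if_neg hq2] at hn
    have hpodd : Odd p := hp.odd_of_ne_two hp2
    have hqodd : Odd q := hq.odd_of_ne_two hq2
    apply key {p, q}
    · simp only [Multiset.insert_eq_cons, Multiset.sum_cons, Multiset.sum_singleton]; omega
    · intro a ha
      simp only [Multiset.insert_eq_cons, Multiset.mem_cons, Multiset.mem_singleton] at ha
      have := hp.two_le
      have := hq.two_le
      rcases ha with rfl | rfl <;> omega
    · simp only [Multiset.insert_eq_cons, Multiset.sum_cons, Multiset.sum_singleton,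
        Multiset.card_cons, Multiset.card_singleton]
      obtain ⟨k, hk⟩ := hpodd
      obtain ⟨l, hl⟩ := hqodd
      exact ⟨k + l + 2, by omega⟩
    · simp only [Multiset.insert_eq_cons, Multiset.lcm_cons, Multiset.lcm_singleton,
        normalize_eq]
      exact hcop.lcm_eq_mul


/-- Let n ≥ 5 and let G be a group of automorphisms of the alternating group of degree n containing all inner automorphisms. If p ≠ q are primes and G has no element of order pq, then every Sylow p-subgroup of G is abelian or every Sylow q-subgroup of G is abelian. -/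
theorem result (n : ℕ) (hn : 5 ≤ n) (G : Subgroup (MulAut (alternatingGroup (Fin n))))
    (hG : (MulAut.conj : alternatingGroup (Fin n) →* MulAut (alternatingGroup (Fin n))).range ≤ G)
    (p q : ℕ) [Fact p.Prime] [Fact q.Prime] (hpq : p ≠ q) (h : ∀ g : G, orderOf g ≠ p * q) :
    (∀ P : Sylow p G, IsMulCommutative (P : Subgroup G)) ∨ (∀ Q : Sylow q G, IsMulCommutative (Q : Subgroup G)) := by
  classical
  have hn4 : 4 ≤ n := by omega
  have hcinj : Function.Injective
      (MulAut.conj : alternatingGroup (Fin n) →* MulAut (alternatingGroup (Fin n))) := by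
    rw [injective_iff_map_eq_one]
    intro a ha
    apply Subtype.ext
    apply perm_eq_one_of_centralizes hn4
    intro x
    have := congrArg (fun f : MulAut (alternatingGroup (Fin n)) =>
      ((f x : alternatingGroup (Fin n)) : Perm (Fin n))) ha
    simpa [MulAut.conj_apply] using this
  have K : ∀ (r : ℕ) [Fact r.Prime], r ≠ 2 → n < r ^ 2 → ∀ R : Sylow r G,
      IsMulCommutative (R : Subgroup G) := by
    intro r hr hr2 hnr R
    have hrodd : Odd r := hr.out.odd_of_ne_two hr2
    have hinner : ∀ x : G, x ∈ R → ∃ a : alternatingGroup (Fin n),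
        (x : MulAut (alternatingGroup (Fin n))) = MulAut.conj a := by
      intro x hx
      obtain ⟨k, hk⟩ := (IsPGroup.iff_orderOf.mp R.isPGroup') ⟨x, hx⟩
      have hxk : (x : MulAut (alternatingGroup (Fin n))) ^ (r ^ k) = 1 := by
        have h1 : (⟨x, hx⟩ : R) ^ (r ^ k) = 1 := by rw [← hk]; exact pow_orderOf_eq_one _
        have h2 := congrArg (fun y : R => ((y : G) : MulAut (alternatingGroup (Fin n)))) h1
        simpa using h2
      have hodd : Odd (r ^ k) := hrodd.pow
      apply inner_of_odd_order hn _ (r ^ k) hodd hxk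
      by_cases h6 : n = 6
      · subst h6
        exact preserves_six _ (r ^ k) hodd hxk
      · exact aut_isThreeCycle (by rw [Fintype.card_fin]; exact h6) _
    let R'' : Subgroup (Perm (Fin n)) :=
      { carrier := {σ | ∃ a : alternatingGroup (Fin n), (a : Perm (Fin n)) = σ ∧
          ∃ hx : MulAut.conj a ∈ G, (⟨MulAut.conj a, hx⟩ : G) ∈ R}
        mul_mem' := by
          rintro σ ρ ⟨a, rfl, ha, ha'⟩ ⟨b, rfl, hb, hb'⟩
          refine ⟨a * b, rfl, by rw [map_mul]; exact mul_mem ha hb, ?_⟩
          have : (⟨MulAut.conj (a * b), by rw [map_mul]; exact mul_mem ha hb⟩ : G)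
              = ⟨MulAut.conj a, ha⟩ * ⟨MulAut.conj b, hb⟩ := Subtype.ext (map_mul _ _ _)
          rw [this]; exact mul_mem ha' hb'
        one_mem' := ⟨1, rfl, by rw [map_one]; exact one_mem _, by
          have : (⟨MulAut.conj (1 : alternatingGroup (Fin n)),
              by rw [map_one]; exact one_mem _⟩ : G) = 1 := Subtype.ext (map_one _)
          rw [this]; exact one_mem _⟩
        inv_mem' := by
          rintro σ ⟨a, rfl, ha, ha'⟩
          refine ⟨a⁻¹, rfl, by rw [map_inv]; exact inv_mem ha, ?_⟩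
          have : (⟨MulAut.conj a⁻¹, by rw [map_inv]; exact inv_mem ha⟩ : G)
              = (⟨MulAut.conj a, ha⟩ : G)⁻¹ := Subtype.ext (map_inv _ _)
          rw [this]; exact inv_mem ha' }
    have hR'' : IsPGroup r R'' := by
      rintro ⟨σ, a, rfl, ha, ha'⟩
      obtain ⟨k, hk⟩ := (IsPGroup.iff_orderOf.mp R.isPGroup') ⟨⟨MulAut.conj a, ha⟩, ha'⟩
      refine ⟨k, ?_⟩
      have h1 : (⟨⟨MulAut.conj a, ha⟩, ha'⟩ : R) ^ (r ^ k) = 1 := by
        rw [← hk]; exact pow_orderOf_eq_one _
      have h2 : (MulAut.conj a : MulAut (alternatingGroup (Fin n))) ^ (r ^ k) = 1 := by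
        have h2' := congrArg (fun y : R => ((y : G) : MulAut (alternatingGroup (Fin n)))) h1
        simpa using h2'
      rw [← map_pow] at h2
      have h3 : a ^ (r ^ k) = 1 := hcinj (by rw [h2, map_one])
      apply Subtype.ext
      have h4 := congrArg Subtype.val h3
      simpa using h4
    refine ⟨⟨fun x y => ?_⟩⟩
    obtain ⟨a, ha⟩ := hinner x.1 x.2
    obtain ⟨b, hb⟩ := hinner y.1 y.2
    have hab : (a : Perm (Fin n)) * b = b * a := by
      apply comm_of_pgroup_small R'' hR'' (by rw [Fintype.card_fin]; exact hnr)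
      · exact ⟨a, rfl, ha ▸ x.1.2, by
          have : (⟨MulAut.conj a, ha ▸ x.1.2⟩ : G) = x.1 := Subtype.ext ha.symm
          rw [this]; exact x.2⟩
      · exact ⟨b, rfl, hb ▸ y.1.2, by
          have : (⟨MulAut.conj b, hb ▸ y.1.2⟩ : G) = y.1 := Subtype.ext hb.symm
          rw [this]; exact y.2⟩
    have hab' : a * b = b * a := Subtype.ext hab
    apply Subtype.ext; apply Subtype.ext
    simp only [Subgroup.coe_mul]
    rw [ha, hb, ← map_mul, ← map_mul, hab']
  by_contra hcon
  push Not at hcon
  obtain ⟨⟨P, hP⟩, ⟨Q, hQ⟩⟩ := hcon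
  have hp := (Fact.out : p.Prime)
  have hq := (Fact.out : q.Prime)
  have hpn : p ≠ 2 → p ^ 2 ≤ n := by
    intro h2; by_contra hlt; exact hP (K p h2 (by omega) P)
  have hqn : q ≠ 2 → q ^ 2 ≤ n := by
    intro h2; by_contra hlt; exact hQ (K q h2 (by omega) Q)
  have hcond : if p = 2 then q + 4 ≤ n else if q = 2 then p + 4 ≤ n else p + q ≤ n := by
    by_cases hp2 : p = 2
    · rw [if_pos hp2]
      have hq2 : q ≠ 2 := fun h => hpq (hp2.trans h.symm)
      have := hqn hq2
      have hq3 : 3 ≤ q := lt_of_le_of_ne hq.two_le (Ne.symm hq2)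
      nlinarith
    by_cases hq2 : q = 2
    · rw [if_neg hp2, if_pos hq2]
      have := hpn hp2
      have hp3 : 3 ≤ p := lt_of_le_of_ne hp.two_le (Ne.symm hp2)
      nlinarith
    · rw [if_neg hp2, if_neg hq2]
      have h1 := hpn hp2
      have h2 := hqn hq2
      have hp3 : 3 ≤ p := lt_of_le_of_ne hp.two_le (Ne.symm hp2)
      have hq3 : 3 ≤ q := lt_of_le_of_ne hq.two_le (Ne.symm hq2)
      nlinarith
  obtain ⟨g, hg⟩ := exists_order_mul hp hq hpq hcond
  apply h ⟨MulAut.conj g, hG ⟨g, rfl⟩⟩
  rw [Subgroup.orderOf_mk, orderOf_injective _ hcinj, hg]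

end Cfsg.Agent.S4231
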