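import Cfsg.Statements.S4237
import Cfsg.Agent.Lib.helper97.Miller
import Cfsg.Agent.Lib.helper97.WielandtSq

set_option autoImplicit false
open Cfsg

namespace Cfsg.Agent.S4237

open Cfsg.Agent.Lib.helper97 Cfsg.Agent.Lib.helper69

/-- Let G be a finite group, p a prime and a a natural number such that p^(a+1) divides the order of G. Then the number of subgroups of G of order p^a is congruent to 1 or to 1 + p modulo p². -/
theorem result {G : Type*} [Group G] [Finite G] (p a : ℕ) (hp : p.Prime) (hdvd : p ^ (a + 1) ∣ Nat.card G) :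
    Nat.card {H : Subgroup G // Nat.card H = p ^ a} ≡ 1 [MOD p ^ 2] ∨
      Nat.card {H : Subgroup G // Nat.card H = p ^ a} ≡ 1 + p [MOD p ^ 2] := by
  classical
  have hpf : Fact p.Prime := ⟨hp⟩
  obtain ⟨n', hn⟩ := hdvd
  have hW := card_subgroups_modEq_sq (G := G) p (a + 1) n' hp (by omega) hn
  rw [Nat.add_sub_cancel] at hW
  have hda : p ^ a ∣ Nat.card G := by
    rw [hn]
    exact Dvd.dvd.mul_right (pow_dvd_pow p (Nat.le_succ a)) n'
  rcases eq_or_ne p 2 with rfl | hp2
  · have h1 := card_subgroups_prime_pow_modEq_one (G := G) 2 a hp hda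
    obtain ⟨N, hN⟩ : ∃ N : ℕ, N = Nat.card {H : Subgroup G // Nat.card H = 2 ^ a} := ⟨_, rfl⟩
    rw [← hN] at h1 ⊢
    have h2 : N % 2 = 1 := h1
    have h3 : N % 4 = 1 ∨ N % 4 = 3 := by omega
    rcases h3 with h3 | h3
    · left; exact h3
    · right; exact h3
  · rcases Nat.eq_zero_or_pos a with rfl | ha
    · left
      have h1 : Nat.card {H : Subgroup G // Nat.card H = p ^ 0} = 1 := by
        rw [Nat.card_eq_one_iff_unique]
        constructor
        · constructor
          rintro ⟨H, hH⟩ ⟨K, hK⟩
          rw [pow_zero, Subgroup.card_eq_one] at hH hK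
          exact Subtype.ext (hH.trans hK.symm)
        · exact ⟨⟨⊥, by rw [pow_zero, Subgroup.card_eq_one]⟩⟩
      rw [h1]
    · obtain ⟨P⟩ : Nonempty (Sylow p G) := inferInstance
      by_cases hPc : IsCyclic P
      · left
        have h0 : Nat.card {H : Subgroup G // Nat.card H = p ^ (a + 1) ∧ ¬ IsCyclic H} = 0 := by
          have : IsEmpty {H : Subgroup G // Nat.card H = p ^ (a + 1) ∧ ¬ IsCyclic H} := by
            constructor
            rintro ⟨H, hH, hHnc⟩
            apply hHnc
            obtain ⟨Q, hHQ⟩ := (IsPGroup.of_card hH).exists_le_sylow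
            have hQc : IsCyclic Q := (Sylow.equiv P Q).isCyclic.mp hPc
            have h1 : IsCyclic (H.subgroupOf Q) := Subgroup.isCyclic _
            exact (Subgroup.subgroupOfEquivOfLe hHQ).isCyclic.mp h1
          exact Nat.card_of_isEmpty
        rw [h0, mul_zero, add_zero] at hW
        exact hW
      · right
        have hcyc := card_cyclic_subgroups_dvd_of_sylow p hp2 P hPc (a + 1) (by omega)
        have hnβ := card_subgroups_prime_pow_modEq_one (G := G) p (a + 1) hp ⟨n', hn⟩
        have e : ({H : Subgroup G // Nat.card H = p ^ (a + 1) ∧ ¬ IsCyclic H} ⊕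
            {C : Subgroup G // IsCyclic C ∧ Nat.card C = p ^ (a + 1)}) ≃
            {H : Subgroup G // Nat.card H = p ^ (a + 1)} :=
          { toFun := fun x => Sum.elim (fun C => ⟨C.1, C.2.1⟩) (fun C => ⟨C.1, C.2.2⟩) x
            invFun := fun C => if h : IsCyclic C.1 then Sum.inr ⟨C.1, h, C.2⟩
              else Sum.inl ⟨C.1, C.2, h⟩
            left_inv := by
              rintro (⟨C, hC, h⟩ | ⟨C, h, hC⟩)
              · exact dif_neg h
              · exact dif_pos h
            right_inv := by
              rintro ⟨C, hC⟩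
              by_cases h : IsCyclic C
              · simp [h]
              · simp [h] }
        rw [← Nat.card_congr e, Nat.card_sum] at hnβ
        obtain ⟨c, hc⟩ : ∃ c : ℕ,
            c = Nat.card {H : Subgroup G // Nat.card H = p ^ (a + 1) ∧ ¬ IsCyclic H} := ⟨_, rfl⟩
        rw [← hc] at hnβ hW
        have h1 : c ≡ 1 [MOD p] := by
          have h2 : c + Nat.card {C : Subgroup G // IsCyclic C ∧ Nat.card C = p ^ (a + 1)} ≡
              c + 0 [MOD p] :=
            Nat.ModEq.add_left c ((Nat.modEq_zero_iff_dvd).mpr hcyc)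
          rw [add_zero] at h2
          exact h2.symm.trans hnβ
        have h3 : p * c ≡ p * 1 [MOD p * p] := Nat.ModEq.mul_left' p h1
        rw [mul_one, ← pow_two] at h3
        exact hW.trans (Nat.ModEq.add_left 1 h3)

end Cfsg.Agent.S4237
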