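import Mathlib
import Cfsg.Statements.S4238
import Cfsg.Agent.Lib.helper67.Frobenius
import Cfsg.Agent.Lib.helper38.HallHigman2

set_option autoImplicit false
open Cfsg
open scoped commutatorElement

namespace Cfsg.Agent.S4238

open Cfsg.Agent.Lib.helper40 Cfsg.Agent.Lib.helper38 Cfsg.Agent.Lib.helper67

/-- A group `Y = V ⋊ ⟨c⟩` with `V` a minimal normal `p`-subgroup and `c` a `p'`-element not
centralizing `V`: the quotient `Y / O_{p'}(Y)` has no element whose order is the exponent. -/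
theorem no_exponent_element {Y : Type*} [Group Y] [Finite Y] {p : ℕ} [Fact p.Prime]
    (V : Subgroup Y) [hVn : V.Normal] (hVp : IsPGroup p V) (c : Y) (hc : (orderOf c).Coprime p)
    (hsup : V ⊔ Subgroup.zpowers c = ⊤)
    (hcV : ¬ ∀ v ∈ V, c * v = v * c)
    (hmin : ∀ L : Subgroup Y, L.Normal → L ≤ V → L = ⊥ ∨ L = V) :
    ∀ k : Y ⧸ Cfsg.pPrimeCore p Y, orderOf k ≠ Monoid.exponent (Y ⧸ Cfsg.pPrimeCore p Y) := by
  classical
  have hp : p.Prime := Fact.out
  have hOn : (Cfsg.pPrimeCore p Y).Normal := pPrimeCore_normal' p Y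
  -- every element is `v * c ^ i`
  have hdecomp : ∀ y : Y, ∃ v ∈ V, ∃ i : ℤ, y = v * c ^ i := by
    intro y
    have hy : y ∈ V ⊔ Subgroup.zpowers c := by rw [hsup]; trivial
    obtain ⟨v, hv, z, hz, rfl⟩ := Subgroup.mem_sup_of_normal_left.mp hy
    obtain ⟨i, rfl⟩ := Subgroup.mem_zpowers_iff.mp hz
    exact ⟨v, hv, i, rfl⟩
  have hVne : V ≠ ⊥ := by
    intro h
    apply hcV
    intro v hv
    rw [h, Subgroup.mem_bot] at hv
    rw [hv]
    simp
  -- `V` is abelian
  have hVab : ∀ a ∈ V, ∀ b ∈ V, a * b = b * a := by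
    have : Nontrivial V := (Subgroup.nontrivial_iff_ne_bot V).mpr hVne
    have hZn : ((Subgroup.center V).map V.subtype).Normal :=
      ConjAct.normal_of_characteristic_of_normal
    have hZle : (Subgroup.center V).map V.subtype ≤ V := Subgroup.map_subtype_le _
    have hZne : (Subgroup.center V).map V.subtype ≠ ⊥ := by
      have hnt : Nontrivial (Subgroup.center V) := hVp.center_nontrivial
      intro h
      rw [Subgroup.map_eq_bot_iff_of_injective _ (Subgroup.subtype_injective _)] at h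
      exact (Subgroup.nontrivial_iff_ne_bot _).mp hnt h
    have hZ := (hmin _ hZn hZle).resolve_left hZne
    intro a ha b hb
    have ha' : a ∈ (Subgroup.center V).map V.subtype := by rw [hZ]; exact ha
    obtain ⟨a', ha'', rfl⟩ := ha'
    have h1 := Subgroup.mem_center_iff.mp ha'' ⟨b, hb⟩
    have h2 := congrArg Subtype.val h1
    simpa using h2.symm
  -- `O_{p'}(Y) ∩ V = 1`
  have hOV : ∀ y, y ∈ Cfsg.pPrimeCore p Y → y ∈ V → y = 1 := by
    intro y hyO hyV
    obtain ⟨j, hj⟩ := hVp ⟨y, hyV⟩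
    have hj' : y ^ p ^ j = 1 := by simpa using congrArg Subtype.val hj
    exact eq_one_of_pow_eq_one_of_coprime hj' (orderOf_coprime_of_mem_pPrimeCore hyO)
  -- `c ∉ O_{p'}(Y)`
  have hcO : c ∉ Cfsg.pPrimeCore p Y := by
    intro hcO
    apply hcV
    intro v hv
    have h1 : c * v * c⁻¹ * v⁻¹ ∈ Cfsg.pPrimeCore p Y := by
      have e : c * v * c⁻¹ * v⁻¹ = c * (v * c⁻¹ * v⁻¹) := by group
      rw [e]
      exact Subgroup.mul_mem _ hcO (hOn.conj_mem _ (Subgroup.inv_mem _ hcO) v)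
    have h2 : c * v * c⁻¹ * v⁻¹ ∈ V := V.mul_mem (hVn.conj_mem _ hv c) (V.inv_mem hv)
    have h3 := hOV _ h1 h2
    calc c * v = (c * v * c⁻¹ * v⁻¹) * (v * c) := by group
      _ = v * c := by rw [h3, one_mul]
  intro k hk
  -- notation for the quotient
  have hπs := QuotientGroup.mk'_surjective (Cfsg.pPrimeCore p Y)
  have hπ1 : ∀ y : Y, QuotientGroup.mk' (Cfsg.pPrimeCore p Y) y = 1 ↔ y ∈ Cfsg.pPrimeCore p Y :=
    fun y => QuotientGroup.eq_one_iff y
  -- the order `m` of the image of `c`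
  have hm1 : orderOf (QuotientGroup.mk' (Cfsg.pPrimeCore p Y) c) ≠ 1 := by
    intro h
    rw [orderOf_eq_one_iff, hπ1] at h
    exact hcO h
  have hmcop : (orderOf (QuotientGroup.mk' (Cfsg.pPrimeCore p Y) c)).Coprime p :=
    Nat.Coprime.coprime_dvd_left (orderOf_map_dvd _ c) hc
  have hm0 : orderOf (QuotientGroup.mk' (Cfsg.pPrimeCore p Y) c) ≠ 0 := (orderOf_pos _).ne'
  obtain ⟨a, ha⟩ := hVp.exists_card_eq
  -- Claim A: `y ^ m` lies in the image of `V`
  have hA : ∀ y : Y, ∃ v ∈ V, QuotientGroup.mk' (Cfsg.pPrimeCore p Y) y ^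
      orderOf (QuotientGroup.mk' (Cfsg.pPrimeCore p Y) c) =
      QuotientGroup.mk' (Cfsg.pPrimeCore p Y) v := by
    intro y
    obtain ⟨v, hv, i, rfl⟩ := hdecomp y
    -- `(v c^i)^n = v_n c^(i n)`
    have hpow : ∀ n : ℕ, ∃ w ∈ V, (v * c ^ i) ^ n = w * c ^ (i * n) := by
      intro n
      induction n with
      | zero => exact ⟨1, V.one_mem, by simp⟩
      | succ n ih =>
        obtain ⟨w, hw, e⟩ := ih
        refine ⟨w * (c ^ (i * n) * v * (c ^ (i * n))⁻¹), V.mul_mem hw (hVn.conj_mem _ hv _), ?_⟩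
        rw [pow_succ, e]
        have e2 : c ^ (i * ((n + 1 : ℕ) : ℤ)) = c ^ (i * n) * c ^ i := by
          rw [← zpow_add]
          congr 1
          push_cast
          ring
        rw [e2]
        group
    obtain ⟨w, hw, e⟩ := hpow (orderOf (QuotientGroup.mk' (Cfsg.pPrimeCore p Y) c))
    refine ⟨w, hw, ?_⟩
    rw [← map_pow, e, map_mul, map_zpow, zpow_mul, zpow_natCast (_ ^ i), ← zpow_natCast,
      ← zpow_mul, mul_comm, zpow_mul, zpow_natCast, pow_orderOf_eq_one, one_zpow, mul_one]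
  -- the exponent
  have hE1 : Monoid.exponent (Y ⧸ Cfsg.pPrimeCore p Y) ∣
      orderOf (QuotientGroup.mk' (Cfsg.pPrimeCore p Y) c) * p ^ a := by
    apply Monoid.exponent_dvd_of_forall_pow_eq_one
    intro y
    obtain ⟨y, rfl⟩ := hπs y
    obtain ⟨v, hv, e⟩ := hA y
    rw [pow_mul, e, ← map_pow]
    have h1 : (⟨v, hv⟩ : V) ^ p ^ a = 1 := by rw [← ha]; exact pow_card_eq_one'
    have h2 : v ^ p ^ a = 1 := by simpa using congrArg Subtype.val h1
    rw [h2, map_one]
  have hE2 : orderOf (QuotientGroup.mk' (Cfsg.pPrimeCore p Y) c) ∣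
      Monoid.exponent (Y ⧸ Cfsg.pPrimeCore p Y) := Monoid.order_dvd_exponent _
  have hE3 : p ∣ Monoid.exponent (Y ⧸ Cfsg.pPrimeCore p Y) := by
    obtain ⟨v, hv, hv1⟩ : ∃ v ∈ V, v ≠ 1 := by
      by_contra hcon
      push Not at hcon
      apply hVne
      rw [eq_bot_iff]
      intro v hv
      exact Subgroup.mem_bot.mpr (hcon v hv)
    have h1 : QuotientGroup.mk' (Cfsg.pPrimeCore p Y) v ≠ 1 := by
      intro h
      rw [hπ1] at h
      exact hv1 (hOV v h hv)
    obtain ⟨j, hj⟩ := hVp ⟨v, hv⟩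
    have hj' : v ^ p ^ j = 1 := by simpa using congrArg Subtype.val hj
    have h2 : orderOf (QuotientGroup.mk' (Cfsg.pPrimeCore p Y) v) ∣ p ^ j := by
      apply orderOf_dvd_of_pow_eq_one
      rw [← map_pow, hj', map_one]
    obtain ⟨j', -, hj''⟩ := (Nat.dvd_prime_pow hp).mp h2
    have hj0 : j' ≠ 0 := by
      rintro rfl
      rw [pow_zero, orderOf_eq_one_iff] at hj''
      exact h1 hj''
    have h3 : p ∣ orderOf (QuotientGroup.mk' (Cfsg.pPrimeCore p Y) v) := by
      rw [hj'']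
      exact dvd_pow_self p hj0
    exact h3.trans (Monoid.order_dvd_exponent _)
  -- write `E = m * t` with `t = p ^ e`, `e ≠ 0`
  obtain ⟨t, ht⟩ := hE2
  have htdvd : t ∣ p ^ a := by
    rw [ht] at hE1
    exact (Nat.mul_dvd_mul_iff_left (Nat.pos_of_ne_zero hm0)).mp hE1
  obtain ⟨e, -, hte⟩ := (Nat.dvd_prime_pow hp).mp htdvd
  have he0 : e ≠ 0 := by
    rintro rfl
    rw [pow_zero] at hte
    rw [ht, hte, mul_one] at hE3
    exact hp.one_lt.ne' (Nat.Coprime.eq_one_of_dvd (Nat.Coprime.symm hmcop) hE3)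
  have ht0 : t ≠ 0 := by rw [hte]; exact (pow_pos hp.pos e).ne'
  have hkm : orderOf (k ^ orderOf (QuotientGroup.mk' (Cfsg.pPrimeCore p Y) c)) = t := by
    rw [orderOf_pow' k hm0, hk, ht, Nat.gcd_mul_right_left, Nat.mul_div_cancel_left _
      (Nat.pos_of_ne_zero hm0)]
  have hkt : orderOf (k ^ t) = orderOf (QuotientGroup.mk' (Cfsg.pPrimeCore p Y) c) := by
    rw [orderOf_pow' k ht0, hk, ht, Nat.gcd_mul_left_left, Nat.mul_div_cancel _
      (Nat.pos_of_ne_zero ht0)]
  obtain ⟨y, rfl⟩ := hπs k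
  obtain ⟨x, hx, hxe⟩ := hA y
  have hx1 : x ≠ 1 := by
    rintro rfl
    rw [map_one] at hxe
    rw [hxe, orderOf_one] at hkm
    have h1 : p ^ e = 1 := by rw [← hte, ← hkm]
    rcases Nat.pow_eq_one.mp h1 with h | h
    · exact hp.one_lt.ne' h
    · exact he0 h
  obtain ⟨v₀, hv₀, j, hyt⟩ := hdecomp (y ^ t)
  -- `y ^ t` commutes with `x`
  have hcomm1 : y ^ t * x = x * y ^ t := by
    have h1 : y ^ t * x * (y ^ t)⁻¹ * x⁻¹ ∈ Cfsg.pPrimeCore p Y := by
      rw [← hπ1]
      simp only [map_mul, map_inv, map_pow]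
      rw [← hxe]
      have hc2 : Commute (QuotientGroup.mk' (Cfsg.pPrimeCore p Y) y ^ t)
          (QuotientGroup.mk' (Cfsg.pPrimeCore p Y) y ^
            orderOf (QuotientGroup.mk' (Cfsg.pPrimeCore p Y) c)) := Commute.pow_pow_self _ _ _
      rw [hc2.eq]
      group
    have h2 : y ^ t * x * (y ^ t)⁻¹ * x⁻¹ ∈ V := V.mul_mem (hVn.conj_mem _ hx _) (V.inv_mem hx)
    have h3 := hOV _ h1 h2
    calc y ^ t * x = (y ^ t * x * (y ^ t)⁻¹ * x⁻¹) * (x * y ^ t) := by group
      _ = x * y ^ t := by rw [h3, one_mul]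
  have hcomm2 : c ^ j * x = x * c ^ j := by
    rw [hyt] at hcomm1
    have h1 : v₀ * x = x * v₀ := hVab v₀ hv₀ x hx
    have h2 : v₀ * (c ^ j * x) = v₀ * (x * c ^ j) := by
      calc v₀ * (c ^ j * x) = v₀ * c ^ j * x := by group
        _ = x * (v₀ * c ^ j) := hcomm1
        _ = (x * v₀) * c ^ j := by group
        _ = (v₀ * x) * c ^ j := by rw [h1]
        _ = v₀ * (x * c ^ j) := by group
    exact mul_left_cancel h2
  -- `L = C_V(c ^ j)` is normal and nontrivial, hence equal to `V`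
  have hLn : (V ⊓ Subgroup.centralizer ({c ^ j} : Set Y)).Normal := by
    refine ⟨fun l hl y' => ?_⟩
    obtain ⟨hlV, hlc⟩ := Subgroup.mem_inf.mp hl
    have hlc' : c ^ j * l = l * c ^ j := by
      rw [Subgroup.mem_centralizer_iff] at hlc
      exact hlc _ rfl
    obtain ⟨v, hv, i, rfl⟩ := hdecomp y'
    have h1 : c ^ i * l * (c ^ i)⁻¹ ∈ V := hVn.conj_mem _ hlV _
    have h2 : v * c ^ i * l * (v * c ^ i)⁻¹ = c ^ i * l * (c ^ i)⁻¹ := by
      have h3 := hVab v hv _ h1
      calc v * c ^ i * l * (v * c ^ i)⁻¹ = (v * (c ^ i * l * (c ^ i)⁻¹)) * v⁻¹ := by group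
        _ = ((c ^ i * l * (c ^ i)⁻¹) * v) * v⁻¹ := by rw [h3]
        _ = c ^ i * l * (c ^ i)⁻¹ := by group
    rw [h2]
    refine Subgroup.mem_inf.mpr ⟨h1, ?_⟩
    rw [Subgroup.mem_centralizer_iff]
    rintro _ rfl
    have hcc : c ^ j * c ^ i = c ^ i * c ^ j := by rw [← zpow_add, ← zpow_add, add_comm]
    calc c ^ j * (c ^ i * l * (c ^ i)⁻¹) = (c ^ j * c ^ i) * l * (c ^ i)⁻¹ := by group
      _ = c ^ i * (c ^ j * l) * (c ^ i)⁻¹ := by rw [hcc]; group
      _ = c ^ i * (l * c ^ j) * (c ^ i)⁻¹ := by rw [hlc']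
      _ = c ^ i * l * ((c ^ j * c ^ i) * (c ^ i)⁻¹ * (c ^ i)⁻¹) := by rw [hcc]; group
      _ = c ^ i * l * (c ^ i)⁻¹ * c ^ j := by rw [hcc]; group
  have hLV : V ⊓ Subgroup.centralizer ({c ^ j} : Set Y) = V := by
    refine (hmin _ hLn inf_le_left).resolve_left ?_
    intro h
    have hxL : x ∈ V ⊓ Subgroup.centralizer ({c ^ j} : Set Y) := by
      refine Subgroup.mem_inf.mpr ⟨hx, ?_⟩
      rw [Subgroup.mem_centralizer_iff]
      rintro _ rfl
      exact hcomm2
    rw [h, Subgroup.mem_bot] at hxL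
    exact hx1 hxL
  have hcjV : ∀ v ∈ V, c ^ j * v = v * c ^ j := by
    intro v hv
    have : v ∈ V ⊓ Subgroup.centralizer ({c ^ j} : Set Y) := by rw [hLV]; exact hv
    have h2 := (Subgroup.mem_inf.mp this).2
    rw [Subgroup.mem_centralizer_iff] at h2
    exact h2 _ rfl
  -- `⟨c ^ j⟩` is a normal `p'`-subgroup
  have hZn : (Subgroup.zpowers (c ^ j)).Normal := by
    refine ⟨fun z hz y' => ?_⟩
    obtain ⟨n, rfl⟩ := Subgroup.mem_zpowers_iff.mp hz
    obtain ⟨v, hv, i, rfl⟩ := hdecomp y'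
    have h1 : Commute (c ^ j) v := hcjV v hv
    have h2 : Commute ((c ^ j) ^ n) v := h1.zpow_left n
    have h3 : Commute ((c ^ j) ^ n) (c ^ i) := by
      rw [← zpow_mul]
      exact (Commute.refl c).zpow_zpow _ _
    have h4 : v * c ^ i * (c ^ j) ^ n * (v * c ^ i)⁻¹ = (c ^ j) ^ n := by
      calc v * c ^ i * (c ^ j) ^ n * (v * c ^ i)⁻¹
          = v * ((c ^ j) ^ n * c ^ i) * (c ^ i)⁻¹ * v⁻¹ := by rw [h3.eq]; group
        _ = ((c ^ j) ^ n * v) * v⁻¹ := by rw [h2.eq]; group
        _ = (c ^ j) ^ n := by group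
    rw [h4]
    exact hz
  have hZcop : (Nat.card (Subgroup.zpowers (c ^ j))).Coprime p := by
    rw [Nat.card_zpowers]
    refine Nat.Coprime.coprime_dvd_left ?_ hc
    apply orderOf_dvd_of_pow_eq_one
    rw [← zpow_natCast, ← zpow_mul, mul_comm, zpow_mul, zpow_natCast, pow_orderOf_eq_one, one_zpow]
  have hcjO : c ^ j ∈ Cfsg.pPrimeCore p Y :=
    le_pPrimeCore _ hZn hZcop (Subgroup.mem_zpowers _)
  -- so `k ^ t` is the image of `v₀`, a `p`-element of order `m`
  have hkt' : QuotientGroup.mk' (Cfsg.pPrimeCore p Y) y ^ t =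
      QuotientGroup.mk' (Cfsg.pPrimeCore p Y) v₀ := by
    rw [← map_pow, hyt, map_mul, (hπ1 _).mpr hcjO, mul_one]
  have h5 : orderOf (QuotientGroup.mk' (Cfsg.pPrimeCore p Y) c) ∣ p ^ a := by
    rw [← hkt, hkt']
    apply orderOf_dvd_of_pow_eq_one
    have h1 : (⟨v₀, hv₀⟩ : V) ^ p ^ a = 1 := by rw [← ha]; exact pow_card_eq_one'
    have h2 : v₀ ^ p ^ a = 1 := by simpa using congrArg Subtype.val h1
    rw [← map_pow, h2, map_one]
  exact hm1 (Nat.Coprime.eq_one_of_dvd (Nat.Coprime.pow_right a hmcop) h5)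

/-- Frobenius' condition passes along injective homomorphisms. -/
theorem frobCond_of_injective {X Y : Type*} [Group X] [Group Y] {p : ℕ} (f : X →* Y)
    (hf : Function.Injective f) (h : FrobCond p Y) : FrobCond p X := by
  intro Q hQ g hg hcop
  have hQ' : IsPGroup p (Q.map f) := hQ.map f
  have hg' : f g ∈ Subgroup.normalizer ((Q.map f : Subgroup Y) : Set Y) := by
    rw [Subgroup.mem_normalizer_iff] at hg ⊢
    intro y
    constructor
    · rintro ⟨q, hq, rfl⟩
      exact ⟨g * q * g⁻¹, (hg q).mp hq, by simp⟩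
    · rintro ⟨q', hq', hq'e⟩
      refine ⟨g⁻¹ * q' * g, ?_, ?_⟩
      · apply (hg (g⁻¹ * q' * g)).mpr
        have e : g * (g⁻¹ * q' * g) * g⁻¹ = q' := by group
        rw [e]
        exact hq'
      · simp only [map_mul, map_inv, hq'e]
        group
  have hord : (orderOf (f g)).Coprime p := by rwa [orderOf_injective f hf g]
  have h1 := h _ hQ' (f g) hg' hord
  rw [Subgroup.mem_centralizer_iff] at h1 ⊢
  intro q hq
  apply hf
  rw [map_mul, map_mul]
  exact h1 (f q) ⟨q, hq, rfl⟩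

/-- Triviality of `O_{p'}` is transported along isomorphisms. -/
theorem pPrimeCore_eq_bot_of_mulEquiv {X Y : Type*} [Group X] [Group Y] {p : ℕ} (e : X ≃* Y)
    (h : Cfsg.pPrimeCore p Y = ⊥) : Cfsg.pPrimeCore p X = ⊥ := by
  rw [eq_bot_iff]
  unfold Cfsg.pPrimeCore
  apply sSup_le
  rintro N ⟨hNn, hNc⟩
  have h1 : (N.map e.toMonoidHom).Normal := hNn.map e.toMonoidHom e.surjective
  have h2 : (Nat.card (N.map e.toMonoidHom)).Coprime p := by
    have : Nat.card (N.map e.toMonoidHom) = Nat.card N :=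
      Nat.card_congr (N.equivMapOfInjective e.toMonoidHom e.injective).toEquiv.symm
    rw [this]
    exact hNc
  have h3 := le_pPrimeCore _ h1 h2
  rw [h] at h3
  intro x hx
  have h4 : e x ∈ N.map e.toMonoidHom := ⟨x, hx, rfl⟩
  have h5 := h3 h4
  rw [Subgroup.mem_bot] at h5 ⊢
  exact e.injective (by rw [h5, map_one])

/-- The structure of a group in which Frobenius' condition fails but holds in every proper
subgroup. -/
theorem structure_of_minimal {Y : Type*} [Group Y] [Finite Y] {p : ℕ} [Fact p.Prime]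
    (hnot : ¬ FrobCond p Y) (hmin : ∀ H : Subgroup Y, H ≠ ⊤ → FrobCond p H) :
    ∃ (P W : Subgroup Y) (g : Y), P.Normal ∧ IsPGroup p P ∧ W.Normal ∧ W ≤ P ∧
      (orderOf g).Coprime p ∧ P ⊔ Subgroup.zpowers g = ⊤ ∧
      (¬ ∀ x ∈ P, g * x * g⁻¹ * x⁻¹ ∈ W) ∧
      (∀ L : Subgroup Y, L.Normal → W ≤ L → L ≤ P → L = W ∨ L = P) := by
  classical
  have hp : p.Prime := Fact.out
  unfold FrobCond at hnot
  push Not at hnot
  obtain ⟨P, hPp, g, hgN, hgcop, hgC⟩ := hnot
  have hcent : ∀ Q : Subgroup Y, IsPGroup p Q → g ∈ Subgroup.normalizer (Q : Set Y) →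
      Q ⊔ Subgroup.zpowers g ≠ ⊤ → ∀ q ∈ Q, g * q = q * g := by
    intro Q hQ hgQ hne q hq
    have hF := hmin _ hne
    have hgK : g ∈ Q ⊔ Subgroup.zpowers g :=
      le_sup_right (α := Subgroup Y) (Subgroup.mem_zpowers g)
    have hQK : Q ≤ Q ⊔ Subgroup.zpowers g := le_sup_left
    have hQ' : IsPGroup p (Q.subgroupOf (Q ⊔ Subgroup.zpowers g)) :=
      hQ.comap_of_injective _ (Subgroup.subtype_injective _)
    have hgn : (⟨g, hgK⟩ : ↥(Q ⊔ Subgroup.zpowers g)) ∈ Subgroup.normalizer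
        ((Q.subgroupOf (Q ⊔ Subgroup.zpowers g) : Subgroup _) : Set _) := by
      rw [Subgroup.mem_normalizer_iff] at hgQ ⊢
      intro h
      rw [Subgroup.mem_subgroupOf, Subgroup.mem_subgroupOf]
      exact hgQ h
    have hord : (orderOf (⟨g, hgK⟩ : ↥(Q ⊔ Subgroup.zpowers g))).Coprime p := by
      rwa [Subgroup.orderOf_mk]
    have h1 := hF _ hQ' _ hgn hord
    rw [Subgroup.mem_centralizer_iff] at h1
    have h2 := h1 ⟨q, hQK hq⟩ (by rw [SetLike.mem_coe, Subgroup.mem_subgroupOf]; exact hq)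
    have h3 := congrArg Subtype.val h2
    simpa using h3.symm
  have hPg : P ⊔ Subgroup.zpowers g = ⊤ := by
    by_contra hne
    apply hgC
    rw [Subgroup.mem_centralizer_iff]
    intro q hq
    exact (hcent P hPp hgN hne q hq).symm
  have hPn : P.Normal := by
    rw [← Subgroup.normalizer_eq_top_iff, eq_top_iff, ← hPg]
    exact sup_le Subgroup.le_normalizer (by rw [Subgroup.zpowers_le]; exact hgN)
  have hPne : P ≠ ⊥ := by
    rintro rfl
    apply hgC
    rw [Subgroup.mem_centralizer_iff]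
    intro q hq
    rw [SetLike.mem_coe, Subgroup.mem_bot] at hq
    rw [hq]
    simp
  have hne : Nonempty {L : Subgroup Y // L.Normal ∧ L ≤ P ∧ L ≠ P} :=
    ⟨⟨⊥, inferInstance, bot_le, fun h => hPne h.symm⟩⟩
  obtain ⟨⟨W, hWn, hWP, hWne⟩, hWmax⟩ := Finite.exists_max
    (fun L : {L : Subgroup Y // L.Normal ∧ L ≤ P ∧ L ≠ P} => Nat.card (L : Subgroup Y))
  have hmaxW : ∀ L : Subgroup Y, L.Normal → W ≤ L → L ≤ P → L = W ∨ L = P := by
    intro L hLn hWL hLP
    by_cases hL : L = P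
    · exact Or.inr hL
    · left
      have := hWmax ⟨L, hLn, hLP, hL⟩
      exact (Subgroup.eq_of_le_of_card_ge hWL this).symm
  have hWg : W ⊔ Subgroup.zpowers g ≠ ⊤ := by
    intro htop
    apply hWne
    apply le_antisymm hWP
    intro x hx
    have hx' : x ∈ W ⊔ Subgroup.zpowers g := by rw [htop]; trivial
    obtain ⟨w, hw, z, hz, rfl⟩ := Subgroup.mem_sup_of_normal_left.mp hx'
    have hzP : z ∈ P := by
      have e : z = w⁻¹ * (w * z) := by group
      rw [e]
      exact P.mul_mem (P.inv_mem (hWP hw)) hx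
    obtain ⟨j, hj⟩ := hPp ⟨z, hzP⟩
    have hj' : z ^ p ^ j = 1 := by simpa using congrArg Subtype.val hj
    have hzcop : (orderOf z).Coprime p := by
      obtain ⟨i, rfl⟩ := Subgroup.mem_zpowers_iff.mp hz
      refine Nat.Coprime.coprime_dvd_left ?_ hgcop
      apply orderOf_dvd_of_pow_eq_one
      rw [← zpow_natCast, ← zpow_mul, mul_comm, zpow_mul, zpow_natCast, pow_orderOf_eq_one,
        one_zpow]
    have hz1 : z = 1 := eq_one_of_pow_eq_one_of_coprime hj' hzcop
    rw [hz1, mul_one]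
    exact hw
  have hgW : ∀ w ∈ W, g * w = w * g := by
    apply hcent W (hPp.to_le hWP) _ hWg
    rw [Subgroup.normalizer_eq_top_iff.mpr hWn]
    trivial
  have hnontriv : ¬ ∀ x ∈ P, g * x * g⁻¹ * x⁻¹ ∈ W := by
    intro hall
    apply hgC
    rw [Subgroup.mem_centralizer_iff]
    intro x hx
    have hwW : g * x * g⁻¹ * x⁻¹ ∈ W := hall x hx
    have hgw : Commute g (g * x * g⁻¹ * x⁻¹) := hgW _ hwW
    have hk : ∀ k : ℕ, g ^ k * x * (g ^ k)⁻¹ = (g * x * g⁻¹ * x⁻¹) ^ k * x := by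
      intro k
      induction k with
      | zero => simp
      | succ k ih =>
        have e1 : g ^ (k + 1) * x * (g ^ (k + 1))⁻¹ = g * (g ^ k * x * (g ^ k)⁻¹) * g⁻¹ := by
          rw [pow_succ']
          group
        rw [e1, ih]
        have hc : Commute g ((g * x * g⁻¹ * x⁻¹) ^ k) := hgw.pow_right k
        calc g * ((g * x * g⁻¹ * x⁻¹) ^ k * x) * g⁻¹
            = (g * (g * x * g⁻¹ * x⁻¹) ^ k) * x * g⁻¹ := by group
          _ = ((g * x * g⁻¹ * x⁻¹) ^ k * g) * x * g⁻¹ := by rw [hc.eq]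
          _ = (g * x * g⁻¹ * x⁻¹) ^ k * (g * x * g⁻¹ * x⁻¹) * x := by group
          _ = (g * x * g⁻¹ * x⁻¹) ^ (k + 1) * x := by rw [← pow_succ]
    have h1 := hk (orderOf g)
    rw [pow_orderOf_eq_one] at h1
    have h2 : (g * x * g⁻¹ * x⁻¹) ^ orderOf g = 1 := by
      have e2 : (g * x * g⁻¹ * x⁻¹) ^ orderOf g * x = x := by rw [← h1]; group
      exact mul_eq_right.mp e2
    obtain ⟨j, hj⟩ := hPp ⟨g * x * g⁻¹ * x⁻¹, hWP hwW⟩
    have hj' : (g * x * g⁻¹ * x⁻¹) ^ p ^ j = 1 := by simpa using congrArg Subtype.val hj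
    have hwcop : (orderOf (g * x * g⁻¹ * x⁻¹)).Coprime p :=
      Nat.Coprime.coprime_dvd_left (orderOf_dvd_of_pow_eq_one h2) hgcop
    have hw1 : g * x * g⁻¹ * x⁻¹ = 1 := eq_one_of_pow_eq_one_of_coprime hj' hwcop
    calc x * g = (g * x * g⁻¹ * x⁻¹)⁻¹ * (g * x) := by group
      _ = g * x := by rw [hw1]; simp
  exact ⟨P, W, g, hPn, hPp, hWn, hWP, hgcop, hPg, hnontriv, hmaxW⟩

/-- A group in which Frobenius' condition fails but holds in every proper subgroup has a quotient
with trivial `O_{p'}` and no element whose order is the exponent. -/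
theorem exists_bad_quotient {Y : Type*} [Group Y] [Finite Y] {p : ℕ} [Fact p.Prime]
    (hnot : ¬ FrobCond p Y) (hmin : ∀ H : Subgroup Y, H ≠ ⊤ → FrobCond p H) :
    ∃ (N : Subgroup Y) (_ : N.Normal), Cfsg.pPrimeCore p (Y ⧸ N) = ⊥ ∧
      ∀ k : Y ⧸ N, orderOf k ≠ Monoid.exponent (Y ⧸ N) := by
  obtain ⟨P, W, g, hPn, hPp, hWn, hWP, hgcop, hPg, hnontriv, hmaxW⟩ :=
    structure_of_minimal hnot hmin
  have hπs : Function.Surjective (QuotientGroup.mk' W) := QuotientGroup.mk'_surjective W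
  have hVn : (P.map (QuotientGroup.mk' W)).Normal := hPn.map _ hπs
  have hVp : IsPGroup p (P.map (QuotientGroup.mk' W)) := hPp.map _
  have hccop : (orderOf (QuotientGroup.mk' W g)).Coprime p :=
    Nat.Coprime.coprime_dvd_left (orderOf_map_dvd _ g) hgcop
  have hsup : P.map (QuotientGroup.mk' W) ⊔ Subgroup.zpowers (QuotientGroup.mk' W g) = ⊤ := by
    rw [← MonoidHom.map_zpowers, ← Subgroup.map_sup, hPg, Subgroup.map_top_of_surjective _ hπs]
  have hcV : ¬ ∀ v ∈ P.map (QuotientGroup.mk' W),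
      QuotientGroup.mk' W g * v = v * QuotientGroup.mk' W g := by
    intro h
    apply hnontriv
    intro x hx
    have h1 := h (QuotientGroup.mk' W x) (Subgroup.mem_map_of_mem _ hx)
    rw [← QuotientGroup.eq_one_iff]
    have h2 : QuotientGroup.mk' W (g * x * g⁻¹ * x⁻¹) = 1 := by
      simp only [map_mul, map_inv]
      rw [h1]
      group
    exact h2
  have hmin' : ∀ L : Subgroup (Y ⧸ W), L.Normal → L ≤ P.map (QuotientGroup.mk' W) →
      L = ⊥ ∨ L = P.map (QuotientGroup.mk' W) := by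
    intro L hLn hLV
    have h1 : (L.comap (QuotientGroup.mk' W)).Normal := hLn.comap _
    have h2 : W ≤ L.comap (QuotientGroup.mk' W) := by
      intro w hw
      rw [Subgroup.mem_comap]
      have : QuotientGroup.mk' W w = 1 := (QuotientGroup.eq_one_iff w).mpr hw
      rw [this]
      exact L.one_mem
    have h3 : L.comap (QuotientGroup.mk' W) ≤ P := by
      intro x hx
      obtain ⟨y, hy, hyx⟩ := hLV hx
      have h4 : y⁻¹ * x ∈ W := QuotientGroup.eq.mp hyx
      have e : x = y * (y⁻¹ * x) := by group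
      rw [e]
      exact P.mul_mem hy (hWP h4)
    rcases hmaxW _ h1 h2 h3 with h | h
    · left
      rw [← Subgroup.map_comap_eq_self_of_surjective hπs L, h]
      exact QuotientGroup.map_mk'_self W
    · right
      rw [← Subgroup.map_comap_eq_self_of_surjective hπs L, h]
  have hX := no_exponent_element (P.map (QuotientGroup.mk' W)) hVp (QuotientGroup.mk' W g) hccop
    hsup hcV hmin'
  have hψs : Function.Surjective ((QuotientGroup.mk' (Cfsg.pPrimeCore p (Y ⧸ W))).comp
      (QuotientGroup.mk' W)) := (QuotientGroup.mk'_surjective _).comp hπs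
  refine ⟨((QuotientGroup.mk' (Cfsg.pPrimeCore p (Y ⧸ W))).comp (QuotientGroup.mk' W)).ker,
    inferInstance, ?_, ?_⟩
  · exact pPrimeCore_eq_bot_of_mulEquiv (QuotientGroup.quotientKerEquivOfSurjective _ hψs)
      (pPrimeCore_quotient_pPrimeCore p (Y ⧸ W))
  · intro k hk
    apply hX (QuotientGroup.quotientKerEquivOfSurjective _ hψs k)
    rw [MulEquiv.orderOf_eq, hk]
    exact Monoid.exponent_eq_of_mulEquiv (QuotientGroup.quotientKerEquivOfSurjective _ hψs)

theorem exists_minimal_not_frobCond {G : Type*} [Group G] [Finite G] {p : ℕ} :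
    ∀ (n : ℕ) (H : Subgroup G), Nat.card H = n → ¬ FrobCond p H →
      ∃ H₀ : Subgroup G, ¬ FrobCond p H₀ ∧ ∀ H' : Subgroup G, H' < H₀ → FrobCond p H' := by
  intro n
  induction n using Nat.strong_induction_on with
  | _ n ih =>
    intro H hn hH
    by_cases hall : ∀ H' : Subgroup G, H' < H → FrobCond p H'
    · exact ⟨H, hH, hall⟩
    · push Not at hall
      obtain ⟨H', hlt, hH'⟩ := hall
      have hcard : Nat.card H' < n := by
        rw [← hn]
        exact lt_of_le_of_ne (Subgroup.card_le_of_le hlt.le)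
          (fun hc => hlt.ne (Subgroup.eq_of_le_of_card_ge hlt.le hc.ge))
      exact ih (Nat.card H') hcard H' rfl hH'

/-- A finite `p`-group has an element whose order is the exponent. -/
theorem exists_orderOf_eq_exponent {K : Type*} [Group K] [Finite K] {p : ℕ} [Fact p.Prime]
    (hK : IsPGroup p K) : ∃ k : K, orderOf k = Monoid.exponent K := by
  have hp : p.Prime := Fact.out
  obtain ⟨k₀, hk₀⟩ := Finite.exists_max (fun k : K => orderOf k)
  refine ⟨k₀, Nat.dvd_antisymm (Monoid.order_dvd_exponent k₀) ?_⟩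
  apply Monoid.exponent_dvd_of_forall_pow_eq_one
  intro k
  obtain ⟨n, hn⟩ := hK k
  obtain ⟨j, -, hj⟩ := (Nat.dvd_prime_pow hp).mp (orderOf_dvd_of_pow_eq_one hn)
  obtain ⟨n₀, hn₀⟩ := hK k₀
  obtain ⟨e, -, he⟩ := (Nat.dvd_prime_pow hp).mp (orderOf_dvd_of_pow_eq_one hn₀)
  have hle : p ^ j ≤ p ^ e := by
    rw [← hj, ← he]
    exact hk₀ k
  have hje : j ≤ e := (Nat.pow_le_pow_iff_right hp.one_lt).mp hle
  rw [← orderOf_dvd_iff_pow_eq_one, hj, he]
  exact pow_dvd_pow p hje

/-- Let G be a finite group and p a prime. Then G has a normal p-complement if and only if every section K = H/N of G (N a normal subgroup of a subgroup H) whose largest normal subgroup of order prime to p is trivial contains an element whose order equals the exponent of K. -/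
theorem result {G : Type*} [Group G] [Finite G] (p : ℕ) [Fact p.Prime] :
    Cfsg.HasNormalPComplement p G ↔
      ∀ (H : Subgroup G) (N : Subgroup H) [N.Normal], Cfsg.pPrimeCore p (H ⧸ N) = ⊥ →
        ∃ k : H ⧸ N, orderOf k = Monoid.exponent (H ⧸ N) := by
  have hp : p.Prime := Fact.out
  constructor
  · rintro ⟨P, M, hMn, hMP⟩ H N _ hcore
    obtain ⟨a, ha⟩ := P.isPGroup'.exists_card_eq
    have hidx : M.index = p ^ a := by rw [← ha]; exact hMP.symm.index_eq_card
    have hMcop : (Nat.card M).Coprime p := by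
      have h1 : (P : Subgroup G).index = Nat.card M := hMP.index_eq_card
      rw [← h1]
      exact ((Nat.Prime.coprime_iff_not_dvd hp).mpr P.not_dvd_index).symm
    have hMH : (M.subgroupOf H).Normal := inferInstance
    have hLn : ((M.subgroupOf H).map (QuotientGroup.mk' N)).Normal :=
      hMH.map _ (QuotientGroup.mk'_surjective N)
    have hLcop : (Nat.card ((M.subgroupOf H).map (QuotientGroup.mk' N))).Coprime p := by
      have h1 : Nat.card ((M.subgroupOf H).map (QuotientGroup.mk' N)) ∣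
          Nat.card (M.subgroupOf H) := Subgroup.card_map_dvd _ _
      have h2 : Nat.card (M.subgroupOf H) ∣ Nat.card M := by
        have : Nat.card (M.subgroupOf H) = Nat.card (M ⊓ H : Subgroup G) :=
          Nat.card_congr (Subgroup.subgroupOfEquivOfLe (inf_le_right : M ⊓ H ≤ H)).toEquiv.symm ▸ by
            rw [Subgroup.inf_subgroupOf_right]
        rw [this]
        exact Subgroup.card_dvd_of_le inf_le_left
      exact Nat.Coprime.coprime_dvd_left (h1.trans h2) hMcop
    have hL := le_pPrimeCore _ hLn hLcop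
    rw [hcore] at hL
    have hMN : M.subgroupOf H ≤ N := by
      intro x hx
      have h1 : QuotientGroup.mk' N x ∈ (M.subgroupOf H).map (QuotientGroup.mk' N) :=
        Subgroup.mem_map_of_mem _ hx
      have h2 := hL h1
      rw [Subgroup.mem_bot] at h2
      exact (QuotientGroup.eq_one_iff x).mp h2
    have hKp : IsPGroup p (H ⧸ N) := by
      intro k
      obtain ⟨h, rfl⟩ := QuotientGroup.mk'_surjective N k
      refine ⟨a, ?_⟩
      rw [← map_pow, QuotientGroup.mk'_apply, QuotientGroup.eq_one_iff]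
      apply hMN
      rw [Subgroup.mem_subgroupOf, Subgroup.coe_pow]
      rw [← QuotientGroup.eq_one_iff, QuotientGroup.mk_pow, ← hidx, Subgroup.index_eq_card]
      exact pow_card_eq_one'
    exact exists_orderOf_eq_exponent hKp
  · intro hsec
    by_contra hnot
    have hF : ¬ FrobCond p G := fun h => hnot h.hasNormalPComplement
    have etop : G ≃* (⊤ : Subgroup G) := Subgroup.topEquiv.symm
    have hFtop : ¬ FrobCond p (⊤ : Subgroup G) := fun h =>
      hF (frobCond_of_injective etop.toMonoidHom etop.injective h)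
    obtain ⟨H₀, hH₀, hH₀min⟩ := exists_minimal_not_frobCond _ ⊤ rfl hFtop
    have hmin : ∀ H : Subgroup H₀, H ≠ ⊤ → FrobCond p H := by
      intro H hH
      have hlt : H.map H₀.subtype < H₀ := by
        refine lt_of_le_of_ne (Subgroup.map_subtype_le H) ?_
        intro h
        apply hH
        rw [eq_top_iff]
        intro x _
        have hx : (x : G) ∈ H.map H₀.subtype := by rw [h]; exact x.2
        obtain ⟨y, hy, hyx⟩ := hx
        have : y = x := Subtype.ext hyx
        rwa [← this]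
      have h1 := hH₀min _ hlt
      exact frobCond_of_injective
        (H.equivMapOfInjective H₀.subtype (Subgroup.subtype_injective _)).toMonoidHom
        (H.equivMapOfInjective H₀.subtype (Subgroup.subtype_injective _)).injective h1
    obtain ⟨N, hN, hcore, hbad⟩ := exists_bad_quotient hH₀ hmin
    obtain ⟨k, hk⟩ := hsec H₀ N hcore
    exact hbad k hk

end Cfsg.Agent.S4238
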