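import Cfsg.Statements.S4242
import Mathlib
import Cfsg.Agent.S0071
import Cfsg.Agent.Lib.helper1.ThompsonFpf
import Cfsg.Agent.Lib.helper12.SylowNormal
-- import your own Cfsg.Agent.* helpers here

set_option autoImplicit false
open Cfsg

namespace Cfsg.Agent.S4242

open Cfsg.Agent.Lib.helper12 Cfsg.Agent.Lib.helper1

section aux

variable {G : Type*} [Group G]

/-- elements of coprime order in a nilpotent subgroup commute -/
theorem comm_of_nilp (M : Subgroup G) (hM : Group.IsNilpotent M) {x y : G} (hx : x ∈ M)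
    (hy : y ∈ M) (h : (orderOf x).Coprime (orderOf y)) : x * y = y * x := by
  have := commute_of_coprime_orderOf_of_isNilpotent M ⟨x, hx⟩ ⟨y, hy⟩
    (by simpa [Subgroup.orderOf_mk] using h)
  exact congrArg Subtype.val this.eq

/-- a subgroup of a nilpotent subgroup is nilpotent -/
theorem nilp_of_le {H M : Subgroup G} (h : H ≤ M) (hM : Group.IsNilpotent M) :
    Group.IsNilpotent H := by
  have : Group.IsNilpotent (H.subgroupOf M) := inferInstance
  exact Group.nilpotent_of_mulEquiv (Subgroup.subgroupOfEquivOfLe h)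

/-- if `P` is normal, `P ⊓ M = ⊥`, `H ≤ M` and `P ⊔ H = ⊤`, then `M ≤ H` -/
theorem le_of_sup_eq_top (P M H : Subgroup G) [P.Normal] (hPM : P ⊓ M = ⊥) (hH : H ≤ M)
    (htop : P ⊔ H = ⊤) : M ≤ H := by
  intro m hm
  have hmem : m ∈ ((P ⊔ H : Subgroup G) : Set G) := by rw [htop]; trivial
  rw [Subgroup.normal_mul] at hmem
  obtain ⟨x, hx, h, hh, rfl⟩ := Set.mem_mul.1 hmem
  have hxM : x ∈ M := by
    have := M.mul_mem hm (M.inv_mem (hH hh))
    simpa using this
  have hx1 : x ∈ P ⊓ M := ⟨hx, hxM⟩
  rw [hPM, Subgroup.mem_bot] at hx1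
  subst hx1
  simpa using hh

end aux

theorem backward3 {G : Type*} [Group G] [Finite G] (p : ℕ) (hp : p.Prime) (Z K : Subgroup G)
    (hZ : Z.Normal) (hK : K.Normal)
    (hZK : Z ⊓ K = ⊥) (hsup : Z ⊔ K = ⊤) (hcard : Nat.card Z = p)
    (hmin : IsMinimalNonNilpotent K)
    (hpK : ¬ p ∣ Nat.card K) (M : Subgroup G) (hM : IsCoatom M) (hpM : p ∣ Nat.card M) :
    Group.IsNilpotent M := by
  have : Fact p.Prime := Fact.mk hp
  -- index of Z is prime to p
  have hidx : ¬ p ∣ Z.index := by
    have h1 : Z.relIndex (K ⊔ Z) = Z.relIndex K := Subgroup.relIndex_sup_right K Z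
    have h2 : K ⊔ Z = ⊤ := by rw [sup_comm]; exact hsup
    rw [h2, Subgroup.relIndex_top_right] at h1
    rw [h1]
    intro hd
    exact hpK (hd.trans (Subgroup.relIndex_dvd_card Z K))
  -- Z ≤ M
  have hZM : Z ≤ M := by
    obtain ⟨g, hg⟩ := exists_prime_orderOf_dvd_card' p hpM
    have hg' : orderOf (g : G) = p := by rw [Subgroup.orderOf_coe]; exact hg
    have hgZ : (g : G) ∈ Z := by
      rw [← QuotientGroup.eq_one_iff]
      have h1 : orderOf ((g : G) : G ⧸ Z) ∣ p := by
        apply orderOf_dvd_of_pow_eq_one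
        rw [← QuotientGroup.mk_pow, ← hg', pow_orderOf_eq_one]; rfl
      have h2 : orderOf ((g : G) : G ⧸ Z) ∣ Z.index := by
        rw [Subgroup.index_eq_card]; exact orderOf_dvd_natCard _
      have h3 : orderOf ((g : G) : G ⧸ Z) = 1 := by
        rcases (Nat.dvd_prime hp).1 h1 with h | h
        · exact h
        · exact absurd (h ▸ h2) hidx
      exact orderOf_eq_one_iff.1 h3
    have hzp : Subgroup.zpowers (g : G) = Z := by
      apply Subgroup.eq_of_le_of_card_ge
      · exact (Subgroup.zpowers_le).2 hgZ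
      · rw [Nat.card_zpowers, hg', hcard]
    rw [← hzp]
    exact (Subgroup.zpowers_le).2 g.2
  -- M ⊓ K is nilpotent
  have hMK : Group.IsNilpotent (M ⊓ K : Subgroup G) := by
    have hne : (M ⊓ K).subgroupOf K ≠ ⊤ := by
      intro h
      rw [Subgroup.subgroupOf_eq_top] at h
      have : Z ⊔ K ≤ M := sup_le hZM (h.trans inf_le_left)
      rw [hsup] at this
      exact hM.1 (top_le_iff.1 this)
    have := hmin.2 _ hne
    exact Group.nilpotent_of_mulEquiv (Subgroup.subgroupOfEquivOfLe (inf_le_right : M ⊓ K ≤ K))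
  have hZnil : Group.IsNilpotent Z := by
    have : IsPGroup p Z := IsPGroup.of_card (n := 1) (by rw [hcard, pow_one])
    exact this.isNilpotent
  -- the product map
  have hcomm : ∀ (z : Z) (k : (M ⊓ K : Subgroup G)),
      Commute (Z.subtype z) ((M ⊓ K : Subgroup G).subtype k) := by
    intro z k
    exact Subgroup.commute_of_normal_of_disjoint Z K hZ hK (disjoint_iff.2 hZK) _ _ z.2 k.2.2
  let φ : Z × (M ⊓ K : Subgroup G) →* G :=
    MonoidHom.noncommCoprod Z.subtype (M ⊓ K : Subgroup G).subtype hcomm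
  have hrange : φ.range = Z ⊔ (M ⊓ K) := by
    rw [MonoidHom.noncommCoprod_range, Subgroup.range_subtype, Subgroup.range_subtype]
  have hnilr : Group.IsNilpotent φ.range :=
    Group.nilpotent_of_surjective φ.rangeRestrict φ.rangeRestrict_surjective
  have hMle : M ≤ φ.range := by
    rw [hrange]
    intro m hm
    have hmem : m ∈ ((Z ⊔ K : Subgroup G) : Set G) := by rw [hsup]; trivial
    rw [Subgroup.normal_mul] at hmem
    obtain ⟨z, hz, k, hk, rfl⟩ := Set.mem_mul.1 hmem
    have hkM : k ∈ M := by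
      have := M.mul_mem (M.inv_mem (hZM hz)) hm
      simpa using this
    exact Subgroup.mul_mem _ (Subgroup.mem_sup_left hz) (Subgroup.mem_sup_right ⟨hkM, hk⟩)
  exact nilp_of_le hMle hnilr

/-- Case A of the forward direction: the Sylow `p`-subgroup is normal. -/
theorem forwardA {G : Type*} [Group G] [Finite G] (p : ℕ) [Fact p.Prime] (hpG : p ∣ Nat.card G)
    (key : ∀ X : Subgroup G, X ≠ ⊤ → p ∣ Nat.card X → Group.IsNilpotent X)
    (M₀ : Subgroup G) (hM₀ : IsCoatom M₀) (hM₀nil : ¬ Group.IsNilpotent M₀)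
    (hpM₀ : ¬ p ∣ Nat.card M₀) (P : Sylow p G) (hPn : (P : Subgroup G).Normal) :
    ∃ Z K : Subgroup G, Z.Normal ∧ K.Normal ∧ Z ⊓ K = ⊥ ∧ Z ⊔ K = ⊤ ∧ Nat.card Z = p ∧
          Cfsg.IsMinimalNonNilpotent K ∧ ¬ p ∣ Nat.card K := by
  have hp : p.Prime := Fact.out
  have hPne : (P : Subgroup G) ≠ ⊥ := P.ne_bot_of_dvd_card hpG
  have hpP : p ∣ Nat.card (P : Subgroup G) := P.dvd_card_of_dvd_card hpG
  have hcop : (Nat.card (P : Subgroup G)).Coprime (Nat.card M₀) := by
    obtain ⟨n, hn⟩ := P.2.exists_card_eq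
    rw [hn]
    exact Nat.Coprime.pow_left n ((Nat.Prime.coprime_iff_not_dvd hp).2 hpM₀)
  have hPM : (P : Subgroup G) ⊓ M₀ = ⊥ :=
    disjoint_iff.1 (Subgroup.disjoint_of_coprime_natCard hcop)
  have hsup : (P : Subgroup G) ⊔ M₀ = ⊤ := by
    apply hM₀.2
    refine lt_of_le_of_ne le_sup_right (fun e => hPne ?_)
    have : (P : Subgroup G) ≤ M₀ := by rw [e]; exact le_sup_left
    rw [← hPM]; exact (inf_eq_left.2 this).symm
  -- proper subgroups of M₀ generate proper subgroups with P
  have hprop : ∀ H : Subgroup G, H ≤ M₀ → H ≠ M₀ → Group.IsNilpotent ((P : Subgroup G) ⊔ H : Subgroup G) := by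
    intro H hH hne
    apply key
    · intro htop
      exact hne (le_antisymm hH (le_of_sup_eq_top (P : Subgroup G) M₀ H hPM hH htop))
    · exact hpP.trans (Subgroup.card_dvd_of_le le_sup_left)
  -- orders
  have hord : ∀ x ∈ (P : Subgroup G), ∀ g ∈ M₀, (orderOf x).Coprime (orderOf g) := by
    intro x hx g hg
    obtain ⟨k, hk⟩ := P.2 ⟨x, hx⟩
    have hxk : x ^ p ^ k = 1 := by
      have := congrArg Subtype.val hk
      simpa using this
    have hd : orderOf x ∣ p ^ k := orderOf_dvd_of_pow_eq_one hxk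
    have hg' : orderOf g ∣ Nat.card M₀ := Subgroup.orderOf_dvd_natCard M₀ hg
    have : (p ^ k).Coprime (orderOf g) :=
      Nat.Coprime.pow_left k ((Nat.Prime.coprime_iff_not_dvd hp).2 (fun hd' => hpM₀ (hd'.trans hg')))
    exact Nat.Coprime.coprime_dvd_left hd this
  -- M₀ centralizes P
  have hcent : ∀ x ∈ (P : Subgroup G), ∀ g ∈ M₀, x * g = g * x := by
    intro x hx g hg
    have hne : Subgroup.zpowers g ≠ M₀ := by
      intro e
      apply hM₀nil
      have hc : IsMulCommutative (Subgroup.zpowers g) := inferInstance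
      rw [e] at hc
      exact ⟨⟨1, Subgroup.upperCentralSeries_one_eq_top_iff.mpr hc⟩⟩
    have hnil := hprop (Subgroup.zpowers g) ((Subgroup.zpowers_le).2 hg) hne
    exact comm_of_nilp _ hnil (Subgroup.mem_sup_left hx)
      (Subgroup.mem_sup_right (Subgroup.mem_zpowers g)) (hord x hx g hg)
  -- M₀ is normal
  have hM₀n : M₀.Normal := by
    rw [← Subgroup.normalizer_eq_top_iff, eq_top_iff, ← hsup]
    refine sup_le ?_ Subgroup.le_normalizer
    refine le_trans ?_ (Subgroup.centralizer_le_normalizer (M₀ : Set G))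
    intro x hx
    rw [Subgroup.mem_centralizer_iff]
    intro g hg
    exact (hcent x hx g hg).symm
  -- index of M₀ is |P|
  have hidx : M₀.index = Nat.card (P : Subgroup G) := by
    have h1 : M₀.relIndex ((P : Subgroup G) ⊔ M₀) = M₀.relIndex (P : Subgroup G) :=
      Subgroup.relIndex_sup_right (P : Subgroup G) M₀
    rw [hsup, Subgroup.relIndex_top_right] at h1
    rw [h1, ← Subgroup.inf_relIndex_right, inf_comm, hPM, Subgroup.relIndex_bot_left]
  -- |P| = p
  have hcardP : Nat.card (P : Subgroup G) = p := by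
    obtain ⟨z, hz⟩ := exists_prime_orderOf_dvd_card' p hpP
    have hz' : orderOf (z : G) = p := by rw [Subgroup.orderOf_coe]; exact hz
    have hzM : (z : G) ∉ M₀ := by
      intro hzM
      have : (z : G) ∈ (P : Subgroup G) ⊓ M₀ := ⟨z.2, hzM⟩
      rw [hPM, Subgroup.mem_bot] at this
      rw [this, orderOf_one] at hz'
      exact hp.one_lt.ne hz'
    have htop : Subgroup.zpowers (z : G) ⊔ M₀ = ⊤ := by
      apply hM₀.2
      refine lt_of_le_of_ne le_sup_right (fun e => hzM ?_)
      rw [e]; exact Subgroup.mem_sup_left (Subgroup.mem_zpowers _)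
    have h1 : M₀.relIndex (Subgroup.zpowers (z : G) ⊔ M₀) = M₀.relIndex (Subgroup.zpowers (z : G)) :=
      Subgroup.relIndex_sup_right (Subgroup.zpowers (z : G)) M₀
    rw [htop, Subgroup.relIndex_top_right] at h1
    have h2 : M₀.index ∣ p := by
      rw [h1]
      have := Subgroup.relIndex_dvd_card M₀ (Subgroup.zpowers (z : G))
      rwa [Nat.card_zpowers, hz'] at this
    rw [hidx] at h2
    rcases (Nat.dvd_prime hp).1 h2 with h | h
    · exact absurd ((Subgroup.card_eq_one).1 h) hPne
    · exact h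
  refine ⟨(P : Subgroup G), M₀, hPn, hM₀n, hPM, hsup, hcardP, ⟨hM₀nil, ?_⟩, hpM₀⟩
  intro H hH
  have hle : H.map M₀.subtype ≤ M₀ := by
    rintro _ ⟨x, _, rfl⟩
    exact x.2
  have hne : H.map M₀.subtype ≠ M₀ := by
    intro e
    apply hH
    rw [eq_top_iff]
    intro x _
    have : (x : G) ∈ H.map M₀.subtype := by rw [e]; exact x.2
    obtain ⟨y, hy, hyx⟩ := this
    have : y = x := Subtype.ext hyx
    rwa [← this]
  have hnil := nilp_of_le (le_sup_right : H.map M₀.subtype ≤ (P : Subgroup G) ⊔ H.map M₀.subtype)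
    (hprop _ hle hne)
  exact Group.nilpotent_of_mulEquiv
    (H.equivMapOfInjective M₀.subtype (Subgroup.subtype_injective _)).symm

/-- Case B of the forward direction: the Sylow `p`-subgroup is not normal; impossible. -/
theorem forwardB {G : Type*} [Group G] [Finite G] (p : ℕ) [Fact p.Prime] (hpG : p ∣ Nat.card G)
    (key : ∀ X : Subgroup G, X ≠ ⊤ → p ∣ Nat.card X → Group.IsNilpotent X)
    (M₀ : Subgroup G) (hM₀ : IsCoatom M₀) (hM₀nil : ¬ Group.IsNilpotent M₀)
    (hpM₀ : ¬ p ∣ Nat.card M₀) (P : Sylow p G) (hPn : ¬ (P : Subgroup G).Normal) : False := by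
  have hp : p.Prime := Fact.out
  have hPne : (P : Subgroup G) ≠ ⊥ := P.ne_bot_of_dvd_card hpG
  have hpP : p ∣ Nat.card (P : Subgroup G) := P.dvd_card_of_dvd_card hpG
  obtain ⟨n, hn⟩ := P.2.exists_card_eq
  -- p-power order of elements of P
  have hordP : ∀ x ∈ (P : Subgroup G), ∃ k, orderOf x ∣ p ^ k := by
    intro x hx
    obtain ⟨k, hk⟩ := P.2 ⟨x, hx⟩
    refine ⟨k, orderOf_dvd_of_pow_eq_one ?_⟩
    have := congrArg Subtype.val hk
    simpa using this
  -- Step 1: Frobenius' criterion
  have hfrob : ∀ Q : Subgroup G, Q ≤ (P : Subgroup G) → ∀ g ∈ Subgroup.normalizer (Q : Set G),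
      Nat.Coprime (orderOf g) p → g ∈ Subgroup.centralizer (Q : Set G) := by
    intro Q hQ g hg hcop
    rw [Subgroup.mem_centralizer_iff]
    intro q hq
    by_cases hQbot : Q = ⊥
    · rw [hQbot] at hq
      have : q = 1 := by simpa using hq
      rw [this]; simp
    by_cases hX : Q ⊔ Subgroup.zpowers g = ⊤
    · exfalso
      apply hPn
      have hQn : Q.Normal := by
        rw [← Subgroup.normalizer_eq_top_iff, eq_top_iff, ← hX]
        exact sup_le Subgroup.le_normalizer ((Subgroup.zpowers_le).2 hg)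
      have h1 : Q.relIndex (Subgroup.zpowers g ⊔ Q) = Q.relIndex (Subgroup.zpowers g) :=
        Subgroup.relIndex_sup_right (Subgroup.zpowers g) Q
      rw [sup_comm, hX, Subgroup.relIndex_top_right] at h1
      have h2 : Q.index ∣ orderOf g := by
        rw [h1]
        have := Subgroup.relIndex_dvd_card Q (Subgroup.zpowers g)
        rwa [Nat.card_zpowers] at this
      have h3 : Q.relIndex (P : Subgroup G) ∣ Q.index := Subgroup.relIndex_dvd_index_of_normal Q _
      have h4 : Q.relIndex (P : Subgroup G) ∣ p ^ n := by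
        rw [← hn]; exact Subgroup.relIndex_dvd_card Q _
      have h5 : Q.relIndex (P : Subgroup G) = 1 := by
        have hc : (p ^ n).Coprime (orderOf g) := Nat.Coprime.pow_left n hcop.symm
        exact Nat.eq_one_of_dvd_coprimes hc h4 (h3.trans h2)
      have h6 : (P : Subgroup G) ≤ Q := Subgroup.relIndex_eq_one.1 h5
      have h7 : (P : Subgroup G) = Q := le_antisymm h6 hQ
      rw [h7]; exact hQn
    · have hpQ : p ∣ Nat.card Q := by
        have hQp : IsPGroup p Q := P.2.to_le hQ
        rcases hQp.card_eq_or_dvd with h | h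
        · exact absurd ((Subgroup.card_eq_one).1 h) hQbot
        · exact h
      have hnil := key _ hX (hpQ.trans (Subgroup.card_dvd_of_le le_sup_left))
      obtain ⟨k, hk⟩ := hordP q (hQ hq)
      have hc : (orderOf q).Coprime (orderOf g) :=
        Nat.Coprime.coprime_dvd_left hk (Nat.Coprime.pow_left k hcop.symm)
      exact comm_of_nilp _ hnil (Subgroup.mem_sup_left hq)
        (Subgroup.mem_sup_right (Subgroup.mem_zpowers g)) hc
  -- Step 2: normal p-complement, equal to M₀
  obtain ⟨N, hNn, hNc⟩ := (Cfsg.Agent.S0071.result P).2 hfrob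
  have hNidx : N.index = Nat.card (P : Subgroup G) := by
    have := hNc.symm.index_eq_card
    exact this
  have hM₀N : M₀ ≤ N := by
    rw [← Subgroup.relIndex_eq_one]
    have h3 : N.relIndex M₀ ∣ N.index := Subgroup.relIndex_dvd_index_of_normal N _
    rw [hNidx, hn] at h3
    have h4 : N.relIndex M₀ ∣ Nat.card M₀ := Subgroup.relIndex_dvd_card N M₀
    have hc : (p ^ n).Coprime (Nat.card M₀) :=
      Nat.Coprime.pow_left n ((Nat.Prime.coprime_iff_not_dvd hp).2 hpM₀)
    exact Nat.eq_one_of_dvd_coprimes hc h3 h4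
  have hNtop : N ≠ ⊤ := by
    intro e
    rw [e, Subgroup.index_top] at hNidx
    exact hPne ((Subgroup.card_eq_one).1 hNidx.symm)
  have hNM : N = M₀ := by
    rcases hM₀.le_iff.1 hM₀N with h | h
    · exact absurd h hNtop
    · exact h
  subst hNM
  have hPN : (P : Subgroup G) ⊓ N = ⊥ := by
    rw [inf_comm]; exact disjoint_iff.1 hNc.disjoint
  -- Step 3: |P| = p
  have hcardP : Nat.card (P : Subgroup G) = p := by
    obtain ⟨z, hz⟩ := exists_prime_orderOf_dvd_card' p hpP
    have hz' : orderOf (z : G) = p := by rw [Subgroup.orderOf_coe]; exact hz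
    have hzM : (z : G) ∉ N := by
      intro hzM
      have : (z : G) ∈ (P : Subgroup G) ⊓ N := ⟨z.2, hzM⟩
      rw [hPN, Subgroup.mem_bot] at this
      rw [this, orderOf_one] at hz'
      exact hp.one_lt.ne hz'
    have htop : Subgroup.zpowers (z : G) ⊔ N = ⊤ := by
      apply hM₀.2
      refine lt_of_le_of_ne le_sup_right (fun e => hzM ?_)
      rw [e]; exact Subgroup.mem_sup_left (Subgroup.mem_zpowers _)
    have h1 : N.relIndex (Subgroup.zpowers (z : G) ⊔ N) = N.relIndex (Subgroup.zpowers (z : G)) :=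
      Subgroup.relIndex_sup_right (Subgroup.zpowers (z : G)) N
    rw [htop, Subgroup.relIndex_top_right] at h1
    have h2 : N.index ∣ p := by
      rw [h1]
      have := Subgroup.relIndex_dvd_card N (Subgroup.zpowers (z : G))
      rwa [Nat.card_zpowers, hz'] at this
    rw [hNidx] at h2
    rcases (Nat.dvd_prime hp).1 h2 with h | h
    · exact absurd ((Subgroup.card_eq_one).1 h) hPne
    · exact h
  have hNidx' : N.index = p := by rw [hNidx, hcardP]
  -- Sylow r-subgroups (r ≠ p) lie in N
  have hRN : ∀ (r : ℕ) [Fact r.Prime], r ≠ p → ∀ R : Sylow r G, (R : Subgroup G) ≤ N := by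
    intro r hr hrp R
    rw [← Subgroup.relIndex_eq_one]
    have h3 : N.relIndex (R : Subgroup G) ∣ p := by
      rw [← hNidx']; exact Subgroup.relIndex_dvd_index_of_normal N _
    obtain ⟨m, hm⟩ := R.2.exists_card_eq
    have h4 : N.relIndex (R : Subgroup G) ∣ r ^ m := by
      rw [← hm]; exact Subgroup.relIndex_dvd_card N _
    have hc : (p).Coprime (r ^ m) :=
      Nat.Coprime.pow_right m ((Nat.coprime_primes hp hr.out).2 (Ne.symm hrp))
    exact Nat.eq_one_of_dvd_coprimes hc h3 h4
  -- Step 4/5: for each prime r ≠ p a Sylow r-subgroup inside N_G(P)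
  have hstep : ∀ (r : ℕ) [Fact r.Prime], r ≠ p → ∃ R : Sylow r G,
      (R : Subgroup G) ≤ Subgroup.normalizer ((P : Subgroup G) : Set G) := by
    intro r hr hrp
    have hcardS : ¬ p ∣ Nat.card (Sylow r G) := by
      have R₀ : Sylow r G := default
      have hsup : Subgroup.normalizer ((R₀ : Subgroup G) : Set G) ⊔ N = ⊤ :=
        Sylow.normalizer_sup_eq_top' R₀ (hRN r hrp R₀)
      have hcardeq : Nat.card (Sylow r G) =
          (Subgroup.normalizer ((R₀ : Subgroup G) : Set G)).index :=
        Sylow.card_eq_index_normalizer R₀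
      rw [hcardeq]
      have h1 := relIndex_eq_relIndex_sup_of_normal
        (Subgroup.normalizer ((R₀ : Subgroup G) : Set G)) N
      rw [hsup, Subgroup.relIndex_top_right] at h1
      rw [← h1]
      intro hd
      exact hpM₀ (hd.trans (Subgroup.relIndex_dvd_card _ _))
    obtain ⟨R, hR⟩ := P.2.nonempty_fixed_point_of_prime_not_dvd_card (Sylow r G) hcardS
    have hPR : (P : Subgroup G) ≤ Subgroup.normalizer ((R : Subgroup G) : Set G) := by
      intro x hx
      have h1 : (⟨x, hx⟩ : (P : Subgroup G)) • R = R := hR ⟨x, hx⟩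
      have h2 : x • R = R := h1
      exact Sylow.smul_eq_iff_mem_normalizer.1 h2
    refine ⟨R, ?_⟩
    by_cases hX : (R : Subgroup G) ⊔ (P : Subgroup G) = ⊤
    · exfalso
      have hRn : (R : Subgroup G).Normal := by
        rw [← Subgroup.normalizer_eq_top_iff, eq_top_iff, ← hX]
        exact sup_le Subgroup.le_normalizer hPR
      have h1 : (R : Subgroup G).relIndex ((P : Subgroup G) ⊔ (R : Subgroup G)) =
          (R : Subgroup G).relIndex (P : Subgroup G) :=
        Subgroup.relIndex_sup_right (P : Subgroup G) (R : Subgroup G)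
      rw [sup_comm, hX, Subgroup.relIndex_top_right] at h1
      have h2 : (R : Subgroup G).index ∣ p := by
        rw [h1]
        have := Subgroup.relIndex_dvd_card (R : Subgroup G) (P : Subgroup G)
        rwa [hcardP] at this
      have h3 : (R : Subgroup G).relIndex N * N.index = (R : Subgroup G).index :=
        Subgroup.relIndex_mul_index (hRN r hrp R)
      rw [hNidx'] at h3
      have h4 : (R : Subgroup G).relIndex N = 1 := by
        rw [← h3] at h2
        have hpos : 0 < p := hp.pos
        have := Nat.le_of_dvd hpos h2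
        have h5 : (R : Subgroup G).relIndex N ≠ 0 := by
          intro h0; rw [h0, zero_mul] at h2; exact hpos.ne' (zero_dvd_iff.1 h2)
        nlinarith [Nat.pos_of_ne_zero h5]
      have h5 : N ≤ (R : Subgroup G) := Subgroup.relIndex_eq_one.1 h4
      exact hM₀nil (R.2.to_le h5).isNilpotent
    · have hnil := key _ hX (hpP.trans (Subgroup.card_dvd_of_le le_sup_right))
      refine le_trans ?_ (Subgroup.centralizer_le_normalizer ((P : Subgroup G) : Set G))
      intro x hx
      rw [Subgroup.mem_centralizer_iff]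
      intro y hy
      obtain ⟨k, hk⟩ := hordP y hy
      obtain ⟨m, hm⟩ := R.2 ⟨x, hx⟩
      have hxm : orderOf x ∣ r ^ m := by
        apply orderOf_dvd_of_pow_eq_one
        have := congrArg Subtype.val hm
        simpa using this
      have hc : (orderOf y).Coprime (orderOf x) := by
        have : (p ^ k).Coprime (r ^ m) :=
          Nat.Coprime.pow k m ((Nat.coprime_primes hp hr.out).2 (Ne.symm hrp))
        exact Nat.Coprime.coprime_dvd_left hk (Nat.Coprime.coprime_dvd_right hxm this)
      exact comm_of_nilp _ hnil (Subgroup.mem_sup_right hy) (Subgroup.mem_sup_left hx) hc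
  -- Step 6: N_G(P) = ⊤
  apply hPn
  rw [← Subgroup.normalizer_eq_top_iff, ← Subgroup.index_eq_one, Nat.eq_one_iff_not_exists_prime_dvd]
  intro r hr hdvd
  have : Fact r.Prime := ⟨hr⟩
  by_cases hrp : r = p
  · subst hrp
    exact P.not_dvd_index (hdvd.trans (Subgroup.index_dvd_of_le Subgroup.le_normalizer))
  · obtain ⟨R, hR⟩ := hstep r hrp
    exact R.not_dvd_index (hdvd.trans (Subgroup.index_dvd_of_le hR))

/-- Let G be a finite group and p a prime dividing its order. Every maximal subgroup of G of order divisible by p is nilpotent if and only if G is nilpotent, or G is a minimal non-nilpotent group, or G is the internal direct product of a normal subgroup of order p and a normal minimal non-nilpotent subgroup of order prime to p. -/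
theorem result {G : Type*} [Group G] [Finite G] (p : ℕ) (hp : p.Prime) (hpG : p ∣ Nat.card G) :
    (∀ M : Subgroup G, IsCoatom M → p ∣ Nat.card M → Group.IsNilpotent M) ↔
      (Group.IsNilpotent G ∨ Cfsg.IsMinimalNonNilpotent G ∨
        ∃ Z K : Subgroup G, Z.Normal ∧ K.Normal ∧ Z ⊓ K = ⊥ ∧ Z ⊔ K = ⊤ ∧ Nat.card Z = p ∧
          Cfsg.IsMinimalNonNilpotent K ∧ ¬ p ∣ Nat.card K) := by
  have : Fact p.Prime := ⟨hp⟩
  constructor
  · intro h
    by_cases hnil : Group.IsNilpotent G
    · exact Or.inl hnil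
    by_cases hall : ∀ M : Subgroup G, IsCoatom M → Group.IsNilpotent M
    · right; left
      refine ⟨hnil, fun H hH => ?_⟩
      obtain ⟨M, hM, hle⟩ := (eq_top_or_exists_le_coatom H).resolve_left hH
      exact nilp_of_le hle (hall M hM)
    right; right
    push Not at hall
    obtain ⟨M₀, hM₀, hM₀nil⟩ := hall
    have hpM₀ : ¬ p ∣ Nat.card M₀ := fun hdiv => hM₀nil (h M₀ hM₀ hdiv)
    have key : ∀ X : Subgroup G, X ≠ ⊤ → p ∣ Nat.card X → Group.IsNilpotent X := by
      intro X hX hpX
      obtain ⟨M, hM, hle⟩ := (eq_top_or_exists_le_coatom X).resolve_left hX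
      exact nilp_of_le hle (h M hM (hpX.trans (Subgroup.card_dvd_of_le hle)))
    have P : Sylow p G := default
    by_cases hPn : (P : Subgroup G).Normal
    · exact forwardA p hpG key M₀ hM₀ hM₀nil hpM₀ P hPn
    · exact (forwardB p hpG key M₀ hM₀ hM₀nil hpM₀ P hPn).elim
  · rintro (hnil | hmin | ⟨Z, K, hZ, hK, hZK, hsup, hcard, hmin, hpK⟩)
    · intro M _ _
      infer_instance
    · intro M hM _
      exact hmin.2 M hM.1
    · intro M hM hpM
      exact backward3 p hp Z K hZ hK hZK hsup hcard hmin hpK M hM hpM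

end Cfsg.Agent.S4242
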