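import Mathlib
import Cfsg.Statements.S4244

set_option autoImplicit false
open Cfsg

namespace Cfsg.Agent.S4244

/-- If `N` is normal then `[N : N ∩ H]` divides `[G : H]`. -/
theorem relIndex_dvd_index_of_normal_right {G : Type*} [Group G] [Finite G] (H N : Subgroup G)
    [N.Normal] : H.relIndex N ∣ H.index := by
  have h1 : H.relIndex (H ⊔ N) = H.relIndex N := by
    have e1 : Nat.card H * H.relIndex (H ⊔ N) = Nat.card (H ⊔ N : Subgroup G) := by
      have := Subgroup.relIndex_mul_relIndex ⊥ H (H ⊔ N) bot_le le_sup_left
      simpa [Subgroup.relIndex_bot_left] using this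
    have e2 : Nat.card N * N.relIndex (H ⊔ N) = Nat.card (H ⊔ N : Subgroup G) := by
      have := Subgroup.relIndex_mul_relIndex ⊥ N (H ⊔ N) bot_le le_sup_right
      simpa [Subgroup.relIndex_bot_left] using this
    have e3 : Nat.card (H ⊓ N : Subgroup G) * N.relIndex H = Nat.card H := by
      have := Subgroup.relIndex_mul_relIndex ⊥ (H ⊓ N) H bot_le inf_le_left
      simpa [Subgroup.relIndex_bot_left, Subgroup.inf_relIndex_left] using this
    have e4 : Nat.card (H ⊓ N : Subgroup G) * H.relIndex N = Nat.card N := by
      have := Subgroup.relIndex_mul_relIndex ⊥ (H ⊓ N) N bot_le inf_le_right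
      simpa [Subgroup.relIndex_bot_left, Subgroup.inf_relIndex_right] using this
    rw [Subgroup.relIndex_sup_right] at e2
    have hpos : 0 < Nat.card H := Nat.card_pos
    have : Nat.card H * H.relIndex (H ⊔ N) = Nat.card H * H.relIndex N := by
      calc Nat.card H * H.relIndex (H ⊔ N) = Nat.card (H ⊔ N : Subgroup G) := e1
        _ = Nat.card N * N.relIndex H := e2.symm
        _ = (Nat.card (H ⊓ N : Subgroup G) * H.relIndex N) * N.relIndex H := by rw [e4]
        _ = (Nat.card (H ⊓ N : Subgroup G) * N.relIndex H) * H.relIndex N := by ring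
        _ = Nat.card H * H.relIndex N := by rw [e3]
    exact Nat.eq_of_mul_eq_mul_left hpos this
  rw [← h1]
  exact Subgroup.relIndex_dvd_index_of_le le_sup_left

/-- Let H be a subnormal subgroup of a finite group G. Then for every subgroup K of G the index of H ∩ K in H divides the index of K in G. -/
theorem result {G : Type*} [Group G] [Finite G] (H : Subgroup G) (hH : H.IsSubnormal) (K : Subgroup G) :
    (H ⊓ K).relIndex H ∣ K.index := by
  induction hH with
  | top => simp
  | step H L h_le hSubn hN ih =>
    rw [Subgroup.inf_relIndex_left] at ih ⊢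
    refine dvd_trans ?_ ih
    have key := relIndex_dvd_index_of_normal_right (K.subgroupOf L) (H.subgroupOf L)
    rw [Subgroup.relIndex_subgroupOf h_le] at key
    exact key

end Cfsg.Agent.S4244
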