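import Cfsg.Statements.S4260

set_option autoImplicit false
open Cfsg

namespace Cfsg.Agent.S4260

/-- Let H be a Hall subgroup of a finite group G (the order of H is coprime to its index) such that x^[G : H] lies in H for every x in G. Then H is normal in G. -/
theorem result {G : Type*} [Group G] [Finite G] (H : Subgroup G) (hHall : (Nat.card H).Coprime H.index)
    (hexp : ∀ x : G, x ^ H.index ∈ H) : H.Normal := by
  have key : ∀ x : G, x ∈ H ↔ x ^ Nat.card H = 1 := by
    intro x
    constructor
    · intro hx
      have h1 : (⟨x, hx⟩ : H) ^ Nat.card H = 1 := pow_card_eq_one'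
      have h2 := congrArg (Subtype.val) h1
      rw [Subgroup.coe_pow] at h2
      exact h2
    · intro hx
      have hc : IsCoprime (Nat.card H : ℤ) (H.index : ℤ) := by
        exact_mod_cast (Nat.isCoprime_iff_coprime.mpr hHall)
      obtain ⟨a, b, hab⟩ := hc
      have : x = (x ^ H.index) ^ b := by
        have h2 : x ^ (a * (Nat.card H : ℤ) + b * (H.index : ℤ)) = x := by
          rw [hab, zpow_one]
        rw [zpow_add, mul_comm a, mul_comm b, zpow_mul, zpow_mul, zpow_natCast, zpow_natCast, hx,
          one_zpow, one_mul] at h2
        exact h2.symm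
      rw [this]
      exact H.zpow_mem (hexp x) b
  constructor
  intro n hn g
  rw [key] at hn ⊢
  rw [conj_pow, hn]
  simp

end Cfsg.Agent.S4260
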