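import Mathlib
import Cfsg.Statements.S4261

set_option autoImplicit false
open Cfsg
open scoped Pointwise

namespace Cfsg.Agent.S4261

/-- A nontrivial finite solvable group has a nontrivial abelian normal `p`-subgroup. -/
theorem exists_abelian_normal_pgroup {Q : Type*} [Group Q] [Finite Q] [Nontrivial Q]
    (hQ : Group.IsSolvable Q) :
    ∃ p : ℕ, p.Prime ∧ ∃ A : Subgroup Q, A.Normal ∧ A ≠ ⊥ ∧ IsPGroup p A ∧
      (∀ a ∈ A, ∀ b ∈ A, a * b = b * a) := by
  classical
  have hex : ∃ n, derivedSeries Q n = ⊥ := hQ.solvable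
  have hn0 : Nat.find hex ≠ 0 := by
    intro h0
    have := Nat.find_spec hex
    rw [h0, derivedSeries_zero] at this
    exact top_ne_bot this
  obtain ⟨m, hm⟩ := Nat.exists_eq_succ_of_ne_zero hn0
  set B := derivedSeries Q m with hB
  have hBne : B ≠ ⊥ := by
    intro h
    have := Nat.find_min hex (m := m) (by omega)
    exact this h
  have hBB : ⁅B, B⁆ = ⊥ := by
    have := Nat.find_spec hex
    rw [hm, derivedSeries_succ] at this
    exact this
  have hBnormal : B.Normal := derivedSeries_normal Q m
  have hcomm : ∀ a ∈ B, ∀ b ∈ B, a * b = b * a := by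
    intro a ha b hb
    have h1 : B ≤ Subgroup.centralizer (B : Set Q) :=
      Subgroup.commutator_eq_bot_iff_le_centralizer.mp hBB
    have := h1 ha
    rw [Subgroup.mem_centralizer_iff] at this
    exact (this b hb).symm
  have hcard : Nat.card B ≠ 1 := by
    intro h
    exact hBne ((Subgroup.card_eq_one).mp h)
  obtain ⟨p, hp, hpdvd⟩ := Nat.exists_prime_and_dvd hcard
  have : Fact p.Prime := ⟨hp⟩
  refine ⟨p, hp, ?_⟩
  let A : Subgroup Q :=
    { carrier := {x | x ∈ B ∧ x ^ p = 1}
      mul_mem' := by
        rintro x y ⟨hx, hx1⟩ ⟨hy, hy1⟩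
        refine ⟨B.mul_mem hx hy, ?_⟩
        have hc : Commute x y := hcomm x hx y hy
        rw [hc.mul_pow, hx1, hy1, one_mul]
      one_mem' := ⟨B.one_mem, one_pow _⟩
      inv_mem' := by
        rintro x ⟨hx, hx1⟩
        exact ⟨B.inv_mem hx, by rw [inv_pow, hx1, inv_one]⟩ }
  have hAmem : ∀ x, x ∈ A ↔ x ∈ B ∧ x ^ p = 1 := fun x => Iff.rfl
  refine ⟨A, ⟨?_⟩, ?_, ?_, ?_⟩
  · intro x hx g
    rw [hAmem] at hx ⊢
    refine ⟨hBnormal.conj_mem x hx.1 g, ?_⟩
    rw [conj_pow, hx.2, mul_one, mul_inv_cancel]
  · intro hbot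
    obtain ⟨x, hx⟩ := exists_prime_orderOf_dvd_card' (G := B) p hpdvd
    have hxA : (x : Q) ∈ A := by
      rw [hAmem]
      refine ⟨x.2, ?_⟩
      have : x ^ p = 1 := by rw [← hx]; exact pow_orderOf_eq_one x
      have h2 := congrArg (Subtype.val) this
      simpa using h2
    rw [hbot, Subgroup.mem_bot] at hxA
    have : x = 1 := Subtype.ext hxA
    rw [this, orderOf_one] at hx
    exact hp.one_lt.ne hx
  · intro a
    refine ⟨1, ?_⟩
    have := ((hAmem a).mp a.2).2
    apply Subtype.ext
    simpa using this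
  · intro a ha b hb
    exact hcomm a ((hAmem a).mp ha).1 b ((hAmem b).mp hb).1

/-- The core-free case. -/
theorem key {Q : Type*} [Group Q] [Finite Q] (hQ : Group.IsSolvable Q) (M : Subgroup Q)
    (hM : IsCoatom M) (hcore : M.normalCore = ⊥) (hexp : ∀ y : Q, y ^ M.index = 1) :
    M.Normal := by
  classical
  have : Nontrivial Q := by
    by_contra h
    rw [not_nontrivial_iff_subsingleton] at h
    exact hM.1 (Subsingleton.elim _ _)
  obtain ⟨p, hp, A, hAn, hAne, hAp, hAcomm⟩ := exists_abelian_normal_pgroup hQ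
  have : Fact p.Prime := ⟨hp⟩
  have hAM : ¬ A ≤ M := by
    intro h
    have := Subgroup.normal_le_normalCore.mpr h
    rw [hcore] at this
    exact hAne (le_bot_iff.mp this)
  have hsup : A ⊔ M = ⊤ := by
    by_contra h
    have h1 : M < A ⊔ M := lt_of_le_of_ne le_sup_right (fun h2 => hAM (h2 ▸ le_sup_left))
    exact h (hM.2 _ h1)
  have hmul : (A : Set Q) * (M : Set Q) = Set.univ := by
    rw [← Subgroup.normal_mul, hsup, Subgroup.coe_top]
  have hinfn : (A ⊓ M).Normal := by
    refine ⟨fun x hx g => ?_⟩
    have hg : g ∈ (A : Set Q) * (M : Set Q) := by rw [hmul]; trivial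
    obtain ⟨a, ha, m, hm, rfl⟩ := Set.mem_mul.mp hg
    have hy : m * x * m⁻¹ ∈ A ⊓ M :=
      ⟨hAn.conj_mem x hx.1 m, M.mul_mem (M.mul_mem hm hx.2) (M.inv_mem hm)⟩
    have hc : a * (m * x * m⁻¹) = (m * x * m⁻¹) * a := hAcomm a ha _ hy.1
    have : a * m * x * (a * m)⁻¹ = m * x * m⁻¹ := by
      rw [mul_inv_rev]
      calc a * m * x * (m⁻¹ * a⁻¹) = (a * (m * x * m⁻¹)) * a⁻¹ := by group
        _ = m * x * m⁻¹ := by rw [hc]; group
    rw [this]
    exact hy
  have hinf : A ⊓ M = ⊥ := by
    have := Subgroup.normal_le_normalCore.mpr (inf_le_right : A ⊓ M ≤ M)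
    rw [hcore] at this
    exact le_bot_iff.mp this
  have hcompl : Subgroup.IsComplement' A M :=
    Subgroup.isComplement'_of_disjoint_and_mul_eq_univ (disjoint_iff.mpr hinf) hmul
  have hidx : M.index = Nat.card A := hcompl.index_eq_card
  obtain ⟨j, hj⟩ := IsPGroup.exists_card_eq hAp
  have hQp : IsPGroup p Q := by
    intro y
    refine ⟨j, ?_⟩
    have := hexp y
    rwa [hidx, hj] at this
  have : Group.IsNilpotent Q := hQp.isNilpotent
  exact Subgroup.NormalizerCondition.normal_of_coatom M (Group.normalizerCondition_of_isNilpotent) hM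

/-- Let M be a maximal subgroup of a finite solvable group G such that x^[G : M] lies in M for every x in G. Then M is normal in G. -/
theorem result {G : Type*} [Group G] [Finite G] (hG : Group.IsSolvable G) (M : Subgroup G) (hM : IsCoatom M)
    (hexp : ∀ x : G, x ^ M.index ∈ M) : M.Normal := by
  classical
  have hNM : M.normalCore ≤ M := Subgroup.normalCore_le M
  have hπs : Function.Surjective (QuotientGroup.mk' M.normalCore) :=
    QuotientGroup.mk'_surjective M.normalCore
  have hker : (QuotientGroup.mk' M.normalCore).ker = M.normalCore := QuotientGroup.ker_mk' M.normalCore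
  have hcomap : (M.map (QuotientGroup.mk' M.normalCore)).comap (QuotientGroup.mk' M.normalCore) = M := by
    rw [Subgroup.comap_map_eq, hker]
    exact sup_eq_left.mpr hNM
  have hexpN : ∀ x : G, x ^ M.index ∈ M.normalCore := by
    intro x g
    have := hexp (g * x * g⁻¹)
    rwa [conj_pow] at this
  have hidx : (M.map (QuotientGroup.mk' M.normalCore)).index = M.index := by
    conv_rhs => rw [← hcomap]
    rw [Subgroup.index_comap_of_surjective _ hπs]
  have hcoatom : IsCoatom (M.map (QuotientGroup.mk' M.normalCore)) := by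
    constructor
    · intro h
      apply hM.1
      rw [← hcomap, h, Subgroup.comap_top]
    · intro K hK
      have h1 : M < K.comap (QuotientGroup.mk' M.normalCore) := by
        have h0 : (M.map (QuotientGroup.mk' M.normalCore)).comap (QuotientGroup.mk' M.normalCore)
            < K.comap (QuotientGroup.mk' M.normalCore) := by
          refine lt_of_le_of_ne (Subgroup.comap_mono hK.le) ?_
          intro h
          have h2 := congrArg (Subgroup.map (QuotientGroup.mk' M.normalCore)) h
          rw [Subgroup.map_comap_eq_self_of_surjective hπs,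
            Subgroup.map_comap_eq_self_of_surjective hπs] at h2
          exact hK.ne h2
        rwa [hcomap] at h0
      have h3 := hM.2 _ h1
      have h4 := congrArg (Subgroup.map (QuotientGroup.mk' M.normalCore)) h3
      rwa [Subgroup.map_comap_eq_self_of_surjective hπs, Subgroup.map_top_of_surjective _ hπs] at h4
  have hcore : (M.map (QuotientGroup.mk' M.normalCore)).normalCore = ⊥ := by
    rw [eq_bot_iff]
    have h1 : ((M.map (QuotientGroup.mk' M.normalCore)).normalCore).comap
        (QuotientGroup.mk' M.normalCore) ≤ M.normalCore := by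
      apply Subgroup.normal_le_normalCore.mpr
      have h0 := Subgroup.comap_mono (f := QuotientGroup.mk' M.normalCore)
        (Subgroup.normalCore_le (M.map (QuotientGroup.mk' M.normalCore)))
      rwa [hcomap] at h0
    intro y hy
    obtain ⟨x, rfl⟩ := hπs y
    have : x ∈ M.normalCore := h1 hy
    rw [Subgroup.mem_bot]
    exact (QuotientGroup.eq_one_iff x).mpr this
  have hexpQ : ∀ y : G ⧸ M.normalCore, y ^ (M.map (QuotientGroup.mk' M.normalCore)).index = 1 := by
    intro y
    obtain ⟨x, rfl⟩ := hπs y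
    rw [hidx]
    have := hexpN x
    rw [← map_pow]
    exact (QuotientGroup.eq_one_iff _).mpr this
  have hsolv : Group.IsSolvable (G ⧸ M.normalCore) := Group.isSolvable_of_surjective hπs
  have := key hsolv (M.map (QuotientGroup.mk' M.normalCore)) hcoatom hcore hexpQ
  rw [← hcomap]
  exact this.comap (QuotientGroup.mk' M.normalCore)

end Cfsg.Agent.S4261
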