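import Mathlib
import Cfsg.Statements.S4269

set_option autoImplicit false
open Cfsg
open scoped commutatorElement

namespace Cfsg.Agent.S4269

variable {G : Type*} [Group G]

theorem mem_conj_iff (H : Subgroup G) (g x : G) :
    x ∈ H.map (MulAut.conj g).toMonoidHom ↔ g⁻¹ * x * g ∈ H := by
  constructor
  · rintro ⟨y, hy, rfl⟩
    simpa [mul_assoc] using hy
  · intro h
    exact ⟨g⁻¹ * x * g, h, by simp [mul_assoc]⟩

theorem conj_mul (H : Subgroup G) (a b : G) :
    H.map (MulAut.conj (a * b)).toMonoidHom =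
      (H.map (MulAut.conj b).toMonoidHom).map (MulAut.conj a).toMonoidHom := by
  ext x
  simp only [mem_conj_iff]
  constructor <;> intro h <;> convert h using 1 <;> group

theorem conj_of_mem (H : Subgroup G) {h : G} (hh : h ∈ H) :
    H.map (MulAut.conj h).toMonoidHom = H := by
  ext x
  rw [mem_conj_iff]
  constructor
  · intro hx
    have := H.mul_mem (H.mul_mem hh hx) (H.inv_mem hh)
    simpa [mul_assoc] using this
  · intro hx
    exact H.mul_mem (H.mul_mem (H.inv_mem hh) hx) hh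

theorem conj_eq_self_iff (H : Subgroup G) (g : G) :
    H.map (MulAut.conj g).toMonoidHom = H ↔ g ∈ Subgroup.normalizer (H : Set G) := by
  rw [Subgroup.mem_normalizer_iff_map_conj_eq]
  rfl

theorem comm_of_mem (V : Subgroup G) (hV : IsMulCommutative ↥V) {a b : G} (ha : a ∈ V)
    (hb : b ∈ V) : a * b = b * a := by
  have := (isMulCommutative_iff.mp hV) ⟨a, ha⟩ ⟨b, hb⟩
  exact congrArg Subtype.val this

theorem commutator_le_of_invariant (H U : Subgroup G)
    (hU : ∀ h ∈ H, U.map (MulAut.conj h).toMonoidHom = U) : ⁅H, U⁆ ≤ U := by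
  rw [Subgroup.commutator_le]
  intro h hh u hu
  have h1 : h * u * h⁻¹ ∈ U := by
    have : h * u * h⁻¹ ∈ U.map (MulAut.conj h).toMonoidHom := ⟨u, hu, by simp⟩
    rwa [hU h hh] at this
  have := U.mul_mem h1 (U.inv_mem hu)
  simpa [commutatorElement_def] using this

theorem commutator_normal_of_invariant (V : Subgroup G) [V.Normal] (hV : IsMulCommutative ↥V)
    (H : Subgroup G) (hHV : H ⊔ V = ⊤) (U : Subgroup G) (hUV : U ≤ V)
    (hU : ∀ h ∈ H, U.map (MulAut.conj h).toMonoidHom = U) : (⁅H, U⁆ : Subgroup G).Normal := by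
  have hWU : ⁅H, U⁆ ≤ U := commutator_le_of_invariant H U hU
  rw [← Subgroup.normalizer_eq_top_iff, eq_top_iff, ← hHV]
  apply sup_le
  · rw [Subgroup.le_normalizer_iff]
    intro h hh w hw
    have : h * w * h⁻¹ ∈ (⁅H, U⁆).map (MulAut.conj h).toMonoidHom := ⟨w, hw, by simp⟩
    rwa [Subgroup.map_commutator, conj_of_mem H hh, hU h hh] at this
  · rw [Subgroup.le_normalizer_iff]
    intro v hv w hw
    have hwV : w ∈ V := hUV (hWU hw)
    have : v * w = w * v := comm_of_mem V hV hv hwV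
    rw [this]
    simpa using hw

/-- The subgroup of those `u ∈ V` all of whose commutators with `H` lie in `J`. -/
def commSub (V : Subgroup G) [hVn : V.Normal] (hV : IsMulCommutative ↥V) (H J : Subgroup G) :
    Subgroup G where
  carrier := {u | u ∈ V ∧ ∀ k ∈ H, ⁅k, u⁆ ∈ J}
  one_mem' := ⟨V.one_mem, fun k _ => by simp⟩
  mul_mem' := by
    rintro a b ⟨haV, ha⟩ ⟨hbV, hb⟩
    refine ⟨V.mul_mem haV hbV, fun k hk => ?_⟩
    have hc : k * b * k⁻¹ * b⁻¹ ∈ V := V.mul_mem (hVn.conj_mem b hbV k) (V.inv_mem hbV)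
    have hcomm := comm_of_mem V hV hc (V.inv_mem haV)
    have : ⁅k, a * b⁆ = ⁅k, a⁆ * ⁅k, b⁆ := by
      simp only [commutatorElement_def]
      calc k * (a * b) * k⁻¹ * (a * b)⁻¹ = k * a * k⁻¹ * ((k * b * k⁻¹ * b⁻¹) * a⁻¹) := by group
        _ = k * a * k⁻¹ * (a⁻¹ * (k * b * k⁻¹ * b⁻¹)) := by rw [hcomm]
        _ = k * a * k⁻¹ * a⁻¹ * (k * b * k⁻¹ * b⁻¹) := by group
    rw [this]
    exact J.mul_mem (ha k hk) (hb k hk)
  inv_mem' := by
    rintro a ⟨haV, ha⟩
    refine ⟨V.inv_mem haV, fun k hk => ?_⟩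
    have hc : k * a⁻¹ * k⁻¹ ∈ V := hVn.conj_mem a⁻¹ (V.inv_mem haV) k
    have hcomm := comm_of_mem V hV hc haV
    have : ⁅k, a⁻¹⁆ = (⁅k, a⁆)⁻¹ := by
      simp only [commutatorElement_def]
      calc k * a⁻¹ * k⁻¹ * a⁻¹⁻¹ = (k * a⁻¹ * k⁻¹) * a := by group
        _ = a * (k * a⁻¹ * k⁻¹) := hcomm
        _ = (k * a * k⁻¹ * a⁻¹)⁻¹ := by group
    rw [this]
    exact J.inv_mem (ha k hk)

theorem mem_commSub (V : Subgroup G) [V.Normal] (hV : IsMulCommutative ↥V) (H J : Subgroup G)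
    (u : G) : u ∈ commSub V hV H J ↔ u ∈ V ∧ ∀ k ∈ H, ⁅k, u⁆ ∈ J := Iff.rfl

theorem commSub_conj_mem (V : Subgroup G) [hVn : V.Normal] (hV : IsMulCommutative ↥V)
    (H J : Subgroup G) (hHJ : H ≤ J) {k u : G} (hk : k ∈ H) (hu : u ∈ commSub V hV H J) :
    k * u * k⁻¹ ∈ commSub V hV H J := by
  obtain ⟨huV, hu⟩ := hu
  refine ⟨hVn.conj_mem u huV k, fun k' hk' => ?_⟩
  have h1 : ⁅k⁻¹ * k' * k, u⁆ ∈ J := hu _ (H.mul_mem (H.mul_mem (H.inv_mem hk) hk') hk)
  have h2 : ⁅k', k * u * k⁻¹⁆ = k * ⁅k⁻¹ * k' * k, u⁆ * k⁻¹ := by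
    simp only [commutatorElement_def]
    group
  rw [h2]
  exact J.mul_mem (J.mul_mem (hHJ hk) h1) (J.inv_mem (hHJ hk))

/-- Let G be a finite group, V an abelian normal subgroup and H a subgroup with HV = G. Then H is pronormal in G (H and gHg⁻¹ are conjugate inside the subgroup they generate, for every g) if and only if every H-invariant subgroup U of V satisfies U = N_U(H)·[H, U], that is, U is the join of U ∩ N_G(H) and the commutator subgroup [H, U]. -/
theorem result {G : Type*} [Group G] [Finite G]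
    (V : Subgroup G) [V.Normal] (hV : IsMulCommutative ↥V) (H : Subgroup G) (hHV : H ⊔ V = ⊤) :
    Cfsg.IsPronormal H ↔
      ∀ U : Subgroup G, U ≤ V → (∀ h ∈ H, U.map (MulAut.conj h).toMonoidHom = U) →
        U = (U ⊓ Subgroup.normalizer (H : Set G)) ⊔ ⁅H, U⁆ := by
  constructor
  · intro hpro U hUV hU
    have hWU : ⁅H, U⁆ ≤ U := commutator_le_of_invariant H U hU
    have hWn : (⁅H, U⁆ : Subgroup G).Normal := commutator_normal_of_invariant V hV H hHV U hUV hU
    apply le_antisymm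
    · intro u hu
      obtain ⟨x, hx, hxe⟩ := hpro u
      have hle : H ⊔ H.map (MulAut.conj u).toMonoidHom ≤ ⁅H, U⁆ ⊔ H := by
        apply sup_le le_sup_right
        rintro _ ⟨h, hh, rfl⟩
        have : (MulAut.conj u).toMonoidHom h = ⁅u, h⁆ * h := by simp [commutatorElement_def]
        rw [this]
        refine Subgroup.mul_mem_sup ?_ hh
        rw [Subgroup.commutator_comm]
        exact Subgroup.commutator_mem_commutator hu hh
      obtain ⟨w, hw, h, hh, rfl⟩ := Subgroup.mem_sup_of_normal_left.mp (hle hx)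
      rw [conj_mul, conj_of_mem H hh] at hxe
      have hn : w⁻¹ * u ∈ Subgroup.normalizer (H : Set G) := by
        rw [← conj_eq_self_iff, conj_mul, hxe, ← conj_mul, inv_mul_cancel]
        exact conj_of_mem H H.one_mem
      have hu' : u = w * (w⁻¹ * u) := by group
      rw [hu', sup_comm]
      exact Subgroup.mul_mem_sup hw ⟨U.mul_mem (U.inv_mem (hWU hw)) hu, hn⟩
    · exact sup_le inf_le_left hWU
  · intro hcond g
    have hg : g ∈ V ⊔ H := by rw [sup_comm, hHV]; trivial
    obtain ⟨v, hv, h, hh, rfl⟩ := Subgroup.mem_sup_of_normal_left.mp hg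
    rw [conj_mul, conj_of_mem H hh]
    have hHJ : H ≤ H ⊔ H.map (MulAut.conj v).toMonoidHom := le_sup_left
    have hDV : commSub V hV H (H ⊔ H.map (MulAut.conj v).toMonoidHom) ≤ V := fun u hu => hu.1
    have hD_inv : ∀ k ∈ H, (commSub V hV H (H ⊔ H.map (MulAut.conj v).toMonoidHom)).map
        (MulAut.conj k).toMonoidHom = commSub V hV H (H ⊔ H.map (MulAut.conj v).toMonoidHom) := by
      intro k hk
      ext x
      rw [mem_conj_iff]
      constructor
      · intro hx
        have := commSub_conj_mem V hV H _ hHJ hk hx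
        simpa [mul_assoc] using this
      · intro hx
        have := commSub_conj_mem V hV H _ hHJ (H.inv_mem hk) hx
        simpa [mul_assoc] using this
    have hvD : v ∈ commSub V hV H (H ⊔ H.map (MulAut.conj v).toMonoidHom) := by
      refine ⟨hv, fun k hk => ?_⟩
      have h1 : v * k⁻¹ * v⁻¹ ∈ H.map (MulAut.conj v).toMonoidHom := ⟨k⁻¹, H.inv_mem hk, by simp⟩
      have h2 : ⁅k, v⁆ = k * (v * k⁻¹ * v⁻¹) := by
        simp only [commutatorElement_def]; group
      rw [h2]
      exact Subgroup.mul_mem_sup hk h1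
    have hWJ : ⁅H, commSub V hV H (H ⊔ H.map (MulAut.conj v).toMonoidHom)⁆ ≤
        H ⊔ H.map (MulAut.conj v).toMonoidHom := by
      rw [Subgroup.commutator_le]
      intro k hk u hu
      exact hu.2 k hk
    have hWn := commutator_normal_of_invariant V hV H hHV _ hDV hD_inv
    have hWD := commutator_le_of_invariant H _ hD_inv
    have hv' := hvD
    rw [hcond _ hDV hD_inv] at hv'
    obtain ⟨a, ha, w, hw, hvaw⟩ := Subgroup.mem_sup_of_normal_right.mp hv'
    refine ⟨w, hWJ hw, ?_⟩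
    have hcomm : a * w = w * a := comm_of_mem V hV (hDV ha.1) (hDV (hWD hw))
    rw [← hvaw, hcomm, conj_mul, (conj_eq_self_iff H a).mpr ha.2]

end Cfsg.Agent.S4269
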