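import Cfsg.Statements.S4270
import Mathlib
import Cfsg.Agent.Lib.helper74.PronExt

set_option autoImplicit false
open Cfsg

namespace Cfsg.Agent.S4270

/-- Let p be a prime and G a finite group with a normal subgroup A such that, both in A and in G/A, every subgroup containing a Sylow p-subgroup of that group is pronormal in that group. Let T be a Sylow p-subgroup of A. Then every subgroup of G containing a Sylow p-subgroup of G is pronormal in G if and only if (i) every subgroup of N_G(T)/T containing a Sylow p-subgroup of N_G(T)/T is pronormal there, and (ii) for every subgroup H of G containing a Sylow p-subgroup of G, the image of N_G(H) in G/A is the full normalizer of the image of H. (Pronormal: H and gHg⁻¹ are conjugate inside the subgroup they generate, for every g.) -/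
theorem result {G : Type*} [Group G] [Finite G] {p : ℕ} [Fact p.Prime]
    (A : Subgroup G) [A.Normal] (hA : (∀ K : Subgroup ↥A, (∃ P : Sylow p ↥A, (P : Subgroup ↥A) ≤ K) → Cfsg.IsPronormal K)) (hQ : (∀ K : Subgroup (G ⧸ A), (∃ P : Sylow p (G ⧸ A), (P : Subgroup (G ⧸ A)) ≤ K) → Cfsg.IsPronormal K))
    (T : Subgroup G) (hT : ∃ P : Sylow p ↥A, (P : Subgroup ↥A).map A.subtype = T) [(T.subgroupOf (Subgroup.normalizer (T : Set G))).Normal] :
    (∀ K : Subgroup G, (∃ P : Sylow p G, (P : Subgroup G) ≤ K) → Cfsg.IsPronormal K) ↔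
      ((∀ K : Subgroup (↥(Subgroup.normalizer (T : Set G)) ⧸ T.subgroupOf (Subgroup.normalizer (T : Set G))), (∃ P : Sylow p (↥(Subgroup.normalizer (T : Set G)) ⧸ T.subgroupOf (Subgroup.normalizer (T : Set G))), (P : Subgroup (↥(Subgroup.normalizer (T : Set G)) ⧸ T.subgroupOf (Subgroup.normalizer (T : Set G)))) ≤ K) → Cfsg.IsPronormal K) ∧
        ∀ K : Subgroup G, (∃ P : Sylow p G, (P : Subgroup G) ≤ K) →
          (Subgroup.normalizer (K : Set G)).map (QuotientGroup.mk' A) = Subgroup.normalizer ((K.map (QuotientGroup.mk' A) : Subgroup (G ⧸ A)) : Set (G ⧸ A))) := by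
  obtain ⟨hTA, hTp, hTidx⟩ := Cfsg.Agent.Lib.helper74.sylow_map_subtype_data hT
  have hTN : T ≤ Subgroup.normalizer (T : Set G) := Subgroup.le_normalizer
  constructor
  · intro h
    have hint : ∀ K : Subgroup G, ¬ p ∣ K.index → Cfsg.Agent.Lib.helper74.PronOn K ⊤ :=
      fun K hK => (Cfsg.Agent.Lib.helper74.isPronormal_iff_pronOn_top K).mp
        (h K ((Cfsg.Agent.Lib.helper74.exists_sylow_le_iff K).mpr hK))
    refine ⟨?_, ?_⟩
    · intro K' hK'
      exact Cfsg.Agent.Lib.helper74.quotient_of_pronOn hTN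
        (fun K _ hKN hKidx =>
          Cfsg.Agent.Lib.helper74.pron_normalizer_of_pron hTA hTp hTidx hint K hKN hKidx) K' hK'
    · intro K hK
      apply Cfsg.Agent.Lib.helper74.normalizer_map_eq_of_decomp
      intro g hg
      exact Cfsg.Agent.Lib.helper74.pron_normalizer_decomp
        ((Cfsg.Agent.Lib.helper74.isPronormal_iff_pronOn_top K).mp (h K hK)) g hg
  · rintro ⟨hN, hnorm⟩ K hK
    rw [Cfsg.Agent.Lib.helper74.isPronormal_iff_pronOn_top]
    apply Cfsg.Agent.Lib.helper74.pron_main hTA hTp hTidx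
      (Cfsg.Agent.Lib.helper74.pronOn_of_subgroup hA)
      (Cfsg.Agent.Lib.helper74.pronOn_of_quotient hN)
      (Cfsg.Agent.Lib.helper74.exists_of_quotient hQ) ?_ K
      ((Cfsg.Agent.Lib.helper74.exists_sylow_le_iff K).mp hK)
    intro K hK g hg
    apply Cfsg.Agent.Lib.helper74.decomp_of_normalizer_le _ g hg
    rw [hnorm K ((Cfsg.Agent.Lib.helper74.exists_sylow_le_iff K).mpr hK)]

end Cfsg.Agent.S4270
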