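import Cfsg.Statements.S4271
import Mathlib
import Cfsg.Agent.Lib.helper74.PronExt

set_option autoImplicit false
open Cfsg

namespace Cfsg.Agent.S4271

/-- Let p be a prime and G a finite group with a normal subgroup A such that every subgroup of A containing a Sylow p-subgroup of A is pronormal in A, and the Sylow p-subgroups of G/A are self-normalizing. Let T be a Sylow p-subgroup of A. Then every subgroup of G containing a Sylow p-subgroup of G is pronormal in G if and only if every subgroup of N_G(T)/T containing a Sylow p-subgroup of N_G(T)/T is pronormal in N_G(T)/T. (Pronormal: H and gHg⁻¹ are conjugate inside the subgroup they generate, for every g.) -/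
theorem result {G : Type*} [Group G] [Finite G] {p : ℕ} [Fact p.Prime]
    (A : Subgroup G) [A.Normal] (hA : (∀ K : Subgroup ↥A, (∃ P : Sylow p ↥A, (P : Subgroup ↥A) ≤ K) → Cfsg.IsPronormal K))
    (hQ : ∀ P : Sylow p (G ⧸ A), Subgroup.normalizer ((P : Subgroup (G ⧸ A)) : Set (G ⧸ A)) = P)
    (T : Subgroup G) (hT : ∃ P : Sylow p ↥A, (P : Subgroup ↥A).map A.subtype = T) [(T.subgroupOf (Subgroup.normalizer (T : Set G))).Normal] :
    (∀ K : Subgroup G, (∃ P : Sylow p G, (P : Subgroup G) ≤ K) → Cfsg.IsPronormal K) ↔ (∀ K : Subgroup (↥(Subgroup.normalizer (T : Set G)) ⧸ T.subgroupOf (Subgroup.normalizer (T : Set G))), (∃ P : Sylow p (↥(Subgroup.normalizer (T : Set G)) ⧸ T.subgroupOf (Subgroup.normalizer (T : Set G))), (P : Subgroup (↥(Subgroup.normalizer (T : Set G)) ⧸ T.subgroupOf (Subgroup.normalizer (T : Set G)))) ≤ K) → Cfsg.IsPronormal K) := by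
  obtain ⟨hTA, hTp, hTidx⟩ := Cfsg.Agent.Lib.helper74.sylow_map_subtype_data hT
  have hTN : T ≤ Subgroup.normalizer (T : Set G) := Subgroup.le_normalizer
  constructor
  · intro h
    have hint : ∀ K : Subgroup G, ¬ p ∣ K.index → Cfsg.Agent.Lib.helper74.PronOn K ⊤ :=
      fun K hK => (Cfsg.Agent.Lib.helper74.isPronormal_iff_pronOn_top K).mp
        (h K ((Cfsg.Agent.Lib.helper74.exists_sylow_le_iff K).mpr hK))
    intro K' hK'
    exact Cfsg.Agent.Lib.helper74.quotient_of_pronOn hTN
      (fun K _ hKN hKidx =>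
        Cfsg.Agent.Lib.helper74.pron_normalizer_of_pron hTA hTp hTidx hint K hKN hKidx) K' hK'
  · intro hN K hK
    rw [Cfsg.Agent.Lib.helper74.isPronormal_iff_pronOn_top]
    apply Cfsg.Agent.Lib.helper74.pron_main hTA hTp hTidx
      (Cfsg.Agent.Lib.helper74.pronOn_of_subgroup hA)
      (Cfsg.Agent.Lib.helper74.pronOn_of_quotient hN)
      (Cfsg.Agent.Lib.helper74.exists_of_quotient
        (Cfsg.Agent.Lib.helper74.isPronormal_of_self_normalizing hQ)) ?_ K
      ((Cfsg.Agent.Lib.helper74.exists_sylow_le_iff K).mp hK)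
    intro K hK g hg
    apply Cfsg.Agent.Lib.helper74.decomp_of_normalizer_le _ g hg
    have h1 : ∃ P : Sylow p (G ⧸ A), (P : Subgroup (G ⧸ A)) ≤ K.map (QuotientGroup.mk' A) := by
      rw [Cfsg.Agent.Lib.helper74.exists_sylow_le_iff]
      intro h
      exact hK (h.trans (Subgroup.index_map_dvd K (QuotientGroup.mk'_surjective A)))
    exact (Cfsg.Agent.Lib.helper74.normalizer_le_of_self_normalizing hQ _ h1).trans
      (Subgroup.map_mono Subgroup.le_normalizer)

end Cfsg.Agent.S4271
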