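import Cfsg.Statements.S4278
import Cfsg.Agent.Lib.helper22.ChevOddG2c

set_option autoImplicit false
open Cfsg

namespace Cfsg.Agent.S4278

/-- In the Chevalley group of type G₂ over a finite field of odd order, any two involutions are conjugate. -/
theorem result {F : Type*} [Field F] [Fintype F] (hF : Odd (Fintype.card F)) (s t : ↥(Cfsg.Lie.chevG2.group F)) (hs : orderOf s = 2) (ht : orderOf t = 2) : IsConj s t := by
  obtain ⟨hBG, hNG, hG⟩ := Cfsg.Agent.S1043.result (F := F) Cfsg.Lie.chevG2 (by simp)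
  have hp : Cfsg.Agent.Lib.helper41.PrimHyp Cfsg.Lie.chevG2 F := fun r hr δ h =>
    Cfsg.Agent.Lib.helper41.prim_of_corGcd Cfsg.Lie.chevG2 r
      (Cfsg.Agent.Lib.helper41.ordOK_spec Cfsg.Lie.chevG2 Cfsg.Agent.Lib.helper41.ordOK_G2 r hr).2.2 δ h
  exact Cfsg.Agent.Lib.helper22.g2_odd_isConj
    ⟨Cfsg.Agent.Lib.helper22.bnInput_G2 F, hp, hBG, hNG, hG.ge⟩ hF s t hs ht

end Cfsg.Agent.S4278
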