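import Cfsg.Statements.S4279
import Cfsg.Agent.Lib.helper22.ChevOddG2g

set_option autoImplicit false
open Cfsg

namespace Cfsg.Agent.S4279

/-- In the Chevalley group G of type G₂ over a finite field F of odd order q, the centralizer of an involution t has order q²(q² − 1)² and contains two elementwise commuting subgroups, each isomorphic to SL(2, F), which meet exactly in the subgroup generated by t and whose join has index 2 in the centralizer. -/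
theorem result {F : Type*} [Field F] [Fintype F] (hF : Odd (Fintype.card F)) (t : ↥(Cfsg.Lie.chevG2.group F)) (ht : orderOf t = 2) : Nat.card (Subgroup.centralizer ({t} : Set ↥(Cfsg.Lie.chevG2.group F))) = Fintype.card F ^ 2 * (Fintype.card F ^ 2 - 1) ^ 2 ∧ ∃ L₁ L₂ : Subgroup ↥(Cfsg.Lie.chevG2.group F), Nonempty (L₁ ≃* Matrix.SpecialLinearGroup (Fin 2) F) ∧ Nonempty (L₂ ≃* Matrix.SpecialLinearGroup (Fin 2) F) ∧ (∀ x ∈ L₁, ∀ y ∈ L₂, x * y = y * x) ∧ L₁ ⊓ L₂ = Subgroup.zpowers t ∧ L₁ ⊔ L₂ ≤ Subgroup.centralizer ({t} : Set ↥(Cfsg.Lie.chevG2.group F)) ∧ (L₁ ⊔ L₂).relIndex (Subgroup.centralizer ({t} : Set ↥(Cfsg.Lie.chevG2.group F))) = 2 := by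
  obtain ⟨hBG, hNG, hG⟩ := Cfsg.Agent.S1043.result (F := F) Cfsg.Lie.chevG2 (by simp)
  have hp : Cfsg.Agent.Lib.helper41.PrimHyp Cfsg.Lie.chevG2 F := fun r hr δ h =>
    Cfsg.Agent.Lib.helper41.prim_of_corGcd Cfsg.Lie.chevG2 r
      (Cfsg.Agent.Lib.helper41.ordOK_spec Cfsg.Lie.chevG2 Cfsg.Agent.Lib.helper41.ordOK_G2 r hr).2.2 δ h
  have hpn := Cfsg.Agent.S1041.posNegOK_spec Cfsg.Lie.chevG2
    (Cfsg.Agent.S1041.posNegOK_all Cfsg.Lie.chevG2 (by simp))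
  have hN := Cfsg.Agent.Lib.helper22.negOK_of_triOK Cfsg.Lie.chevG2
    (Cfsg.Agent.Lib.helper22.triOK_all Cfsg.Lie.chevG2 (by simp))
  exact Cfsg.Agent.Lib.helper22.g2_centStr
    ⟨Cfsg.Agent.Lib.helper22.bnInput_G2 F, hp, hBG, hNG, hG.ge⟩ hpn hN hF t ht

end Cfsg.Agent.S4279
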