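import Cfsg.Statements.S4283
import Mathlib
import Cfsg.Agent.Lib.helper75.FrobBasic
import Cfsg.Agent.S0035

set_option autoImplicit false
open Cfsg

namespace Cfsg.Agent.S4283

open Pointwise

theorem index_centralizer_conj {G : Type*} [Group G] (g x : G) :
    (Subgroup.centralizer ({g⁻¹ * x * g} : Set G)).index = (Subgroup.centralizer ({x} : Set G)).index := by
  have e : Subgroup.centralizer ({g⁻¹ * x * g} : Set G) =
      (Subgroup.centralizer ({x} : Set G)).comap (MulAut.conj g).toMonoidHom := by
    ext y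
    rw [Subgroup.mem_comap, Subgroup.mem_centralizer_iff, Subgroup.mem_centralizer_iff]
    constructor
    · intro h z hz
      rw [Set.mem_singleton_iff] at hz
      subst hz
      have h1 := h (g⁻¹ * z * g) (Set.mem_singleton _)
      show z * (g * y * g⁻¹) = g * y * g⁻¹ * z
      have e1 : z * (g * y * g⁻¹) = g * (g⁻¹ * z * g * y) * g⁻¹ := by group
      have e2 : g * y * g⁻¹ * z = g * (y * (g⁻¹ * z * g)) * g⁻¹ := by group
      rw [e1, e2, h1]
    · intro h z hz
      rw [Set.mem_singleton_iff] at hz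
      subst hz
      have h1 : x * (g * y * g⁻¹) = g * y * g⁻¹ * x := h x (Set.mem_singleton _)
      have e1 : g⁻¹ * x * g * y = g⁻¹ * (x * (g * y * g⁻¹)) * g := by group
      have e2 : y * (g⁻¹ * x * g) = g⁻¹ * (g * y * g⁻¹ * x) * g := by group
      rw [e1, e2, h1]
  rw [e]
  exact Subgroup.index_comap_of_surjective _ (MulAut.conj g).surjective

/-- Let G be a finite group with centre Z and let K, H be abelian subgroups of G containing Z such that G/Z is a Frobenius group with complement H/Z and kernel K/Z. Then the conjugacy class sizes of G are exactly 1, [G : K] and [G : H], and these two indices are coprime. (This is the converse half of the characterization of finite groups whose conjugacy class sizes are exactly 1, m and n with m and n coprime.) -/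
theorem result {G : Type*} [Group G] [Finite G] (K H : Subgroup G) (hZK : Subgroup.center G ≤ K) (hZH : Subgroup.center G ≤ H) (hK : IsMulCommutative K) (hH : IsMulCommutative H) (hFrob : Cfsg.IsFrobeniusComplement (H.map (QuotientGroup.mk' (Subgroup.center G)))) (hker : Cfsg.frobeniusKernel (H.map (QuotientGroup.mk' (Subgroup.center G))) = (K.map (QuotientGroup.mk' (Subgroup.center G)) : Set (G ⧸ Subgroup.center G))) : Set.range (fun x : G => (Subgroup.centralizer ({x} : Set G)).index) = ({1, K.index, H.index} : Set ℕ) ∧ K.index.Coprime H.index := by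
  classical
  set Z : Subgroup G := Subgroup.center G with hZ
  set q : G →* G ⧸ Z := QuotientGroup.mk' Z with hq
  have hqker : q.ker = Z := QuotientGroup.ker_mk' Z
  have hqsurj : Function.Surjective q := QuotientGroup.mk'_surjective Z
  have hmemH : ∀ x : G, q x ∈ H.map q ↔ x ∈ H := by
    intro x
    rw [← Subgroup.mem_comap, Subgroup.comap_map_eq, hqker, sup_eq_left.mpr hZH]
  have hmemK : ∀ x : G, q x ∈ K.map q ↔ x ∈ K := by
    intro x
    rw [← Subgroup.mem_comap, Subgroup.comap_map_eq, hqker, sup_eq_left.mpr hZK]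
  have hq1 : ∀ x : G, q x = 1 ↔ x ∈ Z := by
    intro x
    rw [← MonoidHom.mem_ker, hqker]
  have hHcomm : ∀ a ∈ H, ∀ b ∈ H, a * b = b * a := by
    intro a ha b hb
    have := (isMulCommutative_iff.mp hH) ⟨a, ha⟩ ⟨b, hb⟩
    exact congrArg Subtype.val this
  have hKcomm : ∀ a ∈ K, ∀ b ∈ K, a * b = b * a := by
    intro a ha b hb
    have := (isMulCommutative_iff.mp hK) ⟨a, ha⟩ ⟨b, hb⟩
    exact congrArg Subtype.val this
  have hFel := (Cfsg.Agent.Lib.helper75.isFrobeniusComplement_iff _).mp hFrob
  -- membership in a conjugate of the image of H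
  have hconj : ∀ x g : G, q x ∈ MulAut.conj (q g) • (H.map q) ↔ g⁻¹ * x * g ∈ H := by
    intro x g
    rw [Subgroup.mem_smul_pointwise_iff_exists]
    constructor
    · rintro ⟨s, hs, hsx⟩
      rw [MulAut.smul_def, MulAut.conj_apply] at hsx
      rw [← hmemH]
      have : q (g⁻¹ * x * g) = s := by
        rw [map_mul, map_mul, map_inv, ← hsx]; group
      rw [this]; exact hs
    · intro h
      refine ⟨q (g⁻¹ * x * g), (hmemH _).mpr h, ?_⟩
      rw [MulAut.smul_def, MulAut.conj_apply, map_mul, map_mul, map_inv]; group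
  -- Claim A
  have claimA : ∀ x : G, x ∉ K → ∃ g : G, g⁻¹ * x * g ∈ H := by
    intro x hx
    have h1 : q x ∉ (K.map q : Set (G ⧸ Z)) := fun h => hx ((hmemK x).mp h)
    rw [← hker] at h1
    have h1' : ¬ (q x = 1 ∨ ∀ g : G ⧸ Z, q x ∉ MulAut.conj g • H.map q) := h1
    rw [not_or] at h1'
    obtain ⟨_, h1''⟩ := h1'
    rw [not_forall] at h1''
    obtain ⟨gb, hgb⟩ := h1''
    rw [not_not] at hgb
    obtain ⟨g, rfl⟩ := hqsurj gb
    exact ⟨g, (hconj x g).mp hgb⟩
  -- Claim B
  have claimB : ∀ x : G, x ∈ K → x ∉ Z → ∀ g : G, g⁻¹ * x * g ∉ H := by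
    intro x hx hxZ g hg
    have h1 : q x ∈ (K.map q : Set (G ⧸ Z)) := (hmemK x).mpr hx
    rw [← hker] at h1
    rcases h1 with h1 | h1
    · exact hxZ ((hq1 x).mp h1)
    · exact h1 (q g) ((hconj x g).mpr hg)
  -- Claim C
  have claimC : ∀ g : G, g ∉ H → ∀ h ∈ H, g * h * g⁻¹ ∈ H → h ∈ Z := by
    intro g hg h hh hgh
    have h1 : q g ∉ H.map q := fun hh' => hg ((hmemH g).mp hh')
    have h2 : q g * q h * (q g)⁻¹ ∈ H.map q := by
      have := (hmemH _).mpr hgh
      simpa using this
    exact (hq1 h).mp (hFel.2.2 (q g) h1 (q h) ((hmemH h).mpr hh) h2)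
  have hZnorm : ∀ (g x : G), g⁻¹ * x * g ∈ Z → x ∈ Z := by
    intro g x hx
    have : x = g * (g⁻¹ * x * g) * g⁻¹ := by group
    rw [this]
    exact (inferInstance : Z.Normal).conj_mem _ hx g
  -- centralizers
  have hC1 : ∀ x : G, x ∈ H → x ∉ Z → Subgroup.centralizer ({x} : Set G) = H := by
    intro x hx hxZ
    apply le_antisymm
    · intro y hy
      rw [Subgroup.mem_centralizer_iff] at hy
      have hy' := hy x (Set.mem_singleton x)
      by_contra hyH
      apply hxZ
      apply claimC y hyH x hx
      have : y * x * y⁻¹ = x := by rw [← hy']; group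
      rw [this]; exact hx
    · intro y hy
      rw [Subgroup.mem_centralizer_iff]
      intro z hz
      rw [Set.mem_singleton_iff] at hz
      subst hz
      exact hHcomm z hx y hy
  have hC2 : ∀ x : G, x ∉ K → (Subgroup.centralizer ({x} : Set G)).index = H.index := by
    intro x hx
    obtain ⟨g, hg⟩ := claimA x hx
    have hxZ : x ∉ Z := fun h => hx (hZK h)
    have hx'Z : g⁻¹ * x * g ∉ Z := fun h => hxZ (hZnorm g x h)
    rw [← index_centralizer_conj g x, hC1 _ hg hx'Z]
  have hC3 : ∀ x : G, x ∈ K → x ∉ Z → Subgroup.centralizer ({x} : Set G) = K := by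
    intro x hx hxZ
    apply le_antisymm
    · intro y hy
      rw [Subgroup.mem_centralizer_iff] at hy
      have hy' := hy x (Set.mem_singleton x)
      by_contra hyK
      obtain ⟨g, hg⟩ := claimA y hyK
      have hyZ : y ∉ Z := fun h => hyK (hZK h)
      have hy'Z : g⁻¹ * y * g ∉ Z := fun h => hyZ (hZnorm g y h)
      have hcen := hC1 _ hg hy'Z
      have hx' : g⁻¹ * x * g ∈ Subgroup.centralizer ({g⁻¹ * y * g} : Set G) := by
        rw [Subgroup.mem_centralizer_iff]
        intro z hz
        rw [Set.mem_singleton_iff] at hz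
        subst hz
        have e1 : g⁻¹ * y * g * (g⁻¹ * x * g) = g⁻¹ * (y * x) * g := by group
        have e2 : g⁻¹ * x * g * (g⁻¹ * y * g) = g⁻¹ * (x * y) * g := by group
        rw [e1, e2, hy']
      rw [hcen] at hx'
      exact claimB x hx hxZ g hx'
    · intro y hy
      rw [Subgroup.mem_centralizer_iff]
      intro z hz
      rw [Set.mem_singleton_iff] at hz
      subst hz
      exact hKcomm z hx y hy
  have hC0 : ∀ x : G, x ∈ Z → (Subgroup.centralizer ({x} : Set G)).index = 1 := by
    intro x hx
    rw [Subgroup.index_eq_one, eq_top_iff]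
    intro y _
    rw [Subgroup.mem_centralizer_iff]
    intro z hz
    rw [Set.mem_singleton_iff] at hz
    subst hz
    exact (Subgroup.mem_center_iff.mp hx y).symm
  -- Frobenius' theorem
  obtain ⟨N, hN1, hN2, hN3⟩ := Cfsg.Agent.S0035.result (H.map q) hFrob
  have hNK : N = K.map q := SetLike.coe_injective (hN1.trans hker)
  rw [hNK] at hN3
  have hKidx : K.index = Nat.card (H.map q) := by
    rw [← Subgroup.index_map_eq K hqsurj (by rw [hqker]; exact hZK)]
    exact hN3.symm.index_eq_card
  have hHidx : H.index = (H.map q).index := by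
    rw [Subgroup.index_map_eq H hqsurj (by rw [hqker]; exact hZH)]
  -- existence of elements
  have hexK : ∃ x : G, x ∈ K ∧ x ∉ Z := by
    by_contra hcon
    push Not at hcon
    have hbot : K.map q = ⊥ := by
      rw [Subgroup.eq_bot_iff_forall]
      rintro y ⟨x, hx, rfl⟩
      exact (hq1 x).mpr (hcon x hx)
    rw [hbot] at hN3
    exact hFrob.2.1 (Subgroup.isComplement'_bot_left.mp hN3)
  have hexH : ∃ x : G, x ∈ H ∧ x ∉ Z := by
    by_contra hcon
    push Not at hcon
    apply hFrob.1
    rw [Subgroup.eq_bot_iff_forall]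
    rintro y ⟨x, hx, rfl⟩
    exact (hq1 x).mpr (hcon x hx)
  constructor
  · ext n
    simp only [Set.mem_range, Set.mem_insert_iff, Set.mem_singleton_iff]
    constructor
    · rintro ⟨x, rfl⟩
      by_cases hxZ : x ∈ Z
      · exact Or.inl (hC0 x hxZ)
      · by_cases hxK : x ∈ K
        · right; left
          rw [hC3 x hxK hxZ]
        · right; right
          exact hC2 x hxK
    · rintro (rfl | rfl | rfl)
      · exact ⟨1, hC0 1 (Subgroup.one_mem _)⟩
      · obtain ⟨x, hxK, hxZ⟩ := hexK
        exact ⟨x, by rw [hC3 x hxK hxZ]⟩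
      · obtain ⟨x, hxH, hxZ⟩ := hexH
        exact ⟨x, by rw [hC1 x hxH hxZ]⟩
  · rw [hKidx, hHidx]
    exact Cfsg.Agent.Lib.helper75.frob_coprime_card_index _ hFrob

end Cfsg.Agent.S4283
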