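import Cfsg.Statements.S4292
import Cfsg.Agent.Lib.helper62.FrobExtract

set_option autoImplicit false
open Cfsg

namespace Cfsg.Agent.S4292

/-- Let A and B be nontrivial finite groups. Then the direct product A × B occurs as a Frobenius complement if and only if A and B both occur as Frobenius complements and the orders of A and B are coprime. -/
theorem result {A B : Type*} [Group A] [Finite A] [Nontrivial A] [Group B] [Finite B] [Nontrivial B] :
    (∃ (L : Type) (_ : Group L) (_ : Finite L) (H : Subgroup L), Cfsg.IsFrobeniusComplement H ∧ Nonempty ((A × B) ≃* H)) ↔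
    ((∃ (L : Type) (_ : Group L) (_ : Finite L) (H : Subgroup L), Cfsg.IsFrobeniusComplement H ∧ Nonempty (A ≃* H)) ∧
     (∃ (L : Type) (_ : Group L) (_ : Finite L) (H : Subgroup L), Cfsg.IsFrobeniusComplement H ∧ Nonempty (B ≃* H)) ∧
     (Nat.card A).Coprime (Nat.card B)) := by
  constructor
  · rintro ⟨L, i1, i2, H, hH, ⟨e⟩⟩
    have hH' := Cfsg.Agent.Lib.helper62.FrobExtract.hasFpfMod_of_frob H hH
    have hAB := Cfsg.Agent.Lib.helper62.FrobExtract.HasFpfMod.comap e.toMonoidHom e.injective hH'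
    have hA := Cfsg.Agent.Lib.helper62.FrobExtract.HasFpfMod.comap (MonoidHom.inl A B)
      (Prod.mk_left_injective (1 : B)) hAB
    have hB := Cfsg.Agent.Lib.helper62.FrobExtract.HasFpfMod.comap (MonoidHom.inr A B)
      (Prod.mk_right_injective (1 : A)) hAB
    exact ⟨hA.exists_frob, hB.exists_frob, hAB.coprime_of_prod⟩
  · rintro ⟨⟨L, i1, i2, H, hH, ⟨e⟩⟩, ⟨L', j1, j2, H', hH', ⟨e'⟩⟩, hcop⟩
    have hA := Cfsg.Agent.Lib.helper62.FrobExtract.HasFpfMod.comap e.toMonoidHom e.injective
      (Cfsg.Agent.Lib.helper62.FrobExtract.hasFpfMod_of_frob H hH)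
    have hB := Cfsg.Agent.Lib.helper62.FrobExtract.HasFpfMod.comap e'.toMonoidHom e'.injective
      (Cfsg.Agent.Lib.helper62.FrobExtract.hasFpfMod_of_frob H' hH')
    exact (hA.prod hB hcop).exists_frob

end Cfsg.Agent.S4292
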