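import Cfsg.Statements.S4293
import Cfsg.Agent.Lib.helper75.FrobComplement

set_option autoImplicit false
open Cfsg

namespace Cfsg.Agent.S4293

/-- The choice of an auxiliary prime `ℓ` for a finite subgroup `H` of the units of a division ring `D`:
`ℓ` is prime to the order of every element of `H`, and no integer `r ≡ 1 (mod ℓ)` vanishes in `D`. -/
theorem exists_aux_prime {D : Type*} [DivisionRing D] (H : Subgroup Dˣ) [Finite H] :
    ∃ ℓ : ℕ, ℓ.Prime ∧ (∀ h : H, (orderOf h).Coprime ℓ) ∧
      (∀ r : ℤ, (r : D) = 0 → (ℓ : ℤ) ∣ r - 1 → False) := by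
  obtain ⟨p, hp⟩ := CharP.exists D
  rcases CharP.char_is_prime_or_zero D p with hpp | hp0
  · have : Fact p.Prime := ⟨hpp⟩
    refine ⟨p, hpp, ?_, ?_⟩
    · intro h
      rw [Nat.coprime_comm, hpp.coprime_iff_not_dvd]
      intro hdvd
      have hord : orderOf (h ^ (orderOf h / p)) = p := by
        have hne : orderOf h / p ≠ 0 := by
          have hpos : 0 < orderOf h := orderOf_pos h
          have := Nat.div_pos (Nat.le_of_dvd hpos hdvd) hpp.pos
          omega
        rw [orderOf_pow_of_dvd hne (Nat.div_dvd_of_dvd hdvd), Nat.div_div_self hdvd (orderOf_pos h).ne']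
      set h' : H := h ^ (orderOf h / p) with hh'
      have h1 : h' ^ p = 1 := by rw [← hord]; exact pow_orderOf_eq_one h'
      have h2 : (((h' : Dˣ) : D)) ^ p = 1 := by
        have := congrArg (fun z : H => ((z : Dˣ) : D)) h1
        simpa using this
      have h3 : ((((h' : Dˣ) : D)) - 1) ^ p = 0 := by
        rw [sub_pow_char_of_commute (p := p) (Commute.one_right _), h2, one_pow, sub_self]
      have h4 : (((h' : Dˣ) : D)) - 1 = 0 := by
        exact pow_eq_zero_iff (hpp.ne_zero) |>.mp h3
      have h5 : h' = 1 := by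
        apply Subtype.ext
        apply Units.ext
        simpa [sub_eq_zero] using h4
      rw [h5, orderOf_one] at hord
      exact hpp.one_lt.ne hord
    · intro r hr hdvd
      rw [CharP.intCast_eq_zero_iff D p] at hr
      have : (p : ℤ) ∣ 1 := by
        have := dvd_sub hr hdvd
        simpa using this
      have h1 : p ∣ 1 := by exact_mod_cast this
      exact hpp.one_lt.ne' (Nat.dvd_one.mp h1)
  · subst hp0
    have : CharZero D := CharP.charP_to_charZero D
    obtain ⟨ℓ, hℓ1, hℓ2⟩ := Nat.exists_infinite_primes (Nat.card H + 1)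
    refine ⟨ℓ, hℓ2, ?_, ?_⟩
    · intro h
      rw [Nat.coprime_comm, hℓ2.coprime_iff_not_dvd]
      have h1 : orderOf h ∣ Nat.card H := orderOf_dvd_natCard h
      have h2 : orderOf h ≤ Nat.card H := Nat.le_of_dvd Nat.card_pos h1
      exact Nat.not_dvd_of_pos_of_lt (orderOf_pos h) (by omega)
    · intro r hr hdvd
      have hr0 : r = 0 := by exact_mod_cast hr
      subst hr0
      have : (ℓ : ℤ) ∣ 1 := by
        have := (dvd_neg (a := (ℓ : ℤ)) (b := (0 : ℤ) - 1)).mpr hdvd
        simpa using this
      have h1 : ℓ ∣ 1 := by exact_mod_cast this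
      exact hℓ2.one_lt.ne' (Nat.dvd_one.mp h1)

/-- A nontrivial finite subgroup of the multiplicative group of a division ring occurs as a Frobenius complement of some finite Frobenius group. -/
theorem result {D : Type*} [DivisionRing D] (H : Subgroup Dˣ) [Finite H] (hH : H ≠ ⊥) :
    ∃ (L : Type) (_ : Group L) (_ : Finite L) (C : Subgroup L), Cfsg.IsFrobeniusComplement C ∧ Nonempty (H ≃* C) := by
  classical
  have : Nontrivial H := (Subgroup.nontrivial_iff_ne_bot H).mpr hH
  let f : H →* D := (Units.coeHom D).comp H.subtype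
  have hf_inj : Function.Injective f := by
    intro a b hab
    apply Subtype.ext
    apply Units.ext
    exact hab
  let s : Set D := Set.range f
  let A : Subalgebra ℤ D := Algebra.adjoin ℤ s
  have hA : Subalgebra.toSubmodule A = Submodule.span ℤ s := by
    show Subalgebra.toSubmodule (Algebra.adjoin ℤ s) = _
    rw [Algebra.adjoin_eq_span]
    congr 1
    have : s = ((MonoidHom.mrange f : Submonoid D) : Set D) := (MonoidHom.coe_mrange f).symm
    rw [this, Submonoid.closure_eq]
  have hfin : s.Finite := Set.finite_range f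
  have hFG : (Subalgebra.toSubmodule A).FG := by rw [hA]; exact Submodule.fg_span hfin
  have : Module.Finite ℤ A := Module.Finite.of_fg hFG
  obtain ⟨ℓ, hℓ, hℓH, hℓD⟩ := exists_aux_prime H
  let I : Ideal A := Ideal.span {(ℓ : A)}
  let ι : H →* A :=
    { toFun := fun h => ⟨f h, Algebra.subset_adjoin ⟨h, rfl⟩⟩
      map_one' := by apply Subtype.ext; simp
      map_mul' := fun a b => by apply Subtype.ext; simp }
  have hι_inj : Function.Injective ι := by
    intro a b hab
    apply hf_inj
    exact congrArg Subtype.val hab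
  letI : DistribMulAction H (A ⧸ I) := DistribMulAction.compHom (A ⧸ I) ι
  have hsmul : ∀ (h : H) (m : A ⧸ I), h • m = ι h • m := fun _ _ => rfl
  -- ℓ kills the quotient
  have hℓM : ∀ m : A ⧸ I, ℓ • m = 0 := by
    intro m
    induction m using Submodule.Quotient.induction_on with
    | _ x =>
    rw [← Submodule.Quotient.mk_smul, Submodule.Quotient.mk_eq_zero]
    show ℓ • x ∈ Ideal.span {(ℓ : A)}
    rw [Ideal.mem_span_singleton']
    exact ⟨x, by rw [nsmul_eq_mul, Nat.cast_comm]⟩
  have : Finite (A ⧸ I) := by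
    have : Module.Finite ℤ (A ⧸ I) :=
      Module.Finite.of_surjective (AddMonoidHom.toIntLinearMap (Submodule.mkQ I).toAddMonoidHom)
        (Submodule.mkQ_surjective I)
    apply Module.finite_of_fg_torsion
    intro m
    refine ⟨⟨(ℓ : ℤ), mem_nonZeroDivisors_of_ne_zero (by exact_mod_cast hℓ.ne_zero)⟩, ?_⟩
    show (ℓ : ℤ) • m = 0
    rw [natCast_zsmul]
    exact hℓM m
  have : Nontrivial (A ⧸ I) := by
    rw [Submodule.Quotient.nontrivial_iff]
    intro hI
    have h1 : (1 : A) ∈ I := by rw [hI]; trivial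
    obtain ⟨x, hx⟩ := Ideal.mem_span_singleton'.mp h1
    have hxD : (x : D) * (ℓ : D) = 1 := by
      have := congrArg Subtype.val hx
      simpa using this
    have hin : Subalgebra.toSubmodule A ≤ (Ideal.span {(ℓ : ℤ)} : Ideal ℤ) • Subalgebra.toSubmodule A := by
      intro y hy
      have hyx : y * (x : D) ∈ Subalgebra.toSubmodule A := A.mul_mem hy x.2
      have : y = (ℓ : ℤ) • (y * (x : D)) := by
        rw [zsmul_eq_mul, Int.cast_natCast, Nat.cast_comm, mul_assoc, hxD, mul_one]
      rw [this]
      exact Submodule.smul_mem_smul (Ideal.mem_span_singleton_self _) hyx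
    obtain ⟨r, hr1, hr2⟩ :=
      Submodule.exists_sub_one_mem_and_smul_eq_zero_of_fg_of_le_smul _ _ hFG hin
    have hr0 : (r : D) = 0 := by
      have := hr2 1 A.one_mem
      simpa using this
    exact hℓD r hr0 (Ideal.mem_span_singleton.mp hr1)
  apply Cfsg.Agent.Lib.helper75.exists_frobenius_of_fpf_add (M := A ⧸ I)
  intro h hh m hm
  rw [hsmul] at hm
  have hpow : ∀ i : ℕ, (ι h) ^ i • m = m := by
    intro i
    induction i with
    | zero => simp
    | succ i ih => rw [pow_succ, mul_smul, hm, ih]
  have hne : ι h - 1 ≠ 0 := by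
    intro h0
    apply hh
    apply hι_inj
    rw [map_one]
    exact sub_eq_zero.mp h0
  have hgeom : ∑ i ∈ Finset.range (orderOf h), (ι h) ^ i = 0 := by
    have h1 : (ι h - 1) * ∑ i ∈ Finset.range (orderOf h), (ι h) ^ i = 0 := by
      rw [mul_geom_sum, ← map_pow, pow_orderOf_eq_one, map_one, sub_self]
    rcases mul_eq_zero.mp h1 with h2 | h2
    · exact absurd h2 hne
    · exact h2
  have hk : orderOf h • m = 0 := by
    have h1 : (∑ i ∈ Finset.range (orderOf h), (ι h) ^ i) • m = orderOf h • m := by
      rw [Finset.sum_smul]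
      simp [hpow]
    rw [← h1, hgeom, zero_smul]
  have h1 : addOrderOf m ∣ orderOf h := addOrderOf_dvd_of_nsmul_eq_zero hk
  have h2 : addOrderOf m ∣ ℓ := addOrderOf_dvd_of_nsmul_eq_zero (hℓM m)
  have h3 : addOrderOf m ∣ 1 := by
    have := Nat.dvd_gcd h1 h2
    rwa [(hℓH h)] at this
  exact AddMonoid.addOrderOf_eq_one_iff.mp (Nat.dvd_one.mp h3)

end Cfsg.Agent.S4293
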