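import Cfsg.Statements.S4295
import Mathlib
import Cfsg.Agent.Lib.helper75.FrobKernel
import Cfsg.Agent.Lib.helper75.QuatAction

set_option autoImplicit false
open Cfsg

namespace Cfsg.Agent.S4295

theorem quat_rels : (QuaternionGroup.a 2 : QuaternionGroup 2) ≠ 1 ∧
    (QuaternionGroup.a 2 : QuaternionGroup 2) * QuaternionGroup.a 2 = 1 ∧
    (QuaternionGroup.a 1 : QuaternionGroup 2) * QuaternionGroup.a 1 = QuaternionGroup.a 2 ∧
    (QuaternionGroup.xa 0 : QuaternionGroup 2) * QuaternionGroup.xa 0 = QuaternionGroup.a 2 ∧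
    (QuaternionGroup.a 1 : QuaternionGroup 2) * QuaternionGroup.xa 0 =
      QuaternionGroup.a 2 * (QuaternionGroup.xa 0 * QuaternionGroup.a 1) := by
  decide


/-- For a natural number m the following are equivalent: (a) some finite group has a Frobenius complement isomorphic to the quaternion group of order 8 whose Frobenius kernel (the identity together with the elements lying in no conjugate of the complement) has exactly m elements; (b) m is an odd perfect square greater than 1. -/
theorem result (m : ℕ) :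
    (∃ (L : Type) (_ : Group L) (_ : Finite L) (H : Subgroup L), Cfsg.IsFrobeniusComplement H ∧
        Nonempty (H ≃* QuaternionGroup 2) ∧ Nat.card (Cfsg.frobeniusKernel H) = m) ↔
    (Odd m ∧ IsSquare m ∧ 1 < m) := by
  constructor
  · rintro ⟨L, _, _, H, hF, ⟨e⟩, hm⟩
    obtain ⟨h1, h2, h3, h4, h5⟩ := quat_rels
    have key := Cfsg.Agent.Lib.helper75.frob_isSquare_of_quat H hF
      ((e.symm (QuaternionGroup.a 1) : H) : L) ((e.symm (QuaternionGroup.xa 0) : H) : L)
      ((e.symm (QuaternionGroup.a 2) : H) : L) (e.symm _).2 (e.symm _).2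
      (by
        intro h
        apply h1
        have : e.symm (QuaternionGroup.a 2) = 1 := Subtype.ext h
        rw [← e.symm.map_one] at this
        exact e.symm.injective this)
      (by rw [← Subgroup.coe_mul, ← map_mul, h2, map_one]; rfl)
      (by rw [← Subgroup.coe_mul, ← map_mul, h3])
      (by rw [← Subgroup.coe_mul, ← map_mul, h4])
      (by rw [← Subgroup.coe_mul, ← Subgroup.coe_mul, ← Subgroup.coe_mul, ← map_mul, ← map_mul,
        ← map_mul, h5])
    rw [hm] at key
    refine ⟨key.1, key.2, ?_⟩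
    rw [← hm]
    exact Cfsg.Agent.Lib.helper75.frob_one_lt_card_kernel H hF
  · rintro ⟨hodd, ⟨r, rfl⟩, hlt⟩
    have hr0 : r ≠ 0 := by
      rintro rfl
      simp at hlt
    obtain ⟨N, _, _, φ, hcard, hφ⟩ := Cfsg.Agent.Lib.helper75.exists_quat_action r hr0
    have hcard' : Nat.card N = r * r := by rw [hcard, pow_two]
    have hoddN : Odd (Nat.card N) := hcard' ▸ hodd
    have : Nontrivial N := by
      rw [← Finite.one_lt_card_iff_nontrivial, hcard']
      exact hlt
    obtain ⟨L, i1, i2, C, hC, ⟨f⟩, hk⟩ := Cfsg.Agent.Lib.helper75.exists_frobenius_of_fpf_card φ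
      (fun g hg n hn => Cfsg.Agent.Lib.helper75.quat_action_fpf hoddN φ hφ g hg n hn)
    exact ⟨L, i1, i2, C, hC, ⟨f.symm⟩, hk.trans hcard'⟩

end Cfsg.Agent.S4295
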