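import Cfsg.Statements.S4296
import Mathlib
import Cfsg.Agent.Lib.helper75.FpfRank
import Cfsg.Agent.Lib.helper75.FrobKernel
import Cfsg.Agent.Lib.helper59.UniqueOrderP

set_option autoImplicit false
open Cfsg

namespace Cfsg.Agent.S4296

/-- Let H be a Frobenius complement in a finite group, and suppose some Sylow subgroup of H is not cyclic. Then the number of elements of the Frobenius kernel (the identity together with the elements lying in no conjugate of H) is an odd perfect square. -/
theorem result {L : Type*} [Group L] [Finite L] (H : Subgroup L) (hF : Cfsg.IsFrobeniusComplement H)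
    (hZ : ∃ (p : ℕ) (_ : Fact p.Prime) (P : Sylow p H), ¬ IsCyclic P) :
    Odd (Nat.card (Cfsg.frobeniusKernel H)) ∧ IsSquare (Nat.card (Cfsg.frobeniusKernel H)) := by
  obtain ⟨p, hp, P, hP⟩ := hZ
  have hU := Cfsg.Agent.Lib.helper75.frob_sylow_unique H hF p P
  by_cases hp2 : p = 2
  · subst hp2
    rcases Cfsg.Agent.Lib.helper59.cyclic_or_quaternion_rel_of_uniqueOrderP P.isPGroup' hU with
      h | ⟨n, a, b, ha, -, -, hb2, hinv⟩
    · exact absurd h hP
    · have hz1 : a ^ 2 ^ (n + 1) ≠ 1 := by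
        intro h
        have h1 := orderOf_dvd_of_pow_eq_one h
        rw [ha] at h1
        have h2 := Nat.le_of_dvd (by positivity) h1
        have h3 : 2 ^ (n + 1) < 2 ^ (n + 2) := Nat.pow_lt_pow_right (by norm_num) (by omega)
        omega
      have hz2 : a ^ 2 ^ (n + 1) * a ^ 2 ^ (n + 1) = 1 := by
        rw [← pow_add]
        have : 2 ^ (n + 1) + 2 ^ (n + 1) = 2 ^ (n + 2) := by ring
        rw [this, ← ha, pow_orderOf_eq_one]
      have hxx : a ^ 2 ^ n * a ^ 2 ^ n = a ^ 2 ^ (n + 1) := by
        rw [← pow_add]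
        congr 1
        ring
      have hyy : b * b = a ^ 2 ^ (n + 1) := by rw [← pow_two, hb2]
      have h1 : b * a ^ 2 ^ n * b⁻¹ = (a ^ 2 ^ n)⁻¹ := by
        rw [← conj_pow, hinv, inv_pow]
      have hxy : a ^ 2 ^ n * b = a ^ 2 ^ (n + 1) * (b * a ^ 2 ^ n) := by
        calc a ^ 2 ^ n * b = a ^ 2 ^ n * a ^ 2 ^ n * (a ^ 2 ^ n)⁻¹ * b := by group
          _ = a ^ 2 ^ (n + 1) * (b * a ^ 2 ^ n * b⁻¹) * b := by rw [hxx, h1]
          _ = a ^ 2 ^ (n + 1) * (b * a ^ 2 ^ n) := by group
      let ι : (P : Subgroup H) →* L := H.subtype.comp (P : Subgroup H).subtype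
      have hι : Function.Injective ι :=
        (Subgroup.subtype_injective H).comp (Subgroup.subtype_injective _)
      exact Cfsg.Agent.Lib.helper75.frob_isSquare_of_quat H hF (ι (a ^ 2 ^ n)) (ι b)
        (ι (a ^ 2 ^ (n + 1))) ((a ^ 2 ^ n : (P : Subgroup H)) : H).2 ((b : (P : Subgroup H)) : H).2
        (by
          intro h
          apply hz1
          apply hι
          rw [h, map_one])
        (by rw [← map_mul, hz2, map_one])
        (by rw [← map_mul, hxx])
        (by rw [← map_mul, hyy])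
        (by rw [← map_mul, ← map_mul, ← map_mul, hxy])
  · exact absurd (Cfsg.Agent.Lib.helper59.isCyclic_of_odd_of_uniqueOrderP hp2 _ P rfl P.isPGroup' hU) hP

end Cfsg.Agent.S4296
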