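import Cfsg.Statements.S4297
import Mathlib
import Cfsg.Agent.S4293

set_option autoImplicit false
open Cfsg

namespace Cfsg.Agent.S4297

/-- The quaternion unit `j`. -/
noncomputable def qJ : Quaternion ℝ := ⟨0, 0, 1, 0⟩

theorem qJ_re : qJ.re = 0 := rfl
theorem qJ_imI : qJ.imI = 0 := rfl
theorem qJ_imJ : qJ.imJ = 1 := rfl
theorem qJ_imK : qJ.imK = 0 := rfl

theorem coe_mul_qJ (c : ℂ) :
    (c : Quaternion ℝ) * qJ = qJ * ((starRingEnd ℂ c : ℂ) : Quaternion ℝ) := by
  ext <;> simp [qJ_re, qJ_imI, qJ_imJ, qJ_imK]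

theorem qJ_mul_qJ : qJ * qJ = -1 := by
  ext <;> simp [qJ_re, qJ_imI, qJ_imJ, qJ_imK] <;> rfl

theorem coe_neg_one : (((-1 : ℂ)) : Quaternion ℝ) = -1 := by
  ext <;> simp <;> rfl

theorem stdAddChar_n (n : ℕ) [NeZero n] : ZMod.stdAddChar (N := 2 * n) (n : ZMod (2 * n)) = -1 := by
  have h := ZMod.stdAddChar_coe (N := 2 * n) (n : ℤ)
  have h2 : ((n : ℤ) : ZMod (2 * n)) = (n : ZMod (2 * n)) := by simp
  rw [h2] at h
  rw [h]
  have hn : (n : ℂ) ≠ 0 := by exact_mod_cast (NeZero.ne n)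
  have : 2 * (Real.pi : ℂ) * Complex.I * ((n : ℤ) : ℂ) / ((2 * n : ℕ) : ℂ) = Real.pi * Complex.I := by
    push_cast
    field_simp
  rw [this, Complex.exp_pi_mul_I]

/-- The embedding of the dicyclic group into the real quaternions. -/
noncomputable def toQuat (n : ℕ) [NeZero n] : QuaternionGroup n →* Quaternion ℝ where
  toFun
    | QuaternionGroup.a i => ((ZMod.stdAddChar i : ℂ) : Quaternion ℝ)
    | QuaternionGroup.xa i => qJ * ((ZMod.stdAddChar i : ℂ) : Quaternion ℝ)
  map_one' := by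
    rw [QuaternionGroup.one_def]
    simp
  map_mul' := by
    rintro (i | i) (j | j)
    · simp [AddChar.map_add_eq_mul]
    · simp only [QuaternionGroup.a_mul_xa]
      rw [← mul_assoc, coe_mul_qJ, mul_assoc, ← Quaternion.coeComplex_mul, ← AddChar.map_neg_eq_conj,
        ← AddChar.map_add_eq_mul, neg_add_eq_sub]
    · simp only [QuaternionGroup.xa_mul_a]
      rw [AddChar.map_add_eq_mul, Quaternion.coeComplex_mul, mul_assoc]
    · simp only [QuaternionGroup.xa_mul_xa]
      rw [mul_assoc, ← mul_assoc _ qJ, coe_mul_qJ, mul_assoc, ← mul_assoc, qJ_mul_qJ,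
        ← Quaternion.coeComplex_mul, ← AddChar.map_neg_eq_conj, ← AddChar.map_add_eq_mul, neg_add_eq_sub,
        add_sub_assoc, AddChar.map_add_eq_mul, stdAddChar_n, Quaternion.coeComplex_mul, coe_neg_one]

theorem toQuat_a (n : ℕ) [NeZero n] (i : ZMod (2 * n)) :
    toQuat n (QuaternionGroup.a i) = ((ZMod.stdAddChar i : ℂ) : Quaternion ℝ) := rfl

theorem toQuat_xa (n : ℕ) [NeZero n] (i : ZMod (2 * n)) :
    toQuat n (QuaternionGroup.xa i) = qJ * ((ZMod.stdAddChar i : ℂ) : Quaternion ℝ) := rfl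

theorem coe_injective : Function.Injective (fun c : ℂ => (c : Quaternion ℝ)) := by
  intro c d h
  have h1 := congrArg (fun q : Quaternion ℝ => q.re) h
  have h2 := congrArg (fun q : Quaternion ℝ => q.imI) h
  simp only [Quaternion.re_coeComplex, Quaternion.imI_coeComplex] at h1 h2
  exact Complex.ext h1 h2

theorem coe_ne_qJ_mul (c d : ℂ) (hd : d ≠ 0) : (c : Quaternion ℝ) ≠ qJ * (d : Quaternion ℝ) := by
  intro h
  have h1 := congrArg (fun q : Quaternion ℝ => q.imJ) h
  have h2 := congrArg (fun q : Quaternion ℝ => q.imK) h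
  simp [qJ_re, qJ_imI, qJ_imJ, qJ_imK] at h1 h2
  apply hd
  apply Complex.ext
  · simpa using h1.symm
  · simpa using h2

theorem stdAddChar_ne_zero (n : ℕ) [NeZero n] (i : ZMod (2 * n)) :
    ZMod.stdAddChar (N := 2 * n) i ≠ 0 := by
  intro h
  have h1 : ZMod.stdAddChar (N := 2 * n) (i + -i) = ZMod.stdAddChar i * ZMod.stdAddChar (-i) :=
    AddChar.map_add_eq_mul _ _ _
  rw [add_neg_cancel, AddChar.map_zero_eq_one, h, zero_mul] at h1
  exact one_ne_zero h1

theorem toQuat_injective (n : ℕ) [NeZero n] : Function.Injective (toQuat n) := by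
  rintro (i | i) (j | j) h
  · rw [toQuat_a, toQuat_a] at h
    rw [ZMod.injective_stdAddChar (coe_injective h)]
  · rw [toQuat_a, toQuat_xa] at h
    exact absurd h (coe_ne_qJ_mul _ _ (stdAddChar_ne_zero n j))
  · rw [toQuat_a, toQuat_xa] at h
    exact absurd h.symm (coe_ne_qJ_mul _ _ (stdAddChar_ne_zero n i))
  · rw [toQuat_xa, toQuat_xa] at h
    have hJ : qJ ≠ 0 := by
      intro h0
      have h1 : qJ.imJ = (0 : Quaternion ℝ).imJ := by rw [h0]
      rw [qJ_imJ, Quaternion.imJ_zero] at h1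
      exact one_ne_zero h1
    have h' := mul_left_cancel₀ hJ h
    rw [ZMod.injective_stdAddChar (coe_injective h')]

/-- For every n ≥ 2 the dicyclic group of order 4n (generated by an element a of order 2n and an element x with x² = aⁿ and x a x⁻¹ = a⁻¹) occurs as a Frobenius complement of some finite Frobenius group. -/
theorem result (n : ℕ) (hn : 2 ≤ n) :
    ∃ (L : Type) (_ : Group L) (_ : Finite L) (H : Subgroup L), Cfsg.IsFrobeniusComplement H ∧ Nonempty (H ≃* QuaternionGroup n) := by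
  have : NeZero n := ⟨by omega⟩
  let F : QuaternionGroup n →* (Quaternion ℝ)ˣ := (toQuat n).toHomUnits
  have hF : Function.Injective F := by
    intro a b hab
    apply toQuat_injective n
    have := congrArg Units.val hab
    simpa [F] using this
  have : Finite F.range := Finite.of_equiv _ (MonoidHom.ofInjective hF).toEquiv
  have hne : F.range ≠ ⊥ := by
    intro h
    obtain ⟨x, y, hxy⟩ := exists_pair_ne (QuaternionGroup n)
    have hx : F x ∈ F.range := ⟨x, rfl⟩
    have hy : F y ∈ F.range := ⟨y, rfl⟩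
    rw [h, Subgroup.mem_bot] at hx hy
    exact hxy (hF (hx.trans hy.symm))
  obtain ⟨L, i1, i2, C, hC, ⟨e⟩⟩ := Cfsg.Agent.S4293.result F.range hne
  exact ⟨L, i1, i2, C, hC, ⟨e.symm.trans (MonoidHom.ofInjective hF).symm⟩⟩


end Cfsg.Agent.S4297
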