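import Cfsg.Statements.S4298
import Mathlib
import Cfsg.Agent.Lib.helper75.FrobComplement

set_option autoImplicit false
open Cfsg

namespace Cfsg.Agent.S4298

/-- Lookup table of an embedding of `SL(2,3)` into `SL(2,5)` (entries of the image matrix), indexed by
`27 a + 9 b + 3 c + d` for the matrix `!![a, b; c, d]` over `ZMod 3`; junk outside `SL(2,3)`. -/
def tbl : List (ZMod 5 × ZMod 5 × ZMod 5 × ZMod 5) :=
  [
    (0, 0, 0, 0), (0, 0, 0, 0), (0, 0, 0, 0), (0, 0, 0, 0), (0, 0, 0, 0), (0, 0, 0, 0), (0, 0, 0, 0), (0, 0, 0, 0), (0, 0, 0, 0),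
    (0, 0, 0, 0), (0, 0, 0, 0), (0, 0, 0, 0), (0, 0, 0, 0), (0, 0, 0, 0), (0, 0, 0, 0), (0, 1, 4, 0), (4, 1, 2, 2), (1, 3, 4, 3),
    (0, 0, 0, 0), (0, 0, 0, 0), (0, 0, 0, 0), (0, 4, 1, 0), (4, 2, 1, 2), (1, 4, 3, 3), (0, 0, 0, 0), (0, 0, 0, 0), (0, 0, 0, 0),
    (0, 0, 0, 0), (1, 0, 0, 1), (0, 0, 0, 0), (0, 0, 0, 0), (1, 1, 2, 3), (0, 0, 0, 0), (0, 0, 0, 0), (3, 4, 3, 1), (0, 0, 0, 0),
    (0, 0, 0, 0), (1, 2, 1, 3), (0, 0, 0, 0), (0, 0, 0, 0), (0, 0, 0, 0), (2, 0, 0, 3), (2, 3, 4, 4), (0, 0, 0, 0), (0, 0, 0, 0),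
    (0, 0, 0, 0), (3, 3, 4, 1), (0, 0, 0, 0), (2, 4, 3, 4), (0, 0, 0, 0), (0, 0, 0, 0), (0, 0, 0, 0), (0, 0, 0, 0), (0, 3, 3, 0),
    (0, 0, 0, 0), (0, 0, 0, 0), (4, 0, 0, 4), (0, 0, 0, 0), (0, 0, 0, 0), (2, 1, 2, 4), (0, 0, 0, 0), (0, 0, 0, 0), (4, 4, 3, 2),
    (0, 0, 0, 0), (0, 0, 0, 0), (2, 2, 1, 4), (0, 0, 0, 0), (0, 2, 2, 0), (0, 0, 0, 0), (3, 1, 2, 1), (0, 0, 0, 0), (0, 0, 0, 0),
    (0, 0, 0, 0), (0, 0, 0, 0), (4, 3, 4, 2), (3, 2, 1, 1), (0, 0, 0, 0), (0, 0, 0, 0), (0, 0, 0, 0), (3, 0, 0, 2), (0, 0, 0, 0)]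

/-- The image of `!![a, b; c, d]`. -/
def f4 (a b c d : ZMod 3) : ZMod 5 × ZMod 5 × ZMod 5 × ZMod 5 :=
  tbl.getD (27 * a.val + 9 * b.val + 3 * c.val + d.val) (0, 0, 0, 0)

/-- Product of `2 × 2` matrices over `ZMod 5`, written as 4-tuples. -/
def mul4 (x y : ZMod 5 × ZMod 5 × ZMod 5 × ZMod 5) : ZMod 5 × ZMod 5 × ZMod 5 × ZMod 5 :=
  (x.1 * y.1 + x.2.1 * y.2.2.1, x.1 * y.2.1 + x.2.1 * y.2.2.2,
    x.2.2.1 * y.1 + x.2.2.2 * y.2.2.1, x.2.2.1 * y.2.1 + x.2.2.2 * y.2.2.2)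

/-- Matrix times vector. -/
def act4 (m : ZMod 5 × ZMod 5 × ZMod 5 × ZMod 5) (v : ZMod 5 × ZMod 5) : ZMod 5 × ZMod 5 :=
  (m.1 * v.1 + m.2.1 * v.2, m.2.2.1 * v.1 + m.2.2.2 * v.2)

theorem f4_one : f4 1 0 0 1 = (1, 0, 0, 1) := by decide +kernel

set_option maxRecDepth 100000 in
theorem f4_mul : ∀ a b c d a' b' c' d' : ZMod 3, a * d - b * c = 1 → a' * d' - b' * c' = 1 →
    f4 (a * a' + b * c') (a * b' + b * d') (c * a' + d * c') (c * b' + d * d')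
      = mul4 (f4 a b c d) (f4 a' b' c' d') := by
  decide +kernel

set_option maxRecDepth 100000 in
theorem f4_fpf : ∀ a b c d : ZMod 3, a * d - b * c = 1 → ¬ (a = 1 ∧ b = 0 ∧ c = 0 ∧ d = 1) →
    ∀ v1 v2 : ZMod 5, act4 (f4 a b c d) (v1, v2) = (v1, v2) → v1 = 0 ∧ v2 = 0 := by
  decide +kernel

theorem act4_mul4 (m m' : ZMod 5 × ZMod 5 × ZMod 5 × ZMod 5) (v : ZMod 5 × ZMod 5) :
    act4 (mul4 m m') v = act4 m (act4 m' v) := by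
  obtain ⟨a, b, c, d⟩ := m
  obtain ⟨a', b', c', d'⟩ := m'
  obtain ⟨x, y⟩ := v
  simp only [act4, mul4]
  ext <;> simp <;> ring

theorem act4_add (m : ZMod 5 × ZMod 5 × ZMod 5 × ZMod 5) (v w : ZMod 5 × ZMod 5) :
    act4 m (v + w) = act4 m v + act4 m w := by
  obtain ⟨a, b, c, d⟩ := m
  obtain ⟨x, y⟩ := v
  obtain ⟨x', y'⟩ := w
  simp only [act4]
  ext <;> simp <;> ring

theorem act4_zero (m : ZMod 5 × ZMod 5 × ZMod 5 × ZMod 5) : act4 m 0 = 0 := by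
  obtain ⟨a, b, c, d⟩ := m
  simp [act4]

theorem det_entries (g : Matrix.SpecialLinearGroup (Fin 2) (ZMod 3)) :
    g.1 0 0 * g.1 1 1 - g.1 0 1 * g.1 1 0 = 1 := by
  have := g.2
  rw [Matrix.det_fin_two] at this
  exact this

/-- The fixed-point-free action of `SL(2,3)` on `ZMod 5 × ZMod 5`. -/
@[instance_reducible]
def slAct : DistribMulAction (Matrix.SpecialLinearGroup (Fin 2) (ZMod 3)) (ZMod 5 × ZMod 5) where
  smul g v := act4 (f4 (g.1 0 0) (g.1 0 1) (g.1 1 0) (g.1 1 1)) v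
  one_smul v := by
    show act4 (f4 ((1 : Matrix.SpecialLinearGroup (Fin 2) (ZMod 3)).1 0 0)
      ((1 : Matrix.SpecialLinearGroup (Fin 2) (ZMod 3)).1 0 1)
      ((1 : Matrix.SpecialLinearGroup (Fin 2) (ZMod 3)).1 1 0)
      ((1 : Matrix.SpecialLinearGroup (Fin 2) (ZMod 3)).1 1 1)) v = v
    have e : f4 ((1 : Matrix.SpecialLinearGroup (Fin 2) (ZMod 3)).1 0 0)
      ((1 : Matrix.SpecialLinearGroup (Fin 2) (ZMod 3)).1 0 1)
      ((1 : Matrix.SpecialLinearGroup (Fin 2) (ZMod 3)).1 1 0)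
      ((1 : Matrix.SpecialLinearGroup (Fin 2) (ZMod 3)).1 1 1) = (1, 0, 0, 1) := by
      simp [f4_one]
    rw [e]
    obtain ⟨x, y⟩ := v
    simp [act4]
  mul_smul g h v := by
    show act4 (f4 ((g * h).1 0 0) ((g * h).1 0 1) ((g * h).1 1 0) ((g * h).1 1 1)) v
      = act4 (f4 (g.1 0 0) (g.1 0 1) (g.1 1 0) (g.1 1 1))
          (act4 (f4 (h.1 0 0) (h.1 0 1) (h.1 1 0) (h.1 1 1)) v)
    rw [← act4_mul4, ← f4_mul _ _ _ _ _ _ _ _ (det_entries g) (det_entries h)]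
    simp [Matrix.mul_apply, Fin.sum_univ_two]
  smul_zero g := act4_zero _
  smul_add g v w := act4_add _ _ _

theorem slAct_def (g : Matrix.SpecialLinearGroup (Fin 2) (ZMod 3)) (v : ZMod 5 × ZMod 5) :
    slAct.smul g v = act4 (f4 (g.1 0 0) (g.1 0 1) (g.1 1 0) (g.1 1 1)) v := rfl

/-- The group SL(2,3) of order 24 (the binary tetrahedral group) occurs as a Frobenius complement of some finite Frobenius group. -/
theorem result :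
    ∃ (L : Type) (_ : Group L) (_ : Finite L) (H : Subgroup L), Cfsg.IsFrobeniusComplement H ∧ Nonempty (H ≃* Matrix.SpecialLinearGroup (Fin 2) (ZMod 3)) := by
  letI := slAct
  have : Nontrivial (Matrix.SpecialLinearGroup (Fin 2) (ZMod 3)) := by
    refine ⟨⟨1, ⟨!![1, 1; 0, 1], by simp [Matrix.det_fin_two]⟩, ?_⟩⟩
    intro h
    have h1 := congrArg (fun g : Matrix.SpecialLinearGroup (Fin 2) (ZMod 3) => g.1 0 1) h
    simp at h1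
  have : Finite (Matrix.SpecialLinearGroup (Fin 2) (ZMod 3)) := inferInstance
  have : Nontrivial (ZMod 5 × ZMod 5) := ⟨⟨(0, 0), (1, 0), by decide⟩⟩
  obtain ⟨L, i1, i2, C, hC, ⟨e⟩⟩ :=
    Cfsg.Agent.Lib.helper75.exists_frobenius_of_fpf_add (M := ZMod 5 × ZMod 5)
      (H := Matrix.SpecialLinearGroup (Fin 2) (ZMod 3)) (by
        intro g hg v hv
        have hv' : act4 (f4 (g.1 0 0) (g.1 0 1) (g.1 1 0) (g.1 1 1)) v = v := hv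
        obtain ⟨x, y⟩ := v
        have hne : ¬ (g.1 0 0 = 1 ∧ g.1 0 1 = 0 ∧ g.1 1 0 = 0 ∧ g.1 1 1 = 1) := by
          rintro ⟨h1, h2, h3, h4⟩
          apply hg
          ext i j
          fin_cases i <;> fin_cases j <;> simp [h1, h2, h3, h4]
        obtain ⟨hx, hy⟩ := f4_fpf _ _ _ _ (det_entries g) hne x y hv'
        rw [hx, hy]; rfl)
  exact ⟨L, i1, i2, C, hC, ⟨e.symm⟩⟩


end Cfsg.Agent.S4298
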