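import Cfsg.Statements.S4299
import Cfsg.Agent.S4293

set_option autoImplicit false
open Cfsg

namespace Cfsg.Agent.S4299

/-- Every nontrivial finite cyclic group occurs as a Frobenius complement of some finite Frobenius group. -/
theorem result {C : Type*} [Group C] [Finite C] [IsCyclic C] [Nontrivial C] :
    ∃ (L : Type) (_ : Group L) (_ : Finite L) (H : Subgroup L), Cfsg.IsFrobeniusComplement H ∧ Nonempty (C ≃* H) := by
  classical
  set n : ℕ := Nat.card C with hn
  have : NeZero n := ⟨Nat.card_pos.ne'⟩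
  have hcard : Nat.card (rootsOfUnity n ℂ) = n := Complex.card_rootsOfUnity n
  have : IsCyclic (rootsOfUnity n ℂ) := rootsOfUnity.isCyclic ℂ n
  have e : C ≃* rootsOfUnity n ℂ := mulEquivOfCyclicCardEq (by rw [hcard])
  have hne : (rootsOfUnity n ℂ) ≠ ⊥ := by
    intro h
    have h1 : Nat.card (rootsOfUnity n ℂ) = 1 := by rw [h]; exact Subgroup.card_bot
    rw [hcard] at h1
    have : 1 < Nat.card C := Finite.one_lt_card
    omega
  obtain ⟨L, i1, i2, H, hH, ⟨e2⟩⟩ := Cfsg.Agent.S4293.result (rootsOfUnity n ℂ) hne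
  exact ⟨L, i1, i2, H, hH, ⟨e.trans e2⟩⟩

end Cfsg.Agent.S4299
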