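import Cfsg.Statements.S4300
-- import your own Cfsg.Agent.* helpers here

set_option autoImplicit false
open Cfsg

namespace Cfsg.Agent.S4300

/-- Let G act faithfully and primitively on a set X, and suppose the stabilizer of some point is a simple group. Then either G is simple, or G has a normal subgroup, neither trivial nor the whole group, that acts regularly on X (transitively with trivial point stabilizers). -/
theorem result {G : Type*} [Group G] {X : Type*} [MulAction G X] [FaithfulSMul G X]
    (hprim : MulAction.IsPreprimitive G X) (x : X) (hsimple : IsSimpleGroup (MulAction.stabilizer G x)) :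
    IsSimpleGroup G ∨ ∃ N : Subgroup G, N.Normal ∧ N ≠ ⊥ ∧ N ≠ ⊤ ∧
      MulAction.IsPretransitive N X ∧ ∀ y : X, MulAction.stabilizer N y = ⊥ := by
  haveI := hprim
  by_cases hG : IsSimpleGroup G
  · exact Or.inl hG
  right
  haveI : Nontrivial G := by
    obtain ⟨a, b, hab⟩ := hsimple.toNontrivial
    exact ⟨⟨a, b, fun h => hab (Subtype.ext h)⟩⟩
  obtain ⟨N, hN, hNbot, hNtop⟩ : ∃ N : Subgroup G, N.Normal ∧ N ≠ ⊥ ∧ N ≠ ⊤ := by
    by_contra hcon
    push_neg at hcon
    apply hG
    refine ⟨fun N hN => ?_⟩
    by_cases h : N = ⊥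
    · exact Or.inl h
    · exact Or.inr (hcon N hN h)
  haveI := hN
  refine ⟨N, hN, hNbot, hNtop, ?_⟩
  have htrans : MulAction.IsPretransitive N X := by
    apply MulAction.IsQuasiPreprimitive.isPretransitive_of_normal
    intro hfix
    apply hNbot
    rw [Subgroup.eq_bot_iff_forall]
    intro n hn
    apply FaithfulSMul.eq_of_smul_eq_smul (α := X)
    intro a
    have : a ∈ MulAction.fixedPoints N X := by rw [hfix]; trivial
    have h2 := this ⟨n, hn⟩
    simpa using h2
  refine ⟨htrans, ?_⟩
  -- N ⊓ stabilizer is trivial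
  have hNx : ∀ n ∈ N, n • x = x → n = 1 := by
    haveI : (N.subgroupOf (MulAction.stabilizer G x)).Normal := inferInstance
    rcases hsimple.eq_bot_or_eq_top_of_normal (N.subgroupOf (MulAction.stabilizer G x)) inferInstance
      with h | h
    · intro n hn hnx
      have : (⟨n, hnx⟩ : MulAction.stabilizer G x) ∈ N.subgroupOf (MulAction.stabilizer G x) := by
        rw [Subgroup.mem_subgroupOf]; exact hn
      rw [h, Subgroup.mem_bot] at this
      exact congrArg Subtype.val this
    · exfalso
      apply hNtop
      rw [Subgroup.subgroupOf_eq_top] at h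
      rw [eq_top_iff]
      intro g _
      obtain ⟨n, hn⟩ := htrans.exists_smul_eq x (g • x)
      have h1 : (n : G)⁻¹ * g ∈ MulAction.stabilizer G x := by
        rw [MulAction.mem_stabilizer_iff, mul_smul, ← hn]
        show (n : G)⁻¹ • ((n : G) • x) = x
        rw [inv_smul_smul]
      have h2 := h h1
      have h3 := N.mul_mem n.2 h2
      simpa using h3
  intro y
  rw [Subgroup.eq_bot_iff_forall]
  intro m hm
  obtain ⟨n, hn⟩ := htrans.exists_smul_eq x y
  rw [MulAction.mem_stabilizer_iff] at hm
  have h1 : ((n : G)⁻¹ * (m : G) * (n : G)) • x = x := by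
    rw [mul_smul, mul_smul]
    have : (n : G) • x = y := hn
    rw [this]
    have : (m : G) • y = y := hm
    rw [this, ← hn]
    show (n : G)⁻¹ • ((n : G) • x) = x
    rw [inv_smul_smul]
  have h2 := hNx _ (N.mul_mem (N.mul_mem (N.inv_mem n.2) m.2) n.2) h1
  have h3 : (m : G) = 1 := by
    have : (m : G) = (n : G) * ((n : G)⁻¹ * (m : G) * (n : G)) * (n : G)⁻¹ := by group
    rw [this, h2]; group
  exact Subtype.ext h3

end Cfsg.Agent.S4300
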