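import Cfsg.Statements.S4304
import Mathlib
import Cfsg.Agent.S4303
import Cfsg.Agent.Lib.helper75.Sylow15

set_option autoImplicit false
open Cfsg

namespace Cfsg.Agent.S4304

/-- No finite group has exactly 15 Sylow 7-subgroups. -/
theorem result {G : Type*} [Group G] [Finite G] : Nat.card (Sylow 7 G) ≠ 15 := by
  intro h
  have h7 : Fact (Nat.Prime 7) := ⟨by norm_num⟩
  obtain ⟨l, hl, hm⟩ := Cfsg.Agent.S4303.result (G := G) 7
  rw [h] at hl
  have h1 : ∀ m ∈ l, m = 1 := by
    intro m hm_mem
    have hdvd : m ∣ 15 := hl ▸ List.dvd_prod hm_mem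
    have hle := Nat.le_of_dvd (by norm_num) hdvd
    rcases hm m hm_mem with ⟨hpp, hmod⟩ | ⟨S, _, _, hS, rfl⟩
    · exfalso
      have hcases : m = 1 ∨ m = 15 := by
        interval_cases m <;> omega
      rcases hcases with rfl | rfl
      · exact not_isPrimePow_one hpp
      · rw [isPrimePow_iff_unique_prime_dvd] at hpp
        obtain ⟨p, -, hp⟩ := hpp
        have h3 := hp 3 ⟨by norm_num, by norm_num⟩
        have h5 := hp 5 ⟨by norm_num, by norm_num⟩
        omega
    · have hmod : Nat.card (Sylow 7 S) ≡ 1 [MOD 7] := card_sylow_modEq_one 7 S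
      have hne : Nat.card (Sylow 7 S) ≠ 15 :=
        Cfsg.Agent.Lib.helper75.no_simple_fifteen_sylow_seven
      unfold Nat.ModEq at hmod
      interval_cases hc : Nat.card (Sylow 7 S) <;> omega
  have hprod : l.prod = 1 := List.prod_eq_one h1
  omega

end Cfsg.Agent.S4304
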