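import Cfsg.Statements.S4309
-- import your own Cfsg.Agent.* helpers here

set_option autoImplicit false
open Cfsg

namespace Cfsg.Agent.S4309

/-- Let `π` be a set of primes, `G` a finite group with a Hall `π`-subgroup `H` (every prime divisor of the order of `H` lies in `π` and no prime of `π` divides its index), and `A` a normal subgroup of `G`. Then `H ∩ A` is a Hall `π`-subgroup of `A` and the image of `H` in `G/A` is a Hall `π`-subgroup of `G/A`. -/
theorem result {G : Type*} [Group G] [Finite G] (π : Set ℕ)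
    (H A : Subgroup G) [A.Normal] (hH : Cfsg.IsPiHall π H) :
    Cfsg.IsPiHall π ((H ⊓ A).subgroupOf A) ∧ Cfsg.IsPiHall π (H.map (QuotientGroup.mk' A)) := by
  obtain ⟨h1, h2⟩ := hH
  refine ⟨⟨?_, ?_⟩, ⟨?_, ?_⟩⟩
  · intro p hp hdvd
    apply h1 p hp
    have e : Nat.card ((H ⊓ A).subgroupOf A) = Nat.card (H ⊓ A : Subgroup G) :=
      Nat.card_congr (Subgroup.subgroupOfEquivOfLe (inf_le_right : H ⊓ A ≤ A)).toEquiv
    rw [e] at hdvd
    exact hdvd.trans (Subgroup.card_dvd_of_le inf_le_left)
  · intro p hp hpπ hdvd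
    apply h2 p hp hpπ
    have e1 : ((H ⊓ A).subgroupOf A).index = H.relIndex A := by
      show (H ⊓ A).relIndex A = H.relIndex A
      exact Subgroup.inf_relIndex_right H A
    have e2 : H.relIndex (H ⊔ A) = H.relIndex A := by
      have k1 := Subgroup.relIndex_mul_relIndex (H ⊓ A) H (H ⊔ A) inf_le_left le_sup_left
      have k2 := Subgroup.relIndex_mul_relIndex (H ⊓ A) A (H ⊔ A) inf_le_right le_sup_right
      rw [Subgroup.inf_relIndex_left, ← Subgroup.relIndex_sup_right H A] at k1
      rw [Subgroup.inf_relIndex_right] at k2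
      have k3 : A.relIndex (H ⊔ A) * H.relIndex (H ⊔ A) = A.relIndex (H ⊔ A) * H.relIndex A := by
        rw [k1, ← k2, mul_comm]
      have hne : A.relIndex (H ⊔ A) ≠ 0 := Subgroup.index_ne_zero_of_finite
      exact Nat.eq_of_mul_eq_mul_left (Nat.pos_of_ne_zero hne) k3
    rw [e1, ← e2] at hdvd
    exact hdvd.trans (Subgroup.relIndex_dvd_index_of_le le_sup_left)
  · intro p hp hdvd
    exact h1 p hp (hdvd.trans (Subgroup.card_map_dvd H _))
  · intro p hp hpπ hdvd
    exact h2 p hp hpπ (hdvd.trans (Subgroup.index_map_dvd H (QuotientGroup.mk'_surjective A)))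

end Cfsg.Agent.S4309
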