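-- Statement S4314: class sizes 1 or prime.
import Cfsg.Statements.S4314

set_option autoImplicit false
open Cfsg

namespace Cfsg.Agent.S4314

open scoped commutatorElement
open scoped Pointwise

variable {G : Type*} [Group G] [Finite G]

/-- If all centralizers are normal (and of index 1 or prime), class ≤ 2. -/
theorem class_two_of_normal
    (h : ∀ x : G, (Subgroup.centralizer ({x} : Set G)).index = 1 ∨ ((Subgroup.centralizer ({x} : Set G)).index).Prime)
    (hn : ∀ x : G, (Subgroup.centralizer ({x} : Set G)).Normal) :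
    Subgroup.upperCentralSeries G 2 = ⊤ := by
  have key : ∀ x : G, _root_.commutator G ≤ Subgroup.centralizer ({x} : Set G) := by
    intro x
    haveI := hn x
    rw [← Subgroup.Normal.quotient_commutative_iff_commutator_le]
    rcases h x with h1 | hp
    · have : Subsingleton (G ⧸ Subgroup.centralizer ({x} : Set G)) := by
        rw [← Finite.card_le_one_iff_subsingleton, ← Subgroup.index_eq_card, h1]
      exact ⟨⟨fun a b => Subsingleton.elim _ _⟩⟩
    · haveI : Fact ((Subgroup.centralizer ({x} : Set G)).index).Prime := ⟨hp⟩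
      have hc : Nat.card (G ⧸ Subgroup.centralizer ({x} : Set G)) = (Subgroup.centralizer ({x} : Set G)).index :=
        (Subgroup.index_eq_card _).symm
      haveI := isCyclic_of_prime_card hc
      exact IsCyclic.isMulCommutative
  rw [eq_top_iff]
  intro g _
  rw [Subgroup.mem_upperCentralSeries_succ_iff]
  intro y
  rw [Subgroup.upperCentralSeries_one, Subgroup.mem_center_iff]
  intro z
  have hmem : ⁅g, y⁆ ∈ Subgroup.centralizer ({z} : Set G) :=
    key z (Subgroup.commutator_mem_commutator (Subgroup.mem_top g) (Subgroup.mem_top y))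
  rw [Subgroup.mem_centralizer_iff] at hmem
  exact hmem z rfl

/-- subgroups of the same prime index containing one another are equal -/
theorem le_of_le_of_index_eq {H K : Subgroup G} (hle : H ≤ K) (hidx : H.index = K.index) : K ≤ H := by
  have h1 := Subgroup.relIndex_mul_index hle
  have hK : K.index ≠ 0 := Subgroup.index_ne_zero_of_finite
  rw [hidx] at h1
  have : H.relIndex K = 1 := by
    have : H.relIndex K * K.index = 1 * K.index := by rw [h1, one_mul]
    exact Nat.eq_of_mul_eq_mul_right (Nat.pos_of_ne_zero hK) this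
  exact Subgroup.relIndex_eq_one.mp this

theorem main_case
    (h : ∀ x : G, (Subgroup.centralizer ({x} : Set G)).index = 1 ∨ ((Subgroup.centralizer ({x} : Set G)).index).Prime)
    (x : G) (hx : ¬ (Subgroup.centralizer ({x} : Set G)).Normal) :
    ∃ p q : ℕ, p.Prime ∧ q.Prime ∧ p ≠ q ∧ Nat.card (G ⧸ Subgroup.center G) = p * q ∧
      ¬ IsMulCommutative (G ⧸ Subgroup.center G) := by
  obtain ⟨M, hM⟩ : ∃ M : Subgroup G, M = Subgroup.centralizer ({x} : Set G) := ⟨_, rfl⟩
  rw [← hM] at hx
  obtain ⟨N, hN⟩ : ∃ N : Subgroup G, N = M.normalCore := ⟨_, rfl⟩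
  haveI hNn : N.Normal := by rw [hN]; infer_instance
  have hNM : N ≤ M := by rw [hN]; exact M.normalCore_le
  have hNmem : ∀ n : G, n ∈ N ↔ ∀ b : G, b * n * b⁻¹ ∈ M := by
    intro n; rw [hN]; exact Iff.rfl
  -- index p prime
  obtain ⟨p, hp⟩ : ∃ p : ℕ, p = M.index := ⟨_, rfl⟩
  have hpp : p.Prime := by
    rcases h x with h1 | hpr
    · exfalso; apply hx
      rw [← hM] at h1
      rw [Subgroup.index_eq_one.mp h1]; infer_instance
    · rw [hp, hM]; exact hpr
  haveI : Fact p.Prime := ⟨hpp⟩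
  -- r = |M : N|
  obtain ⟨r, hr⟩ : ∃ r : ℕ, r = N.relIndex M := ⟨_, rfl⟩
  have hNidx : N.index = r * p := by rw [hr, hp]; exact (Subgroup.relIndex_mul_index hNM).symm
  have hMN : ¬ M ≤ N := by
    intro hle
    apply hx
    have : M = N := le_antisymm hle hNM
    rw [this]; exact hNn
  have hr1 : r ≠ 1 := by
    intro h1
    rw [hr, Subgroup.relIndex_eq_one] at h1
    exact hMN h1
  -- Cauchy
  have hdvd : p ∣ Nat.card (G ⧸ N) := by
    rw [← Subgroup.index_eq_card, hNidx]
    exact dvd_mul_left _ _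
  obtain ⟨y, hy⟩ := exists_prime_orderOf_dvd_card' p hdvd
  obtain ⟨t₀, rfl⟩ := QuotientGroup.mk_surjective y
  have ht₀N : t₀ ∉ N := by
    intro hmem
    have : ((t₀ : G) : G ⧸ N) = 1 := (QuotientGroup.eq_one_iff _).mpr hmem
    rw [this, orderOf_one] at hy
    exact hpp.one_lt.ne hy
  have hex : ∃ b : G, b * t₀ * b⁻¹ ∉ M := by
    by_contra hcon; push Not at hcon; exact ht₀N ((hNmem t₀).mpr hcon)
  obtain ⟨b, hb⟩ := hex
  obtain ⟨t, ht⟩ : ∃ t : G, t = b * t₀ * b⁻¹ := ⟨_, rfl⟩
  have htM : t ∉ M := by rw [ht]; exact hb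
  have htN : t ∉ N := fun hh => htM (hNM hh)
  have htpN : t ^ p ∈ N := by
    have h0 : (((t₀ ^ p : G)) : G ⧸ N) = 1 := by
      rw [QuotientGroup.mk_pow, ← hy, pow_orderOf_eq_one]
    have h1 : t₀ ^ p ∈ N := (QuotientGroup.eq_one_iff _).mp h0
    have h2 : t ^ p = b * t₀ ^ p * b⁻¹ := by rw [ht, conj_pow]
    rw [h2]; exact hNn.conj_mem _ h1 b
  -- F1
  have F1 : ∀ k : ℤ, t ^ k ∈ M → (p : ℤ) ∣ k := by
    intro k hk
    by_contra hnd
    have hcop : IsCoprime (p : ℤ) k :=
      (Nat.prime_iff_prime_int.mp hpp).coprime_iff_not_dvd.mpr hnd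
    obtain ⟨a, c, hac⟩ := hcop
    apply htM
    have : t = (t ^ p) ^ a * (t ^ k) ^ c := by
      rw [← zpow_natCast t p, ← zpow_mul, ← zpow_mul, ← zpow_add, mul_comm (p : ℤ) a, mul_comm k c,
        hac, zpow_one]
    rw [this]
    exact M.mul_mem (M.zpow_mem (hNM htpN) a) (M.zpow_mem hk c)
  have F1' : ∀ k : ℤ, (p : ℤ) ∣ k → t ^ k ∈ N := by
    rintro k ⟨c, rfl⟩
    rw [zpow_mul, zpow_natCast]
    exact N.zpow_mem htpN c
  -- F2: coset representatives
  have F2 : ∀ c : G, ∃ i : ℕ, (t ^ i)⁻¹ * c ∈ M := by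
    intro c
    have hinj : Function.Injective (fun i : Fin p => ((t ^ (i : ℕ) : G) : G ⧸ M)) := by
      intro i j hij
      have h1 : (t ^ (i : ℕ))⁻¹ * t ^ (j : ℕ) ∈ M := QuotientGroup.eq.mp hij
      have h2 : t ^ ((j : ℤ) - (i : ℤ)) ∈ M := by
        have : t ^ ((j : ℤ) - (i : ℤ)) = (t ^ (i : ℕ))⁻¹ * t ^ (j : ℕ) := by
          rw [sub_eq_neg_add, zpow_add, zpow_neg, zpow_natCast, zpow_natCast]
        rw [this]; exact h1
      have h3 := F1 _ h2
      have hi := i.isLt
      have hj := j.isLt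
      apply Fin.ext
      have h4 : ((j : ℤ) - (i : ℤ)) = 0 := by
        apply Int.eq_zero_of_abs_lt_dvd h3
        rw [abs_lt]; constructor <;> omega
      omega
    have hbij := (Nat.bijective_iff_injective_and_card _).mpr
      ⟨hinj, by rw [Nat.card_fin, hp, Subgroup.index_eq_card]⟩
    obtain ⟨i, hi⟩ := hbij.2 (c : G ⧸ M)
    exact ⟨i, QuotientGroup.eq.mp hi⟩
  -- F3
  have F3 : ∀ c : G, c * t = t * c → ∃ i : ℕ, (t ^ i)⁻¹ * c ∈ N := by
    intro c hc
    obtain ⟨i, hi⟩ := F2 c
    refine ⟨i, (hNmem _).mpr ?_⟩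
    intro d
    obtain ⟨j, hj⟩ := F2 d⁻¹
    have hcomm : Commute ((t ^ i)⁻¹ * c) (t ^ j) := by
      have h1 : Commute c t := hc
      have h2 : Commute (t ^ i)⁻¹ t := ((Commute.refl t).pow_left i).inv_left
      exact (h2.mul_left h1).pow_right j
    have hd : d = ((t ^ j)⁻¹ * d⁻¹)⁻¹ * (t ^ j)⁻¹ := by group
    have : d * ((t ^ i)⁻¹ * c) * d⁻¹ =
        ((t ^ j)⁻¹ * d⁻¹)⁻¹ * ((t ^ i)⁻¹ * c) * ((t ^ j)⁻¹ * d⁻¹) := by
      have e := hcomm.eq
      calc d * ((t ^ i)⁻¹ * c) * d⁻¹
          = ((t ^ j)⁻¹ * d⁻¹)⁻¹ * ((t ^ j)⁻¹ * (((t ^ i)⁻¹ * c) * t ^ j)) * ((t ^ j)⁻¹ * d⁻¹) := by group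
        _ = ((t ^ j)⁻¹ * d⁻¹)⁻¹ * ((t ^ j)⁻¹ * (t ^ j * ((t ^ i)⁻¹ * c))) * ((t ^ j)⁻¹ * d⁻¹) := by rw [e]
        _ = _ := by group
    rw [this]
    exact M.mul_mem (M.mul_mem (M.inv_mem hj) hi) hj
  -- F4/F5: T and the centralizer of t
  obtain ⟨T, hT⟩ : ∃ T : Subgroup G, T = (Subgroup.zpowers ((t : G) : G ⧸ N)).comap (QuotientGroup.mk' N) :=
    ⟨_, rfl⟩
  have hCT : Subgroup.centralizer ({t} : Set G) ≤ T := by
    intro c hc
    rw [Subgroup.mem_centralizer_iff] at hc
    obtain ⟨i, hi⟩ := F3 c (hc t rfl).symm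
    rw [hT, Subgroup.mem_comap, QuotientGroup.mk'_apply]
    have : ((c : G) : G ⧸ N) = ((t : G) : G ⧸ N) ^ i := by
      rw [← QuotientGroup.mk_pow]
      exact (QuotientGroup.eq.mpr hi).symm
    rw [this]
    exact Subgroup.pow_mem _ (Subgroup.mem_zpowers _) i
  have hord : orderOf ((t : G) : G ⧸ N) = p := by
    apply orderOf_eq_prime
    · rw [← QuotientGroup.mk_pow]; exact (QuotientGroup.eq_one_iff _).mpr htpN
    · intro h1; exact htN ((QuotientGroup.eq_one_iff _).mp h1)
  have hTidx : T.index = r := by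
    have h1 : T.index = (Subgroup.zpowers ((t : G) : G ⧸ N)).index := by
      rw [hT]; exact Subgroup.index_comap_of_surjective _ (QuotientGroup.mk'_surjective N)
    have h2 := Subgroup.card_mul_index (Subgroup.zpowers ((t : G) : G ⧸ N))
    rw [Nat.card_zpowers, hord, ← h1, ← Subgroup.index_eq_card, hNidx, mul_comm] at h2
    exact Nat.eq_of_mul_eq_mul_right hpp.pos h2
  have hrp : r.Prime := by
    have hdv : T.index ∣ (Subgroup.centralizer ({t} : Set G)).index := Subgroup.index_dvd_of_le hCT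
    rw [hTidx] at hdv
    rcases h t with h1 | hpr
    · rw [h1] at hdv
      exact absurd (Nat.dvd_one.mp hdv) hr1
    · rcases (Nat.dvd_prime hpr).mp hdv with h2 | h2
      · exact absurd h2 hr1
      · rw [h2]; exact hpr
  -- normalizer of M is M
  have hnorm : Subgroup.normalizer (M : Set G) ≤ M := by
    apply le_of_le_of_index_eq Subgroup.le_normalizer
    have hdv : (Subgroup.normalizer (M : Set G)).index ∣ M.index :=
      Subgroup.index_dvd_of_le Subgroup.le_normalizer
    rw [← hp] at hdv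
    rcases (Nat.dvd_prime hpp).mp hdv with h1 | h1
    · exfalso; apply hx
      rw [Subgroup.index_eq_one] at h1
      exact Subgroup.normalizer_eq_top_iff.mp h1
    · rw [← hp, h1]
  -- F8
  have F8 : ∀ u : G, u ∈ M → u ∉ N → M ≤ Subgroup.centralizer ({u} : Set G) := by
    intro u huM huN
    have hK1 : N ≤ N ⊔ Subgroup.zpowers u := le_sup_left
    have hK2 : N ⊔ Subgroup.zpowers u ≤ M :=
      sup_le hNM (by rw [Subgroup.zpowers_le]; exact huM)
    have hmul := Subgroup.relIndex_mul_relIndex N (N ⊔ Subgroup.zpowers u) M hK1 hK2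
    rw [← hr] at hmul
    have hMK : M ≤ N ⊔ Subgroup.zpowers u := by
      have hd : N.relIndex (N ⊔ Subgroup.zpowers u) ∣ r := ⟨_, hmul.symm⟩
      rcases (Nat.dvd_prime hrp).mp hd with h1 | h1
      · exfalso; apply huN
        rw [Subgroup.relIndex_eq_one] at h1
        exact h1 (le_sup_right (a := N) (Subgroup.mem_zpowers u))
      · rw [h1] at hmul
        have : (N ⊔ Subgroup.zpowers u).relIndex M = 1 := by
          have h2 : r * (N ⊔ Subgroup.zpowers u).relIndex M = r * 1 := by rw [hmul, mul_one]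
          exact Nat.eq_of_mul_eq_mul_left hrp.pos h2
        exact Subgroup.relIndex_eq_one.mp this
    have hconj : ∀ c : G, c * u = u * c → ∀ m : G, m ∈ M → c * m * c⁻¹ ∈ M := by
      intro c hc m hm
      have hm' := hMK hm
      have hm'' : m ∈ (N : Set G) * (Subgroup.zpowers u : Set G) := by
        rw [← Subgroup.normal_mul]; exact hm'
      obtain ⟨n, hn, w, hw, rfl⟩ := Set.mem_mul.mp hm''
      obtain ⟨k, rfl⟩ := Subgroup.mem_zpowers_iff.mp hw
      have hcu : Commute c (u ^ k) := (show Commute c u from hc).zpow_right k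
      have : c * (n * u ^ k) * c⁻¹ = (c * n * c⁻¹) * u ^ k := by
        have e := hcu.eq
        calc c * (n * u ^ k) * c⁻¹ = (c * n * c⁻¹) * (c * u ^ k) * c⁻¹ := by group
          _ = (c * n * c⁻¹) * (u ^ k * c) * c⁻¹ := by rw [e]
          _ = _ := by group
      rw [this]
      exact M.mul_mem (hNM (hNn.conj_mem n hn c)) (M.zpow_mem huM k)
    have hCu : Subgroup.centralizer ({u} : Set G) ≤ M := by
      intro c hc
      rw [Subgroup.mem_centralizer_iff] at hc
      have hcu : c * u = u * c := (hc u rfl).symm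
      apply hnorm
      rw [Subgroup.mem_normalizer_iff]
      intro m
      constructor
      · exact hconj c hcu m
      · intro hm
        have hcu' : c⁻¹ * u = u * c⁻¹ := by
          have : Commute c⁻¹ u := (show Commute c u from hcu).inv_left
          exact this.eq
        have := hconj c⁻¹ hcu' _ hm
        have e : c⁻¹ * (c * m * c⁻¹) * c⁻¹⁻¹ = m := by group
        rw [e] at this; exact this
    apply le_of_le_of_index_eq hCu
    have hmul := Subgroup.relIndex_mul_index hCu
    rw [← hp] at hmul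
    rcases h u with h1 | hpr
    · rw [h1] at hmul
      have : p ∣ 1 := ⟨_, by rw [mul_comm]; exact hmul.symm⟩
      exact absurd (Nat.dvd_one.mp this) hpp.one_lt.ne'
    · have hd : p ∣ (Subgroup.centralizer ({u} : Set G)).index := ⟨_, by rw [mul_comm]; exact hmul.symm⟩
      rcases (Nat.dvd_prime hpr).mp hd with h2 | h2
      · exact absurd h2 hpp.one_lt.ne'
      · rw [← h2, hp]
  -- F9: M commutative
  obtain ⟨u₀, hu₀M, hu₀N⟩ : ∃ u₀ : G, u₀ ∈ M ∧ u₀ ∉ N := by
    by_contra hcon; push Not at hcon; exact hMN hcon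
  have F8' : ∀ u : G, u ∈ M → u ∉ N → ∀ m : G, m ∈ M → u * m = m * u := by
    intro u hu hu' m hm
    have := F8 u hu hu' hm
    rw [Subgroup.mem_centralizer_iff] at this
    exact this u rfl
  have F9 : ∀ a : G, a ∈ M → ∀ c : G, c ∈ M → a * c = c * a := by
    intro a ha c hc
    by_cases haN : a ∈ N
    · by_cases hcN : c ∈ N
      · have h1 : u₀ * a ∉ N := fun hh => hu₀N (by
          have := N.mul_mem hh (N.inv_mem haN)
          rwa [mul_inv_cancel_right] at this)
        have h2 := F8' (u₀ * a) (M.mul_mem hu₀M ha) h1 c hc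
        have h3 := F8' u₀ hu₀M hu₀N c hc
        have : u₀ * (a * c) = u₀ * (c * a) := by
          calc u₀ * (a * c) = (u₀ * a) * c := by rw [mul_assoc]
            _ = c * (u₀ * a) := h2
            _ = (c * u₀) * a := by rw [mul_assoc]
            _ = (u₀ * c) * a := by rw [h3]
            _ = u₀ * (c * a) := by rw [mul_assoc]
        exact mul_left_cancel this
      · exact (F8' c hc hcN a ha).symm
    · exact F8' a ha haN c hc
  -- F10: N ≤ center
  have hxM : x ∈ M := by
    rw [hM, Subgroup.mem_centralizer_iff]; intro y hy; rw [Set.mem_singleton_iff.mp hy]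
  have F10 : N ≤ Subgroup.center G := by
    intro n hn
    by_contra hnc
    have hMC : M ≤ Subgroup.centralizer ({n} : Set G) := by
      intro m hm
      rw [Subgroup.mem_centralizer_iff]
      intro y hy
      rw [Set.mem_singleton_iff.mp hy]
      exact F9 n (hNM hn) m hm
    have hCM : Subgroup.centralizer ({n} : Set G) ≤ M := by
      apply le_of_le_of_index_eq hMC
      have hdv : (Subgroup.centralizer ({n} : Set G)).index ∣ M.index := Subgroup.index_dvd_of_le hMC
      rw [← hp] at hdv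
      rcases (Nat.dvd_prime hpp).mp hdv with h1 | h1
      · exfalso; apply hnc
        rw [Subgroup.index_eq_one] at h1
        rw [Subgroup.mem_center_iff]
        intro g
        have hg : g ∈ Subgroup.centralizer ({n} : Set G) := by rw [h1]; exact Subgroup.mem_top g
        rw [Subgroup.mem_centralizer_iff] at hg
        exact (hg n rfl).symm
      · rw [← hp, h1]
    -- non-normality
    have hnn : ∃ g m : G, m ∈ M ∧ g * m * g⁻¹ ∉ M := by
      by_contra hcon; push Not at hcon
      exact hx ⟨fun m hm g => hcon g m hm⟩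
    obtain ⟨g, m, hm, hgm⟩ := hnn
    apply hgm
    apply hCM
    rw [Subgroup.mem_centralizer_iff]
    intro y hy
    rw [Set.mem_singleton_iff.mp hy]
    have h1 : g⁻¹ * n * g⁻¹⁻¹ ∈ M := (hNmem n).mp hn g⁻¹
    have h2 := F9 _ h1 m hm
    have h3 : n * (g * m * g⁻¹) = g * ((g⁻¹ * n * g⁻¹⁻¹) * m) * g⁻¹ := by group
    have h4 : g * m * g⁻¹ * n = g * (m * (g⁻¹ * n * g⁻¹⁻¹)) * g⁻¹ := by group
    rw [h3, h4, h2]
  have F11 : Subgroup.center G ≤ N := by
    intro z hz
    rw [hNmem]
    intro d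
    rw [Subgroup.mem_center_iff] at hz
    have : d * z * d⁻¹ = z := by rw [hz d, mul_inv_cancel_right]
    rw [this, hM, Subgroup.mem_centralizer_iff]
    intro y hy
    rw [Set.mem_singleton_iff.mp hy]
    exact hz x
  have hZN : Subgroup.center G = N := le_antisymm F11 F10
  have hcard : Nat.card (G ⧸ Subgroup.center G) = r * p := by
    rw [← Subgroup.index_eq_card, hZN, hNidx]
  have hnc : ¬ IsMulCommutative (G ⧸ Subgroup.center G) := by
    intro hc
    rw [Subgroup.Normal.quotient_commutative_iff_commutator_le] at hc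
    apply hx
    exact Subgroup.Normal.of_commutator_le (G := G) (hc.trans (hZN.le.trans hNM))
  refine ⟨r, p, hrp, hpp, ?_, hcard, hnc⟩
  intro hrpeq
  apply hnc
  have hsq : Nat.card (G ⧸ Subgroup.center G) = p ^ 2 := by rw [hcard, hrpeq, sq]
  exact IsPGroup.isMulCommutative_of_card_eq_prime_sq hsq

/-- Let `G` be a finite group every conjugacy class of which has size 1 or a prime. Then either `G` is nilpotent of class at most 2, or `G/Z(G)` is a non-abelian group of order `pq` for distinct primes `p, q` (a Frobenius group of order `pq`). -/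
theorem result {G : Type*} [Group G] [Finite G]
    (h : ∀ x : G, (Subgroup.centralizer ({x} : Set G)).index = 1 ∨ ((Subgroup.centralizer ({x} : Set G)).index).Prime) :
    Subgroup.upperCentralSeries G 2 = ⊤ ∨
      ∃ p q : ℕ, p.Prime ∧ q.Prime ∧ p ≠ q ∧ Nat.card (G ⧸ Subgroup.center G) = p * q ∧ ¬ IsMulCommutative (G ⧸ Subgroup.center G) := by
  by_cases hn : ∀ x : G, (Subgroup.centralizer ({x} : Set G)).Normal
  · exact Or.inl (class_two_of_normal h hn)
  · rw [not_forall] at hn
    obtain ⟨x, hx⟩ := hn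
    exact Or.inr (main_case h x hx)

end Cfsg.Agent.S4314
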