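import Cfsg.Statements.S4320
import Cfsg.Agent.Lib.helper86.PIT

set_option autoImplicit false
open Cfsg

namespace Cfsg.Agent.S4320

open Cfsg.Agent.Lib.helper86

universe u v

/-- Functions on `Q`, as a module over the group ring of `Q` by translation. -/
def TransMod (Q : Type u) (X : Type v) : Type (max u v) := Q → X

instance instAddCommGroupTransMod (Q : Type u) (X : Type v) [AddCommGroup X] :
    AddCommGroup (TransMod Q X) :=
  inferInstanceAs (AddCommGroup (Q → X))

/-- Translation of functions. -/
def transEnd (Q : Type u) (X : Type v) [Group Q] [AddCommGroup X] :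
    Q →* Module.End ℤ (TransMod Q X) where
  toFun x :=
    { toFun := fun b q => b (x⁻¹ * q)
      map_add' := fun _ _ => rfl
      map_smul' := fun _ _ => rfl }
  map_one' := by
    ext b
    funext q
    show b (1⁻¹ * q) = b q
    rw [inv_one, one_mul]
  map_mul' := fun x y => by
    ext b
    funext q
    show b ((x * y)⁻¹ * q) = b (y⁻¹ * (x⁻¹ * q))
    rw [mul_inv_rev, mul_assoc]

noncomputable instance instModuleTransMod (Q : Type u) (X : Type v) [CommGroup Q]
    [AddCommGroup X] : Module (MonoidAlgebra ℤ Q) (TransMod Q X) :=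
  Module.compHom (TransMod Q X)
    (MonoidAlgebra.lift ℤ (Module.End ℤ (TransMod Q X)) Q (transEnd Q X)).toRingHom

theorem of_smul_apply {Q : Type u} {X : Type v} [CommGroup Q] [AddCommGroup X] (x : Q)
    (b : TransMod Q X) (q : Q) : (MonoidAlgebra.of ℤ Q x • b) q = b (x⁻¹ * q) := by
  show ((MonoidAlgebra.lift ℤ (Module.End ℤ (TransMod Q X)) Q (transEnd Q X))
    (MonoidAlgebra.of ℤ Q x)) b q = _
  rw [MonoidAlgebra.lift_of]
  rfl

/-- The translated transversal, evaluated. -/
theorem smul_transversal_apply {G : Type*} [Group G] (H : Subgroup G) [H.Normal]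
    (T : H.LeftTransversal) (g : G) (q : G ⧸ H) :
    ((g • T).2.leftQuotientEquiv q : G) =
      g * (T.2.leftQuotientEquiv ((QuotientGroup.mk g : G ⧸ H)⁻¹ * q) : G) := by
  rw [Subgroup.smul_apply_eq_smul_apply_inv_smul, smul_eq_mul]
  have hq : g⁻¹ • q = (QuotientGroup.mk g : G ⧸ H)⁻¹ * q := by
    induction q using QuotientGroup.induction_on with
    | H z => rfl
  rw [hq]

/-- Evaluation at a point as an additive map. -/
def evalHom (Q : Type u) (X : Type v) [AddCommGroup X] (q : Q) : TransMod Q X →+ X where
  toFun b := b q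
  map_zero' := rfl
  map_add' _ _ := rfl

/-- The Principal Ideal Theorem of class field theory in its group-theoretic form: for every finite group `G`, the transfer homomorphism from `G` into the abelianization `G'/G''` of its derived subgroup `G'` is the trivial homomorphism. -/
theorem result {G : Type*} [Group G] [Finite G] :
    MonoidHom.transfer (Abelianization.of : ↥(commutator G) →* Abelianization ↥(commutator G)) =
      (1 : G →* Abelianization ↥(commutator G)) := by
  classical
  ext g
  rw [MonoidHom.one_apply]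
  let hfQ : Fintype (Abelianization G) := (commutator G).fintypeQuotientOfFiniteIndex
  have hπ : Function.Surjective (Abelianization.of : G →* Abelianization G) :=
    QuotientGroup.mk_surjective
  let π : G →* Abelianization G := Abelianization.of
  let T : (commutator G).LeftTransversal := default
  let s : Abelianization G → G := fun q => (T.2.leftQuotientEquiv q : G)
  have hs : ∀ q, π (s q) = q := fun q => T.2.quotientGroupMk_leftQuotientEquiv q
  have hA : ∀ x, π x = 1 → x ∈ commutator G := fun x hx => by
    rw [← Abelianization.ker_of G]; exact hx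
  let ϕ : ↥(commutator G) →* Abelianization ↥(commutator G) := Abelianization.of
  let r : G → Abelianization ↥(commutator G) :=
    fun x => if h : x ∈ commutator G then ϕ ⟨x, h⟩ else 1
  have hr : ∀ x (h : x ∈ commutator G), r x = ϕ ⟨x, h⟩ := fun x h => dif_pos h
  have hr_mul : ∀ a b, a ∈ commutator G → b ∈ commutator G → r (a * b) = r a * r b := by
    intro a b ha hb
    rw [hr a ha, hr b hb, hr _ (mul_mem ha hb), ← map_mul]
    rfl
  have hmem : ∀ (g : G) (q : Abelianization G),
      (s q)⁻¹ * g * s ((π g)⁻¹ * q) ∈ commutator G := by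
    intro g q
    apply hA
    rw [map_mul, map_mul, map_inv, hs, hs]
    group
  let D : G → TransMod (Abelianization G) (Additive (Abelianization ↥(commutator G))) :=
    fun g q => Additive.ofMul (r ((s q)⁻¹ * g * s ((π g)⁻¹ * q)))
  have hsmul : ∀ q : Abelianization G,
      ((g • T).2.leftQuotientEquiv q : G) = g * s ((π g)⁻¹ * q) :=
    fun q => smul_transversal_apply (commutator G) T g q
  have hterm : ∀ (q : Abelianization G)
      (h : (T.2.leftQuotientEquiv q : G)⁻¹ * ((g • T).2.leftQuotientEquiv q : G) ∈
        commutator G),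
      ϕ ⟨_, h⟩ = Additive.toMul (D g q) := by
    intro q h
    show ϕ ⟨_, h⟩ = r ((s q)⁻¹ * g * s ((π g)⁻¹ * q))
    rw [hr _ (hmem g q)]
    refine congrArg ϕ (Subtype.ext ?_)
    show (s q)⁻¹ * ((g • T).2.leftQuotientEquiv q : G) = (s q)⁻¹ * g * s ((π g)⁻¹ * q)
    rw [hsmul q, mul_assoc]
  have key : MonoidHom.transfer ϕ g = ∏ q : Abelianization G, Additive.toMul (D g q) := by
    rw [MonoidHom.transfer_def ϕ T g]
    exact Finset.prod_congr rfl fun q _ => hterm q _
  have hD : IsCrossedHom π (fun g =>
      ((D g, MonoidAlgebra.of ℤ (Abelianization G) (π g) - 1) :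
        TransMod (Abelianization G) (Additive (Abelianization ↥(commutator G))) ×
          MonoidAlgebra ℤ (Abelianization G))) := by
    intro g h
    refine Prod.ext ?_ ?_
    · funext q
      show D (g * h) q = D g q + (MonoidAlgebra.of ℤ (Abelianization G) (π g) • D h) q
      rw [of_smul_apply]
      show Additive.ofMul (r ((s q)⁻¹ * (g * h) * s ((π (g * h))⁻¹ * q))) =
        Additive.ofMul (r ((s q)⁻¹ * g * s ((π g)⁻¹ * q))) +
        Additive.ofMul (r ((s ((π g)⁻¹ * q))⁻¹ * h * s ((π h)⁻¹ * ((π g)⁻¹ * q))))
      rw [← ofMul_mul, ← hr_mul _ _ (hmem g q) (hmem h _)]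
      congr 2
      rw [map_mul, mul_inv_rev, mul_assoc (π h)⁻¹]
      group
    · show MonoidAlgebra.of ℤ (Abelianization G) (π (g * h)) - 1 =
        (MonoidAlgebra.of ℤ (Abelianization G) (π g) - 1) +
          MonoidAlgebra.of ℤ (Abelianization G) (π g) •
            (MonoidAlgebra.of ℤ (Abelianization G) (π h) - 1)
      rw [map_mul, map_mul, smul_eq_mul]
      ring
  have hN := hD.norm_smul_eq_zero hπ
    (Abelianization.ker_of G).le (LinearMap.snd _ _ _) (fun g => rfl) g
  have hN1 : (∑ q : Abelianization G, MonoidAlgebra.of ℤ (Abelianization G) q) • D g = 0 :=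
    congrArg Prod.fst hN
  have h2 : ∑ q : Abelianization G, D g q = 0 := by
    have h3 := congrArg (evalHom (Abelianization G) _ 1) hN1
    rw [Finset.sum_smul, map_sum, map_zero] at h3
    rw [← h3]
    refine (Fintype.sum_equiv (Equiv.inv (Abelianization G)) _ _ fun x => ?_).symm
    show (MonoidAlgebra.of ℤ (Abelianization G) x • D g) 1 = D g (x⁻¹)
    rw [of_smul_apply, mul_one]
  rw [key]
  have h4 : ∏ q : Abelianization G, Additive.toMul (D g q) =
      Additive.toMul (∑ q : Abelianization G, D g q) := (toMul_sum _ _).symm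
  rw [h4, h2]
  rfl

end Cfsg.Agent.S4320
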