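import Cfsg.Statements.S4331
import Mathlib
import Cfsg.Agent.Lib.helper12.Fin
import Cfsg.Agent.Lib.helper40.Cores

set_option autoImplicit false
open Cfsg

namespace Cfsg.Agent.S4331

/-- The semidihedral group of order 16, as the group of maps `x ↦ ω^k x` (`r k`) and
`x ↦ ω^k x³` (`sr k`) of the field with 9 elements. -/
inductive SD : Type
  | r : Fin 8 → SD
  | sr : Fin 8 → SD
  deriving DecidableEq

instance : Fintype SD :=
  Fintype.ofEquiv (Fin 8 ⊕ Fin 8)
    { toFun := fun x => match x with
        | .inl k => .r k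
        | .inr k => .sr k
      invFun := fun x => match x with
        | .r k => .inl k
        | .sr k => .inr k
      left_inv := by rintro (k | k) <;> rfl
      right_inv := by rintro (k | k) <;> rfl }

def SD.mul : SD → SD → SD
  | .r k, .r l => .r (k + l)
  | .r k, .sr l => .sr (k + l)
  | .sr k, .r l => .sr (k + 3 * l)
  | .sr k, .sr l => .r (k + 3 * l)

def SD.inv : SD → SD
  | .r k => .r (-k)
  | .sr k => .sr (-(3 * k))

set_option maxRecDepth 100000 in
instance : Group SD where
  mul := SD.mul
  one := .r 0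
  inv := SD.inv
  mul_assoc := by decide +kernel
  one_mul := by decide +kernel
  mul_one := by decide +kernel
  inv_mul_cancel := by decide +kernel

def mulω (v : Fin 3 × Fin 3) : Fin 3 × Fin 3 := (v.1 - v.2, v.1 + v.2)

def conj9 (v : Fin 3 × Fin 3) : Fin 3 × Fin 3 := (v.1, -v.2)

def act : SD → Fin 3 × Fin 3 → Fin 3 × Fin 3
  | .r k, v => mulω^[k.val] v
  | .sr k, v => mulω^[k.val] (conj9 v)

set_option maxRecDepth 100000 in
theorem act_one : ∀ v, act 1 v = v := by decide +kernel

set_option maxRecDepth 100000 in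
theorem act_mul : ∀ x y v, act (x * y) v = act x (act y v) := by decide +kernel

set_option maxRecDepth 100000 in
theorem act_add : ∀ x v w, act x (v + w) = act x v + act x w := by decide +kernel

/-- The additive group of the field with 9 elements, written multiplicatively. -/
abbrev F9 : Type := Multiplicative (Fin 3 × Fin 3)

/-- The action of the semidihedral group on `F9`. -/
def φ : SD →* MulAut F9 where
  toFun x :=
    { toFun := fun n => Multiplicative.ofAdd (act x (Multiplicative.toAdd n))
      invFun := fun n => Multiplicative.ofAdd (act x⁻¹ (Multiplicative.toAdd n))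
      left_inv := by
        intro n
        show Multiplicative.ofAdd (act x⁻¹ (act x (Multiplicative.toAdd n))) = n
        rw [← act_mul, inv_mul_cancel, act_one]
        rfl
      right_inv := by
        intro n
        show Multiplicative.ofAdd (act x (act x⁻¹ (Multiplicative.toAdd n))) = n
        rw [← act_mul, mul_inv_cancel, act_one]
        rfl
      map_mul' := by
        intro n m
        show Multiplicative.ofAdd (act x (Multiplicative.toAdd n + Multiplicative.toAdd m)) = _
        rw [act_add]
        rfl }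
  map_one' := by
    apply MulEquiv.ext
    intro n
    show Multiplicative.ofAdd (act 1 (Multiplicative.toAdd n)) = n
    rw [act_one]
    rfl
  map_mul' := by
    intro x y
    apply MulEquiv.ext
    intro n
    show Multiplicative.ofAdd (act (x * y) (Multiplicative.toAdd n)) =
      Multiplicative.ofAdd (act x (act y (Multiplicative.toAdd n)))
    rw [act_mul]

/-- The group `AΓL(1,9)` of order 144. -/
abbrev G144 : Type := F9 ⋊[φ] SD

instance : Fintype G144 := Fintype.ofEquiv (F9 × SD) SemidirectProduct.equivProd.symm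

/-- The field automorphism, an involution. -/
def aa : G144 := ⟨1, .sr 0⟩

set_option maxRecDepth 100000 in
theorem conj_good : ∀ c : G144, ∃ h : G144,
    (h * c * h⁻¹).left = 1 ∨ (h * c * h⁻¹) * aa = aa * (h * c * h⁻¹) := by
  decide +kernel

set_option maxRecDepth 100000 in
theorem aa_sq : aa ^ 2 = 1 := by decide +kernel

theorem aa_ne : aa ≠ 1 := by decide +kernel

/-- A translation not centralised by `aa`. -/
def nn : G144 := ⟨Multiplicative.ofAdd (0, 1), 1⟩

set_option maxRecDepth 100000 in
theorem comm_ne : aa * nn * aa⁻¹ * nn⁻¹ ≠ 1 := by decide +kernel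

set_option maxRecDepth 100000 in
theorem comm_cube : (aa * nn * aa⁻¹ * nn⁻¹) ^ 3 = 1 := by decide +kernel

theorem card_SD : Nat.card SD = 2 ^ 4 := by
  rw [Nat.card_eq_fintype_card]
  decide +kernel

theorem isPGroup_SD : IsPGroup 2 SD :=
  have : Fact (Nat.Prime 2) := ⟨Nat.prime_two⟩
  IsPGroup.of_card card_SD

theorem solvable_G144 : Group.IsSolvable G144 := by
  have : Fact (Nat.Prime 2) := ⟨Nat.prime_two⟩
  have : Group.IsNilpotent SD := isPGroup_SD.isNilpotent
  have h1 : Group.IsSolvable SD := inferInstance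
  have h2 : Group.IsSolvable F9 := inferInstance
  exact Group.isSolvable_of_ker_le_range (SemidirectProduct.inl : F9 →* G144) SemidirectProduct.rightHom
    (le_of_eq SemidirectProduct.range_inl_eq_ker_rightHom.symm)

theorem subnormal_of_left {g : G144} (hg : g.left = 1) :
    ((Subgroup.zpowers aa).subgroupOf (Subgroup.zpowers aa ⊔ Subgroup.zpowers g)).IsSubnormal := by
  have : Fact (Nat.Prime 2) := ⟨Nat.prime_two⟩
  have hS : IsPGroup 2 (SemidirectProduct.inr : SD →* G144).range := by
    rw [MonoidHom.range_eq_map]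
    exact (isPGroup_SD.to_subgroup ⊤).map _
  have haS : aa ∈ (SemidirectProduct.inr : SD →* G144).range := ⟨.sr 0, rfl⟩
  have hgS : g ∈ (SemidirectProduct.inr : SD →* G144).range := by
    refine ⟨g.right, ?_⟩
    apply SemidirectProduct.ext
    · show (1 : F9) = g.left
      rw [hg]
    · rfl
  have hK : Subgroup.zpowers aa ⊔ Subgroup.zpowers g ≤ (SemidirectProduct.inr : SD →* G144).range :=
    sup_le ((Subgroup.zpowers_le).mpr haS) ((Subgroup.zpowers_le).mpr hgS)
  have hKp : IsPGroup 2 (Subgroup.zpowers aa ⊔ Subgroup.zpowers g : Subgroup G144) := hS.to_le hK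
  have : Group.IsNilpotent (Subgroup.zpowers aa ⊔ Subgroup.zpowers g : Subgroup G144) := hKp.isNilpotent
  exact Cfsg.Agent.Lib.helper12.isSubnormal_of_isNilpotent _

theorem subnormal_of_comm {g : G144} (hg : g * aa = aa * g) :
    ((Subgroup.zpowers aa).subgroupOf (Subgroup.zpowers aa ⊔ Subgroup.zpowers g)).IsSubnormal := by
  have hK : Subgroup.zpowers aa ⊔ Subgroup.zpowers g = Subgroup.closure {aa, g} := by
    rw [Subgroup.zpowers_eq_closure, Subgroup.zpowers_eq_closure, ← Subgroup.closure_union]
    rfl
  rw [hK]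
  have hk : ∀ x ∈ ({aa, g} : Set G144), ∀ y ∈ ({aa, g} : Set G144), x * y = y * x := by
    rintro x (rfl | rfl) y (rfl | rfl)
    · rfl
    · exact hg.symm
    · exact hg
    · rfl
  have hc := Subgroup.isMulCommutative_closure hk
  apply Subgroup.Normal.isSubnormal
  refine ⟨fun n hn k => ?_⟩
  have e : k * n = n * k := hc.is_comm.comm k n
  rw [e, mul_inv_cancel_right]
  exact hn

/-- There is a finite solvable group G with a subgroup A of order 2 such that every conjugacy class of G contains an element g for which A is subnormal in the subgroup generated by A and g, and yet A is not contained in O_2(G). (So the corresponding criteria for odd primes fail at the prime 2, even for solvable groups.) -/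
theorem result :
    ∃ (G : Type) (_ : Group G) (_ : Finite G) (A : Subgroup G), Group.IsSolvable G ∧ Nat.card A = 2 ∧
      (∀ c : G, ∃ g : G, IsConj c g ∧ (A.subgroupOf (A ⊔ Subgroup.zpowers g)).IsSubnormal) ∧
      ¬ A ≤ Cfsg.pCore 2 G := by
  refine ⟨G144, inferInstance, inferInstance, Subgroup.zpowers aa, solvable_G144, ?_, ?_, ?_⟩
  · rw [Nat.card_zpowers]
    exact orderOf_eq_prime aa_sq aa_ne
  · intro c
    obtain ⟨h, hh⟩ := conj_good c
    refine ⟨h * c * h⁻¹, isConj_iff.mpr ⟨h, rfl⟩, ?_⟩
    rcases hh with h1 | h2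
    · exact subnormal_of_left h1
    · exact subnormal_of_comm h2
  · intro hle
    have : Fact (Nat.Prime 2) := ⟨Nat.prime_two⟩
    have ha : aa ∈ Cfsg.pCore 2 G144 := hle (Subgroup.mem_zpowers aa)
    have hn := Cfsg.Agent.Lib.helper40.pCore_normal' 2 G144
    have ht : aa * nn * aa⁻¹ * nn⁻¹ ∈ Cfsg.pCore 2 G144 := by
      have h1 : nn * aa⁻¹ * nn⁻¹ ∈ Cfsg.pCore 2 G144 := hn.conj_mem _ (Subgroup.inv_mem _ ha) nn
      have h2 : aa * nn * aa⁻¹ * nn⁻¹ = aa * (nn * aa⁻¹ * nn⁻¹) := by group
      rw [h2]
      exact Subgroup.mul_mem _ ha h1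
    obtain ⟨k, hk⟩ := (Cfsg.Agent.Lib.helper40.pCore_isPGroup 2 G144) ⟨_, ht⟩
    have hk' : (aa * nn * aa⁻¹ * nn⁻¹) ^ 2 ^ k = 1 := congrArg Subtype.val hk
    have h3 : orderOf (aa * nn * aa⁻¹ * nn⁻¹) ∣ 3 := orderOf_dvd_of_pow_eq_one comm_cube
    have h4 : orderOf (aa * nn * aa⁻¹ * nn⁻¹) ∣ 2 ^ k := orderOf_dvd_of_pow_eq_one hk'
    have h5 : Nat.Coprime 3 (2 ^ k) := Nat.Coprime.pow_right k (by norm_num)
    exact comm_ne (orderOf_eq_one_iff.mp (Nat.eq_one_of_dvd_coprimes h5 h3 h4))

end Cfsg.Agent.S4331
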