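import Cfsg.Statements.S4332
import Mathlib
import Cfsg.Agent.Lib.helper75.PermNormal

set_option autoImplicit false
open Pointwise
open Cfsg

namespace Cfsg.Agent.S4332

open Equiv

theorem cycleType_prod_formPerm {α : Type*} [Fintype α] [DecidableEq α] (ls : List (List α))
    (h1 : ∀ l ∈ ls, l.Nodup ∧ 2 ≤ l.length) (h2 : ls.Pairwise List.Disjoint) :
    ((ls.map List.formPerm).prod).cycleType = ((ls.map List.length : List ℕ) : Multiset ℕ) := by
  rw [Perm.cycleType_eq (ls.map List.formPerm) rfl]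
  · congr 1
    rw [List.map_map]
    apply List.map_congr_left
    intro l hl
    obtain ⟨hn, h2l⟩ := h1 l hl
    simp only [Function.comp_apply]
    rw [List.support_formPerm_of_nodup _ hn (by
      intro x hx
      rw [hx] at h2l
      simp at h2l), List.toFinset_card_of_nodup hn]
  · intro σ hσ
    obtain ⟨l, hl, rfl⟩ := List.mem_map.mp hσ
    exact List.isCycle_formPerm (h1 l hl).1 (h1 l hl).2
  · rw [List.pairwise_map]
    refine h2.imp_of_mem ?_
    intro l l' hl hl' hd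
    exact (List.formPerm_disjoint_iff (h1 l hl).1 (h1 l' hl').1 (h1 l hl).2 (h1 l' hl').2).mpr hd

/-- Representatives (as lists of disjoint cycles) of the 22 conjugacy classes of `Perm (Fin 8)`. -/
def reps : List (List (List (Fin 8))) :=
  [ [], [[3,4]], [[0,1,2]], [[3,4,5,6]], [[3,4,5,6,7]], [[0,3,1,4,2,5]], [[0,3,1,4,2,5,6]],
    [[0,3,1,4,2,5,6,7]], [[3,4],[5,6]], [[0,1,2],[3,4]], [[0,3,1,4],[2,5]], [[0,3,1,4,6],[2,5]],
    [[0,3,1,4,2,5],[6,7]], [[0,1,2],[3,4,5]], [[0,1,2],[3,4,5,6]], [[0,1,2],[3,4,5,6,7]],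
    [[0,3,1,4],[2,5,6,7]], [[0,3],[1,4],[2,5]], [[0,1,2],[3,4],[5,6]], [[0,3,1,4],[2,5],[6,7]],
    [[0,1,2],[3,4,5],[6,7]], [[0,3],[1,4],[2,5],[6,7]] ]

/-- The standard three-cycle. -/
def σ₀ : Perm (Fin 8) := List.formPerm [0, 1, 2]

theorem reps_good : ∀ ls ∈ reps, (∀ l ∈ ls, l.Nodup ∧ 2 ≤ l.length) ∧
    ls.Pairwise (fun l l' => ∀ a ∈ l, a ∉ l') ∧
    σ₀ * ((ls.map List.formPerm).prod * σ₀ * ((ls.map List.formPerm).prod)⁻¹) =
      ((ls.map List.formPerm).prod * σ₀ * ((ls.map List.formPerm).prod)⁻¹) * σ₀ := by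
  decide +kernel

theorem types_mem (m : Multiset ℕ) (h2 : ∀ x ∈ m, 2 ≤ x) (hs : m.sum ≤ 8) :
    m ∈ reps.map (fun ls => ((ls.map List.length : List ℕ) : Multiset ℕ)) := by
  have peel : ∀ (m : Multiset ℕ) (n : ℕ), (∀ x ∈ m, 2 ≤ x) → m.sum ≤ n →
      m = 0 ∨ ∃ a m', m = a ::ₘ m' ∧ 2 ≤ a ∧ a ≤ n ∧ (∀ x ∈ m', 2 ≤ x) ∧ m'.sum ≤ n - a := by
    intro m n h2 hs
    rcases Multiset.empty_or_exists_mem m with rfl | ⟨a, ha⟩
    · exact Or.inl rfl
    · obtain ⟨m', rfl⟩ := Multiset.exists_cons_of_mem ha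
      rw [Multiset.sum_cons] at hs
      refine Or.inr ⟨a, m', rfl, h2 a ha, by omega, fun x hx => h2 x (Multiset.mem_cons_of_mem hx), by omega⟩
  rcases peel m 8 h2 hs with rfl | ⟨a, m1, rfl, ha2, ha8, h21, hs1⟩
  · decide
  rcases peel m1 (8 - a) h21 hs1 with rfl | ⟨b, m2, rfl, hb2, hb8, h22, hs2⟩
  · interval_cases a <;> decide
  rcases peel m2 (8 - a - b) h22 hs2 with rfl | ⟨c, m3, rfl, hc2, hc8, h23, hs3⟩
  · have : a ≤ 6 := by omega
    have : b ≤ 6 := by omega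
    interval_cases a <;> interval_cases b <;> first | omega | decide
  rcases peel m3 (8 - a - b - c) h23 hs3 with rfl | ⟨d, m4, rfl, hd2, hd8, h24, hs4⟩
  · have : a ≤ 4 := by omega
    have : b ≤ 4 := by omega
    have : c ≤ 4 := by omega
    interval_cases a <;> interval_cases b <;> interval_cases c <;> first | omega | decide
  rcases peel m4 (8 - a - b - c - d) h24 hs4 with rfl | ⟨e, m5, rfl, he2, he8, h25, hs5⟩
  · have : a = 2 := by omega
    have : b = 2 := by omega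
    have : c = 2 := by omega
    have : d = 2 := by omega
    subst_vars
    decide
  · omega

theorem exists_conj_commute₀ (c : Perm (Fin 8)) :
    ∃ g : Perm (Fin 8), IsConj c g ∧ Commute σ₀ (g * σ₀ * g⁻¹) := by
  have h := types_mem c.cycleType (fun x hx => Perm.two_le_of_mem_cycleType hx)
    (by have := Perm.sum_cycleType_le c; simpa using this)
  obtain ⟨ls, hls, hm⟩ := List.mem_map.mp h
  obtain ⟨g1, g2, g3⟩ := reps_good ls hls
  refine ⟨(ls.map List.formPerm).prod, ?_, g3⟩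
  rw [Perm.isConj_iff_cycleType_eq, cycleType_prod_formPerm ls g1
    (g2.imp (fun h a ha ha' => h a ha ha')), hm]

theorem σ₀_threeCycle : σ₀.IsThreeCycle := by
  have := cycleType_prod_formPerm (α := Fin 8) [[0, 1, 2]] (by decide) (List.pairwise_singleton _ _)
  simpa [σ₀, Perm.IsThreeCycle] using this

theorem exists_conj_commute (σ : Perm (Fin 8)) (hσ : σ.IsThreeCycle) (c : Perm (Fin 8)) :
    ∃ g : Perm (Fin 8), IsConj c g ∧ Commute σ (g * σ * g⁻¹) := by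
  have hconj : IsConj σ₀ σ := by
    rw [Perm.isConj_iff_cycleType_eq]
    exact σ₀_threeCycle.trans hσ.symm
  obtain ⟨π, hπ⟩ := isConj_iff.mp hconj
  obtain ⟨g', hg1, hg2⟩ := exists_conj_commute₀ (π⁻¹ * c * π)
  refine ⟨π * g' * π⁻¹, ?_, ?_⟩
  · have h1 : IsConj c (π⁻¹ * c * π) := isConj_iff.mpr ⟨π⁻¹, by simp⟩
    have h2 : IsConj g' (π * g' * π⁻¹) := isConj_iff.mpr ⟨π, rfl⟩
    exact (h1.trans hg1).trans h2
  · rw [← hπ]
    have e : π * g' * π⁻¹ * (π * σ₀ * π⁻¹) * (π * g' * π⁻¹)⁻¹ = π * (g' * σ₀ * g'⁻¹) * π⁻¹ := by group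
    rw [e]
    show π * σ₀ * π⁻¹ * (π * (g' * σ₀ * g'⁻¹) * π⁻¹) = π * (g' * σ₀ * g'⁻¹) * π⁻¹ * (π * σ₀ * π⁻¹)
    have h3 : π * σ₀ * π⁻¹ * (π * (g' * σ₀ * g'⁻¹) * π⁻¹) = π * (σ₀ * (g' * σ₀ * g'⁻¹)) * π⁻¹ := by group
    have h4 : π * (g' * σ₀ * g'⁻¹) * π⁻¹ * (π * σ₀ * π⁻¹) = π * ((g' * σ₀ * g'⁻¹) * σ₀) * π⁻¹ := by group
    rw [h3, h4, hg2.eq]

theorem subnormal_of_commute {G : Type*} [Group G] (σ g : G) (h : Commute σ (g * σ * g⁻¹)) :
    ((Subgroup.zpowers σ).subgroupOf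
      (Subgroup.zpowers σ ⊔ MulAut.conj g • Subgroup.zpowers σ)).IsSubnormal := by
  apply Subgroup.Normal.isSubnormal
  have hJ : Subgroup.zpowers σ ⊔ MulAut.conj g • Subgroup.zpowers σ ≤ Subgroup.centralizer {σ} := by
    apply sup_le
    · rw [Subgroup.zpowers_le, Subgroup.mem_centralizer_iff]
      intro y hy
      rw [Set.mem_singleton_iff] at hy
      rw [hy]
    · intro x hx
      rw [Subgroup.mem_smul_pointwise_iff_exists] at hx
      obtain ⟨s, hs, rfl⟩ := hx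
      obtain ⟨k, rfl⟩ := Subgroup.mem_zpowers_iff.mp hs
      rw [MulAut.smul_def, MulAut.conj_apply, Subgroup.mem_centralizer_iff]
      intro y hy
      rw [Set.mem_singleton_iff] at hy
      subst hy
      have e : g * y ^ k * g⁻¹ = (g * y * g⁻¹) ^ k := (conj_zpow).symm
      rw [e]
      exact (h.zpow_right k).eq
  constructor
  intro n hn j
  rw [Subgroup.mem_subgroupOf] at hn ⊢
  obtain ⟨k, hk⟩ := Subgroup.mem_zpowers_iff.mp hn
  have hj : σ * (j : G) = (j : G) * σ := Subgroup.mem_centralizer_iff.mp (hJ j.2) σ (Set.mem_singleton σ)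
  have hc : Commute (σ ^ k) (j : G) := (show Commute σ (j : G) from hj).zpow_left k
  have e : ((j * n * j⁻¹ : _) : G) = (j : G) * (n : G) * (j : G)⁻¹ := by simp
  rw [e, ← hk, ← hc.eq, mul_inv_cancel_right]
  exact Subgroup.zpow_mem_zpowers σ k

theorem pCore3 : Cfsg.pCore 3 (Perm (Fin 8)) = ⊥ := by
  unfold Cfsg.pCore
  rw [sSup_eq_bot]
  rintro N ⟨hN, hp⟩
  by_contra hne
  have h1 := Cfsg.Agent.Lib.helper75.card_dvd_card_of_normal_ne_bot N hN hne
  rw [Fintype.card_fin] at h1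
  have : Fact (Nat.Prime 3) := ⟨by norm_num⟩
  obtain ⟨k, hk⟩ := IsPGroup.iff_card.mp hp
  rw [hk] at h1
  have h2 : 2 ∣ 3 ^ k := (by norm_num : 2 ∣ 8).trans h1
  have h3 := Nat.Prime.dvd_of_dvd_pow Nat.prime_two h2
  omega

/-- In the symmetric group of degree 8, let A be the subgroup generated by a 3-cycle. Then every conjugacy class contains an element g for which A is subnormal in the subgroup generated by A and its conjugate by g, although O_3 of the symmetric group of degree 8 is trivial. -/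
theorem result
    (σ : Equiv.Perm (Fin 8)) (hσ : σ.IsThreeCycle) :
    (∀ c : Equiv.Perm (Fin 8), ∃ g : Equiv.Perm (Fin 8), IsConj c g ∧
      ((Subgroup.zpowers σ).subgroupOf (Subgroup.zpowers σ ⊔ MulAut.conj g • Subgroup.zpowers σ)).IsSubnormal) ∧
    Cfsg.pCore 3 (Equiv.Perm (Fin 8)) = ⊥ := by
  refine ⟨fun c => ?_, pCore3⟩
  obtain ⟨g, hg1, hg2⟩ := exists_conj_commute σ hσ c
  exact ⟨g, hg1, subnormal_of_commute σ g hg2⟩


end Cfsg.Agent.S4332
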