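import Cfsg.Statements.S4337
import Mathlib

set_option autoImplicit false
open Cfsg

namespace Cfsg.Agent.S4337

open Equiv
open scoped commutatorElement

/-- The Klein four-subgroup of `Perm (Fin 4)`. -/
def klein4 : Subgroup (Perm (Fin 4)) where
  carrier := {σ | σ * σ = 1 ∧ Perm.sign σ = 1}
  mul_mem' := by
    have key : ∀ σ τ : Perm (Fin 4), (σ * σ = 1 ∧ Perm.sign σ = 1) → (τ * τ = 1 ∧ Perm.sign τ = 1) →
        ((σ * τ) * (σ * τ) = 1 ∧ Perm.sign (σ * τ) = 1) := by decide +kernel
    intro σ τ hσ hτ
    exact key σ τ hσ hτ
  one_mem' := by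
    refine ⟨by simp, by simp⟩
  inv_mem' := by
    intro σ hσ
    obtain ⟨h1, h2⟩ := hσ
    have : σ⁻¹ = σ := by
      rw [inv_eq_iff_mul_eq_one]; exact h1
    show σ⁻¹ * σ⁻¹ = 1 ∧ Perm.sign σ⁻¹ = 1
    rw [this]; exact ⟨h1, h2⟩

theorem comm_mem_klein4 : ∀ σ τ : Perm (Fin 4), Perm.sign σ = 1 → Perm.sign τ = 1 →
    (⁅σ, τ⁆ * ⁅σ, τ⁆ = 1 ∧ Perm.sign ⁅σ, τ⁆ = 1) := by
  decide +kernel

theorem klein4_comm : ∀ σ τ : Perm (Fin 4), (σ * σ = 1 ∧ Perm.sign σ = 1) → (τ * τ = 1 ∧ Perm.sign τ = 1) →
    ⁅σ, τ⁆ = 1 := by
  decide +kernel

theorem perm4_solvable : Group.IsSolvable (Perm (Fin 4)) := by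
  rw [Group.isSolvable_def]
  refine ⟨3, ?_⟩
  have h1 : derivedSeries (Perm (Fin 4)) 1 ≤ alternatingGroup (Fin 4) := by
    rw [derivedSeries_succ, derivedSeries_zero]
    exact Abelianization.commutator_subset_ker (Perm.sign)
  have h2 : derivedSeries (Perm (Fin 4)) 2 ≤ klein4 := by
    rw [derivedSeries_succ]
    refine (Subgroup.commutator_mono h1 h1).trans ?_
    rw [Subgroup.commutator_le]
    intro g₁ hg₁ g₂ hg₂
    exact comm_mem_klein4 g₁ g₂ (Perm.mem_alternatingGroup.mp hg₁) (Perm.mem_alternatingGroup.mp hg₂)
  rw [derivedSeries_succ, eq_bot_iff]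
  refine (Subgroup.commutator_mono h2 h2).trans ?_
  rw [Subgroup.commutator_le]
  intro g₁ hg₁ g₂ hg₂
  rw [Subgroup.mem_bot]
  exact klein4_comm g₁ g₂ hg₁ hg₂

/-- The subgroup of permutations fixing every point outside `S`. -/
def fixOutside {α : Type*} [DecidableEq α] (S : Finset α) : Subgroup (Perm α) where
  carrier := {σ | ∀ x, x ∉ S → σ x = x}
  mul_mem' := by
    intro σ τ hσ hτ x hx
    rw [Perm.mul_apply, hτ x hx, hσ x hx]
  one_mem' := by
    intro x _
    rfl
  inv_mem' := by
    intro σ hσ x hx
    rw [Perm.inv_eq_iff_eq]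
    exact (hσ x hx).symm

theorem mem_fixOutside {α : Type*} [DecidableEq α] (S : Finset α) (σ : Perm α) :
    σ ∈ fixOutside S ↔ ∀ x, x ∉ S → σ x = x := Iff.rfl

theorem fixOutside_solvable {α : Type*} [DecidableEq α] (S : Finset α) (hS : S.card ≤ 4) :
    Group.IsSolvable (fixOutside S) := by
  have h1 : Group.IsSolvable (Perm {x // x ∈ S}) := by
    have hc : Fintype.card {x // x ∈ S} ≤ Fintype.card (Fin 4) := by simpa using hS
    obtain ⟨ι⟩ := Function.Embedding.nonempty_of_card_le hc
    have := perm4_solvable
    exact Group.isSolvable_of_isSolvable_injective (Perm.viaEmbeddingHom_injective ι)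
  have h2 : Group.IsSolvable (Perm.ofSubtype (p := (· ∈ S))).range :=
    Group.isSolvable_of_surjective (MonoidHom.rangeRestrict_surjective _)
  have h3 : fixOutside S ≤ (Perm.ofSubtype (p := (· ∈ S))).range := by
    intro σ hσ
    rw [mem_fixOutside] at hσ
    have hσ' : ∀ x, σ x ∈ S ↔ x ∈ S := by
      intro x
      constructor
      · intro h
        by_contra hx
        rw [hσ x hx] at h
        exact hx h
      · intro h
        by_contra hx
        have h4 := hσ (σ x) hx
        have h5 : σ x = x := σ.injective h4
        rw [h5] at hx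
        exact hx h
    refine ⟨σ.subtypePerm hσ', Perm.ofSubtype_subtypePerm hσ' (fun x hx => ?_)⟩
    by_contra h
    exact hx (hσ x h)
  exact Group.isSolvable_of_isSolvable_injective (Subgroup.inclusion_injective h3)

theorem closure_insert_solvable {G : Type*} [Group G] (x : G) (T : Set G)
    (hx : ∀ t ∈ T, x * t = t * x) (hT : Group.IsSolvable (Subgroup.closure T)) :
    Group.IsSolvable (Subgroup.closure (insert x T)) := by
  have hcomm : ∀ (u : Subgroup.zpowers x) (v : Subgroup.closure T), Commute (u : G) (v : G) := by
    intro u v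
    have h1 : Subgroup.closure T ≤ Subgroup.centralizer {x} := by
      rw [Subgroup.closure_le]
      intro t ht
      rw [SetLike.mem_coe, Subgroup.mem_centralizer_iff]
      intro y hy
      rw [Set.mem_singleton_iff] at hy
      subst hy
      exact hx t ht
    have h2 : x * (v : G) = (v : G) * x := by
      have := Subgroup.mem_centralizer_iff.mp (h1 v.2) x (Set.mem_singleton x)
      exact this
    have h3 : Subgroup.zpowers x ≤ Subgroup.centralizer {(v : G)} := by
      rw [Subgroup.zpowers_le, Subgroup.mem_centralizer_iff]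
      intro y hy
      rw [Set.mem_singleton_iff] at hy
      subst hy
      exact h2.symm
    have h4 := Subgroup.mem_centralizer_iff.mp (h3 u.2) (v : G) (Set.mem_singleton _)
    exact h4.symm
  have hz : Group.IsSolvable (Subgroup.zpowers x) := by
    apply Group.isSolvable_of_comm
    rintro ⟨u, hu⟩ ⟨w, hw⟩
    obtain ⟨m, rfl⟩ := Subgroup.mem_zpowers_iff.mp hu
    obtain ⟨k, rfl⟩ := Subgroup.mem_zpowers_iff.mp hw
    apply Subtype.ext
    show x ^ m * x ^ k = x ^ k * x ^ m
    rw [← zpow_add, ← zpow_add, add_comm]
  let ψ : Subgroup.zpowers x × Subgroup.closure T →* G :=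
    MonoidHom.noncommCoprod (Subgroup.zpowers x).subtype (Subgroup.closure T).subtype hcomm
  have hle : Subgroup.closure (insert x T) ≤ ψ.range := by
    rw [Subgroup.closure_le]
    intro y hy
    rcases hy with rfl | hy
    · exact ⟨(⟨y, Subgroup.mem_zpowers y⟩, 1), mul_one y⟩
    · exact ⟨(1, ⟨y, Subgroup.subset_closure hy⟩), one_mul y⟩
  have : Group.IsSolvable ψ.range := Group.isSolvable_of_surjective ψ.rangeRestrict_surjective
  exact Group.isSolvable_of_isSolvable_injective (Subgroup.inclusion_injective hle)

theorem mem_fixOutside_of_support_subset {α : Type*} [DecidableEq α] [Fintype α] {a : Perm α}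
    {S : Finset α} (h : a.support ⊆ S) : a ∈ fixOutside S := by
  intro x hx
  exact Perm.notMem_support.mp (fun hx' => hx (h hx'))

theorem not_disjoint_of_not_commute {α : Type*} [DecidableEq α] [Fintype α] {a b : Perm α}
    (h : ¬ Commute a b) : ¬ Disjoint a.support b.support :=
  fun hd => h (Perm.disjoint_iff_disjoint_support.mpr hd).commute

theorem card_union3 {α : Type*} [DecidableEq α] {A B C : Finset α} (hA : A.card = 2) (hB : B.card = 2)
    (hC : C.card = 2) (h1 : ¬ Disjoint A B) (h2 : ¬ Disjoint (A ∪ B) C) : (A ∪ B ∪ C).card ≤ 4 := by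
  have e1 := Finset.card_union_add_card_inter A B
  have e2 := Finset.card_union_add_card_inter (A ∪ B) C
  have p1 : 0 < (A ∩ B).card := by
    rw [Finset.card_pos]
    exact Finset.not_disjoint_iff_nonempty_inter.mp h1
  have p2 : 0 < ((A ∪ B) ∩ C).card := by
    rw [Finset.card_pos]
    exact Finset.not_disjoint_iff_nonempty_inter.mp h2
  omega

/-- In a finite symmetric group, any three transpositions generate a solvable subgroup. -/
theorem result (n : ℕ) (a b c : Equiv.Perm (Fin n))
    (ha : a.IsSwap) (hb : b.IsSwap) (hc : c.IsSwap) :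
    Group.IsSolvable (Subgroup.closure ({a, b, c} : Set (Equiv.Perm (Fin n)))) := by
  classical
  have hA : a.support.card = 2 := Perm.card_support_eq_two.mpr ha
  have hB : b.support.card = 2 := Perm.card_support_eq_two.mpr hb
  have hC : c.support.card = 2 := Perm.card_support_eq_two.mpr hc
  have two : ∀ u v : Perm (Fin n), u.support.card = 2 → v.support.card = 2 →
      Group.IsSolvable (Subgroup.closure ({u, v} : Set (Perm (Fin n)))) := by
    intro u v hu hv
    have hS : (u.support ∪ v.support).card ≤ 4 := by
      have := Finset.card_union_le u.support v.support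
      omega
    have := fixOutside_solvable _ hS
    have hle : Subgroup.closure ({u, v} : Set (Perm (Fin n))) ≤ fixOutside (u.support ∪ v.support) := by
      rw [Subgroup.closure_le]
      rintro x (rfl | rfl)
      · exact mem_fixOutside_of_support_subset Finset.subset_union_left
      · exact mem_fixOutside_of_support_subset Finset.subset_union_right
    exact Group.isSolvable_of_isSolvable_injective (Subgroup.inclusion_injective hle)
  by_cases h1 : Commute a b ∧ Commute a c
  · refine closure_insert_solvable a {b, c} ?_ (two b c hB hC)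
    rintro t (rfl | rfl)
    · exact h1.1.eq
    · exact h1.2.eq
  by_cases h2 : Commute b a ∧ Commute b c
  · have e : ({a, b, c} : Set (Perm (Fin n))) = insert b {a, c} := Set.insert_comm a b {c}
    rw [e]
    refine closure_insert_solvable b {a, c} ?_ (two a c hA hC)
    rintro t (rfl | rfl)
    · exact h2.1.eq
    · exact h2.2.eq
  by_cases h3 : Commute c a ∧ Commute c b
  · have e : ({a, b, c} : Set (Perm (Fin n))) = insert c {a, b} := by
      ext x
      simp only [Set.mem_insert_iff, Set.mem_singleton_iff]
      tauto
    rw [e]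
    refine closure_insert_solvable c {a, b} ?_ (two a b hA hB)
    rintro t (rfl | rfl)
    · exact h3.1.eq
    · exact h3.2.eq
  have hS : (a.support ∪ b.support ∪ c.support).card ≤ 4 := by
    by_cases cab : Commute a b
    · have nac : ¬ Commute a c := fun h => h1 ⟨cab, h⟩
      have nbc : ¬ Commute b c := fun h => h2 ⟨cab.symm, h⟩
      have d1 := not_disjoint_of_not_commute nac
      have d2 := not_disjoint_of_not_commute nbc
      have d3 : ¬ Disjoint (a.support ∪ c.support) b.support := by
        intro hd
        rw [Finset.disjoint_union_left] at hd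
        exact d2 hd.2.symm
      have := card_union3 hA hC hB d1 d3
      have e : a.support ∪ b.support ∪ c.support = a.support ∪ c.support ∪ b.support := by
        rw [Finset.union_right_comm]
      rw [e]
      exact this
    · have d1 := not_disjoint_of_not_commute cab
      have d3 : ¬ Disjoint (a.support ∪ b.support) c.support := by
        intro hd
        rw [Finset.disjoint_union_left] at hd
        apply h3
        constructor
        · by_contra hca
          exact not_disjoint_of_not_commute hca hd.1.symm
        · by_contra hcb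
          exact not_disjoint_of_not_commute hcb hd.2.symm
      exact card_union3 hA hB hC d1 d3
  have := fixOutside_solvable _ hS
  have hle : Subgroup.closure ({a, b, c} : Set (Perm (Fin n))) ≤
      fixOutside (a.support ∪ b.support ∪ c.support) := by
    rw [Subgroup.closure_le]
    rintro x (rfl | rfl | rfl)
    · exact mem_fixOutside_of_support_subset
        (Finset.subset_union_left.trans Finset.subset_union_left)
    · exact mem_fixOutside_of_support_subset
        (Finset.subset_union_right.trans Finset.subset_union_left)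
    · exact mem_fixOutside_of_support_subset Finset.subset_union_right
  exact Group.isSolvable_of_isSolvable_injective (Subgroup.inclusion_injective hle)

end Cfsg.Agent.S4337
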