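import Cfsg.Statements.S4344

set_option autoImplicit false
open Cfsg

namespace Cfsg.Agent.S4344

open scoped Pointwise

theorem mem_smul_sylow {G : Type*} [Group G] {p : ℕ} (g x : G) (P : Sylow p G) :
    x ∈ g • P ↔ g⁻¹ * x * g ∈ P := by
  have h1 : x ∈ g • P ↔ x ∈ (MulAut.conj g • (P : Subgroup G)) := Iff.rfl
  rw [h1, Subgroup.mem_pointwise_smul_iff_inv_smul_mem]
  simp only [MulAut.smul_def, MulAut.inv_apply, MulAut.conj_symm_apply]
  exact Iff.rfl

/-- Let S be a finite non-abelian simple group, M a maximal subgroup of S and C a cyclic normal subgroup of M. If a Sylow p-subgroup P of S (for a prime p dividing the order of S) is contained in C, then the number of Sylow p-subgroups of S equals the index of M. -/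
theorem result {S : Type*} [Group S] [Finite S]
    [IsSimpleGroup S] (hS : ¬ IsMulCommutative S) (p : ℕ) [Fact p.Prime] (hp : p ∣ Nat.card S)
    (M : Subgroup S) (hM : IsCoatom M) (C : Subgroup S) (hCM : C ≤ M) (hCn : (C.subgroupOf M).Normal)
    (hC : IsCyclic C) (P : Sylow p S) (hP : (P : Subgroup S) ≤ C) :
    Nat.card (Sylow p S) = M.index := by
  rw [Sylow.card_eq_index_normalizer P]
  -- commutativity inside C
  have hcomm : ∀ a ∈ C, ∀ b ∈ C, a * b = b * a := by
    intro a ha b hb
    obtain ⟨g, hg⟩ := hC.exists_generator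
    have h1 := hg ⟨a, ha⟩
    have h2 := hg ⟨b, hb⟩
    rw [Subgroup.mem_zpowers_iff] at h1 h2
    obtain ⟨m, hm⟩ := h1
    obtain ⟨n, hn⟩ := h2
    have hm' : a = (g : S) ^ m := by
      have := congrArg Subtype.val hm
      simpa using this.symm
    have hn' : b = (g : S) ^ n := by
      have := congrArg Subtype.val hn
      simpa using this.symm
    rw [hm', hn']
    exact (Commute.zpow_zpow_self (g : S) m n).eq
  -- M normalizes P
  have hMN : M ≤ Subgroup.normalizer (P : Set S) := by
    intro m hm
    rw [← Sylow.smul_eq_iff_mem_normalizer]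
    -- the conjugate Sylow subgroup lies in C
    have hQC : ∀ y, y ∈ m • P → y ∈ C := by
      intro y hy
      rw [mem_smul_sylow] at hy
      have h1 : m⁻¹ * y * m ∈ C := hP hy
      have h2 := hCn.conj_mem ⟨m⁻¹ * y * m, hCM h1⟩ (by simpa [Subgroup.mem_subgroupOf] using h1) ⟨m, hm⟩
      rw [Subgroup.mem_subgroupOf] at h2
      simpa [mul_assoc] using h2
    have hPN : (P : Subgroup S) ≤ Subgroup.normalizer ((m • P : Sylow p S) : Set S) := by
      change (P : Subgroup S) ≤ Subgroup.normalizer (((m • P : Sylow p S) : Subgroup S) : Set S)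
      rw [Subgroup.le_normalizer_iff]
      intro x hx y hy
      have : x * y * x⁻¹ = y := by
        rw [hcomm x (hP hx) y (hQC y hy)]; group
      rw [this]; exact hy
    have hPQ : (P : Subgroup S) ≤ ((m • P : Sylow p S) : Subgroup S) := by
      have := P.isPGroup'.inf_normalizer_sylow (m • P)
      rw [inf_eq_left.mpr hPN] at this
      exact inf_eq_left.mp this.symm
    exact Sylow.ext (P.is_maximal' (m • P).isPGroup' hPQ)
  -- the normalizer is proper
  have hne : Subgroup.normalizer (P : Set S) ≠ ⊤ := by
    intro htop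
    have hnormal : (P : Subgroup S).Normal := Subgroup.normalizer_eq_top_iff.mp htop
    rcases hnormal.eq_bot_or_eq_top with h | h
    · exact P.ne_bot_of_dvd_card hp h
    · apply hS
      rw [isMulCommutative_iff]
      intro a b
      have ha : a ∈ C := hP (h ▸ Subgroup.mem_top a)
      have hb : b ∈ C := hP (h ▸ Subgroup.mem_top b)
      exact hcomm a ha b hb
  have : Subgroup.normalizer (P : Set S) = M := by
    rcases eq_or_lt_of_le hMN with h | h
    · exact h.symm
    · exact absurd (hM.2 _ h) hne
  rw [this]

end Cfsg.Agent.S4344
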