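import Cfsg.Statements.S4345
import Cfsg.Agent.Lib.helper76.Hall

set_option autoImplicit false
open Cfsg

namespace Cfsg.Agent.S4345

open Cfsg.Agent.Lib.helper76

/-- A nontrivial finite solvable group has a nontrivial normal subgroup of prime exponent. -/
theorem exists_normal_pgroup_of_solvable {G : Type*} [Group G] [Finite G] [Nontrivial G]
    (hG : Group.IsSolvable G) :
    ∃ (q : ℕ) (K : Subgroup G), q.Prime ∧ K.Normal ∧ K ≠ ⊥ ∧ IsPGroup q K := by
  classical
  have hex : ∃ n : ℕ, derivedSeries G n = ⊥ := hG.solvable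
  have hm0 : Nat.find hex ≠ 0 := by
    intro h0
    have := Nat.find_spec hex
    rw [h0, derivedSeries_zero] at this
    exact top_ne_bot this
  obtain ⟨k, hk⟩ := Nat.exists_eq_succ_of_ne_zero hm0
  have hA1 : derivedSeries G k ≠ ⊥ := Nat.find_min hex (by omega)
  have hA2 : ⁅derivedSeries G k, derivedSeries G k⁆ = ⊥ := by
    have := Nat.find_spec hex
    rw [hk] at this
    exact this
  set A := derivedSeries G k with hA
  have hAn : A.Normal := derivedSeries_normal G k
  have hcomm : ∀ a ∈ A, ∀ b ∈ A, a * b = b * a := by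
    intro a ha b hb
    have h1 := Subgroup.commutator_eq_bot_iff_le_centralizer.mp hA2
    have h2 := Subgroup.mem_centralizer_iff.mp (h1 hb) a ha
    exact h2
  have hAnt : Nontrivial A := (Subgroup.nontrivial_iff_ne_bot A).mpr hA1
  have hcard : 1 < Nat.card A := Finite.one_lt_card
  obtain ⟨q, hq, hqdvd⟩ := Nat.exists_prime_and_dvd (n := Nat.card A) (by omega)
  have : Fact q.Prime := ⟨hq⟩
  obtain ⟨x, hx⟩ := exists_prime_orderOf_dvd_card' q hqdvd
  let K : Subgroup G :=
    { carrier := {y | y ∈ A ∧ y ^ q = 1}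
      mul_mem' := by
        rintro a b ⟨ha, ha'⟩ ⟨hb, hb'⟩
        refine ⟨mul_mem ha hb, ?_⟩
        have hc : Commute a b := hcomm a ha b hb
        rw [hc.mul_pow, ha', hb', one_mul]
      one_mem' := ⟨one_mem A, one_pow q⟩
      inv_mem' := by
        rintro a ⟨ha, ha'⟩
        exact ⟨inv_mem ha, by rw [inv_pow, ha', inv_one]⟩ }
  refine ⟨q, K, hq, ?_, ?_, ?_⟩
  · constructor
    rintro n ⟨hn, hn'⟩ g
    exact ⟨hAn.conj_mem n hn g, by rw [conj_pow, hn', mul_one, mul_inv_cancel]⟩
  · intro hbot
    have hxK : (x : G) ∈ K := by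
      refine ⟨x.2, ?_⟩
      have : x ^ q = 1 := by rw [← hx]; exact pow_orderOf_eq_one x
      have := congrArg Subtype.val this
      simpa using this
    rw [hbot, Subgroup.mem_bot] at hxK
    have hx1 : x = 1 := Subtype.ext hxK
    rw [hx1, orderOf_one] at hx
    exact hq.one_lt.ne hx
  · rintro ⟨y, hy, hy'⟩
    refine ⟨1, ?_⟩
    apply Subtype.ext
    simpa using hy'

theorem aux (n : ℕ) : ∀ (G : Type*) [Group G] [Finite G], Nat.card G = n →
    Group.IsSolvable G → ∀ (p ℓ : ℕ) [Fact p.Prime], ℓ.Prime →
    ℓ ^ (Nat.card (Sylow p G)).factorization ℓ ≡ 1 [MOD p] := by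
  induction n using Nat.strong_induction_on with
  | _ n ih =>
    intro G _ _ hn hG p ℓ _ hℓ
    rcases subsingleton_or_nontrivial G with hsub | hnt
    · have h1 : Nat.card (Sylow p G) = 1 := by
        have hdvd := Sylow.card_dvd_index (Classical.arbitrary (Sylow p G))
        have hidx := Subgroup.index_dvd_card (Classical.arbitrary (Sylow p G) : Subgroup G)
        have hc : Nat.card G = 1 := Nat.card_eq_one_iff_unique.mpr ⟨hsub, inferInstance⟩
        rw [hc] at hidx
        exact Nat.eq_one_of_dvd_one (hdvd.trans hidx)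
      rw [h1]
      simp [Nat.ModEq]
    · obtain ⟨q, K, hq, hKn, hKbot, hKp⟩ := exists_normal_pgroup_of_solvable hG
      have := hKn
      obtain ⟨P⟩ := (inferInstance : Nonempty (Sylow p G))
      have hmul := card_sylow_eq_card_quotient_mul_relIndex p P K
      have hmod := relIndex_normalizer_sylow_modEq_one p P K
      set r := (Subgroup.normalizer (P : Set G)).relIndex K with hr
      -- r is a power of q
      obtain ⟨c, hc⟩ : ∃ c : ℕ, r = q ^ c := by
        have : Fact q.Prime := ⟨hq⟩
        obtain ⟨a, ha⟩ := (IsPGroup.iff_card (p := q) (G := K)).mp hKp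
        have hdvd : r ∣ Nat.card K := Subgroup.relIndex_dvd_card _ K
        rw [ha] at hdvd
        obtain ⟨c, -, hc⟩ := (Nat.dvd_prime_pow hq).mp hdvd
        exact ⟨c, hc⟩
      -- induction hypothesis for the quotient
      have hlt : Nat.card (G ⧸ K) < n := by
        rw [← hn, ← Subgroup.index_eq_card, ← Subgroup.card_mul_index K]
        have hK1 : 1 < Nat.card K := by
          have : Nontrivial K := (Subgroup.nontrivial_iff_ne_bot K).mpr hKbot
          exact Finite.one_lt_card
        have hpos : 0 < K.index := Nat.pos_of_ne_zero Subgroup.index_ne_zero_of_finite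
        nlinarith
      have hsolv : Group.IsSolvable (G ⧸ K) := inferInstance
      have hIH := ih _ hlt (G ⧸ K) rfl hsolv p ℓ hℓ
      have hne1 : Nat.card (Sylow p (G ⧸ K)) ≠ 0 := Nat.card_pos.ne'
      have hne2 : r ≠ 0 := by rw [hc]; exact pow_ne_zero _ hq.ne_zero
      rw [hmul, Nat.factorization_mul hne1 hne2, Finsupp.add_apply, pow_add]
      have h2 : ℓ ^ (r.factorization ℓ) ≡ 1 [MOD p] := by
        rw [hc, Nat.Prime.factorization_pow hq]
        by_cases hlq : ℓ = q
        · subst hlq
          simp only [Finsupp.single_eq_same]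
          rw [← hc]; exact hmod
        · rw [Finsupp.single_apply, if_neg (Ne.symm hlq)]
          simp [Nat.ModEq]
      have := Nat.ModEq.mul hIH h2
      simpa using this

/-- Let G be a finite solvable group and p, ℓ primes. Then the largest power of ℓ dividing the number of Sylow p-subgroups of G is congruent to 1 modulo p. -/
theorem result {G : Type*} [Group G] [Finite G]
    (hG : Group.IsSolvable G) (p ℓ : ℕ) [Fact p.Prime] (hℓ : ℓ.Prime) :
    ℓ ^ (Nat.card (Sylow p G)).factorization ℓ ≡ 1 [MOD p] :=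
  aux (Nat.card G) G rfl hG p ℓ hℓ

end Cfsg.Agent.S4345
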