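import Cfsg.Statements.S4349
import Mathlib
import Cfsg.Agent.Lib.helper69.SylTree5


set_option autoImplicit false
open Cfsg

namespace Cfsg.Agent.S4349

/-- Let n ≥ 2 and let x be an element of 2-power order of the symmetric group of degree n. Then x lies in exactly one Sylow 2-subgroup if and only if x has at most two fixed points and the nontrivial cycles of x have pairwise different lengths. -/
theorem result (n : ℕ) (hn : 2 ≤ n)
    (x : Equiv.Perm (Fin n)) (hx : ∃ k : ℕ, orderOf x = 2 ^ k) :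
    (∃! P : Sylow 2 (Equiv.Perm (Fin n)), x ∈ P) ↔ (n ≤ x.support.card + 2 ∧ x.cycleType.Nodup) := by
  haveI : Fact (Nat.Prime 2) := ⟨Nat.prime_two⟩
  obtain ⟨k, hk⟩ := hx
  have hxk : x ^ 2 ^ k = 1 := by
    rw [← hk]
    exact pow_orderOf_eq_one x
  have hbridge := Cfsg.Agent.Lib.helper69.goodPerm_iff_cycleType x
  rw [Fintype.card_fin] at hbridge
  rw [← hbridge]
  constructor
  · rintro ⟨P, hxP, hP⟩
    exact Cfsg.Agent.Lib.helper69.goodPerm_of_unique_sylow x k hxk P (fun P' h => hP P' h)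
  · intro hgood
    obtain ⟨W, hWp, hW⟩ := Cfsg.Agent.Lib.helper69.dominated_of_good n (Fin n)
      (by rw [Nat.card_eq_fintype_card, Fintype.card_fin]) x k hxk hgood
    obtain ⟨P, hP⟩ := (Cfsg.Agent.Lib.helper69.isPGroup_zpowers x k hxk).exists_le_sylow
    have hxP : x ∈ P := hP (Subgroup.mem_zpowers x)
    have hPW : ∀ P' : Sylow 2 (Equiv.Perm (Fin n)), x ∈ P' →
        (P' : Subgroup (Equiv.Perm (Fin n))) = W := by
      intro P' hxP'
      exact (P'.is_maximal' hWp (hW _ P'.isPGroup' hxP')).symm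
    exact ⟨P, hxP, fun P' hxP' => Sylow.ext ((hPW P' hxP').trans (hPW P hxP).symm)⟩

end Cfsg.Agent.S4349
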