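import Cfsg.Statements.S4354
import Cfsg.Agent.Lib.helper76.SylowBasic

set_option autoImplicit false
open Cfsg

namespace Cfsg.Agent.S4354

open scoped Pointwise
open Cfsg.Agent.Lib.helper76

/-- The class-size condition passes to normal subgroups. -/
theorem classCond_subgroup {G : Type*} [Group G] [Finite G] (p : ℕ) [Fact p.Prime]
    (N : Subgroup G) [N.Normal]
    (hc : ∀ x : G, (∃ k : ℕ, orderOf x = p ^ k) → ¬ p ∣ (Subgroup.centralizer ({x} : Set G)).index) :
    ∀ x : N, (∃ k : ℕ, orderOf x = p ^ k) → ¬ p ∣ (Subgroup.centralizer ({x} : Set N)).index := by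
  intro x hx hdvd
  have hx' : ∃ k : ℕ, orderOf (x : G) = p ^ k := by
    obtain ⟨k, hk⟩ := hx
    exact ⟨k, by rw [Subgroup.orderOf_coe]; exact hk⟩
  apply hc (x : G) hx'
  have heq : Subgroup.centralizer ({x} : Set N) =
      (Subgroup.centralizer ({(x : G)} : Set G)).subgroupOf N := by
    ext y
    rw [Subgroup.mem_subgroupOf, Subgroup.mem_centralizer_singleton_iff,
      Subgroup.mem_centralizer_singleton_iff]
    constructor
    · intro h; exact congrArg Subtype.val h
    · intro h; exact Subtype.ext h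
  rw [heq] at hdvd
  exact hdvd.trans (relIndex_dvd_index_of_normal_right _ N)

/-- The class-size condition passes to quotients. -/
theorem classCond_quotient {G : Type*} [Group G] [Finite G] (p : ℕ) [Fact p.Prime]
    (N : Subgroup G) [N.Normal]
    (hc : ∀ x : G, (∃ k : ℕ, orderOf x = p ^ k) → ¬ p ∣ (Subgroup.centralizer ({x} : Set G)).index) :
    ∀ x : G ⧸ N, (∃ k : ℕ, orderOf x = p ^ k) →
      ¬ p ∣ (Subgroup.centralizer ({x} : Set (G ⧸ N))).index := by
  intro x hx hdvd
  obtain ⟨R, hxR⟩ := exists_sylow_of_orderOf p x hx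
  obtain ⟨P, rfl⟩ := Sylow.mapSurjective_surjective (QuotientGroup.mk'_surjective N) p R
  have hxR' : x ∈ (P : Subgroup G).map (QuotientGroup.mk' N) := hxR
  obtain ⟨y, hyP, rfl⟩ := Subgroup.mem_map.mp hxR'
  apply hc y (orderOf_of_mem_sylow p P y hyP)
  have hle : (Subgroup.centralizer ({y} : Set G)).map (QuotientGroup.mk' N) ≤
      Subgroup.centralizer ({(QuotientGroup.mk' N) y} : Set (G ⧸ N)) := by
    rintro _ ⟨g, hg, rfl⟩
    rw [Subgroup.mem_centralizer_singleton_iff]
    have hg' : g * y = y * g := Subgroup.mem_centralizer_singleton_iff.mp hg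
    rw [← map_mul, ← map_mul, hg']
  exact (hdvd.trans (Subgroup.index_dvd_of_le hle)).trans
    (Subgroup.index_map_dvd _ (QuotientGroup.mk'_surjective N))

/-- If the Sylow subgroups of `N` and of `G ⧸ N` are abelian and every `p`-element has a
centralizer of index prime to `p`, then the Sylow `p`-subgroups of `G` are abelian. -/
theorem sylow_comm_of_normal {G : Type*} [Group G] [Finite G] (p : ℕ) [Fact p.Prime]
    (N : Subgroup G) [N.Normal]
    (hc : ∀ x : G, (∃ k : ℕ, orderOf x = p ^ k) → ¬ p ∣ (Subgroup.centralizer ({x} : Set G)).index)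
    (hA : ∀ Q : Sylow p N, IsMulCommutative Q)
    (hB : ∀ Q : Sylow p (G ⧸ N), IsMulCommutative Q)
    (P : Sylow p G) : IsMulCommutative P := by
  -- (i) elements of `P ∩ N` commute
  have hA' : ∀ a ∈ P, a ∈ N → ∀ b ∈ P, b ∈ N → a * b = b * a := by
    intro a haP haN b hbP hbN
    have hpg : IsPGroup p (((P : Subgroup G) ⊓ N).subgroupOf N) :=
      (P.isPGroup'.to_le inf_le_left).comap_subtype
    obtain ⟨Q, hQ⟩ := hpg.exists_le_sylow
    have ha : (⟨a, haN⟩ : N) ∈ Q := hQ (by
      rw [Subgroup.mem_subgroupOf]; exact ⟨haP, haN⟩)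
    have hb : (⟨b, hbN⟩ : N) ∈ Q := hQ (by
      rw [Subgroup.mem_subgroupOf]; exact ⟨hbP, hbN⟩)
    have hcomm := (isMulCommutative_iff.mp (hA Q)) ⟨_, ha⟩ ⟨_, hb⟩
    have h1 := congrArg Subtype.val hcomm
    exact congrArg Subtype.val h1
  -- (ii) images of elements of `P` commute in the quotient
  have hB' : ∀ a ∈ P, ∀ b ∈ P, (QuotientGroup.mk' N) a * (QuotientGroup.mk' N) b =
      (QuotientGroup.mk' N) b * (QuotientGroup.mk' N) a := by
    intro a ha b hb
    have hpg : IsPGroup p ((P : Subgroup G).map (QuotientGroup.mk' N)) := P.isPGroup'.map _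
    obtain ⟨Q, hQ⟩ := hpg.exists_le_sylow
    have ha' : (QuotientGroup.mk' N) a ∈ Q := hQ (Subgroup.mem_map_of_mem _ ha)
    have hb' : (QuotientGroup.mk' N) b ∈ Q := hQ (Subgroup.mem_map_of_mem _ hb)
    have hcomm := (isMulCommutative_iff.mp (hB Q)) ⟨_, ha'⟩ ⟨_, hb'⟩
    exact congrArg Subtype.val hcomm
  -- (iii) every element of `P` is a central element of `P` times an element of `N`
  have hZ : ∀ x ∈ P, ∃ z ∈ P, (∀ y ∈ P, z * y = y * z) ∧ z⁻¹ * x ∈ N := by
    intro x hxP
    have hxo := orderOf_of_mem_sylow p P x hxP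
    obtain ⟨P₁, hP₁⟩ := exists_sylow_le_of_not_dvd_index p _ (hc x hxo)
    have hP₁c : ∀ y ∈ P₁, y * x = x * y := fun y hy =>
      Subgroup.mem_centralizer_singleton_iff.mp (hP₁ hy)
    have hxP₁ : x ∈ P₁ := by
      apply mem_sylow_of_normalizes p P₁ x hxo
      intro y hy
      have : x * y * x⁻¹ = y := by rw [← hP₁c y hy]; group
      rw [this]; exact hy
    -- the preimage of the centralizer of the image of `x`
    set C : Subgroup G :=
      (Subgroup.centralizer ({(QuotientGroup.mk' N) x} : Set (G ⧸ N))).comap (QuotientGroup.mk' N)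
      with hC
    have hmemC : ∀ g : G, g ∈ C ↔ (QuotientGroup.mk' N) g * (QuotientGroup.mk' N) x =
        (QuotientGroup.mk' N) x * (QuotientGroup.mk' N) g := by
      intro g
      rw [hC, Subgroup.mem_comap, Subgroup.mem_centralizer_singleton_iff]
    have hPC : (P : Subgroup G) ≤ C := fun g hg => (hmemC g).mpr (hB' g hg x hxP)
    have hP₁C : (P₁ : Subgroup G) ≤ C := by
      intro g hg
      rw [hmemC, ← map_mul, ← map_mul, hP₁c g hg]
    obtain ⟨c, hc'⟩ := MulAction.exists_smul_eq C (P.subtype hPC) (P₁.subtype hP₁C)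
    rw [Sylow.smul_subtype hPC c] at hc'
    have hcP : (c : G) • P = P₁ := Sylow.subtype_injective hc'
    have hcC := (hmemC (c : G)).mp c.2
    refine ⟨(c : G)⁻¹ * x * c, ?_, ?_, ?_⟩
    · rw [← mem_smul_sylow, hcP]; exact hxP₁
    · intro y hy
      have h1 : (c : G) * y * (c : G)⁻¹ ∈ P₁ := by
        rw [← hcP, mem_smul_sylow]
        have : (c : G)⁻¹ * ((c : G) * y * (c : G)⁻¹) * c = y := by group
        rw [this]; exact hy
      have h2 := hP₁c _ h1
      calc (c : G)⁻¹ * x * c * y = (c : G)⁻¹ * (x * ((c : G) * y * (c : G)⁻¹)) * c := by group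
        _ = (c : G)⁻¹ * (((c : G) * y * (c : G)⁻¹) * x) * c := by rw [h2]
        _ = y * ((c : G)⁻¹ * x * c) := by group
    · rw [← QuotientGroup.eq_one_iff, ← QuotientGroup.mk'_apply]
      simp only [map_mul, map_inv]
      rw [mul_assoc, ← hcC]
      group
  -- (iv) conclusion
  rw [isMulCommutative_iff]
  rintro ⟨a, ha⟩ ⟨b, hb⟩
  apply Subtype.ext
  change a * b = b * a
  obtain ⟨za, hzaP, hzac, hna⟩ := hZ a ha
  obtain ⟨zb, hzbP, hzbc, hnb⟩ := hZ b hb
  have hnaP : za⁻¹ * a ∈ P := mul_mem (inv_mem hzaP) ha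
  have hnbP : zb⁻¹ * b ∈ P := mul_mem (inv_mem hzbP) hb
  have hn := hA' _ hnaP hna _ hnbP hnb
  have e1 := hzac b hb
  have e2 := hzbc a ha
  have e3 := hzac zb hzbP
  have e4 := hzac (zb⁻¹ * b) hnbP
  have e5 := hzbc (za⁻¹ * a) hnaP
  calc a * b = za * (za⁻¹ * a) * (zb * (zb⁻¹ * b)) := by group
    _ = za * ((za⁻¹ * a) * zb) * (zb⁻¹ * b) := by group
    _ = za * (zb * (za⁻¹ * a)) * (zb⁻¹ * b) := by rw [e5]
    _ = za * zb * ((za⁻¹ * a) * (zb⁻¹ * b)) := by group
    _ = za * zb * ((zb⁻¹ * b) * (za⁻¹ * a)) := by rw [hn]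
    _ = zb * za * ((zb⁻¹ * b) * (za⁻¹ * a)) := by rw [e3]
    _ = zb * (za * (zb⁻¹ * b)) * (za⁻¹ * a) := by group
    _ = zb * ((zb⁻¹ * b) * za) * (za⁻¹ * a) := by rw [e4]
    _ = b * a := by group

/-- Let G be a finite group and p a prime such that the Sylow p-subgroups of G are non-abelian while every element of p-power order has conjugacy class size prime to p, and suppose no nontrivial proper normal subgroup N of G has this property and no quotient G/N by such an N has it. Then G is simple. -/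
theorem result {G : Type*} [Group G] [Finite G]
    (p : ℕ) [Fact p.Prime] (h : ((∃ P : Sylow p G, ¬ IsMulCommutative P) ∧ ∀ x : G, (∃ k : ℕ, orderOf x = p ^ k) → ¬ p ∣ (Subgroup.centralizer ({x} : Set G)).index))
    (hmin : ∀ (N : Subgroup G) [N.Normal], N ≠ ⊥ → N ≠ ⊤ →
      ¬ ((∃ P : Sylow p N, ¬ IsMulCommutative P) ∧ ∀ x : N, (∃ k : ℕ, orderOf x = p ^ k) → ¬ p ∣ (Subgroup.centralizer ({x} : Set N)).index) ∧
      ¬ ((∃ P : Sylow p (G ⧸ N), ¬ IsMulCommutative P) ∧ ∀ x : (G ⧸ N), (∃ k : ℕ, orderOf x = p ^ k) → ¬ p ∣ (Subgroup.centralizer ({x} : Set (G ⧸ N))).index)) :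
    IsSimpleGroup G := by
  obtain ⟨⟨P, hP⟩, hc⟩ := h
  have hnt : Nontrivial G := by
    by_contra hnt
    rw [not_nontrivial_iff_subsingleton] at hnt
    apply hP
    rw [isMulCommutative_iff]
    intro a b
    apply Subtype.ext
    exact Subsingleton.elim _ _
  refine { toNontrivial := hnt, eq_bot_or_eq_top_of_normal := ?_ }
  intro N hN
  by_contra hcon
  rw [not_or] at hcon
  obtain ⟨h1, h2⟩ := hmin N hcon.1 hcon.2
  have hA : ∀ Q : Sylow p N, IsMulCommutative Q := by
    intro Q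
    by_contra hQ
    exact h1 ⟨⟨Q, hQ⟩, classCond_subgroup p N hc⟩
  have hB : ∀ Q : Sylow p (G ⧸ N), IsMulCommutative Q := by
    intro Q
    by_contra hQ
    exact h2 ⟨⟨Q, hQ⟩, classCond_quotient p N hc⟩
  exact hP (sylow_comm_of_normal p N hc hA hB P)

end Cfsg.Agent.S4354
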