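import Cfsg.Statements.S4358

set_option autoImplicit false
open Cfsg

namespace Cfsg.Agent.S4358

section helpers

open Matrix

variable {F : Type*} [Field F] {p : ℕ} [Fact p.Prime]

/-- generalized monomial matrix: `d` on the `i`-shifted diagonal -/
def mon (d : ZMod p → F) (i : ZMod p) : Matrix (ZMod p) (ZMod p) F :=
  Matrix.of fun a b => if b + i = a then d a else 0

theorem mon_apply (d : ZMod p → F) (i a b : ZMod p) :
    mon d i a b = if b + i = a then d a else 0 := rfl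

theorem mon_mul (d e : ZMod p → F) (i l : ZMod p) :
    mon d i * mon e l = mon (fun a => d a * e (a - i)) (i + l) := by
  ext a b
  simp only [mon_apply, Matrix.mul_apply]
  rw [Finset.sum_eq_single (a - i)]
  · have h1 : a - i + i = a := sub_add_cancel a i
    simp only [h1, if_true]
    by_cases h : b + l = a - i
    · have h2 : b + (i + l) = a := by rw [add_left_comm, h]; ring
      simp [h, h2]
    · have h2 : ¬ b + (i + l) = a := fun h3 => h (by rw [← h3]; ring)
      simp [h, h2]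
  · intro c _ hc
    have : ¬ c + i = a := fun h => hc (by rw [← h]; ring)
    simp [this]
  · intro h; exact absurd (Finset.mem_univ _) h

theorem mon_one : mon (fun _ => (1 : F)) (0 : ZMod p) = 1 := by
  ext a b
  simp [mon_apply, Matrix.one_apply, eq_comm]

theorem mon_zero_eq (d : ZMod p → F) : mon d 0 = Matrix.diagonal d := by
  ext a b
  simp only [mon_apply, Matrix.diagonal_apply, add_zero]
  by_cases h : a = b
  · subst h; simp
  · simp [h, Ne.symm h]

theorem mon_inj {d e : ZMod p → F} {i : ZMod p} (h : mon d i = mon e i) : d = e := by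
  funext a
  have := congrFun (congrFun h a) (a - i)
  simpa [mon_apply] using this

theorem ne_zero_of_pow {z : F} (h : z ^ p = 1) : z ≠ 0 := by
  rintro rfl
  rw [zero_pow (Fact.out : p.Prime).ne_zero] at h
  exact zero_ne_one h

theorem mon_mul_inv (d : ZMod p → F) (i : ZMod p) (hd : ∀ a, d a ^ p = 1) :
    mon d i * mon (fun a => (d (a + i))⁻¹) (-i) = 1 := by
  rw [mon_mul, ← mon_one]
  congr 1
  · funext a
    rw [sub_add_cancel, mul_inv_cancel₀ (ne_zero_of_pow (hd a))]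
  · simp

/-- the unit with matrix `mon d i` -/
def monU (d : ZMod p → F) (i : ZMod p) (hd : ∀ a, d a ^ p = 1) : GL (ZMod p) F :=
  ⟨mon d i, mon (fun a => (d (a + i))⁻¹) (-i), mon_mul_inv d i hd,
    _root_.mul_eq_one_comm.mp (mon_mul_inv d i hd)⟩

theorem monU_val (d : ZMod p → F) (i : ZMod p) (hd : ∀ a, d a ^ p = 1) :
    ((monU d i hd : GL (ZMod p) F) : Matrix (ZMod p) (ZMod p) F) = mon d i := rfl

/-- the monomial Sylow subgroup -/
def Q0 (F : Type*) [Field F] (p : ℕ) [Fact p.Prime] : Subgroup (GL (ZMod p) F) where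
  carrier := {x | ∃ (d : ZMod p → F) (i : ZMod p), (∀ a, d a ^ p = 1) ∧
    (x : Matrix (ZMod p) (ZMod p) F) = mon d i}
  mul_mem' := by
    rintro x y ⟨d, i, hd, hx⟩ ⟨e, l, he, hy⟩
    exact ⟨fun a => d a * e (a - i), i + l, fun a => by rw [mul_pow, hd, he, one_mul],
      by rw [Units.val_mul, hx, hy, mon_mul]⟩
  one_mem' := ⟨fun _ => 1, 0, by simp, by rw [Units.val_one, mon_one]⟩
  inv_mem' := by
    rintro x ⟨d, i, hd, hx⟩
    refine ⟨fun a => (d (a + i))⁻¹, -i, fun a => by rw [inv_pow, hd, inv_one], ?_⟩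
    apply Units.inv_eq_of_mul_eq_one_right
    rw [hx]
    exact mon_mul_inv d i hd

theorem mem_Q0 {x : GL (ZMod p) F} : x ∈ Q0 F p ↔ ∃ (d : ZMod p → F) (i : ZMod p),
    (∀ a, d a ^ p = 1) ∧ (x : Matrix (ZMod p) (ZMod p) F) = mon d i := Iff.rfl

theorem monU_mem (d : ZMod p → F) (i : ZMod p) (hd : ∀ a, d a ^ p = 1) :
    monU d i hd ∈ Q0 F p := ⟨d, i, hd, rfl⟩

theorem mon_pow (d : ZMod p → F) (i : ZMod p) (hd : ∀ a, d a ^ p = 1) (n : ℕ) :
    ∃ d' : ZMod p → F, (∀ a, d' a ^ p = 1) ∧ (mon d i) ^ n = mon d' (n • i) := by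
  induction n with
  | zero => exact ⟨fun _ => 1, by simp, by rw [pow_zero, zero_smul, mon_one]⟩
  | succ n ih =>
    obtain ⟨d', hd', h⟩ := ih
    refine ⟨fun a => d' a * d (a - n • i), fun a => by rw [mul_pow, hd', hd, one_mul], ?_⟩
    rw [pow_succ, h, mon_mul, succ_nsmul]

theorem mon_pow_p (d : ZMod p → F) (i : ZMod p) (hd : ∀ a, d a ^ p = 1) :
    ∃ d' : ZMod p → F, (∀ a, d' a ^ p = 1) ∧ (mon d i) ^ p = Matrix.diagonal d' := by
  obtain ⟨d', hd', h⟩ := mon_pow d i hd p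
  refine ⟨d', hd', ?_⟩
  rw [h, ← mon_zero_eq]
  congr 1
  rw [nsmul_eq_mul, ZMod.natCast_self, zero_mul]

theorem Q0_isPGroup : IsPGroup p (Q0 F p) := by
  rintro ⟨x, d, i, hd, hx⟩
  refine ⟨2, ?_⟩
  apply Subtype.ext
  apply Units.ext
  obtain ⟨d', hd', h⟩ := mon_pow_p d i hd
  simp only [Subgroup.coe_pow, Units.val_pow_eq_pow_val, Subgroup.coe_one, Units.val_one]
  rw [hx, pow_two, pow_mul, h, Matrix.diagonal_pow]
  rw [← Matrix.diagonal_one]
  congr 1
  funext a
  simp [hd']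


theorem exists_zeta [Fintype F] (h1 : p ∣ Fintype.card F - 1) : ∃ ζ : Fˣ, orderOf ζ = p := by
  classical
  have : p ∣ Fintype.card Fˣ := by rwa [Fintype.card_units]
  exact exists_prime_orderOf_dvd_card p this

theorem card_Q0_ge [Fintype F] (h1 : p ∣ Fintype.card F - 1) :
    p ^ p * p ≤ Nat.card (Q0 F p) := by
  obtain ⟨ζ, hζ⟩ := exists_zeta h1
  let μ := Subgroup.zpowers ζ
  have hμ : Nat.card μ = p := by rw [Nat.card_zpowers, hζ]
  have hpow : ∀ z : μ, ((z : Fˣ) : F) ^ p = 1 := by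
    intro z
    have h := pow_card_eq_one' (G := μ) (x := z)
    rw [hμ] at h
    have := congrArg (fun w : μ => ((w : Fˣ) : F)) h
    simpa using this
  let f : (ZMod p → μ) × ZMod p → Q0 F p := fun di =>
    ⟨monU (fun a => ((di.1 a : Fˣ) : F)) di.2 (fun a => hpow _), monU_mem _ _ _⟩
  have hf : Function.Injective f := by
    rintro ⟨d, i⟩ ⟨e, l⟩ h
    have h' : mon (fun a => ((d a : Fˣ) : F)) i = mon (fun a => ((e a : Fˣ) : F)) l := by
      have := congrArg (fun w : Q0 F p => ((w : GL (ZMod p) F) : Matrix (ZMod p) (ZMod p) F)) h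
      simpa [f, monU_val] using this
    have hil : i = l := by
      have := congrFun (congrFun h' i) 0
      simp only [mon_apply, zero_add, if_true] at this
      by_contra hne
      rw [if_neg (fun h => hne h.symm)] at this
      exact ne_zero_of_pow (hpow (d i)) this
    subst hil
    have h2 := mon_inj h'
    congr 1
    funext a
    have := congrFun h2 a
    exact Subtype.ext (Units.ext this)
  have := Nat.card_le_card_of_injective f hf
  rwa [Nat.card_prod, Nat.card_fun, Nat.card_zmod, hμ] at this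

theorem card_GL_fact [Fintype F] (hp : p ≠ 2) (h1 : p ∣ Fintype.card F - 1)
    (h2 : ¬ p ^ 2 ∣ Fintype.card F - 1) :
    (Nat.card (GL (Fin p) F)).factorization p = p + 1 := by
  have pp : p.Prime := Fact.out
  have hq1 : 1 < Fintype.card F := Fintype.one_lt_card
  rw [Matrix.card_GL_field]
  generalize Fintype.card F = q at *
  have hpq : ¬ p ∣ q := fun h => by
    have : p ∣ 1 := by
      have h3 := Nat.dvd_sub h h1
      rwa [Nat.sub_sub_self hq1.le] at h3
    exact pp.one_lt.ne' (Nat.dvd_one.mp this)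
  have hodd : Odd p := pp.odd_of_ne_two hp
  have hne : q - 1 ≠ 0 := by omega
  have hv1 : padicValNat p (q - 1) = 1 := by
    have hle : 1 ≤ padicValNat p (q - 1) := (padicValNat_dvd_iff_le hne).mp (by simpa using h1)
    have hlt : ¬ 2 ≤ padicValNat p (q - 1) := fun h => h2 ((padicValNat_dvd_iff_le hne).mpr h)
    omega
  have hterm : ∀ i ∈ Finset.range p, (q ^ p - q ^ i).factorization p = 1 + if i = 0 then 1 else 0 := by
    intro i hi
    rw [Finset.mem_range] at hi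
    have e1 : q ^ p - q ^ i = q ^ i * (q ^ (p - i) - 1 ^ (p - i)) := by
      rw [one_pow, Nat.mul_sub, mul_one, ← pow_add, Nat.add_sub_cancel' hi.le]
    have hpos : 0 < q ^ (p - i) - 1 ^ (p - i) := by
      rw [one_pow]
      have : 1 < q ^ (p - i) := Nat.one_lt_pow (by omega) hq1
      omega
    rw [e1, Nat.factorization_mul (pow_ne_zero _ (by omega)) hpos.ne', Finsupp.add_apply,
      Nat.factorization_pow, Finsupp.smul_apply, Nat.factorization_eq_zero_of_not_dvd hpq,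
      smul_zero, zero_add, Nat.factorization_def _ pp,
      padicValNat.pow_sub_pow hodd hq1 h1 hpq (by omega), hv1]
    congr 1
    split_ifs with h0
    · subst h0; simp
    · exact padicValNat.eq_zero_of_not_dvd (Nat.not_dvd_of_pos_of_lt (by omega) (by omega))
  rw [Nat.factorization_prod_apply,
    Fin.sum_univ_eq_sum_range (fun i => (q ^ p - q ^ i).factorization p) p,
    Finset.sum_congr rfl hterm, Finset.sum_add_distrib]
  · simp [pp.pos]
  · intro i _
    have : q ^ (i : ℕ) < q ^ p := Nat.pow_lt_pow_right hq1 i.2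
    omega


theorem add_self_ne (hp : p ≠ 2) {i : ZMod p} (hi : i ≠ 0) : i + i ≠ 0 := by
  intro h
  have h2 : (2 : ZMod p) * i = 0 := by rw [two_mul]; exact h
  rcases mul_eq_zero.mp h2 with h3 | h3
  · have h4 : ((2 : ℕ) : ZMod p) = 0 := by exact_mod_cast h3
    rw [ZMod.natCast_eq_zero_iff] at h4
    exact hp ((Nat.prime_dvd_prime_iff_eq Fact.out Nat.prime_two).mp h4)
  · exact hi h3

theorem two_ne_zero' (hp : p ≠ 2) : (2 : ZMod p) ≠ 0 := by
  have := add_self_ne hp (one_ne_zero : (1 : ZMod p) ≠ 0)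
  rwa [one_add_one_eq_two] at this

theorem two_ne_one' : (2 : ZMod p) ≠ 1 := by
  intro h
  have : (1 : ZMod p) + 1 = 1 + 0 := by rw [one_add_one_eq_two, h, add_zero]
  exact one_ne_zero (add_left_cancel this)

theorem not_mem_normalizer (hp : p ≠ 2) (ζ : F) (hζ : ζ ^ p = 1) (hζ1 : ζ ≠ 1)
    (g : GL (ZMod p) F) (a k b : ZMod p) (hbk : b ≠ k)
    (h1 : (g : Matrix (ZMod p) (ZMod p) F) a k ≠ 0)
    (h2 : (g : Matrix (ZMod p) (ZMod p) F) a b ≠ 0) : g ∉ Subgroup.normalizer ((Q0 F p : Subgroup (GL (ZMod p) F)) : Set (GL (ZMod p) F)) := by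
  intro hg
  have hf : ∀ c : ZMod p, (if c = k then ζ else 1) ^ p = 1 := by
    intro c; split_ifs <;> simp [hζ]
  obtain ⟨d, i, hd, hyv⟩ : g * monU (fun c => if c = k then ζ else 1) 0 hf * g⁻¹ ∈ Q0 F p :=
    (Subgroup.mem_normalizer_iff.mp hg _).mp (monU_mem _ _ _)
  have hGGi : (g : Matrix (ZMod p) (ZMod p) F) * ((g⁻¹ : GL (ZMod p) F) : Matrix (ZMod p) (ZMod p) F) = 1 := by
    rw [← Units.val_mul, mul_inv_cancel, Units.val_one]
  have hGiG : ((g⁻¹ : GL (ZMod p) F) : Matrix (ZMod p) (ZMod p) F) * (g : Matrix (ZMod p) (ZMod p) F) = 1 := by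
    rw [← Units.val_mul, inv_mul_cancel, Units.val_one]
  rw [Units.val_mul, Units.val_mul, monU_val, mon_zero_eq] at hyv
  generalize ((g⁻¹ : GL (ZMod p) F) : Matrix (ZMod p) (ZMod p) F) = Gi at hGGi hGiG hyv
  generalize (g : Matrix (ZMod p) (ZMod p) F) = G at hGGi hGiG hyv h1 h2
  generalize hZ : Matrix.diagonal (fun c : ZMod p => if c = k then ζ else 1) = Z at hyv
  have hi : i = 0 := by
    by_contra hi
    have hZZ : Z * Z = (1 + ζ) • Z - ζ • (1 : Matrix (ZMod p) (ZMod p) F) := by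
      rw [← hZ, Matrix.diagonal_mul_diagonal]
      ext r c
      by_cases hrc : r = c
      · subst hrc
        simp only [Matrix.diagonal_apply_eq, Matrix.sub_apply, Matrix.smul_apply,
          Matrix.one_apply_eq, smul_eq_mul]
        split_ifs <;> ring
      · simp [Matrix.diagonal_apply_ne _ hrc, Matrix.one_apply_ne hrc]
    have hYY : mon d i * mon d i = (1 + ζ) • mon d i - ζ • (1 : Matrix (ZMod p) (ZMod p) F) := by
      rw [← hyv]
      calc G * Z * Gi * (G * Z * Gi) = G * Z * (Gi * G) * Z * Gi := by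
            simp only [Matrix.mul_assoc]
        _ = G * (Z * Z) * Gi := by rw [hGiG, Matrix.mul_one, Matrix.mul_assoc G Z Z]
        _ = _ := by
            rw [hZZ, Matrix.mul_sub, Matrix.sub_mul, Matrix.mul_smul, Matrix.smul_mul,
              Matrix.mul_smul, Matrix.smul_mul, Matrix.mul_one, hGGi]
    rw [mon_mul] at hYY
    have h00 := congrFun (congrFun hYY 0) 0
    have hii : ¬ (0 + (i + i) = (0 : ZMod p)) := by
      rw [zero_add]; exact add_self_ne hp hi
    have hi0 : ¬ (0 + i = (0 : ZMod p)) := by simpa using hi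
    simp only [mon_apply, Matrix.sub_apply, Matrix.smul_apply, Matrix.one_apply_eq, if_neg hii,
      if_neg hi0, smul_eq_mul, mul_zero, mul_one, zero_sub] at h00
    exact ne_zero_of_pow hζ (neg_eq_zero.mp h00.symm)
  subst hi
  have hcomm : Matrix.diagonal d * G = G * Z := by
    rw [← mon_zero_eq, ← hyv, Matrix.mul_assoc, hGiG, Matrix.mul_one]
  have e1 := congrFun (congrFun hcomm a) k
  have e2 := congrFun (congrFun hcomm a) b
  rw [← hZ, Matrix.diagonal_mul, Matrix.mul_diagonal] at e1 e2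
  simp only [if_true, if_neg hbk, mul_one] at e1 e2
  have hda : d a = ζ := mul_right_cancel₀ h1 (e1.trans (mul_comm _ _))
  have hda' : d a = 1 := by
    have : d a * G a b = 1 * G a b := by rw [e2, one_mul]
    exact mul_right_cancel₀ h2 this
  exact hζ1 (hda.symm.trans hda')

theorem key (hp : p ≠ 2) (ζ : F) (hζ : ζ ^ p = 1) (hζ1 : ζ ≠ 1) (x s : GL (ZMod p) F)
    (hs : s ∈ Q0 F p) (M M' : Matrix (ZMod p) (ZMod p) F) (hMM' : M * M' = 1)
    (hcomm : (x : Matrix (ZMod p) (ZMod p) F) * M = M * (s : Matrix (ZMod p) (ZMod p) F))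
    (a k b : ZMod p) (hbk : b ≠ k) (h1 : M a k ≠ 0) (h2 : M a b ≠ 0) :
    ∃ g : GL (ZMod p) F, g ∉ Subgroup.normalizer ((Q0 F p : Subgroup (GL (ZMod p) F)) : Set (GL (ZMod p) F)) ∧ g⁻¹ * x * g ∈ Q0 F p := by
  refine ⟨⟨M, M', hMM', _root_.mul_eq_one_comm.mp hMM'⟩,
    not_mem_normalizer hp ζ hζ hζ1 _ a k b hbk h1 h2, ?_⟩
  have : x * (⟨M, M', hMM', _root_.mul_eq_one_comm.mp hMM'⟩ : GL (ZMod p) F)
      = ⟨M, M', hMM', _root_.mul_eq_one_comm.mp hMM'⟩ * s := Units.ext hcomm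
  rw [mul_assoc, this, ← mul_assoc, inv_mul_cancel, one_mul]
  exact hs

theorem pow_val_succ {r : F} (hr : r ^ p = 1) (j : ZMod p) :
    r ^ (j + 1).val = r ^ (j.val + 1) := by
  rw [ZMod.val_add, ZMod.val_one]
  exact (pow_eq_pow_mod _ hr).symm

theorem sum_pow_val {r : F} (hr : r ^ p = 1) (hr1 : r ≠ 1) : ∑ j : ZMod p, r ^ j.val = 0 := by
  have h : r * ∑ j : ZMod p, r ^ j.val = ∑ j : ZMod p, r ^ j.val := by
    rw [Finset.mul_sum, ← Equiv.sum_comp (Equiv.addRight (1 : ZMod p)) (fun j => r ^ j.val)]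
    apply Finset.sum_congr rfl
    intro j _
    simp only [Equiv.coe_addRight]
    rw [pow_val_succ hr, pow_succ, mul_comm]
  have h2 : (r - 1) * ∑ j : ZMod p, r ^ j.val = 0 := by rw [sub_mul, h, one_mul, sub_self]
  exact (mul_eq_zero.mp h2).resolve_left (sub_ne_zero.mpr hr1)

theorem exists_zeta' [Fintype F] (h1 : p ∣ Fintype.card F - 1) : ∃ ζ : F, ζ ^ p = 1 ∧ ζ ≠ 1 := by
  obtain ⟨ζ, hζ⟩ := exists_zeta h1
  refine ⟨ζ, ?_, ?_⟩
  · have := congrArg Units.val (pow_orderOf_eq_one ζ)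
    rw [hζ] at this
    simpa using this
  · intro h
    have : ζ = 1 := Units.ext h
    rw [this, orderOf_one] at hζ
    exact (Fact.out : p.Prime).one_lt.ne hζ

theorem p_ne_zero [Fintype F] (h1 : p ∣ Fintype.card F - 1) : (p : F) ≠ 0 := by
  intro h
  have hq : 0 < Fintype.card F := Fintype.card_pos
  obtain ⟨m, hm⟩ := h1
  have h3 : Fintype.card F = p * m + 1 := by omega
  have h0 : ((Fintype.card F : ℕ) : F) = 0 := FiniteField.cast_card_eq_zero F
  rw [h3] at h0
  push_cast at h0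
  rw [h, zero_mul, zero_add] at h0
  exact one_ne_zero h0


theorem case1 (hp : p ≠ 2) (ζ : F) (hζ : ζ ^ p = 1) (hζ1 : ζ ≠ 1) (x : GL (ZMod p) F)
    (d : ZMod p → F) (hd : ∀ a, d a ^ p = 1)
    (hx : (x : Matrix (ZMod p) (ZMod p) F) = mon d 0) (a b : ZMod p) (hab : a ≠ b)
    (hdab : d a = d b) :
    ∃ g : GL (ZMod p) F, g ∉ Subgroup.normalizer ((Q0 F p : Subgroup (GL (ZMod p) F)) : Set (GL (ZMod p) F)) ∧ g⁻¹ * x * g ∈ Q0 F p := by
  have hxQ : x ∈ Q0 F p := ⟨d, 0, hd, hx⟩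
  refine key hp ζ hζ hζ1 x x hxQ (Matrix.transvection a b 1) (Matrix.transvection a b (-1))
    ?_ ?_ a a b (Ne.symm hab) ?_ ?_
  · rw [Matrix.transvection_mul_transvection_same _ _ hab]; simp
  · rw [hx, mon_zero_eq]
    ext r c
    rw [Matrix.diagonal_mul, Matrix.mul_diagonal]
    simp only [Matrix.transvection, Matrix.add_apply, Matrix.single_apply]
    by_cases hrc : r = c
    · subst hrc; ring
    · rw [Matrix.one_apply_ne hrc]
      by_cases h : a = r ∧ b = c
      · obtain ⟨rfl, rfl⟩ := h; simp [hdab]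
      · simp [h]
  · simp [Matrix.transvection, Matrix.single_apply, hab.symm]
  · simp [Matrix.transvection, Matrix.single_apply, hab]

theorem case2 (hp : p ≠ 2) (hpF : (p : F) ≠ 0) (ζ : F) (hζ : ζ ^ p = 1) (hζ1 : ζ ≠ 1)
    (x : GL (ZMod p) F) (d : ZMod p → F) (hd : ∀ a, d a ^ p = 1)
    (hx : (x : Matrix (ZMod p) (ZMod p) F) = mon d 0) (hinj : Function.Injective d) :
    ∃ g : GL (ZMod p) F, g ∉ Subgroup.normalizer ((Q0 F p : Subgroup (GL (ZMod p) F)) : Set (GL (ZMod p) F)) ∧ g⁻¹ * x * g ∈ Q0 F p := by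
  refine key hp ζ hζ hζ1 x (monU (fun _ => 1) 1 (by simp)) (monU_mem _ _ _)
    (Matrix.of fun a j : ZMod p => d a ^ j.val)
    (Matrix.of fun j b : ZMod p => (p : F)⁻¹ * (d b)⁻¹ ^ j.val) ?_ ?_ 0 0 1 one_ne_zero ?_ ?_
  · ext a b
    simp only [Matrix.mul_apply, Matrix.of_apply]
    have e : ∀ j : ZMod p, d a ^ j.val * ((p : F)⁻¹ * (d b)⁻¹ ^ j.val)
        = (p : F)⁻¹ * (d a * (d b)⁻¹) ^ j.val := by
      intro j; rw [mul_pow]; ring
    simp only [e]
    rw [← Finset.mul_sum]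
    by_cases hab : a = b
    · subst hab
      rw [Matrix.one_apply_eq, mul_inv_cancel₀ (ne_zero_of_pow (hd a))]
      simp [hpF]
    · rw [Matrix.one_apply_ne hab, sum_pow_val, mul_zero]
      · rw [mul_pow, inv_pow, hd, hd, inv_one, mul_one]
      · intro h; exact hab (hinj ((mul_inv_eq_one₀ (ne_zero_of_pow (hd b))).mp h))
  · rw [hx, mon_zero_eq, monU_val]
    ext a j
    rw [Matrix.diagonal_mul]
    simp only [Matrix.mul_apply, Matrix.of_apply, mon_apply, mul_ite, mul_one, mul_zero,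
      Finset.sum_ite_eq, Finset.mem_univ, if_true]
    rw [pow_val_succ (hd a), pow_succ, mul_comm]
  · simp
  · simp [ZMod.val_one, ne_zero_of_pow (hd 0)]

theorem pi_apply_ne_zero (d : ZMod p → F) (i : ZMod p) (hd : ∀ a, d a ^ p = 1) (hi : i ≠ 0)
    (a b : ZMod p) : (∑ j ∈ Finset.range p, (mon d i) ^ j) a b ≠ 0 := by
  choose D hD hDX using mon_pow d i hd
  rw [Matrix.sum_apply]
  simp only [hDX, mon_apply]
  have hj₀ : ((a - b) * i⁻¹).val < p := ZMod.val_lt _
  have hj : ((a - b) * i⁻¹).val • i = a - b := by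
    rw [nsmul_eq_mul, ZMod.natCast_zmod_val, inv_mul_cancel_right₀ hi]
  rw [Finset.sum_eq_single_of_mem ((a - b) * i⁻¹).val (Finset.mem_range.mpr hj₀)]
  · rw [if_pos (by rw [hj]; ring)]
    exact ne_zero_of_pow (hD _ a)
  · intro j hjr hne
    rw [if_neg]
    intro h
    apply hne
    have h3 : (j : ZMod p) * i = (((a - b) * i⁻¹).val : ZMod p) * i := by
      rw [← nsmul_eq_mul, ← nsmul_eq_mul, hj, ← h]; ring
    have h4 := mul_right_cancel₀ hi h3
    rw [ZMod.natCast_eq_natCast_iff'] at h4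
    rwa [Nat.mod_eq_of_lt (Finset.mem_range.mp hjr), Nat.mod_eq_of_lt hj₀] at h4

theorem pow_p_scalar (d : ZMod p → F) (i : ZMod p) (hd : ∀ a, d a ^ p = 1) (hi : i ≠ 0) :
    ∃ c : F, c ^ p = 1 ∧ (mon d i) ^ p = c • (1 : Matrix (ZMod p) (ZMod p) F) := by
  obtain ⟨d', hd', h⟩ := mon_pow_p d i hd
  have hc : ∀ a, d' (a - i) = d' a := by
    have hcomm : Matrix.diagonal d' * mon d i = mon d i * Matrix.diagonal d' := by
      rw [← h]; exact pow_mul_comm' _ _
    rw [← mon_zero_eq, mon_mul, mon_mul] at hcomm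
    have e : (0 : ZMod p) + i = i + 0 := by ring
    rw [e] at hcomm
    have h2 := mon_inj hcomm
    intro a
    have h3 := congrFun h2 a
    simp only [sub_zero] at h3
    exact (mul_left_cancel₀ (ne_zero_of_pow (hd a)) (by rw [← h3, mul_comm])).symm
  have hconst : ∀ a, d' a = d' 0 := by
    have hn : ∀ (n : ℕ) (a : ZMod p), d' (a - n • i) = d' a := by
      intro n
      induction n with
      | zero => intro a; simp
      | succ n ih => intro a; rw [succ_nsmul, ← sub_sub, hc, ih]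
    intro a
    have h4 := hn (a * i⁻¹).val a
    rw [nsmul_eq_mul, ZMod.natCast_zmod_val, inv_mul_cancel_right₀ hi, sub_self] at h4
    exact h4.symm
  refine ⟨d' 0, hd' 0, ?_⟩
  have : d' = fun _ => d' 0 := funext hconst
  rw [h, Matrix.smul_one_eq_diagonal, ← this]

theorem case3 (hp : p ≠ 2) (hpF : (p : F) ≠ 0) (ζ : F) (hζ : ζ ^ p = 1) (hζ1 : ζ ≠ 1)
    (x : GL (ZMod p) F) (d : ZMod p → F) (i : ZMod p) (hd : ∀ a, d a ^ p = 1)
    (hx : (x : Matrix (ZMod p) (ZMod p) F) = mon d i) (hi : i ≠ 0)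
    (hxp : (mon d i) ^ p = 1) :
    ∃ g : GL (ZMod p) F, g ∉ Subgroup.normalizer ((Q0 F p : Subgroup (GL (ZMod p) F)) : Set (GL (ZMod p) F)) ∧ g⁻¹ * x * g ∈ Q0 F p := by
  have hxQ : x ∈ Q0 F p := ⟨d, i, hd, hx⟩
  have hne := pi_apply_ne_zero d i hd hi
  generalize mon d i = X at hx hxp hne
  generalize hπ : ∑ j ∈ Finset.range p, X ^ j = π at hne
  have hXπ : X * π = π := by
    have h1 := geom_sum_succ (x := X) (n := p)
    rw [geom_sum_succ', hxp, hπ, add_comm] at h1
    exact (add_right_cancel h1).symm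
  have hπX : π * X = π := by
    have : Commute X π := by
      rw [← hπ]
      exact Commute.sum_right _ _ _ (fun j _ => (Commute.refl X).pow_right j)
    rw [← this.eq, hXπ]
  have hXjπ : ∀ j : ℕ, X ^ j * π = π := by
    intro j
    induction j with
    | zero => rw [pow_zero, one_mul]
    | succ j ih => rw [pow_succ, mul_assoc, hXπ, ih]
  have hππ : π * π = (p : F) • π := by
    nth_rewrite 1 [← hπ]
    rw [Finset.sum_mul, Finset.sum_congr rfl (fun j _ => hXjπ j), Finset.sum_const,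
      Finset.card_range, ← Nat.cast_smul_eq_nsmul F]
  have htp : (ζ - 1) * (p : F)⁻¹ * p = ζ - 1 := by
    rw [mul_assoc, inv_mul_cancel₀ hpF, mul_one]
  have hζ0 : ζ ≠ 0 := ne_zero_of_pow hζ
  have ht0 : (ζ - 1) * (p : F)⁻¹ ≠ 0 := mul_ne_zero (sub_ne_zero.mpr hζ1) (inv_ne_zero hpF)
  generalize (ζ - 1) * (p : F)⁻¹ = t at htp ht0
  refine key hp ζ hζ hζ1 x x hxQ (1 + t • π) (1 + (-t * ζ⁻¹) • π) ?_ ?_ 0 1 2 two_ne_one' ?_ ?_
  · have hcoef : (-t * ζ⁻¹) + t + t * (-t * ζ⁻¹) * p = 0 := by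
      have : t * (-t * ζ⁻¹) * p = (t * p) * (-t * ζ⁻¹) := by ring
      rw [this, htp]; field_simp; ring
    generalize -t * ζ⁻¹ = s at hcoef
    have e1 : (t • π) * (s • π) = (t * s * p) • π := by
      rw [Matrix.smul_mul, Matrix.mul_smul, hππ, smul_smul, smul_smul]
    calc (1 + t • π) * (1 + s • π)
        = 1 + (s + t + t * s * p) • π := by
          rw [mul_add, add_mul, add_mul, one_mul, mul_one, one_mul, e1, add_smul, add_smul]
          abel
      _ = 1 := by rw [hcoef, zero_smul, add_zero]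
  · rw [hx, mul_add, add_mul, mul_one, one_mul, Matrix.mul_smul, Matrix.smul_mul, hXπ, hπX]
  · rw [Matrix.add_apply, Matrix.one_apply_ne (one_ne_zero).symm, zero_add, Matrix.smul_apply,
      smul_eq_mul]
    exact mul_ne_zero ht0 (hne 0 1)
  · rw [Matrix.add_apply, Matrix.one_apply_ne (two_ne_zero' hp).symm, zero_add,
      Matrix.smul_apply, smul_eq_mul]
    exact mul_ne_zero ht0 (hne 0 2)

theorem case4 (hp : p ≠ 2) (ζ : F) (hζ : ζ ^ p = 1) (hζ1 : ζ ≠ 1)
    (x : GL (ZMod p) F) (d : ZMod p → F) (i : ZMod p) (hd : ∀ a, d a ^ p = 1)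
    (hx : (x : Matrix (ZMod p) (ZMod p) F) = mon d i) (hi : i ≠ 0)
    (c : F) (hc : c ^ p = 1) (hc1 : c ≠ 1)
    (hxp : (mon d i) ^ p = c • (1 : Matrix (ZMod p) (ZMod p) F)) :
    ∃ g : GL (ZMod p) F, g ∉ Subgroup.normalizer ((Q0 F p : Subgroup (GL (ZMod p) F)) : Set (GL (ZMod p) F)) ∧ g⁻¹ * x * g ∈ Q0 F p := by
  have hxQ : x ∈ Q0 F p := ⟨d, i, hd, hx⟩
  have hodd : Odd p := (Fact.out : p.Prime).odd_of_ne_two hp
  have h1c : 1 + c ≠ 0 := by
    intro h
    have hc' : c = -1 := eq_neg_of_add_eq_zero_right h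
    rw [hc', hodd.neg_one_pow] at hc
    exact hc1 (by rw [hc', hc])
  refine key hp ζ hζ hζ1 x x hxQ (1 + mon d i)
    ((1 + c)⁻¹ • ∑ j ∈ Finset.range p, (-(mon d i)) ^ j) ?_ ?_ 0 0 (-i) (neg_ne_zero.mpr hi) ?_ ?_
  · rw [Matrix.mul_smul]
    have h := mul_neg_geom_sum (-(mon d i)) p
    rw [sub_neg_eq_add, hodd.neg_pow, hxp, sub_neg_eq_add] at h
    have e : (1 : Matrix (ZMod p) (ZMod p) F) + c • 1 = (1 + c) • 1 := by rw [add_smul, one_smul]
    rw [h, e, smul_smul, inv_mul_cancel₀ h1c, one_smul]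
  · rw [hx, mul_add, add_mul, mul_one, one_mul]
  · rw [Matrix.add_apply, Matrix.one_apply_eq, mon_apply, if_neg (by simpa using hi), add_zero]
    exact one_ne_zero
  · rw [Matrix.add_apply, Matrix.one_apply_ne (neg_ne_zero.mpr hi).symm, zero_add, mon_apply,
      if_pos (by simp)]
    exact ne_zero_of_pow (hd 0)

theorem exists_conj [Fintype F] (hp : p ≠ 2) (h1 : p ∣ Fintype.card F - 1)
    (x : GL (ZMod p) F) (hx : x ∈ Q0 F p) :
    ∃ g : GL (ZMod p) F, g ∉ Subgroup.normalizer ((Q0 F p : Subgroup (GL (ZMod p) F)) : Set (GL (ZMod p) F)) ∧ g⁻¹ * x * g ∈ Q0 F p := by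
  obtain ⟨ζ, hζ, hζ1⟩ := exists_zeta' (F := F) h1
  have hpF : (p : F) ≠ 0 := p_ne_zero h1
  obtain ⟨d, i, hd, hxv⟩ := hx
  by_cases hi : i = 0
  · subst hi
    by_cases hinj : Function.Injective d
    · exact case2 hp hpF ζ hζ hζ1 x d hd hxv hinj
    · unfold Function.Injective at hinj
      push Not at hinj
      obtain ⟨a, b, hab, hne⟩ := hinj
      exact case1 hp ζ hζ hζ1 x d hd hxv a b hne hab
  · obtain ⟨c, hc, hxp⟩ := pow_p_scalar d i hd hi
    by_cases hc1 : c = 1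
    · subst hc1
      rw [one_smul] at hxp
      exact case3 hp hpF ζ hζ hζ1 x d i hd hxv hi hxp
    · exact case4 hp ζ hζ hζ1 x d i hd hxv hi c hc hc1 hxp


theorem main_zmod [Fintype F] (hp : p ≠ 2) (h1 : p ∣ Fintype.card F - 1)
    (h2 : ¬ p ^ 2 ∣ Fintype.card F - 1) :
    ∃ Q : Sylow p (GL (ZMod p) F), ∀ x : GL (ZMod p) F,
      (∃ k : ℕ, orderOf x = p ^ k) → ∃ P : Sylow p (GL (ZMod p) F), P ≠ Q ∧ x ∈ P := by
  classical
  have pp : p.Prime := Fact.out
  let e : Fin p ≃ ZMod p := Fintype.equivOfCardEq (by rw [Fintype.card_fin, ZMod.card])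
  let φ : GL (Fin p) F ≃* GL (ZMod p) F :=
    Units.mapEquiv (Matrix.reindexAlgEquiv F F e).toMulEquiv
  have hfac : (Nat.card (GL (ZMod p) F)).factorization p = p + 1 := by
    rw [← Nat.card_congr φ.toEquiv]; exact card_GL_fact hp h1 h2
  have hcard : Nat.card (Q0 F p) = p ^ (Nat.card (GL (ZMod p) F)).factorization p := by
    obtain ⟨n, hn⟩ := IsPGroup.iff_card.mp (Q0_isPGroup (F := F) (p := p))
    have hdvd : p ^ n ∣ Nat.card (GL (ZMod p) F) := hn ▸ Subgroup.card_subgroup_dvd_card (Q0 F p)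
    have hle : n ≤ p + 1 := by
      rw [← hfac]
      exact (pp.pow_dvd_iff_le_factorization Nat.card_pos.ne').mp hdvd
    have hge : p ^ (p + 1) ≤ p ^ n := by rw [← hn, pow_succ]; exact card_Q0_ge h1
    have hge' : p + 1 ≤ n := (Nat.pow_le_pow_iff_right pp.one_lt).mp hge
    rw [hn, hfac]; congr 1; omega
  refine ⟨Sylow.ofCard (Q0 F p) hcard, ?_⟩
  rintro x ⟨k, hk⟩
  by_cases hx : x ∈ Q0 F p
  · obtain ⟨g, hg, hgx⟩ := exists_conj hp h1 x hx
    refine ⟨g • Sylow.ofCard (Q0 F p) hcard, ?_, ?_⟩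
    · intro h
      exact hg (Sylow.smul_eq_iff_mem_normalizer.mp h)
    · show x ∈ ((g • Sylow.ofCard (Q0 F p) hcard : Sylow p (GL (ZMod p) F)) :
        Subgroup (GL (ZMod p) F))
      rw [Sylow.coe_subgroup_smul, Subgroup.mem_pointwise_smul_iff_inv_smul_mem,
        Sylow.coe_ofCard]
      simpa [MulAut.smul_def] using hgx
  · have hpg : IsPGroup p (Subgroup.zpowers x) :=
      IsPGroup.of_card (n := k) (by rw [Nat.card_zpowers, hk])
    obtain ⟨P, hP⟩ := hpg.exists_le_sylow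
    refine ⟨P, ?_, hP (Subgroup.mem_zpowers x)⟩
    rintro rfl
    exact hx (hP (Subgroup.mem_zpowers x))

theorem transfer {G H : Type*} [Group G] [Group H] (φ : G ≃* H) (p : ℕ) [Fact p.Prime]
    (h : ∃ Q : Sylow p G, ∀ x : G, (∃ k : ℕ, orderOf x = p ^ k) →
      ∃ P : Sylow p G, P ≠ Q ∧ x ∈ P) :
    ∃ Q : Sylow p H, ∀ x : H, (∃ k : ℕ, orderOf x = p ^ k) →
      ∃ P : Sylow p H, P ≠ Q ∧ x ∈ P := by
  have hr : ∀ P : Sylow p G, (P : Subgroup G) ≤ φ.symm.toMonoidHom.range := by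
    intro P
    rw [MonoidHom.range_eq_top.mpr φ.symm.surjective]
    exact le_top
  let tr : Sylow p G → Sylow p H := fun P =>
    P.comapOfInjective φ.symm.toMonoidHom φ.symm.injective (hr P)
  have htr : ∀ (P : Sylow p G) (y : H), y ∈ tr P ↔ φ.symm y ∈ P := fun P y => Iff.rfl
  obtain ⟨Q, hQ⟩ := h
  refine ⟨tr Q, ?_⟩
  rintro x ⟨k, hk⟩
  obtain ⟨P, hPQ, hxP⟩ := hQ (φ.symm x) ⟨k, by rw [MulEquiv.orderOf_eq, hk]⟩
  refine ⟨tr P, ?_, (htr P x).mpr hxP⟩
  intro heq
  apply hPQ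
  ext y
  have h1 := htr P (φ y)
  have h2 := htr Q (φ y)
  rw [heq] at h1
  rw [MulEquiv.symm_apply_apply] at h1 h2
  exact h1.symm.trans h2

end helpers


/-- Let p be an odd prime and F a finite field with q elements such that p divides q - 1 but p² does not. Then GL(p, F) has a Sylow p-subgroup Q such that every element of p-power order lies in some Sylow p-subgroup other than Q (a redundant Sylow p-subgroup). -/
theorem result {F : Type*} [Field F] [Fintype F] (p : ℕ) [Fact p.Prime]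
    (hp : p ≠ 2) (h1 : p ∣ Fintype.card F - 1) (h2 : ¬ p ^ 2 ∣ Fintype.card F - 1) :
    ∃ Q : Sylow p (Matrix.GeneralLinearGroup (Fin p) F), ∀ x : Matrix.GeneralLinearGroup (Fin p) F,
      (∃ k : ℕ, orderOf x = p ^ k) → ∃ P : Sylow p (Matrix.GeneralLinearGroup (Fin p) F), P ≠ Q ∧ x ∈ P := by
  classical
  let e : ZMod p ≃ Fin p := Fintype.equivOfCardEq (by rw [Fintype.card_fin, ZMod.card])
  exact transfer (Units.mapEquiv (Matrix.reindexAlgEquiv F F e).toMulEquiv) p
    (main_zmod hp h1 h2)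

end Cfsg.Agent.S4358
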