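import Cfsg.Statements.S4359
-- import your own Cfsg.Agent.* helpers here

set_option autoImplicit false
open Pointwise
open Cfsg

namespace Cfsg.Agent.S4359

section basic

variable {G : Type*} [Group G]

/-- `Qz P g i = g⁻ⁱ P gⁱ`. -/
def Qz (P : Subgroup G) (g : G) (i : ℤ) : Subgroup G :=
  P.comap (MulAut.conj (g ^ i)).toMonoidHom

theorem mem_Qz {P : Subgroup G} {g : G} {i : ℤ} {x : G} :
    x ∈ Qz P g i ↔ g ^ i * x * g ^ (-i) ∈ P := by
  unfold Qz
  rw [Subgroup.mem_comap]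
  show MulAut.conj (g ^ i) x ∈ P ↔ _
  rw [MulAut.conj_apply, zpow_neg]

theorem Qz_zero (P : Subgroup G) (g : G) : Qz P g 0 = P := by
  ext x
  rw [mem_Qz]
  simp

theorem mem_Qz_add {P : Subgroup G} {g : G} (i k : ℤ) (x : G) :
    x ∈ Qz P g (i + k) ↔ g ^ k * x * g ^ (-k) ∈ Qz P g i := by
  rw [mem_Qz, mem_Qz]
  have : g ^ (i + k) * x * g ^ (-(i + k)) = g ^ i * (g ^ k * x * g ^ (-k)) * g ^ (-i) := by group
  rw [this]

theorem sh_mem_Qz {P : Subgroup G} {g : G} (i k : ℤ) (x : G) :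
    g ^ (-k) * x * g ^ k ∈ Qz P g (i + k) ↔ x ∈ Qz P g i := by
  rw [mem_Qz_add]
  have : g ^ k * (g ^ (-k) * x * g ^ k) * g ^ (-k) = x := by group
  rw [this]

theorem smul_eq_Qz (P : Subgroup G) (g : G) (i : ℕ) :
    MulAut.conj (g ^ i)⁻¹ • P = Qz P g (i : ℤ) := by
  ext x
  rw [Subgroup.mem_pointwise_smul_iff_inv_smul_mem, mem_Qz, ← map_inv, inv_inv, MulAut.smul_def,
    MulAut.conj_apply, zpow_neg, zpow_natCast]

theorem smul_eq_Qz_one (P : Subgroup G) (g : G) :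
    MulAut.conj g⁻¹ • P = Qz P g 1 := by
  have := smul_eq_Qz P g 1
  simpa using this

/-- The local structure of the chain of conjugates. -/
structure LS (P : Subgroup G) (g : G) : Prop where
  nr : ∀ (i : ℤ) (x y : G), x ∈ Qz P g i → x ∈ Qz P g (i + 1) → y ∈ Qz P g i →
    y * x * y⁻¹ ∈ Qz P g (i + 1)
  nl : ∀ (i : ℤ) (x y : G), x ∈ Qz P g i → x ∈ Qz P g (i + 1) → y ∈ Qz P g (i + 1) →
    y * x * y⁻¹ ∈ Qz P g i
  pr : ∀ (i : ℤ) (x₀ y : G), x₀ ∈ Qz P g i → x₀ ∉ Qz P g (i + 1) → y ∈ Qz P g i →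
    ∃ e : ℤ, x₀ ^ e * y ∈ Qz P g (i + 1)
  pl : ∀ (i : ℤ) (x₀ y : G), x₀ ∈ Qz P g (i + 1) → x₀ ∉ Qz P g i → y ∈ Qz P g (i + 1) →
    ∃ e : ℤ, x₀ ^ e * y ∈ Qz P g i

/-- Elementwise consequences of a normal subgroup of prime index. -/
theorem prime_index_aux {K N : Subgroup G} {p : ℕ} (hp : p.Prime)
    (hn : ∀ x ∈ N, ∀ y ∈ K, y * x * y⁻¹ ∈ N) (hidx : N.relIndex K = p) :
    (∀ y ∈ K, y ^ p ∈ N) ∧ ∀ x₀ ∈ K, x₀ ∉ N → ∀ y ∈ K, ∃ e : ℤ, x₀ ^ e * y ∈ N := by
  have : Fact p.Prime := ⟨hp⟩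
  have hnorm : (N.subgroupOf K).Normal := by
    constructor
    intro a ha b
    rw [Subgroup.mem_subgroupOf] at ha ⊢
    exact hn a.1 ha b.1 b.2
  have hcard : Nat.card (↥K ⧸ N.subgroupOf K) = p := by
    rw [← Subgroup.index_eq_card]; exact hidx
  have : Finite (↥K ⧸ N.subgroupOf K) := Nat.finite_of_card_ne_zero (by rw [hcard]; exact hp.ne_zero)
  constructor
  · intro y hy
    have h1 : ((⟨y, hy⟩ : ↥K) : ↥K ⧸ N.subgroupOf K) ^ p = 1 := by
      rw [← hcard]; exact pow_card_eq_one'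
    rw [← QuotientGroup.mk_pow, QuotientGroup.eq_one_iff, Subgroup.mem_subgroupOf] at h1
    exact h1
  · intro x₀ hx₀ hx₀N y hy
    have h1 : ((⟨x₀, hx₀⟩ : ↥K) : ↥K ⧸ N.subgroupOf K) ≠ 1 := by
      intro h
      rw [QuotientGroup.eq_one_iff, Subgroup.mem_subgroupOf] at h
      exact hx₀N h
    have h2 := zpowers_eq_top_of_prime_card hcard h1
    have h3 : ((⟨y, hy⟩⁻¹ : ↥K) : ↥K ⧸ N.subgroupOf K) ∈
        Subgroup.zpowers ((⟨x₀, hx₀⟩ : ↥K) : ↥K ⧸ N.subgroupOf K) := by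
      rw [h2]; exact Subgroup.mem_top _
    obtain ⟨e, he⟩ := Subgroup.mem_zpowers_iff.mp h3
    refine ⟨e, ?_⟩
    have h4 : (((⟨x₀, hx₀⟩ : ↥K) ^ e * ⟨y, hy⟩ : ↥K) : ↥K ⧸ N.subgroupOf K) = 1 := by
      rw [QuotientGroup.mk_mul, QuotientGroup.mk_zpow, he, QuotientGroup.mk_inv]
      simp
    rw [QuotientGroup.eq_one_iff, Subgroup.mem_subgroupOf] at h4
    simpa using h4

theorem card_mul_relIndex' {N K : Subgroup G} (hNK : N ≤ K) :
    Nat.card N * N.relIndex K = Nat.card K := by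
  have h1 := Subgroup.card_mul_index (N.subgroupOf K)
  rw [Nat.card_congr (Subgroup.subgroupOfEquivOfLe hNK).toEquiv] at h1
  exact h1

theorem card_Qz [Finite G] (P : Subgroup G) (g : G) (i : ℤ) :
    Nat.card (Qz P g i) = Nat.card P := by
  refine Nat.card_congr ((MulAut.conj (g ^ i)).toEquiv.subtypeEquiv (fun x => ?_))
  exact Iff.rfl

/-- Closure under conjugation by `g` gives closure under conjugation by `g⁻¹` in a finite group. -/
theorem conj_closed [Finite G] (D : Subgroup G) (g : G) (h : ∀ x ∈ D, g * x * g⁻¹ ∈ D) :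
    ∀ x ∈ D, g⁻¹ * x * g ∈ D := by
  have hpow : ∀ (k : ℕ) (x : G), x ∈ D → g ^ k * x * (g ^ k)⁻¹ ∈ D := by
    intro k
    induction k with
    | zero => intro x hx; simpa using hx
    | succ k ih =>
      intro x hx
      have h1 := h _ (ih x hx)
      have h2 : g ^ (k + 1) * x * (g ^ (k + 1))⁻¹ = g * (g ^ k * x * (g ^ k)⁻¹) * g⁻¹ := by
        rw [pow_succ']; group
      rw [h2]; exact h1
  obtain ⟨n, hn, hgn⟩ := isOfFinOrder_iff_pow_eq_one.mp (isOfFinOrder_of_finite g)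
  intro x hx
  have h1 := hpow (n - 1) x hx
  have h2 : g ^ (n - 1) = g⁻¹ := by
    have h3 : g ^ (n - 1) * g = 1 := by
      rw [← pow_succ, Nat.sub_add_cancel hn, hgn]
    exact eq_inv_of_mul_eq_one_left h3
  rw [h2, inv_inv] at h1
  exact h1

end basic

section first

variable {G : Type*} [Group G] [Finite G]

theorem closure_conj (X : Set G) (a : G) (h : ∀ x ∈ X, a * x * a⁻¹ ∈ X) :
    ∀ n ∈ Subgroup.closure X, a * n * a⁻¹ ∈ Subgroup.closure X := by
  intro n hn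
  induction hn using Subgroup.closure_induction with
  | mem x hx => exact Subgroup.subset_closure (h x hx)
  | one => simp
  | mul x y _ _ ihx ihy =>
    have : a * (x * y) * a⁻¹ = (a * x * a⁻¹) * (a * y * a⁻¹) := by group
    rw [this]; exact Subgroup.mul_mem _ ihx ihy
  | inv x _ ihx =>
    have : a * x⁻¹ * a⁻¹ = (a * x * a⁻¹)⁻¹ := by group
    rw [this]; exact Subgroup.inv_mem _ ihx

theorem orderOf_conj' (a x : G) : orderOf (a * x * a⁻¹) = orderOf x :=
  (MulAut.conj a).orderOf_eq x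

/-- `P` is a `p`-group. -/
theorem isPGroup_of_hyp (P : Subgroup G) (g : G) (p : ℕ) (hp : p.Prime)
    (hpow : ∀ y ∈ Qz P g 1, y ^ p ∈ P)
    (h1 : ∀ D : Subgroup G, D ≤ P → (∀ x ∈ D, ∀ y ∈ P, y * x * y⁻¹ ∈ D) →
      (∀ x ∈ D, g * x * g⁻¹ ∈ D) → D = ⊥) :
    IsPGroup p P := by
  obtain ⟨X, hX⟩ : ∃ X : Set G, X = {x : G | x ∈ P ∧ (orderOf x).Coprime p} := ⟨_, rfl⟩
  have hmemX : ∀ x, x ∈ X ↔ x ∈ P ∧ (orderOf x).Coprime p := by
    intro x; rw [hX]; exact Iff.rfl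
  have hX1 : ∀ x ∈ X, g⁻¹ * x * g⁻¹⁻¹ ∈ X := by
    intro x hx
    rw [hmemX] at hx ⊢
    have ho : orderOf (g⁻¹ * x * g⁻¹⁻¹) = orderOf x := orderOf_conj' g⁻¹ x
    refine ⟨?_, by rw [ho]; exact hx.2⟩
    have hy1 : g⁻¹ * x * g⁻¹⁻¹ ∈ Qz P g 1 := by
      rw [mem_Qz]
      have : g ^ (1 : ℤ) * (g⁻¹ * x * g⁻¹⁻¹) * g ^ (-1 : ℤ) = x := by group
      rw [this]; exact hx.1
    have hyp := hpow _ hy1
    have hco : IsCoprime ((orderOf (g⁻¹ * x * g⁻¹⁻¹) : ℕ) : ℤ) (p : ℤ) := by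
      rw [Nat.isCoprime_iff_coprime, ho]; exact hx.2
    obtain ⟨u, v, huv⟩ := hco
    have h3 : g⁻¹ * x * g⁻¹⁻¹ = ((g⁻¹ * x * g⁻¹⁻¹) ^ orderOf (g⁻¹ * x * g⁻¹⁻¹)) ^ u *
        ((g⁻¹ * x * g⁻¹⁻¹) ^ p) ^ v := by
      rw [← zpow_natCast, ← zpow_natCast, ← zpow_mul', ← zpow_mul', ← zpow_add, huv, zpow_one]
    rw [h3, pow_orderOf_eq_one, one_zpow, one_mul]
    exact Subgroup.zpow_mem _ hyp v
  have hX2 : ∀ a ∈ P, ∀ x ∈ X, a * x * a⁻¹ ∈ X := by
    intro a ha x hx
    rw [hmemX] at hx ⊢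
    exact ⟨P.mul_mem (P.mul_mem ha hx.1) (P.inv_mem ha), by rw [orderOf_conj']; exact hx.2⟩
  have hNP : Subgroup.closure X ≤ P := (Subgroup.closure_le P).2 (fun x hx => ((hmemX x).1 hx).1)
  have hg1 : ∀ n ∈ Subgroup.closure X, g⁻¹ * n * g⁻¹⁻¹ ∈ Subgroup.closure X :=
    closure_conj X g⁻¹ hX1
  have hg2 : ∀ n ∈ Subgroup.closure X, g * n * g⁻¹ ∈ Subgroup.closure X := by
    intro n hn
    have := conj_closed (Subgroup.closure X) g⁻¹ hg1 n hn
    simpa using this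
  have hbot := h1 (Subgroup.closure X) hNP
    (fun x hx y hy => closure_conj X y (hX2 y hy) x hx) hg2
  intro ⟨x, hx⟩
  obtain ⟨k, m, hm, hkm⟩ := Nat.exists_eq_pow_mul_and_not_dvd (orderOf_pos x).ne' p hp.ne_one
  refine ⟨k, ?_⟩
  have h5 : (x ^ p ^ k) ^ m = 1 := by
    rw [← pow_mul, ← hkm, pow_orderOf_eq_one]
  have h6 : (orderOf (x ^ p ^ k)).Coprime p :=
    Nat.Coprime.coprime_dvd_left (orderOf_dvd_of_pow_eq_one h5)
      ((Nat.Prime.coprime_iff_not_dvd hp).2 hm).symm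
  have h7 : x ^ p ^ k ∈ Subgroup.closure X :=
    Subgroup.subset_closure ((hmemX _).2 ⟨P.pow_mem hx _, h6⟩)
  rw [hbot, Subgroup.mem_bot] at h7
  exact Subtype.ext h7

/-- the elementwise form of the hypothesis on `g`-invariant normal subgroups -/
theorem h1_elem (P : Subgroup G) (g : G)
    (h1 : ∀ Q : Subgroup G, Q ≤ P → (Q.subgroupOf P).Normal → MulAut.conj g • Q = Q → Q = ⊥)
    (D : Subgroup G) (hD : D ≤ P) (hn : ∀ x ∈ D, ∀ y ∈ P, y * x * y⁻¹ ∈ D)
    (hg : ∀ x ∈ D, g * x * g⁻¹ ∈ D) : D = ⊥ := by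
  refine h1 D hD ?_ ?_
  · constructor
    intro a ha b
    rw [Subgroup.mem_subgroupOf] at ha ⊢
    exact hn a.1 ha b.1 b.2
  · ext x
    rw [Subgroup.mem_pointwise_smul_iff_inv_smul_mem, ← map_inv, MulAut.smul_def,
      MulAut.conj_apply, inv_inv]
    constructor
    · intro h
      have := hg _ h
      have h2 : g * (g⁻¹ * x * g) * g⁻¹ = x := by group
      rwa [h2] at this
    · intro h
      exact conj_closed D g hg x h

/-- The local structure from the hypotheses. -/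
theorem ls_of_hyp (P : Subgroup G) (g : G) (p : ℕ) (hp : p.Prime)
    (hN : ((P ⊓ Qz P g 1).subgroupOf (Qz P g 1)).Normal)
    (hidx : (P ⊓ Qz P g 1).relIndex (Qz P g 1) = p)
    (h1 : ∀ D : Subgroup G, D ≤ P → (∀ x ∈ D, ∀ y ∈ P, y * x * y⁻¹ ∈ D) →
      (∀ x ∈ D, g * x * g⁻¹ ∈ D) → D = ⊥) :
    P ≠ ⊥ ∧ LS P g ∧ ∀ (i : ℤ) (y : G), y ∈ Qz P g i → y ^ p ∈ Qz P g (i + 1) := by
  have : Fact p.Prime := ⟨hp⟩
  have hn1 : ∀ x ∈ P ⊓ Qz P g 1, ∀ y ∈ Qz P g 1, y * x * y⁻¹ ∈ P ⊓ Qz P g 1 := by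
    intro x hx y hy
    have := hN.conj_mem ⟨x, hx.2⟩ (Subgroup.mem_subgroupOf.2 hx) ⟨y, hy⟩
    rw [Subgroup.mem_subgroupOf] at this
    exact this
  obtain ⟨hpow1, hpl0⟩ := prime_index_aux hp hn1 hidx
  have hPG : IsPGroup p P := isPGroup_of_hyp P g p hp (fun y hy => (hpow1 y hy).1) h1
  obtain ⟨T', hT'⟩ := hPG.exists_card_eq
  have hc1 := card_mul_relIndex' (inf_le_right : P ⊓ Qz P g 1 ≤ Qz P g 1)
  have hc0 := card_mul_relIndex' (inf_le_left : P ⊓ Qz P g 1 ≤ P)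
  rw [hidx, card_Qz] at hc1
  have hidxP : (P ⊓ Qz P g 1).relIndex P = p := by
    have h2 : Nat.card ↥(P ⊓ Qz P g 1) * (P ⊓ Qz P g 1).relIndex P =
        Nat.card ↥(P ⊓ Qz P g 1) * p := by rw [hc0, hc1]
    exact Nat.eq_of_mul_eq_mul_left Nat.card_pos h2
  have hT'0 : T' ≠ 0 := by
    intro h0
    rw [h0, pow_zero] at hT'
    have h3 : (P ⊓ Qz P g 1).relIndex P ∣ Nat.card P := Subgroup.relIndex_dvd_card _ _
    rw [hidxP, hT'] at h3
    exact hp.one_lt.ne' (Nat.dvd_one.mp h3)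
  have hPne : P ≠ ⊥ := by
    intro h
    have h4 : Nat.card P = 1 := Subgroup.card_eq_one.mpr h
    rw [hT'] at h4
    have h5 : p ^ T' ≠ 1 := by
      have : 1 < p ^ T' := Nat.one_lt_pow hT'0 hp.one_lt
      omega
    exact h5 h4
  have hnormP : ((P ⊓ Qz P g 1).subgroupOf P).Normal := by
    apply Subgroup.normal_of_index_eq_minFac_card
    rw [hT', hp.pow_minFac hT'0]
    exact hidxP
  have hn0 : ∀ x ∈ P ⊓ Qz P g 1, ∀ y ∈ P, y * x * y⁻¹ ∈ P ⊓ Qz P g 1 := by
    intro x hx y hy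
    have := hnormP.conj_mem ⟨x, hx.1⟩ (Subgroup.mem_subgroupOf.2 hx) ⟨y, hy⟩
    rw [Subgroup.mem_subgroupOf] at this
    exact this
  obtain ⟨hpow0, hpr0⟩ := prime_index_aux hp hn0 hidxP
  -- transport
  have t0 : ∀ (i : ℤ) (x : G), x ∈ Qz P g i ↔ g ^ i * x * g ^ (-i) ∈ P := fun i x => mem_Qz
  have t1 : ∀ (i : ℤ) (x : G), x ∈ Qz P g (i + 1) ↔ g ^ i * x * g ^ (-i) ∈ Qz P g 1 := by
    intro i x
    rw [add_comm]
    exact mem_Qz_add 1 i x
  have tc : ∀ (i : ℤ) (x y : G), g ^ i * (y * x * y⁻¹) * g ^ (-i) =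
      (g ^ i * y * g ^ (-i)) * (g ^ i * x * g ^ (-i)) * (g ^ i * y * g ^ (-i))⁻¹ := by
    intro i x y; group
  have tp : ∀ (i e : ℤ) (x y : G), g ^ i * (x ^ e * y) * g ^ (-i) =
      (g ^ i * x * g ^ (-i)) ^ e * (g ^ i * y * g ^ (-i)) := by
    intro i e x y
    have : (g ^ i * x * g ^ (-i)) ^ e = g ^ i * x ^ e * g ^ (-i) := by
      rw [zpow_neg, conj_zpow]
    rw [this]; group
  refine ⟨hPne, ⟨?_, ?_, ?_, ?_⟩, ?_⟩
  · intro i x y hx hx1 hy
    rw [t1, tc]
    exact (hn0 _ ⟨(t0 i x).1 hx, (t1 i x).1 hx1⟩ _ ((t0 i y).1 hy)).2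
  · intro i x y hx hx1 hy
    rw [t0, tc]
    exact (hn1 _ ⟨(t0 i x).1 hx, (t1 i x).1 hx1⟩ _ ((t1 i y).1 hy)).1
  · intro i x₀ y hx₀ hx₀' hy
    obtain ⟨e, he⟩ := hpr0 _ ((t0 i x₀).1 hx₀) (fun h => hx₀' ((t1 i x₀).2 h.2)) _
      ((t0 i y).1 hy)
    refine ⟨e, ?_⟩
    rw [t1, tp]
    exact he.2
  · intro i x₀ y hx₀ hx₀' hy
    obtain ⟨e, he⟩ := hpl0 _ ((t1 i x₀).1 hx₀) (fun h => hx₀' ((t0 i x₀).2 h.1)) _
      ((t1 i y).1 hy)
    refine ⟨e, ?_⟩
    rw [t0, tp]
    exact he.1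
  · intro i y hy
    rw [t1]
    have := (hpow0 _ ((t0 i y).1 hy)).2
    have h2 : (g ^ i * y * g ^ (-i)) ^ p = g ^ i * y ^ p * g ^ (-i) := by
      rw [zpow_neg, conj_pow]
    rwa [h2] at this

end first

section windows

variable {G : Type*} [Group G]

/-- The window `V(l,m) = ⋂_{l ≤ i ≤ m} Q_i`. -/
def Vw (P : Subgroup G) (g : G) (l m : ℤ) : Subgroup G :=
  ⨅ i : {i : ℤ // l ≤ i ∧ i ≤ m}, Qz P g i

theorem mem_Vw {P : Subgroup G} {g : G} {l m : ℤ} {x : G} :
    x ∈ Vw P g l m ↔ ∀ i, l ≤ i → i ≤ m → x ∈ Qz P g i := by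
  unfold Vw
  rw [Subgroup.mem_iInf]
  constructor
  · intro h i h1 h2; exact h ⟨i, h1, h2⟩
  · intro h i; exact h i.1 i.2.1 i.2.2

theorem Vw_zero_zero (P : Subgroup G) (g : G) : Vw P g 0 0 = P := by
  ext x
  rw [mem_Vw]
  constructor
  · intro h; have := h 0 le_rfl le_rfl; rwa [Qz_zero] at this
  · intro h i h1 h2
    have : i = 0 := le_antisymm h2 h1
    rw [this, Qz_zero]; exact h

theorem mem_normalizer_of_finite [Finite G] (D : Subgroup G) (y : G)
    (h : ∀ x ∈ D, y * x * y⁻¹ ∈ D) : y ∈ Subgroup.normalizer (D : Set G) := by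
  rw [Subgroup.mem_normalizer_iff]
  intro x
  constructor
  · exact h x
  · intro hx
    have := conj_closed D y h _ hx
    have h2 : y⁻¹ * (y * x * y⁻¹) * y = x := by group
    rwa [h2] at this

theorem key_lemma [Finite G] {P : Subgroup G} {g : G} (hls : LS P g)
    (h1 : ∀ D : Subgroup G, D ≤ P → (∀ x ∈ D, ∀ y ∈ P, y * x * y⁻¹ ∈ D) →
      (∀ x ∈ D, g * x * g⁻¹ ∈ D) → D = ⊥)
    (s : ℕ) (hstab : ∀ x ∈ Vw P g 0 s, x ∈ Qz P g (s + 1))
    (hmin : ∀ k : ℕ, k < s → ∃ x ∈ Vw P g 0 k, x ∉ Qz P g (k + 1)) :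
    Vw P g 0 s = ⊥ := by
  obtain ⟨D, hD⟩ : ∃ D, D = Vw P g 0 s := ⟨_, rfl⟩
  have hmemD : ∀ x, x ∈ D ↔ ∀ i : ℤ, 0 ≤ i → i ≤ s → x ∈ Qz P g i := by
    intro x; rw [hD]; exact mem_Vw
  have hDP : D ≤ P := by
    intro x hx
    have := (hmemD x).1 hx 0 le_rfl (by positivity)
    rwa [Qz_zero] at this
  have hDg : ∀ x ∈ D, g * x * g⁻¹ ∈ D := by
    intro x hx
    rw [hmemD]
    intro i hi0 his
    have h1 : x ∈ Qz P g (i + 1) := by
      by_cases h : i + 1 ≤ s
      · exact (hmemD x).1 hx (i + 1) (by omega) h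
      · have : i = s := by omega
        rw [this]; exact hstab x (hD ▸ hx)
    have h2 := (mem_Qz_add i 1 x).1 h1
    simpa using h2
  have hDg' := conj_closed D g hDg
  have hDz : ∀ (k : ℤ) (x : G), x ∈ D → g ^ k * x * g ^ (-k) ∈ D := by
    intro k
    induction k using Int.induction_on with
    | zero => intro x hx; simpa using hx
    | succ k ih =>
      intro x hx
      have h1 := hDg _ (ih x hx)
      have h2 : g ^ ((k : ℤ) + 1) * x * g ^ (-((k : ℤ) + 1)) =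
          g * (g ^ (k : ℤ) * x * g ^ (-(k : ℤ))) * g⁻¹ := by group
      rw [h2]; exact h1
    | pred k ih =>
      intro x hx
      have h1 := hDg' _ (ih x hx)
      have h2 : g ^ (-(k : ℤ) - 1) * x * g ^ (-(-(k : ℤ) - 1)) =
          g⁻¹ * (g ^ (-(k : ℤ)) * x * g ^ (-(-(k : ℤ)))) * g := by group
      rw [h2]; exact h1
  have hDQ : ∀ (i : ℤ) (x : G), x ∈ D → x ∈ Qz P g i := by
    intro i x hx
    rw [mem_Qz]
    exact hDP (hDz i x hx)
  have hVD : ∀ (i : ℤ) (x : G), x ∈ Vw P g i (i + s) → x ∈ D := by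
    intro i x hx
    have h1 : g ^ i * x * g ^ (-i) ∈ D := by
      rw [hmemD]
      intro j hj0 hjs
      have := mem_Vw.1 hx (j + i) (by omega) (by omega)
      exact (mem_Qz_add j i x).1 this
    have h2 := hDz (-i) _ h1
    have h3 : g ^ (-i) * (g ^ i * x * g ^ (-i)) * g ^ (-(-i)) = x := by group
    rwa [h3] at h2
  have claim : ∀ (d m : ℕ), m + d = s → ∀ i : ℤ,
      Vw P g i (i + m) ≤ Subgroup.normalizer (D : Set G) := by
    intro d
    induction d with
    | zero =>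
      intro m hm i y hy
      have : m = s := by omega
      subst this
      exact Subgroup.le_normalizer (hVD i y hy)
    | succ d ih =>
      intro m hm i y hy
      have ih' := ih (m + 1) (by omega)
      by_cases hd : d = 0
      · -- `m + 1 = s`
        apply mem_normalizer_of_finite
        intro x hx
        apply hVD i
        rw [mem_Vw]
        intro j hj1 hj2
        by_cases hj : j ≤ i + m
        · exact Subgroup.mul_mem _ (Subgroup.mul_mem _ (mem_Vw.1 hy j hj1 hj) (hDQ j x hx))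
            (Subgroup.inv_mem _ (mem_Vw.1 hy j hj1 hj))
        · have hj' : j = (i + m) + 1 := by omega
          rw [hj']
          exact hls.nr (i + m) x y (hDQ _ x hx) (hDQ _ x hx)
            (mem_Vw.1 hy (i + m) (by omega) le_rfl)
      · -- `m + 1 < s`
        obtain ⟨x₁, hx₁, hx₁'⟩ := hmin (m + 1) (by omega)
        have hx₀ : g ^ (-(i - 1)) * x₁ * g ^ (i - 1) ∈
            Vw P g (i - 1) ((i - 1) + ((m + 1 : ℕ) : ℤ)) := by
          rw [mem_Vw]
          intro j hj1 hj2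
          have : j = (j - (i - 1)) + (i - 1) := by ring
          rw [this, sh_mem_Qz]
          exact mem_Vw.1 hx₁ _ (by omega) (by omega)
        have hx₀' : g ^ (-(i - 1)) * x₁ * g ^ (i - 1) ∉ Qz P g (i + m + 1) := by
          have : i + m + 1 = (((m + 1 : ℕ) : ℤ) + 1) + (i - 1) := by push_cast; ring
          rw [this, sh_mem_Qz]
          exact hx₁'
        have hn0 := ih' (i - 1) hx₀
        obtain ⟨e, he⟩ := hls.pr (i + m) _ y (mem_Vw.1 hx₀ (i + m) (by omega) (by omega)) hx₀'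
          (mem_Vw.1 hy (i + m) (by omega) le_rfl)
        have hh : (g ^ (-(i - 1)) * x₁ * g ^ (i - 1)) ^ e * y ∈
            Vw P g i (i + ((m + 1 : ℕ) : ℤ)) := by
          rw [mem_Vw]
          intro j hj1 hj2
          by_cases hj : j ≤ i + m
          · exact Subgroup.mul_mem _ (Subgroup.zpow_mem _
              (mem_Vw.1 hx₀ j (by omega) (by omega)) e) (mem_Vw.1 hy j hj1 hj)
          · have hj' : j = i + m + 1 := by omega
            rw [hj']; exact he
        have hn1 := ih' i hh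
        have hy' : y = ((g ^ (-(i - 1)) * x₁ * g ^ (i - 1)) ^ e)⁻¹ *
            ((g ^ (-(i - 1)) * x₁ * g ^ (i - 1)) ^ e * y) := by group
        rw [hy']
        exact Subgroup.mul_mem _ (Subgroup.inv_mem _ (Subgroup.zpow_mem _ hn0 e)) hn1
  have hPn : P ≤ Subgroup.normalizer (D : Set G) := by
    have := claim s 0 (by omega) 0
    simpa [Vw_zero_zero] using this
  rw [← hD]
  refine h1 D hDP ?_ hDg
  intro x hx y hy
  exact (Subgroup.mem_normalizer_iff.1 (hPn hy) x).1 hx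

theorem exists_T [Finite G] {P : Subgroup G} {g : G} (hls : LS P g)
    (h1 : ∀ D : Subgroup G, D ≤ P → (∀ x ∈ D, ∀ y ∈ P, y * x * y⁻¹ ∈ D) →
      (∀ x ∈ D, g * x * g⁻¹ ∈ D) → D = ⊥) :
    ∃ T : ℕ, Vw P g 0 T = ⊥ ∧ ∀ k : ℕ, k < T → ∃ x ∈ Vw P g 0 k, x ∉ Qz P g (k + 1) := by
  classical
  have hex : ∃ s : ℕ, ∀ x ∈ Vw P g 0 s, x ∈ Qz P g (s + 1) := by
    by_contra hcon
    push Not at hcon
    obtain ⟨n, hn⟩ := WellFounded.not_rel_apply_succ
      (r := (· < · : Subgroup G → Subgroup G → Prop)) (fun k : ℕ => Vw P g 0 k)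
    apply hn
    rw [SetLike.lt_iff_le_and_exists]
    refine ⟨?_, ?_⟩
    · intro x hx
      rw [mem_Vw] at hx ⊢
      intro i h1 h2
      exact hx i h1 (by push_cast; omega)
    · obtain ⟨x, hx, hx'⟩ := hcon n
      refine ⟨x, hx, fun h => hx' ?_⟩
      exact mem_Vw.1 h (n + 1) (by positivity) (by push_cast; omega)
  have hmin : ∀ k : ℕ, k < Nat.find hex → ∃ x ∈ Vw P g 0 k, x ∉ Qz P g (k + 1) := by
    intro k hk
    have := Nat.find_min hex hk
    push Not at this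
    exact this
  exact ⟨Nat.find hex, key_lemma hls h1 _ (Nat.find_spec hex) hmin, hmin⟩

theorem card_step [Finite G] {P : Subgroup G} {g : G} {p : ℕ} (hp : p.Prime) (hls : LS P g)
    (hpw : ∀ (i : ℤ) (y : G), y ∈ Qz P g i → y ^ p ∈ Qz P g (i + 1))
    (k : ℕ) (x₀ : G) (hx₀ : x₀ ∈ Vw P g 0 k) (hx₀' : x₀ ∉ Qz P g (k + 1)) :
    Nat.card (Vw P g 0 k) = Nat.card (Vw P g 0 ((k + 1 : ℕ) : ℤ)) * p := by
  have hmemH : ∀ x, x ∈ Vw P g 0 ((k + 1 : ℕ) : ℤ) ↔ x ∈ Vw P g 0 k ∧ x ∈ Qz P g (k + 1) := by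
    intro x
    constructor
    · intro h
      refine ⟨mem_Vw.2 (fun i h1 h2 => mem_Vw.1 h i h1 (by push_cast; omega)), ?_⟩
      exact mem_Vw.1 h (k + 1) (by positivity) (by push_cast; omega)
    · rintro ⟨h, h'⟩
      rw [mem_Vw]
      intro i h1 h2
      by_cases hi : i ≤ k
      · exact mem_Vw.1 h i h1 hi
      · have : i = k + 1 := by push_cast at h2; omega
        rw [this]; exact h'
  have hHK : Vw P g 0 ((k + 1 : ℕ) : ℤ) ≤ Vw P g 0 k := fun x hx => ((hmemH x).1 hx).1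
  have hk : ∀ y ∈ Vw P g 0 k, y ∈ Qz P g k := fun y hy => mem_Vw.1 hy k (by positivity) le_rfl
  have hnorm : ((Vw P g 0 ((k + 1 : ℕ) : ℤ)).subgroupOf (Vw P g 0 k)).Normal := by
    constructor
    intro a ha b
    rw [Subgroup.mem_subgroupOf] at ha ⊢
    rw [hmemH] at ha ⊢
    refine ⟨(b * a * b⁻¹).2, ?_⟩
    exact hls.nr k a.1 b.1 (hk _ a.2) ha.2 (hk _ b.2)
  have hall : ∀ q : ↥(Vw P g 0 k) ⧸ (Vw P g 0 ((k + 1 : ℕ) : ℤ)).subgroupOf (Vw P g 0 k),
      q ∈ Subgroup.zpowers ((⟨x₀, hx₀⟩ : ↥(Vw P g 0 k)) :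
        ↥(Vw P g 0 k) ⧸ (Vw P g 0 ((k + 1 : ℕ) : ℤ)).subgroupOf (Vw P g 0 k)) := by
    intro q
    induction q using QuotientGroup.induction_on with
    | H y =>
      obtain ⟨e, he⟩ := hls.pr k x₀ y.1 (hk _ hx₀) hx₀' (hk _ y.2)
      rw [Subgroup.mem_zpowers_iff]
      refine ⟨-e, ?_⟩
      have h1 : (((⟨x₀, hx₀⟩ : ↥(Vw P g 0 k)) ^ e * y : ↥(Vw P g 0 k)) :
          ↥(Vw P g 0 k) ⧸ (Vw P g 0 ((k + 1 : ℕ) : ℤ)).subgroupOf (Vw P g 0 k)) = 1 := by
        rw [QuotientGroup.eq_one_iff, Subgroup.mem_subgroupOf, hmemH]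
        exact ⟨(⟨x₀, hx₀⟩ ^ e * y : ↥(Vw P g 0 k)).2, by simpa using he⟩
      rw [QuotientGroup.mk_mul, QuotientGroup.mk_zpow] at h1
      rw [zpow_neg]
      exact inv_eq_of_mul_eq_one_right h1
  have hord := orderOf_eq_card_of_forall_mem_zpowers hall
  have hp' : orderOf ((⟨x₀, hx₀⟩ : ↥(Vw P g 0 k)) :
      ↥(Vw P g 0 k) ⧸ (Vw P g 0 ((k + 1 : ℕ) : ℤ)).subgroupOf (Vw P g 0 k)) = p := by
    have h1 : ((⟨x₀, hx₀⟩ : ↥(Vw P g 0 k)) :
        ↥(Vw P g 0 k) ⧸ (Vw P g 0 ((k + 1 : ℕ) : ℤ)).subgroupOf (Vw P g 0 k)) ^ p = 1 := by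
      rw [← QuotientGroup.mk_pow, QuotientGroup.eq_one_iff, Subgroup.mem_subgroupOf, hmemH]
      exact ⟨(⟨x₀, hx₀⟩ ^ p : ↥(Vw P g 0 k)).2, by simpa using hpw k x₀ (hk _ hx₀)⟩
    rcases (Nat.dvd_prime hp).1 (orderOf_dvd_of_pow_eq_one h1) with h | h
    · exfalso
      rw [orderOf_eq_one_iff, QuotientGroup.eq_one_iff, Subgroup.mem_subgroupOf, hmemH] at h
      exact hx₀' h.2
    · exact h
  have h3 := card_mul_relIndex' hHK
  rw [← h3]
  congr 1
  show ((Vw P g 0 ((k + 1 : ℕ) : ℤ)).subgroupOf (Vw P g 0 k)).index = p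
  rw [Subgroup.index_eq_card, ← hord, hp']

theorem card_P [Finite G] {P : Subgroup G} {g : G} {p : ℕ} (hp : p.Prime) (hls : LS P g)
    (hpw : ∀ (i : ℤ) (y : G), y ∈ Qz P g i → y ^ p ∈ Qz P g (i + 1))
    (T : ℕ) (hmin : ∀ k : ℕ, k < T → ∃ x ∈ Vw P g 0 k, x ∉ Qz P g (k + 1)) :
    ∀ k : ℕ, k ≤ T → Nat.card P = Nat.card (Vw P g 0 k) * p ^ k := by
  intro k
  induction k with
  | zero =>
    intro _
    simp [Vw_zero_zero]
  | succ k ih =>
    intro hk
    obtain ⟨x₀, hx₀, hx₀'⟩ := hmin k (by omega)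
    rw [ih (by omega), card_step hp hls hpw k x₀ hx₀ hx₀', pow_succ]
    ring

end windows

section string

variable {G : Type*} [Group G]

/-- The string structure on the chain of conjugates. -/
structure Str (P : Subgroup G) (g : G) (p : ℕ) (T : ℕ) (z : G) : Prop where
  ls : LS P g
  triv : ∀ (l : ℤ) (x : G), (∀ i : ℤ, l ≤ i → i ≤ l + T → x ∈ Qz P g i) → x = 1
  hz : ∀ i : ℤ, 0 ≤ i → i + 1 ≤ T → z ∈ Qz P g i
  hz1 : z ≠ 1
  hzp : z ^ p = 1
  hp : p.Prime
  hT : 1 ≤ T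

/-- the string elements -/
def zz (g z : G) (j : ℤ) : G := g ^ (-j) * z * g ^ j

theorem zz_shift (g z : G) (j d : ℤ) : zz g z (j + d) = g ^ (-d) * zz g z j * (g ^ (-d))⁻¹ := by
  unfold zz; group

theorem commute_shift (g z : G) (i j d : ℤ) :
    Commute (zz g z (i + d)) (zz g z (j + d)) ↔ Commute (zz g z i) (zz g z j) := by
  rw [zz_shift, zz_shift]
  exact Commute.conj_iff _

theorem hw_lemma (x y w : G) (h1 : Commute w y) (h2 : Commute y (w⁻¹ * x * w * x⁻¹)) :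
    Commute w (x⁻¹ * y⁻¹ * x * y) := by
  have h4 : Commute (w * (w⁻¹ * x * w * x⁻¹)) y := h1.mul_left h2.symm
  have e1 : w * (w⁻¹ * x * w * x⁻¹) = x * w * x⁻¹ := by group
  rw [e1] at h4
  have e2 : y = x * (x⁻¹ * y * x) * x⁻¹ := by group
  rw [e2] at h4
  have h5 : Commute w (x⁻¹ * y * x) := (Commute.conj_iff x).1 h4
  have e3 : x⁻¹ * y⁻¹ * x = (x⁻¹ * y * x)⁻¹ := by group
  have h6 : Commute w (x⁻¹ * y⁻¹ * x) := by rw [e3]; exact h5.inv_right
  exact h6.mul_right h1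

variable {P : Subgroup G} {g : G} {p T : ℕ} {z : G}

theorem zz_mem (h : Str P g p T z) (j i : ℤ) (h1 : j ≤ i) (h2 : i + 1 ≤ j + T) :
    zz g z j ∈ Qz P g i := by
  have : i = (i - j) + j := by ring
  rw [this]
  unfold zz
  rw [sh_mem_Qz]
  exact h.hz (i - j) (by omega) (by omega)

theorem zz_ne_one (h : Str P g p T z) (j : ℤ) : zz g z j ≠ 1 := by
  intro hj
  apply h.hz1
  unfold zz at hj
  have : z = g ^ j * (g ^ (-j) * z * g ^ j) * g ^ (-j) := by group
  rw [this, hj]; group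

theorem zz_not_mem_right (h : Str P g p T z) (j : ℤ) : zz g z j ∉ Qz P g (j + T) := by
  intro hj
  apply zz_ne_one h j
  apply h.triv j
  intro i h1 h2
  by_cases hi : i = j + T
  · rw [hi]; exact hj
  · exact zz_mem h j i h1 (by omega)

theorem zz_not_mem_left (h : Str P g p T z) (j : ℤ) : zz g z j ∉ Qz P g (j - 1) := by
  intro hj
  apply zz_ne_one h j
  apply h.triv (j - 1)
  intro i h1 h2
  by_cases hi : i = j - 1
  · rw [hi]; exact hj
  · exact zz_mem h j i (by omega) (by omega)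

theorem zz_pow (h : Str P g p T z) (j : ℤ) : zz g z j ^ p = 1 := by
  unfold zz
  have : g ^ j = (g ^ (-j))⁻¹ := by rw [zpow_neg, inv_inv]
  rw [this, conj_pow, h.hzp]; group

/-- Generation of windows by string elements, in centralizer form. -/
theorem gen (h : Str P g p T z) : ∀ (d : ℕ) (l m : ℤ), m + d = l + T → d ≤ T → ∀ (y w : G),
    (∀ i : ℤ, l ≤ i → i ≤ m → y ∈ Qz P g i) →
    (∀ j : ℤ, m - T + 1 ≤ j → j ≤ l → Commute w (zz g z j)) → Commute w y := by
  intro d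
  induction d with
  | zero =>
    intro l m hm _ y w hy _
    have : y = 1 := h.triv l y (fun i h1 h2 => hy i h1 (by omega))
    rw [this]; exact Commute.one_right w
  | succ d ih =>
    intro l m hm hd y w hy hw
    have hx₀ : zz g z (l - d) ∈ Qz P g m := zz_mem h (l - d) m (by omega) (by omega)
    have hx₀' : zz g z (l - d) ∉ Qz P g (m + 1) := by
      have : m + 1 = (l - d) + T := by push_cast at hm; omega
      rw [this]; exact zz_not_mem_right h (l - d)
    obtain ⟨e, he⟩ := h.ls.pr m (zz g z (l - d)) y hx₀ hx₀' (hy m (by omega) le_rfl)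
    have h1 : Commute w (zz g z (l - d) ^ e * y) := by
      apply ih l (m + 1) (by push_cast at hm ⊢; omega) (by omega)
      · intro i hi1 hi2
        by_cases hi : i ≤ m
        · exact Subgroup.mul_mem _ (Subgroup.zpow_mem _
            (zz_mem h (l - d) i (by omega) (by push_cast at hm; omega)) e) (hy i hi1 hi)
        · have : i = m + 1 := by omega
          rw [this]; exact he
      · intro j hj1 hj2
        exact hw j (by omega) hj2
    have h2 : Commute w (zz g z (l - d)) := hw (l - d) (by push_cast at hm; omega) (by omega)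
    have h3 : y = (zz g z (l - d) ^ e)⁻¹ * (zz g z (l - d) ^ e * y) := by group
    rw [h3]
    exact ((h2.zpow_right e).inv_right).mul_right h1

/-- if `w` commutes with a power `x ^ e * u`-decomposition... : from commuting with `x ^ e` to `x`. -/
theorem commute_of_zpow (hp : p.Prime) (x w : G) (hx : x ^ p = 1) (e : ℤ) (he : x ^ e ≠ 1)
    (hw : Commute w (x ^ e)) : Commute w x := by
  have hnd : ¬ (p : ℤ) ∣ e := by
    rintro ⟨k, rfl⟩
    apply he
    rw [zpow_mul, zpow_natCast, hx, one_zpow]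
  have hco : IsCoprime (p : ℤ) e :=
    ((Nat.prime_iff_prime_int.mp hp).irreducible.coprime_iff_not_dvd).2 hnd
  obtain ⟨s, t, hst⟩ := hco
  have h1 : x = (x ^ e) ^ t := by
    have h2 : x = x ^ (s * (p : ℤ) + t * e) := by rw [hst, zpow_one]
    rw [zpow_add, zpow_mul', zpow_natCast, hx, one_zpow, one_mul, zpow_mul'] at h2
    exact h2
  rw [h1]
  exact hw.zpow_right t

/-- The main inequality `2T ≤ 3c`. -/
theorem two_T_le (h : Str P g p T z) (c : ℕ) (hc1 : 1 ≤ c) (hcT : c + 1 ≤ T)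
    (hcm : ∀ i j : ℤ, (j - i).natAbs < c → Commute (zz g z i) (zz g z j))
    (hnc : ∀ i : ℤ, ¬ Commute (zz g z i) (zz g z (i + c))) : 2 * T ≤ 3 * c := by
  classical
  obtain ⟨x, hx⟩ : ∃ x, x = zz g z 0 := ⟨_, rfl⟩
  obtain ⟨y, hy⟩ : ∃ y, y = zz g z c := ⟨_, rfl⟩
  obtain ⟨u, hu⟩ : ∃ u, u = x⁻¹ * y⁻¹ * x * y := ⟨_, rfl⟩
  have hxy : ¬ Commute x y := by
    have := hnc 0
    rw [zero_add] at this
    rw [hx, hy]; exact this
  have hu1 : u ≠ 1 := by
    intro h1
    apply hxy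
    rw [hu] at h1
    have : x * y = y * x * (x⁻¹ * y⁻¹ * x * y) := by group
    rw [h1, mul_one] at this
    exact this
  have hxQ : ∀ i : ℤ, 0 ≤ i → i + 1 ≤ T → x ∈ Qz P g i := by
    intro i h1 h2; rw [hx]; exact zz_mem h 0 i h1 (by omega)
  have hyQ : ∀ i : ℤ, (c : ℤ) ≤ i → i + 1 ≤ c + T → y ∈ Qz P g i := by
    intro i h1 h2; rw [hy]; exact zz_mem h c i h1 h2
  have huQ : ∀ i : ℤ, (c : ℤ) - 1 ≤ i → i ≤ T → u ∈ Qz P g i := by
    intro i h1 h2
    by_cases hi1 : i = c - 1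
    · have e1 : u = x⁻¹ * (y⁻¹ * x * y⁻¹⁻¹) := by rw [hu]; group
      rw [e1, hi1]
      refine Subgroup.mul_mem _ (Subgroup.inv_mem _ (hxQ _ (by omega) (by omega))) ?_
      refine h.ls.nl ((c : ℤ) - 1) x y⁻¹ (hxQ _ (by omega) (by omega))
        (hxQ _ (by omega) (by omega)) (Subgroup.inv_mem _ (hyQ _ (by omega) (by omega)))
    · by_cases hi2 : i = T
      · have e1 : u = (x⁻¹ * y⁻¹ * x⁻¹⁻¹) * y := by rw [hu]; group
        rw [e1, hi2]
        refine Subgroup.mul_mem _ ?_ (hyQ _ (by omega) (by omega))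
        have := h.ls.nr ((T : ℤ) - 1) y⁻¹ x⁻¹
          (Subgroup.inv_mem _ (hyQ _ (by omega) (by omega)))
          (Subgroup.inv_mem _ (hyQ _ (by omega) (by omega)))
          (Subgroup.inv_mem _ (hxQ _ (by omega) (by omega)))
        have e2 : (T : ℤ) - 1 + 1 = T := by ring
        rwa [e2] at this
      · rw [hu]
        have hxi := hxQ i (by omega) (by omega)
        have hyi := hyQ i (by omega) (by omega)
        exact Subgroup.mul_mem _ (Subgroup.mul_mem _ (Subgroup.mul_mem _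
          (Subgroup.inv_mem _ hxi) (Subgroup.inv_mem _ hyi)) hxi) hyi
  -- the right end `a`
  have hexa : ∃ a : ℕ, 1 ≤ a ∧ u ∉ Qz P g (T + a) := by
    by_contra hcon
    push Not at hcon
    apply hu1
    apply h.triv ((c : ℤ) - 1)
    intro i h1 h2
    by_cases hi : i ≤ T
    · exact huQ i h1 hi
    · have := hcon (i - T).toNat (by omega)
      have e : (T : ℤ) + ((i - T).toNat : ℤ) = i := by omega
      rwa [e] at this
  obtain ⟨a, ha⟩ : ∃ a, a = Nat.find hexa := ⟨_, rfl⟩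
  have ha1 : 1 ≤ a := by rw [ha]; exact (Nat.find_spec hexa).1
  have hau : u ∉ Qz P g (T + a) := by rw [ha]; exact (Nat.find_spec hexa).2
  have hamin : ∀ a' : ℕ, a' < a → 1 ≤ a' → u ∈ Qz P g (T + a') := by
    intro a' h1 h2
    have := Nat.find_min hexa (ha ▸ h1)
    push Not at this
    exact this h2
  have hac : a + 1 ≤ c := by
    by_contra hcon
    apply hu1
    apply h.triv ((c : ℤ) - 1)
    intro i h1 h2
    by_cases hi : i ≤ T
    · exact huQ i h1 hi
    · have := hamin (i - T).toNat (by omega) (by omega)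
      have e : (T : ℤ) + ((i - T).toNat : ℤ) = i := by omega
      rwa [e] at this
  have hua : ∀ i : ℤ, (c : ℤ) - 1 ≤ i → i + 1 ≤ T + a → u ∈ Qz P g i := by
    intro i h1 h2
    by_cases hi : i ≤ T
    · exact huQ i h1 hi
    · have := hamin (i - T).toNat (by omega) (by omega)
      have e : (T : ℤ) + ((i - T).toNat : ℤ) = i := by omega
      rwa [e] at this
  -- the left end `b = c - d`
  have hexd : ∃ d : ℕ, 1 ≤ d ∧ u ∉ Qz P g ((c : ℤ) - 1 - d) := by
    by_contra hcon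
    push Not at hcon
    apply hu1
    apply h.triv 0
    intro i h1 h2
    by_cases hi : (c : ℤ) - 1 ≤ i
    · exact huQ i hi (by omega)
    · have := hcon ((c : ℤ) - 1 - i).toNat (by omega)
      have e : (c : ℤ) - 1 - (((c : ℤ) - 1 - i).toNat : ℤ) = i := by omega
      rwa [e] at this
  obtain ⟨d, hd⟩ : ∃ d, d = Nat.find hexd := ⟨_, rfl⟩
  have hd1 : 1 ≤ d := by rw [hd]; exact (Nat.find_spec hexd).1
  have hdu : u ∉ Qz P g ((c : ℤ) - 1 - d) := by rw [hd]; exact (Nat.find_spec hexd).2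
  have hdmin : ∀ d' : ℕ, d' < d → 1 ≤ d' → u ∈ Qz P g ((c : ℤ) - 1 - d') := by
    intro d' h1 h2
    have := Nat.find_min hexd (hd ▸ h1)
    push Not at this
    exact this h2
  have hdc : d + 1 ≤ c := by
    by_contra hcon
    apply hu1
    apply h.triv 0
    intro i h1 h2
    by_cases hi : (c : ℤ) - 1 ≤ i
    · exact huQ i hi (by omega)
    · have := hdmin ((c : ℤ) - 1 - i).toNat (by omega) (by omega)
      have e : (c : ℤ) - 1 - (((c : ℤ) - 1 - i).toNat : ℤ) = i := by omega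
      rwa [e] at this
  -- `b = c - d`
  have hub : ∀ i : ℤ, (c : ℤ) - d ≤ i → i + 1 ≤ T + a → u ∈ Qz P g i := by
    intro i h1 h2
    by_cases hi : (c : ℤ) - 1 ≤ i
    · exact hua i hi h2
    · have := hdmin ((c : ℤ) - 1 - i).toNat (by omega) (by omega)
      have e : (c : ℤ) - 1 - (((c : ℤ) - 1 - i).toNat : ℤ) = i := by omega
      rwa [e] at this
  have hab : (a : ℤ) ≤ c - d := by
    by_contra hcon
    apply hu1
    apply h.triv ((c : ℤ) - d)
    intro i h1 h2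
    exact hub i h1 (by omega)
  -- Claim 1
  have claim1 : ¬ Commute (zz g z (a + c)) u := by
    intro hcomm
    have hza : zz g z a ∈ Qz P g ((T : ℤ) + a - 1) := zz_mem h a _ (by omega) (by omega)
    have hza' : zz g z a ∉ Qz P g ((T : ℤ) + a - 1 + 1) := by
      have e : (T : ℤ) + a - 1 + 1 = a + T := by ring
      rw [e]; exact zz_not_mem_right h a
    obtain ⟨e, he⟩ := h.ls.pr ((T : ℤ) + a - 1) (zz g z a) u hza hza'
      (hua _ (by omega) (by omega))
    have e1 : (T : ℤ) + a - 1 + 1 = T + a := by ring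
    rw [e1] at he
    have hv : Commute (zz g z (a + c)) (zz g z a ^ e * u) := by
      apply gen h (c - 1 - a) ((c : ℤ) - 1) ((T : ℤ) + a) (by omega) (by omega)
      · intro i hi1 hi2
        by_cases hi : i = T + a
        · rw [hi]; exact he
        · exact Subgroup.mul_mem _ (Subgroup.zpow_mem _ (zz_mem h a i (by omega) (by omega)) e)
            (hua i hi1 (by omega))
      · intro j hj1 hj2
        exact hcm _ _ (by omega)
    have hze : Commute (zz g z (a + c)) (zz g z a ^ e) := by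
      have e2 : zz g z a ^ e = (zz g z a ^ e * u) * u⁻¹ := by group
      rw [e2]; exact hv.mul_right hcomm.inv_right
    have hne : zz g z a ^ e ≠ 1 := by
      intro h1
      rw [h1, one_mul] at he
      exact hau he
    have := commute_of_zpow h.hp (zz g z a) (zz g z (a + c)) (zz_pow h a) e hne hze
    exact hnc a this.symm
  -- Claim 2
  have claim2 : (a : ℤ) + c + 1 ≤ T → Commute (zz g z (a + c)) u := by
    intro hT
    obtain ⟨w, hw⟩ : ∃ w, w = zz g z (a + c) := ⟨_, rfl⟩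
    rw [← hw]
    have hwQ : ∀ i : ℤ, (a : ℤ) + c ≤ i → i + 1 ≤ a + c + T → w ∈ Qz P g i := by
      intro i h1 h2; rw [hw]; exact zz_mem h _ i h1 h2
    have hwy : Commute w y := by
      rw [hw, hy]; exact hcm _ _ (by omega)
    have hk : ∀ i : ℤ, (a : ℤ) + c - 1 ≤ i → i ≤ T → w⁻¹ * x * w * x⁻¹ ∈ Qz P g i := by
      intro i h1 h2
      by_cases hi1 : i = a + c - 1
      · have e1 : w⁻¹ * x * w * x⁻¹ = (w⁻¹ * x * w⁻¹⁻¹) * x⁻¹ := by group
        rw [e1, hi1]
        refine Subgroup.mul_mem _ ?_ (Subgroup.inv_mem _ (hxQ _ (by omega) (by omega)))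
        exact h.ls.nl ((a : ℤ) + c - 1) x w⁻¹ (hxQ _ (by omega) (by omega))
          (hxQ _ (by omega) (by omega)) (Subgroup.inv_mem _ (hwQ _ (by omega) (by omega)))
      · by_cases hi2 : i = T
        · have e1 : w⁻¹ * x * w * x⁻¹ = w⁻¹ * (x * w * x⁻¹) := by group
          rw [e1, hi2]
          refine Subgroup.mul_mem _ (Subgroup.inv_mem _ (hwQ _ (by omega) (by omega))) ?_
          have := h.ls.nr ((T : ℤ) - 1) w x (hwQ _ (by omega) (by omega))
            (hwQ _ (by omega) (by omega)) (hxQ _ (by omega) (by omega))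
          have e2 : (T : ℤ) - 1 + 1 = T := by ring
          rwa [e2] at this
        · have hxi := hxQ i (by omega) (by omega)
          have hwi := hwQ i (by omega) (by omega)
          exact Subgroup.mul_mem _ (Subgroup.mul_mem _ (Subgroup.mul_mem _
            (Subgroup.inv_mem _ hwi) hxi) hwi) (Subgroup.inv_mem _ hxi)
    have hyk : Commute y (w⁻¹ * x * w * x⁻¹) := by
      apply gen h (a + c - 1) ((a : ℤ) + c - 1) (T : ℤ) (by omega) (by omega) _ _ hk
      intro j hj1 hj2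
      rw [hy]; exact hcm _ _ (by omega)
    rw [hu]
    exact hw_lemma x y w hwy hyk
  have hT1 : (T : ℤ) ≤ a + c := by
    by_contra hcon
    exact claim1 (claim2 (by omega))
  -- Claim 1''
  have claim3 : ¬ Commute (zz g z ((c : ℤ) - d - c)) u := by
    intro hcomm
    have hzb : zz g z ((c : ℤ) - d) ∈ Qz P g ((c : ℤ) - d - 1 + 1) :=
      zz_mem h _ _ (by omega) (by omega)
    have hzb' : zz g z ((c : ℤ) - d) ∉ Qz P g ((c : ℤ) - d - 1) := zz_not_mem_left h _
    obtain ⟨e, he⟩ := h.ls.pl ((c : ℤ) - d - 1) (zz g z ((c : ℤ) - d)) u hzb hzb'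
      (hub _ (by omega) (by omega))
    have hv : Commute (zz g z ((c : ℤ) - d - c)) (zz g z ((c : ℤ) - d) ^ e * u) := by
      apply gen h (c - d - 1) ((c : ℤ) - d - 1) (T : ℤ) (by omega) (by omega)
      · intro i hi1 hi2
        by_cases hi : i = (c : ℤ) - d - 1
        · rw [hi]; exact he
        · exact Subgroup.mul_mem _ (Subgroup.zpow_mem _ (zz_mem h _ i (by omega) (by omega)) e)
            (hub i (by omega) (by omega))
      · intro j hj1 hj2
        exact hcm _ _ (by omega)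
    have hze : Commute (zz g z ((c : ℤ) - d - c)) (zz g z ((c : ℤ) - d) ^ e) := by
      have e2 : zz g z ((c : ℤ) - d) ^ e = (zz g z ((c : ℤ) - d) ^ e * u) * u⁻¹ := by group
      rw [e2]; exact hv.mul_right hcomm.inv_right
    have hne : zz g z ((c : ℤ) - d) ^ e ≠ 1 := by
      intro h1
      rw [h1, one_mul] at he
      have e3 : (c : ℤ) - d - 1 = (c : ℤ) - 1 - d := by ring
      rw [e3] at he
      exact hdu he
    have := commute_of_zpow h.hp _ _ (zz_pow h _) e hne hze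
    have h5 := hnc ((c : ℤ) - d - c)
    have e4 : (c : ℤ) - d - c + c = (c : ℤ) - d := by ring
    rw [e4] at h5
    exact h5 this
  -- Claim 2''
  have claim4 : 2 * (c : ℤ) - ((c : ℤ) - d) + 1 ≤ T → Commute (zz g z ((c : ℤ) - d - c)) u := by
    intro hT
    obtain ⟨w, hw⟩ : ∃ w, w = zz g z ((c : ℤ) - d - c) := ⟨_, rfl⟩
    rw [← hw]
    have hwQ : ∀ i : ℤ, (c : ℤ) - d - c ≤ i → i + 1 ≤ (c : ℤ) - d - c + T → w ∈ Qz P g i := by
      intro i h1 h2; rw [hw]; exact zz_mem h _ i h1 h2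
    have hwx : Commute w x := by
      rw [hw, hx]; exact hcm _ _ (by omega)
    have hk : ∀ i : ℤ, (c : ℤ) - 1 ≤ i → i ≤ (c : ℤ) - d - c + T →
        w⁻¹ * y * w * y⁻¹ ∈ Qz P g i := by
      intro i h1 h2
      by_cases hi1 : i = c - 1
      · have e1 : w⁻¹ * y * w * y⁻¹ = w⁻¹ * (y * w * y⁻¹) := by group
        rw [e1, hi1]
        refine Subgroup.mul_mem _ (Subgroup.inv_mem _ (hwQ _ (by omega) (by omega))) ?_
        exact h.ls.nl ((c : ℤ) - 1) w y (hwQ _ (by omega) (by omega))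
          (hwQ _ (by omega) (by omega)) (hyQ _ (by omega) (by omega))
      · by_cases hi2 : i = (c : ℤ) - d - c + T
        · have e1 : w⁻¹ * y * w * y⁻¹ = (w⁻¹ * y * w⁻¹⁻¹) * y⁻¹ := by group
          rw [e1, hi2]
          refine Subgroup.mul_mem _ ?_ (Subgroup.inv_mem _ (hyQ _ (by omega) (by omega)))
          have := h.ls.nr ((c : ℤ) - d - c + T - 1) y w⁻¹ (hyQ _ (by omega) (by omega))
            (hyQ _ (by omega) (by omega)) (Subgroup.inv_mem _ (hwQ _ (by omega) (by omega)))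
          have e2 : (c : ℤ) - d - c + T - 1 + 1 = (c : ℤ) - d - c + T := by ring
          rwa [e2] at this
        · have hyi := hyQ i (by omega) (by omega)
          have hwi := hwQ i (by omega) (by omega)
          exact Subgroup.mul_mem _ (Subgroup.mul_mem _ (Subgroup.mul_mem _
            (Subgroup.inv_mem _ hwi) hyi) hwi) (Subgroup.inv_mem _ hyi)
    have hxk : Commute x (w⁻¹ * y * w * y⁻¹) := by
      apply gen h (c + d - 1) ((c : ℤ) - 1) ((c : ℤ) - d - c + T) (by omega) (by omega) _ _ hk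
      intro j hj1 hj2
      rw [hx]; exact hcm _ _ (by omega)
    have h6 := hw_lemma y x w hwx hxk
    have e5 : u = (y⁻¹ * x⁻¹ * y * x)⁻¹ := by rw [hu]; group
    rw [e5]
    exact h6.inv_right
  have hT2 : (T : ℤ) ≤ 2 * (c : ℤ) - ((c : ℤ) - d) := by
    by_contra hcon
    exact claim3 (claim4 (by omega))
  omega

end string

/-- Let P be a subgroup of a finite group G and g an element such that P ∩ g⁻¹Pg is a normal subgroup of prime index p in g⁻¹Pg. Let n ≥ 1 and let K be the subgroup generated by P and its conjugates g⁻ⁱPgⁱ for i ≤ n. Suppose that g normalizes no non-identity normal subgroup of P and that P meets the center of K trivially. Then the order of P is pᵗ for some t with 1 ≤ t ≤ 3n and t ≠ 3n - 1. -/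
theorem result {G : Type*} [Group G] [Finite G]
    (P : Subgroup G) (g : G) (p : ℕ) (hp : p.Prime)
    (hN : ((P ⊓ MulAut.conj g⁻¹ • P).subgroupOf (MulAut.conj g⁻¹ • P)).Normal)
    (hidx : (P ⊓ MulAut.conj g⁻¹ • P).relIndex (MulAut.conj g⁻¹ • P) = p)
    (n : ℕ) (hn : 1 ≤ n) (K : Subgroup G) (hK : K = ⨆ i ∈ Finset.range (n + 1), MulAut.conj (g ^ i)⁻¹ • P)
    (h1 : ∀ Q : Subgroup G, Q ≤ P → (Q.subgroupOf P).Normal → MulAut.conj g • Q = Q → Q = ⊥)
    (h2 : P ⊓ (Subgroup.center K).map K.subtype = ⊥) :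
    ∃ t : ℕ, Nat.card P = p ^ t ∧ 1 ≤ t ∧ t ≤ 3 * n ∧ t ≠ 3 * n - 1 := by
  classical
  rw [smul_eq_Qz_one] at hN hidx
  have h1e := h1_elem P g h1
  obtain ⟨hPne, hls, hpw⟩ := ls_of_hyp P g p hp hN hidx h1e
  obtain ⟨T, hTbot, hTmin⟩ := exists_T hls h1e
  have hcard := card_P hp hls hpw T hTmin T le_rfl
  rw [hTbot] at hcard
  have hcard' : Nat.card P = p ^ T := by simpa using hcard
  have hT1 : 1 ≤ T := by
    by_contra hcon
    have hT0 : T = 0 := by omega
    subst hT0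
    apply hPne
    rw [← Vw_zero_zero P g]; exact_mod_cast hTbot
  obtain ⟨z, hz, hz'⟩ := hTmin (T - 1) (by omega)
  have hcz := card_step hp hls hpw (T - 1) z hz hz'
  have e1 : ((T - 1 + 1 : ℕ) : ℤ) = (T : ℤ) := by omega
  rw [e1, hTbot] at hcz
  have hzp : z ^ p = 1 := by
    have h3 := pow_card_eq_one' (G := ↥(Vw P g 0 ((T - 1 : ℕ) : ℤ))) (x := ⟨z, hz⟩)
    rw [hcz] at h3
    simp only [Subgroup.card_bot, one_mul] at h3
    exact congrArg Subtype.val h3
  have hz1 : z ≠ 1 := by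
    rintro rfl; exact hz' (Subgroup.one_mem _)
  have htriv : ∀ (l : ℤ) (x : G), (∀ i : ℤ, l ≤ i → i ≤ l + T → x ∈ Qz P g i) → x = 1 := by
    intro l x hx
    have h3 : g ^ l * x * g ^ (-l) ∈ Vw P g 0 T := by
      rw [mem_Vw]; intro j hj1 hj2
      exact (mem_Qz_add j l x).1 (hx (j + l) (by omega) (by omega))
    rw [hTbot, Subgroup.mem_bot] at h3
    have h4 : x = g ^ (-l) * (g ^ l * x * g ^ (-l)) * g ^ l := by group
    rw [h4, h3]; group
  have hstr : Str P g p T z :=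
    ⟨hls, htriv, fun i h1 h2 => mem_Vw.1 hz i h1 (by omega), hz1, hzp, hp, hT1⟩
  have hPK : P ≤ K := by
    rw [hK]
    have h0 : MulAut.conj (g ^ 0)⁻¹ • P = P := by simp
    calc P = MulAut.conj (g ^ 0)⁻¹ • P := h0.symm
      _ ≤ _ := le_iSup₂ (f := fun i (_ : i ∈ Finset.range (n + 1)) => MulAut.conj (g ^ i)⁻¹ • P)
        0 (Finset.mem_range.2 (by omega))
  have hcen : ∀ j : ℤ, -(T : ℤ) + 1 ≤ j → j ≤ 0 →
      (∀ i : ℤ, -(T : ℤ) + 1 ≤ i → i ≤ n → Commute (zz g z j) (zz g z i)) → False := by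
    intro j hj1 hj2 hcomm
    apply zz_ne_one hstr j
    have hjP : zz g z j ∈ P := by
      have := zz_mem hstr j 0 hj2 (by omega)
      rwa [Qz_zero] at this
    have hKc : ∀ k ∈ K, Commute (zz g z j) k := by
      have hle : K ≤ Subgroup.centralizer {zz g z j} := by
        rw [hK]
        apply iSup₂_le
        intro i hi
        rw [smul_eq_Qz]
        intro y hy
        rw [Subgroup.mem_centralizer_iff]
        intro w hw
        rw [Set.mem_singleton_iff] at hw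
        rw [hw]
        have h5 := gen hstr T (i : ℤ) (i : ℤ) (by ring) le_rfl y (zz g z j)
          (fun i' h1 h2 => by
            have : i' = i := by omega
            rw [this]; exact hy)
          (fun j' h1 h2 => hcomm j' (by omega) (by have := Finset.mem_range.1 hi; omega))
        exact h5.eq
      intro k hk
      have h6 := hle hk
      rw [Subgroup.mem_centralizer_iff] at h6
      exact h6 _ rfl
    have hmem : zz g z j ∈ P ⊓ (Subgroup.center K).map K.subtype := by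
      refine ⟨hjP, ⟨⟨zz g z j, hPK hjP⟩, ?_, rfl⟩⟩
      rw [SetLike.mem_coe, Subgroup.mem_center_iff]
      intro k
      apply Subtype.ext
      exact ((hKc k.1 k.2).eq).symm
    rw [h2, Subgroup.mem_bot] at hmem
    exact hmem
  have hexc : ∃ c : ℕ, 1 ≤ c ∧ ¬ Commute (zz g z 0) (zz g z c) := by
    by_contra hcon
    push Not at hcon
    apply hcen 0 (by omega) le_rfl
    intro i _ _
    rcases le_total 0 i with hi | hi
    · by_cases hi0 : i = 0
      · rw [hi0]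
      · have h5 := hcon i.toNat (by omega)
        rwa [Int.toNat_of_nonneg hi] at h5
    · by_cases hi0 : i = 0
      · rw [hi0]
      · have h5 := hcon (-i).toNat (by omega)
        rw [Int.toNat_of_nonneg (by omega)] at h5
        have h6 := (commute_shift g z 0 (-i) i).2 h5
        rw [zero_add, neg_add_cancel] at h6
        exact h6.symm
  obtain ⟨c, hc⟩ : ∃ c, c = Nat.find hexc := ⟨_, rfl⟩
  have hc1 : 1 ≤ c := hc ▸ (Nat.find_spec hexc).1
  have hcnc : ¬ Commute (zz g z 0) (zz g z c) := hc ▸ (Nat.find_spec hexc).2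
  have hcmin : ∀ d : ℕ, d < c → Commute (zz g z 0) (zz g z d) := by
    intro d hd
    by_cases hd0 : d = 0
    · rw [hd0, Nat.cast_zero]
    · have h5 := Nat.find_min hexc (hc ▸ hd)
      push Not at h5
      exact h5 (by omega)
  have hcm : ∀ i j : ℤ, (j - i).natAbs < c → Commute (zz g z i) (zz g z j) := by
    intro i j hij
    rcases le_total i j with h | h
    · have h4 := hcmin (j - i).toNat (by omega)
      have h5 := (commute_shift g z 0 ((j - i).toNat : ℤ) i).2 h4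
      rw [zero_add] at h5
      have e : ((j - i).toNat : ℤ) + i = j := by omega
      rwa [e] at h5
    · have h4 := hcmin (i - j).toNat (by omega)
      have h5 := (commute_shift g z 0 ((i - j).toNat : ℤ) j).2 h4
      rw [zero_add] at h5
      have e : ((i - j).toNat : ℤ) + j = i := by omega
      rw [e] at h5
      exact h5.symm
  have hnc : ∀ i : ℤ, ¬ Commute (zz g z i) (zz g z (i + c)) := by
    intro i hi
    apply hcnc
    exact (commute_shift g z 0 c i).1 (by rw [zero_add, add_comm]; exact hi)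
  refine ⟨T, hcard', hT1, ?_⟩
  by_cases hcT : c + 1 ≤ T
  · have hB := two_T_le hstr c hc1 hcT hcm hnc
    have hA : 2 * c ≤ T + n := by
      by_contra hcon
      apply hcen ((c : ℤ) - T) (by omega) (by omega)
      intro i hi1 hi2
      exact hcm _ _ (by omega)
    omega
  · have hA : c ≤ n := by
      by_contra hcon
      apply hcen 0 (by omega) le_rfl
      intro i hi1 hi2
      exact hcm _ _ (by omega)
    omega

end Cfsg.Agent.S4359
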