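import Cfsg.Statements.S4365

set_option autoImplicit false
open Cfsg

namespace Cfsg.Agent.S4365

theorem index_cent_eq_one_iff {P : Type*} [Group P] (x : P) :
    (Subgroup.centralizer ({x} : Set P)).index = 1 ↔ x ∈ Subgroup.center P := by
  rw [Subgroup.index_eq_one, Subgroup.eq_top_iff', Subgroup.mem_center_iff]
  constructor
  · intro h g; exact (Subgroup.mem_centralizer_singleton_iff.mp (h g))
  · intro h g; exact Subgroup.mem_centralizer_singleton_iff.mpr (h g)

/-- If `k u k⁻¹ = u s` with `s` central, then `kⁿ u k⁻ⁿ = u sⁿ`. -/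
theorem conj_pow_central {G : Type*} [Group G] (k u s : G) (hs : ∀ g : G, g * s = s * g)
    (h : k * u * k⁻¹ = u * s) (n : ℕ) : k ^ n * u * (k ^ n)⁻¹ = u * s ^ n := by
  induction n with
  | zero => simp
  | succ n ih =>
    have hsn : ∀ g : G, g * s ^ n = s ^ n * g := fun g => (Commute.pow_right (hs g) n)
    calc k ^ (n + 1) * u * (k ^ (n + 1))⁻¹ = k * (k ^ n * u * (k ^ n)⁻¹) * k⁻¹ := by
          rw [pow_succ']; group
      _ = k * (u * s ^ n) * k⁻¹ := by rw [ih]
      _ = (k * u * k⁻¹) * (k * s ^ n) * k⁻¹ := by group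
      _ = (u * s) * (s ^ n * k) * k⁻¹ := by rw [h, hsn k]
      _ = u * s ^ (n + 1) := by rw [pow_succ']; group

/-- If `k u k⁻¹ = u s` with `s` central, then `k uⁿ k⁻¹ = uⁿ sⁿ`. -/
theorem conj_pow_central' {G : Type*} [Group G] (k u s : G) (hs : ∀ g : G, g * s = s * g)
    (h : k * u * k⁻¹ = u * s) (n : ℕ) : k * u ^ n * k⁻¹ = u ^ n * s ^ n := by
  have h1 : k * u ^ n * k⁻¹ = (k * u * k⁻¹) ^ n := by rw [conj_pow]
  have hc : Commute u s := (hs u)
  rw [h1, h, hc.mul_pow]

/-- Let P be a finite p-group whose conjugacy class sizes are exactly 1 and pᵃ for some a ≥ 1. Then every element of P has its p-th power in the center of P (P/Z(P) has exponent p). -/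
theorem result {P : Type*} [Group P] [Finite P] (p : ℕ) [Fact p.Prime]
    (hP : IsPGroup p P) (a : ℕ) (ha : 1 ≤ a)
    (hcs : {k : ℕ | ∃ x : P, (Subgroup.centralizer ({x} : Set P)).index = k} = {1, p ^ a}) (x : P) :
    x ^ p ∈ Subgroup.center P := by
  classical
  by_contra hxp
  have hpp : p.Prime := Fact.out
  set Z := Subgroup.center P with hZ
  have hmemZ : ∀ z, z ∈ Z ↔ ∀ g, g * z = z * g := fun z => Subgroup.mem_center_iff
  have hidx : ∀ u : P, u ∉ Z → (Subgroup.centralizer ({u} : Set P)).index = p ^ a := by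
    intro u hu
    have h1 : (Subgroup.centralizer ({u} : Set P)).index ∈ ({1, p ^ a} : Set ℕ) := by
      rw [← hcs]; exact ⟨u, rfl⟩
    rcases h1 with h1 | h1
    · exact absurd ((index_cent_eq_one_iff u).mp h1) hu
    · exact h1
  have F1 : ∀ u v : P, u ∉ Z → v ∉ Z → (∀ g, g * u = u * g → g * v = v * g) →
      ∀ g, g * v = v * g → g * u = u * g := by
    intro u v hu hv hle g hg
    have hle' : Subgroup.centralizer ({u} : Set P) ≤ Subgroup.centralizer ({v} : Set P) := by
      intro k hk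
      rw [Subgroup.mem_centralizer_singleton_iff] at hk ⊢
      exact hle k hk
    have h1 := Subgroup.relIndex_mul_index hle'
    rw [hidx u hu, hidx v hv] at h1
    have h2 : (Subgroup.centralizer ({u} : Set P)).relIndex
        (Subgroup.centralizer ({v} : Set P)) = 1 := by
      have hpos : 0 < p ^ a := pow_pos hpp.pos a
      exact Nat.eq_of_mul_eq_mul_right hpos (by rw [h1, one_mul])
    have h3 := Subgroup.relIndex_eq_one.mp h2
    exact Subgroup.mem_centralizer_singleton_iff.mp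
      (h3 (Subgroup.mem_centralizer_singleton_iff.mpr hg))
  have hxZ : x ∉ Z := fun h => hxp (Subgroup.pow_mem _ h p)
  -- Step 1
  have H1 : ∀ g, g * x ^ p = x ^ p * g → g * x = x * g := by
    apply F1 x (x ^ p) hxZ hxp
    intro g hg
    exact (Commute.pow_right hg p)
  -- Step 2: choose `v` in the second centre with `v ^ p` central
  obtain ⟨v, hvZ, hvp, hvc⟩ : ∃ v : P, v ∉ Z ∧ v ^ p ∈ Z ∧ ∀ g : P, v⁻¹ * (g * v * g⁻¹) ∈ Z := by
    have hQp : IsPGroup p (P ⧸ Z) := hP.to_quotient Z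
    have hQnt : Nontrivial (P ⧸ Z) := by
      refine ⟨⟨(x : P ⧸ Z), 1, ?_⟩⟩
      intro h; exact hxZ ((QuotientGroup.eq_one_iff x).mp h)
    have hcnt : Nontrivial (Subgroup.center (P ⧸ Z)) := hQp.center_nontrivial
    obtain ⟨⟨c, hc⟩, hc1⟩ := exists_ne (1 : Subgroup.center (P ⧸ Z))
    have hc1' : c ≠ 1 := fun h => hc1 (Subtype.ext h)
    obtain ⟨n, hn⟩ := (IsPGroup.iff_orderOf.mp hQp) c
    have hn0 : n ≠ 0 := by
      rintro rfl
      rw [pow_zero, orderOf_eq_one_iff] at hn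
      exact hc1' hn
    obtain ⟨m, rfl⟩ := Nat.exists_eq_succ_of_ne_zero hn0
    obtain ⟨v, hv⟩ := QuotientGroup.mk_surjective (c ^ (p ^ m))
    refine ⟨v, ?_, ?_, ?_⟩
    · intro hvZ
      have h1 : (v : P ⧸ Z) = 1 := (QuotientGroup.eq_one_iff v).mpr hvZ
      rw [hv] at h1
      have hlt : p ^ m < orderOf c := by
        rw [hn]; exact Nat.pow_lt_pow_right hpp.one_lt (Nat.lt_succ_self m)
      exact pow_ne_one_of_lt_orderOf (pow_pos hpp.pos m).ne' hlt h1
    · rw [← QuotientGroup.eq_one_iff, QuotientGroup.mk_pow, hv, ← pow_mul, ← pow_succ, ← hn,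
        pow_orderOf_eq_one]
    · intro g
      rw [← QuotientGroup.eq_one_iff]
      simp only [QuotientGroup.mk_mul, QuotientGroup.mk_inv, hv]
      have hcc : c ^ (p ^ m) ∈ Subgroup.center (P ⧸ Z) := Subgroup.pow_mem _ hc _
      rw [Subgroup.mem_center_iff] at hcc
      rw [hcc (g : P ⧸ Z)]; group
  -- Step 3
  have htc : ∀ g k : P, k * (v⁻¹ * (g * v * g⁻¹)) = (v⁻¹ * (g * v * g⁻¹)) * k :=
    fun g k => (hmemZ _).mp (hvc g) k
  have hconj : ∀ g : P, g * v * g⁻¹ = v * (v⁻¹ * (g * v * g⁻¹)) := fun g => by group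
  have hvpc : ∀ g : P, g * v ^ p = v ^ p * g := (hmemZ _).mp hvp
  have htp : ∀ g : P, (v⁻¹ * (g * v * g⁻¹)) ^ p = 1 := by
    intro g
    have h1 := conj_pow_central' g v _ (htc g) (hconj g) p
    have h2 : g * v ^ p * g⁻¹ = v ^ p := by rw [hvpc g]; group
    rw [h2] at h1
    exact (mul_eq_left.mp h1.symm)
  have H6' : ∀ k : P, k ^ p * v = v * k ^ p := by
    intro k
    have h1 := conj_pow_central k v _ (htc k) (hconj k) p
    rw [htp k, mul_one] at h1
    calc k ^ p * v = (k ^ p * v * (k ^ p)⁻¹) * k ^ p := by group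
      _ = v * k ^ p := by rw [h1]
  -- Step 4
  have hvx : v * x = x * v := H1 v (by rw [H6' x])
  -- Step 5
  have hvxp : (v * x) ^ p = v ^ p * x ^ p := (show Commute v x from hvx).mul_pow p
  have hvxpZ : (v * x) ^ p ∉ Z := by
    intro h
    apply hxp
    have : x ^ p = (v ^ p)⁻¹ * (v * x) ^ p := by rw [hvxp]; group
    rw [this]
    exact Z.mul_mem (Z.inv_mem hvp) h
  have hvxZ : v * x ∉ Z := fun h => hvxpZ (Subgroup.pow_mem _ h p)
  have hC1 : ∀ g, g * (v * x) = (v * x) * g → g * x = x * g := by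
    intro g hg
    apply H1
    have h1 : g * (v * x) ^ p = (v * x) ^ p * g := (Commute.pow_right hg p)
    rw [hvxp] at h1
    have h2 := hvpc g
    calc g * x ^ p = (v ^ p)⁻¹ * (v ^ p * g) * x ^ p := by group
      _ = (v ^ p)⁻¹ * (g * v ^ p) * x ^ p := by rw [h2]
      _ = (v ^ p)⁻¹ * (g * (v ^ p * x ^ p)) := by group
      _ = (v ^ p)⁻¹ * (v ^ p * x ^ p * g) := by rw [h1]
      _ = x ^ p * g := by group
  have hC2 : ∀ g, g * x = x * g → g * (v * x) = (v * x) * g := F1 (v * x) x hvxZ hxZ hC1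
  have H5 : ∀ g, g * x = x * g → g * v = v * g := by
    intro g hg
    have h1 := hC2 g hg
    calc g * v = g * (v * x) * x⁻¹ := by group
      _ = (v * x) * g * x⁻¹ := by rw [h1]
      _ = v * (x * g) * x⁻¹ := by group
      _ = v * (g * x) * x⁻¹ := by rw [hg]
      _ = v * g := by group
  have H5' : ∀ g, g * v = v * g → g * x = x * g := F1 x v hxZ hvZ H5
  -- Step 6
  have hCnorm : ∀ g k : P, g * x = x * g → (k * g * k⁻¹) * x = x * (k * g * k⁻¹) := by
    intro g k hg
    apply H5'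
    have hgv := H5 g hg
    have h1 := hconj k⁻¹
    rw [inv_inv] at h1
    have h2 := htc k⁻¹ g
    rw [inv_inv] at h2
    -- k⁻¹ v k = v * t, g commutes with v and t
    have h3 : g * (k⁻¹ * v * k) = (k⁻¹ * v * k) * g := by
      rw [h1, ← mul_assoc, hgv, mul_assoc, h2, ← mul_assoc]
    calc k * g * k⁻¹ * v = k * (g * (k⁻¹ * v * k)) * k⁻¹ := by group
      _ = k * ((k⁻¹ * v * k) * g) * k⁻¹ := by rw [h3]
      _ = v * (k * g * k⁻¹) := by group
  have H6'' : ∀ k : P, k ^ p * x = x * k ^ p := fun k => H5' _ (H6' k)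
  -- Claim 2'
  have hclaim : ∀ k : P, x⁻¹ * (k * x * k⁻¹) ∈ Z → k * x = x * k := by
    intro k hk
    have hsc : ∀ g : P, g * (x⁻¹ * (k * x * k⁻¹)) = (x⁻¹ * (k * x * k⁻¹)) * g := (hmemZ _).mp hk
    have hkx : k * x * k⁻¹ = x * (x⁻¹ * (k * x * k⁻¹)) := by group
    have h1 := conj_pow_central k x _ hsc hkx p
    have h2 : k ^ p * x * (k ^ p)⁻¹ = x := by rw [H6'' k]; group
    rw [h2] at h1
    have h3 : (x⁻¹ * (k * x * k⁻¹)) ^ p = 1 := (mul_eq_left.mp h1.symm)
    have h4 := conj_pow_central' k x _ hsc hkx p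
    rw [h3, mul_one] at h4
    apply H1
    calc k * x ^ p = (k * x ^ p * k⁻¹) * k := by group
      _ = x ^ p * k := by rw [h4]
  -- Step 7
  set C : Subgroup P := Subgroup.centralizer ({x} : Set P) with hC
  have hmemC : ∀ g, g ∈ C ↔ g * x = x * g := fun g => Subgroup.mem_centralizer_singleton_iff
  set A : Subgroup P := C ⊓ Subgroup.centralizer (C : Set P) with hA
  have hmemA : ∀ w, w ∈ A ↔ (w * x = x * w ∧ ∀ c, c * x = x * c → c * w = w * c) := by
    intro w
    rw [hA, Subgroup.mem_inf, hmemC, Subgroup.mem_centralizer_iff]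
    constructor
    · rintro ⟨h1, h2⟩
      exact ⟨h1, fun c hc => h2 c ((hmemC c).mpr hc)⟩
    · rintro ⟨h1, h2⟩
      exact ⟨h1, fun c hc => h2 c ((hmemC c).mp hc)⟩
  have hZA : Z ≤ A := by
    intro z hz
    rw [hmemA]
    have hz' := (hmemZ z).mp hz
    exact ⟨(hz' x).symm, fun c _ => hz' c⟩
  have hconjA : ∀ g : P, g * x * g⁻¹ ∈ A := by
    intro g
    rw [hmemA]
    refine ⟨hCnorm x g rfl, ?_⟩
    intro c hc
    have h1 := hCnorm c g⁻¹ hc
    rw [inv_inv] at h1
    calc c * (g * x * g⁻¹) = g * ((g⁻¹ * c * g) * x) * g⁻¹ := by group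
      _ = g * (x * (g⁻¹ * c * g)) * g⁻¹ := by rw [h1]
      _ = g * x * g⁻¹ * c := by group
  have hAZ : ∀ w ∈ A, ∀ y : P, y * x ≠ x * y → y * w = w * y → w ∈ Z := by
    intro w hw y hyx hyw
    by_contra hwZ
    rw [hmemA] at hw
    exact hyx (F1 x w hxZ hwZ hw.2 y hyw)
  -- Step 8
  obtain ⟨y, hy⟩ : ∃ y : P, y * x ≠ x * y := by
    by_contra hcon
    push Not at hcon
    exact hxZ ((hmemZ x).mpr hcon)
  have hyZ : y ∉ Z := fun h => hy ((hmemZ y).mp h x).symm
  have hi : Z.relIndex A ≤ p ^ a := by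
    have h1 : Subgroup.centralizer ({y} : Set P) ⊓ A = Z := by
      apply le_antisymm
      · intro w hw
        rw [Subgroup.mem_inf] at hw
        obtain ⟨hw1, hw2⟩ := hw
        rw [Subgroup.mem_centralizer_singleton_iff] at hw1
        exact hAZ w hw2 y hy hw1.symm
      · apply le_inf _ hZA
        intro z hz
        rw [Subgroup.mem_centralizer_singleton_iff]
        exact (hmemZ z).mp hz y |>.symm
    rw [← h1, Subgroup.inf_relIndex_right, ← hidx y hyZ, ← Subgroup.relIndex_top_right]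
    apply Subgroup.relIndex_le_of_le_right le_top
    rw [Subgroup.relIndex_top_right, hidx y hyZ]
    exact (pow_pos hpp.pos a).ne'
  have hii : p ^ a + 1 ≤ Z.relIndex A := by
    have hcard1 : Nat.card (Option (P ⧸ C)) = p ^ a + 1 := by
      rw [Finite.card_option, ← Subgroup.index_eq_card, hidx x hxZ]
    have hcard2 : Nat.card (A ⧸ Z.subgroupOf A) = Z.relIndex A := by
      rw [← Subgroup.index_eq_card]; rfl
    rw [← hcard1, ← hcard2]
    let ι : Option (P ⧸ C) → A ⧸ Z.subgroupOf A := fun o =>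
      match o with
      | none => 1
      | some q => QuotientGroup.mk ⟨q.out * x * q.out⁻¹, hconjA q.out⟩
    apply Nat.card_le_card_of_injective ι
    have hne : ∀ q : P ⧸ C, (QuotientGroup.mk ⟨q.out * x * q.out⁻¹, hconjA q.out⟩ :
        A ⧸ Z.subgroupOf A) ≠ 1 := by
      intro q h
      rw [QuotientGroup.eq_one_iff, Subgroup.mem_subgroupOf] at h
      apply hxZ
      have h' : q.out * x * q.out⁻¹ ∈ Z := h
      have h2 := (hmemZ _).mp h' q.out
      have h3 : x = q.out * x * q.out⁻¹ := by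
        calc x = q.out⁻¹ * ((q.out * x * q.out⁻¹) * q.out) := by group
          _ = q.out⁻¹ * (q.out * (q.out * x * q.out⁻¹)) := by rw [h2]
          _ = q.out * x * q.out⁻¹ := by group
      rw [h3]; exact h'
    intro o1 o2 h
    match o1, o2, h with
    | none, none, _ => rfl
    | none, some q, h => exact absurd h.symm (hne q)
    | some q, none, h => exact absurd h (hne q)
    | some q, some q', h =>
      have h1 : (QuotientGroup.mk ⟨q.out * x * q.out⁻¹, hconjA q.out⟩ : A ⧸ Z.subgroupOf A) =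
          QuotientGroup.mk ⟨q'.out * x * q'.out⁻¹, hconjA q'.out⟩ := h
      rw [QuotientGroup.eq, Subgroup.mem_subgroupOf] at h1
      have h2 : (q.out * x * q.out⁻¹)⁻¹ * (q'.out * x * q'.out⁻¹) ∈ Z := h1
      have h3 := (hmemZ _).mp h2 q.out
      have h4 : x⁻¹ * ((q.out⁻¹ * q'.out) * x * (q.out⁻¹ * q'.out)⁻¹) =
          (q.out * x * q.out⁻¹)⁻¹ * (q'.out * x * q'.out⁻¹) := by
        calc x⁻¹ * ((q.out⁻¹ * q'.out) * x * (q.out⁻¹ * q'.out)⁻¹)
            = q.out⁻¹ * (((q.out * x * q.out⁻¹)⁻¹ * (q'.out * x * q'.out⁻¹)) * q.out) := by group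
          _ = q.out⁻¹ * (q.out * ((q.out * x * q.out⁻¹)⁻¹ * (q'.out * x * q'.out⁻¹))) := by rw [h3]
          _ = (q.out * x * q.out⁻¹)⁻¹ * (q'.out * x * q'.out⁻¹) := by group
      have h5 := hclaim (q.out⁻¹ * q'.out) (h4 ▸ h2)
      have h6 : (QuotientGroup.mk q.out : P ⧸ C) = QuotientGroup.mk q'.out := by
        rw [QuotientGroup.eq, hmemC]; exact h5
      rw [QuotientGroup.out_eq', QuotientGroup.out_eq'] at h6
      rw [h6]
  omega

end Cfsg.Agent.S4365
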