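import Cfsg.Statements.S4370
import Cfsg.Agent.Lib.helper59.PairOrderP

set_option autoImplicit false
open Cfsg

namespace Cfsg.Agent.S4370

open Subgroup Cfsg.Agent.Lib.helper59

section general

variable {G : Type*} [Group G]

/-- In a cyclic subgroup, two elements of the same prime order generate the same subgroup. -/
theorem mem_zpowers_of_isCyclic [Finite G] {p : ℕ} [Fact p.Prime] (C : Subgroup G)
    (hC : IsCyclic ↥C) {t z : G} (htC : t ∈ C) (hzC : z ∈ C) (ht : orderOf t = p)
    (hz : orderOf z = p) : t ∈ zpowers z := by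
  have hpP : p.Prime := Fact.out
  obtain ⟨g, hg⟩ := (Subgroup.isCyclic_iff_exists_zpowers_eq_top C).mp hC
  rw [← hg, ← (isOfFinOrder_of_finite g).mem_powers_iff_mem_zpowers] at htC hzC
  obtain ⟨i, rfl⟩ := htC
  obtain ⟨j, rfl⟩ := hzC
  have hN : 0 < orderOf g := orderOf_pos g
  have ht' : orderOf (g ^ i) = p := ht
  have hz' : orderOf (g ^ j) = p := hz
  rw [orderOf_pow] at ht' hz'
  have h1 : orderOf g = p * (orderOf g).gcd i := by
    have := Nat.div_mul_cancel (Nat.gcd_dvd_left (orderOf g) i)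
    rw [ht'] at this; exact this.symm
  have h2 : orderOf g = p * (orderOf g).gcd j := by
    have := Nat.div_mul_cancel (Nat.gcd_dvd_left (orderOf g) j)
    rw [hz'] at this; exact this.symm
  have h3 : (orderOf g).gcd i = (orderOf g).gcd j :=
    Nat.eq_of_mul_eq_mul_left hpP.pos (h1.symm.trans h2)
  obtain ⟨i', hi'⟩ := Nat.gcd_dvd_right (orderOf g) i
  obtain ⟨j', hj'⟩ := Nat.gcd_dvd_right (orderOf g) j
  have hW : orderOf (g ^ (orderOf g).gcd j) = p := by
    rw [orderOf_pow, Nat.gcd_eq_right (Nat.gcd_dvd_left (orderOf g) j)]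
    exact hz'
  have hjW : g ^ j ∈ zpowers (g ^ (orderOf g).gcd j) := by
    have : g ^ j = (g ^ (orderOf g).gcd j) ^ j' := by rw [← pow_mul, ← hj']
    rw [this]; exact pow_mem (mem_zpowers _) _
  have hiW : g ^ i ∈ zpowers (g ^ (orderOf g).gcd j) := by
    have : g ^ i = (g ^ (orderOf g).gcd j) ^ i' := by rw [← pow_mul, ← h3, ← hi']
    rw [this]; exact pow_mem (mem_zpowers _) _
  have heq : zpowers (g ^ j) = zpowers (g ^ (orderOf g).gcd j) :=
    Subgroup.eq_of_le_of_card_ge (zpowers_le.mpr hjW) (by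
      rw [Nat.card_zpowers, Nat.card_zpowers, hW, hz])
  show g ^ i ∈ zpowers (g ^ j)
  rw [heq]; exact hiW

/-- A subgroup containing a Sylow `p`-subgroup for every prime `p` is the whole group. -/
theorem eq_top_of_sylow_le [Finite G] (W : Subgroup G)
    (h : ∀ (p : ℕ) [Fact p.Prime] (P : Sylow p G), (P : Subgroup G) ≤ W) : W = ⊤ := by
  apply Subgroup.eq_top_of_card_eq
  apply Nat.dvd_antisymm (Subgroup.card_subgroup_dvd_card W)
  rw [← Nat.factorization_prime_le_iff_dvd Nat.card_pos.ne' Nat.card_pos.ne']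
  intro p hp
  have : Fact p.Prime := ⟨hp⟩
  have P : Sylow p G := default
  have h1 : Nat.card P ∣ Nat.card W := Subgroup.card_dvd_of_le (h p P)
  rw [Sylow.card_eq_multiplicity] at h1
  exact (hp.pow_dvd_iff_le_factorization Nat.card_pos.ne').mp h1

end general

section quaternion

/-- In `ZMod (2 * n)`, the solutions of `x + x = 0` are `0` and `n`. -/
theorem zmod_add_self_eq_zero (n : ℕ) [NeZero n] (x : ZMod (2 * n)) (h : x + x = 0) :
    x = 0 ∨ x = (n : ZMod (2 * n)) := by
  have h1 : ((x.val + x.val : ℕ) : ZMod (2 * n)) = 0 := by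
    push_cast; rw [ZMod.natCast_zmod_val]; exact h
  rw [ZMod.natCast_eq_zero_iff] at h1
  have hlt : x.val < 2 * n := ZMod.val_lt x
  obtain ⟨c, hc⟩ := h1
  have hc' : c = 0 ∨ c = 1 := by
    rcases c with _ | _ | c
    · left; rfl
    · right; rfl
    · exfalso; nlinarith
  rcases hc' with rfl | rfl
  · left
    have : x.val = 0 := by omega
    exact (ZMod.val_eq_zero x).mp this
  · right
    have : x.val = n := by omega
    have h5 := ZMod.natCast_zmod_val x
    rw [this] at h5
    exact h5.symm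

/-- The centralizer of a non-central element of a generalized quaternion group is contained in a
cyclic subgroup generated by an element of order `2 * n` or `4` commuting with it. -/
theorem quat_centralizer (n : ℕ) [NeZero n] (q : QuaternionGroup n)
    (hq : q ∉ center (QuaternionGroup n)) :
    ∃ g : QuaternionGroup n, g * q = q * g ∧ (orderOf g = 2 * n ∨ orderOf g = 4) ∧
      ∀ y : QuaternionGroup n, y * q = q * y → y ∈ zpowers g := by
  have hnn : (n : ZMod (2 * n)) + n = 0 := by
    have : ((2 * n : ℕ) : ZMod (2 * n)) = 0 := ZMod.natCast_self (2 * n)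
    rw [← this]; push_cast; ring
  cases q with
  | a i =>
    have hi : i + i ≠ 0 := by
      intro h0
      apply hq
      rw [Subgroup.mem_center_iff]
      intro g
      cases g with
      | a j => rw [QuaternionGroup.a_mul_a, QuaternionGroup.a_mul_a, add_comm]
      | xa j =>
        rw [QuaternionGroup.xa_mul_a, QuaternionGroup.a_mul_xa]
        congr 1
        linear_combination h0
    refine ⟨QuaternionGroup.a 1, ?_, Or.inl QuaternionGroup.orderOf_a_one, ?_⟩
    · rw [QuaternionGroup.a_mul_a, QuaternionGroup.a_mul_a, add_comm]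
    · intro y hy
      cases y with
      | a j =>
        rw [mem_zpowers_iff]
        refine ⟨(j.val : ℤ), ?_⟩
        rw [zpow_natCast, QuaternionGroup.a_one_pow, ZMod.natCast_zmod_val]
      | xa j =>
        exfalso
        rw [QuaternionGroup.xa_mul_a, QuaternionGroup.a_mul_xa] at hy
        have h1 : j + i = j - i := by injection hy
        apply hi
        linear_combination h1
  | xa i =>
    refine ⟨QuaternionGroup.xa i, rfl, Or.inr (QuaternionGroup.orderOf_xa i), ?_⟩
    intro y hy
    have hsq : QuaternionGroup.xa i ^ 2 = QuaternionGroup.a (n : ZMod (2 * n)) :=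
      QuaternionGroup.xa_sq i
    cases y with
    | a j =>
      rw [QuaternionGroup.xa_mul_a, QuaternionGroup.a_mul_xa] at hy
      have h1 : i - j = i + j := by injection hy
      have h2 : j + j = 0 := by linear_combination -h1
      rcases zmod_add_self_eq_zero n j h2 with rfl | rfl
      · exact one_mem _
      · rw [← hsq]; exact pow_mem (mem_zpowers _) _
    | xa j =>
      rw [QuaternionGroup.xa_mul_xa, QuaternionGroup.xa_mul_xa] at hy
      have h1 : (n : ZMod (2 * n)) + i - j = n + j - i := by injection hy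
      have h2 : (j - i) + (j - i) = 0 := by linear_combination -h1
      rcases zmod_add_self_eq_zero n (j - i) h2 with h3 | h3
      · have : j = i := by linear_combination h3
        rw [this]; exact mem_zpowers _
      · have hj : j = i - n := by linear_combination h3 + hnn
        have : QuaternionGroup.xa j = QuaternionGroup.xa i ^ 2 * QuaternionGroup.xa i := by
          rw [hsq, QuaternionGroup.a_mul_xa, hj]
        rw [this]
        exact mul_mem (pow_mem (mem_zpowers _) _) (mem_zpowers _)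

end quaternion

theorem backward {G : Type*} [Group G] [Finite G] (k m : ℕ) (hm : Odd m)
    (e : G ≃* QuaternionGroup (2 ^ k) × Multiplicative (ZMod m)) (x : G)
    (hx : x ∉ center G) : IsCyclic ↥(centralizer ({x} : Set G)) := by
  have : NeZero (2 ^ k) := ⟨by positivity⟩
  have : NeZero m := ⟨by rintro rfl; simp at hm⟩
  obtain ⟨q, c, hex⟩ : ∃ q c, e x = (q, c) := ⟨(e x).1, (e x).2, rfl⟩
  have hq : q ∉ center (QuaternionGroup (2 ^ k)) := by
    intro hq
    apply hx
    rw [Subgroup.mem_center_iff]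
    intro g
    apply e.injective
    rw [map_mul, map_mul, hex]
    refine Prod.ext ?_ ?_
    · exact (Subgroup.mem_center_iff.mp hq) (e g).1
    · exact mul_comm _ _
  obtain ⟨gq, hgq, hord, hall⟩ := quat_centralizer (2 ^ k) q hq
  obtain ⟨c₀, hc₀⟩ : ∃ c₀ : Multiplicative (ZMod m), c₀ = Multiplicative.ofAdd 1 := ⟨_, rfl⟩
  have hoc₀ : orderOf c₀ = m := by
    rw [hc₀, orderOf_ofAdd_eq_addOrderOf, ZMod.addOrderOf_one]
  obtain ⟨h₀, hh₀def⟩ : ∃ h₀ : G, h₀ = e.symm (gq, c₀) := ⟨_, rfl⟩
  have heh₀ : e h₀ = (gq, c₀) := by rw [hh₀def, MulEquiv.apply_symm_apply]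
  have hh₀ : h₀ * x = x * h₀ := by
    apply e.injective
    rw [map_mul, map_mul, hex, heh₀]
    refine Prod.ext ?_ ?_
    · exact hgq
    · exact mul_comm _ _
  have hfst : ∀ (p : QuaternionGroup (2 ^ k) × Multiplicative (ZMod m)) (r : ℤ),
      (p ^ r).1 = p.1 ^ r := fun _ _ => rfl
  have hsnd : ∀ (p : QuaternionGroup (2 ^ k) × Multiplicative (ZMod m)) (r : ℤ),
      (p ^ r).2 = p.2 ^ r := fun _ _ => rfl
  have hall' : ∀ y : G, y * x = x * y → y ∈ zpowers h₀ := by
    intro y hy
    have hy' : (e y).1 * q = q * (e y).1 := by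
      have h1 : e y * e x = e x * e y := by rw [← map_mul, ← map_mul, hy]
      rw [hex] at h1
      exact congrArg Prod.fst h1
    obtain ⟨s, hs⟩ := mem_zpowers_iff.mp (hall _ hy')
    obtain ⟨t, ht⟩ : ∃ t : ℤ, c₀ ^ t = (e y).2 := by
      refine ⟨((Multiplicative.toAdd (e y).2).val : ℤ), ?_⟩
      rw [zpow_natCast, hc₀, ← ofAdd_nsmul, nsmul_one, ZMod.natCast_zmod_val, ofAdd_toAdd]
    obtain ⟨E, hE⟩ : ∃ E : ℕ, orderOf gq = 2 ^ E := by
      rcases hord with h | h
      · exact ⟨k + 1, by rw [h]; ring⟩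
      · exact ⟨2, by rw [h]; norm_num⟩
    have hcop : IsCoprime ((2 : ℤ) ^ E) (m : ℤ) := by
      apply IsCoprime.pow_left
      obtain ⟨w, hw⟩ := hm
      exact ⟨-w, 1, by rw [hw]; push_cast; ring⟩
    obtain ⟨u, v, huv⟩ := hcop
    rw [mem_zpowers_iff]
    refine ⟨s * (v * m) + t * (u * 2 ^ E), ?_⟩
    apply e.injective
    rw [map_zpow, heh₀]
    refine Prod.ext ?_ ?_
    · rw [hfst, ← hs]
      apply orderOf_dvd_sub_iff_zpow_eq_zpow.mp
      rw [hE]; push_cast
      refine ⟨(t - s) * u, ?_⟩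
      linear_combination s * huv
    · rw [hsnd, ← ht]
      apply orderOf_dvd_sub_iff_zpow_eq_zpow.mp
      rw [hoc₀]
      refine ⟨(s - t) * v, ?_⟩
      linear_combination t * huv
  have hcz : centralizer ({x} : Set G) = zpowers h₀ := by
    apply le_antisymm
    · intro y hy; exact hall' y (mem_centralizer_singleton_iff.mp hy)
    · rw [zpowers_le]; exact mem_centralizer_singleton_iff.mpr hh₀
  rw [hcz]
  exact (Subgroup.isCyclic_iff_exists_zpowers_eq_top _).mpr ⟨h₀, rfl⟩

theorem forward {G : Type*} [Group G] [Finite G] (hG : Group.IsNilpotent G)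
    (hna : ¬ IsMulCommutative G)
    (h : ∀ x : G, x ∉ center G → IsCyclic ↥(centralizer ({x} : Set G))) :
    ∃ (k m : ℕ), 1 ≤ k ∧ Odd m ∧
      Nonempty (G ≃* QuaternionGroup (2 ^ k) × Multiplicative (ZMod m)) := by
  have : Fact (Nat.Prime 2) := ⟨Nat.prime_two⟩
  obtain ⟨x₀, hx₀⟩ : ∃ x₀ : G, x₀ ∉ center G := by
    by_contra hcon
    push Not at hcon
    exact hna ⟨⟨fun a b => (Subgroup.mem_center_iff.mp (hcon b)) a⟩⟩
  have hkey : ∀ (p : ℕ) [Fact p.Prime] (t z w : G), orderOf t = p → orderOf z = p →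
      t ∉ zpowers z → w ∉ center G → t * w = w * t → z * w = w * z → False := by
    intro p _ t z w ht hz hne hw htw hzw
    exact hne (mem_zpowers_of_isCyclic _ (h w hw) (mem_centralizer_singleton_iff.mpr htw)
      (mem_centralizer_singleton_iff.mpr hzw) ht hz)
  have huniq : ∀ (p : ℕ) [Fact p.Prime] (P : Sylow p G) (y : G), y ∈ (P : Subgroup G) →
      y ∉ center G → UniqueOrderP p ↥(P : Subgroup G) := by
    intro p _ P y hyP hyc
    by_contra hU
    obtain ⟨t', z', ht', hz', hzc, hne'⟩ :=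
      exists_commuting_pair_of_not_uniqueOrderP P.isPGroup' hU
    have ht : orderOf (t' : G) = p := by rw [Subgroup.orderOf_coe]; exact ht'
    have hz : orderOf (z' : G) = p := by rw [Subgroup.orderOf_coe]; exact hz'
    have hne : (t' : G) ∉ zpowers (z' : G) := by
      intro hcon
      obtain ⟨i, hi⟩ := mem_zpowers_iff.mp hcon
      apply hne'
      rw [mem_zpowers_iff]
      exact ⟨i, Subtype.ext (by simpa using hi)⟩
    have hzP : ∀ u ∈ (P : Subgroup G), (z' : G) * u = u * z' := by
      intro u hu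
      have := (Subgroup.mem_center_iff.mp hzc) ⟨u, hu⟩
      exact (congrArg Subtype.val this).symm
    by_cases htc : (t' : G) ∈ center G
    · exact hkey p t' z' y ht hz hne hyc ((Subgroup.mem_center_iff.mp htc) y).symm (hzP y hyP)
    · exact hkey p t' z' t' ht hz hne htc rfl (hzP t' t'.2)
  have hsyl_eq : ∀ (p : ℕ) [Fact p.Prime] (P R : Sylow p G), R = P := by
    intro p _ P R
    have huq := Sylow.unique_of_normal P (inferInstance : (P : Subgroup G).Normal)
    exact (huq.uniq R).trans (huq.uniq P).symm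
  -- odd Sylow subgroups are central
  have hodd : ∀ (q : ℕ) [Fact q.Prime], q ≠ 2 → ∀ Q : Sylow q G,
      (Q : Subgroup G) ≤ center G := by
    intro q _ hq2 Q
    by_contra hcon
    obtain ⟨y, hyQ, hyc⟩ := SetLike.not_le_iff_exists.mp hcon
    have hU := huniq q Q y hyQ hyc
    have hQc : IsCyclic ↥(Q : Subgroup G) :=
      isCyclic_of_odd_of_uniqueOrderP hq2 _ _ rfl Q.isPGroup' hU
    have htop : centralizer ({y} : Set G) = ⊤ := by
      apply eq_top_of_sylow_le
      intro r _ R g hg
      rw [mem_centralizer_singleton_iff]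
      by_cases hrq : r = q
      · subst hrq
        rw [hsyl_eq r Q R] at hg
        exact congrArg Subtype.val
          ((IsCyclic.isMulCommutative (α := ↥(Q : Subgroup G))).is_comm.comm ⟨g, hg⟩ ⟨y, hyQ⟩)
      · exact (Subgroup.commute_of_normal_of_disjoint (R : Subgroup G) (Q : Subgroup G)
          inferInstance inferInstance
          (IsPGroup.disjoint_of_ne r q hrq _ _ R.isPGroup' Q.isPGroup') g y hg hyQ).eq
    apply hyc
    rw [Subgroup.mem_center_iff]
    intro g
    have hg : g ∈ centralizer ({y} : Set G) := htop ▸ mem_top g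
    exact mem_centralizer_singleton_iff.mp hg
  have P : Sylow 2 G := default
  obtain ⟨a, m, hm, hcard⟩ := Nat.exists_eq_two_pow_mul_odd (Nat.card_pos.ne' : Nat.card G ≠ 0)
  let K : Subgroup G :=
    { carrier := {g | g ∈ center G ∧ g ^ m = 1}
      mul_mem' := by
        rintro g h ⟨hg, hgm⟩ ⟨hh, hhm⟩
        refine ⟨mul_mem hg hh, ?_⟩
        have hc : Commute g h := (Subgroup.mem_center_iff.mp hh) g
        rw [hc.mul_pow, hgm, hhm, one_mul]
      one_mem' := ⟨one_mem _, one_pow m⟩
      inv_mem' := by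
        rintro g ⟨hg, hgm⟩
        exact ⟨inv_mem hg, by rw [inv_pow, hgm, inv_one]⟩ }
  have hKc : K ≤ center G := fun g hg => hg.1
  have hKm : ∀ g ∈ K, g ^ m = 1 := fun g hg => hg.2
  have hKn : K.Normal := by
    constructor
    intro k hk g
    have := (Subgroup.mem_center_iff.mp (hKc hk)) g
    rw [this, mul_inv_cancel_right]
    exact hk
  have hPK : ∀ g ∈ (P : Subgroup G), g ∈ K → g = 1 := by
    intro g hgP hgK
    obtain ⟨j, hj⟩ := P.isPGroup' ⟨g, hgP⟩
    have h1 : g ^ (2 ^ j) = 1 := congrArg Subtype.val hj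
    have h2 := orderOf_dvd_of_pow_eq_one h1
    have h3 := orderOf_dvd_of_pow_eq_one (hKm g hgK)
    have hcop : Nat.Coprime (2 ^ j) m := Nat.Coprime.pow_left j (Nat.coprime_two_left.mpr hm)
    exact orderOf_eq_one_iff.mp (Nat.eq_one_of_dvd_coprimes hcop h2 h3)
  have hsup : (P : Subgroup G) ⊔ K = ⊤ := by
    apply eq_top_of_sylow_le
    intro r hr R
    by_cases hr2 : r = 2
    · subst hr2
      rw [hsyl_eq 2 P R]
      exact le_sup_left
    · intro g hg
      refine (le_sup_right : K ≤ (P : Subgroup G) ⊔ K) ⟨hodd r hr2 R hg, ?_⟩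
      apply orderOf_dvd_iff_pow_eq_one.mp
      have h1 : orderOf g ∣ Nat.card (R : Subgroup G) := Subgroup.orderOf_dvd_natCard _ hg
      obtain ⟨e, he⟩ := IsPGroup.iff_card.mp R.isPGroup'
      have h2 : Nat.card (R : Subgroup G) ∣ Nat.card G := Subgroup.card_subgroup_dvd_card _
      rw [he, hcard, mul_comm] at h2
      have hcop : Nat.Coprime (r ^ e) (2 ^ a) :=
        Nat.Coprime.pow e a ((Nat.coprime_primes hr.out Nat.prime_two).mpr hr2)
      have h3 : r ^ e ∣ m := hcop.dvd_of_dvd_mul_right h2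
      rw [he] at h1
      exact dvd_trans h1 h3
  have hPna : ¬ IsMulCommutative ↥(P : Subgroup G) := by
    intro hPc
    apply hna
    refine ⟨⟨fun g h => ?_⟩⟩
    have hg : g ∈ (P : Subgroup G) ⊔ K := hsup ▸ mem_top g
    have hh : h ∈ (P : Subgroup G) ⊔ K := hsup ▸ mem_top h
    obtain ⟨p₁, hp₁, k₁, hk₁, rfl⟩ := Subgroup.mem_sup_of_normal_right.mp hg
    obtain ⟨p₂, hp₂, k₂, hk₂, rfl⟩ := Subgroup.mem_sup_of_normal_right.mp hh
    have c1 : p₁ * p₂ = p₂ * p₁ :=
      congrArg Subtype.val (hPc.is_comm.comm ⟨p₁, hp₁⟩ ⟨p₂, hp₂⟩)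
    have c2 : ∀ u : G, u * k₁ = k₁ * u := Subgroup.mem_center_iff.mp (hKc hk₁)
    have c3 : ∀ u : G, u * k₂ = k₂ * u := Subgroup.mem_center_iff.mp (hKc hk₂)
    calc p₁ * k₁ * (p₂ * k₂) = p₁ * (k₁ * p₂) * k₂ := by group
      _ = p₁ * (p₂ * k₁) * k₂ := by rw [← c2 p₂]
      _ = (p₁ * p₂) * (k₁ * k₂) := by group
      _ = (p₂ * p₁) * (k₂ * k₁) := by rw [c1, c3 k₁]
      _ = p₂ * (p₁ * k₂) * k₁ := by group
      _ = p₂ * (k₂ * p₁) * k₁ := by rw [c3 p₁]
      _ = p₂ * k₂ * (p₁ * k₁) := by group
  obtain ⟨u, huP, huc⟩ : ∃ u ∈ (P : Subgroup G), u ∉ center G := by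
    by_contra hcon
    push Not at hcon
    apply hPna
    exact ⟨⟨fun a b => Subtype.ext ((Subgroup.mem_center_iff.mp (hcon b.1 b.2)) a.1)⟩⟩
  have hU := huniq 2 P u huP huc
  rcases cyclic_or_quaternion_of_uniqueOrderP P.isPGroup' hU with hc | ⟨n, ⟨e⟩⟩
  · exact absurd IsCyclic.isMulCommutative hPna
  · have hn1 : 1 ≤ n := by
      by_contra hn0
      have hn0' : n = 0 := by omega
      subst hn0'
      apply hPna
      have hc4 : Nat.card ↥(P : Subgroup G) = 2 ^ 2 := by
        rw [Nat.card_congr e.toEquiv, Nat.card_eq_fintype_card, QuaternionGroup.card]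
        norm_num
      exact IsPGroup.isMulCommutative_of_card_eq_prime_sq hc4
    have hKcyc : IsCyclic ↥K := by
      have hC := h x₀ hx₀
      have hle : K ≤ centralizer ({x₀} : Set G) := by
        intro g hg
        rw [mem_centralizer_singleton_iff]
        exact ((Subgroup.mem_center_iff.mp (hKc hg)) x₀).symm
      exact Subgroup.isCyclic_of_le hle
    have hKodd : Odd (Nat.card ↥K) := by
      by_contra hev
      rw [Nat.not_odd_iff_even] at hev
      obtain ⟨g, hg⟩ := exists_prime_orderOf_dvd_card' (G := ↥K) 2 hev.two_dvd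
      have h1 : (g : G) ^ m = 1 := hKm g g.2
      have h2 : orderOf (g : G) = 2 := by rw [Subgroup.orderOf_coe]; exact hg
      have h3 := orderOf_dvd_of_pow_eq_one h1
      rw [h2] at h3
      exact (Nat.not_even_iff_odd.mpr hm) (even_iff_two_dvd.mpr h3)
    let f : ↥(P : Subgroup G) × ↥K →* G :=
      MonoidHom.noncommCoprod (P : Subgroup G).subtype K.subtype
        (fun p k => (Subgroup.mem_center_iff.mp (hKc k.2)) p.1)
    have hf : ∀ pk : ↥(P : Subgroup G) × ↥K, f pk = (pk.1 : G) * (pk.2 : G) := fun pk => rfl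
    have hinj : Function.Injective f := by
      rw [injective_iff_map_eq_one]
      rintro ⟨p, k⟩ hpk
      rw [hf] at hpk
      have hpK : (p : G) ∈ K := by
        have : (p : G) = (k : G)⁻¹ := eq_inv_of_mul_eq_one_left hpk
        rw [this]; exact inv_mem k.2
      have hp1 : (p : G) = 1 := hPK p.1 p.2 hpK
      have hk1 : (k : G) = 1 := by
        have h5 : (p : G) * (k : G) = 1 := hpk
        rw [hp1, one_mul] at h5; exact h5
      exact Prod.ext (Subtype.ext hp1) (Subtype.ext hk1)
    have hsurj : Function.Surjective f := by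
      intro g
      have hg : g ∈ (P : Subgroup G) ⊔ K := hsup ▸ mem_top g
      obtain ⟨p, hp, k, hk, rfl⟩ := Subgroup.mem_sup_of_normal_right.mp hg
      exact ⟨(⟨p, hp⟩, ⟨k, hk⟩), rfl⟩
    refine ⟨n, Nat.card ↥K, hn1, hKodd, ⟨?_⟩⟩
    exact (MulEquiv.ofBijective f ⟨hinj, hsurj⟩).symm.trans
      (MulEquiv.prodCongr e (zmodCyclicMulEquiv hKcyc).symm)

/-- Let G be a finite non-abelian nilpotent group. Then the centralizer of every non-central element of G is cyclic if and only if G is isomorphic to the direct product of a generalized quaternion group and a cyclic group of odd order. -/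
theorem result {G : Type*} [Group G] [Finite G] (hG : Group.IsNilpotent G)
    (hna : ¬ IsMulCommutative G) :
    (∀ x : G, x ∉ Subgroup.center G → IsCyclic (Subgroup.centralizer ({x} : Set G))) ↔
      ∃ (k m : ℕ), 1 ≤ k ∧ Odd m ∧ Nonempty (G ≃* QuaternionGroup (2 ^ k) × Multiplicative (ZMod m)) := by
  constructor
  · exact forward hG hna
  · rintro ⟨k, m, -, hm, ⟨e⟩⟩ x hx
    exact backward k m hm e x hx

end Cfsg.Agent.S4370
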