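import Cfsg.Statements.S4387
import Cfsg.Agent.Lib.helper76.Conj

set_option autoImplicit false
open Pointwise
open Cfsg

namespace Cfsg.Agent.S4387

open Cfsg.Agent.Lib.helper76

/-- Let G be a non-trivial finite group in which any two maximal subgroups are conjugate. Then G is cyclic of prime-power order. -/
theorem result {G : Type*} [Group G] [Finite G] [Nontrivial G]
    (h : ∀ M N : Subgroup G, IsCoatom M → IsCoatom N → ∃ g : G, N = MulAut.conj g • M) :
    IsCyclic G ∧ IsPrimePow (Nat.card G) := by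
  -- a maximal subgroup exists
  obtain ⟨M, hM, -⟩ : ∃ M : Subgroup G, IsCoatom M ∧ ⊥ ≤ M := by
    rcases eq_top_or_exists_le_coatom (⊥ : Subgroup G) with h0 | h0
    · exact absurd h0 bot_ne_top
    · exact h0
  -- an element outside all conjugates of M generates G
  obtain ⟨g, hg⟩ := exists_forall_conj_not_mem M hM.1
  have hgen : Subgroup.zpowers g = ⊤ := by
    rcases eq_top_or_exists_le_coatom (Subgroup.zpowers g) with h0 | ⟨N, hN, hle⟩
    · exact h0
    · obtain ⟨k, hk⟩ := h M N hM hN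
      have : g ∈ MulAut.conj k • M := hk ▸ hle (Subgroup.mem_zpowers g)
      rw [mem_conj_smul] at this
      exact absurd this (hg k)
  have hcyc : IsCyclic G := isCyclic_iff_exists_zpowers_eq_top.mpr ⟨g, hgen⟩
  refine ⟨hcyc, ?_⟩
  -- every proper subgroup lies in M
  have hcomm : ∀ a b : G, a * b = b * a := by
    intro a b
    have ha : a ∈ Subgroup.zpowers g := hgen ▸ Subgroup.mem_top a
    have hb : b ∈ Subgroup.zpowers g := hgen ▸ Subgroup.mem_top b
    rw [Subgroup.mem_zpowers_iff] at ha hb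
    obtain ⟨m, rfl⟩ := ha
    obtain ⟨n, rfl⟩ := hb
    exact (Commute.zpow_zpow_self g m n).eq
  have hle : ∀ K : Subgroup G, K ≠ ⊤ → K ≤ M := by
    intro K hK
    rcases eq_top_or_exists_le_coatom K with h0 | ⟨N, hN, hle⟩
    · exact absurd h0 hK
    · obtain ⟨k, hk⟩ := h M N hM hN
      intro x hx
      have : x ∈ MulAut.conj k • M := hk ▸ hle hx
      rw [mem_conj_smul] at this
      have e : k⁻¹ * x * k = x := by rw [mul_assoc, hcomm x k, ← mul_assoc, inv_mul_cancel, one_mul]
      rwa [e] at this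
  have hord : orderOf g = Nat.card G := by
    rw [← Nat.card_zpowers, hgen, Nat.card_congr Subgroup.topEquiv.toEquiv]
  have hcard : 1 < Nat.card G := Finite.one_lt_card
  rw [isPrimePow_iff_unique_prime_dvd]
  obtain ⟨p, hp, hpdvd⟩ := Nat.exists_prime_and_dvd (n := Nat.card G) (by omega)
  refine ⟨p, ⟨hp, hpdvd⟩, ?_⟩
  rintro q ⟨hq, hqdvd⟩
  by_contra hne
  -- the subgroups generated by g^p and g^q are proper
  have hproper : ∀ r : ℕ, r.Prime → r ∣ Nat.card G → Subgroup.zpowers (g ^ r) ≠ ⊤ := by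
    intro r hr hrdvd htop
    have h1 : orderOf (g ^ r) = Nat.card G := by
      rw [← Nat.card_zpowers, htop, Nat.card_congr Subgroup.topEquiv.toEquiv]
    rw [orderOf_pow' g hr.ne_zero, hord, Nat.gcd_eq_right hrdvd] at h1
    have h2 : Nat.card G / r < Nat.card G := Nat.div_lt_self (by omega) hr.one_lt
    omega
  have hp' : g ^ p ∈ M := hle _ (hproper p hp hpdvd) (Subgroup.mem_zpowers _)
  have hq' : g ^ q ∈ M := hle _ (hproper q hq hqdvd) (Subgroup.mem_zpowers _)
  have hcop : Nat.Coprime p q := (Nat.coprime_primes hp hq).mpr (fun e => hne e.symm)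
  have hgM : g ∈ M := by
    have h1 : (g ^ p) ^ (Nat.gcdA p q) * (g ^ q) ^ (Nat.gcdB p q) = g := by
      rw [← zpow_natCast g p, ← zpow_natCast g q, ← zpow_mul, ← zpow_mul, ← zpow_add,
        ← Nat.gcd_eq_gcd_ab, hcop.gcd_eq_one]
      simp
    rw [← h1]
    exact mul_mem (zpow_mem hp' _) (zpow_mem hq' _)
  apply hM.1
  rw [eq_top_iff, ← hgen, Subgroup.zpowers_le]
  exact hgM

end Cfsg.Agent.S4387
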