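import Cfsg.Statements.S4394
import Cfsg.Agent.S0633
import Cfsg.Agent.Lib.helper54.SchmidtX
import Cfsg.Agent.Lib.helper54.SchmidtMain
import Cfsg.Agent.Lib.helper74.Exp6
import Cfsg.Agent.Lib.helper38.HallHigman2
import Cfsg.Agent.Lib.helper27.Radical

set_option autoImplicit false
open Cfsg

namespace Cfsg.Agent.S4394

open Cfsg.Agent.Lib.helper54

/-- Let X be a finite minimal non-nilpotent group (not nilpotent, every proper subgroup nilpotent) with a nontrivial normal Sylow p-subgroup P. If G is a finite p-solvable group whose Sylow p-subgroups are isomorphic to P, then G has p-length at most 1. -/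
theorem result {G X : Type*} [Group G] [Finite G] [Group X] [Finite X] (p : ℕ) [Fact p.Prime]
    (hX : Cfsg.IsMinimalNonNilpotent X) (P : Sylow p X) (hPn : (P : Subgroup X).Normal) (hP1 : (P : Subgroup X) ≠ ⊥)
    (hG : Cfsg.IsPSolvable p G) (Q : Sylow p G) (hQ : Nonempty (↥(Q : Subgroup G) ≃* ↥(P : Subgroup X))) : Cfsg.PLengthLE p 1 G := by
  classical
  have hp : p.Prime := Fact.out
  obtain ⟨e⟩ := hQ
  have hSLP := sl_of_isMinimalNonNilpotent hX P hPn hP1
  have hSLQ : SL p ↥(Q : Subgroup G) := SL.of_mulEquiv e.symm hSLP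
  apply Cfsg.Agent.Lib.helper74.plength_one_of_index_coprime
  by_contra hidx
  have hXs : Cfsg.IsPSolvable p (G ⧸ Cfsg.pPrimeCore p G) :=
    Cfsg.Agent.Lib.helper38.isPSolvable_quotient _ hG
  have hO : Cfsg.pPrimeCore p (G ⧸ Cfsg.pPrimeCore p G) = ⊥ :=
    Cfsg.Agent.Lib.helper38.pPrimeCore_quotient_pPrimeCore p G
  -- the image of `Q` is isomorphic to `Q`
  have hinj : Function.Injective
      ((QuotientGroup.mk' (Cfsg.pPrimeCore p G)).subgroupMap (Q : Subgroup G)) := by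
    rw [injective_iff_map_eq_one]
    intro x hx
    have h1 : QuotientGroup.mk' (Cfsg.pPrimeCore p G) (x : G) = 1 := congrArg Subtype.val hx
    rw [QuotientGroup.mk'_apply, QuotientGroup.eq_one_iff] at h1
    have hd1 : orderOf (x : G) ∣ Nat.card (Cfsg.pPrimeCore p G) :=
      Subgroup.orderOf_dvd_natCard _ h1
    obtain ⟨k, hk⟩ := Q.2 x
    have hk' : (x : G) ^ p ^ k = 1 := by
      have := congrArg Subtype.val hk
      simpa using this
    have hd2 : orderOf (x : G) ∣ p ^ k := orderOf_dvd_of_pow_eq_one hk'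
    have hcop : (Nat.card (Cfsg.pPrimeCore p G)).Coprime (p ^ k) :=
      Nat.Coprime.pow_right k (Cfsg.Agent.Lib.helper27.pPrimeCore_coprime p)
    have h2 : (x : G) = 1 := orderOf_eq_one_iff.mp (Nat.eq_one_of_dvd_coprimes hcop hd1 hd2)
    exact Subtype.ext h2
  have hsurj := (QuotientGroup.mk' (Cfsg.pPrimeCore p G)).subgroupMap_surjective (Q : Subgroup G)
  have hSLb : SL p ↥((Q : Subgroup G).map (QuotientGroup.mk' (Cfsg.pPrimeCore p G))) :=
    SL.of_mulEquiv (MulEquiv.ofBijective _ ⟨hinj, hsurj⟩) hSLQ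
  obtain ⟨Pb, hPb⟩ : ∃ Pb : Sylow p (G ⧸ Cfsg.pPrimeCore p G),
      (Pb : Subgroup (G ⧸ Cfsg.pPrimeCore p G)) = (Q : Subgroup G).map
        (QuotientGroup.mk' (Cfsg.pPrimeCore p G)) :=
    ⟨Q.mapSurjective (QuotientGroup.mk'_surjective _), rfl⟩
  have hSLPb : SL p ↥(Pb : Subgroup (G ⧸ Cfsg.pPrimeCore p G)) := by
    rw [hPb]
    exact hSLb
  have hJ : 5 ≤ p → QuadHyp p := fun hp5 =>
    quadHyp_of_thmB hp5 (fun H _ hsol hOp x hx n hn r hr =>
      Cfsg.Agent.S0633.result H hsol hOp x hx n hn r hr)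
  have hle := sylow_le_pCore_of_SL hJ hXs hO Pb hSLPb
  have hAp : IsPGroup p (Cfsg.pCore p (G ⧸ Cfsg.pPrimeCore p G)) :=
    Cfsg.Agent.Lib.helper40.pCore_isPGroup p _
  have hAn : (Cfsg.pCore p (G ⧸ Cfsg.pPrimeCore p G)).Normal :=
    Cfsg.Agent.Lib.helper40.pCore_normal' p _
  have hAPb : Cfsg.pCore p (G ⧸ Cfsg.pPrimeCore p G) ≤ Pb := hAp.le_sylow_of_normal Pb
  have heq : Cfsg.pCore p (G ⧸ Cfsg.pPrimeCore p G) = Pb := le_antisymm hAPb hle
  apply hidx
  rw [heq]
  exact ((Nat.Prime.coprime_iff_not_dvd hp).mpr Pb.not_dvd_index).symm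

end Cfsg.Agent.S4394
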