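import Cfsg.Statements.S4396
import Cfsg.Agent.Lib.helper68.FrobFreeE

set_option autoImplicit false
open Cfsg

namespace Cfsg.Agent.S4396

/-- Let the finite group A act faithfully and linearly on a finite-dimensional vector space V over a field k, and suppose A is a Frobenius group with nilpotent kernel F (every Frobenius kernel is nilpotent) and complement H such that F fixes no nonzero vector. Then V is free as a module for H: there is a subspace W with V the direct sum of the translates hW, h ∈ H. (No assumption on the characteristic of k.) -/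
theorem result {k V A : Type*} [Field k] [AddCommGroup V] [Module k V] [FiniteDimensional k V] [Group A] [Finite A] [DecidableEq A]
    (ρ : Representation k A V) (hρ : Function.Injective ρ)
    (Fk Hc : Subgroup A) [Fk.Normal] (hHc : Cfsg.IsFrobeniusComplement Hc) (hker : Cfsg.frobeniusKernel Hc = (Fk : Set A)) (hnil : Group.IsNilpotent ↥Fk)
    (hCF : ∀ v : V, (∀ f ∈ Fk, ρ f v = v) → v = 0) :
    ∃ W : Submodule k V, DirectSum.IsInternal (fun h : ↥Hc => W.map (ρ (h : A))) := by
  classical
  have hfree : Cfsg.Agent.Lib.helper68.FF.FreeSub (ρ.comp Hc.subtype) ⊤ := by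
    apply Cfsg.Agent.Lib.helper68.FF.main_gen (k := k) hnil
      ((MulAut.conjNormal (H := Fk)).comp Hc.subtype) ?_ (Module.finrank k V) V
      (ρ.comp Fk.subtype) (ρ.comp Hc.subtype) ?_ ?_ rfl
    · intro h hh f hf
      by_contra hf1
      have hfF : (f : A) ∈ Cfsg.frobeniusKernel Hc := by rw [hker]; exact f.2
      have hcomm : (h : A) * (f : A) * (h : A)⁻¹ = (f : A) := by
        have h0 := congrArg Subtype.val hf
        simpa [MulAut.conjNormal_apply] using h0
      rcases hfF with h1 | h1
      · exact hf1 (Subtype.ext h1)
      · have hfH : (f : A) ∉ Hc := by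
          have h2 := h1 1
          simpa using h2
        have h2 := hHc.2.2 (f : A) hfH
        have h3 : (h : A) ∈ (⊥ : Subgroup A) := by
          rw [← h2]
          refine Subgroup.mem_inf.mpr ⟨h.2, ?_⟩
          rw [Subgroup.mem_pointwise_smul_iff_inv_smul_mem]
          have h4 : (MulAut.conj (f : A))⁻¹ • (h : A) = (h : A) := by
            rw [MulAut.smul_def, MulAut.conj_inv_apply]
            calc (f : A)⁻¹ * (h : A) * (f : A)
                = (f : A)⁻¹ * ((h : A) * (f : A) * (h : A)⁻¹) * (h : A) := by group
              _ = (h : A) := by rw [hcomm]; group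
          rw [h4]
          exact h.2
        exact hh (Subtype.ext (Subgroup.mem_bot.mp h3))
    · intro h f
      show ρ (h : A) * ρ (f : A) = ρ ((MulAut.conjNormal (h : A) f : Fk) : A) * ρ (h : A)
      rw [MulAut.conjNormal_apply, ← map_mul, ← map_mul]
      congr 1
      group
    · intro v hv
      exact hCF v (fun f hf => hv ⟨f, hf⟩)
  exact Cfsg.Agent.Lib.helper68.FF.isInternal_of_freeSub (ρ.comp Hc.subtype) hfree

end Cfsg.Agent.S4396
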