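import Cfsg.Statements.S4398
import Cfsg.Agent.Lib.helper59.MaxClass3

set_option autoImplicit false
open Cfsg

namespace Cfsg.Agent.S4398

open Subgroup Cfsg.Agent.Lib.helper59

/-- Let S be a finite 2-group of sectional 2-rank at most 2 that contains a subgroup isomorphic to the dihedral group of order 8 or to the quaternion group of order 8. Then S is dihedral of order at least 8, semidihedral of order at least 16 (order 2^(k+4) with an element a of order 2^(k+3) and an involution b with b a b⁻¹ = a^(2^(k+2)−1)), or generalized quaternion of order at least 8. -/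
theorem result {S : Type*} [Group S] [Finite S] (h2 : IsPGroup 2 S) (hr : Cfsg.SectionalPRankLE 2 2 S)
    (hsub : ∃ H : Subgroup S, Nonempty (↥H ≃* DihedralGroup 4) ∨ Nonempty (↥H ≃* QuaternionGroup 2)) :
    ((∃ k : ℕ, Nonempty (S ≃* DihedralGroup (2 ^ (k + 2)))) ∨
      (∃ k : ℕ, Nat.card S = 2 ^ (k + 4) ∧ ∃ a b : S, orderOf a = 2 ^ (k + 3) ∧ orderOf b = 2 ∧ b * a * b⁻¹ = a ^ (2 ^ (k + 2) - 1)) ∨
      (∃ k : ℕ, Nonempty (S ≃* QuaternionGroup (2 ^ (k + 1))))) := by
  obtain ⟨T, hT⟩ := hsub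
  have hTrel : MaxRel T := by
    rcases hT with ⟨⟨e⟩⟩ | ⟨⟨e⟩⟩
    · apply maxrel_of_nonabelian_eight T
      · rw [Nat.card_congr e.toEquiv, DihedralGroup.nat_card]
      · refine ⟨e.symm (DihedralGroup.r 1), e.symm (DihedralGroup.sr 0), ?_⟩
        intro h
        have := congrArg e h
        simp only [map_mul, MulEquiv.apply_symm_apply] at this
        revert this; decide
    · apply maxrel_of_nonabelian_eight T
      · rw [Nat.card_congr e.toEquiv, Nat.card_eq_fintype_card, QuaternionGroup.card]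
      · refine ⟨e.symm (QuaternionGroup.a 1), e.symm (QuaternionGroup.xa 0), ?_⟩
        intro h
        have := congrArg e h
        simp only [map_mul, MulEquiv.apply_symm_apply] at this
        revert this; decide
  obtain ⟨e', he'⟩ := (IsPGroup.iff_card (p := 2)).mp h2
  obtain ⟨N, a, b, haK, hbK, ha, hKc, hb, hrel⟩ := hTrel
  have hdvd : Nat.card T ∣ Nat.card S := Subgroup.card_subgroup_dvd_card T
  rw [hKc, he'] at hdvd
  have hle : N + 3 ≤ e' := (Nat.pow_dvd_pow_iff_le_right (by norm_num)).mp hdvd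
  have hc : Nat.card S = Nat.card T * 2 ^ (e' - (N + 3)) := by
    rw [he', hKc, ← pow_add]; congr 1; omega
  obtain ⟨N', a', b', -, -, ha', hS, hb', hrel'⟩ :=
    maxrel_top (fun H Z _ A hA hA2 => hr H Z A hA hA2) _ T hc
      ⟨N, a, b, haK, hbK, ha, hKc, hb, hrel⟩
  rw [Subgroup.card_top] at hS
  rcases hrel' with ⟨hb2, hinv⟩ | ⟨hb2, hinv⟩ | ⟨hN1, hb2, hsd⟩
  · left
    exact ⟨N', dihedral_equiv_of_rel (2 ^ (N' + 2)) a' b' ha' (by rw [hS]; ring) hb' hb2 hinv⟩
  · right; right
    exact ⟨N', quaternion_equiv_of_rel (2 ^ (N' + 1)) a' b' (by rw [ha']; ring)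
      (by rw [hS]; ring) hb' hb2 hinv⟩
  · right; left
    obtain ⟨M, rfl⟩ : ∃ M, N' = M + 1 := ⟨N' - 1, by omega⟩
    refine ⟨M, hS, a', b', ha', ?_, hsd⟩
    exact orderOf_eq_prime hb2 (fun h => hb' (h ▸ one_mem _))

end Cfsg.Agent.S4398
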