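import Cfsg.Statements.S4399
import Cfsg.Agent.S0115
import Cfsg.Agent.S0646
import Cfsg.Agent.Lib.helper59.TwoGroups

set_option autoImplicit false
open Cfsg

namespace Cfsg.Agent.S4399

open Subgroup Cfsg.Agent.Lib.helper59
open scoped commutatorElement

/-- Let S be a finite 2-group whose commutator quotient S/[S,S] is a Klein four-group (order 4 and exponent 2). Then S itself has order 4, or S is dihedral of order at least 8, semidihedral of order at least 16 (order 2^(k+4) with an element a of order 2^(k+3) and an involution b with b a b⁻¹ = a^(2^(k+2)−1)), or generalized quaternion of order at least 8. -/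
theorem result {S : Type*} [Group S] [Finite S] (h2 : IsPGroup 2 S) (hab : Nat.card (Abelianization S) = 4)
    (hexp : ∀ x : Abelianization S, x ^ 2 = 1) :
    Nat.card S = 4 ∨
    ((∃ k : ℕ, Nonempty (S ≃* DihedralGroup (2 ^ (k + 2)))) ∨
      (∃ k : ℕ, Nat.card S = 2 ^ (k + 4) ∧ ∃ a b : S, orderOf a = 2 ^ (k + 3) ∧ orderOf b = 2 ∧ b * a * b⁻¹ = a ^ (2 ^ (k + 2) - 1)) ∨
      (∃ k : ℕ, Nonempty (S ≃* QuaternionGroup (2 ^ (k + 1))))) := by
  obtain ⟨n, hn⟩ := (IsPGroup.iff_card (p := 2) (G := S)).mp h2
  have hidx : (commutator S).index = 4 := by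
    rw [← hab]; rfl
  have hdiv : (4 : ℕ) ∣ 2 ^ n := by
    rw [← hn, ← hidx]; exact Subgroup.index_dvd_card _
  have hn2 : 2 ≤ n := by
    by_contra hcon
    have : n = 0 ∨ n = 1 := by omega
    rcases this with rfl | rfl
    · norm_num at hdiv
    · norm_num at hdiv
  by_cases hn3 : n = 2
  · left; rw [hn, hn3]; norm_num
  right
  have hn3' : 3 ≤ n := by omega
  obtain ⟨-, C, hC, hCi⟩ := Cfsg.Agent.S0115.taussky n S hn2 hn hidx
  -- S is not abelian
  have hna : ∃ x y : S, x * y ≠ y * x := by
    by_contra hcon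
    push Not at hcon
    have hbot : commutator S = ⊥ := by
      rw [_root_.commutator_def, Subgroup.commutator_eq_bot_iff_le_centralizer]
      intro x _
      rw [Subgroup.mem_centralizer_iff]
      intro y _
      exact hcon y x
    rw [hbot, Subgroup.index_bot, hn] at hidx
    have : (2 : ℕ) ^ 3 ≤ 2 ^ n := Nat.pow_le_pow_right (by norm_num) hn3'
    omega
  obtain ⟨a, b, hord, hb, hcase⟩ := Cfsg.Agent.S0646.result n hn3' hn C hC hCi hna
  obtain ⟨N, rfl⟩ : ∃ N, n = N + 3 := ⟨n - 3, by omega⟩
  rw [show N + 3 - 1 = N + 2 from rfl] at hord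
  rw [show N + 3 - 2 = N + 1 from rfl] at hcase
  rcases hcase with ⟨hb2, hinv⟩ | ⟨hb2, hinv⟩ | ⟨h4, hb2, hmod⟩ | ⟨h4, hb2, hsd⟩
  · -- dihedral
    left
    refine ⟨N, dihedral_equiv_of_rel (2 ^ (N + 2)) a b hord ?_ hb hb2 hinv⟩
    rw [hn]; ring
  · -- quaternion
    right; right
    refine ⟨N, quaternion_equiv_of_rel (2 ^ (N + 1)) a b ?_ ?_ hb hb2 hinv⟩
    · rw [hord]; ring
    · rw [hn]; ring
  · -- modular: excluded
    exfalso
    obtain ⟨M, rfl⟩ : ∃ M, N = M + 1 := ⟨N - 1, by omega⟩
    set z := a ^ (2 ^ (M + 1 + 1)) with hz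
    have hapow : a ^ (2 ^ (M + 1 + 2)) = 1 := by rw [← hord]; exact pow_orderOf_eq_one a
    have hz2 : z ^ 2 = 1 := by
      rw [hz, ← pow_mul, ← hapow]; congr 1
    have hbz : b * z * b⁻¹ = z := by
      rw [hz, ← conj_pow, hmod, ← pow_mul, add_mul, pow_add, one_mul]
      have : a ^ (2 ^ (M + 1 + 1) * 2 ^ (M + 1 + 1)) = 1 := by
        rw [show (2 : ℕ) ^ (M + 1 + 1) * 2 ^ (M + 1 + 1) = 2 ^ (M + 1 + 2) * 2 ^ (M + 1) by ring,
          pow_mul, hapow, one_pow]
      rw [this, mul_one]
    -- closure {a, b} = ⊤
    have hcl : Subgroup.closure ({a, b} : Set S) = ⊤ := by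
      have hle : zpowers a ≤ Subgroup.closure ({a, b} : Set S) :=
        zpowers_le.mpr (Subgroup.subset_closure (by simp))
      have hai : (zpowers a).index = 2 := by
        have h1 := Subgroup.card_mul_index (zpowers a)
        rw [Nat.card_zpowers, hord, hn] at h1
        have h3 : (2 : ℕ) ^ (M + 1 + 3) = 2 ^ (M + 1 + 2) * 2 := by ring
        rw [h3] at h1
        exact Nat.eq_of_mul_eq_mul_left (by positivity) h1
      have hdvd := Subgroup.index_dvd_of_le hle
      rw [hai] at hdvd
      rcases (Nat.dvd_prime Nat.prime_two).mp hdvd with h1 | h1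
      · exact Subgroup.index_eq_one.mp h1
      · exfalso
        apply hb
        have heq : zpowers a = Subgroup.closure ({a, b} : Set S) := by
          apply Subgroup.eq_of_le_of_card_ge hle
          have e1 := Subgroup.card_mul_index (zpowers a)
          have e2 := Subgroup.card_mul_index (Subgroup.closure ({a, b} : Set S))
          rw [hai] at e1; rw [h1] at e2
          omega
        rw [heq]
        exact Subgroup.subset_closure (by simp)
    have hzc : ∀ g : S, g * z = z * g := by
      have hle : Subgroup.closure ({a, b} : Set S) ≤ Subgroup.centralizer {z} := by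
        rw [Subgroup.closure_le]
        intro g hg
        rw [SetLike.mem_coe, Subgroup.mem_centralizer_singleton_iff]
        rcases hg with rfl | rfl
        · rw [hz, ← pow_succ', ← pow_succ]
        · calc g * z = (g * z * g⁻¹) * g := by group
            _ = z * g := by rw [hbz]
      intro g
      have := hle (hcl ▸ Subgroup.mem_top g)
      exact Subgroup.mem_centralizer_singleton_iff.mp this
    have hNn : (zpowers z).Normal := by
      constructor
      intro x hx g
      have hxc : g * x = x * g := by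
        obtain ⟨i, rfl⟩ := mem_zpowers_iff.mp hx
        exact ((Commute.zpow_right (show Commute g z from hzc g)) i)
      have : g * x * g⁻¹ = x := by rw [hxc]; group
      rw [this]; exact hx
    have hcomm : commutator S ≤ zpowers z := by
      apply Cfsg.Agent.S0115.commutator_le_of_generators (zpowers z) {a, b} hcl
      have hab' : ⁅a, b⁆ = z⁻¹ := by
        have h1 : b * a⁻¹ * b⁻¹ = (a ^ (1 + 2 ^ (M + 1 + 1)))⁻¹ := by
          rw [← hmod]; group
        rw [commutatorElement_def, mul_assoc a b, mul_assoc, h1, pow_add, pow_one,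
          mul_inv_rev, ← mul_assoc]
        exact (((Commute.refl a).pow_right _).inv_right).mul_inv_cancel
      have hba' : ⁅b, a⁆ = z := by
        rw [← commutatorElement_inv, hab', inv_inv]
      intro s hs t ht
      rcases hs with rfl | hs
      · rcases ht with rfl | ht
        · rw [commutatorElement_self]; exact one_mem _
        · rw [Set.mem_singleton_iff.mp ht, hab']; exact inv_mem (mem_zpowers z)
      · rw [Set.mem_singleton_iff.mp hs]
        rcases ht with rfl | ht
        · rw [hba']; exact mem_zpowers z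
        · rw [Set.mem_singleton_iff.mp ht, commutatorElement_self]; exact one_mem _
    have hdvd := Subgroup.index_dvd_of_le hcomm
    rw [hidx] at hdvd
    have hle4 : (zpowers z).index ≤ 4 := Nat.le_of_dvd (by norm_num) hdvd
    have hcard := Subgroup.card_mul_index (zpowers z)
    rw [Nat.card_zpowers, hn] at hcard
    have hoz : orderOf z ≤ 2 := Nat.le_of_dvd (by norm_num) (orderOf_dvd_of_pow_eq_one hz2)
    have h16 : (2 : ℕ) ^ 4 ≤ 2 ^ (M + 1 + 3) := Nat.pow_le_pow_right (by norm_num) (by omega)
    nlinarith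
  · -- semidihedral
    right; left
    obtain ⟨M, rfl⟩ : ∃ M, N = M + 1 := ⟨N - 1, by omega⟩
    refine ⟨M, hn, a, b, hord, ?_, hsd⟩
    apply orderOf_eq_prime hb2
    intro h1
    exact hb (h1 ▸ one_mem _)

end Cfsg.Agent.S4399
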