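-- Statement S4400 (sectional 2-rank at most 4: two normal non-abelian subgroups with different centres of order 2).
import Cfsg.Statements.S4400
import Cfsg.Agent.S0126
import Cfsg.Agent.Lib.helper3.PGroupFrattini
import Cfsg.Agent.Lib.helper3.PGroupNormal
import Cfsg.Agent.Lib.helper13.Count

set_option autoImplicit false
open Cfsg

namespace Cfsg.Agent.S4400

open Subgroup
open scoped commutatorElement Pointwise

/-- A section `H / N` of exponent `p` of a group of sectional `p`-rank at most `k` has order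
at most `p ^ k`. -/
theorem card_le_of_sectional {S : Type*} [Group S] [Finite S] {p k : ℕ}
    (hr : Cfsg.SectionalPRankLE p k S) (H N : Subgroup S) (hNH : N ≤ H)
    (hnorm : ∀ h ∈ H, ∀ n ∈ N, h * n * h⁻¹ ∈ N) (hpow : ∀ h ∈ H, h ^ p ∈ N)
    (hcomm : ∀ h₁ ∈ H, ∀ h₂ ∈ H, h₁ * h₂ * h₁⁻¹ * h₂⁻¹ ∈ N) :
    Nat.card H ≤ p ^ k * Nat.card N := by
  have hN' : (N.subgroupOf H).Normal := by
    refine ⟨fun n hn h => ?_⟩
    rw [mem_subgroupOf] at hn ⊢
    exact hnorm h h.2 n hn
  have hc : IsMulCommutative ↥(⊤ : Subgroup (↥H ⧸ N.subgroupOf H)) := by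
    refine ⟨⟨fun a b => ?_⟩⟩
    apply Subtype.ext
    obtain ⟨a, ha⟩ := a
    obtain ⟨b, hb⟩ := b
    show a * b = b * a
    induction a using QuotientGroup.induction_on with
    | H a =>
      induction b using QuotientGroup.induction_on with
      | H b =>
        rw [← QuotientGroup.mk_mul, ← QuotientGroup.mk_mul, QuotientGroup.eq, mem_subgroupOf]
        have := hcomm (b : S)⁻¹ (H.inv_mem b.2) (a : S)⁻¹ (H.inv_mem a.2)
        have e : ((a * b)⁻¹ * (b * a) : ↥H) = ((b : S)⁻¹ * (a : S)⁻¹ * (b : S)⁻¹⁻¹ * (a : S)⁻¹⁻¹ : S) := by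
          simp only [Subgroup.coe_mul, Subgroup.coe_inv]; group
        rw [e]; exact this
  have hp : ∀ a ∈ (⊤ : Subgroup (↥H ⧸ N.subgroupOf H)), a ^ p = 1 := by
    intro a _
    induction a using QuotientGroup.induction_on with
    | H a =>
      rw [← QuotientGroup.mk_pow, QuotientGroup.eq_one_iff, mem_subgroupOf]
      simpa using hpow a a.2
  have h1 := hr H (N.subgroupOf H) ⊤ hc hp
  rw [Subgroup.card_top, ← Subgroup.index_eq_card] at h1
  have h2 : (N.subgroupOf H).index = N.relIndex H := rfl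
  have h3 := Cfsg.Agent.Lib.helper13.relIndex_mul_card_of_le hNH
  calc Nat.card H = N.relIndex H * Nat.card N := h3.symm
    _ ≤ p ^ k * Nat.card N := Nat.mul_le_mul_right _ (h2 ▸ h1)

/-- In a non-abelian finite `2`-group, the Frattini subgroup together with a central element
generates a subgroup of index at least `4`. -/
theorem four_mul_card_le {P : Type*} [Group P] [Finite P] (hP : IsPGroup 2 P) (z : P)
    (hz : ∀ x : P, x * z = z * x) (hna : ¬ IsMulCommutative P) :
    4 * Nat.card ↥(frattini P ⊔ zpowers z) ≤ Nat.card P := by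
  set F : Subgroup P := frattini P ⊔ zpowers z with hF
  by_contra hlt
  rw [not_le] at hlt
  -- the index of `F` is at most `2`
  have hidx : F.index ≤ 2 := by
    have h1 := Subgroup.card_mul_index F
    obtain ⟨a, ha⟩ := (IsPGroup.iff_card.mp hP)
    have h2 : F.index ∣ 2 ^ a := by rw [← ha, ← h1]; exact dvd_mul_left _ _
    obtain ⟨b, -, hb⟩ := (Nat.dvd_prime_pow Nat.prime_two).mp h2
    rcases b with _ | _ | b
    · rw [hb]; norm_num
    · rw [hb]; norm_num
    · exfalso
      have h4 : 4 ∣ F.index := by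
        rw [hb, pow_succ, pow_succ]
        exact ⟨2 ^ b, by ring⟩
      obtain ⟨c, hc⟩ := h4
      have hc0 : c ≠ 0 := by
        rintro rfl
        have : F.index ≠ 0 := Subgroup.index_ne_zero_of_finite
        omega
      have : 4 * Nat.card F ≤ Nat.card P := by
        rw [← h1, hc]
        have : 1 ≤ c := Nat.one_le_iff_ne_zero.mpr hc0
        nlinarith
      omega
  -- there is `g` with `zpowers g ⊔ F = ⊤`
  obtain ⟨g, hg⟩ : ∃ g : P, zpowers g ⊔ F = ⊤ := by
    by_cases hFt : F = ⊤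
    · exact ⟨1, by rw [hFt]; simp⟩
    · obtain ⟨g, hgF⟩ : ∃ g : P, g ∉ F := by
        by_contra hall
        push Not at hall
        exact hFt (eq_top_iff.mpr fun x _ => hall x)
      refine ⟨g, ?_⟩
      have h1 : F ≤ zpowers g ⊔ F := le_sup_right
      have h2 : (zpowers g ⊔ F).index ∣ F.index := Subgroup.index_dvd_of_le h1
      have h3 : F.index ≠ 1 := fun h => hFt (Subgroup.index_eq_one.mp h)
      have h4 : F.index = 2 := by
        have : F.index ≠ 0 := Subgroup.index_ne_zero_of_finite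
        omega
      rw [h4] at h2
      rcases (Nat.dvd_prime Nat.prime_two).mp h2 with h5 | h5
      · exact Subgroup.index_eq_one.mp h5
      · exfalso
        have h6 : F = zpowers g ⊔ F := by
          apply Subgroup.eq_of_le_of_card_ge h1
          have e1 := Subgroup.card_mul_index F
          have e2 := Subgroup.card_mul_index (zpowers g ⊔ F)
          rw [h4] at e1
          rw [h5] at e2
          omega
        apply hgF
        rw [h6]
        exact le_sup_left (a := zpowers g) (mem_zpowers g)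
  -- hence `zpowers g ⊔ zpowers z = ⊤`
  have hgz : zpowers g ⊔ zpowers z = ⊤ := by
    apply frattini_nongenerating
    rw [hF] at hg
    rw [← hg]
    rw [sup_assoc, sup_comm (zpowers z) (frattini P)]
  -- so `P` is commutative
  apply hna
  have hcent : zpowers g ⊔ zpowers z ≤ center P := by
    have hzc : z ∈ center P := by
      rw [Subgroup.mem_center_iff]; exact hz
    have hT : zpowers g ⊔ zpowers z ≤ centralizer ({g} : Set P) := by
      refine sup_le ?_ ?_
      · rw [zpowers_le, mem_centralizer_iff]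
        intro y hy
        rw [Set.mem_singleton_iff] at hy
        rw [hy]
      · rw [zpowers_le, mem_centralizer_iff]
        intro y hy
        exact (hz y)
    intro w hw
    rw [Subgroup.mem_center_iff]
    intro y
    have hy : y ∈ zpowers g ⊔ zpowers z := by rw [hgz]; trivial
    -- `w` commutes with `g` and `z`, hence with everything
    have hwT : zpowers g ⊔ zpowers z ≤ centralizer ({w} : Set P) := by
      refine sup_le ?_ ?_
      · rw [zpowers_le, mem_centralizer_iff]
        intro y hy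
        rw [Set.mem_singleton_iff] at hy
        rw [hy]
        have := hT hw
        rw [mem_centralizer_iff] at this
        exact (this g rfl).symm
      · rw [zpowers_le, mem_centralizer_iff]
        intro y hy
        exact (hz y)
    have := hwT hy
    rw [mem_centralizer_iff] at this
    exact (this w rfl).symm
  rw [hgz] at hcent
  refine ⟨⟨fun a b => ?_⟩⟩
  have := hcent (Subgroup.mem_top a)
  rw [Subgroup.mem_center_iff] at this
  exact (this b).symm

/-- The generator of a centre of order `2` of a subgroup. -/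
theorem center_gen {S : Type*} [Group S] (P : Subgroup S)
    (h : Nat.card ↥(center ↥P) = 2) :
    ∃ z : S, z ∈ P ∧ z ≠ 1 ∧ (∀ x ∈ P, x * z = z * x) ∧
      (∀ w ∈ P, (∀ x ∈ P, x * w = w * x) → w = 1 ∨ w = z) ∧
      ∀ s : S, s ∈ (center ↥P).map P.subtype ↔ s = 1 ∨ s = z := by
  obtain ⟨z', hz'1, hz'u⟩ := (Nat.card_eq_two_iff' (1 : ↥(center ↥P))).mp h
  have hzc : ∀ x : ↥P, x * (z' : ↥P) = (z' : ↥P) * x := by
    intro x
    have := z'.2
    rw [Subgroup.mem_center_iff] at this
    exact this x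
  have huniq : ∀ w ∈ P, (∀ x ∈ P, x * w = w * x) → w = 1 ∨ w = ((z' : ↥P) : S) := by
    intro w hw hwc
    have hwc' : (⟨w, hw⟩ : ↥P) ∈ center ↥P := by
      rw [Subgroup.mem_center_iff]
      intro x
      apply Subtype.ext
      exact hwc x x.2
    by_cases h1 : (⟨⟨w, hw⟩, hwc'⟩ : ↥(center ↥P)) = 1
    · left
      have := congrArg (fun t : ↥(center ↥P) => ((t : ↥P) : S)) h1
      simpa using this
    · right
      have := hz'u _ h1
      have := congrArg (fun t : ↥(center ↥P) => ((t : ↥P) : S)) this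
      simpa using this
  refine ⟨((z' : ↥P) : S), (z' : ↥P).2, ?_, ?_, huniq, ?_⟩
  · intro h1
    apply hz'1
    apply Subtype.ext
    apply Subtype.ext
    simpa using h1
  · intro x hx
    have := hzc ⟨x, hx⟩
    exact congrArg Subtype.val this
  · intro s
    constructor
    · rintro ⟨w, hw, rfl⟩
      apply huniq _ w.2
      intro x hx
      rw [SetLike.mem_coe, Subgroup.mem_center_iff] at hw
      have := hw ⟨x, hx⟩
      exact congrArg Subtype.val this
    · rintro (rfl | rfl)
      · exact Subgroup.one_mem _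
      · exact ⟨(z' : ↥P), z'.2, rfl⟩

/-- Let S be a finite 2-group of sectional 2-rank at most 4, and let P and Q be normal non-abelian subgroups of S whose centres have order 2 and are different. Then P and Q commute elementwise and intersect trivially, and PQ contains its own centralizer in S. -/
theorem result {S : Type*} [Group S] [Finite S] (h2 : IsPGroup 2 S) (hr : Cfsg.SectionalPRankLE 2 4 S)
    (P Q : Subgroup S) [P.Normal] [Q.Normal] (hP : ¬ IsMulCommutative ↥P) (hQ : ¬ IsMulCommutative ↥Q)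
    (hZP : Nat.card ↥(Subgroup.center ↥P) = 2) (hZQ : Nat.card ↥(Subgroup.center ↥Q) = 2)
    (hne : (Subgroup.center ↥P).map P.subtype ≠ (Subgroup.center ↥Q).map Q.subtype) :
    ⁅P, Q⁆ = ⊥ ∧ P ⊓ Q = ⊥ ∧ Subgroup.centralizer ((P ⊔ Q : Subgroup S) : Set S) ≤ P ⊔ Q := by
  classical
  have : Fact (Nat.Prime 2) := ⟨Nat.prime_two⟩
  obtain ⟨zP, hzP, hzP1, hzPc, hzPu, hzPm⟩ := center_gen P hZP
  obtain ⟨zQ, hzQ, hzQ1, hzQc, hzQu, hzQm⟩ := center_gen Q hZQ
  have hzne : zP ≠ zQ := by
    intro h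
    apply hne
    ext s
    rw [hzPm, hzQm, h]
  -- the generators of the centres are central in `S`
  have central : ∀ (R : Subgroup S) [R.Normal] (z : S), z ∈ R → z ≠ 1 → (∀ x ∈ R, x * z = z * x) →
      (∀ w ∈ R, (∀ x ∈ R, x * w = w * x) → w = 1 ∨ w = z) → ∀ g : S, g * z = z * g := by
    intro R hRn z hz hz1 hzc hzu g
    have hw : g * z * g⁻¹ ∈ R := hRn.conj_mem z hz g
    have hwc : ∀ x ∈ R, x * (g * z * g⁻¹) = (g * z * g⁻¹) * x := by
      intro x hx
      have hx' : g⁻¹ * x * g⁻¹⁻¹ ∈ R := hRn.conj_mem x hx g⁻¹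
      have := hzc _ hx'
      calc x * (g * z * g⁻¹) = g * ((g⁻¹ * x * g⁻¹⁻¹) * z) * g⁻¹ := by group
        _ = g * (z * (g⁻¹ * x * g⁻¹⁻¹)) * g⁻¹ := by rw [this]
        _ = (g * z * g⁻¹) * x := by group
    rcases hzu _ hw hwc with h | h
    · exfalso
      apply hz1
      calc z = g⁻¹ * (g * z * g⁻¹) * g := by group
        _ = 1 := by rw [h]; group
    · calc g * z = (g * z * g⁻¹) * g := by group
        _ = z * g := by rw [h]
  have hzPS := central P zP hzP hzP1 hzPc hzPu
  have hzQS := central Q zQ hzQ hzQ1 hzQc hzQu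
  -- `P ⊓ Q = ⊥`
  have hPQ : P ⊓ Q = ⊥ := by
    by_contra hne'
    have hDn : ((P ⊓ Q).subgroupOf P).Normal := Subgroup.Normal.subgroupOf inferInstance P
    have hD : (P ⊓ Q).subgroupOf P ≠ ⊥ := by
      intro h
      rw [Subgroup.subgroupOf_eq_bot, disjoint_iff, inf_assoc, inf_comm Q P, ← inf_assoc,
        inf_idem] at h
      exact hne' h
    obtain ⟨w, hwD, hwc, hw1, -⟩ :=
      Cfsg.Agent.Lib.helper3.exists_central_of_normal_ne_bot (h2.to_subgroup P)
        ((P ⊓ Q).subgroupOf P) hD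
    rw [mem_subgroupOf] at hwD
    have hwz : (w : S) = zP := by
      have hwc' : ∀ x ∈ P, x * (w : S) = (w : S) * x := by
        intro x hx
        rw [Subgroup.mem_center_iff] at hwc
        exact congrArg Subtype.val (hwc ⟨x, hx⟩)
      rcases hzPu _ w.2 hwc' with h | h
      · exfalso; apply hw1; exact Subtype.ext h
      · exact h
    have hzPQ : zP ∈ Q := by rw [← hwz]; exact hwD.2
    rcases hzQu zP hzPQ (fun x _ => hzPS x) with h | h
    · exact hzP1 h
    · exact hzne h
  have hcomm0 : ⁅P, Q⁆ = ⊥ := by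
    rw [eq_bot_iff, ← hPQ]
    exact Subgroup.commutator_le_inf P Q
  refine ⟨hcomm0, hPQ, ?_⟩
  have hPQc : ∀ x ∈ P, ∀ y ∈ Q, x * y = y * x := by
    intro x hx y hy
    have := (Subgroup.commutator_eq_bot_iff_le_centralizer.mp hcomm0) hx
    rw [mem_centralizer_iff] at this
    exact (this y hy).symm
  -- the centralizer of `P ⊔ Q`
  by_contra hC
  set K : Subgroup S := P ⊔ Q with hK
  set C : Subgroup S := centralizer (K : Set S) with hCdef
  have hlt : K ⊓ C < C := by
    refine lt_of_le_of_ne inf_le_right ?_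
    intro h
    apply hC
    rw [← h]
    exact inf_le_left
  obtain ⟨x, hxC, hxA, hx2, -⟩ :=
    Cfsg.Agent.Lib.helper3.exists_mem_not_mem_of_normal_lt h2 (K ⊓ C) C hlt
  have hxK : x ∉ K := fun h => hxA ⟨h, hxC⟩
  have hxc : ∀ k ∈ K, k * x = x * k := by
    intro k hk
    rw [hCdef, mem_centralizer_iff] at hxC
    exact hxC k hk
  have hPK : P ≤ K := le_sup_left
  have hQK : Q ≤ K := le_sup_right
  -- decompose `x ^ 2`
  have hx2K : x ^ 2 ∈ K := hx2.1
  have hx2c : ∀ k ∈ K, k * x ^ 2 = x ^ 2 * k := by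
    intro k hk
    have h3 : x ^ 2 ∈ centralizer (K : Set S) := hx2.2
    rw [mem_centralizer_iff] at h3
    exact h3 k hk
  obtain ⟨p₀, hp₀, q₀, hq₀, hpq⟩ : ∃ p₀ ∈ P, ∃ q₀ ∈ Q, p₀ * q₀ = x ^ 2 := by
    have : x ^ 2 ∈ ((P ⊔ Q : Subgroup S) : Set S) := hx2K
    rw [Subgroup.normal_mul] at this
    obtain ⟨a, ha, b, hb, hab⟩ := Set.mem_mul.mp this
    exact ⟨a, ha, b, hb, hab⟩
  have hp₀c : p₀ = 1 ∨ p₀ = zP := by
    apply hzPu _ hp₀
    intro y hy
    have e1 : p₀ = x ^ 2 * q₀⁻¹ := by rw [← hpq]; group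
    have e2 := hx2c y (hPK hy)
    have e3 := hPQc y hy q₀⁻¹ (Q.inv_mem hq₀)
    rw [e1]
    calc y * (x ^ 2 * q₀⁻¹) = (y * x ^ 2) * q₀⁻¹ := by group
      _ = (x ^ 2 * y) * q₀⁻¹ := by rw [e2]
      _ = x ^ 2 * (y * q₀⁻¹) := by group
      _ = x ^ 2 * (q₀⁻¹ * y) := by rw [e3]
      _ = x ^ 2 * q₀⁻¹ * y := by group
  have hq₀c : q₀ = 1 ∨ q₀ = zQ := by
    apply hzQu _ hq₀
    intro y hy
    have e1 : q₀ = p₀⁻¹ * x ^ 2 := by rw [← hpq]; group
    have e2 := hx2c y (hQK hy)
    have e3 := hPQc p₀⁻¹ (P.inv_mem hp₀) y hy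
    rw [e1]
    calc y * (p₀⁻¹ * x ^ 2) = (y * p₀⁻¹) * x ^ 2 := by group
      _ = (p₀⁻¹ * y) * x ^ 2 := by rw [e3]
      _ = p₀⁻¹ * (y * x ^ 2) := by group
      _ = p₀⁻¹ * (x ^ 2 * y) := by rw [e2]
      _ = p₀⁻¹ * x ^ 2 * y := by group
  -- the subgroups generated by the squares and the central involution
  let TP : Set S := {s | (∃ y ∈ P, s = y ^ 2) ∨ s = zP}
  let TQ : Set S := {s | (∃ y ∈ Q, s = y ^ 2) ∨ s = zQ}
  set NP : Subgroup S := closure TP with hNP
  set NQ : Subgroup S := closure TQ with hNQ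
  have hNPn : NP.Normal := by
    apply Cfsg.Agent.S0126.normal_closure_of_conj_invariant
    rintro g s (⟨y, hy, rfl⟩ | hs)
    · left
      refine ⟨g * y * g⁻¹, Subgroup.Normal.conj_mem inferInstance y hy g, ?_⟩
      rw [conj_pow]
    · right
      rw [hs]
      calc g * zP * g⁻¹ = (g * zP) * g⁻¹ := by group
        _ = (zP * g) * g⁻¹ := by rw [hzPS g]
        _ = zP := by group
  have hNQn : NQ.Normal := by
    apply Cfsg.Agent.S0126.normal_closure_of_conj_invariant
    rintro g s (⟨y, hy, rfl⟩ | hs)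
    · left
      refine ⟨g * y * g⁻¹, Subgroup.Normal.conj_mem inferInstance y hy g, ?_⟩
      rw [conj_pow]
    · right
      rw [hs]
      calc g * zQ * g⁻¹ = (g * zQ) * g⁻¹ := by group
        _ = (zQ * g) * g⁻¹ := by rw [hzQS g]
        _ = zQ := by group
  have hNPP : NP ≤ P := by
    rw [hNP, closure_le]
    rintro s (⟨y, hy, rfl⟩ | hs)
    · exact P.pow_mem hy 2
    · rw [hs]; exact hzP
  have hNQQ : NQ ≤ Q := by
    rw [hNQ, closure_le]
    rintro s (⟨y, hy, rfl⟩ | hs)
    · exact Q.pow_mem hy 2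
    · rw [hs]; exact hzQ
  set N : Subgroup S := NP ⊔ NQ with hN
  have hNn : N.Normal := inferInstance
  set H : Subgroup S := K ⊔ zpowers x with hH
  have hKH : K ≤ H := le_sup_left
  have hNK : N ≤ K := sup_le (hNPP.trans hPK) (hNQQ.trans hQK)
  -- squares of elements of `H` lie in `N`
  have hx2N : x ^ 2 ∈ N := by
    rw [← hpq]
    apply N.mul_mem
    · apply le_sup_left (a := NP) (b := NQ)
      rcases hp₀c with h | h
      · rw [h]; exact Subgroup.one_mem _
      · rw [h]; exact subset_closure (Or.inr rfl)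
    · apply le_sup_right (a := NP) (b := NQ)
      rcases hq₀c with h | h
      · rw [h]; exact Subgroup.one_mem _
      · rw [h]; exact subset_closure (Or.inr rfl)
  have hsq : ∀ h ∈ H, h ^ 2 ∈ N := by
    intro h hh
    have hh' : h ∈ ((K ⊔ zpowers x : Subgroup S) : Set S) := hh
    rw [Subgroup.normal_mul] at hh'
    obtain ⟨k, hk, y, hy, rfl⟩ := Set.mem_mul.mp hh'
    have hk' : k ∈ ((P ⊔ Q : Subgroup S) : Set S) := hk
    rw [Subgroup.normal_mul] at hk'
    obtain ⟨a, ha, b, hb, rfl⟩ := Set.mem_mul.mp hk'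
    obtain ⟨i, rfl⟩ := mem_zpowers_iff.mp hy
    have c1 : Commute (a * b) (x ^ i) := (Commute.zpow_right (hxc _ hk) i)
    have c2 : Commute a b := hPQc a ha b hb
    rw [c1.mul_pow, c2.mul_pow]
    apply N.mul_mem
    · apply N.mul_mem
      · exact le_sup_left (a := NP) (b := NQ) (subset_closure (Or.inl ⟨a, ha, rfl⟩))
      · exact le_sup_right (a := NP) (b := NQ) (subset_closure (Or.inl ⟨b, hb, rfl⟩))
    · have : (x ^ i) ^ 2 = (x ^ 2) ^ i := by
        rw [← zpow_natCast, ← zpow_mul, mul_comm, zpow_mul, zpow_natCast]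
      rw [this]
      exact N.zpow_mem hx2N i
  have hcm : ∀ h₁ ∈ H, ∀ h₂ ∈ H, h₁ * h₂ * h₁⁻¹ * h₂⁻¹ ∈ N := by
    intro h₁ hh₁ h₂ hh₂
    have e : h₁ * h₂ * h₁⁻¹ * h₂⁻¹ = h₁ ^ 2 * (h₁⁻¹ * h₂) ^ 2 * (h₂⁻¹) ^ 2 := by
      rw [pow_two, pow_two, pow_two]; group
    rw [e]
    exact N.mul_mem (N.mul_mem (hsq _ hh₁) (hsq _ (H.mul_mem (H.inv_mem hh₁) hh₂)))
      (hsq _ (H.inv_mem hh₂))
  have hbound := card_le_of_sectional hr H N (hNK.trans hKH)
    (fun h _ n hn => hNn.conj_mem n hn h) hsq hcm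
  -- cardinalities
  have hK2 : 2 * Nat.card K ≤ Nat.card H := by
    have h1 : Nat.card K ∣ Nat.card H := Subgroup.card_dvd_of_le hKH
    obtain ⟨c, hc⟩ := h1
    have hc1 : c ≠ 1 := by
      rintro rfl
      rw [mul_one] at hc
      have : K = H := Subgroup.eq_of_le_of_card_ge hKH hc.le
      apply hxK
      rw [this]
      exact le_sup_right (a := K) (mem_zpowers x)
    have hc0 : c ≠ 0 := by
      rintro rfl
      rw [mul_zero] at hc
      exact (Nat.card_pos (α := H)).ne' hc
    rw [hc]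
    have : 2 ≤ c := by omega
    nlinarith
  have hKcard : Nat.card K = Nat.card P * Nat.card Q := by
    have := Cfsg.Agent.Lib.helper13.card_sup_mul_card_inf P Q
      (fun y _ => by rw [Subgroup.normalizer_eq_top]; trivial)
    rw [hPQ, Subgroup.card_bot, mul_one] at this
    exact this
  have hNcard : Nat.card N = Nat.card NP * Nat.card NQ := by
    have := Cfsg.Agent.Lib.helper13.card_sup_mul_card_inf NP NQ
      (fun y _ => by rw [Subgroup.normalizer_eq_top]; trivial)
    have hbot : NP ⊓ NQ = ⊥ := by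
      rw [eq_bot_iff, ← hPQ]
      exact inf_le_inf hNPP hNQQ
    rw [hbot, Subgroup.card_bot, mul_one] at this
    exact this
  -- `4 * |NP| ≤ |P|`
  have four : ∀ (R : Subgroup S) (z : S) (T : Set S), z ∈ R → (∀ x ∈ R, x * z = z * x) →
      ¬ IsMulCommutative ↥R → (∀ s ∈ T, (∃ y ∈ R, s = y ^ 2) ∨ s = z) →
      4 * Nat.card ↥(closure T) ≤ Nat.card R := by
    intro R z T hz hzc hRna hT
    have h4 := four_mul_card_le (h2.to_subgroup R) (⟨z, hz⟩ : ↥R)
      (fun x => Subtype.ext (hzc x x.2)) hRna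
    have hle : closure T ≤ (frattini ↥R ⊔ zpowers (⟨z, hz⟩ : ↥R)).map R.subtype := by
      rw [closure_le]
      intro s hs
      rcases hT s hs with ⟨y, hy, rfl⟩ | rfl
      · refine ⟨(⟨y, hy⟩ : ↥R) ^ 2, ?_, rfl⟩
        apply le_sup_left (a := frattini ↥R)
        exact Cfsg.Agent.Lib.helper3.pow_prime_mem_frattini (h2.to_subgroup R) _
      · refine ⟨(⟨s, hz⟩ : ↥R), ?_, rfl⟩
        exact le_sup_right (a := frattini ↥R) (mem_zpowers _)
    have h5 : Nat.card ↥(closure T) ≤ Nat.card ↥(frattini ↥R ⊔ zpowers (⟨z, hz⟩ : ↥R)) := by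
      have := Subgroup.card_le_of_le hle
      rwa [Subgroup.card_map_of_injective (Subgroup.subtype_injective R)] at this
    omega
  have hP4 : 4 * Nat.card NP ≤ Nat.card P :=
    four P zP TP hzP hzPc hP (fun s hs => hs)
  have hQ4 : 4 * Nat.card NQ ≤ Nat.card Q :=
    four Q zQ TQ hzQ hzQc hQ (fun s hs => hs)
  -- contradiction
  have hNPpos : 0 < Nat.card NP := Nat.card_pos
  have hNQpos : 0 < Nat.card NQ := Nat.card_pos
  have h16 : 16 * (Nat.card NP * Nat.card NQ) ≤ Nat.card P * Nat.card Q := by nlinarith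
  have : 2 * (Nat.card P * Nat.card Q) ≤ 2 ^ 4 * (Nat.card NP * Nat.card NQ) := by
    rw [← hKcard, ← hNcard]
    exact hK2.trans hbound
  have hpos : 0 < Nat.card NP * Nat.card NQ := Nat.mul_pos hNPpos hNQpos
  norm_num at this
  omega

end Cfsg.Agent.S4400
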