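import Cfsg.Statements.S4401
import Cfsg.Agent.Lib.helper68.SecC

set_option autoImplicit false
open Cfsg

namespace Cfsg.Agent.S4401

/-- Let S be a finite 2-group of sectional 2-rank at most 4 and P a proper non-abelian subgroup whose centre has order 2. Let S₀ be the centralizer in S of Z(P) and suppose P is normal in S₀. Then either S₀ = S, or P has sectional 2-rank at most 2 and S₀ has index 2 in S. -/
theorem result {S : Type*} [Group S] [Finite S] (h2 : IsPGroup 2 S) (hr : Cfsg.SectionalPRankLE 2 4 S)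
    (P : Subgroup S) (hPlt : P ≠ ⊤) (hP : ¬ IsMulCommutative ↥P) (hZP : Nat.card ↥(Subgroup.center ↥P) = 2)
    (S₀ : Subgroup S) (hS₀ : S₀ = Subgroup.centralizer (((Subgroup.center ↥P).map P.subtype : Subgroup S) : Set S))
    (hPn : ∀ s ∈ S₀, ∀ x ∈ P, s * x * s⁻¹ ∈ P) :
    S₀ = ⊤ ∨ (Cfsg.SectionalPRankLE 2 2 ↥P ∧ S₀.index = 2) := by
  by_cases hT : S₀ = ⊤
  · exact Or.inl hT
  right
  obtain ⟨w, hw1, hwu⟩ := (Nat.card_eq_two_iff' (1 : Subgroup.center ↥P)).mp hZP
  have hcfg : Cfsg.Agent.Lib.helper68.Cfg P S₀ ((w : ↥P) : S) := by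
    refine ⟨(w : ↥P).2, ?_, ?_, ?_, ?_, hPn, ?_⟩
    · intro e
      apply hw1
      apply Subtype.ext
      apply Subtype.ext
      exact e
    · intro x hx
      have h1 := Subgroup.mem_center_iff.mp w.2 ⟨x, hx⟩
      have h3 := congrArg Subtype.val h1
      simpa using h3.symm
    · intro x hx hxc
      by_cases hx1 : x = 1
      · exact Or.inl hx1
      · right
        have hmem : (⟨x, hx⟩ : ↥P) ∈ Subgroup.center ↥P := by
          rw [Subgroup.mem_center_iff]
          intro y
          apply Subtype.ext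
          simpa using (hxc y y.2).symm
        have h1 := hwu ⟨⟨x, hx⟩, hmem⟩ (by
          intro e
          apply hx1
          have h3 := congrArg (fun t : Subgroup.center ↥P => ((t : ↥P) : S)) e
          simpa using h3)
        have h3 := congrArg (fun t : Subgroup.center ↥P => ((t : ↥P) : S)) h1
        simpa using h3
    · intro s
      rw [hS₀, Subgroup.mem_centralizer_iff]
      constructor
      · intro h
        exact (h _ ⟨(w : ↥P), w.2, rfl⟩).symm
      · rintro h _ ⟨y, hy, rfl⟩
        by_cases hy1 : (⟨y, hy⟩ : Subgroup.center ↥P) = 1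
        · have h1 : y = 1 := congrArg Subtype.val hy1
          rw [h1]; simp
        · have h1 := hwu ⟨y, hy⟩ hy1
          have h3 : y = (w : ↥P) := congrArg Subtype.val h1
          rw [h3]; exact h.symm
    · by_contra hcon
      apply hP
      refine ⟨⟨fun a b => ?_⟩⟩
      by_contra hab
      exact hcon ⟨a, a.2, b, b.2, fun e => hab (Subtype.ext e)⟩
  have hrC := Cfsg.Agent.Lib.helper68.secRkC_of_sectional 4 hr
  obtain ⟨h1, h3⟩ := Cfsg.Agent.Lib.helper68.sec4_main h2 hrC P S₀ _ hcfg hT
  exact ⟨Cfsg.Agent.Lib.helper68.sectional_of_secRkC 2 h1, h3⟩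

end Cfsg.Agent.S4401
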