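import Cfsg.Statements.S4404
import Cfsg.Agent.Lib.helper38.FQ1
import Cfsg.Agent.Lib.helper46.FQA
import Cfsg.Agent.Lib.helper20.FQC
import Cfsg.Agent.Lib.helper77.FQN
import Cfsg.Agent.Lib.helper27.FQX3
import Cfsg.Agent.Lib.helper91.FQD2

set_option autoImplicit false
open Cfsg

namespace Cfsg.Agent.S4404

open Cfsg.Agent.Lib.helper38.FQ


/-- Let S be a finite solvable group and M a normal elementary abelian 2-subgroup of S. Suppose S contains an elementary abelian subgroup of order p³ for some odd prime p, and a cyclic 3-subgroup Q such that the cubes of the elements of Q centralize M and the commutator subgroup [Q, M] has order 4 (a four-group inside M). Then S contains an elementary abelian subgroup F of order r³, for some odd prime r, whose centralizer of [Q, M] in F — the subgroup C_F([Q, M]) — is not cyclic. -/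
theorem result {S : Type*} [Group S] [Finite S]
    [Group.IsSolvable S] (M : Subgroup S) [M.Normal] (hM : Cfsg.IsElementaryAbelian 2 M)
    (p : ℕ) (hp : p.Prime) (hp2 : p ≠ 2) (E : Subgroup S) (hE : Cfsg.IsElementaryAbelian p E) (hE3 : Nat.card ↥E = p ^ 3)
    (Q : Subgroup S) (hQc : IsCyclic ↥Q) (hQ3 : IsPGroup 3 ↥Q)
    (hQ1 : ∀ x ∈ Q, x ^ 3 ∈ Subgroup.centralizer (M : Set S)) (hQM : Nat.card ↥⁅Q, M⁆ = 4) :
    ∃ (r : ℕ) (F : Subgroup S), r.Prime ∧ r ≠ 2 ∧ Cfsg.IsElementaryAbelian r F ∧ Nat.card ↥F = r ^ 3 ∧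
      ¬ IsCyclic ↥(F ⊓ Subgroup.centralizer ((⁅Q, M⁆ : Subgroup S) : Set S)) := by
  have h : Hyp M Q := ⟨inferInstance, hM, hQc, hQ3, hQ1, hQM⟩
  show Good M Q
  by_cases h3 : Cfsg.PRankLE 3 2 S
  · have hp3 : p ≠ 3 := by
      rintro rfl
      have := h3 E hE.1 hE.2
      rw [hE3] at this
      norm_num at this
    have hp5 : 5 ≤ p := by
      have := hp.two_le
      by_contra hlt
      have : p = 4 := by omega
      subst this
      exact absurd hp (by decide)
    obtain ⟨P, F, hP, hQP, hFP, hF, hF3⟩ := Cfsg.Agent.Lib.helper20.exists_invariant_pgroup Q hQ3 h3 p hp hp5 E hE hE3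
    obtain ⟨U, hWU, hUM, hU8, hPU⟩ := Cfsg.Agent.Lib.helper91.pgroup_structure h p hp hp5 P hP hQP
    exact Cfsg.Agent.Lib.helper77.good_of_structure h p hp hp5 F hF hF3 U hWU hUM hU8 (hFP.trans hPU)
  · obtain ⟨F, hF, hF27, hQF⟩ := Cfsg.Agent.Lib.helper46.exists_invariant_27 Q hQ3 h3
    exact Cfsg.Agent.Lib.helper77.good_of_normalizes h F hF hF27 (Cfsg.Agent.Lib.helper27.three_normalizes h F hF hQF)

end Cfsg.Agent.S4404
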