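import Cfsg.Statements.S4406
import Mathlib

set_option autoImplicit false
open Cfsg

namespace Cfsg.Agent.S4406

abbrev A4 : Type := ↥(alternatingGroup (Fin 4))

def mem3 (z x y : A4 × A4) : Prop := z = x ∨ z = y ∨ z = x * y

instance mem3Dec (z x y : A4 × A4) : Decidable (mem3 z x y) := by unfold mem3; infer_instance

def good (g x y : A4 × A4) : Prop :=
  mem3 (g * x * g⁻¹) x y ∧ mem3 (g * y * g⁻¹) x y

instance goodDec (g x y : A4 × A4) : Decidable (good g x y) := instDecidableAnd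

set_option maxRecDepth 1000000 in
set_option synthInstance.maxSize 4096 in
theorem core : ∀ a : A4, a ≠ 1 → a ^ 3 = 1 → ∀ b : A4, b ≠ 1 → b ^ 3 = 1 →
    ∀ u1 : A4, u1 ≠ 1 → u1 ^ 2 = 1 → ∀ u2 : A4, u2 ≠ 1 → u2 ^ 2 = 1 →
    ∀ v1 : A4, v1 ≠ 1 → v1 ^ 2 = 1 → v1 ≠ u1 → ∀ v2 : A4, v2 ≠ 1 → v2 ^ 2 = 1 → v2 ≠ u2 →
      good (a, b) (u1, u2) (v1, v2) ∨ good (a, b⁻¹) (u1, u2) (v1, v2) := by
  decide +kernel

theorem a4_card : Nat.card A4 = 12 := by
  rw [Nat.card_eq_fintype_card]; decide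

theorem card_G : Nat.card (A4 × A4) = 144 := by
  rw [Nat.card_prod, a4_card]

set_option maxRecDepth 100000 in
theorem pow16 : ∀ a : A4, a ^ 16 = 1 → a ^ 2 = 1 := by decide

set_option maxRecDepth 100000 in
theorem pow9 : ∀ a : A4, a ^ 9 = 1 → a ^ 3 = 1 := by decide

theorem fact2 : (144 : ℕ).factorization 2 = 4 := by decide +kernel

theorem fact3 : (144 : ℕ).factorization 3 = 2 := by decide +kernel

theorem sq_of_mem (X : Sylow 2 (A4 × A4)) (x : A4 × A4) (hx : x ∈ X) : x ^ 2 = 1 := by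
  have hcard : Nat.card X = 16 := by
    rw [Sylow.card_eq_multiplicity, card_G, fact2]; norm_num
  have h1 : (⟨x, hx⟩ : X) ^ Nat.card X = 1 := pow_card_eq_one'
  rw [hcard] at h1
  have h2 : x ^ 16 = 1 := by
    have := congrArg Subtype.val h1
    simpa using this
  have h3 : x.1 ^ 16 = 1 := by simpa using congrArg Prod.fst h2
  have h4 : x.2 ^ 16 = 1 := by simpa using congrArg Prod.snd h2
  exact Prod.ext (by simpa using pow16 _ h3) (by simpa using pow16 _ h4)

theorem card_Q (Q : Sylow 3 (A4 × A4)) : Nat.card Q = 9 := by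
  rw [Sylow.card_eq_multiplicity, card_G, fact3]; norm_num

theorem cube_of_mem (Q : Sylow 3 (A4 × A4)) (x : A4 × A4) (hx : x ∈ Q) : x ^ 3 = 1 := by
  have h1 : (⟨x, hx⟩ : Q) ^ Nat.card Q = 1 := pow_card_eq_one'
  rw [card_Q] at h1
  have h2 : x ^ 9 = 1 := by
    have := congrArg Subtype.val h1
    simpa using this
  have h3 : x.1 ^ 9 = 1 := by simpa using congrArg Prod.fst h2
  have h4 : x.2 ^ 9 = 1 := by simpa using congrArg Prod.snd h2
  exact Prod.ext (by simpa using pow9 _ h3) (by simpa using pow9 _ h4)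

/-- A subgroup of order 9 of `A4 × A4` contains a nontrivial element with trivial second
coordinate. -/
theorem exists_fst (Q : Subgroup (A4 × A4)) (hQ : Nat.card Q = 9) :
    ∃ a : A4, a ≠ 1 ∧ (a, 1) ∈ Q := by
  by_contra hcon
  push Not at hcon
  let f : Q →* A4 := (MonoidHom.snd A4 A4).comp Q.subtype
  have hinj : Function.Injective f := by
    rw [injective_iff_map_eq_one]
    intro x hx
    have hx2 : (x : A4 × A4).2 = 1 := hx
    have hx' : ((x : A4 × A4).1, (1 : A4)) ∈ Q := by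
      have : ((x : A4 × A4).1, (1 : A4)) = (x : A4 × A4) := Prod.ext rfl hx2.symm
      rw [this]; exact x.2
    have h1 : (x : A4 × A4).1 = 1 := by
      by_contra hne
      exact hcon _ hne hx'
    exact Subtype.ext (Prod.ext h1 hx2)
  have hcard : Nat.card f.range = 9 := by
    rw [← hQ]
    exact (Nat.card_congr (Equiv.ofInjective f hinj)).symm
  have hdvd : Nat.card f.range ∣ Nat.card A4 := Subgroup.card_subgroup_dvd_card _
  rw [hcard, a4_card] at hdvd
  omega

theorem exists_snd (Q : Subgroup (A4 × A4)) (hQ : Nat.card Q = 9) :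
    ∃ b : A4, b ≠ 1 ∧ (1, b) ∈ Q := by
  by_contra hcon
  push Not at hcon
  let f : Q →* A4 := (MonoidHom.fst A4 A4).comp Q.subtype
  have hinj : Function.Injective f := by
    rw [injective_iff_map_eq_one]
    intro x hx
    have hx2 : (x : A4 × A4).1 = 1 := hx
    have hx' : ((1 : A4), (x : A4 × A4).2) ∈ Q := by
      have : ((1 : A4), (x : A4 × A4).2) = (x : A4 × A4) := Prod.ext hx2.symm rfl
      rw [this]; exact x.2
    have h1 : (x : A4 × A4).2 = 1 := by
      by_contra hne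
      exact hcon _ hne hx'
    exact Subtype.ext (Prod.ext hx2 h1)
  have hcard : Nat.card f.range = 9 := by
    rw [← hQ]
    exact (Nat.card_congr (Equiv.ofInjective f hinj)).symm
  have hdvd : Nat.card f.range ∣ Nat.card A4 := Subgroup.card_subgroup_dvd_card _
  rw [hcard, a4_card] at hdvd
  omega

/-- The final construction, given the generator `g` of `R`. -/
theorem build (Q B : Subgroup (A4 × A4)) (x y g : A4 × A4)
    (hB : ∀ n ∈ B, n = 1 ∨ n = x ∨ n = y ∨ n = x * y) (hx : x ∈ B) (hy : y ∈ B)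
    (hg : g ∈ Q) (hg3 : g ^ 3 = 1) (hg1 : g.1 ≠ 1) (hg2 : g.2 ≠ 1) (hgood : good g x y) :
    ∃ R : Subgroup (A4 × A4), R ≤ Q ∧ Nat.card ↥R = 3 ∧
        R ≠ Q ⊓ Subgroup.prod ⊤ ⊥ ∧ R ≠ Q ⊓ Subgroup.prod ⊥ ⊤ ∧
        R ≤ Subgroup.normalizer (B : Set _) := by
  have hgne : g ≠ 1 := fun h => hg1 (by rw [h]; rfl)
  refine ⟨Subgroup.zpowers g, ?_, ?_, ?_, ?_, ?_⟩
  · rw [Subgroup.zpowers_le]; exact hg
  · rw [Nat.card_zpowers]
    have : Fact (Nat.Prime 3) := ⟨Nat.prime_three⟩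
    exact orderOf_eq_prime hg3 hgne
  · intro h
    have : g ∈ Q ⊓ Subgroup.prod ⊤ ⊥ := h ▸ Subgroup.mem_zpowers g
    rw [Subgroup.mem_inf, Subgroup.mem_prod] at this
    exact hg2 (Subgroup.mem_bot.mp this.2.2)
  · intro h
    have : g ∈ Q ⊓ Subgroup.prod ⊥ ⊤ := h ▸ Subgroup.mem_zpowers g
    rw [Subgroup.mem_inf, Subgroup.mem_prod] at this
    exact hg1 (Subgroup.mem_bot.mp this.2.1)
  · rw [Subgroup.zpowers_le]
    have hxy : x * y ∈ B := B.mul_mem hx hy
    have hgx : g * x * g⁻¹ ∈ B := by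
      rcases hgood.1 with h | h | h <;> rw [h] <;> assumption
    have hgy : g * y * g⁻¹ ∈ B := by
      rcases hgood.2 with h | h | h <;> rw [h] <;> assumption
    have hconj : ∀ n ∈ B, g * n * g⁻¹ ∈ B := by
      intro n hn
      rcases hB n hn with rfl | rfl | rfl | rfl
      · simpa using B.one_mem
      · exact hgx
      · exact hgy
      · have : g * (x * y) * g⁻¹ = (g * x * g⁻¹) * (g * y * g⁻¹) := by group
        rw [this]; exact B.mul_mem hgx hgy
    have hggg : g * g * g = 1 := by rw [← hg3, pow_succ, pow_two]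
    rw [Subgroup.mem_normalizer_iff]
    intro n
    refine ⟨hconj n, fun h => ?_⟩
    have h2 := hconj _ (hconj _ h)
    have e : g * (g * (g * n * g⁻¹) * g⁻¹) * g⁻¹ = n := by
      have : g * (g * (g * n * g⁻¹) * g⁻¹) * g⁻¹ = (g * g * g) * n * (g * g * g)⁻¹ := by group
      rw [this]
      rw [hggg]; group
    rw [e] at h2
    exact h2

/-- In the direct product P = A₄ × A₄, let X be the Sylow 2-subgroup, X₁ and X₂ its intersections with the two direct factors, Q a Sylow 3-subgroup and Q₁, Q₂ its intersections with the two factors. Then every subgroup B of X of order 4 either meets X₁ or X₂ nontrivially, or is normalized by one of the two subgroups of Q of order 3 other than Q₁ and Q₂. -/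
theorem result
    (X : Sylow 2 (↥(alternatingGroup (Fin 4)) × ↥(alternatingGroup (Fin 4))))
    (Q : Sylow 3 (↥(alternatingGroup (Fin 4)) × ↥(alternatingGroup (Fin 4))))
    (B : Subgroup (↥(alternatingGroup (Fin 4)) × ↥(alternatingGroup (Fin 4)))) (hBX : B ≤ (X : Subgroup _)) (hB4 : Nat.card ↥B = 4) :
    B ⊓ ((X : Subgroup _) ⊓ Subgroup.prod ⊤ ⊥) ≠ ⊥ ∨ B ⊓ ((X : Subgroup _) ⊓ Subgroup.prod ⊥ ⊤) ≠ ⊥ ∨
      ∃ R : Subgroup (↥(alternatingGroup (Fin 4)) × ↥(alternatingGroup (Fin 4))), R ≤ (Q : Subgroup _) ∧ Nat.card ↥R = 3 ∧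
        R ≠ (Q : Subgroup _) ⊓ Subgroup.prod ⊤ ⊥ ∧ R ≠ (Q : Subgroup _) ⊓ Subgroup.prod ⊥ ⊤ ∧ R ≤ Subgroup.normalizer (B : Set _) := by
  by_cases h1 : B ⊓ ((X : Subgroup _) ⊓ Subgroup.prod ⊤ ⊥) ≠ ⊥
  · exact Or.inl h1
  by_cases h2 : B ⊓ ((X : Subgroup _) ⊓ Subgroup.prod ⊥ ⊤) ≠ ⊥
  · exact Or.inr (Or.inl h2)
  right; right
  rw [not_not] at h1 h2
  -- elements of B
  have hsq : ∀ n ∈ B, n ^ 2 = 1 := fun n hn => sq_of_mem X n (hBX hn)
  have hB2 : ∀ n ∈ B, n.2 = 1 → n = 1 := by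
    intro n hn h
    have : n ∈ B ⊓ ((X : Subgroup _) ⊓ Subgroup.prod ⊤ ⊥) := by
      refine Subgroup.mem_inf.mpr ⟨hn, Subgroup.mem_inf.mpr ⟨hBX hn, ?_⟩⟩
      rw [Subgroup.mem_prod]
      exact ⟨Subgroup.mem_top _, Subgroup.mem_bot.mpr h⟩
    rw [h1] at this
    exact Subgroup.mem_bot.mp this
  have hB1 : ∀ n ∈ B, n.1 = 1 → n = 1 := by
    intro n hn h
    have : n ∈ B ⊓ ((X : Subgroup _) ⊓ Subgroup.prod ⊥ ⊤) := by
      refine Subgroup.mem_inf.mpr ⟨hn, Subgroup.mem_inf.mpr ⟨hBX hn, ?_⟩⟩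
      rw [Subgroup.mem_prod]
      exact ⟨Subgroup.mem_bot.mpr h, Subgroup.mem_top _⟩
    rw [h2] at this
    exact Subgroup.mem_bot.mp this
  -- pick x
  have hBne : B ≠ ⊥ := by
    intro h
    rw [h, Subgroup.card_bot] at hB4
    omega
  obtain ⟨⟨x, hx⟩, hx1'⟩ := Subgroup.ne_bot_iff_exists_ne_one.mp hBne
  have hx1 : x ≠ 1 := fun h => hx1' (Subtype.ext h)
  have hxsq := hsq x hx
  -- pick y
  have hzx : Subgroup.zpowers x < B := by
    refine lt_of_le_of_ne (by rw [Subgroup.zpowers_le]; exact hx) ?_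
    intro h
    have hc : Nat.card (Subgroup.zpowers x) = 2 := by
      rw [Nat.card_zpowers]
      have : Fact (Nat.Prime 2) := ⟨Nat.prime_two⟩
      exact orderOf_eq_prime hxsq hx1
    rw [h, hB4] at hc
    omega
  obtain ⟨y, hy, hyx⟩ := SetLike.exists_of_lt hzx
  have hy1 : y ≠ 1 := fun h => hyx (h ▸ Subgroup.one_mem _)
  have hyx' : y ≠ x := fun h => hyx (h ▸ Subgroup.mem_zpowers x)
  have hysq := hsq y hy
  have hxinv : x⁻¹ = x := by
    have : x * x = 1 := by rw [← pow_two]; exact hxsq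
    exact inv_eq_of_mul_eq_one_left this
  have hxy : x * y ∈ B := B.mul_mem hx hy
  have hxy1 : x * y ≠ 1 := by
    intro h
    apply hyx'
    have : y = x⁻¹ := (inv_eq_of_mul_eq_one_right h).symm
    rw [this, hxinv]
  -- B = {1, x, y, x * y}
  have hBall : ∀ n ∈ B, n = 1 ∨ n = x ∨ n = y ∨ n = x * y := by
    classical
    let T : Finset (A4 × A4) := {1, x, y, x * y}
    have hTsub : (T : Set (A4 × A4)) ⊆ (B : Set (A4 × A4)) := by
      intro n hn
      simp only [T, Finset.coe_insert, Finset.coe_singleton, Set.mem_insert_iff,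
        Set.mem_singleton_iff] at hn
      rcases hn with rfl | rfl | rfl | rfl
      · exact B.one_mem
      · exact hx
      · exact hy
      · exact hxy
    have hTcard : T.card = 4 := by
      have hxxy : x ≠ x * y := fun h => hy1 (by simpa using h.symm)
      have hyxy : y ≠ x * y := fun h => hx1 (by simpa using h.symm)
      rw [Finset.card_insert_of_notMem, Finset.card_insert_of_notMem,
        Finset.card_insert_of_notMem, Finset.card_singleton]
      · simpa using hyxy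
      · simp only [Finset.mem_insert, Finset.mem_singleton, not_or]
        exact ⟨fun h => hyx' h.symm, hxxy⟩
      · simp only [Finset.mem_insert, Finset.mem_singleton, not_or]
        exact ⟨fun h => hx1 h.symm, fun h => hy1 h.symm, fun h => hxy1 h.symm⟩
    have hBfin : (B : Set (A4 × A4)).Finite := Set.toFinite _
    have hBncard : (B : Set (A4 × A4)).ncard = 4 := by
      have := Nat.card_coe_set_eq (B : Set (A4 × A4))
      exact this.symm.trans hB4
    have hEq : (T : Set (A4 × A4)) = (B : Set (A4 × A4)) := by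
      apply Set.eq_of_subset_of_ncard_le hTsub _ hBfin
      rw [hBncard, Set.ncard_coe_finset, hTcard]
    intro n hn
    have : n ∈ (T : Set (A4 × A4)) := by rw [hEq]; exact hn
    simpa [T] using this
  -- coordinates
  have hu1 : x.1 ≠ 1 := fun h => hx1 (hB1 x hx h)
  have hu2 : x.2 ≠ 1 := fun h => hx1 (hB2 x hx h)
  have hv1 : y.1 ≠ 1 := fun h => hy1 (hB1 y hy h)
  have hv2 : y.2 ≠ 1 := fun h => hy1 (hB2 y hy h)
  have hu1sq : x.1 ^ 2 = 1 := by simpa using congrArg Prod.fst hxsq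
  have hu2sq : x.2 ^ 2 = 1 := by simpa using congrArg Prod.snd hxsq
  have hv1sq : y.1 ^ 2 = 1 := by simpa using congrArg Prod.fst hysq
  have hv2sq : y.2 ^ 2 = 1 := by simpa using congrArg Prod.snd hysq
  have hvu1 : y.1 ≠ x.1 := by
    intro h
    apply hxy1
    apply hB1 _ hxy
    show x.1 * y.1 = 1
    rw [h, ← pow_two]; exact hu1sq
  have hvu2 : y.2 ≠ x.2 := by
    intro h
    apply hxy1
    apply hB2 _ hxy
    show x.2 * y.2 = 1
    rw [h, ← pow_two]; exact hu2sq
  -- elements of Q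
  obtain ⟨a, ha1, haQ⟩ := exists_fst (Q : Subgroup (A4 × A4)) (card_Q Q)
  obtain ⟨b, hb1, hbQ⟩ := exists_snd (Q : Subgroup (A4 × A4)) (card_Q Q)
  have ha3 : a ^ 3 = 1 := by simpa using congrArg Prod.fst (cube_of_mem Q _ haQ)
  have hb3 : b ^ 3 = 1 := by simpa using congrArg Prod.snd (cube_of_mem Q _ hbQ)
  have hc := core a ha1 ha3 b hb1 hb3 x.1 hu1 hu1sq x.2 hu2 hu2sq y.1 hv1 hv1sq hvu1 y.2 hv2 hv2sq hvu2
  rcases hc with hc | hc
  · refine build (Q : Subgroup (A4 × A4)) B x y (a, b) hBall hx hy ?_ ?_ ha1 hb1 hc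
    · have : ((a, b) : A4 × A4) = (a, 1) * (1, b) := by ext <;> simp
      rw [this]; exact Subgroup.mul_mem _ haQ hbQ
    · exact Prod.ext (by simpa using ha3) (by simpa using hb3)
  · refine build (Q : Subgroup (A4 × A4)) B x y (a, b⁻¹) hBall hx hy ?_ ?_ ha1
      (by simpa using hb1) hc
    · have : ((a, b⁻¹) : A4 × A4) = (a, 1) * (1, b)⁻¹ := by ext <;> simp
      rw [this]; exact Subgroup.mul_mem _ haQ (Subgroup.inv_mem _ hbQ)
    · exact Prod.ext (by simpa using ha3) (by simpa using hb3)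

end Cfsg.Agent.S4406
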