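import Cfsg.Statements.S4407
import Mathlib
-- import your own Cfsg.Agent.* helpers here

set_option autoImplicit false
open Cfsg

namespace Cfsg.Agent.S4407


section lin
variable {M : Type*} [AddCommGroup M] [Module (ZMod 2) M]

theorem add_self_zmod2 (m : M) : m + m = 0 := by
  have h2 : (2 : ZMod 2) • m = 0 := by
    have h : (2 : ZMod 2) = 0 := by decide
    rw [h, zero_smul]
  rwa [two_smul] at h2

theorem core_lin [Finite M] (α β R σ υ : M →ₗ[ZMod 2] M)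
    (A1 : ∀ m, β (R m) = R (α m))
    (A2 : ∀ m, α (R m) = R (β (β m)))
    (A3 : ∀ m, β (σ m) = σ (β (β m)))
    (A4 : ∀ m, υ (β m) = β (υ m))
    (A5 : ∀ m, υ (σ m) = σ (υ m))
    (A6 : ∀ m, α (υ m) = υ (α (α m)))
    (A7 : ∀ m, υ (υ m) = m)
    (A8 : ∀ m, R (R m) = σ (υ m))
    (A9 : ∀ m, σ (R m) = R (υ m))
    (A10 : ∀ m, σ (σ m) = m)
    (A11' : ∀ m, β (β (β m)) = m)
    (A12 : ∀ m, α (β m) = β (α m))
    (A13 : ∀ m, α (σ m) = σ (α m))
    (hirr : ∀ N : Submodule (ZMod 2) M, (∀ m ∈ N, α m ∈ N) → (∀ m ∈ N, R m ∈ N) →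
      (∀ m ∈ N, σ m ∈ N) → N = ⊥ ∨ N = ⊤)
    (hα : ∃ m, α m ≠ m) (hfix : ∃ m, m ≠ 0 ∧ α m = m) :
    Nat.card M = 16 ∧
      (∃ x y : M, x ≠ 0 ∧ y ≠ 0 ∧ x ≠ y ∧ σ x = x ∧ R (R x) = x ∧ σ y = y ∧ R (R y) = y) ∧
      ∃ w : M, w ≠ 0 ∧ ∀ m : M, (σ (R m) = m ∧ R (R m) = m) ↔ (m = 0 ∨ m = w) := by
  classical
  have c2 : ∀ m : M, m + m = 0 := add_self_zmod2
  have eq_of_add : ∀ x y : M, x + y = 0 → x = y := fun x y h => by
    have h' := c2 y
    exact add_right_cancel (h.trans h'.symm)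
  have Rinj : ∀ m, R m = 0 → m = 0 := by
    intro m hm
    have h1 : σ (υ m) = 0 := by rw [← A8, hm, map_zero]
    have h2 : υ m = 0 := by rw [← A10 (υ m), h1, map_zero]
    rw [← A7 m, h2, map_zero]
  have f1 : ∀ m, α m = m → β (R m) = R m := fun m h => by rw [A1, h]
  have f2 : ∀ m, β m = m → α (R m) = R m := fun m h => by rw [A2, h, h]
  have hR4 : ∀ m, R (R (R (R m))) = m := fun m => by rw [A8, A8, A5, A10, A7]
  obtain ⟨m₀, hm₀, hαm₀⟩ := hfix
  -- Step a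
  have hD : ∀ m, α m = m → β m = m → m = 0 := by
    let D : Submodule (ZMod 2) M :=
      { carrier := {m | α m = m ∧ β m = m}
        add_mem' := by
          intro x y hx hy
          exact ⟨by rw [map_add, hx.1, hy.1], by rw [map_add, hx.2, hy.2]⟩
        zero_mem' := ⟨map_zero _, map_zero _⟩
        smul_mem' := by
          intro c x hx
          exact ⟨by rw [map_smul, hx.1], by rw [map_smul, hx.2]⟩ }
    have hDm : ∀ m, m ∈ D ↔ (α m = m ∧ β m = m) := fun m => Iff.rfl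
    have i1 : ∀ m ∈ D, α m ∈ D := fun m hm => by
      rw [hDm] at hm ⊢
      exact ⟨by rw [hm.1, hm.1], by rw [hm.1]; exact hm.2⟩
    have i2 : ∀ m ∈ D, R m ∈ D := fun m hm => by
      rw [hDm] at hm ⊢
      exact ⟨f2 m hm.2, f1 m hm.1⟩
    have i3 : ∀ m ∈ D, σ m ∈ D := fun m hm => by
      rw [hDm] at hm ⊢
      exact ⟨by rw [A13, hm.1], by rw [A3, hm.2, hm.2]⟩
    rcases hirr D i1 i2 i3 with h | h
    · intro m h1 h2
      have hmD : m ∈ D := (hDm m).mpr ⟨h1, h2⟩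
      rw [h] at hmD
      exact (Submodule.mem_bot _).mp hmD
    · exfalso
      obtain ⟨m, hm⟩ := hα
      have hmD : m ∈ D := by rw [h]; exact Submodule.mem_top
      exact hm ((hDm m).mp hmD).1
  -- Step b
  have hT : ∀ m, ∃ x y, α x = x ∧ β y = y ∧ m = x + y := by
    let T : Submodule (ZMod 2) M :=
      { carrier := {m | ∃ x y, α x = x ∧ β y = y ∧ m = x + y}
        add_mem' := by
          rintro _ _ ⟨x, y, hx, hy, rfl⟩ ⟨x', y', hx', hy', rfl⟩
          exact ⟨x + x', y + y', by rw [map_add, hx, hx'], by rw [map_add, hy, hy'], by abel⟩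
        zero_mem' := ⟨0, 0, map_zero _, map_zero _, by simp⟩
        smul_mem' := by
          rintro c _ ⟨x, y, hx, hy, rfl⟩
          exact ⟨c • x, c • y, by rw [map_smul, hx], by rw [map_smul, hy], by rw [smul_add]⟩ }
    have hTm : ∀ m, m ∈ T ↔ ∃ x y, α x = x ∧ β y = y ∧ m = x + y := fun m => Iff.rfl
    have i1 : ∀ m ∈ T, α m ∈ T := fun m hm => by
      obtain ⟨x, y, hx, hy, rfl⟩ := (hTm m).mp hm
      exact (hTm _).mpr ⟨x, α y, hx, by rw [← A12, hy], by rw [map_add, hx]⟩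
    have i2 : ∀ m ∈ T, R m ∈ T := fun m hm => by
      obtain ⟨x, y, hx, hy, rfl⟩ := (hTm m).mp hm
      exact (hTm _).mpr ⟨R y, R x, f2 y hy, f1 x hx, by rw [map_add, add_comm]⟩
    have i3 : ∀ m ∈ T, σ m ∈ T := fun m hm => by
      obtain ⟨x, y, hx, hy, rfl⟩ := (hTm m).mp hm
      exact (hTm _).mpr ⟨σ x, σ y, by rw [A13, hx], by rw [A3, hy, hy], by rw [map_add]⟩
    rcases hirr T i1 i2 i3 with h | h
    · exfalso
      have hmT : m₀ ∈ T := (hTm m₀).mpr ⟨m₀, 0, hαm₀, map_zero _, by simp⟩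
      rw [h] at hmT
      exact hm₀ ((Submodule.mem_bot _).mp hmT)
    · intro m
      have hmT : m ∈ T := by rw [h]; exact Submodule.mem_top
      exact (hTm m).mp hmT
  -- Step G
  have G : ∀ N : Submodule (ZMod 2) M, (∀ n ∈ N, α n = n) → (∀ n ∈ N, β n ∈ N) →
      (∀ n ∈ N, σ n ∈ N) → (∀ n ∈ N, υ n ∈ N) → N ≠ ⊥ → ∀ x, α x = x → x ∈ N := by
    intro N hN1 hNβ hNσ hNυ hNne x hx
    have i1 : ∀ m ∈ N ⊔ N.map R, α m ∈ N ⊔ N.map R := by
      intro m hm
      obtain ⟨n, hn, z, hz, rfl⟩ := Submodule.mem_sup.mp hm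
      obtain ⟨n', hn', rfl⟩ := Submodule.mem_map.mp hz
      rw [map_add, hN1 n hn, A2]
      exact Submodule.add_mem _ (Submodule.mem_sup_left hn)
        (Submodule.mem_sup_right (Submodule.mem_map_of_mem (hNβ _ (hNβ _ hn'))))
    have i2 : ∀ m ∈ N ⊔ N.map R, R m ∈ N ⊔ N.map R := by
      intro m hm
      obtain ⟨n, hn, z, hz, rfl⟩ := Submodule.mem_sup.mp hm
      obtain ⟨n', hn', rfl⟩ := Submodule.mem_map.mp hz
      rw [map_add, A8, add_comm]
      exact Submodule.add_mem _ (Submodule.mem_sup_left (hNσ _ (hNυ _ hn')))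
        (Submodule.mem_sup_right (Submodule.mem_map_of_mem hn))
    have i3 : ∀ m ∈ N ⊔ N.map R, σ m ∈ N ⊔ N.map R := by
      intro m hm
      obtain ⟨n, hn, z, hz, rfl⟩ := Submodule.mem_sup.mp hm
      obtain ⟨n', hn', rfl⟩ := Submodule.mem_map.mp hz
      rw [map_add, A9]
      exact Submodule.add_mem _ (Submodule.mem_sup_left (hNσ _ hn))
        (Submodule.mem_sup_right (Submodule.mem_map_of_mem (hNυ _ hn')))
    have hinv : N ⊔ N.map R = ⊤ := by
      rcases hirr (N ⊔ N.map R) i1 i2 i3 with h | h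
      · exfalso
        apply hNne
        rw [eq_bot_iff, ← h]
        exact le_sup_left
      · exact h
    have hxm : x ∈ N ⊔ N.map R := by rw [hinv]; exact Submodule.mem_top
    obtain ⟨n, hn, z, hz, hxe⟩ := Submodule.mem_sup.mp hxm
    obtain ⟨n', hn', rfl⟩ := Submodule.mem_map.mp hz
    have h1 : α (R n') = R n' := by
      have e : R n' = x - n := by rw [← hxe]; abel
      rw [e, map_sub, hx, hN1 n hn]
    have h2 : β (R n') = R n' := f1 n' (hN1 n' hn')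
    have h3 : R n' = 0 := hD _ h1 h2
    rw [h3, add_zero] at hxe
    rw [← hxe]; exact hn
  -- Step c1
  have hυ : ∀ x, α x = x → υ x = x := by
    let N : Submodule (ZMod 2) M :=
      { carrier := {m | α m = m ∧ υ m = m}
        add_mem' := by
          intro x y hx hy
          exact ⟨by rw [map_add, hx.1, hy.1], by rw [map_add, hx.2, hy.2]⟩
        zero_mem' := ⟨map_zero _, map_zero _⟩
        smul_mem' := by
          intro c x hx
          exact ⟨by rw [map_smul, hx.1], by rw [map_smul, hx.2]⟩ }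
    have hNm : ∀ m, m ∈ N ↔ (α m = m ∧ υ m = m) := fun m => Iff.rfl
    have hNne : N ≠ ⊥ := by
      intro hbot
      by_cases h : υ m₀ = m₀
      · have hmN : m₀ ∈ N := (hNm _).mpr ⟨hαm₀, h⟩
        rw [hbot] at hmN
        exact hm₀ ((Submodule.mem_bot _).mp hmN)
      · have hmN : m₀ + υ m₀ ∈ N :=
          (hNm _).mpr ⟨by rw [map_add, hαm₀, A6, hαm₀, hαm₀], by rw [map_add, A7, add_comm]⟩
        rw [hbot] at hmN
        have h0 := (Submodule.mem_bot _).mp hmN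
        exact h (eq_of_add _ _ h0).symm
    intro x hx
    have hxN := G N (fun n hn => ((hNm n).mp hn).1)
      (fun n hn => (hNm _).mpr ⟨by rw [A12, ((hNm n).mp hn).1], by rw [A4, ((hNm n).mp hn).2]⟩)
      (fun n hn => (hNm _).mpr ⟨by rw [A13, ((hNm n).mp hn).1], by rw [A5, ((hNm n).mp hn).2]⟩)
      (fun n hn => (hNm _).mpr ⟨by rw [A6, ((hNm n).mp hn).1, ((hNm n).mp hn).1],
        by rw [A7]; exact ((hNm n).mp hn).2.symm⟩) hNne x hx
    exact ((hNm x).mp hxN).2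
  -- Step c2
  obtain ⟨m₁, hm₁, hαm₁, hσm₁⟩ : ∃ m₁, m₁ ≠ 0 ∧ α m₁ = m₁ ∧ σ m₁ = m₁ := by
    by_cases h : σ m₀ = m₀
    · exact ⟨m₀, hm₀, hαm₀, h⟩
    · refine ⟨m₀ + σ m₀, ?_, by rw [map_add, A13, hαm₀], by rw [map_add, A10, add_comm]⟩
      intro h0
      exact h (eq_of_add _ _ h0).symm
  have hβm₁ : α (β m₁) = β m₁ := by rw [A12, hαm₁]
  have hb2 : β (β m₁) = m₁ + β m₁ := by
    have hw : m₁ + β m₁ + β (β m₁) = 0 := by
      apply hD
      · rw [map_add, map_add, hαm₁, hβm₁, A12, hβm₁]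
      · rw [map_add, map_add, A11']; abel
    exact (eq_of_add _ _ hw).symm
  have hσβ : σ (β m₁) = m₁ + β m₁ := by
    have h1 : β (σ (β m₁)) = m₁ := by rw [A3, A11', hσm₁]
    calc σ (β m₁) = β (β (β (σ (β m₁)))) := (A11' _).symm
      _ = β (β m₁) := by rw [h1]
      _ = m₁ + β m₁ := hb2
  have hspan : ∀ x, α x = x → ∃ c₁ c₂ : ZMod 2, x = c₁ • m₁ + c₂ • β m₁ := by
    have hm₁N : m₁ ∈ Submodule.span (ZMod 2) ({m₁, β m₁} : Set M) :=
      Submodule.subset_span (by simp)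
    have hβN : β m₁ ∈ Submodule.span (ZMod 2) ({m₁, β m₁} : Set M) :=
      Submodule.subset_span (by simp)
    have h1 : ∀ n ∈ Submodule.span (ZMod 2) ({m₁, β m₁} : Set M), α n = n := by
      intro n hn
      induction hn using Submodule.span_induction with
      | mem x hx =>
        rcases hx with rfl | rfl
        · exact hαm₁
        · exact hβm₁
      | zero => exact map_zero _
      | add x y _ _ hx hy => rw [map_add, hx, hy]
      | smul c x _ hx => rw [map_smul, hx]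
    have hN₂ : ∀ x, α x = x → x ∈ Submodule.span (ZMod 2) ({m₁, β m₁} : Set M) := by
      refine G _ h1 ?_ ?_ ?_ ?_
      · intro n hn
        induction hn using Submodule.span_induction with
        | mem x hx =>
          rcases hx with rfl | rfl
          · exact hβN
          · rw [hb2]; exact Submodule.add_mem _ hm₁N hβN
        | zero => rw [map_zero]; exact Submodule.zero_mem _
        | add x y _ _ hx hy => rw [map_add]; exact Submodule.add_mem _ hx hy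
        | smul c x _ hx => rw [map_smul]; exact Submodule.smul_mem _ _ hx
      · intro n hn
        induction hn using Submodule.span_induction with
        | mem x hx =>
          rcases hx with rfl | rfl
          · rw [hσm₁]; exact hm₁N
          · rw [hσβ]; exact Submodule.add_mem _ hm₁N hβN
        | zero => rw [map_zero]; exact Submodule.zero_mem _
        | add x y _ _ hx hy => rw [map_add]; exact Submodule.add_mem _ hx hy
        | smul c x _ hx => rw [map_smul]; exact Submodule.smul_mem _ _ hx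
      · intro n hn
        rw [hυ n (h1 n hn)]; exact hn
      · intro hbot
        rw [hbot] at hm₁N
        exact hm₁ ((Submodule.mem_bot _).mp hm₁N)
    intro x hx
    obtain ⟨c₁, c₂, h⟩ := Submodule.mem_span_pair.mp (hN₂ x hx)
    exact ⟨c₁, c₂, h.symm⟩
  have hz2 : ∀ c : ZMod 2, c = 0 ∨ c = 1 := by decide
  have hβinj : ∀ m, β m = 0 → m = 0 := fun m h => by
    rw [← A11' m, h, map_zero, map_zero]
  have hβne : β m₁ ≠ m₁ := fun h => hm₁ (hD m₁ hαm₁ h)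
  have hI : ∀ c₁ c₂ : ZMod 2, c₁ • m₁ + c₂ • β m₁ = 0 → c₁ = 0 ∧ c₂ = 0 := by
    intro c₁ c₂ h
    rcases hz2 c₁ with rfl | rfl <;> rcases hz2 c₂ with rfl | rfl
    · exact ⟨rfl, rfl⟩
    · exfalso; rw [zero_smul, one_smul, zero_add] at h; exact hm₁ (hβinj _ h)
    · exfalso; rw [zero_smul, one_smul, add_zero] at h; exact hm₁ h
    · exfalso; rw [one_smul, one_smul] at h; exact hβne (eq_of_add _ _ h).symm
  have hcard : Nat.card M = 16 := by
    let g : ZMod 2 × ZMod 2 → M := fun c => c.1 • m₁ + c.2 • β m₁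
    have hgα : ∀ c, α (g c) = g c := fun c => by
      show α (c.1 • m₁ + c.2 • β m₁) = c.1 • m₁ + c.2 • β m₁
      rw [map_add, map_smul, map_smul, hαm₁, hβm₁]
    have hgsub : ∀ c d, g c - g d = g (c - d) := fun c d => by
      show c.1 • m₁ + c.2 • β m₁ - (d.1 • m₁ + d.2 • β m₁) = (c - d).1 • m₁ + (c - d).2 • β m₁
      rw [Prod.fst_sub, Prod.snd_sub, sub_smul, sub_smul]; abel
    have hg0 : ∀ c, g c = 0 → c = 0 := fun c h => by
      obtain ⟨h1, h2⟩ := hI c.1 c.2 h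
      exact Prod.ext h1 h2
    let Ψ : (ZMod 2 × ZMod 2) × (ZMod 2 × ZMod 2) → M := fun p => g p.1 + R (g p.2)
    have hΨinj : Function.Injective Ψ := by
      rintro ⟨c, d⟩ ⟨c', d'⟩ h
      have h' : g c + R (g d) = g c' + R (g d') := h
      have h1 : g (c - c') = R (g (d' - d)) := by
        rw [← hgsub, ← hgsub, map_sub, sub_eq_sub_iff_add_eq_add, h', add_comm]
      have h2 : g (c - c') = 0 := by
        apply hD _ (hgα _)
        rw [h1, A1, hgα]
      have h3 : g (d' - d) = 0 := Rinj _ (by rw [← h1, h2])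
      have e1 : c = c' := sub_eq_zero.mp (hg0 _ h2)
      have e2 : d' = d := sub_eq_zero.mp (hg0 _ h3)
      rw [e1, e2]
    have hΨsurj : Function.Surjective Ψ := by
      intro m
      obtain ⟨x, y, hx, hy, rfl⟩ := hT m
      have hx' : α (R (R (R y))) = R (R (R y)) := f2 _ (f1 _ (f2 _ hy))
      obtain ⟨c₁, c₂, hc⟩ := hspan x hx
      obtain ⟨d₁, d₂, hd⟩ := hspan _ hx'
      refine ⟨((c₁, c₂), (d₁, d₂)), ?_⟩
      show (c₁ • m₁ + c₂ • β m₁) + R (d₁ • m₁ + d₂ • β m₁) = x + y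
      rw [← hc, ← hd, hR4]
    have hc := Nat.card_congr (Equiv.ofBijective Ψ ⟨hΨinj, hΨsurj⟩)
    rw [← hc]
    simp
  have hRm₁ : R (R m₁) = m₁ := by rw [A8, hυ m₁ hαm₁, hσm₁]
  have hσR : σ (R m₁) = R m₁ := by rw [A9, hυ m₁ hαm₁]
  have hRne : R m₁ ≠ m₁ := by
    intro h
    apply hm₁
    apply hD m₁ hαm₁
    have h1 := f1 m₁ hαm₁
    rwa [h] at h1
  refine ⟨hcard, ⟨m₁, R m₁, hm₁, fun h => hm₁ (Rinj _ h), fun h => hRne h.symm, hσm₁, hRm₁, hσR,
    by rw [hRm₁]⟩, m₁ + R m₁, ?_, ?_⟩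
  · intro h; exact hRne (eq_of_add _ _ h).symm
  · intro m
    constructor
    · rintro ⟨h1, h2⟩
      obtain ⟨x, y, hx, hy, rfl⟩ := hT m
      obtain ⟨x', hx', hy'⟩ : ∃ x', α x' = x' ∧ y = R x' :=
        ⟨R (R (R y)), f2 _ (f1 _ (f2 _ hy)), (hR4 y).symm⟩
      subst hy'
      rw [map_add, map_add, A9, A8, A10, hυ x hx, hυ x' hx'] at h1
      -- h1 : R x + x' = x + R x'
      have hd : R (x - x') = x - x' := by
        rw [map_sub]; exact sub_eq_sub_iff_add_eq_add.mpr h1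
      have hd0 : x - x' = 0 := by
        apply hD
        · rw [map_sub, hx, hx']
        · have e := f1 (x - x') (by rw [map_sub, hx, hx'])
          rwa [hd] at e
      have hxx : x = x' := sub_eq_zero.mp hd0
      subst hxx
      have e : R (R x) = σ x := by rw [A8, hυ x hx]
      rw [map_add, map_add, e] at h2
      -- h2 : σ x + R (σ x) = x + R x
      have hσx : α (σ x) = σ x := by rw [A13, hx]
      have hd' : σ x - x = R (x - σ x) := by
        rw [map_sub, sub_eq_sub_iff_add_eq_add, h2, add_comm]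
      have hd0' : σ x - x = 0 := by
        apply hD
        · rw [map_sub, hσx, hx]
        · rw [hd']
          exact f1 _ (by rw [map_sub, hx, hσx])
      have hσxx : σ x = x := sub_eq_zero.mp hd0'
      obtain ⟨c₁, c₂, hc⟩ := hspan x hx
      have hc2 : c₂ • m₁ = 0 := by
        have e1 : σ x = c₁ • m₁ + c₂ • (m₁ + β m₁) := by
          rw [hc, map_add, map_smul, map_smul, hσm₁, hσβ]
        rw [hσxx, hc, smul_add] at e1
        -- e1 : c₁ • m₁ + c₂ • β m₁ = c₁ • m₁ + (c₂ • m₁ + c₂ • β m₁)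
        have e2 : c₂ • m₁ + c₂ • β m₁ = 0 + c₂ • β m₁ := by
          rw [zero_add]; exact (add_left_cancel e1).symm
        exact add_right_cancel e2
      have hc20 : c₂ = 0 := by
        rcases hz2 c₂ with h | h
        · exact h
        · exfalso; rw [h, one_smul] at hc2; exact hm₁ hc2
      rw [hc20, zero_smul, add_zero] at hc
      rcases hz2 c₁ with h | h
      · left
        rw [h, zero_smul] at hc
        rw [hc, map_zero, add_zero]
      · right
        rw [h, one_smul] at hc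
        rw [hc]
    · rintro (rfl | rfl)
      · exact ⟨by rw [map_zero, map_zero], by rw [map_zero, map_zero]⟩
      · exact ⟨by rw [map_add, map_add, hRm₁, hσR, hσm₁, add_comm],
          by rw [map_add, map_add, hRm₁]⟩

end lin



section model
open DihedralGroup

/-- reflections of `D₈` -/
def Rf (s : DihedralGroup 4) : Prop := s ^ 2 = 1 ∧ s ≠ 1 ∧ s ≠ r 2

instance decRf (s : DihedralGroup 4) : Decidable (Rf s) := by unfold Rf; infer_instance

/-- the four-group `{1, c, s, sc}` -/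
def V (s : DihedralGroup 4) : Subgroup (DihedralGroup 4) where
  carrier := {v | v = 1 ∨ v = r 2 ∨ v = s ∨ v = s * r 2}
  mul_mem' := by
    intro a b ha hb
    have key : ∀ s a b : DihedralGroup 4, (a = 1 ∨ a = r 2 ∨ a = s ∨ a = s * r 2) →
        (b = 1 ∨ b = r 2 ∨ b = s ∨ b = s * r 2) →
        (a * b = 1 ∨ a * b = r 2 ∨ a * b = s ∨ a * b = s * r 2) := by decide
    exact key s a b ha hb
  one_mem' := Or.inl rfl
  inv_mem' := by
    intro a ha
    have key : ∀ s a : DihedralGroup 4, (a = 1 ∨ a = r 2 ∨ a = s ∨ a = s * r 2) →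
        (a⁻¹ = 1 ∨ a⁻¹ = r 2 ∨ a⁻¹ = s ∨ a⁻¹ = s * r 2) := by decide
    exact key s a ha

theorem mem_V (s v : DihedralGroup 4) : v ∈ V s ↔ (v = 1 ∨ v = r 2 ∨ v = s ∨ v = s * r 2) := Iff.rfl

instance decMemV (s v : DihedralGroup 4) : Decidable (v ∈ V s) := decidable_of_iff _ (mem_V s v).symm

theorem D1 : ∀ g : DihedralGroup 4, g ^ 4 = 1 := by decide
theorem D2 : (r (1 : ZMod 4)) ^ 2 = r 2 ∧ r (2 : ZMod 4) ≠ 1 ∧ (r (1 : ZMod 4)) ^ 4 = 1 := by decide
theorem D3 : ∀ s : DihedralGroup 4, Rf s → s * r 1 = (r 1)⁻¹ * s ∧ s * s = 1 ∧ Rf (s * r 1) := by decide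
theorem D4 : ∀ s v : DihedralGroup 4, Rf s → ∃ i < 4, ∃ j < 2, v = r 1 ^ i * s ^ j := by decide
theorem D5 : Rf (sr 0) ∧ Rf (sr 0 * r 2) ∧ Rf (sr 0 * (r 1)⁻¹) ∧ Rf (sr 0 * r 1) := by decide
theorem D7 : ∀ s x : DihedralGroup 4, Rf s → x ^ 2 = 1 → x ≠ 1 → x ≠ r 2 → x ∈ V s ∨ x ∈ V (s * r 1) := by decide
theorem D8 : ∀ s x y : DihedralGroup 4, (Rf s ∧ x ∈ V s ∧ x ≠ 1 ∧ x ≠ r 2 ∧ y ^ 2 = 1 ∧ (x * y) ^ 2 = 1) → y ∈ V s := by decide
theorem D10 : ∀ s v : DihedralGroup 4, Rf s → v ∈ V s → v ^ 2 = 1 := by decide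
theorem D11 : ∀ s : DihedralGroup 4, Rf s → s ≠ 1 ∧ s ≠ r 2 ∧ s * r 2 ≠ 1 ∧ s * r 2 ≠ r 2 ∧ s * r 2 ≠ s := by decide
theorem D12 : ∀ g : DihedralGroup 4, r 2 * g = g * r 2 := by decide


end model


theorem basis_nine {S : Type*} [Group S] (A : Subgroup S) (hcomm : ∀ x ∈ A, ∀ y ∈ A, x * y = y * x)
    (h3 : ∀ x ∈ A, x ^ 3 = 1) (h9 : Nat.card A = 9) (x y : S) (hx : x ∈ A) (hy : y ∈ A) (hx1 : x ≠ 1)
    (hyx : y ≠ 1) (hy1 : y ≠ x) (hy2 : y ≠ x⁻¹) :
    ∀ z ∈ A, ∃ i j : ℕ, i < 3 ∧ j < 3 ∧ z = x ^ i * y ^ j := by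
  classical
  let _ : CommGroup ↥A := { (inferInstance : Group ↥A) with
    mul_comm := fun a b => Subtype.ext (hcomm a a.2 b b.2) }
  have : Finite ↥A := Nat.finite_of_card_ne_zero (by rw [h9]; norm_num)
  have : Fact (Nat.Prime 3) := ⟨Nat.prime_three⟩
  obtain ⟨x', hx'⟩ : ∃ x' : ↥A, (x' : S) = x := ⟨⟨x, hx⟩, rfl⟩
  obtain ⟨y', hy'⟩ : ∃ y' : ↥A, (y' : S) = y := ⟨⟨y, hy⟩, rfl⟩
  have hx3 : x' ^ 3 = 1 := Subtype.ext (by rw [Subgroup.coe_pow, hx']; exact h3 x hx)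
  have hy3 : y' ^ 3 = 1 := Subtype.ext (by rw [Subgroup.coe_pow, hy']; exact h3 y hy)
  have hx'1 : x' ≠ 1 := fun h => hx1 (by rw [← hx', h]; rfl)
  have hox : orderOf x' = 3 := orderOf_eq_prime hx3 hx'1
  have hK : Nat.card (Subgroup.zpowers x') = 3 := by rw [Nat.card_zpowers, hox]
  have hKP : Subgroup.zpowers x' ≤ Subgroup.closure {x', y'} := by
    rw [Subgroup.zpowers_le]; exact Subgroup.subset_closure (by simp)
  have hyP : y' ∈ Subgroup.closure ({x', y'} : Set ↥A) := Subgroup.subset_closure (by simp)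
  have hynK : y' ∉ Subgroup.zpowers x' := by
    intro h
    obtain ⟨k, hk⟩ := Subgroup.mem_zpowers_iff.mp h
    have e : x' ^ k = x' ^ (k % ((3 : ℕ) : ℤ)) := zpow_eq_zpow_emod' k hx3
    have h3' : k % ((3 : ℕ) : ℤ) = 0 ∨ k % ((3 : ℕ) : ℤ) = 1 ∨ k % ((3 : ℕ) : ℤ) = 2 := by omega
    rw [e] at hk
    rcases h3' with h | h | h
    · rw [h, zpow_zero] at hk
      exact hyx (by rw [← hy', ← hk]; rfl)
    · rw [h, zpow_one] at hk
      exact hy1 (by rw [← hy', ← hk, hx'])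
    · rw [h] at hk
      have e2 : x' ^ (2 : ℤ) = x'⁻¹ := by
        rw [eq_inv_iff_mul_eq_one]
        have : x' ^ (2 : ℤ) * x' = x' ^ 3 := by
          rw [zpow_ofNat]; exact (pow_succ x' 2).symm
        rw [this, hx3]
      rw [e2] at hk
      exact hy2 (by rw [← hy', ← hk, ← hx']; rfl)
  have hPtop : Subgroup.closure ({x', y'} : Set ↥A) = ⊤ := by
    apply Subgroup.eq_top_of_card_eq
    have hdvd : Nat.card (Subgroup.closure ({x', y'} : Set ↥A)) ∣ 3 ^ 2 := by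
      have := Subgroup.card_subgroup_dvd_card (Subgroup.closure ({x', y'} : Set ↥A))
      rw [h9] at this
      exact this
    obtain ⟨k, hk, hkc⟩ := (Nat.dvd_prime_pow Nat.prime_three).mp hdvd
    have hgt : ¬ Nat.card (Subgroup.closure ({x', y'} : Set ↥A)) ≤ 3 := by
      intro hle
      have := Subgroup.eq_of_le_of_card_ge hKP (by rw [hK]; exact hle)
      exact hynK (by rw [this]; exact hyP)
    rw [h9, hkc]
    rw [hkc] at hgt
    interval_cases k
    · exact absurd (by norm_num) hgt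
    · exact absurd (by norm_num) hgt
    · norm_num
  intro z hz
  have hz' : (⟨z, hz⟩ : ↥A) ∈ Subgroup.closure ({x', y'} : Set ↥A) := by
    rw [hPtop]; exact Subgroup.mem_top _
  obtain ⟨m, n, hmn⟩ := Subgroup.mem_closure_pair.mp hz'
  have e1 : x' ^ m = x' ^ (m % ((3 : ℕ) : ℤ)).toNat := by
    rw [← zpow_natCast, Int.toNat_of_nonneg (Int.emod_nonneg _ (by norm_num))]
    exact zpow_eq_zpow_emod' m hx3
  have e2 : y' ^ n = y' ^ (n % ((3 : ℕ) : ℤ)).toNat := by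
    rw [← zpow_natCast, Int.toNat_of_nonneg (Int.emod_nonneg _ (by norm_num))]
    exact zpow_eq_zpow_emod' n hy3
  refine ⟨(m % ((3 : ℕ) : ℤ)).toNat, (n % ((3 : ℕ) : ℤ)).toNat, by omega, by omega, ?_⟩
  rw [e1, e2] at hmn
  have := congrArg Subtype.val hmn
  rw [Subgroup.coe_mul, Subgroup.coe_pow, Subgroup.coe_pow, hx', hy'] at this
  exact this.symm



theorem rels {G : Type*} [Group G] (a r s b c u : G) (hb : b = r * a * r⁻¹) (hc : c = r * r)
    (hu : u = s * c) (hr4 : r ^ 4 = 1) (hs2 : s * s = 1) (hsr : s * r = r⁻¹ * s)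
    (hsa : s * a = a * s) (ha3 : a ^ 3 = 1) (hca : c * a * c⁻¹ = a⁻¹) :
    b * r = r * a ∧ a * r = r * b * b ∧ b * s = s * b * b ∧ u * b = b * u ∧ u * s = s * u ∧
    a * u = u * a * a ∧ u * u = 1 ∧ r * r = s * u ∧ s * r = r * u ∧ b * b * b = 1 := by
  subst hu
  have hc2 : c * c = 1 := by
    have h : c * c = r ^ 4 := by rw [hc]; simp [pow_succ, mul_assoc]
    rw [h, hr4]
  have hci : c⁻¹ = c := inv_eq_of_mul_eq_one_right hc2
  have hb3 : b * b * b = 1 := by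
    have h : b * b * b = r * a ^ 3 * r⁻¹ := by rw [hb]; simp [pow_succ, mul_assoc]
    rw [h, ha3]; group
  have hbi : b⁻¹ = b * b := inv_eq_of_mul_eq_one_left hb3
  have hai : a⁻¹ = a * a := by
    apply inv_eq_of_mul_eq_one_left
    have h : a * a * a = a ^ 3 := by simp [pow_succ, mul_assoc]
    rw [h, ha3]
  have hsc : s * c = c * s := by
    calc s * c = s * r * r := by rw [hc, mul_assoc]
      _ = r⁻¹ * s * r := by rw [hsr]
      _ = r⁻¹ * (s * r) := by rw [mul_assoc]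
      _ = r⁻¹ * (r⁻¹ * s) := by rw [hsr]
      _ = c⁻¹ * s := by rw [hc]; group
      _ = c * s := by rw [hci]
  have hcai : c * a⁻¹ * c⁻¹ = a := by
    have h : c * a⁻¹ * c⁻¹ = (c * a * c⁻¹)⁻¹ := by group
    rw [h, hca, inv_inv]
  have hcb : c * b * c⁻¹ = b⁻¹ := by
    have h : c * b * c⁻¹ = r * (c * a * c⁻¹) * r⁻¹ := by rw [hc, hb]; group
    rw [h, hca, hb]; group
  have hsrs : s * r * s⁻¹ = r⁻¹ := by rw [hsr]; group
  have hsas : s * a * s⁻¹ = a := by rw [hsa]; group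
  have hsb : s * b * s⁻¹ = b⁻¹ := by
    calc s * b * s⁻¹ = (s * r * s⁻¹) * (s * a * s⁻¹) * (s * r * s⁻¹)⁻¹ := by rw [hb]; group
      _ = r⁻¹ * a * r := by rw [hsrs, hsas, inv_inv]
      _ = r⁻¹ * (c * a⁻¹ * c⁻¹) * r := by rw [hcai]
      _ = b⁻¹ := by rw [hc, hb]; group
  refine ⟨by rw [hb]; group, ?_, ?_, ?_, ?_, ?_, ?_, ?_, ?_, hb3⟩
  · calc a * r = (c * a⁻¹ * c⁻¹) * r := by rw [hcai]
      _ = r * b⁻¹ := by rw [hc, hb]; group
      _ = r * b * b := by rw [hbi, mul_assoc]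
  · have h1 : s * b⁻¹ * s⁻¹ = b := by
      have h : s * b⁻¹ * s⁻¹ = (s * b * s⁻¹)⁻¹ := by group
      rw [h, hsb, inv_inv]
    calc b * s = (s * b⁻¹ * s⁻¹) * s := by rw [h1]
      _ = s * b⁻¹ := by group
      _ = s * b * b := by rw [hbi, mul_assoc]
  · have h1 : (s * c) * b * (s * c)⁻¹ = b := by
      have h : (s * c) * b * (s * c)⁻¹ = s * (c * b * c⁻¹) * s⁻¹ := by group
      have h' : s * b⁻¹ * s⁻¹ = (s * b * s⁻¹)⁻¹ := by group
      rw [h, hcb, h', hsb, inv_inv]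
    calc s * c * b = ((s * c) * b * (s * c)⁻¹) * (s * c) := by group
      _ = b * (s * c) := by rw [h1]
  · rw [mul_assoc, ← hsc]
  · have h1 : (s * c) * a⁻¹ * (s * c)⁻¹ = a := by
      have h : (s * c) * a⁻¹ * (s * c)⁻¹ = s * (c * a⁻¹ * c⁻¹) * s⁻¹ := by group
      rw [h, hcai, hsas]
    calc a * (s * c) = ((s * c) * a⁻¹ * (s * c)⁻¹) * (s * c) := by rw [h1]
      _ = s * c * a⁻¹ := by group
      _ = s * c * a * a := by rw [hai]; group
  · calc s * c * (s * c) = s * (c * s) * c := by group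
      _ = s * (s * c) * c := by rw [hsc]
      _ = (s * s) * (c * c) := by group
      _ = 1 := by rw [hs2, hc2, one_mul]
  · rw [← mul_assoc, hs2, one_mul, hc]
  · have hrs : r * s = s * r⁻¹ := by
      have h : s * r⁻¹ = (s * r * s⁻¹)⁻¹ * s := by group
      rw [h, hsrs, inv_inv]
    calc s * r = s * r⁻¹ * (r * r) := by group
      _ = r * s * c := by rw [hrs, hc]
      _ = r * (s * c) := by rw [mul_assoc]


section model2
open DihedralGroup
theorem D2' : r (1 : ZMod 4) * r 1 = r 2 ∧ r (2 : ZMod 4) * r 2 = 1 := by decide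
theorem D13 : ∀ z : DihedralGroup 4, Rf z → Fintype.card ↥(V z) = 4 := by decide
theorem D14 : sr (0 : ZMod 4) ≠ r 2 := by decide
end model2

theorem act_mul {S M : Type*} [Group S] [AddCommGroup M] [Module (ZMod 2) M]
    (ρ : Representation (ZMod 2) S M) (g h : S) (m : M) : ρ (g * h) m = ρ g (ρ h m) := by
  rw [map_mul]; rfl

theorem act_one {S M : Type*} [Group S] [AddCommGroup M] [Module (ZMod 2) M]
    (ρ : Representation (ZMod 2) S M) (m : M) : ρ 1 m = m := by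
  rw [map_one]; rfl

/-- Let S be a finite group with a normal elementary abelian subgroup A of order 9 that is self-centralizing (C_S(A) = A), and a dihedral subgroup X of order 8 with S = AX. Let M be a finite-dimensional module for S over the field with two elements that is faithful and irreducible. Then M has 16 elements, and X contains exactly one subgroup B of order 4 and exponent 2 whose fixed points on M form a subspace with exactly 2 elements (equivalently, M is free of rank one over the group algebra of B). -/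
theorem result {S : Type*} [Group S] [Finite S]
    (A : Subgroup S) [A.Normal] (hA : Cfsg.IsElementaryAbelian 3 A) (hA9 : Nat.card ↥A = 9)
    (hAC : Subgroup.centralizer (A : Set S) = A) (X : Subgroup S) (hX : Nonempty (↥X ≃* DihedralGroup 4)) (hAX : A ⊔ X = ⊤)
    {M : Type*} [AddCommGroup M] [Module (ZMod 2) M] [Finite M] (ρ : Representation (ZMod 2) S M)
    (hfaith : Function.Injective ρ)
    (hirr : ∀ N : Submodule (ZMod 2) M, (∀ s : S, ∀ m ∈ N, ρ s m ∈ N) → N = ⊥ ∨ N = ⊤) (hM : Nontrivial M) :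
    Nat.card M = 16 ∧
      ∃! B : Subgroup S, B ≤ X ∧ Nat.card ↥B = 4 ∧ (∀ b ∈ B, b ^ 2 = 1) ∧
        Nat.card {m : M // ∀ b ∈ B, ρ b m = m} = 2 := by
  classical
  obtain ⟨e⟩ := hX
  obtain ⟨E, hEdef⟩ : ∃ E : DihedralGroup 4 →* S, E = X.subtype.comp e.symm.toMonoidHom := ⟨_, rfl⟩
  have hEinj : Function.Injective E := by
    rw [hEdef]; exact X.subtype_injective.comp e.symm.injective
  have hEX : ∀ d, E d ∈ X := fun d => by rw [hEdef]; exact (e.symm d).2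
  have hXE : ∀ x ∈ X, ∃ d, E d = x := fun x hx => ⟨e ⟨x, hx⟩, by
    rw [hEdef]
    show ((e.symm (e ⟨x, hx⟩) : X) : S) = x
    rw [MulEquiv.symm_apply_apply]⟩
  have hAcomm : ∀ x ∈ A, ∀ y ∈ A, x * y = y * x := fun x hx y hy =>
    congrArg Subtype.val (hA.1.is_comm.comm ⟨x, hx⟩ ⟨y, hy⟩)
  have hA3 : ∀ x ∈ A, x ^ 3 = 1 := hA.2
  have hAn : ∀ (g : S), ∀ x ∈ A, g * x * g⁻¹ ∈ A := fun g x hx =>
    Subgroup.Normal.conj_mem inferInstance x hx g
  have hcent : ∀ g : S, (∀ x ∈ A, g * x = x * g) → g ∈ A := by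
    intro g hg
    rw [← hAC, Subgroup.mem_centralizer_iff]
    intro x hx
    exact (hg x hx).symm
  have hXA : ∀ x ∈ X, x ∈ A → x = 1 := by
    intro x hxX hxA
    obtain ⟨d, rfl⟩ := hXE x hxX
    have h4 : E d ^ 4 = 1 := by rw [← map_pow, D1, map_one]
    have h3 := hA3 _ hxA
    calc E d = E d ^ 4 * (E d ^ 3)⁻¹ := by group
      _ = 1 := by rw [h4, h3, inv_one, mul_one]
  have sq_cube : ∀ z : S, z ^ 3 = 1 → z = z⁻¹ → z = 1 := by
    intro z h3 h
    have h2 : z * z = 1 := by nth_rewrite 2 [h]; exact mul_inv_cancel z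
    calc z = z ^ 3 * (z * z)⁻¹ := by group
      _ = 1 := by rw [h3, h2, inv_one, mul_one]
  obtain ⟨rr, hrr⟩ : ∃ rr, rr = E (DihedralGroup.r 1) := ⟨_, rfl⟩
  obtain ⟨cc, hcc⟩ : ∃ cc, cc = E (DihedralGroup.r 2) := ⟨_, rfl⟩
  obtain ⟨tt, htt⟩ : ∃ tt, tt = E (DihedralGroup.sr 0) := ⟨_, rfl⟩
  have hccrr : cc = rr * rr := by
    rw [hcc, hrr, ← map_mul, D2'.1]
  have hcc2 : cc * cc = 1 := by rw [hcc, ← map_mul, D2'.2, map_one]
  have hcci : cc⁻¹ = cc := inv_eq_of_mul_eq_one_right hcc2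
  have hcc1 : cc ≠ 1 := fun h => D2.2.1 (hEinj (by rw [← hcc, h, map_one]))
  have hrr4 : rr ^ 4 = 1 := by rw [hrr, ← map_pow, D2.2.2, map_one]
  have hccX : cc ∈ X := by rw [hcc]; exact hEX _
  have hrrX : rr ∈ X := by rw [hrr]; exact hEX _
  have httX : tt ∈ X := by rw [htt]; exact hEX _
  -- conjugation helper
  have conj_fix : ∀ g x : S, g * x * g⁻¹ = x → g * x = x * g := by
    intro g x h
    calc g * x = (g * x * g⁻¹) * g := by group
      _ = x * g := by rw [h]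
  -- c inverts A
  have hcinv : ∀ x ∈ A, cc * x * cc⁻¹ = x⁻¹ := by
    by_contra hne
    push Not at hne
    obtain ⟨x, hx, hxne⟩ := hne
    obtain ⟨a₀, ha₀⟩ : ∃ a₀, a₀ = x * (cc * x * cc⁻¹) := ⟨_, rfl⟩
    have ha₀A : a₀ ∈ A := by rw [ha₀]; exact A.mul_mem hx (hAn cc x hx)
    have ha₀1 : a₀ ≠ 1 := by
      intro h
      apply hxne
      rw [ha₀] at h
      exact eq_inv_of_mul_eq_one_right h
    have ha₀c : cc * a₀ * cc⁻¹ = a₀ := by
      have h1 : cc * a₀ * cc⁻¹ = (cc * x * cc⁻¹) * ((cc * cc) * x * (cc * cc)⁻¹) := by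
        rw [ha₀]; group
      rw [h1, hcc2, one_mul, inv_one, mul_one, ha₀]
      exact hAcomm _ (hAn cc x hx) _ hx
    have hnc : ∃ y ∈ A, cc * y * cc⁻¹ ≠ y := by
      by_contra hall
      push Not at hall
      exact hcc1 (hXA cc hccX (hcent cc (fun y hy => conj_fix _ _ (hall y hy))))
    obtain ⟨y, hy, hyne⟩ := hnc
    obtain ⟨a₁, ha₁⟩ : ∃ a₁, a₁ = y * (cc * y * cc⁻¹)⁻¹ := ⟨_, rfl⟩
    have ha₁A : a₁ ∈ A := by rw [ha₁]; exact A.mul_mem hy (A.inv_mem (hAn cc y hy))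
    have ha₁1 : a₁ ≠ 1 := by
      intro h
      apply hyne
      rw [ha₁] at h
      exact (mul_inv_eq_one.mp h).symm
    have ha₁c : cc * a₁ * cc⁻¹ = a₁⁻¹ := by
      have h1 : cc * a₁ * cc⁻¹ = (cc * y * cc⁻¹) * ((cc * cc) * y * (cc * cc)⁻¹)⁻¹ := by
        rw [ha₁]; group
      rw [h1, hcc2, one_mul, inv_one, mul_one, ha₁, mul_inv_rev, inv_inv]
    have ha₀3 := hA3 a₀ ha₀A
    have ha₁3 := hA3 a₁ ha₁A
    have hbl := basis_nine A hAcomm hA3 hA9 a₀ a₁ ha₀A ha₁A ha₀1 ha₁1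
      (by
        intro h
        apply ha₁1
        apply sq_cube a₁ ha₁3
        rw [← ha₁c, h, ha₀c])
      (by
        intro h
        apply ha₁1
        apply sq_cube a₁ ha₁3
        have h2 : cc * a₁ * cc⁻¹ = a₁ := by
          have h3 : cc * a₀⁻¹ * cc⁻¹ = (cc * a₀ * cc⁻¹)⁻¹ := by group
          rw [h, h3, ha₀c]
        rw [← ha₁c, h2])
    -- z := rr a₁ rr⁻¹
    have hzA : rr * a₁ * rr⁻¹ ∈ A := hAn rr a₁ ha₁A
    have hcr : cc * rr = rr * cc := by rw [hccrr]; group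
    have hzc : cc * (rr * a₁ * rr⁻¹) * cc⁻¹ = (rr * a₁ * rr⁻¹)⁻¹ := by
      have h1 : cc * (rr * a₁ * rr⁻¹) * cc⁻¹ = (cc * rr) * a₁ * (cc * rr)⁻¹ := by group
      have h2 : (rr * cc) * a₁ * (rr * cc)⁻¹ = rr * (cc * a₁ * cc⁻¹) * rr⁻¹ := by group
      rw [h1, hcr, h2, ha₁c]; group
    obtain ⟨i, j, hi, hj, hz⟩ := hbl _ hzA
    -- a₀^i = 1
    have hi0 : a₀ ^ i = 1 := by
      apply sq_cube
      · rw [← pow_mul, mul_comm, pow_mul, ha₀3, one_pow]
      · have hc0 : cc * a₀ ^ i * cc⁻¹ = a₀ ^ i := by rw [← conj_pow, ha₀c]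
        have hc1 : cc * a₁ ^ j * cc⁻¹ = (a₁ ^ j)⁻¹ := by rw [← conj_pow, ha₁c, inv_pow]
        have h1 : cc * (a₀ ^ i * a₁ ^ j) * cc⁻¹ = a₀ ^ i * (a₁ ^ j)⁻¹ := by
          rw [← conj_mul, hc0, hc1]
        have h2 : (a₀ ^ i * a₁ ^ j)⁻¹ = (a₀ ^ i)⁻¹ * (a₁ ^ j)⁻¹ := by
          rw [mul_inv_rev]
          exact hAcomm _ (A.inv_mem (A.pow_mem ha₁A j)) _ (A.inv_mem (A.pow_mem ha₀A i))
        rw [hz, h1, h2] at hzc
        exact mul_right_cancel hzc
    rw [hi0, one_mul] at hz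
    -- rr a₁ rr⁻¹ = a₁^j ; then cc a₁ cc⁻¹ = a₁^(j*j)
    have hcj : cc * a₁ * cc⁻¹ = a₁ ^ (j * j) := by
      have h1 : cc * a₁ * cc⁻¹ = rr * (rr * a₁ * rr⁻¹) * rr⁻¹ := by rw [hccrr]; group
      rw [h1, hz, ← conj_pow, hz, ← pow_mul]
    apply ha₁1
    apply sq_cube a₁ ha₁3
    rw [← ha₁c, hcj]
    interval_cases j
    · exfalso
      rw [pow_zero] at hz
      apply ha₁1
      have h1 : a₁ = rr⁻¹ * (rr * a₁ * rr⁻¹) * rr := by group
      rw [h1, hz]; group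
    · rw [pow_one]
    · have h4 : a₁ ^ (2 * 2) = a₁ ^ 3 * a₁ := by rw [← pow_succ]
      rw [h4, ha₁3, one_mul]
  -- reflections
  have hRf0 := D5.1
  have htt2 : tt * tt = 1 := by rw [htt, ← map_mul, (D3 _ hRf0).2.1, map_one]
  have htti : tt⁻¹ = tt := inv_eq_of_mul_eq_one_right htt2
  have httcc : tt ≠ cc := fun h => D14 (hEinj (by rw [← htt, ← hcc, h]))
  have hrefl : ∀ s' : DihedralGroup 4, Rf s' → E s' * E s' = 1 ∧ E s' * rr = rr⁻¹ * E s' := by
    intro s' hs'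
    obtain ⟨h1, h2, -⟩ := D3 s' hs'
    refine ⟨by rw [← map_mul, h2, map_one], ?_⟩
    rw [hrr, ← map_mul, h1, map_mul, map_inv]
  have hta : ∃ a₁ ∈ A, a₁ ≠ 1 ∧ tt * a₁ * tt⁻¹ = a₁ := by
    by_contra hno
    push Not at hno
    have htinv : ∀ x ∈ A, tt * x * tt⁻¹ = x⁻¹ := by
      intro x hx
      by_contra hne
      have h1 : x * (tt * x * tt⁻¹) ≠ 1 := fun h => hne (eq_inv_of_mul_eq_one_right h)
      apply hno _ (A.mul_mem hx (hAn tt x hx)) h1
      have h2 : tt * (x * (tt * x * tt⁻¹)) * tt⁻¹ =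
          (tt * x * tt⁻¹) * ((tt * tt) * x * (tt * tt)⁻¹) := by group
      rw [h2, htt2, one_mul, inv_one, mul_one]
      exact hAcomm _ (hAn tt x hx) _ hx
    have htcA : tt * cc ∈ A := hcent _ (fun x hx => by
      apply conj_fix
      have h1 : (tt * cc) * x * (tt * cc)⁻¹ = tt * (cc * x * cc⁻¹) * tt⁻¹ := by group
      rw [h1, hcinv x hx, htinv x⁻¹ (A.inv_mem hx), inv_inv])
    have htc1 : tt * cc = 1 := hXA _ (X.mul_mem httX hccX) htcA
    apply httcc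
    rw [eq_inv_of_mul_eq_one_left htc1, hcci]
  obtain ⟨a₁, ha₁A, ha₁1, hta₁⟩ := hta
  obtain ⟨b₁, hb₁⟩ : ∃ b₁, b₁ = rr * a₁ * rr⁻¹ := ⟨_, rfl⟩
  have hb₁A : b₁ ∈ A := by rw [hb₁]; exact hAn rr a₁ ha₁A
  have ha₁3 := hA3 a₁ ha₁A
  have hb₁3 := hA3 b₁ hb₁A
  have hb₁1 : b₁ ≠ 1 := by
    intro h
    apply ha₁1
    have h1 : a₁ = rr⁻¹ * (rr * a₁ * rr⁻¹) * rr := by group
    rw [h1, ← hb₁, h]; group
  have kt_a : MulAut.conj tt a₁ = a₁ := by rw [MulAut.conj_apply]; exact hta₁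
  have kr_a : MulAut.conj rr a₁ = b₁ := by rw [MulAut.conj_apply, hb₁]
  have kc : ∀ x ∈ A, MulAut.conj cc x = x⁻¹ := fun x hx => by
    rw [MulAut.conj_apply]; exact hcinv x hx
  have kr_b : MulAut.conj rr b₁ = a₁⁻¹ := by
    rw [← kr_a, ← MulAut.mul_apply, ← map_mul, ← hccrr]
    exact kc a₁ ha₁A
  have kt_b : MulAut.conj tt b₁ = b₁⁻¹ := by
    have h1 : tt * rr = rr⁻¹ * tt := by
      have := (hrefl _ hRf0).2
      rwa [← htt] at this
    have h2 : MulAut.conj tt b₁ = (MulAut.conj rr)⁻¹ (MulAut.conj tt a₁) := by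
      rw [← kr_a, ← MulAut.mul_apply, ← map_mul, h1, map_mul, map_inv, MulAut.mul_apply]
    rw [h2, kt_a]
    have h3 : a₁ = MulAut.conj rr b₁⁻¹ := by rw [map_inv, kr_b, inv_inv]
    rw [h3, MulAut.inv_apply_self]
  have hb₁a : b₁ ≠ a₁ := by
    intro h
    apply hb₁1
    apply sq_cube b₁ hb₁3
    rw [← kt_b, h, kt_a]
  have hb₁ai : b₁ ≠ a₁⁻¹ := by
    intro h
    apply hb₁1
    apply sq_cube b₁ hb₁3
    rw [← kt_b, h, map_inv, kt_a]
  have hbl2 := basis_nine A hAcomm hA3 hA9 a₁ b₁ ha₁A hb₁A ha₁1 hb₁1 hb₁a hb₁ai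
  -- a fixed vector
  have c2 : ∀ m : M, m + m = 0 := add_self_zmod2
  have eq_of_add : ∀ x y : M, x + y = 0 → x = y := fun x y h =>
    add_right_cancel (h.trans (c2 y).symm)
  have hfixex : ∃ a₀ ∈ A, a₀ ≠ 1 ∧ ∃ m : M, m ≠ 0 ∧ ρ a₀ m = m := by
    by_contra hno
    push Not at hno
    have key : ∀ a ∈ A, a ≠ 1 → ∀ m : M, m + ρ a m + ρ a (ρ a m) = 0 := by
      intro a ha ha1 m
      by_contra hne
      apply hno a ha ha1 _ hne
      have h3 : ρ a (ρ a (ρ a m)) = m := by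
        have h : a * a * a = 1 := by rw [← hA3 a ha]; simp [pow_succ, mul_assoc]
        rw [← act_mul, ← act_mul, h, act_one]
      rw [map_add, map_add, h3]; abel
    have k1 := key a₁ ha₁A ha₁1
    have k2 := key b₁ hb₁A hb₁1
    have k3 := key (a₁ * b₁) (A.mul_mem ha₁A hb₁A)
      (fun h => hb₁ai (eq_inv_of_mul_eq_one_right h))
    have comm : ∀ m, ρ a₁ (ρ b₁ m) = ρ b₁ (ρ a₁ m) := by
      intro m; rw [← act_mul, ← act_mul, hAcomm a₁ ha₁A b₁ hb₁A]
    have e1 : ∀ x, ρ a₁ (ρ a₁ x) = x + ρ a₁ x := fun x => (eq_of_add _ _ (k1 x)).symm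
    have e2 : ∀ x, ρ b₁ (ρ b₁ x) = x + ρ b₁ x := fun x => (eq_of_add _ _ (k2 x)).symm
    have hab : ρ a₁ = ρ b₁ := by
      apply LinearMap.ext
      intro m
      have h := k3 m
      rw [act_mul, act_mul] at h
      have h' : ρ a₁ (ρ b₁ (ρ a₁ (ρ b₁ m))) = m + ρ b₁ m + ρ a₁ m + ρ a₁ (ρ b₁ m) := by
        calc ρ a₁ (ρ b₁ (ρ a₁ (ρ b₁ m))) = ρ a₁ (ρ a₁ (ρ b₁ (ρ b₁ m))) := by
              rw [← comm (ρ b₁ m)]
          _ = ρ b₁ (ρ b₁ m) + ρ a₁ (ρ b₁ (ρ b₁ m)) := e1 _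
          _ = (m + ρ b₁ m) + ρ a₁ (m + ρ b₁ m) := by rw [e2]
          _ = m + ρ b₁ m + ρ a₁ m + ρ a₁ (ρ b₁ m) := by rw [map_add]; abel
      rw [h'] at h
      have h'' : (m + m) + (ρ a₁ (ρ b₁ m) + ρ a₁ (ρ b₁ m)) + (ρ a₁ m + ρ b₁ m) = 0 := by
        rw [← h]; abel
      rw [c2, c2, zero_add, zero_add] at h''
      exact eq_of_add _ _ h''
    exact hb₁a (hfaith hab).symm
  obtain ⟨a₀, ha₀A, ha₀1, m₀, hm₀, hfix₀⟩ := hfixex
  -- a reflection centralising a₀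
  have g1 : ∃ s' : DihedralGroup 4, Rf s' ∧ E s' * a₁ = a₁ * E s' :=
    ⟨DihedralGroup.sr 0, D5.1, by rw [← htt]; exact conj_fix _ _ hta₁⟩
  have g2 : ∃ s' : DihedralGroup 4, Rf s' ∧ E s' * b₁ = b₁ * E s' := by
    refine ⟨DihedralGroup.sr 0 * DihedralGroup.r 2, D5.2.1, ?_⟩
    rw [map_mul, ← htt, ← hcc]
    apply conj_fix
    rw [← MulAut.conj_apply, map_mul, MulAut.mul_apply, kc b₁ hb₁A, map_inv, kt_b, inv_inv]
  have kri_b : (MulAut.conj rr)⁻¹ b₁ = a₁ := by rw [← kr_a, MulAut.inv_apply_self]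
  have kri_a : (MulAut.conj rr)⁻¹ a₁ = b₁⁻¹ := by
    have h3 : a₁ = MulAut.conj rr b₁⁻¹ := by rw [map_inv, kr_b, inv_inv]
    rw [h3, MulAut.inv_apply_self]
  have g3 : ∃ s' : DihedralGroup 4, Rf s' ∧ E s' * (a₁ * b₁) = (a₁ * b₁) * E s' := by
    refine ⟨DihedralGroup.sr 0 * (DihedralGroup.r 1)⁻¹, D5.2.2.1, ?_⟩
    rw [map_mul, map_inv, ← htt, ← hrr]
    apply conj_fix
    rw [← MulAut.conj_apply, map_mul MulAut.conj, map_inv MulAut.conj, MulAut.mul_apply,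
      map_mul (MulAut.conj rr)⁻¹, kri_a, kri_b, map_mul (MulAut.conj tt), map_inv, kt_b, kt_a,
      inv_inv]
    exact hAcomm _ hb₁A _ ha₁A
  have g4 : ∃ s' : DihedralGroup 4, Rf s' ∧ E s' * (a₁ * b₁ ^ 2) = (a₁ * b₁ ^ 2) * E s' := by
    refine ⟨DihedralGroup.sr 0 * DihedralGroup.r 1, D5.2.2.2, ?_⟩
    rw [map_mul, ← htt, ← hrr]
    apply conj_fix
    have ha2 : (a₁⁻¹) ^ 2 = a₁ := by
      rw [inv_pow]
      apply inv_eq_of_mul_eq_one_right
      rw [← pow_succ, ha₁3]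
    have hb2 : b₁⁻¹ = b₁ ^ 2 := by
      apply inv_eq_of_mul_eq_one_right
      rw [← pow_succ', hb₁3]
    rw [← MulAut.conj_apply, map_mul MulAut.conj, MulAut.mul_apply,
      map_mul (MulAut.conj rr), map_pow (MulAut.conj rr), kr_a, kr_b, map_mul (MulAut.conj tt),
      map_pow (MulAut.conj tt), map_inv, kt_b, kt_a, ha2, hb2]
    exact hAcomm _ (A.pow_mem hb₁A 2) _ ha₁A
  have gpow : ∀ x : S, (∃ s' : DihedralGroup 4, Rf s' ∧ E s' * x = x * E s') →
      ∃ s' : DihedralGroup 4, Rf s' ∧ E s' * x ^ 2 = x ^ 2 * E s' := by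
    rintro x ⟨s', hs', h⟩
    exact ⟨s', hs', (Commute.pow_right h 2).eq⟩
  obtain ⟨i, j, hi, hj, hz⟩ := hbl2 a₀ ha₀A
  have hgood : ∃ s' : DihedralGroup 4, Rf s' ∧ E s' * a₀ = a₀ * E s' := by
    have hcomm₁ : Commute a₁ b₁ := hAcomm a₁ ha₁A b₁ hb₁A
    interval_cases i <;> interval_cases j
    · exfalso; apply ha₀1; rw [hz, pow_zero, pow_zero, one_mul]
    · rw [hz, pow_zero, one_mul, pow_one]; exact g2
    · rw [hz, pow_zero, one_mul]; exact gpow _ g2
    · rw [hz, pow_one, pow_zero, mul_one]; exact g1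
    · rw [hz, pow_one, pow_one]; exact g3
    · rw [hz, pow_one]; exact g4
    · rw [hz, pow_zero, mul_one]; exact gpow _ g1
    · have h : a₁ ^ 2 * b₁ ^ 1 = (a₁ * b₁ ^ 2) ^ 2 := by
        rw [(hcomm₁.pow_right 2).mul_pow, ← pow_mul, pow_one]
        have h4 : b₁ ^ (2 * 2) = b₁ ^ 3 * b₁ := by rw [← pow_succ]
        rw [h4, hb₁3, one_mul]
      rw [hz, h]; exact gpow _ g4
    · have h : a₁ ^ 2 * b₁ ^ 2 = (a₁ * b₁) ^ 2 := (hcomm₁.mul_pow 2).symm
      rw [hz, h]; exact gpow _ g3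
  obtain ⟨s', hs', hsa⟩ := hgood
  obtain ⟨ss, hss⟩ : ∃ ss, ss = E s' := ⟨_, rfl⟩
  rw [← hss] at hsa
  obtain ⟨hss2, hssr⟩ := hrefl s' hs'
  rw [← hss] at hss2 hssr
  have ha₀3 := hA3 a₀ ha₀A
  obtain ⟨b₀, hb₀⟩ : ∃ b₀, b₀ = rr * a₀ * rr⁻¹ := ⟨_, rfl⟩
  have hb₀A : b₀ ∈ A := by rw [hb₀]; exact hAn rr a₀ ha₀A
  obtain ⟨I1, I2, I3, I4, I5, I6, I7, I8, I9, I10⟩ :=
    rels a₀ rr ss b₀ cc (ss * cc) hb₀ hccrr rfl hrr4 hss2 hssr hsa ha₀3 (hcinv a₀ ha₀A)
  have kr0 : MulAut.conj rr a₀ = b₀ := by rw [MulAut.conj_apply, hb₀]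
  have hb₀1 : b₀ ≠ 1 := by
    intro h
    apply ha₀1
    have h1 : a₀ = rr⁻¹ * (rr * a₀ * rr⁻¹) * rr := by group
    rw [h1, ← hb₀, h]; group
  have hb₀a : b₀ ≠ a₀ := by
    intro h
    apply ha₀1
    apply sq_cube a₀ ha₀3
    rw [← kc a₀ ha₀A, hccrr, map_mul, MulAut.mul_apply, kr0, h, kr0, h]
  have hb₀ai : b₀ ≠ a₀⁻¹ := by
    intro h
    apply ha₀1
    apply sq_cube a₀ ha₀3
    rw [← kc a₀ ha₀A, hccrr, map_mul, MulAut.mul_apply, kr0, h, map_inv, kr0, h, inv_inv]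
  have hbl0 := basis_nine A hAcomm hA3 hA9 a₀ b₀ ha₀A hb₀A ha₀1 hb₀1 hb₀a hb₀ai
  have ha₀c : a₀ * a₀ * a₀ = 1 := by rw [← ha₀3]; simp [pow_succ, mul_assoc]
  have hrrc : rr * rr * rr * rr = 1 := by rw [← hrr4]; simp [pow_succ, mul_assoc]
  -- irreducibility in terms of the generators
  have hirr' : ∀ N : Submodule (ZMod 2) M, (∀ m ∈ N, ρ a₀ m ∈ N) → (∀ m ∈ N, ρ rr m ∈ N) →
      (∀ m ∈ N, ρ ss m ∈ N) → N = ⊥ ∨ N = ⊤ := by
    intro N ha hr hs
    apply hirr N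
    let H : Subgroup S :=
      { carrier := {g | ∀ m, ρ g m ∈ N ↔ m ∈ N}
        mul_mem' := by
          intro g h hg hh
          show ∀ m, ρ (g * h) m ∈ N ↔ m ∈ N
          intro m
          rw [act_mul]
          exact (hg (ρ h m)).trans (hh m)
        one_mem' := by
          show ∀ m, ρ 1 m ∈ N ↔ m ∈ N
          intro m
          rw [act_one]
        inv_mem' := by
          intro g hg
          show ∀ m, ρ g⁻¹ m ∈ N ↔ m ∈ N
          intro m
          have h := hg (ρ g⁻¹ m)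
          rw [← act_mul, mul_inv_cancel, act_one] at h
          exact h.symm }
    have hHm : ∀ g, g ∈ H ↔ ∀ m, ρ g m ∈ N ↔ m ∈ N := fun g => Iff.rfl
    have haH : a₀ ∈ H := (hHm _).mpr (fun m => ⟨fun h => by
      have h3 : ρ a₀ (ρ a₀ (ρ a₀ m)) = m := by rw [← act_mul, ← act_mul, ha₀c, act_one]
      rw [← h3]; exact ha _ (ha _ h), ha m⟩)
    have hrH : rr ∈ H := (hHm _).mpr (fun m => ⟨fun h => by
      have h4 : ρ rr (ρ rr (ρ rr (ρ rr m))) = m := by
        rw [← act_mul, ← act_mul, ← act_mul, hrrc, act_one]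
      rw [← h4]; exact hr _ (hr _ (hr _ h)), hr m⟩)
    have hsH : ss ∈ H := (hHm _).mpr (fun m => ⟨fun h => by
      have h2 : ρ ss (ρ ss m) = m := by rw [← act_mul, hss2, act_one]
      rw [← h2]; exact hs _ h, hs m⟩)
    have hbH : b₀ ∈ H := by
      rw [hb₀]; exact H.mul_mem (H.mul_mem hrH haH) (H.inv_mem hrH)
    have hAH : A ≤ H := by
      intro z hz
      obtain ⟨i, j, -, -, rfl⟩ := hbl0 z hz
      exact H.mul_mem (H.pow_mem haH i) (H.pow_mem hbH j)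
    have hXH : X ≤ H := by
      intro x hx
      obtain ⟨d, rfl⟩ := hXE x hx
      obtain ⟨i, -, j, -, hd⟩ := D4 s' d hs'
      rw [hd, map_mul, map_pow, map_pow, ← hrr, ← hss]
      exact H.mul_mem (H.pow_mem hrH i) (H.pow_mem hsH j)
    intro g m hm
    have hg : g ∈ H := by
      have h : g ∈ A ⊔ X := by rw [hAX]; exact Subgroup.mem_top g
      exact (sup_le hAH hXH) h
    exact ((hHm g).mp hg m).mpr hm
  have hα : ∃ m, ρ a₀ m ≠ m := by
    by_contra h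
    push Not at h
    have h1 : ρ a₀ = ρ 1 := LinearMap.ext (fun m => by rw [h m, act_one])
    exact ha₀1 (hfaith h1)
  obtain ⟨hcard, ⟨x, y, hx0, hy0, hxy, hσx, hRx, hσy, hRy⟩, w, hw0, hw⟩ :=
    core_lin (ρ a₀) (ρ b₀) (ρ rr) (ρ ss) (ρ (ss * cc))
      (fun m => by rw [← act_mul, ← act_mul, I1])
      (fun m => by rw [← act_mul, ← act_mul, ← act_mul, I2])
      (fun m => by rw [← act_mul, ← act_mul, ← act_mul, I3])
      (fun m => by rw [← act_mul, ← act_mul, I4])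
      (fun m => by rw [← act_mul, ← act_mul, I5])
      (fun m => by rw [← act_mul, ← act_mul, ← act_mul, I6])
      (fun m => by rw [← act_mul, I7, act_one])
      (fun m => by rw [← act_mul, ← act_mul, I8])
      (fun m => by rw [← act_mul, ← act_mul, I9])
      (fun m => by rw [← act_mul, hss2, act_one])
      (fun m => by rw [← act_mul, ← act_mul, I10, act_one])
      (fun m => by rw [← act_mul, ← act_mul, hAcomm a₀ ha₀A b₀ hb₀A])
      (fun m => by rw [← act_mul, ← act_mul, hsa])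
      hirr' hα ⟨m₀, hm₀, hfix₀⟩
  -- the two four-groups
  have fixV : ∀ (z' : DihedralGroup 4) (m : M),
      (∀ b ∈ (V z').map E, ρ b m = m) ↔ (ρ (E z') m = m ∧ ρ cc m = m) := by
    intro z' m
    constructor
    · intro h
      refine ⟨h _ (Subgroup.mem_map_of_mem E ((mem_V z' z').mpr (Or.inr (Or.inr (Or.inl rfl))))), ?_⟩
      rw [hcc]
      exact h _ (Subgroup.mem_map_of_mem E ((mem_V z' _).mpr (Or.inr (Or.inl rfl))))
    · rintro ⟨h1, h2⟩ b hb
      obtain ⟨v, hv, rfl⟩ := Subgroup.mem_map.mp hb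
      rcases (mem_V z' v).mp hv with rfl | rfl | rfl | rfl
      · rw [map_one, act_one]
      · rw [← hcc]; exact h2
      · exact h1
      · rw [map_mul, act_mul, ← hcc, h2, h1]
  have hz := (D3 s' hs').2.2
  have hEz : E (s' * DihedralGroup.r 1) = ss * rr := by rw [map_mul, ← hss, ← hrr]
  have hcardV : ∀ z' : DihedralGroup 4, Rf z' → Nat.card ↥((V z').map E) = 4 := fun z' hz' =>
    (Subgroup.card_map_of_injective hEinj).trans (Nat.card_eq_fintype_card.trans (D13 z' hz'))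
  have hmapX : ∀ z' : DihedralGroup 4, (V z').map E ≤ X := by
    rintro z' _ ⟨v, -, rfl⟩
    exact hEX v
  refine ⟨hcard, (V (s' * DihedralGroup.r 1)).map E, ⟨hmapX _, hcardV _ hz, ?_, ?_⟩, ?_⟩
  · rintro _ ⟨v, hv, rfl⟩
    rw [← map_pow, D10 _ v hz hv, map_one]
  · have hset : {m : M | ∀ b ∈ (V (s' * DihedralGroup.r 1)).map E, ρ b m = m} = {0, w} := by
      ext m
      simp only [Set.mem_ofPred_eq, Set.mem_insert_iff, Set.mem_singleton_iff]
      rw [fixV, hEz, act_mul, hccrr, act_mul]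
      exact hw m
    show Nat.card ↥{m : M | ∀ b ∈ (V (s' * DihedralGroup.r 1)).map E, ρ b m = m} = 2
    rw [Nat.card_coe_set_eq, hset, Set.ncard_pair hw0.symm]
  · rintro B₀ ⟨hB₀X, hB₀4, hB₀2, hB₀fix⟩
    have hB₀map : (B₀.comap E).map E = B₀ := by
      apply Subgroup.map_comap_eq_self
      intro x hx
      obtain ⟨d, hd⟩ := hXE x (hB₀X hx)
      exact ⟨d, hd⟩
    have hB'card : Nat.card ↥(B₀.comap E) = 4 := by
      rw [← Subgroup.card_map_of_injective hEinj (K := B₀.comap E), hB₀map, hB₀4]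
    have hB'exp : ∀ v ∈ B₀.comap E, v ^ 2 = 1 := fun v hv =>
      hEinj (by rw [map_pow, map_one]; exact hB₀2 _ (Subgroup.mem_comap.mp hv))
    have hex : ∃ x' ∈ B₀.comap E, x' ≠ 1 ∧ x' ≠ DihedralGroup.r 2 := by
      by_contra hno
      push Not at hno
      have hsub : ((B₀.comap E : Subgroup (DihedralGroup 4)) : Set (DihedralGroup 4)) ⊆
          {1, DihedralGroup.r 2} := by
        intro x' hx'
        by_cases h1 : x' = 1
        · left; exact h1
        · right; exact hno x' hx' h1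
      have h1 := Set.ncard_le_ncard hsub (Set.toFinite _)
      have h2 : Set.ncard ({1, DihedralGroup.r 2} : Set (DihedralGroup 4)) ≤ 2 :=
        (Set.ncard_insert_le _ _).trans (by rw [Set.ncard_singleton])
      have h3 : Nat.card ↥(B₀.comap E) =
          Set.ncard ((B₀.comap E : Subgroup (DihedralGroup 4)) : Set (DihedralGroup 4)) :=
        Nat.card_coe_set_eq _
      omega
    obtain ⟨x', hx'B, hx'1, hx'c⟩ := hex
    have hfin : ∀ z' : DihedralGroup 4, Rf z' → x' ∈ V z' → B₀ = (V z').map E := by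
      intro z' hz' hxV
      have hle : B₀.comap E ≤ V z' := fun y' hy' =>
        D8 z' x' y' ⟨hz', hxV, hx'1, hx'c, hB'exp y' hy', hB'exp _ ((B₀.comap E).mul_mem hx'B hy')⟩
      have heq : B₀.comap E = V z' := by
        apply Subgroup.eq_of_le_of_card_ge hle
        rw [hB'card, Nat.card_eq_fintype_card, D13 z' hz']
      rw [← hB₀map, heq]
    rcases D7 s' x' hs' (hB'exp x' hx'B) hx'1 hx'c with hxV | hxV
    · exfalso
      have hB₀eq := hfin s' hs' hxV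
      have h3 : ({0, x, y} : Set M) ⊆ {m : M | ∀ b ∈ B₀, ρ b m = m} := by
        intro m hm
        simp only [Set.mem_ofPred_eq]
        rw [hB₀eq, fixV, ← hss, hccrr, act_mul]
        rcases hm with rfl | rfl | rfl
        · exact ⟨map_zero _, by rw [map_zero, map_zero]⟩
        · exact ⟨hσx, hRx⟩
        · exact ⟨hσy, hRy⟩
      have hle := Set.ncard_le_ncard h3 (Set.toFinite _)
      have h3' : Set.ncard ({0, x, y} : Set M) = 3 :=
        Set.ncard_eq_three.mpr ⟨0, x, y, hx0.symm, hy0.symm, hxy, rfl⟩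
      have h2' : Set.ncard {m : M | ∀ b ∈ B₀, ρ b m = m} = 2 := by
        rw [← Nat.card_coe_set_eq]; exact hB₀fix
      omega
    · exact hfin _ hz hxV

end Cfsg.Agent.S4407
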