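import Cfsg.Statements.S4408
import Cfsg.Agent.Lib.helper77.InvolAction
import Cfsg.Agent.Lib.helper27.FStar
import Cfsg.Agent.Lib.helper65.Fitting

set_option autoImplicit false
open Cfsg

namespace Cfsg.Agent.S4408

/-- Let S be a finite solvable group whose Fitting subgroup F(S) has odd order, and let I be an elementary abelian 2-subgroup of S of order 2ⁿ with n ≥ 1. Then F(S) contains subgroups A₁, …, Aₙ of prime order, each normalized by I, pairwise commuting and generating a subgroup A of order |A₁|⋯|Aₙ| (their internal direct product), such that no non-identity element of I centralizes A. -/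
theorem result {S : Type*} [Group S] [Finite S]
    [Group.IsSolvable S] (hF : Odd (Nat.card ↥(Cfsg.fittingSubgroup S)))
    (I : Subgroup S) (hI : Cfsg.IsElementaryAbelian 2 I) (n : ℕ) (hn : 1 ≤ n) (hIn : Nat.card ↥I = 2 ^ n) :
    ∃ f : Fin n → Subgroup S, (∀ i, (Nat.card ↥(f i)).Prime) ∧ (∀ i, f i ≤ Cfsg.fittingSubgroup S) ∧
      (∀ i, I ≤ Subgroup.normalizer ((f i) : Set S)) ∧ (∀ i j, i ≠ j → ∀ a ∈ f i, ∀ b ∈ f j, a * b = b * a) ∧
      Nat.card ↥(⨆ i, f i) = ∏ i, Nat.card ↥(f i) ∧ I ⊓ Subgroup.centralizer ((⨆ i, f i : Subgroup S) : Set S) = ⊥ := by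
  classical
  obtain ⟨hIcomm, hIexp⟩ := hI
  have hI2 : ∀ t ∈ I, t * t = 1 := fun t ht => by
    rw [← pow_two]
    exact hIexp t ht
  have hIc : ∀ s ∈ I, ∀ t ∈ I, s * t = t * s := fun s hs t ht =>
    congrArg Subtype.val (isMulCommutative_iff.mp hIcomm ⟨s, hs⟩ ⟨t, ht⟩)
  have hFnorm : (Cfsg.fittingSubgroup S).Normal := Cfsg.Agent.Lib.helper27.fittingSubgroup_normal
  have hFnil : Group.IsNilpotent ↥(Cfsg.fittingSubgroup S) :=
    Cfsg.Agent.Lib.helper65.fittingSubgroup_isNilpotent
  have hCF : Subgroup.centralizer (Cfsg.fittingSubgroup S : Set S) ≤ Cfsg.fittingSubgroup S := by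
    have h1 := Cfsg.Agent.Lib.helper27.solvable_le_center_fitting (G := S)
      (Subgroup.centralizer (Cfsg.fittingSubgroup S : Set S)) le_rfl Subgroup.le_normalizer
      inferInstance
    exact h1.trans inf_le_left
  have hIF : ∀ x ∈ I, x ∈ Subgroup.centralizer (Cfsg.fittingSubgroup S : Set S) → x = 1 :=
    fun x hx hxc =>
      Cfsg.Agent.Lib.helper77.eq_one_of_mul_self_of_odd _ hF (hCF hxc) (hI2 x hx)
  have hbot : (I ⊓ Subgroup.centralizer (Cfsg.fittingSubgroup S : Set S) : Subgroup S) = ⊥ := by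
    rw [Subgroup.eq_bot_iff_forall]
    intro x hx
    obtain ⟨h1, h2⟩ := Subgroup.mem_inf.mp hx
    exact hIF x h1 h2
  have hcard : Nat.card I = 2 ^ n *
      Nat.card (I ⊓ Subgroup.centralizer (Cfsg.fittingSubgroup S : Set S) : Subgroup S) := by
    rw [hbot, Subgroup.card_bot, mul_one]
    exact hIn
  obtain ⟨f, p1, p2, p3, p4, p5, p6⟩ :=
    Cfsg.Agent.Lib.helper77.exists_prime_family I hI2 hIc n (Cfsg.fittingSubgroup S) I le_rfl
      (fun t _ x hx => hFnorm.conj_mem x hx t) hFnil hF hcard
  refine ⟨f, p1, p2, ?_, p4, ?_, ?_⟩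
  · intro i t ht
    rw [Subgroup.mem_normalizer_iff]
    intro h
    constructor
    · exact p3 i t ht h
    · intro hh
      have h1 := p3 i t⁻¹ (I.inv_mem ht) _ hh
      have h2 : t⁻¹ * (t * h * t⁻¹) * t⁻¹⁻¹ = h := by group
      rwa [h2] at h1
  · have hcomm : Pairwise fun i j : Fin n => ∀ x y : S, x ∈ f i → y ∈ f j → Commute x y :=
      fun i j hij x y hx hy => p4 i j hij x hx y hy
    have hind : iSupIndep f := by
      intro i
      rw [Subgroup.disjoint_def]
      intro a ha ha'
      obtain ⟨x, hxI, hxi, hxj⟩ := p5 i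
      have hle : (⨆ j, ⨆ (_ : j ≠ i), f j) ≤ Subgroup.centralizer ({x} : Set S) := by
        apply iSup_le
        intro j
        apply iSup_le
        intro hj b hb
        rw [Subgroup.mem_centralizer_iff]
        intro y hy
        rw [Set.mem_singleton_iff] at hy
        subst hy
        exact ((Subgroup.mem_centralizer_iff.mp (hxj j hj)) b hb).symm
      have h1 := hle ha'
      rw [Subgroup.mem_centralizer_iff] at h1
      have h2 := h1 x (Set.mem_singleton x)
      have h3 : x * a * x⁻¹ = a⁻¹ := by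
        rcases Cfsg.Agent.Lib.helper77.centralizes_or_inverts (f i) (p1 i) x (hI2 x hxI)
          (p3 i x hxI) with h | h
        · exact absurd ((Cfsg.Agent.Lib.helper77.mem_centralizer_iff_conj (f i) x).mpr h) hxi
        · exact h a ha
      have h4 : x * a * x⁻¹ = a := by
        rw [h2]
        simp
      rw [h4] at h3
      have h5 : a * a = 1 := by
        have h6 := congrArg (fun z => a * z) h3
        simpa using h6
      exact Cfsg.Agent.Lib.helper77.eq_one_of_mul_self_of_odd _ hF (p2 i ha) h5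
    have hinj := Subgroup.injective_noncommPiCoprod_of_iSupIndep (hcomm := hcomm) hind
    rw [← Subgroup.noncommPiCoprod_range (hcomm := hcomm),
      ← Nat.card_congr (MonoidHom.ofInjective hinj).toEquiv, Nat.card_pi]
  · rw [Subgroup.eq_bot_iff_forall]
    intro x hx
    obtain ⟨h1, h2⟩ := Subgroup.mem_inf.mp hx
    apply hIF x h1
    apply p6 x h1
    intro i
    exact Subgroup.centralizer_le
      (show ((f i : Subgroup S) : Set S) ⊆ ((⨆ i, f i : Subgroup S) : Set S) from le_iSup f i) h2

end Cfsg.Agent.S4408
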