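import Cfsg.Statements.S4410
import Cfsg.Agent.Lib.helper76.Transv
import Cfsg.Agent.Lib.helper28.PCores
import Cfsg.Agent.Lib.helper28.CoprimeLayer
import Cfsg.Agent.Lib.helper27.Layer

set_option autoImplicit false
open Cfsg

namespace Cfsg.Agent.S4410

/-- Let V be a finite-dimensional vector space over the field with two elements and S a solvable group of linear automorphisms of V with O₂(S) = 1. If P ∈ S has order 4 and (P − 1)³ = 0 on V, then the image of (P − 1)² has at least 4 elements; equivalently, in the decomposition of V into indecomposable modules for the cyclic group generated by P, at least two summands have dimension 3. -/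
theorem result
    {V : Type*} [AddCommGroup V] [Module (ZMod 2) V] [Finite V]
    (S : Subgroup (V ≃ₗ[ZMod 2] V)) (hS : Group.IsSolvable ↥S) (hO2 : Cfsg.pCore 2 ↥S = ⊥)
    (P : V ≃ₗ[ZMod 2] V) (hPS : P ∈ S) (hP4 : orderOf P = 4)
    (hcub : ((P : V →ₗ[ZMod 2] V) - LinearMap.id) ^ 3 = 0) :
    4 ≤ Nat.card ↥(LinearMap.range (((P : V →ₗ[ZMod 2] V) - LinearMap.id) ^ 2)) := by
  classical
  by_contra hlt
  push Not at hlt
  have : Finite (V ≃ₗ[ZMod 2] V) :=
    Finite.of_injective (fun e : V ≃ₗ[ZMod 2] V => (e : V → V)) DFunLike.coe_injective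
  -- the nilpotent part
  have hN : ∀ v : V, ((((P : V →ₗ[ZMod 2] V) - LinearMap.id) ^ 2 : V →ₗ[ZMod 2] V)) v
      = (P * P) v + v := by
    intro v
    rw [pow_two, Module.End.mul_apply]
    simp only [LinearMap.sub_apply, LinearMap.id_apply, LinearEquiv.coe_coe,
      LinearEquiv.mul_apply, map_sub]
    apply Cfsg.Agent.Lib.helper76.c2
    match_scalars <;> decide
  have hN4 : ∀ v : V, ((((P : V →ₗ[ZMod 2] V) - LinearMap.id) ^ 2 : V →ₗ[ZMod 2] V))
      (((((P : V →ₗ[ZMod 2] V) - LinearMap.id) ^ 2 : V →ₗ[ZMod 2] V)) v) = 0 := by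
    intro v
    have e : ((P : V →ₗ[ZMod 2] V) - LinearMap.id) ^ 2 * ((P : V →ₗ[ZMod 2] V) - LinearMap.id) ^ 2
        = ((P : V →ₗ[ZMod 2] V) - LinearMap.id) ^ 3 * ((P : V →ₗ[ZMod 2] V) - LinearMap.id) := by
      rw [← pow_add, ← pow_succ]
    rw [← Module.End.mul_apply, e, hcub, zero_mul]
    rfl
  have hP44 : (P * P) * (P * P) = 1 := by
    have h := pow_orderOf_eq_one P
    rw [hP4] at h
    rw [← h, show (4 : ℕ) = 2 * 2 from rfl, pow_mul, pow_two, pow_two]
  have hPP : P * P ≠ 1 := by
    intro h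
    have h2 : orderOf P ∣ 2 := orderOf_dvd_of_pow_eq_one (by rw [pow_two]; exact h)
    rw [hP4] at h2
    omega
  obtain ⟨v₀, hv₀⟩ : ∃ v₀ : V, (P * P) v₀ ≠ v₀ := by
    by_contra hcon
    push Not at hcon
    exact hPP (LinearEquiv.ext hcon)
  have ha₀ : (P * P) v₀ + v₀ ≠ 0 := by
    intro h
    apply hv₀
    have e : (P * P) v₀ = ((P * P) v₀ + v₀) + v₀ := by
      apply Cfsg.Agent.Lib.helper76.c2
      match_scalars <;> decide
    rw [e, h, zero_add]
  -- every value of N is 0 or a₀
  have hval : ∀ v : V, (P * P) v + v = 0 ∨ (P * P) v + v = (P * P) v₀ + v₀ := by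
    intro v
    by_contra hcon
    push Not at hcon
    obtain ⟨h1, h2⟩ := hcon
    apply absurd hlt
    push Not
    have hmem : ∀ u : V, (P * P) u + u ∈
        LinearMap.range (((P : V →ₗ[ZMod 2] V) - LinearMap.id) ^ 2) := by
      intro u
      exact ⟨u, hN u⟩
    have h3 : ((P * P) v₀ + v₀) + ((P * P) v + v) ≠ 0 := by
      intro h
      apply h2
      have e : (P * P) v + v = (((P * P) v₀ + v₀) + ((P * P) v + v)) + ((P * P) v₀ + v₀) := by
        apply Cfsg.Agent.Lib.helper76.c2
        match_scalars <;> decide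
      rw [e, h, zero_add]
    have h4 : ((P * P) v₀ + v₀) + ((P * P) v + v) ≠ (P * P) v₀ + v₀ := by
      intro h
      exact h1 (by simpa using h)
    have h5 : ((P * P) v₀ + v₀) + ((P * P) v + v) ≠ (P * P) v + v := by
      intro h
      exact ha₀ (by simpa using h)
    have hsub : ({0, (P * P) v₀ + v₀, (P * P) v + v, ((P * P) v₀ + v₀) + ((P * P) v + v)} : Set V)
        ⊆ (LinearMap.range (((P : V →ₗ[ZMod 2] V) - LinearMap.id) ^ 2) : Set V) := by
      intro x hx
      rcases hx with rfl | rfl | rfl | rfl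
      · exact Submodule.zero_mem _
      · exact hmem v₀
      · exact hmem v
      · exact Submodule.add_mem _ (hmem v₀) (hmem v)
    have hle := Set.ncard_le_ncard hsub (Set.toFinite _)
    have hc4 : ({0, (P * P) v₀ + v₀, (P * P) v + v, ((P * P) v₀ + v₀) + ((P * P) v + v)} :
        Set V).ncard = 4 := by
      rw [Set.ncard_insert_of_notMem, Set.ncard_insert_of_notMem, Set.ncard_pair]
      · intro h; exact h5 h.symm
      · intro h
        rcases h with h | h
        · exact h2 h.symm
        · exact h4 h.symm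
      · intro h
        rcases h with h | h | h
        · exact ha₀ h.symm
        · exact h1 h.symm
        · exact h3 h.symm
    rw [hc4] at hle
    have e : Nat.card ↥(LinearMap.range (((P : V →ₗ[ZMod 2] V) - LinearMap.id) ^ 2)) =
        (LinearMap.range (((P : V →ₗ[ZMod 2] V) - LinearMap.id) ^ 2) : Set V).ncard :=
      Nat.card_coe_set_eq _
    rw [e]
    exact hle
  have hTv : Cfsg.Agent.Lib.helper76.IsTv (P * P) ((P * P) v₀ + v₀) := by
    constructor
    · intro v
      rcases hval v with h | h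
      · left
        have e : (P * P) v = ((P * P) v + v) + v := by
          apply Cfsg.Agent.Lib.helper76.c2
          match_scalars <;> decide
        rw [e, h, zero_add]
      · right
        have e : (P * P) v = v + ((P * P) v + v) := by
          apply Cfsg.Agent.Lib.helper76.c2
          match_scalars <;> decide
        rw [e, h]
    · have h := hN4 v₀
      rw [hN v₀, hN] at h
      have e : (P * P) ((P * P) v₀ + v₀) =
          ((P * P) ((P * P) v₀ + v₀) + ((P * P) v₀ + v₀)) + ((P * P) v₀ + v₀) := by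
        apply Cfsg.Agent.Lib.helper76.c2
        match_scalars <;> decide
      rw [e, h, zero_add]
  -- the group side
  have : Fact (Nat.Prime 2) := ⟨Nat.prime_two⟩
  have hFodd : (Nat.card ↥(Cfsg.fittingSubgroup ↥S)).Coprime 2 :=
    Cfsg.Agent.Lib.helper28.fittingSubgroup_card_coprime_of_pCore_eq_bot hO2
  have hCF : Subgroup.centralizer (Cfsg.fittingSubgroup ↥S : Set ↥S) ≤ Cfsg.fittingSubgroup ↥S :=
    Cfsg.Agent.Lib.helper28.centralizer_fittingSubgroup_le_iff.mpr
      Cfsg.Agent.Lib.helper27.layer_eq_bot_of_isSolvable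
  have hFn : (Cfsg.fittingSubgroup ↥S).Normal := inferInstance
  have hodd : ∀ x ∈ (Cfsg.fittingSubgroup ↥S).map S.subtype, Odd (orderOf x) := by
    intro x hx
    obtain ⟨y, hy, rfl⟩ := hx
    have h1 : orderOf (S.subtype y) = orderOf y := orderOf_injective S.subtype S.subtype_injective y
    rw [h1]
    have h2 : orderOf y ∣ Nat.card ↥(Cfsg.fittingSubgroup ↥S) :=
      Subgroup.orderOf_dvd_natCard _ hy
    exact (Nat.Coprime.coprime_dvd_left h2 hFodd).odd_of_right
  have hRP : ∀ x ∈ (Cfsg.fittingSubgroup ↥S).map S.subtype,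
      P * x * P⁻¹ ∈ (Cfsg.fittingSubgroup ↥S).map S.subtype := by
    intro x hx
    obtain ⟨y, hy, rfl⟩ := hx
    exact ⟨(⟨P, hPS⟩ : ↥S) * y * (⟨P, hPS⟩ : ↥S)⁻¹, hFn.conj_mem y hy _, rfl⟩
  have hcen := Cfsg.Agent.Lib.helper76.tv_centralizes P (P * P) rfl _ hTv hP44
    ((Cfsg.fittingSubgroup ↥S).map S.subtype) hodd hRP
  have htF : ((⟨P, hPS⟩ : ↥S) * (⟨P, hPS⟩ : ↥S)) ∈ Cfsg.fittingSubgroup ↥S := by
    apply hCF
    rw [Subgroup.mem_centralizer_iff]
    intro h hh
    apply Subtype.ext
    exact hcen _ (Subgroup.mem_map_of_mem S.subtype hh)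
  have hPPodd : Odd (orderOf (P * P)) := hodd _ ⟨_, htF, rfl⟩
  exact hPP (Cfsg.Agent.Lib.helper76.eq_one_of_odd_of_mul_self _ hPPodd hP44)

end Cfsg.Agent.S4410
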