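import Cfsg.Statements.S4411
import Cfsg.Agent.Lib.helper39.NGrpStep
import Cfsg.Agent.Lib.helper53.Conj
-- import your own Cfsg.Agent.* helpers here

set_option autoImplicit false
open Cfsg

namespace Cfsg.Agent.S4411

open Cfsg.Agent.Lib.helper39 in
/-- Let p and q be distinct primes with {p, q} ≠ {2, 3}, and let G be a finite group such that for every p-subgroup H of G the automizer N_G(H)/C_G(H) is p-solvable. If q divides the order of N_G(H)/C_G(H) for some p-subgroup H, then a Sylow p-subgroup of G has a normal subgroup K (normal in the Sylow subgroup) such that q divides the order of N_G(K)/C_G(K). -/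
theorem result {G : Type*} [Group G] [Finite G]
    (p q : ℕ) [Fact p.Prime] [Fact q.Prime] (hpq : p ≠ q) (h23 : ¬ ((p = 2 ∧ q = 3) ∨ (p = 3 ∧ q = 2)))
    (hsol : ∀ H : Subgroup G, IsPGroup p ↥H →
      Cfsg.IsPSolvable p (↥(Subgroup.normalizer (H : Set G)) ⧸ (Subgroup.centralizer (H : Set G)).subgroupOf (Subgroup.normalizer (H : Set G))))
    (H : Subgroup G) (hH : IsPGroup p ↥H)
    (hq : q ∣ ((Subgroup.centralizer (H : Set G)).subgroupOf (Subgroup.normalizer (H : Set G))).index)
    (Gp : Sylow p G) :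
    ∃ K : Subgroup G, K ≤ (Gp : Subgroup G) ∧ (Gp : Subgroup G) ≤ Subgroup.normalizer (K : Set G) ∧
      q ∣ ((Subgroup.centralizer (K : Set G)).subgroupOf (Subgroup.normalizer (K : Set G))).index := by
  classical
  -- the family of `p`-subgroups of `Gp` with a nontrivial `q`-automizer is nonempty
  obtain ⟨g₀, hg₀⟩ := Cfsg.Agent.Lib.helper13.exists_conj_map_le_sylow hH Gp
  have hne : ({K : Subgroup G | K ≤ (Gp : Subgroup G) ∧ QActs q K}).Nonempty :=
    ⟨H.map (MulAut.conj g₀).toMonoidHom, hg₀,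
      qacts_map_of_injective q _ (MulAut.conj g₀).injective H (exists_qelt_of_dvd_index H hq)⟩
  -- choose a member with `|N_P(H₀)|`, then `|H₀|`, maximal
  obtain ⟨H₀, ⟨hH₀P, hH₀Q⟩, hmax1, hmax2⟩ := exists_lex_max _ hne
    (fun K => Nat.card ↥((Gp : Subgroup G) ⊓ Subgroup.normalizer (K : Set G)))
    (fun K => Nat.card K)
  have hH₀p : IsPGroup p H₀ := Gp.isPGroup'.to_le hH₀P
  have hH₀R : H₀ ≤ (Gp : Subgroup G) ⊓ Subgroup.normalizer (H₀ : Set G) :=
    le_inf hH₀P Subgroup.le_normalizer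
  have hRp : IsPGroup p ((Gp : Subgroup G) ⊓ Subgroup.normalizer (H₀ : Set G) : Subgroup G) :=
    Gp.isPGroup'.to_le inf_le_left
  -- `R = N_P(H₀)` is a maximal `p`-subgroup of `N(H₀)`
  have hA : ∀ R₁ : Subgroup G, IsPGroup p R₁ →
      (Gp : Subgroup G) ⊓ Subgroup.normalizer (H₀ : Set G) ≤ R₁ →
      R₁ ≤ Subgroup.normalizer (H₀ : Set G) →
      R₁ = (Gp : Subgroup G) ⊓ Subgroup.normalizer (H₀ : Set G) := by
    intro R₁ hR₁ hRR₁ hR₁N
    obtain ⟨g, hg⟩ := Cfsg.Agent.Lib.helper13.exists_conj_map_le_sylow hR₁ Gp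
    have hK'P : H₀.map (MulAut.conj g).toMonoidHom ≤ (Gp : Subgroup G) :=
      (Subgroup.map_mono (hH₀R.trans hRR₁)).trans hg
    have hK'Q : QActs q (H₀.map (MulAut.conj g).toMonoidHom) :=
      qacts_map_of_injective q _ (MulAut.conj g).injective H₀ hH₀Q
    have h1 : R₁.map (MulAut.conj g).toMonoidHom ≤ (Gp : Subgroup G) ⊓
        Subgroup.normalizer ((H₀.map (MulAut.conj g).toMonoidHom : Subgroup G) : Set G) :=
      le_inf hg ((Subgroup.map_mono hR₁N).trans (Subgroup.le_normalizer_map _))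
    have h2 : Nat.card R₁ = Nat.card (R₁.map (MulAut.conj g).toMonoidHom) :=
      (Subgroup.card_map_of_injective (MulAut.conj g).injective).symm
    have h3 := Subgroup.card_le_of_le h1
    have h4 := hmax1 _ ⟨hK'P, hK'Q⟩
    exact (Subgroup.eq_of_le_of_card_ge hRR₁ (by rw [h2]; exact h3.trans h4)).symm
  -- hence a Sylow `p`-subgroup of `N(H₀)`
  let R' : Sylow p ↥(Subgroup.normalizer (H₀ : Set G)) :=
    { toSubgroup := ((Gp : Subgroup G) ⊓ Subgroup.normalizer (H₀ : Set G)).subgroupOf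
        (Subgroup.normalizer (H₀ : Set G))
      isPGroup' := hRp.comap_subtype
      is_maximal' := by
        intro Q hQ hle
        have h1 := hA (Q.map (Subgroup.normalizer (H₀ : Set G)).subtype) (hQ.map _)
          (by
            intro r hr
            exact ⟨⟨r, hr.2⟩, hle (by rw [Subgroup.mem_subgroupOf]; exact hr), rfl⟩)
          (Subgroup.map_subtype_le _)
        apply le_antisymm _ hle
        intro z hz
        rw [Subgroup.mem_subgroupOf, ← h1]
        exact ⟨z, hz, rfl⟩ }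
  have hR'coe : (R' : Subgroup ↥(Subgroup.normalizer (H₀ : Set G))) =
      ((Gp : Subgroup G) ⊓ Subgroup.normalizer (H₀ : Set G)).subgroupOf
        (Subgroup.normalizer (H₀ : Set G)) := rfl
  obtain ⟨x, hxN, hxC, k, hxq⟩ := hH₀Q
  have hC' : ∀ c : ↥(Subgroup.normalizer (H₀ : Set G)),
      c ∈ (Subgroup.centralizer (H₀ : Set G)).subgroupOf (Subgroup.normalizer (H₀ : Set G)) ↔
        ∀ h ∈ H₀.subgroupOf (Subgroup.normalizer (H₀ : Set G)), h * c = c * h := by
    intro c
    rw [Subgroup.mem_subgroupOf, Subgroup.mem_centralizer_iff]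
    constructor
    · intro hc h hh
      exact Subtype.ext (hc h hh)
    · intro hc h hh
      exact congrArg Subtype.val (hc ⟨h, Subgroup.le_normalizer hh⟩ hh)
  obtain ⟨K, hKR, hKQ, hK⟩ := exists_qacts_step p q hpq h23
    ↥(Subgroup.normalizer (H₀ : Set G)) (Subgroup.normalizer (H₀ : Set G)).subtype
    (Subgroup.subtype_injective _) (H₀.subgroupOf (Subgroup.normalizer (H₀ : Set G)))
    hH₀p.comap_subtype
    ((Subgroup.centralizer (H₀ : Set G)).subgroupOf (Subgroup.normalizer (H₀ : Set G))) hC'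
    (hsol H₀ hH₀p) ⟨x, hxN⟩ k (Subtype.ext (by simpa using hxq))
    (by rw [Subgroup.mem_subgroupOf]; exact hxC) R'
  have hKGR : K.map (Subgroup.normalizer (H₀ : Set G)).subtype ≤
      (Gp : Subgroup G) ⊓ Subgroup.normalizer (H₀ : Set G) := by
    rintro _ ⟨z, hz, rfl⟩
    have := hKR hz
    rw [hR'coe, Subgroup.mem_subgroupOf] at this
    exact this
  have hKGQ : QActs q (K.map (Subgroup.normalizer (H₀ : Set G)).subtype) :=
    qacts_map_of_injective q _ (Subgroup.subtype_injective _) K hKQ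
  have hRmap : (R' : Subgroup ↥(Subgroup.normalizer (H₀ : Set G))).map
      (Subgroup.normalizer (H₀ : Set G)).subtype =
      (Gp : Subgroup G) ⊓ Subgroup.normalizer (H₀ : Set G) := by
    rw [hR'coe]
    exact Subgroup.map_subgroupOf_eq_of_le inf_le_right
  rcases hK with ⟨hcard, hRn⟩ | hnorm
  · exfalso
    have h1 : Nat.card (K.map (Subgroup.normalizer (H₀ : Set G)).subtype) = Nat.card K :=
      Subgroup.card_map_of_injective (Subgroup.subtype_injective _)
    have h2 : Nat.card (H₀.subgroupOf (Subgroup.normalizer (H₀ : Set G))) = Nat.card H₀ :=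
      Nat.card_congr (Subgroup.subgroupOfEquivOfLe Subgroup.le_normalizer).toEquiv
    have h3 : (Gp : Subgroup G) ⊓ Subgroup.normalizer (H₀ : Set G) ≤ (Gp : Subgroup G) ⊓
        Subgroup.normalizer ((K.map (Subgroup.normalizer (H₀ : Set G)).subtype : Subgroup G) :
          Set G) := by
      refine le_inf inf_le_left ?_
      rw [← hRmap]
      exact (Subgroup.map_mono hRn).trans (Subgroup.le_normalizer_map _)
    have h4 := hmax2 _ ⟨hKGR.trans inf_le_left, hKGQ⟩ (Subgroup.card_le_of_le h3)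
    omega
  · rw [hRmap] at hnorm
    have h1 : (Gp : Subgroup G) ⊓ Subgroup.normalizer
        ((((Gp : Subgroup G) ⊓ Subgroup.normalizer (H₀ : Set G) : Subgroup G)) : Set G) ≤
        (Gp : Subgroup G) ⊓
        Subgroup.normalizer ((K.map (Subgroup.normalizer (H₀ : Set G)).subtype : Subgroup G) :
          Set G) := inf_le_inf_left _ hnorm
    have h2 := (Subgroup.card_le_of_le h1).trans (hmax1 _ ⟨hKGR.trans inf_le_left, hKGQ⟩)
    have h3 : (Gp : Subgroup G) ⊓ Subgroup.normalizer (H₀ : Set G) ≤ (Gp : Subgroup G) ⊓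
        Subgroup.normalizer
        ((((Gp : Subgroup G) ⊓ Subgroup.normalizer (H₀ : Set G) : Subgroup G)) : Set G) :=
      le_inf inf_le_left Subgroup.le_normalizer
    have h4 := Subgroup.eq_of_le_of_card_ge h3 h2
    have h5 : (Gp : Subgroup G) ⊓ Subgroup.normalizer (H₀ : Set G) = (Gp : Subgroup G) := by
      by_contra hne'
      have hlt : (Gp : Subgroup G) ⊓ Subgroup.normalizer (H₀ : Set G) < (Gp : Subgroup G) :=
        lt_of_le_of_ne inf_le_left hne'
      obtain ⟨y, hyP, hyR, hyN⟩ :=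
        Cfsg.Agent.Lib.helper53.exists_mem_normalizer_not_mem Gp.isPGroup' hlt
      apply hyR
      rw [h4]
      exact ⟨hyP, hyN⟩
    refine ⟨H₀, hH₀P, ?_, dvd_index_of_qelt H₀ hxN hxC hxq⟩
    rw [← h5]
    exact inf_le_right

end Cfsg.Agent.S4411
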