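import Cfsg.Statements.S4415
import Cfsg.Agent.Lib.helper38.TN5
import Cfsg.Agent.Lib.helper57.TNOuter
import Cfsg.Agent.Lib.helper70.TNL
import Cfsg.Agent.Lib.helper89.TNJ
import Cfsg.Agent.Lib.helper87.TNK
import Cfsg.Agent.Lib.helper88.TNC
import Cfsg.Agent.Lib.helper46.TND
import Cfsg.Agent.Lib.helper20.TNE
import Cfsg.Agent.Lib.helper70.TNF
import Cfsg.Agent.Lib.helper65.TNG
import Cfsg.Agent.Lib.helper57.TNH
import Cfsg.Agent.Lib.helper74.TNI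

set_option autoImplicit false
open Cfsg

namespace Cfsg.Agent.S4415

open Cfsg.Agent.Lib.helper38.TN


/-- The core theorem: the structure of `R` in the irreducible situation. -/
theorem core {G : Type*} [Group G] [Finite G] {V : Type*} [AddCommGroup V] [Module (ZMod 3) V]
    [Finite V] {ρ : Representation (ZMod 3) G V} {R : Subgroup G} {b q₁ q₂ q₃ : G}
    {u₁ u₂ u₃ : V} (h : Ctx ρ R b q₁ q₂ q₃ u₁ u₂ u₃) : Concl R := by
  by_cases hR : RIrr ρ R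
  · have key : TypeI R b → Concl R := by
      intro hT
      obtain ⟨p₁, p₂, p₃, w₁, w₂, w₃, w₄, h', hw₄, hmono⟩ := Cfsg.Agent.Lib.helper70.typeI_mono h hR hT
      exact Cfsg.Agent.Lib.helper65.mono_concl h' hR w₄ hw₄ hmono (Cfsg.Agent.Lib.helper89.mono_det h' w₄ hw₄)
    rcases Cfsg.Agent.Lib.helper87.trichotomy h (Cfsg.Agent.Lib.helper88.odd_GN_trivial h) with
      hT | ⟨N, z, hN, hzN, hzV, hcomm, hcen, hnc⟩
    · exact key hT
    · obtain ⟨u₄, hu₄⟩ := Cfsg.Agent.Lib.helper57.cline_of_extraspecial h N hN z hzN hzV hcomm hcen hnc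
      exact key (Cfsg.Agent.Lib.helper20.typeI_of_two_group h u₄ hu₄ (Cfsg.Agent.Lib.helper46.two_group_of_cline h u₄ hu₄) z (hN.1 hzN) hzV
        (Cfsg.Agent.Lib.helper89.mono_det h u₄ hu₄))
  · exact Cfsg.Agent.Lib.helper74.caseA h hR

/-- Let S be a finite solvable group acting faithfully on a finite-dimensional space E over the field with three elements, with O₃(S) = 1. Let B ≤ S have order 3 and suppose: E = E₀ ⊕ E₁ with B fixing E₁ pointwise, E₀ B-invariant of order 27 and indecomposable under B (a generator of B has a single Jordan block on E₀); B normalizes but does not centralize some subgroup Q of S that is elementary abelian of order 4; and B is the centre of a Sylow 3-subgroup of S. Put R = [O_{3'}(S), B]. Then R is elementary abelian of order 4 or extraspecial of order 32 containing an elementary abelian subgroup of order 8 (a central product of two quaternion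 groups), and E is the direct sum of a subspace fixed pointwise by R and an RB-invariant subspace on which the subgroup RB acts faithfully and irreducibly. -/
theorem result {S : Type*} [Group S] [Finite S]
    [Group.IsSolvable S] {E : Type*} [AddCommGroup E] [Module (ZMod 3) E] [Finite E] (ρ : Representation (ZMod 3) S E)
    (hfaith : Function.Injective ρ) (hO3 : Cfsg.pCore 3 S = ⊥)
    (B : Subgroup S) (hB : Nat.card ↥B = 3) (b : S) (hb : Subgroup.zpowers b = B)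
    (E₀ E₁ : Submodule (ZMod 3) E) (hE01 : E₀ ⊓ E₁ = ⊥) (hE01' : E₀ ⊔ E₁ = ⊤)
    (hE1 : ∀ v ∈ E₁, ρ b v = v) (hE0inv : ∀ v ∈ E₀, ρ b v ∈ E₀) (hE0 : Nat.card ↥E₀ = 27)
    (hind : ∃ v ∈ E₀, ρ b (ρ b v - v) - (ρ b v - v) ≠ 0)
    (Q : Subgroup S) (hQ : Cfsg.IsElementaryAbelian 2 Q) (hQ4 : Nat.card ↥Q = 4)
    (hBQ : B ≤ Subgroup.normalizer (Q : Set S)) (hBQ' : ¬ B ≤ Subgroup.centralizer (Q : Set S))
    (P : Sylow 3 S) (hBZ : (Subgroup.center ↥(P : Subgroup S)).map (P : Subgroup S).subtype = B) :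
    ((Cfsg.IsElementaryAbelian 2 ⁅Cfsg.pPrimeCore 3 S, B⁆ ∧ Nat.card ↥⁅Cfsg.pPrimeCore 3 S, B⁆ = 4) ∨
      (Cfsg.IsExtraspecial 2 ↥⁅Cfsg.pPrimeCore 3 S, B⁆ ∧ Nat.card ↥⁅Cfsg.pPrimeCore 3 S, B⁆ = 32 ∧
        ∃ A : Subgroup S, A ≤ ⁅Cfsg.pPrimeCore 3 S, B⁆ ∧ Cfsg.IsElementaryAbelian 2 A ∧ Nat.card ↥A = 8)) ∧
    ∃ F₀ F₁ : Submodule (ZMod 3) E, F₀ ⊓ F₁ = ⊥ ∧ F₀ ⊔ F₁ = ⊤ ∧
      (∀ r ∈ ⁅Cfsg.pPrimeCore 3 S, B⁆, ∀ v ∈ F₁, ρ r v = v) ∧ (∀ r ∈ ⁅Cfsg.pPrimeCore 3 S, B⁆ ⊔ B, ∀ v ∈ F₀, ρ r v ∈ F₀) ∧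
      (∀ r ∈ ⁅Cfsg.pPrimeCore 3 S, B⁆ ⊔ B, (∀ v ∈ F₀, ρ r v = v) → r = 1) ∧
      (∀ N : Submodule (ZMod 3) E, N ≤ F₀ → (∀ r ∈ ⁅Cfsg.pPrimeCore 3 S, B⁆ ⊔ B, ∀ v ∈ N, ρ r v ∈ N) → N = ⊥ ∨ N = F₀) := by
  obtain ⟨q₁, q₂, q₃, ⟨sq, m12, m21, c1, c2, c3, ne⟩, hq1R, hb3, hbR, hcop, hgen⟩ :=
    Cfsg.Agent.Lib.helper57.outer_group hO3 B hB b hb Q hQ hQ4 hBQ hBQ' P hBZ
  subst hb
  have T : Tri b q₁ q₂ q₃ := ⟨sq, m12, m21, c1, c2, c3, ne⟩
  obtain ⟨j1, j2⟩ :=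
    Cfsg.Agent.Lib.helper70.jordan_E ρ b hb3 E₀ E₁ hE01 hE01' hE1 hE0inv hE0 hind
  have hact : ∃ v, ρ q₁ v ≠ v := by
    by_contra hcon
    push Not at hcon
    apply ne
    apply hfaith
    rw [map_one]
    exact LinearMap.ext hcon
  obtain ⟨u₁, u₂, u₃, F⟩ := exists_frame T hb3 hact j1 j2
  have O : Out ρ ⁅Cfsg.pPrimeCore 3 S, Subgroup.zpowers b⁆ b q₁ q₂ q₃ u₁ u₂ u₃ :=
    ⟨F, hq1R, hbR, hfaith, hcop, hgen⟩
  refine ⟨concl_of_subgroupOf le_sup_left (core O.ctx), ?_⟩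
  refine ⟨LinearMap.ker (avg ρ ⁅Cfsg.pPrimeCore 3 S, Subgroup.zpowers b⁆),
    fixedSub ρ ⁅Cfsg.pPrimeCore 3 S, Subgroup.zpowers b⁆, ker_inf_fixed ρ _ hcop,
    ker_sup_fixed ρ _ hcop, fun r hr v hv => hv r hr, fun r hr v hv => O.inv_aux r hr v hv,
    fun r hr h => O.faith_aux r hr h, fun N hN hinv => ?_⟩
  exact O.irr_aux N hN (fun r hr => hinv r (le_sup_left (a := ⁅Cfsg.pPrimeCore 3 S, Subgroup.zpowers b⁆) hr))
    (fun v hv => hinv b O.bH v hv)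

end Cfsg.Agent.S4415
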