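import Cfsg.Statements.S4416
import Cfsg.Agent.Lib.helper3.Extraspecial2

set_option autoImplicit false
open Cfsg

namespace Cfsg.Agent.S4416

/-- Classification of extraspecial 2-groups in intrinsic form. An extraspecial 2-group has order 2^(2m+1) for some m ≥ 1, and the number of its elements squaring to the identity is either 2^(2m) + 2^m or 2^(2m) − 2^m; two extraspecial 2-groups of the same order with the same number of such elements are isomorphic. (The two cases are the central products of m dihedral groups of order 8, and of m − 1 dihedral groups with one quaternion group.) -/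
theorem result (E : Type*) [Group E] [Finite E] (hE : Cfsg.IsExtraspecial 2 E) :
    (∃ m : ℕ, 1 ≤ m ∧ Nat.card E = 2 ^ (2 * m + 1) ∧
      (Nat.card {x : E // x ^ 2 = 1} = 2 ^ (2 * m) + 2 ^ m ∨ Nat.card {x : E // x ^ 2 = 1} = 2 ^ (2 * m) - 2 ^ m)) ∧
    ∀ (E' : Type*) [Group E'] [Finite E'], Cfsg.IsExtraspecial 2 E' → Nat.card E' = Nat.card E →
      Nat.card {x : E' // x ^ 2 = 1} = Nat.card {x : E // x ^ 2 = 1} → Nonempty (E ≃* E') := by
  obtain ⟨z, hz⟩ := Cfsg.Agent.Lib.helper3.exists_esdata hE
  obtain ⟨k, t, ht⟩ := hz.exists_twoType
  have hkpos := ht.pos hE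
  have hcard := ht.card_eq
  have ht' := ht
  obtain ⟨x, y, e, hb, hg, hc, hsq, htt, htf⟩ := ht'
  refine ⟨⟨k, hkpos, hcard, ?_⟩, ?_⟩
  · cases t with
    | true => exact Or.inl (htt rfl).2.1
    | false =>
      right
      have := (htf rfl).2.2.1
      omega
  · intro E' _ _ hE' hcard' hcount
    obtain ⟨z', hz'⟩ := Cfsg.Agent.Lib.helper3.exists_esdata hE'
    obtain ⟨k', t', ht'⟩ := hz'.exists_twoType
    have ek : k' = k := by
      have h : 2 ^ (2 * k' + 1) = 2 ^ (2 * k + 1) := by
        rw [← ht'.card_eq, ← hcard, hcard']
      have := Nat.pow_right_injective (le_refl 2) h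
      omega
    subst ek
    have ht'' := ht'
    obtain ⟨x', y', e', hb', hg', hc', hsq', htt', htf'⟩ := ht''
    have hpow : 0 < 2 ^ k' := pow_pos (by norm_num) _
    have et : t = t' := by
      cases t with
      | true =>
        cases t' with
        | true => rfl
        | false =>
          exfalso
          have h1 := (htt rfl).2.1
          have h2 := (htf' rfl).2.2.1
          omega
      | false =>
        cases t' with
        | true =>
          exfalso
          have h1 := (htf rfl).2.2.1
          have h2 := (htt' rfl).2.1
          omega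
        | false => rfl
    subst et
    exact Cfsg.Agent.Lib.helper3.mulEquiv_of_twoType hz hz' ht ht'

end Cfsg.Agent.S4416
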