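-- Statement S4417: derived length of cross-characteristic p-subgroups of GL_n(q).
import Cfsg.Statements.S4417
import Cfsg.Agent.Lib.helper73.DLinE

set_option autoImplicit false
open Cfsg

namespace Cfsg.Agent.S4417

/-- Let F be a field with q elements, p a prime not dividing q, and e the multiplicative order of q modulo p; assume e ≤ n. Then every p-subgroup of GL_n(F) has derived length at most ⌊log₂(n/e)⌋ + 1: that term of its derived series is trivial (n/e is the integer quotient). -/
theorem result {F : Type*} [Field F] [Fintype F] (q : ℕ) (hF : Fintype.card F = q) (p : ℕ) [Fact p.Prime] (hpq : ¬ p ∣ q) (n e : ℕ) (he : e = orderOf (q : ZMod p)) (hen : e ≤ n) (P : Subgroup (GL (Fin n) F)) (hP : IsPGroup p P) : derivedSeries ↥P (Nat.log 2 (n / e) + 1) = ⊥ := by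
  classical
  let K := AlgebraicClosure F
  let φ : Matrix.GeneralLinearGroup (Fin n) F →* Module.End K (Fin n → K) :=
    ((Matrix.toLinAlgEquiv' : Matrix (Fin n) (Fin n) K ≃ₐ[K] Module.End K (Fin n → K)) :
        Matrix (Fin n) (Fin n) K →* Module.End K (Fin n → K)).comp
      ((Units.coeHom (Matrix (Fin n) (Fin n) K)).comp
        (Matrix.GeneralLinearGroup.map (algebraMap F K)))
  have hφ : Function.Injective φ := by
    intro A B h
    have h1 : ((Matrix.GeneralLinearGroup.map (algebraMap F K) A :
        Matrix.GeneralLinearGroup (Fin n) K) : Matrix (Fin n) (Fin n) K) =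
        ((Matrix.GeneralLinearGroup.map (algebraMap F K) B :
        Matrix.GeneralLinearGroup (Fin n) K) : Matrix (Fin n) (Fin n) K) :=
      (Matrix.toLinAlgEquiv' : Matrix (Fin n) (Fin n) K ≃ₐ[K] Module.End K (Fin n → K)).injective h
    apply Units.ext
    ext i j
    have h2 := congrFun (congrFun h1 i) j
    have h3 : algebraMap F K (A i j) = algebraMap F K (B i j) := by
      rw [← Matrix.GeneralLinearGroup.map_apply, ← Matrix.GeneralLinearGroup.map_apply]
      exact h2
    exact (algebraMap F K).injective h3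
  let ρ' : P →* Module.End K (Fin n → K) := φ.comp P.subtype
  have hker : ρ'.ker = ⊥ := (MonoidHom.ker_eq_bot_iff _).2 (hφ.comp P.subtype_injective)
  have hfin : Module.finrank K (Fin n → K) = n := Module.finrank_fin_fun K
  have hp : p.Prime := Fact.out
  obtain ⟨r, hr⟩ := CharP.exists F
  haveI := hr
  obtain ⟨⟨f, hfpos⟩, hr', hcard⟩ := FiniteField.card F r
  haveI : Fact r.Prime := ⟨hr'⟩
  have hq : q = r ^ f := by rw [← hF]; exact hcard
  haveI : CharP K r := charP_of_injective_algebraMap (algebraMap F K).injective r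
  have hpK : (p : K) ≠ 0 := by
    intro h
    have h1 : r ∣ p := (CharP.cast_eq_zero_iff K r p).1 h
    have h2 : r = p := (Nat.prime_dvd_prime_iff_eq hr' hp).1 h1
    apply hpq
    rw [hq, ← h2]
    exact dvd_pow_self r hfpos.ne'
  have hq0 : 0 < q := by rw [hq]; exact pow_pos hr'.pos f
  have hadd : ∀ a b : K, (a + b) ^ q = a ^ q + b ^ q := by
    intro a b
    rw [hq]
    exact add_pow_char_pow a b r f
  have hqp : (q : ZMod p) ≠ 0 := by
    intro h
    exact hpq ((ZMod.natCast_eq_zero_iff q p).1 h)
  have hepos : 0 < e := by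
    rw [he, orderOf_pos_iff, isOfFinOrder_iff_pow_eq_one]
    exact ⟨p - 1, by have := hp.two_le; omega, ZMod.pow_card_sub_one_eq_one hqp⟩
  have hmult : ∀ x : P, ∀ ω : K, ω ≠ 1 → ω ^ p = 1 →
      Module.finrank K (Module.End.eigenspace (ρ' x) ω) ≤ n / e := by
    intro x ω h1 h2
    rw [Nat.le_div_iff_mul_le hepos, mul_comm, he]
    exact Cfsg.Agent.Lib.helper73.DLin.frob_mult q hq0 hadd
      ((Matrix.GeneralLinearGroup.map (algebraMap F K) (x : GL (Fin n) F) :
        Matrix.GeneralLinearGroup (Fin n) K) : Matrix (Fin n) (Fin n) K) (by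
      intro i j
      rw [Matrix.GeneralLinearGroup.map_apply, ← map_pow, ← hF, FiniteField.pow_card]) p hqp ω h1 h2
  rw [eq_bot_iff, ← hker]
  exact Cfsg.Agent.Lib.helper73.DLin.main_mult p K hpK (n / e) _
    (Nat.lt_pow_succ_log_self (by norm_num) _) n (Fin n → K) hfin P hP ρ' hmult

end Cfsg.Agent.S4417
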