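import Cfsg.Statements.S4419
import Mathlib
import Cfsg.Agent.S0071
import Cfsg.Agent.Lib.helper28.Metacyc
import Cfsg.Agent.Lib.helper40.PNil
import Cfsg.Agent.Lib.helper27.QPrimeCore
import Cfsg.Agent.Lib.helper27.Radical

set_option autoImplicit false
open Cfsg

namespace Cfsg.Agent.S4419

/-- Let p be a prime and G a finite group whose Sylow p-subgroups are metacyclic (a cyclic normal subgroup with cyclic quotient). Then G has a normal p-complement if and only if the order of G/O_{p′,p}(G) is coprime to p² − 1. -/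
theorem result {G : Type*} [Group G] [Finite G] (p : ℕ) [Fact p.Prime] (S : Sylow p G) (hS : Cfsg.IsMetacyclic ↥(S : Subgroup G)) : Cfsg.HasNormalPComplement p G ↔ Nat.Coprime (Nat.card (G ⧸ Cfsg.pPrimePCore p G)) (p ^ 2 - 1) := by
  classical
  constructor
  · intro h
    obtain ⟨K, hKn, hKc, k, hk⟩ := Cfsg.Agent.Lib.helper40.exists_normal_coprime_of_hasNPC h
    have hKle : K ≤ Cfsg.pPrimeCore p G := le_sSup ⟨hKn, hKc⟩
    have htop : Cfsg.pPrimePCore p G = ⊤ := by
      rw [eq_top_iff]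
      intro x _
      rw [Cfsg.Agent.Lib.helper27.mem_pPrimePCore_iff]
      have hpg : IsPGroup p (G ⧸ Cfsg.pPrimeCore p G) := by
        have h1 : (Cfsg.pPrimeCore p G).index ∣ p ^ k := by
          rw [← hk]
          exact Subgroup.index_dvd_of_le hKle
        obtain ⟨m, -, hm⟩ := (Nat.dvd_prime_pow (Fact.out : p.Prime)).mp h1
        exact IsPGroup.of_card hm
      have h2 : (⊤ : Subgroup (G ⧸ Cfsg.pPrimeCore p G)) ≤ Cfsg.pCore p (G ⧸ Cfsg.pPrimeCore p G) :=
        le_sSup ⟨inferInstance, hpg.to_subgroup ⊤⟩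
      exact h2 (Subgroup.mem_top _)
    show Nat.Coprime (Cfsg.pPrimePCore p G).index _
    rw [htop, Subgroup.index_top]
    exact Nat.coprime_one_left _
  · intro hcop
    have hcop' : Nat.Coprime (Cfsg.pPrimePCore p G).index (p ^ 2 - 1) := hcop
    have key : ∀ Q : Subgroup G, Q ≤ (S : Subgroup G) → ∀ g ∈ Subgroup.normalizer (Q : Set G),
        Nat.Coprime (orderOf g) p → g ∈ Subgroup.centralizer (Q : Set G) := by
      intro Q hQS g hg hgp
      have hQp : IsPGroup p ↥Q := S.isPGroup'.to_le hQS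
      refine Cfsg.Agent.Lib.helper28.mem_centralizer_of_le_metacyclic (S : Subgroup G) S.isPGroup' hS
        Q hQS g hg hgp (Cfsg.pPrimePCore p G).index hcop' ?_
      set z := g ^ (Cfsg.pPrimePCore p G).index with hz
      have h1 : z ∈ Cfsg.pPrimePCore p G := Subgroup.pow_index_mem _ g
      have h2 : (orderOf z).Coprime p := Nat.Coprime.coprime_dvd_left (orderOf_pow_dvd _) hgp
      have h3 : z ∈ Cfsg.pPrimeCore p G :=
        Cfsg.Agent.Lib.helper27.mem_pPrimeCore_of_mem_pPrimePCore p h1 h2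
      have h4 : z ∈ Subgroup.normalizer (Q : Set G) := Subgroup.pow_mem _ hg _
      have hdisj : Q ⊓ Cfsg.pPrimeCore p G = ⊥ := by
        refine (Subgroup.disjoint_of_coprime_natCard ?_).eq_bot
        obtain ⟨n, hn⟩ := IsPGroup.iff_card.mp hQp
        rw [hn]
        exact Nat.Coprime.pow_left n (Cfsg.Agent.Lib.helper27.pPrimeCore_coprime p).symm
      rw [Subgroup.mem_centralizer_iff]
      intro q hq
      have hq' : q ∈ Q := hq
      have h5 : z * q * z⁻¹ ∈ Q := (Subgroup.mem_normalizer_iff.mp h4 q).mp hq'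
      have h6 : z * q * z⁻¹ * q⁻¹ ∈ Q := Q.mul_mem h5 (Q.inv_mem hq')
      have h7 : z * q * z⁻¹ * q⁻¹ ∈ Cfsg.pPrimeCore p G := by
        have h8 : q * z⁻¹ * q⁻¹ ∈ Cfsg.pPrimeCore p G :=
          (inferInstance : (Cfsg.pPrimeCore p G).Normal).conj_mem _ (Subgroup.inv_mem _ h3) q
        have h9 : z * q * z⁻¹ * q⁻¹ = z * (q * z⁻¹ * q⁻¹) := by group
        rw [h9]
        exact Subgroup.mul_mem _ h3 h8
      have h10 : z * q * z⁻¹ * q⁻¹ ∈ Q ⊓ Cfsg.pPrimeCore p G := Subgroup.mem_inf.mpr ⟨h6, h7⟩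
      rw [hdisj, Subgroup.mem_bot] at h10
      have h11 : z * q = q * z := by
        have h12 : z * q = (z * q * z⁻¹ * q⁻¹) * (q * z) := by group
        rw [h12, h10, one_mul]
      exact h11.symm
    obtain ⟨N, hN, hc⟩ := (Cfsg.Agent.S0071.result S).mpr key
    exact ⟨S, N, hN, hc⟩

end Cfsg.Agent.S4419
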