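import Cfsg.Statements.S4420

set_option autoImplicit false
open Cfsg

namespace Cfsg.Agent.S4420

theorem comm_of_sq {H : Type*} [Group H] (h : ∀ x : H, x ^ 2 = 1) (a b : H) : a * b = b * a := by
  have inv_self : ∀ x : H, x⁻¹ = x := fun x =>
    inv_eq_of_mul_eq_one_right (by rw [← pow_two]; exact h x)
  calc a * b = (a * b)⁻¹ := (inv_self _).symm
    _ = b⁻¹ * a⁻¹ := mul_inv_rev a b
    _ = b * a := by rw [inv_self, inv_self]

/-- An element outside `A` inverts `A`. -/
theorem inverts {H : Type*} [Group H] (A : Subgroup H) (hD : ∀ x : H, x ∉ A → x ^ 2 = 1)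
    (t : H) (ht : t ∉ A) (a : H) (ha : a ∈ A) : t * a * t⁻¹ = a⁻¹ := by
  have hta : t * a ∉ A := fun h => ht ((Subgroup.mul_mem_cancel_right A ha).mp h)
  have h1 : t * a * (t * a) = 1 := by rw [← pow_two]; exact hD _ hta
  have h2 : t * t = 1 := by rw [← pow_two]; exact hD _ ht
  have h3 : t⁻¹ = t := inv_eq_of_mul_eq_one_right h2
  rw [h3]
  have : t * a * t * a = 1 := by rw [← h1]; group
  exact eq_inv_of_mul_eq_one_left this

/-- Structure of groups in which every element outside some proper subgroup has square 1. Let H be a finite group with a proper subgroup A such that every element outside A has square 1. Then H has an abelian normal subgroup B of index 2 such that every element outside B is an involution inverting every element of B; and if H is not an elementary abelian 2-group, B is the only abelian normal subgroup of index 2 with this property. -/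
theorem result {H : Type*} [Group H] [Finite H] (A : Subgroup H) (hA : A ≠ ⊤) (hD : ∀ x : H, x ∉ A → x ^ 2 = 1) :
    ∃ B : Subgroup H, B.Normal ∧ IsMulCommutative ↥B ∧ B.index = 2 ∧
      (∀ x : H, x ∉ B → x ^ 2 = 1 ∧ ∀ b ∈ B, x * b * x⁻¹ = b⁻¹) ∧
      (¬ (IsMulCommutative H ∧ ∀ x : H, x ^ 2 = 1) →
        ∀ B' : Subgroup H, B'.Normal → IsMulCommutative ↥B' → B'.index = 2 →
          (∀ x : H, x ∉ B' → x ^ 2 = 1 ∧ ∀ b ∈ B', x * b * x⁻¹ = b⁻¹) → B' = B) := by
  obtain ⟨t, -, ht⟩ := SetLike.exists_of_lt (lt_top_iff_ne_top.mpr hA)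
  by_cases hEA : ∀ x : H, x ^ 2 = 1
  · -- elementary abelian case
    have hcomm : ∀ a b : H, a * b = b * a := comm_of_sq hEA
    have hp : IsPGroup 2 H := fun x => ⟨1, by simpa using hEA x⟩
    have : Fact (Nat.Prime 2) := ⟨Nat.prime_two⟩
    obtain ⟨n, hn⟩ := hp.exists_card_eq
    have hn0 : n ≠ 0 := by
      rintro rfl
      have h1 : Nat.card H = 1 := by simpa using hn
      have : Subsingleton H := (Nat.card_eq_one_iff_unique.mp h1).1
      exact ht (by rw [Subsingleton.elim t 1]; exact A.one_mem)
    obtain ⟨m, rfl⟩ := Nat.exists_eq_succ_of_ne_zero hn0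
    obtain ⟨B, hB⟩ := Sylow.exists_subgroup_card_pow_prime (G := H) 2 (n := m)
      (by rw [hn]; exact pow_dvd_pow 2 (Nat.le_succ m))
    have hidx : B.index = 2 := by
      have h := B.card_mul_index
      rw [hB, hn, pow_succ] at h
      exact Nat.eq_of_mul_eq_mul_left (by positivity) h
    refine ⟨B, ⟨fun x hx g => ?_⟩, ?_, hidx, ?_, ?_⟩
    · rw [hcomm g x, mul_inv_cancel_right]; exact hx
    · exact IsMulCommutative.of_comm (fun a b => Subtype.ext (hcomm _ _))
    · intro x _
      refine ⟨hEA x, fun b _ => ?_⟩
      rw [hcomm x b, mul_inv_cancel_right]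
      have : b * b = 1 := by rw [← pow_two]; exact hEA b
      exact eq_inv_of_mul_eq_one_left this
    · intro hneg
      exact absurd ⟨IsMulCommutative.of_comm hcomm, hEA⟩ hneg
  · -- the non elementary abelian case: B = A
    have hinv := inverts A hD
    have hAcomm : ∀ a ∈ A, ∀ b ∈ A, a * b = b * a := by
      intro a ha b hb
      have h1 := hinv t ht (a * b) (A.mul_mem ha hb)
      have h2 := hinv t ht a ha
      have h3 := hinv t ht b hb
      have h4 : t * (a * b) * t⁻¹ = (t * a * t⁻¹) * (t * b * t⁻¹) := by group
      rw [h4, h2, h3, mul_inv_rev] at h1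
      have := congrArg (fun z => z⁻¹) h1
      simpa using this.symm
    -- if all of `A` squares to one then all of `H` does
    have hAsq : ¬ ∀ a ∈ A, a = a⁻¹ := by
      intro h
      apply hEA
      intro x
      by_cases hx : x ∈ A
      · have := h x hx
        rw [pow_two]
        nth_rewrite 2 [this]
        exact mul_inv_cancel x
      · exact hD x hx
    have hprod : ∀ s u : H, s ∉ A → u ∉ A → s * u ∈ A := by
      intro s u hs hu
      by_contra hsu
      apply hAsq
      intro a ha
      have h1 := hinv (s * u) hsu a ha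
      have h2 := hinv u hu a ha
      have h3 := hinv s hs a⁻¹ (A.inv_mem ha)
      have h4 : s * u * a * (s * u)⁻¹ = s * (u * a * u⁻¹) * s⁻¹ := by group
      rw [h4, h2, h3, inv_inv] at h1
      exact h1
    have hidx : A.index = 2 := by
      rw [Subgroup.index_eq_two_iff]
      refine ⟨t, fun b => ?_⟩
      by_cases hb : b ∈ A
      · right
        exact ⟨hb, fun h => ht ((Subgroup.mul_mem_cancel_left A hb).mp h)⟩
      · left
        exact ⟨hprod b t hb ht, hb⟩
    refine ⟨A, Subgroup.normal_of_index_eq_two hidx, ?_, hidx, ?_, ?_⟩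
    · exact IsMulCommutative.of_comm (fun a b => Subtype.ext (hAcomm _ a.2 _ b.2))
    · intro x hx
      exact ⟨hD x hx, fun b hb => hinv x hx b hb⟩
    · intro _ B' _ hB'comm _ hB'
      have hB'c : ∀ a ∈ B', ∀ b ∈ B', a * b = b * a := by
        intro a ha b hb
        have := (isMulCommutative_iff.mp hB'comm) ⟨a, ha⟩ ⟨b, hb⟩
        exact congrArg Subtype.val this
      apply le_antisymm
      · -- B' ≤ A
        intro s hs
        by_contra hsA
        apply hEA
        intro x
        by_cases hxA : x ∈ A
        · by_cases hxB : x ∈ B'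
          · have h1 := hinv s hsA x hxA
            rw [hB'c s hs x hxB, mul_inv_cancel_right] at h1
            rw [pow_two]
            nth_rewrite 2 [h1]
            exact mul_inv_cancel x
          · exact (hB' x hxB).1
        · exact hD x hxA
      · -- A ≤ B'
        intro s hs
        by_contra hsB
        apply hEA
        intro x
        by_cases hxA : x ∈ A
        · by_cases hxB : x ∈ B'
          · have h1 := (hB' s hsB).2 x hxB
            rw [hAcomm s hs x hxA, mul_inv_cancel_right] at h1
            rw [pow_two]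
            nth_rewrite 2 [h1]
            exact mul_inv_cancel x
          · exact (hB' x hxB).1
        · exact hD x hxA

end Cfsg.Agent.S4420
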