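import Cfsg.Statements.S4421

set_option autoImplicit false
open Cfsg

namespace Cfsg.Agent.S4421

theorem mem_map_conj {G : Type*} [Group G] (K : Subgroup G) (g a : G) :
    a ∈ K.map (MulAut.conj g).toMonoidHom ↔ g⁻¹ * a * g ∈ K := by
  constructor
  · rintro ⟨b, hb, rfl⟩
    have : g⁻¹ * ((MulAut.conj g).toMonoidHom b) * g = b := by
      simp [MulAut.conj_apply, mul_assoc]
    rw [this]; exact hb
  · intro h
    refine ⟨g⁻¹ * a * g, h, ?_⟩
    simp [MulAut.conj_apply, mul_assoc]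

/-- A factorization of a normalizer from two-step control of fusion. Let `G` be a finite group and `A ≤ S ≤ H` subgroups of `G` such that: (i) `S` controls the `G`-fusion of `A` in the sense that every `G`-conjugate of `A` lying in `S` is an `S`-conjugate of `A`; (ii) `H` controls the `G`-fusion of `S` in the same sense; (iii) every conjugate of `S` by an element of the normalizer of `A` lies in `H`. Then `N_G(A) = N_H(A) · (N_G(S) ∩ N_G(A))`: every element of the normalizer of `A` is a product of an element of `H` normalizing `A` and an element normalizing both `S` and `A`. -/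
theorem result {G : Type*} [Group G] [Finite G] (A S H : Subgroup G)
    (hAS : A ≤ S) (hSH : S ≤ H)
    (h1 : ∀ g : G, A.map (MulAut.conj g).toMonoidHom ≤ S → ∃ s ∈ S, A.map (MulAut.conj g).toMonoidHom = A.map (MulAut.conj s).toMonoidHom)
    (h2 : ∀ g : G, S.map (MulAut.conj g).toMonoidHom ≤ H → ∃ y ∈ H, S.map (MulAut.conj g).toMonoidHom = S.map (MulAut.conj y).toMonoidHom)
    (h3 : ∀ x ∈ Subgroup.normalizer (A : Set G), S.map (MulAut.conj x).toMonoidHom ≤ H) :
    ∀ x ∈ Subgroup.normalizer (A : Set G), ∃ y ∈ H ⊓ Subgroup.normalizer (A : Set G),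
      ∃ z ∈ Subgroup.normalizer (S : Set G) ⊓ Subgroup.normalizer (A : Set G), x = y * z := by
  intro x hx
  obtain ⟨y, hyH, hy⟩ := h2 x (h3 x hx)
  have hxA : ∀ n, n ∈ A ↔ x * n * x⁻¹ ∈ A := fun n => (Subgroup.mem_normalizer_iff.mp hx) n
  have hxA' : ∀ n, n ∈ A ↔ x⁻¹ * n * x ∈ A := fun n => (Subgroup.mem_normalizer_iff''.mp hx) n
  have hyS : ∀ a, x⁻¹ * a * x ∈ S ↔ y⁻¹ * a * y ∈ S := by
    intro a
    rw [← mem_map_conj, ← mem_map_conj, hy]
  have hle : A.map (MulAut.conj y⁻¹).toMonoidHom ≤ S := by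
    intro a ha
    rw [mem_map_conj, inv_inv] at ha
    have h1' : x⁻¹ * (y * a * y⁻¹) * x ∈ S := hAS ((hxA' _).mp ha)
    have h2' := (hyS _).mp h1'
    simpa [mul_assoc] using h2'
  obtain ⟨s, hsS, hs⟩ := h1 y⁻¹ hle
  have hsA : ∀ a, y * a * y⁻¹ ∈ A ↔ s⁻¹ * a * s ∈ A := by
    intro a
    have := mem_map_conj A y⁻¹ a
    rw [inv_inv] at this
    rw [← this, ← mem_map_conj, hs]
  have hysA : y * s ∈ Subgroup.normalizer (A : Set G) := by
    rw [Subgroup.mem_normalizer_iff]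
    intro n
    have e : y * s * n * (y * s)⁻¹ = y * (s * n * s⁻¹) * y⁻¹ := by group
    rw [e, hsA]
    have e2 : s⁻¹ * (s * n * s⁻¹) * s = n := by group
    rw [e2]
  have hyxS : y⁻¹ * x ∈ Subgroup.normalizer (S : Set G) := by
    rw [Subgroup.mem_normalizer_iff]
    intro n
    have e : y⁻¹ * x * n * (y⁻¹ * x)⁻¹ = y⁻¹ * (x * n * x⁻¹) * y := by group
    rw [e, ← hyS]
    have e2 : x⁻¹ * (x * n * x⁻¹) * x = n := by group
    rw [e2]
  refine ⟨y * s, ⟨H.mul_mem hyH (hSH hsS), hysA⟩, (y * s)⁻¹ * x, ⟨?_, ?_⟩, by group⟩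
  · have e : (y * s)⁻¹ * x = s⁻¹ * (y⁻¹ * x) := by group
    rw [e]
    exact Subgroup.mul_mem _ (Subgroup.le_normalizer (S.inv_mem hsS)) hyxS
  · exact Subgroup.mul_mem _ (Subgroup.inv_mem _ hysA) hx

end Cfsg.Agent.S4421
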