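import Cfsg.Statements.S4422

set_option autoImplicit false
open Cfsg

namespace Cfsg.Agent.S4422

theorem prime_case (q e r : ℕ) (hq : 2 ≤ q) (he : 1 ≤ e) (hr : r.Prime)
    (hdvd : r ∣ q ^ e - 1) (hn : ∀ i, 1 ≤ i → i < e → ¬ r ∣ q ^ i - 1) : r ≡ 1 [MOD e] := by
  have : Fact r.Prime := Fact.mk hr
  have hqe : ((q : ZMod r)) ^ e = 1 := by
    have h1 : ((q ^ e - 1 : ℕ) : ZMod r) = 0 := (ZMod.natCast_eq_zero_iff _ _).mpr hdvd
    have h2 : 1 ≤ q ^ e := Nat.one_le_pow _ _ (by omega)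
    rw [Nat.cast_sub h2] at h1
    push_cast at h1
    exact sub_eq_zero.mp h1
  have hord : orderOf (q : ZMod r) = e := by
    have hd := orderOf_dvd_of_pow_eq_one hqe
    by_contra hne
    have hlt : orderOf (q : ZMod r) < e := lt_of_le_of_ne (Nat.le_of_dvd (by omega) hd) hne
    have hpos : 0 < orderOf (q : ZMod r) := by
      apply orderOf_pos_iff.mpr
      exact isOfFinOrder_iff_pow_eq_one.mpr ⟨e, by omega, hqe⟩
    apply hn _ hpos hlt
    have := pow_orderOf_eq_one (q : ZMod r)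
    rw [← (ZMod.natCast_eq_zero_iff _ _)]
    rw [Nat.cast_sub (Nat.one_le_pow _ _ (by omega))]
    push_cast
    rw [this]; simp
  have hq0 : (q : ZMod r) ≠ 0 := by
    intro h0
    rw [h0, zero_pow (by omega)] at hqe
    exact zero_ne_one hqe
  have h3 : (q : ZMod r) ^ (r - 1) = 1 := ZMod.pow_card_sub_one_eq_one hq0
  have h4 : e ∣ r - 1 := hord ▸ orderOf_dvd_of_pow_eq_one h3
  have : 1 ≤ r := hr.one_lt.le
  exact ((Nat.modEq_iff_dvd' this).mpr h4).symm

theorem all_primes (e : ℕ) : ∀ m : ℕ, m ≠ 0 → (∀ r : ℕ, r.Prime → r ∣ m → r ≡ 1 [MOD e]) →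
    m ≡ 1 [MOD e] := by
  intro m
  induction m using Nat.recOnMul with
  | zero => intro h; exact absurd rfl h
  | one => intro _ _; rfl
  | prime p hp => intro _ h; exact h p hp dvd_rfl
  | mul a b iha ihb =>
    intro hab h
    have ha : a ≠ 0 := fun h0 => hab (by simp [h0])
    have hb : b ≠ 0 := fun h0 => hab (by simp [h0])
    have h1 := iha ha (fun r hr hra => h r hr (dvd_mul_of_dvd_left hra b))
    have h2 := ihb hb (fun r hr hrb => h r hr (dvd_mul_of_dvd_right hrb a))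
    simpa using h1.mul h2

/-- Primitive divisors of `q^e - 1` are congruent to 1 modulo `e`. Let `q ≥ 2` and `e ≥ 1` be natural numbers and let `m` be a divisor of `q^e - 1` that is coprime to `q^i - 1` for every `1 ≤ i < e` (so `m` divides the primitive part of `q^e - 1`, the largest such divisor). Then `m ≡ 1 (mod e)`. -/
theorem result (q e m : ℕ) (hq : 2 ≤ q) (he : 1 ≤ e)
    (hm : m ∣ q ^ e - 1) (hcop : ∀ i : ℕ, 1 ≤ i → i < e → Nat.Coprime m (q ^ i - 1)) :
    m % e = 1 % e := by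
  have hpos : 1 ≤ q ^ e - 1 := by
    have : 2 ^ 1 ≤ q ^ e := by
      calc 2 ^ 1 ≤ q ^ 1 := by simpa using hq
        _ ≤ q ^ e := Nat.pow_le_pow_right (by omega) he
    omega
  have hm0 : m ≠ 0 := by
    rintro rfl
    have := Nat.eq_zero_of_zero_dvd hm
    omega
  have key := all_primes e m hm0 (fun r hr hrm => by
    apply prime_case q e r hq he hr (dvd_trans hrm hm)
    intro i hi1 hi2 hdiv
    have hc := hcop i hi1 hi2
    have : r ∣ Nat.gcd m (q ^ i - 1) := Nat.dvd_gcd hrm hdiv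
    rw [hc] at this
    exact hr.one_lt.ne' (Nat.dvd_one.mp this))
  exact key

end Cfsg.Agent.S4422
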