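import Cfsg.Statements.S4423
import Cfsg.Agent.Lib.helper77.CycloTab

set_option autoImplicit false
open Cfsg

namespace Cfsg.Agent.S4423

/-- If `m ∣ N` is coprime to `D` and `N ∣ D ^ k * b`, then `m ≤ b`. -/
theorem exc_bound {N m : ℕ} (D k b : ℕ) (hb : 0 < b) (hm : m ∣ N) (hc : Nat.Coprime m D)
    (hN : N ∣ D ^ k * b) : m ≤ b := by
  have h1 : m ∣ D ^ k * b := hm.trans hN
  have h2 : Nat.Coprime m (D ^ k) := Nat.Coprime.pow_right k hc
  exact Nat.le_of_dvd hb (h2.dvd_of_dvd_mul_left h1)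

/-- Size of the primitive part of `q^e - 1`. For a prime power `q` and `e ≥ 3`, call a divisor of `q^e - 1` primitive when it is coprime to `q^i - 1` for every `1 ≤ i < e`; the primitive part is the largest primitive divisor. Apart from thirteen exceptional pairs, the primitive part is at least `3e + 1`: there is a primitive divisor `m ≥ 3e + 1` unless `(q, e)` is `(2, 6)` (where every primitive divisor is 1), one of `(2,4), (2,10), (2,12), (2,18), (3,4), (3,6), (5,6)` (where the primitive part is exactly `e + 1`), or one of `(2,3), (2,8), (2,20), (4,3), (4,6)` (where it is exactly `2e + 1`). The statement asserts the existence of a primitive divisor `m ≥ 3e + 1` outside the thirteen pairs, and that every primitive divisor is at most `2e + 1` for the thirteen pairs. -/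
theorem result (q e : ℕ) (hq : IsPrimePow q) (he : 3 ≤ e) :
    ((q, e) ∉ [(2, 6), (2, 4), (2, 10), (2, 12), (2, 18), (3, 4), (3, 6), (5, 6), (2, 3), (2, 8), (2, 20), (4, 3), (4, 6)] →
      ∃ m : ℕ, m ∣ q ^ e - 1 ∧ (∀ i : ℕ, 1 ≤ i → i < e → Nat.Coprime m (q ^ i - 1)) ∧ 3 * e + 1 ≤ m) ∧
    ((q, e) ∈ [(2, 6), (2, 4), (2, 10), (2, 12), (2, 18), (3, 4), (3, 6), (5, 6), (2, 3), (2, 8), (2, 20), (4, 3), (4, 6)] →
      ∀ m : ℕ, m ∣ q ^ e - 1 → (∀ i : ℕ, 1 ≤ i → i < e → Nat.Coprime m (q ^ i - 1)) → m ≤ 2 * e + 1) := by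
  have hq2 : 2 ≤ q := hq.two_le
  refine ⟨fun hex => Cfsg.Agent.Lib.helper77.primitive_part_bound hq2 he hex, ?_⟩
  intro hmem m hm hcop
  simp only [List.mem_cons, Prod.mk.injEq, List.not_mem_nil, or_false] at hmem
  rcases hmem with ⟨rfl, rfl⟩ | ⟨rfl, rfl⟩ | ⟨rfl, rfl⟩ | ⟨rfl, rfl⟩ | ⟨rfl, rfl⟩ | ⟨rfl, rfl⟩ |
    ⟨rfl, rfl⟩ | ⟨rfl, rfl⟩ | ⟨rfl, rfl⟩ | ⟨rfl, rfl⟩ | ⟨rfl, rfl⟩ | ⟨rfl, rfl⟩ | ⟨rfl, rfl⟩
  · -- (q, e) = (2, 6)
    have hc : Nat.Coprime m ((2 ^ 2 - 1) * (2 ^ 3 - 1)) :=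
      Nat.Coprime.mul_right (hcop 2 (by norm_num) (by norm_num)) (hcop 3 (by norm_num) (by norm_num))
    have hb := exc_bound ((2 ^ 2 - 1) * (2 ^ 3 - 1)) 2 1 (by norm_num) hm hc (by decide)
    omega
  · -- (q, e) = (2, 4)
    have hc : Nat.Coprime m (2 ^ 2 - 1) := hcop 2 (by norm_num) (by norm_num)
    have hb := exc_bound (2 ^ 2 - 1) 1 5 (by norm_num) hm hc (by decide)
    omega
  · -- (q, e) = (2, 10)
    have hc : Nat.Coprime m ((2 ^ 5 - 1) * (2 ^ 2 - 1)) :=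
      Nat.Coprime.mul_right (hcop 5 (by norm_num) (by norm_num)) (hcop 2 (by norm_num) (by norm_num))
    have hb := exc_bound ((2 ^ 5 - 1) * (2 ^ 2 - 1)) 1 11 (by norm_num) hm hc (by decide)
    omega
  · -- (q, e) = (2, 12)
    have hc : Nat.Coprime m ((2 ^ 6 - 1) * (2 ^ 4 - 1)) :=
      Nat.Coprime.mul_right (hcop 6 (by norm_num) (by norm_num)) (hcop 4 (by norm_num) (by norm_num))
    have hb := exc_bound ((2 ^ 6 - 1) * (2 ^ 4 - 1)) 1 13 (by norm_num) hm hc (by decide)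
    omega
  · -- (q, e) = (2, 18)
    have hc : Nat.Coprime m ((2 ^ 9 - 1) * (2 ^ 2 - 1)) :=
      Nat.Coprime.mul_right (hcop 9 (by norm_num) (by norm_num)) (hcop 2 (by norm_num) (by norm_num))
    have hb := exc_bound ((2 ^ 9 - 1) * (2 ^ 2 - 1)) 3 19 (by norm_num) hm hc (by decide)
    omega
  · -- (q, e) = (3, 4)
    have hc : Nat.Coprime m (3 ^ 1 - 1) := hcop 1 (by norm_num) (by norm_num)
    have hb := exc_bound (3 ^ 1 - 1) 4 5 (by norm_num) hm hc (by decide)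
    omega
  · -- (q, e) = (3, 6)
    have hc : Nat.Coprime m ((3 ^ 3 - 1) * (3 ^ 1 - 1)) :=
      Nat.Coprime.mul_right (hcop 3 (by norm_num) (by norm_num)) (hcop 1 (by norm_num) (by norm_num))
    have hb := exc_bound ((3 ^ 3 - 1) * (3 ^ 1 - 1)) 2 7 (by norm_num) hm hc (by decide)
    omega
  · -- (q, e) = (5, 6)
    have hc : Nat.Coprime m ((5 ^ 3 - 1) * (5 ^ 2 - 1)) :=
      Nat.Coprime.mul_right (hcop 3 (by norm_num) (by norm_num)) (hcop 2 (by norm_num) (by norm_num))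
    have hb := exc_bound ((5 ^ 3 - 1) * (5 ^ 2 - 1)) 2 7 (by norm_num) hm hc (by decide)
    omega
  · -- (q, e) = (2, 3)
    have hc : Nat.Coprime m 1 := Nat.coprime_one_right m
    have hb := exc_bound 1 1 7 (by norm_num) hm hc (by decide)
    omega
  · -- (q, e) = (2, 8)
    have hc : Nat.Coprime m (2 ^ 4 - 1) := hcop 4 (by norm_num) (by norm_num)
    have hb := exc_bound (2 ^ 4 - 1) 1 17 (by norm_num) hm hc (by decide)
    omega
  · -- (q, e) = (2, 20)
    have hc : Nat.Coprime m ((2 ^ 10 - 1) * (2 ^ 4 - 1)) :=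
      Nat.Coprime.mul_right (hcop 10 (by norm_num) (by norm_num)) (hcop 4 (by norm_num) (by norm_num))
    have hb := exc_bound ((2 ^ 10 - 1) * (2 ^ 4 - 1)) 2 41 (by norm_num) hm hc (by decide)
    omega
  · -- (q, e) = (4, 3)
    have hc : Nat.Coprime m (4 ^ 1 - 1) := hcop 1 (by norm_num) (by norm_num)
    have hb := exc_bound (4 ^ 1 - 1) 2 7 (by norm_num) hm hc (by decide)
    omega
  · -- (q, e) = (4, 6)
    have hc : Nat.Coprime m ((4 ^ 3 - 1) * (4 ^ 2 - 1)) :=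
      Nat.Coprime.mul_right (hcop 3 (by norm_num) (by norm_num)) (hcop 2 (by norm_num) (by norm_num))
    have hb := exc_bound ((4 ^ 3 - 1) * (4 ^ 2 - 1)) 1 13 (by norm_num) hm hc (by decide)
    omega

end Cfsg.Agent.S4423
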