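import Cfsg.Statements.S4426
import Cfsg.Agent.Lib.helper79.Contrib

set_option autoImplicit false
open Cfsg

namespace Cfsg.Agent.S4426

open Cfsg.Agent.Lib
open scoped ComplexConjugate

/-- The inner product of the truncation `p ^ a * χ°` with `ξ` is `p ^ (a - d)` times the
contribution. -/
theorem classInner_trunc {G : Type*} [Group G] [Fintype G] (p : ℕ) [Fact p.Prime]
    (M : Ideal Cfsg.AlgInt) (hM : Cfsg.IsPModular p M) (B : Set (Cfsg.IrrCharacter G))
    (hB : Cfsg.IsPBlock M B) (χ : Cfsg.IrrCharacter G) (hχ : χ ∈ B) (ξ : Cfsg.IrrCharacter G) :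
    Cfsg.classInner (fun x : G => if p ∣ orderOf x then (0 : ℂ) else
      ((p ^ (Nat.card G).factorization p : ℕ) : ℂ) * (χ : G → ℂ) x) (ξ : G → ℂ) =
      (((p : ℤ) ^ ((Nat.card G).factorization p - Cfsg.blockDefect p B) *
        helper79.contrib p B χ ξ : ℤ) : ℂ) := by
  classical
  have hp : p.Prime := Fact.out
  have hpc : (p : ℂ) ≠ 0 := Nat.cast_ne_zero.mpr hp.ne_zero
  have hG0 : (Nat.card G : ℂ) ≠ 0 := Nat.cast_ne_zero.mpr Nat.card_pos.ne'
  have hdA : Cfsg.blockDefect p B ≤ (Nat.card G).factorization p := Nat.sub_le _ _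
  have hspec := helper79.contrib_spec hM hB hχ ξ
  unfold Cfsg.classInner
  have h1 : ∑ g : G, (if p ∣ orderOf g then (0 : ℂ) else
      ((p ^ (Nat.card G).factorization p : ℕ) : ℂ) * (χ : G → ℂ) g) * conj ((ξ : G → ℂ) g) =
      ((p : ℂ) ^ (Nat.card G).factorization p) * helper79.regInner p (χ : G → ℂ) (ξ : G → ℂ) := by
    unfold helper79.regInner
    rw [Finset.mul_sum]
    apply Finset.sum_congr rfl
    intro g _
    unfold Cfsg.pRegularPart Cfsg.IsPRegular
    by_cases hg : p ∣ orderOf g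
    · simp [hg]
    · simp only [hg, if_false, not_false_eq_true, if_true]
      push_cast
      ring
  rw [h1]
  push_cast
  have h2 : ((p : ℂ) ^ (Nat.card G).factorization p) =
      (p : ℂ) ^ ((Nat.card G).factorization p - Cfsg.blockDefect p B) *
        (p : ℂ) ^ Cfsg.blockDefect p B := by
    rw [← pow_add, Nat.sub_add_cancel hdA]
  rw [h2, mul_assoc, ← hspec]
  field_simp

/-- The condition of the statement in terms of the contribution. -/
theorem cond_iff {G : Type*} [Group G] [Fintype G] (p : ℕ) [Fact p.Prime]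
    (M : Ideal Cfsg.AlgInt) (hM : Cfsg.IsPModular p M) (B : Set (Cfsg.IrrCharacter G))
    (hB : Cfsg.IsPBlock M B) (χ : Cfsg.IrrCharacter G) (hχ : χ ∈ B) (ξ : Cfsg.IrrCharacter G)
    (hξ : ξ ∈ B) :
    (∃ n : ℤ, Cfsg.classInner (fun x : G => if p ∣ orderOf x then (0 : ℂ) else
      ((p ^ (Nat.card G).factorization p : ℕ) : ℂ) * (χ : G → ℂ) x) (ξ : G → ℂ) = (n : ℂ) ∧
      n ≠ 0 ∧ padicValInt p n = (Cfsg.charDegree (ξ : G → ℂ)).factorization p) ↔
    ¬ ((p ^ (Cfsg.blockHeight p B (ξ : G → ℂ) + 1) : ℕ) : ℤ) ∣ helper79.contrib p B χ ξ := by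
  have hp : p.Prime := Fact.out
  have hpz : (p : ℤ) ≠ 0 := by exact_mod_cast hp.ne_zero
  have hdA : Cfsg.blockDefect p B ≤ (Nat.card G).factorization p := Nat.sub_le _ _
  have harith := helper79.factorization_add_defect (p := p) hξ
  have hb : (Cfsg.charDegree (ξ : G → ℂ)).factorization p =
      ((Nat.card G).factorization p - Cfsg.blockDefect p B) +
        Cfsg.blockHeight p B (ξ : G → ℂ) := by omega
  have hci := classInner_trunc p M hM B hB χ hχ ξ
  have hdvdh := helper79.pow_height_dvd_contrib hM hB hχ hξ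
  have hpe : ((p : ℤ) ^ ((Nat.card G).factorization p - Cfsg.blockDefect p B)) ≠ 0 :=
    pow_ne_zero _ hpz
  constructor
  · rintro ⟨n, hn, hn0, hval⟩ hdvd
    rw [hci] at hn
    have hn' : n = (p : ℤ) ^ ((Nat.card G).factorization p - Cfsg.blockDefect p B) *
        helper79.contrib p B χ ξ := by exact_mod_cast hn.symm
    have h1 : (p : ℤ) ^ ((Cfsg.charDegree (ξ : G → ℂ)).factorization p + 1) ∣ n := by
      rw [hn', hb, add_assoc, pow_add]
      apply mul_dvd_mul_left
      exact_mod_cast hdvd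
    rcases (padicValInt_dvd_iff _ n).mp h1 with h2 | h2
    · exact hn0 h2
    · omega
  · intro hnd
    have hm0 : helper79.contrib p B χ ξ ≠ 0 := by
      intro h
      apply hnd
      rw [h]
      exact dvd_zero _
    refine ⟨(p : ℤ) ^ ((Nat.card G).factorization p - Cfsg.blockDefect p B) *
      helper79.contrib p B χ ξ, hci, mul_ne_zero hpe hm0, ?_⟩
    have h1 : (p : ℤ) ^ ((Cfsg.charDegree (ξ : G → ℂ)).factorization p) ∣
        (p : ℤ) ^ ((Nat.card G).factorization p - Cfsg.blockDefect p B) *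
          helper79.contrib p B χ ξ := by
      rw [hb, pow_add]
      apply mul_dvd_mul_left
      exact_mod_cast hdvdh
    have h2 : ¬ (p : ℤ) ^ ((Cfsg.charDegree (ξ : G → ℂ)).factorization p + 1) ∣
        (p : ℤ) ^ ((Nat.card G).factorization p - Cfsg.blockDefect p B) *
          helper79.contrib p B χ ξ := by
      rw [hb, add_assoc, pow_add]
      intro h3
      apply hnd
      have := (mul_dvd_mul_iff_left hpe).mp h3
      exact_mod_cast this
    rcases (padicValInt_dvd_iff _ _).mp h1 with h3 | h3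
    · exact absurd h3 (mul_ne_zero hpe hm0)
    · have h4 : ¬ ((Cfsg.charDegree (ξ : G → ℂ)).factorization p + 1 ≤
          padicValInt p ((p : ℤ) ^ ((Nat.card G).factorization p - Cfsg.blockDefect p B) *
            helper79.contrib p B χ ξ)) := by
        intro h5
        exact h2 ((padicValInt_dvd_iff _ _).mpr (Or.inr h5))
      omega

/-- Let χ be an irreducible character in the p-block B of the finite group G (relative to a maximal ideal M of the algebraic integers containing p), let p^a be the p-part of the order of G, and let χ̃ be the class function equal to p^a · χ on p-regular elements and zero elsewhere. For ξ ∈ B the inner product [χ̃, ξ] is an integer. The following are equivalent: (a) χ has height zero in B; (b) for some ξ ∈ B the integer [χ̃, ξ] is nonzero and the exact power of p dividing it equals the exact power of p dividing ξ(1); (c) the same holds for every ξ ∈ B. -/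
theorem result {G : Type*} [Group G] [Fintype G] (p : ℕ) [Fact p.Prime] (M : Ideal Cfsg.AlgInt) (hM : Cfsg.IsPModular p M) (B : Set (Cfsg.IrrCharacter G)) (hB : Cfsg.IsPBlock M B) (χ : Cfsg.IrrCharacter G) (hχ : χ ∈ B) : (Cfsg.blockHeight p B (χ : G → ℂ) = 0 ↔ ∃ ξ ∈ B, ∃ n : ℤ, Cfsg.classInner (fun x : G => if p ∣ orderOf x then (0 : ℂ) else ((p ^ (Nat.card G).factorization p : ℕ) : ℂ) * (χ : G → ℂ) x) (ξ : G → ℂ) = (n : ℂ) ∧ n ≠ 0 ∧ padicValInt p n = (Cfsg.charDegree (ξ : G → ℂ)).factorization p) ∧ (Cfsg.blockHeight p B (χ : G → ℂ) = 0 ↔ ∀ ξ ∈ B, ∃ n : ℤ, Cfsg.classInner (fun x : G => if p ∣ orderOf x then (0 : ℂ) else ((p ^ (Nat.card G).factorization p : ℕ) : ℂ) * (χ : G → ℂ) x) (ξ : G → ℂ) = (n : ℂ) ∧ n ≠ 0 ∧ padicValInt p n = (Cfsg.charDegree (ξ : G → ℂ)).factorization p) := by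
  refine ⟨⟨?_, ?_⟩, ⟨?_, ?_⟩⟩
  · intro h0
    exact ⟨χ, hχ, (cond_iff p M hM B hB χ hχ χ hχ).mpr
      (helper79.not_dvd_of_height_zero hM hB hχ h0 hχ)⟩
  · rintro ⟨ξ, hξ, hc⟩
    exact helper79.height_zero_of_not_dvd hM hB hχ hξ ((cond_iff p M hM B hB χ hχ ξ hξ).mp hc)
  · intro h0 ξ hξ
    exact (cond_iff p M hM B hB χ hχ ξ hξ).mpr (helper79.not_dvd_of_height_zero hM hB hχ h0 hξ)
  · intro hall
    exact helper79.height_zero_of_not_dvd hM hB hχ hχ
      ((cond_iff p M hM B hB χ hχ χ hχ).mp (hall χ hχ))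

end Cfsg.Agent.S4426
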