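import Cfsg.Statements.S4427
import Mathlib
import Cfsg.Agent.Lib.helper2.PimGlue
import Cfsg.Agent.Lib.helper20.ProjVanish
import Cfsg.Agent.Lib.helper25.CfIdem
import Cfsg.Agent.Lib.helper76.KazCore

set_option autoImplicit false
open Cfsg

namespace Cfsg.Agent.S4427

section helpers

open scoped ComplexConjugate
open Cfsg.Agent.Lib.helper2

/-- The Cauchy–Schwarz equality step. -/
theorem cs_const {G : Type*} [Fintype G] [DecidableEq G] (Θ : G → ℂ) (S : Finset G) (P : ℕ)
    (t : ℂ) (d : ℕ)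
    (h0 : ∀ g, g ∉ S → Θ g = 0) (h1 : ∑ g, Θ g = (Fintype.card G : ℂ))
    (h2 : ∑ g, Θ g * conj (Θ g) = (Fintype.card G : ℂ) * t) (h3 : (P : ℂ) = t + d)
    (h4 : S.card * P = Fintype.card G) : ∀ g ∈ S, Θ g = P := by
  have hS1 : ∑ g ∈ S, Θ g = (Fintype.card G : ℂ) := by
    rw [← h1]
    apply Finset.sum_subset (Finset.subset_univ S)
    intro g _ hg
    exact h0 g hg
  have hS2 : ∑ g ∈ S, Θ g * conj (Θ g) = (Fintype.card G : ℂ) * t := by
    rw [← h2]
    apply Finset.sum_subset (Finset.subset_univ S)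
    intro g _ hg
    rw [h0 g hg, zero_mul]
  have hS3 : ∑ g ∈ S, conj (Θ g) = (Fintype.card G : ℂ) := by
    rw [← map_sum, hS1, map_natCast]
  have h4' : (S.card : ℂ) * (P : ℂ) = (Fintype.card G : ℂ) := by exact_mod_cast h4
  have key : ∑ g ∈ S, (Θ g - P) * conj (Θ g - P) = -((Fintype.card G : ℂ) * d) := by
    have e : ∀ g, (Θ g - P) * conj (Θ g - P)
        = Θ g * conj (Θ g) - (P : ℂ) * Θ g - (P : ℂ) * conj (Θ g) + (P : ℂ) * (P : ℂ) := by
      intro g
      rw [map_sub, map_natCast]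
      ring
    simp_rw [e]
    rw [Finset.sum_add_distrib, Finset.sum_sub_distrib, Finset.sum_sub_distrib, hS2,
      ← Finset.mul_sum, ← Finset.mul_sum, hS1, hS3, Finset.sum_const, nsmul_eq_mul,
      ← mul_assoc, h4', h3]
    ring
  have key2 : ∑ g ∈ S, Complex.normSq (Θ g - P) = -((Fintype.card G : ℝ) * d) := by
    have := congrArg Complex.re key
    simp_rw [Complex.mul_conj] at this
    rw [Complex.re_sum] at this
    simp only [Complex.ofReal_re] at this
    rw [this]
    simp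
  have hnonneg : ∀ g ∈ S, 0 ≤ Complex.normSq (Θ g - P) := fun g _ => Complex.normSq_nonneg _
  have hle : ∑ g ∈ S, Complex.normSq (Θ g - P) ≤ 0 := by
    rw [key2]
    have : (0 : ℝ) ≤ (Fintype.card G : ℝ) * d := by positivity
    linarith
  have hzero : ∑ g ∈ S, Complex.normSq (Θ g - P) = 0 :=
    le_antisymm hle (Finset.sum_nonneg hnonneg)
  intro g hg
  have := (Finset.sum_eq_zero_iff_of_nonneg hnonneg).mp hzero g hg
  rw [Complex.normSq_eq_zero, sub_eq_zero] at this
  exact this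


/-- Order of a conjugate-inverse. -/
theorem orderOf_conj_inv' {G : Type*} [Group G] (x h : G) :
    orderOf (h⁻¹ * (x⁻¹ * h)) = orderOf x := by
  have h1 : h⁻¹ * (x⁻¹ * h) = (MulAut.conj h⁻¹).toMonoidHom x⁻¹ := by
    simp [MulAut.conj_apply, mul_assoc]
  rw [h1, orderOf_injective _ (MulAut.conj h⁻¹).injective, orderOf_inv]

theorem main_aux {G : Type*} [Group G] [Fintype G] (p q r a b c : ℕ) (hp : p.Prime)
    (hq : q.Prime) (hr : r.Prime) (hpq : p ≠ q) (hpr : p ≠ r) (hqr : q ≠ r)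
    (hG : Nat.card G = p ^ a * q ^ b * r ^ c)
    (hcount : Nat.card {g : G // ¬ p ∣ orderOf g} = q ^ b * r ^ c) :
    ∃ N : Subgroup G, N.Normal ∧ Nat.card N = q ^ b * r ^ c := by
  classical
  obtain ⟨M, hM⟩ := Cfsg.Agent.Lib.helper76.exists_isPModular p hp
  haveI : Fact q.Prime := ⟨hq⟩
  haveI : Fact r.Prime := ⟨hr⟩
  have hp0 : p ^ a ≠ 0 := pow_ne_zero _ hp.ne_zero
  have hq0 : q ^ b ≠ 0 := pow_ne_zero _ hq.ne_zero
  have hr0 : r ^ c ≠ 0 := pow_ne_zero _ hr.ne_zero
  obtain ⟨Q⟩ : Nonempty (Sylow q G) := inferInstance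
  obtain ⟨T⟩ : Nonempty (Sylow r G) := inferInstance
  have hQ : Nat.card Q = q ^ b := by
    rw [Sylow.card_eq_multiplicity, hG]
    congr 1
    rw [Nat.factorization_mul (mul_ne_zero hp0 hq0) hr0, Nat.factorization_mul hp0 hq0,
      hp.factorization_pow, hq.factorization_pow, hr.factorization_pow]
    simp [Finsupp.single_apply, hpq, hqr.symm]
  have hT : Nat.card T = r ^ c := by
    rw [Sylow.card_eq_multiplicity, hG]
    congr 1
    rw [Nat.factorization_mul (mul_ne_zero hp0 hq0) hr0, Nat.factorization_mul hp0 hq0,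
      hp.factorization_pow, hq.factorization_pow, hr.factorization_pow]
    simp [Finsupp.single_apply, hpr, hqr]
  have hcopQ : (Nat.card (Q : Subgroup G)).Coprime p := by
    rw [hQ]
    exact Nat.Coprime.pow_left _ ((Nat.coprime_primes hq hp).mpr hpq.symm)
  have hcopT : (Nat.card (T : Subgroup G)).Coprime p := by
    rw [hT]
    exact Nat.Coprime.pow_left _ ((Nat.coprime_primes hr hp).mpr hpr.symm)
  obtain ⟨ι, hι, hloc, hsum, hX⟩ := exists_pim (G := G) hM
  obtain ⟨wQ, hwQ1, hwQ2, hwQ3⟩ := hX (Q : Subgroup G) hcopQ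
  obtain ⟨wT, hwT1, hwT2, hwT3⟩ := hX (T : Subgroup G) hcopT
  set eQ := eA (Q : Subgroup G) with heQ
  set eT := eA (T : Subgroup G) with heT
  have heQ2 : eQ * eQ = eQ := eA_mul_self _
  have heT2 : eT * eT = eT := eA_mul_self _
  -- the equivalent idempotents below `eQ`, `eT`
  have hxyQ : (ι * eQ) * (eQ * wQ) = ι := by
    calc (ι * eQ) * (eQ * wQ) = ι * (eQ * eQ) * wQ := by simp only [mul_assoc]
      _ = ι * eQ * (ι * wQ) := by rw [heQ2, hwQ1]
      _ = ι * eQ * ι * wQ := by simp only [mul_assoc]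
      _ = ι := hwQ3
  have hxyT : (ι * eT) * (eT * wT) = ι := by
    calc (ι * eT) * (eT * wT) = ι * (eT * eT) * wT := by simp only [mul_assoc]
      _ = ι * eT * (ι * wT) := by rw [heT2, hwT1]
      _ = ι * eT * ι * wT := by simp only [mul_assoc]
      _ = ι := hwT3
  have hyxQ : (eQ * wQ) * (ι * eQ) = eQ * wQ * eQ := by
    calc (eQ * wQ) * (ι * eQ) = eQ * (wQ * ι) * eQ := by simp only [mul_assoc]
      _ = eQ * wQ * eQ := by rw [hwQ2]
  have hyxT : (eT * wT) * (ι * eT) = eT * wT * eT := by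
    calc (eT * wT) * (ι * eT) = eT * (wT * ι) * eT := by simp only [mul_assoc]
      _ = eT * wT * eT := by rw [hwT2]
  have hwew : ∀ (e w : MonoidAlgebra ℂ G), ι * w = w → w * ι = w → ι * e * ι * w = ι →
      w * e * w = w := by
    intro e w h1 h2 h3
    calc w * e * w = (w * ι) * e * (ι * w) := by rw [h1, h2]
      _ = w * (ι * e * ι * w) := by simp only [mul_assoc]
      _ = w := by rw [h3, h2]
  have hιQ : (eQ * wQ * eQ) * (eQ * wQ * eQ) = eQ * wQ * eQ := by
    calc (eQ * wQ * eQ) * (eQ * wQ * eQ) = eQ * (wQ * (eQ * eQ) * wQ) * eQ := by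
          simp only [mul_assoc]
      _ = eQ * wQ * eQ := by rw [heQ2, hwew eQ wQ hwQ1 hwQ2 hwQ3]
  have hιT : (eT * wT * eT) * (eT * wT * eT) = eT * wT * eT := by
    calc (eT * wT * eT) * (eT * wT * eT) = eT * (wT * (eT * eT) * wT) * eT := by
          simp only [mul_assoc]
      _ = eT * wT * eT := by rw [heT2, hwew eT wT hwT1 hwT2 hwT3]
  have htr1 : trLR ι ι = trLR (eQ * wQ * eQ) (eT * wT * eT) := by
    calc trLR ι ι = trLR ((ι * eQ) * (eQ * wQ)) ι := by rw [hxyQ]
      _ = trLR ((eQ * wQ) * (ι * eQ)) ι := trLR_mul_comm_left _ _ _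
      _ = trLR (eQ * wQ * eQ) ((ι * eT) * (eT * wT)) := by rw [hyxQ, hxyT]
      _ = trLR (eQ * wQ * eQ) ((eT * wT) * (ι * eT)) := trLR_mul_comm_right _ _ _
      _ = trLR (eQ * wQ * eQ) (eT * wT * eT) := by rw [hyxT]
  obtain ⟨d, hd⟩ := trLR_mono eQ (eQ * wQ * eQ) eT (eT * wT * eT) heQ2 heT2 hιQ hιT
    (by rw [← mul_assoc, ← mul_assoc, heQ2]) (by rw [mul_assoc, heQ2])
    (by rw [mul_assoc, heT2]) (by rw [← mul_assoc, ← mul_assoc, heT2])
  have hQT : ∀ x ∈ (Q : Subgroup G), ∀ h : G, h⁻¹ * (x⁻¹ * h) ∈ (T : Subgroup G) → x = 1 := by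
    intro x hx h hh
    have h1 : orderOf x ∣ q ^ b := by
      rw [← hQ]
      have := orderOf_dvd_natCard (⟨x, hx⟩ : (Q : Subgroup G))
      rwa [Subgroup.orderOf_mk] at this
    have h2 : orderOf x ∣ r ^ c := by
      rw [← hT, ← orderOf_conj_inv' x h]
      have := orderOf_dvd_natCard (⟨_, hh⟩ : (T : Subgroup G))
      rwa [Subgroup.orderOf_mk] at this
    have h3 : orderOf x ∣ 1 := by
      have hcop : (q ^ b).Coprime (r ^ c) :=
        Nat.Coprime.pow _ _ ((Nat.coprime_primes hq hr).mpr hqr)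
      have := Nat.dvd_gcd h1 h2
      rwa [hcop] at this
    exact orderOf_eq_one_iff.mp (Nat.dvd_one.mp h3)
  have htr2 : trLR eQ eT = (p ^ a : ℕ) := by
    rw [heQ, heT, trLR_eA _ _ hQT, hQ, hT, hG]
    push_cast
    have h1 : (q : ℂ) ^ b ≠ 0 := by exact_mod_cast hq0
    have h2 : (r : ℂ) ^ c ≠ 0 := by exact_mod_cast hr0
    field_simp
  have hPt : ((p ^ a : ℕ) : ℂ) = trLR ι ι + d := by
    rw [← htr2, hd, htr1]
  -- the class function
  have hvan : ∀ g : G, p ∣ orderOf g → cfs ι g = 0 := fun g hg =>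
    Cfsg.Agent.Lib.helper20.sum_coeff_conj_eq_zero hM ι hι hloc g hg
  have hinv : ∀ g : G, cfs ι g⁻¹ = conj (cfs ι g) := fun g => Cfsg.Agent.Lib.helper25.cf_inv ι hι g
  have hone : ∀ g : G, cfs ι g = cfs ι 1 ↔
      ∀ x : MonoidAlgebra ℂ G, MonoidAlgebra.single g 1 * (x * ι) = x * ι :=
    fun g => Cfsg.Agent.Lib.helper25.cf_eq_one_iff ι hι g
  have hcard : (Nat.card G : ℂ) = (Fintype.card G : ℂ) := by rw [Nat.card_eq_fintype_card]
  set S : Finset G := Finset.univ.filter (fun g => ¬ p ∣ orderOf g) with hS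
  have hScard : S.card = q ^ b * r ^ c := by
    rw [← hcount, Nat.card_eq_fintype_card, Fintype.card_subtype]
  have hconst : ∀ g ∈ S, cfs ι g = ((p ^ a : ℕ) : ℂ) := by
    apply cs_const (cfs ι) S (p ^ a) (trLR ι ι) d
    · intro g hg
      apply hvan
      by_contra h
      exact hg (Finset.mem_filter.mpr ⟨Finset.mem_univ _, h⟩)
    · rw [sum_cfs, hsum, mul_one, hcard]
    · simp_rw [← hinv]
      rw [sum_cfs_mul_inv, hcard]
    · exact hPt
    · rw [hScard, ← Nat.card_eq_fintype_card, hG]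
      ring
  have h1S : (1 : G) ∈ S := by
    rw [hS, Finset.mem_filter]
    refine ⟨Finset.mem_univ _, ?_⟩
    rw [orderOf_one]
    exact fun h => hp.one_lt.ne' (Nat.dvd_one.mp h)
  have hPne : ((p ^ a : ℕ) : ℂ) ≠ 0 := by exact_mod_cast hp0
  let N : Subgroup G :=
    { carrier := {g | ∀ x : MonoidAlgebra ℂ G, MonoidAlgebra.single g 1 * (x * ι) = x * ι}
      mul_mem' := by
        intro g h hg hh x
        have e : (MonoidAlgebra.single (g * h) (1 : ℂ))
            = MonoidAlgebra.single g 1 * MonoidAlgebra.single h 1 := by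
          rw [MonoidAlgebra.single_mul_single, mul_one]
        rw [e, mul_assoc, hh x, hg x]
      one_mem' := by
        intro x
        have e : (MonoidAlgebra.single (1 : G) (1 : ℂ)) = 1 := rfl
        rw [e, one_mul]
      inv_mem' := by
        intro g hg x
        have e : (MonoidAlgebra.single g⁻¹ (1 : ℂ)) * MonoidAlgebra.single g 1 = 1 := by
          rw [MonoidAlgebra.single_mul_single, mul_one, inv_mul_cancel]
          rfl
        calc MonoidAlgebra.single g⁻¹ 1 * (x * ι)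
            = MonoidAlgebra.single g⁻¹ 1 * (MonoidAlgebra.single g 1 * (x * ι)) := by rw [hg x]
          _ = x * ι := by rw [← mul_assoc, e, one_mul] }
  have hmem : ∀ g : G, g ∈ N ↔ ¬ p ∣ orderOf g := by
    intro g
    constructor
    · intro hg hdvd
      have h1 : cfs ι g = cfs ι 1 := (hone g).mpr hg
      rw [hvan g hdvd, hconst 1 h1S] at h1
      exact hPne h1.symm
    · intro hg
      have hgS : g ∈ S := Finset.mem_filter.mpr ⟨Finset.mem_univ _, hg⟩
      have h1 : cfs ι g = cfs ι 1 := by rw [hconst g hgS, hconst 1 h1S]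
      exact (hone g).mp h1
  refine ⟨N, ?_, ?_⟩
  · constructor
    intro n hn g
    rw [hmem] at hn ⊢
    have : orderOf (g * n * g⁻¹) = orderOf n := by
      have h1 : g * n * g⁻¹ = (MulAut.conj g).toMonoidHom n := by simp [MulAut.conj_apply]
      rw [h1, orderOf_injective _ (MulAut.conj g).injective]
    rw [this]
    exact hn
  · rw [← hcount]
    exact Nat.card_congr (Equiv.subtypeEquivRight hmem)

end helpers

/-- Let G be a finite group of order p^a · q^b · r^c with p, q, r distinct primes, and suppose that G has exactly q^b · r^c elements of order not divisible by p. Then G has a normal p-complement: a normal subgroup of order q^b · r^c. -/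
theorem result {G : Type*} [Group G] [Finite G] (p q r a b c : ℕ) (hp : p.Prime) (hq : q.Prime) (hr : r.Prime) (hpq : p ≠ q) (hpr : p ≠ r) (hqr : q ≠ r) (hG : Nat.card G = p ^ a * q ^ b * r ^ c) (hcount : Nat.card {g : G // ¬ p ∣ orderOf g} = q ^ b * r ^ c) : ∃ N : Subgroup G, N.Normal ∧ Nat.card N = q ^ b * r ^ c := by
  haveI := Fintype.ofFinite G
  exact main_aux p q r a b c hp hq hr hpq hpr hqr hG hcount

end Cfsg.Agent.S4427
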