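import Mathlib
import Cfsg.Statements.S4428
import Cfsg.Agent.Lib.helper20.HtZeroRes
import Cfsg.Agent.Lib.helper79.PPartCong
import Cfsg.Agent.Lib.helper79.BrauerFeit
import Cfsg.Agent.Lib.helper78.KLCount

set_option autoImplicit false
open Cfsg

namespace Cfsg.Agent.S4428

open Cfsg.Agent.Lib.helper20
open Cfsg.Agent.Lib.helper79 (regInner contrib contrib_spec exists_height_zero
  memLocalIdeal_sub_one_of_pow int_dvd_of_memLocalIdeal)
open Cfsg.Agent.Lib.helper81 (irr_classFun irr_one_ne_zero)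
open scoped ComplexConjugate

/-- The scalar by which a central element of `p`-power order acts is a `p`-power root of unity. -/
private theorem central_scalar_pow {H : Type*} [Group H] [Fintype H] (θ : IrrCharacter H) (z : H)
    (hz : ∀ h : H, h * z = z * h) (n : ℕ) :
    ((θ : H → ℂ) z / (θ : H → ℂ) 1) ^ n = (θ : H → ℂ) (z ^ n) / (θ : H → ℂ) 1 := by
  induction n with
  | zero =>
    rw [pow_zero, pow_zero, div_self (irr_one_ne_zero θ)]
  | succ n ih =>
    rw [pow_succ', ih, pow_succ', Cfsg.Agent.Lib.helper78.irr_central_mul θ z hz (z ^ n)]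
    ring

private theorem main {G : Type*} [Group G] [Fintype G] (p : ℕ) [Fact p.Prime]
    (M : Ideal Cfsg.AlgInt) (hM : Cfsg.IsPModular p M) (B : Set (Cfsg.IrrCharacter G))
    (χ : Cfsg.IrrCharacter G) (hχ : χ ∈ B) (h0 : Cfsg.blockHeight p B (χ : G → ℂ) = 0) (x : G)
    (k : ℕ) (hk : orderOf x = p ^ k) (C : Subgroup G) [Fintype C] (hxC : x ∈ C)
    (hcent : ∀ h ∈ C, h * x = x * h)
    (b : Set (Cfsg.IrrCharacter C)) (hb : Cfsg.IsInducedBlock M C b B) :
    ∃ y : C, ¬ p ∣ orderOf y ∧
      (∑ᶠ ξ ∈ b, classInner (fun c : C => (χ : G → ℂ) (x * (c : G))) (ξ : C → ℂ)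
        * (ξ : C → ℂ) y) ≠ 0 := by
  classical
  have hpp : p.Prime := Fact.out
  have hMp : M.IsPrime := hM.2.1.isPrime
  have hpc : (p : ℂ) ≠ 0 := Nat.cast_ne_zero.mpr hpp.ne_zero
  have hC0 : (Nat.card C : ℂ) ≠ 0 := Nat.cast_ne_zero.mpr Nat.card_pos.ne'
  have hbb : IsPBlock M b := hb.1
  -- the central element
  set xC : C := ⟨x, hxC⟩ with hxCdef
  have hcen : ∀ h : C, h * xC = xC * h := by
    intro h
    apply Subtype.ext
    exact hcent h h.2
  have hceninv : ∀ h : C, h * xC⁻¹ = xC⁻¹ * h := by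
    intro h
    have := hcen h
    calc h * xC⁻¹ = xC⁻¹ * (xC * h) * xC⁻¹ := by group
      _ = xC⁻¹ * (h * xC) * xC⁻¹ := by rw [this]
      _ = xC⁻¹ * h := by group
  have hxpow : xC⁻¹ ^ (p ^ k) = 1 := by
    apply Subtype.ext
    simp only [hxCdef, Subgroup.coe_pow, Subgroup.coe_inv, Subgroup.coe_one, inv_pow]
    rw [← hk, pow_orderOf_eq_one, inv_one]
  -- multiplicities
  have hres : IsCharacter C (fun h : C => (χ : G → ℂ) h) :=
    Cfsg.Agent.Lib.helper4.isCharacter_restrict C (isCharacter_of_isIrrCharacter χ.2)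
  choose m hm using fun ξ' : IrrCharacter C =>
    Cfsg.Agent.Lib.helper4.exists_nat_classInner_irr hres ξ'.2
  obtain ⟨ξ₀, hξ₀, hξ₀0⟩ := exists_height_zero (p := p) hM hbb
  have hS := not_dvd_sum_mul_contrib p M hM C b B hb χ hχ h0 m hm ξ₀ hξ₀ hξ₀0
  -- the scalars
  set μ : IrrCharacter C → ℂ := fun ξ => conj ((ξ : C → ℂ) xC⁻¹ / (ξ : C → ℂ) 1) with hμ
  have hμJ : ∀ ξ : IrrCharacter C, MemLocalIdeal M (μ ξ - 1) := by
    intro ξ
    apply memLocalIdeal_sub_one_of_pow hM _ k
    rw [hμ]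
    simp only
    rw [← map_pow, central_scalar_pow ξ xC⁻¹ hceninv, hxpow, div_self (irr_one_ne_zero ξ), map_one]
  -- inner products
  have hinner : ∀ ξ : IrrCharacter C,
      classInner (fun c : C => (χ : G → ℂ) (x * (c : G))) (ξ : C → ℂ) = μ ξ * (m ξ : ℂ) := by
    intro ξ
    rw [← hm ξ]
    unfold classInner
    rw [mul_left_comm]
    congr 1
    rw [Finset.mul_sum]
    rw [← Equiv.sum_comp (Equiv.mulLeft xC⁻¹)
      (fun c : C => (χ : G → ℂ) (x * (c : G)) * conj ((ξ : C → ℂ) c))]
    apply Finset.sum_congr rfl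
    intro c _
    simp only [Equiv.coe_mulLeft]
    rw [Cfsg.Agent.Lib.helper78.irr_central_mul ξ xC⁻¹ hceninv c, map_mul]
    have e1 : x * ((xC⁻¹ * c : C) : G) = (c : G) := by
      simp [hxCdef]
    rw [e1, hμ]
    ring
  by_contra hcon
  push Not at hcon
  apply hS
  apply int_dvd_of_memLocalIdeal hM
  have hcon' : ∀ y : C, ¬ p ∣ orderOf y →
      ∑ ξ : IrrCharacter C, (if ξ ∈ b then μ ξ * (m ξ : ℂ) * (ξ : C → ℂ) y else 0) = 0 := by
    intro y hy
    have := hcon y hy
    rw [finsum_mem_def, finsum_eq_sum_of_fintype] at this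
    refine Eq.trans ?_ this
    apply Finset.sum_congr rfl
    intro ξ _
    rw [Set.indicator_apply]
    split_ifs
    · rw [hinner]
    · rfl
  set c : IrrCharacter C → ℤ := fun ξ' => if ξ' ∈ b then contrib p b ξ' ξ₀ else 0 with hc
  have hzero : ∑ ξ : IrrCharacter C, μ ξ * (m ξ : ℂ) * (c ξ : ℂ) = 0 := by
    have h1 : (∑ ξ : IrrCharacter C, μ ξ * (m ξ : ℂ) * (c ξ : ℂ)) * (Nat.card C : ℂ) = 0 := by
      rw [Finset.sum_mul]
      have h2 : ∀ ξ : IrrCharacter C, μ ξ * (m ξ : ℂ) * (c ξ : ℂ) * (Nat.card C : ℂ)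
          = (p ^ blockDefect p b : ℂ) * ∑ y : C,
              (if ξ ∈ b then μ ξ * (m ξ : ℂ) * pRegularPart p (ξ : C → ℂ) y else 0)
                * conj ((ξ₀ : C → ℂ) y) := by
        intro ξ
        by_cases hξ : ξ ∈ b
        · rw [mul_assoc, contribOrZero_spec hM hbb hξ₀ ξ]
          simp only [hξ, if_true]
          unfold regInner
          rw [Finset.mul_sum, Finset.mul_sum, Finset.mul_sum]
          apply Finset.sum_congr rfl
          intro y _
          ring
        · have : c ξ = 0 := by simp [hc, hξ]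
          rw [this]
          simp [hξ]
      simp_rw [h2]
      rw [← Finset.mul_sum, Finset.sum_comm]
      have h3 : ∀ y : C, ∑ ξ : IrrCharacter C,
          (if ξ ∈ b then μ ξ * (m ξ : ℂ) * pRegularPart p (ξ : C → ℂ) y else 0)
            * conj ((ξ₀ : C → ℂ) y) = 0 := by
        intro y
        rw [← Finset.sum_mul]
        by_cases hy : p ∣ orderOf y
        · have : ∀ ξ : IrrCharacter C, pRegularPart p (ξ : C → ℂ) y = 0 := by
            intro ξ
            unfold pRegularPart IsPRegular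
            simp [hy]
          simp [this]
        · have : ∀ ξ : IrrCharacter C, pRegularPart p (ξ : C → ℂ) y = (ξ : C → ℂ) y := by
            intro ξ
            unfold pRegularPart IsPRegular
            simp [hy]
          simp_rw [this]
          rw [hcon' y hy, zero_mul]
      simp_rw [h3]
      simp
    exact (mul_eq_zero.1 h1).resolve_right hC0
  have hSeq : ((∑ ξ' : IrrCharacter C, (m ξ' : ℤ) * c ξ' : ℤ) : ℂ)
      = ∑ ξ : IrrCharacter C, (1 - μ ξ) * ((m ξ : ℂ) * (c ξ : ℂ)) := by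
    have : ∑ ξ : IrrCharacter C, (1 - μ ξ) * ((m ξ : ℂ) * (c ξ : ℂ))
        = ∑ ξ : IrrCharacter C, (m ξ : ℂ) * (c ξ : ℂ)
          - ∑ ξ : IrrCharacter C, μ ξ * (m ξ : ℂ) * (c ξ : ℂ) := by
      rw [← Finset.sum_sub_distrib]
      apply Finset.sum_congr rfl
      intro ξ _
      ring
    rw [this, hzero, sub_zero]
    push_cast
    rfl
  rw [hSeq]
  apply memLocalIdeal_sum hMp
  intro ξ _
  apply memLocalIdeal_mul_right hMp
  · have := memLocalIdeal_neg (hμJ ξ)
    rwa [neg_sub] at this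
  · exact memLocalRing_mul hMp (memLocalRing_natCast hMp _) (memLocalRing_intCast hMp _)

/-- Let χ be an irreducible character of height zero in the p-block B of the finite group G (relative to a maximal ideal M of the algebraic integers containing p). Let x be a p-element of G with centralizer C, and let b be a block of C that induces B. Form the class function ϑ(c) = χ(x c) on C and its b-part (the sum over ψ ∈ b of the inner product of ϑ with ψ, times ψ). Then the b-part of ϑ does not vanish identically on the p-regular elements of C. (Compare the second main Theorem, which gives vanishing when b does not induce B.) -/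
theorem result {G : Type*} [Group G] [Finite G] (p : ℕ) [Fact p.Prime] (M : Ideal Cfsg.AlgInt) (hM : Cfsg.IsPModular p M) (B : Set (Cfsg.IrrCharacter G)) (hB : Cfsg.IsPBlock M B) (χ : Cfsg.IrrCharacter G) (hχ : χ ∈ B) (h0 : Cfsg.blockHeight p B (χ : G → ℂ) = 0) (x : G) (hx : ∃ k : ℕ, orderOf x = p ^ k) (b : Set (Cfsg.IrrCharacter (Subgroup.centralizer ({x} : Set G)))) (hb : Cfsg.IsInducedBlock M (Subgroup.centralizer ({x} : Set G)) b B) : ∃ y : Subgroup.centralizer ({x} : Set G), ¬ p ∣ orderOf y ∧ Cfsg.blockPart b (fun c : Subgroup.centralizer ({x} : Set G) => (χ : G → ℂ) (x * (c : G))) y ≠ 0 := by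
  obtain ⟨k, hk⟩ := hx
  unfold blockPart
  exact @main G _ (Fintype.ofFinite G) p _ M hM B χ hχ h0 x k hk
    (Subgroup.centralizer ({x} : Set G)) (Fintype.ofFinite _)
    (by rw [Subgroup.mem_centralizer_singleton_iff])
    (fun h hh => by rwa [Subgroup.mem_centralizer_singleton_iff] at hh) b hb

end Cfsg.Agent.S4428
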