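import Cfsg.Statements.S4429
import Mathlib
import Cfsg.Agent.Lib.helper21.M11Core
import Cfsg.Agent.Lib.helper17.M11_H

set_option autoImplicit false

namespace Cfsg.Agent.S4429

theorem result {G : Type*} [Group G] [Finite G] [IsSimpleGroup G] (hG : Nat.card G = 7920) : Nat.card (Cfsg.IrrCharacter G) = 10 ∧ ∀ n : ℕ, Nat.card {χ : Cfsg.IrrCharacter G // Cfsg.charDegree (χ : G → ℂ) = n} = (if n = 1 ∨ n = 11 ∨ n = 44 ∨ n = 45 ∨ n = 55 then 1 else if n = 10 then 3 else if n = 16 then 2 else 0) := by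
  classical
  have := Fintype.ofFinite G
  have := Fintype.ofFinite (Cfsg.IrrCharacter G)
  obtain ⟨l, hnd, hall, hdeg⟩ := Cfsg.Agent.Lib.helper21.m11_core_list hG
  exact Cfsg.Agent.Lib.helper17.m11_count_of_list l hnd hall hdeg

end Cfsg.Agent.S4429
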