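import Mathlib
import Cfsg.Statements.S4430
import Cfsg.Agent.Lib.helper20.Trunc
import Cfsg.Agent.Lib.helper20.Induced
import Cfsg.Agent.Lib.helper4.Induction
import Cfsg.Agent.Lib.helper4.CharDecomp
import Cfsg.Agent.Lib.helper83.CharBasic2
import Cfsg.Agent.Lib.helper81.CharOrtho
import Cfsg.Agent.Lib.helper81.Blocks
import Cfsg.Agent.Lib.helper80.LocalInt

set_option autoImplicit false
open Cfsg

namespace Cfsg.Agent.S4430

open Cfsg.Agent.Lib.helper20
open Cfsg.Agent.Lib.helper81 (irr_classFun irr_one_ne_zero irr_one_eq_charDegree irr_conjInv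
  blockIdem coeff_blockIdem isCentralElt_blockIdem omega_blockIdem localCoeff_blockIdem
  isPBlock_eq_of_mem isPBlock_nonempty)
open Cfsg.Agent.Lib.helper80 (memLocalIdeal_natCast not_memLocalIdeal_natCast)
open scoped ComplexConjugate

/-- Arithmetic: `n = N * u` with `u ≡ 1`: same `p`-part. -/
private theorem arith_unit {p : ℕ} [Fact p.Prime] {M : Ideal Cfsg.AlgInt}
    (hM : Cfsg.IsPModular p M) (n N : ℕ) (hN : N ≠ 0) (u : ℂ) (h : (n : ℂ) = (N : ℂ) * u)
    (hu : MemLocalIdeal M (u - 1)) : n ≠ 0 ∧ n.factorization p = N.factorization p := by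
  have hpp : p.Prime := Fact.out
  have hMp : M.IsPrime := hM.2.1.isPrime
  have hpc : (p : ℂ) ≠ 0 := Nat.cast_ne_zero.mpr hpp.ne_zero
  have hNc : (N : ℂ) ≠ 0 := Nat.cast_ne_zero.mpr hN
  have h1not : ¬ MemLocalIdeal M ((1 : ℕ) : ℂ) :=
    not_memLocalIdeal_natCast hM (by simpa using hpp.one_lt.ne')
  have hn0 : n ≠ 0 := by
    rintro rfl
    have hu0 : u = 0 := by
      have : (N : ℂ) * u = 0 := by rw [← h]; simp
      exact (mul_eq_zero.1 this).resolve_left hNc
    rw [hu0, zero_sub] at hu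
    apply h1not
    have := memLocalIdeal_neg hu
    simpa using this
  refine ⟨hn0, ?_⟩
  -- key: for a common power p^c dividing both, the cofactors are congruent mod p
  have key : ∀ c n₂ N₂ : ℕ, n = p ^ c * n₂ → N = p ^ c * N₂ →
      MemLocalIdeal M ((n₂ : ℂ) - (N₂ : ℂ)) := by
    intro c n₂ N₂ hn hNN
    have e : (n₂ : ℂ) = (N₂ : ℂ) * u := by
      have hpcc : ((p : ℂ) ^ c) ≠ 0 := pow_ne_zero _ hpc
      apply mul_left_cancel₀ hpcc
      have h' := h
      rw [hn, hNN] at h'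
      push_cast at h'
      rw [h']; ring
    have : (n₂ : ℂ) - (N₂ : ℂ) = (u - 1) * (N₂ : ℂ) := by rw [e]; ring
    rw [this]
    exact memLocalIdeal_mul_right hMp hu (memLocalRing_natCast hMp _)
  rcases lt_trichotomy (n.factorization p) (N.factorization p) with hlt | heq | hgt
  · exfalso
    obtain ⟨n', hn'def⟩ : ∃ n' : ℕ, n' = ordCompl[p] n := ⟨_, rfl⟩
    have hnsplit : n = p ^ (n.factorization p) * n' := by
      rw [hn'def]; exact (Nat.ordProj_mul_ordCompl_eq_self n p).symm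
    have hn'p : ¬ p ∣ n' := by rw [hn'def]; exact Nat.not_dvd_ordCompl hpp hn0
    have hdvd : p ^ (n.factorization p + 1) ∣ N :=
      (pow_dvd_pow p hlt).trans (Nat.ordProj_dvd N p)
    obtain ⟨N₁, hN₁⟩ := hdvd
    have hNsplit : N = p ^ (n.factorization p) * (p * N₁) := by rw [hN₁]; ring
    have hk := key _ _ _ hnsplit hNsplit
    apply not_memLocalIdeal_natCast hM hn'p
    have h2 : MemLocalIdeal M ((p * N₁ : ℕ) : ℂ) := memLocalIdeal_natCast hM (dvd_mul_right p N₁)
    have := memLocalIdeal_add hMp hk h2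
    simpa using this
  · exact heq
  · exfalso
    obtain ⟨N', hN'def⟩ : ∃ N' : ℕ, N' = ordCompl[p] N := ⟨_, rfl⟩
    have hNsplit : N = p ^ (N.factorization p) * N' := by
      rw [hN'def]; exact (Nat.ordProj_mul_ordCompl_eq_self N p).symm
    have hN'p : ¬ p ∣ N' := by rw [hN'def]; exact Nat.not_dvd_ordCompl hpp hN
    have hdvd : p ^ (N.factorization p + 1) ∣ n :=
      (pow_dvd_pow p hgt).trans (Nat.ordProj_dvd n p)
    obtain ⟨n₁, hn₁⟩ := hdvd
    have hnsplit : n = p ^ (N.factorization p) * (p * n₁) := by rw [hn₁]; ring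
    have hk := key _ _ _ hnsplit hNsplit
    apply not_memLocalIdeal_natCast hM hN'p
    have h2 : MemLocalIdeal M ((p * n₁ : ℕ) : ℂ) := memLocalIdeal_natCast hM (dvd_mul_right p n₁)
    have := memLocalIdeal_sub hMp h2 hk
    simpa using this

/-- Arithmetic: `n = N * u` with `u ≡ 0`: zero or strictly larger `p`-part. -/
private theorem arith_zero {p : ℕ} [Fact p.Prime] {M : Ideal Cfsg.AlgInt}
    (hM : Cfsg.IsPModular p M) (n N : ℕ) (hN : N ≠ 0) (u : ℂ) (h : (n : ℂ) = (N : ℂ) * u)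
    (hu : MemLocalIdeal M u) : n = 0 ∨ N.factorization p < n.factorization p := by
  have hpp : p.Prime := Fact.out
  have hMp : M.IsPrime := hM.2.1.isPrime
  have hpc : (p : ℂ) ≠ 0 := Nat.cast_ne_zero.mpr hpp.ne_zero
  by_contra hcon
  push Not at hcon
  obtain ⟨hn0, hle⟩ := hcon
  obtain ⟨n', hn'def⟩ : ∃ n' : ℕ, n' = ordCompl[p] n := ⟨_, rfl⟩
  have hnsplit : n = p ^ (n.factorization p) * n' := by
    rw [hn'def]; exact (Nat.ordProj_mul_ordCompl_eq_self n p).symm
  have hn'p : ¬ p ∣ n' := by rw [hn'def]; exact Nat.not_dvd_ordCompl hpp hn0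
  have hdvd : p ^ (n.factorization p) ∣ N := (pow_dvd_pow p hle).trans (Nat.ordProj_dvd N p)
  obtain ⟨N₁, hN₁⟩ := hdvd
  have e : (n' : ℂ) = (N₁ : ℂ) * u := by
    have hpcc : ((p : ℂ) ^ (n.factorization p)) ≠ 0 := pow_ne_zero _ hpc
    apply mul_left_cancel₀ hpcc
    have h' := h
    rw [hN₁] at h'
    conv_lhs at h' => rw [hnsplit]
    push_cast at h'
    rw [h']; ring
  apply not_memLocalIdeal_natCast hM hn'p
  rw [e, mul_comm]
  exact memLocalIdeal_mul_right hMp hu (memLocalRing_natCast hMp _)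

/-- The degree of the `B`-part of `ξ^G` as the degree of `ξ^G` times the central character of `ξ`
at the truncated block idempotent of `B`. -/
private theorem part_eq {G : Type*} [Group G] [Fintype G] (H : Subgroup G) [Fintype H]
    (ξ : Cfsg.IrrCharacter H) (a : Cfsg.IrrCharacter G → ℕ)
    (ha : ∀ χ : Cfsg.IrrCharacter G,
      Cfsg.classInner (Cfsg.indFun H (ξ : H → ℂ)) (χ : G → ℂ) = (a χ : ℂ))
    (B : Set (Cfsg.IrrCharacter G)) [DecidablePred (· ∈ B)] :
    ((∑ χ : Cfsg.IrrCharacter G, if χ ∈ B then a χ * charDegree (χ : G → ℂ) else 0 : ℕ) : ℂ)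
      = ((H.index * charDegree (ξ : H → ℂ) : ℕ) : ℂ) * omega (ξ : H → ℂ) (resAlg H (blockIdem B)) := by
  classical
  have hcharG : IsCharacter G (Cfsg.indFun H (ξ : H → ℂ)) :=
    Cfsg.Agent.Lib.helper4.isCharacter_indFun H (isCharacter_of_isIrrCharacter ξ.2)
  have hcf : IsClassFunction G (Cfsg.indFun H (ξ : H → ℂ)) :=
    Cfsg.Agent.Lib.helper83.isClassFunction_of_isCharacter hcharG
  have hexp : ∀ g : G, Cfsg.indFun H (ξ : H → ℂ) g
      = ∑ χ : IrrCharacter G, (a χ : ℂ) * (χ : G → ℂ) g := by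
    intro g
    have h1 := Cfsg.Agent.Lib.helper83.classFunction_expansion' _ hcf g
    simp_rw [ha] at h1
    exact h1
  have hFc : ∀ x y : G, IsConj x y → (blockIdem B).coeff x = (blockIdem B).coeff y := by
    intro x y hxy
    obtain ⟨c, hc⟩ := isConj_iff.1 hxy
    rw [← hc]
    exact (((isCentralElt_iff _).1 (isCentralElt_blockIdem B)) x c).symm
  have hS2 := sum_indFun_mul H (ξ : H → ℂ) (fun g => (blockIdem B).coeff g) hFc
  have hS1 : ∑ g : G, Cfsg.indFun H (ξ : H → ℂ) g * (blockIdem B).coeff g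
      = ∑ χ : IrrCharacter G, (a χ : ℂ) * ((χ : G → ℂ) 1 * omega (χ : G → ℂ) (blockIdem B)) := by
    simp_rw [hexp, Finset.sum_mul]
    rw [Finset.sum_comm]
    apply Finset.sum_congr rfl
    intro χ _
    unfold omega
    rw [mul_div_cancel₀ _ (irr_one_ne_zero χ), Finset.mul_sum]
    apply Finset.sum_congr rfl
    intro g _
    ring
  have hcard : (Nat.card G : ℂ) = (H.index : ℂ) * (Nat.card H : ℂ) := by
    exact_mod_cast (Subgroup.index_mul_card H).symm
  have hH0 : (Nat.card H : ℂ) ≠ 0 := Nat.cast_ne_zero.mpr Nat.card_pos.ne'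
  have hom : omega (ξ : H → ℂ) (resAlg H (blockIdem B)) * (ξ : H → ℂ) 1
      = ∑ h : H, (ξ : H → ℂ) h * (blockIdem B).coeff (h : G) := by
    unfold omega
    rw [div_mul_cancel₀ _ (irr_one_ne_zero ξ)]
    apply Finset.sum_congr rfl
    intro h _
    rw [coeff_resAlg, mul_comm]
  have hlhs : ((∑ χ : Cfsg.IrrCharacter G, if χ ∈ B then a χ * charDegree (χ : G → ℂ) else 0 : ℕ) : ℂ)
      = ∑ χ : IrrCharacter G, (a χ : ℂ) * ((χ : G → ℂ) 1 * omega (χ : G → ℂ) (blockIdem B)) := by
    push_cast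
    apply Finset.sum_congr rfl
    intro χ _
    rw [omega_blockIdem, irr_one_eq_charDegree]
    split_ifs <;> simp
  rw [hlhs, ← hS1, hS2, ← hom, hcard]
  push_cast
  rw [irr_one_eq_charDegree]
  field_simp

/-- Let H be a subgroup of the finite group G, b a block of H whose induced block B₀ in G is defined (relative to a maximal ideal M of the algebraic integers containing p), and ξ ∈ b. For a block B of G let n_B be the value at 1 of the B-part of the induced character ξ^G (a natural number: the sum over χ ∈ B of the multiplicity of χ in ξ^G times χ(1)). Then for B = B₀ the exact power of p dividing n_B equals the exact power of p dividing ξ^G(1), while for every other block B either n_B = 0 or n_B is divisible by a strictly higher power of p than ξ^G(1). -/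
theorem result {G : Type*} [Group G] [Fintype G] (p : ℕ) [Fact p.Prime] (M : Ideal Cfsg.AlgInt) (hM : Cfsg.IsPModular p M) (H : Subgroup G) [Fintype H] (b : Set (Cfsg.IrrCharacter H)) (B₀ : Set (Cfsg.IrrCharacter G)) (hind : Cfsg.IsInducedBlock M H b B₀) (ξ : Cfsg.IrrCharacter H) (hξ : ξ ∈ b) : (∃ n : ℕ, Cfsg.blockPart B₀ (Cfsg.indFun H (ξ : H → ℂ)) 1 = (n : ℂ) ∧ n ≠ 0 ∧ n.factorization p = (Cfsg.charDegree (Cfsg.indFun H (ξ : H → ℂ))).factorization p) ∧ ∀ B : Set (Cfsg.IrrCharacter G), Cfsg.IsPBlock M B → B ≠ B₀ → ∃ n : ℕ, Cfsg.blockPart B (Cfsg.indFun H (ξ : H → ℂ)) 1 = (n : ℂ) ∧ (n = 0 ∨ (Cfsg.charDegree (Cfsg.indFun H (ξ : H → ℂ))).factorization p < n.factorization p) := by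
  classical
  have hpp : p.Prime := Fact.out
  have hMp : M.IsPrime := hM.2.1.isPrime
  obtain ⟨hb, hB₀, hcong⟩ := hind
  have hcharG : IsCharacter G (Cfsg.indFun H (ξ : H → ℂ)) :=
    Cfsg.Agent.Lib.helper4.isCharacter_indFun H (isCharacter_of_isIrrCharacter ξ.2)
  choose a ha using fun χ : IrrCharacter G =>
    Cfsg.Agent.Lib.helper4.exists_nat_classInner_irr hcharG χ.2
  -- the degree of the induced character
  obtain ⟨N, hNdef⟩ : ∃ N : ℕ, N = H.index * charDegree (ξ : H → ℂ) := ⟨_, rfl⟩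
  have hN0 : N ≠ 0 := by
    rw [hNdef]
    apply mul_ne_zero Subgroup.index_ne_zero_of_finite
    intro h
    apply irr_one_ne_zero ξ
    rw [irr_one_eq_charDegree, h]; simp
  have hdeg : Cfsg.charDegree (Cfsg.indFun H (ξ : H → ℂ)) = N := by
    have h1 : Cfsg.indFun H (ξ : H → ℂ) 1 = (N : ℂ) := by
      rw [Cfsg.Agent.Lib.helper4.indFun_one, irr_one_eq_charDegree, hNdef]
      push_cast; rfl
    unfold Cfsg.charDegree
    rw [h1]
    simp
  -- block parts as natural numbers
  have hpart : ∀ B : Set (Cfsg.IrrCharacter G),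
      Cfsg.blockPart B (Cfsg.indFun H (ξ : H → ℂ)) 1
        = ((∑ χ : Cfsg.IrrCharacter G, if χ ∈ B then a χ * charDegree (χ : G → ℂ) else 0 : ℕ) : ℂ) := by
    intro B
    unfold Cfsg.blockPart
    have hinst : Fintype.ofFinite G = ‹Fintype G› := Subsingleton.elim _ _
    rw [hinst]
    rw [finsum_mem_def, finsum_eq_sum_of_fintype]
    push_cast
    apply Finset.sum_congr rfl
    intro χ _
    rw [Set.indicator_apply]
    split_ifs
    · rw [ha χ, irr_one_eq_charDegree]
    · rfl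
  -- congruence for the truncated idempotents
  obtain ⟨χ', hχ'⟩ := isPBlock_nonempty hMp hB₀
  have hcongr : ∀ B : Set (Cfsg.IrrCharacter G), IsPBlock M B →
      MemLocalIdeal M (omega (ξ : H → ℂ) (resAlg H (blockIdem B))
        - omega (χ' : G → ℂ) (blockIdem B)) := by
    intro B hB
    exact memLocalIdeal_omega_resAlg_sub hMp H (ξ : H → ℂ) (χ' : G → ℂ) (irr_conjInv χ')
      (fun g => hcong ξ hξ χ' hχ' g) (blockIdem B) (isCentralElt_blockIdem B)
      (localCoeff_blockIdem hMp hB)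
  constructor
  · refine ⟨_, hpart B₀, ?_⟩
    rw [hdeg]
    have h1 := part_eq H ξ a ha B₀
    rw [← hNdef] at h1
    have h2 := hcongr B₀ hB₀
    rw [omega_blockIdem, if_pos hχ'] at h2
    exact arith_unit hM _ N hN0 _ h1 h2
  · intro B hB hne
    refine ⟨_, hpart B, ?_⟩
    rw [hdeg]
    have h1 := part_eq H ξ a ha B
    rw [← hNdef] at h1
    have h2 := hcongr B hB
    have hχ'B : χ' ∉ B := by
      intro hmem
      exact hne (isPBlock_eq_of_mem hMp hB hB₀ hmem hχ')
    rw [omega_blockIdem, if_neg hχ'B, sub_zero] at h2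
    exact arith_zero hM _ N hN0 _ h1 h2

end Cfsg.Agent.S4430
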