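import Mathlib
import Cfsg.Statements.S4431
import Cfsg.Agent.Lib.helper20.HtZeroRes2

set_option autoImplicit false
open Cfsg

namespace Cfsg.Agent.S4431

open Cfsg.Agent.Lib.helper20
open Cfsg.Agent.Lib.helper79 (cc)
open Cfsg.Agent.Lib.helper81 (irr_classFun irr_one_ne_zero irr_inv isPBlock_blockOf
  mem_blockOf_self isPBlock_eq_of_mem)
open scoped ComplexConjugate

/-- The quantity of the statement is a local unit times `cc p (χ|_H) ψ`. -/
private theorem key {G : Type*} [Group G] [Fintype G] (p : ℕ) [Fact p.Prime]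
    (H : Subgroup G) [Fintype H] (χ : Cfsg.IrrCharacter G) (ψ : Cfsg.IrrCharacter H) :
    ∃ h' : ℕ, h'.Coprime p ∧ h' ≠ 0 ∧
      Cfsg.classInner (fun h : H => if p ∣ orderOf h then (0 : ℂ)
        else ((p ^ (Nat.card H).factorization p : ℕ) : ℂ) * (χ : G → ℂ) h) (ψ : H → ℂ)
        / (ψ : H → ℂ) 1 * (h' : ℂ)
      = cc p (fun h : H => (χ : G → ℂ) h) (ψ : H → ℂ) := by
  classical
  have hpp : p.Prime := Fact.out
  have hpc : (p : ℂ) ≠ 0 := Nat.cast_ne_zero.mpr hpp.ne_zero
  have hH0 : Nat.card H ≠ 0 := Nat.card_pos.ne'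
  obtain ⟨h', hh'def⟩ : ∃ h' : ℕ, h' = ordCompl[p] (Nat.card H) := ⟨_, rfl⟩
  have hHsplit : p ^ ((Nat.card H).factorization p) * h' = Nat.card H := by
    rw [hh'def]; exact Nat.ordProj_mul_ordCompl_eq_self (Nat.card H) p
  have hh' : h'.Coprime p := by
    rw [hh'def]
    exact ((Nat.Prime.coprime_iff_not_dvd hpp).mpr (Nat.not_dvd_ordCompl hpp hH0)).symm
  have hh'0 : h' ≠ 0 := by
    rw [hh'def]; exact (Nat.ordCompl_pos p hH0).ne'
  refine ⟨h', hh', hh'0, ?_⟩
  have hh'c : (h' : ℂ) ≠ 0 := by exact_mod_cast hh'0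
  have hpa : ((p ^ (Nat.card H).factorization p : ℕ) : ℂ) ≠ 0 := by
    exact_mod_cast pow_ne_zero _ hpp.ne_zero
  have hcard : (Nat.card H : ℂ) = ((p ^ (Nat.card H).factorization p : ℕ) : ℂ) * (h' : ℂ) := by
    exact_mod_cast hHsplit.symm
  have hsum : ∑ h : H, (if p ∣ orderOf h then (0 : ℂ)
        else ((p ^ (Nat.card H).factorization p : ℕ) : ℂ) * (χ : G → ℂ) h) * conj ((ψ : H → ℂ) h)
      = ((p ^ (Nat.card H).factorization p : ℕ) : ℂ)
        * ∑ h : H, conj (pRegularPart p (fun h : H => (χ : G → ℂ) h) h) * (ψ : H → ℂ) h := by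
    rw [← Equiv.sum_comp (Equiv.inv H), Finset.mul_sum]
    apply Finset.sum_congr rfl
    intro h _
    simp only [Equiv.inv_apply, orderOf_inv]
    unfold pRegularPart IsPRegular
    by_cases hh : p ∣ orderOf h
    · simp [hh]
    · simp only [hh, if_false, not_false_eq_true, if_true]
      rw [irr_inv ψ h, Complex.conj_conj]
      have : (χ : G → ℂ) ((h⁻¹ : H) : G) = conj ((χ : G → ℂ) (h : G)) := by
        rw [Subgroup.coe_inv, irr_inv χ]
      rw [this]
      ring
  unfold classInner cc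
  rw [hsum, hcard]
  field_simp

/-- Let H be a subgroup of the finite group G and b a block of H whose induced block B₀ in G is defined (relative to a maximal ideal M of the algebraic integers containing p). Let χ be an irreducible character of G, ψ ∈ b, and let η be the class function on H equal to p^a · χ on the p-regular elements of H and zero elsewhere, p^a being the p-part of the order of H. Then (a) if χ ∉ B₀, the number [η, ψ]/ψ(1) lies in the local ideal at M; (b) if χ ∈ B₀ has height zero, it does not. -/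
theorem result {G : Type*} [Group G] [Fintype G] (p : ℕ) [Fact p.Prime] (M : Ideal Cfsg.AlgInt) (hM : Cfsg.IsPModular p M) (H : Subgroup G) [Fintype H] (b : Set (Cfsg.IrrCharacter H)) (B₀ : Set (Cfsg.IrrCharacter G)) (hind : Cfsg.IsInducedBlock M H b B₀) (χ : Cfsg.IrrCharacter G) (ψ : Cfsg.IrrCharacter H) (hψ : ψ ∈ b) : (χ ∉ B₀ → Cfsg.MemLocalIdeal M (Cfsg.classInner (fun h : H => if p ∣ orderOf h then (0 : ℂ) else ((p ^ (Nat.card H).factorization p : ℕ) : ℂ) * (χ : G → ℂ) h) (ψ : H → ℂ) / (ψ : H → ℂ) 1)) ∧ (χ ∈ B₀ → Cfsg.blockHeight p B₀ (χ : G → ℂ) = 0 → ¬ Cfsg.MemLocalIdeal M (Cfsg.classInner (fun h : H => if p ∣ orderOf h then (0 : ℂ) else ((p ^ (Nat.card H).factorization p : ℕ) : ℂ) * (χ : G → ℂ) h) (ψ : H → ℂ) / (ψ : H → ℂ) 1)) := by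
  classical
  have hMp : M.IsPrime := hM.2.1.isPrime
  have hB₀ : IsPBlock M B₀ := hind.2.1
  obtain ⟨h', hh', hh'0, hkey⟩ := key p H χ ψ
  have hh'c : (h' : ℂ) ≠ 0 := by exact_mod_cast hh'0
  constructor
  · intro hχ
    -- pick χ' ∈ B₀
    obtain ⟨χ', hχ'⟩ := Cfsg.Agent.Lib.helper81.isPBlock_nonempty hMp hB₀
    have h1 := memLocalIdeal_cc_res_sub p M hM H b B₀ hind χ ψ hψ χ' hχ'
    have hχ'not : χ' ∉ blockOf M (χ : G → ℂ) := by
      intro hmem
      apply hχ
      have := isPBlock_eq_of_mem hMp hB₀ (isPBlock_blockOf χ) hχ' hmem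
      rw [this]
      exact mem_blockOf_self hMp χ
    rw [cc_eq_zero_of_not_mem hM (isPBlock_blockOf χ) (mem_blockOf_self hMp χ) hχ'not,
      sub_zero] at h1
    have h2 : Cfsg.classInner (fun h : H => if p ∣ orderOf h then (0 : ℂ)
        else ((p ^ (Nat.card H).factorization p : ℕ) : ℂ) * (χ : G → ℂ) h) (ψ : H → ℂ)
        / (ψ : H → ℂ) 1
        = cc p (fun h : H => (χ : G → ℂ) h) (ψ : H → ℂ) * (h' : ℂ)⁻¹ := by
      rw [← hkey]; field_simp
    rw [h2]
    exact memLocalIdeal_mul_right hMp h1 (memLocalRing_inv_natCast hM hh')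
  · intro hχ h0 hcon
    have h1 := memLocalIdeal_cc_res_sub p M hM H b B₀ hind χ ψ hψ χ hχ
    have h2 : MemLocalIdeal M (cc p (fun h : H => (χ : G → ℂ) h) (ψ : H → ℂ)) := by
      rw [← hkey]
      exact memLocalIdeal_mul_right hMp hcon (memLocalRing_natCast hMp _)
    apply not_memLocalIdeal_cc_self hM hB₀ hχ h0
    have := memLocalIdeal_sub hMp h2 h1
    rwa [sub_sub_cancel] at this

end Cfsg.Agent.S4431
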