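import Mathlib
import Cfsg.Statements.S4434
import Cfsg.Agent.Lib.helper20.QuotBlock2

set_option autoImplicit false
open Cfsg

namespace Cfsg.Agent.S4434

open Cfsg.Agent.Lib.helper20 Cfsg.Agent.Lib

theorem map_conj_map {G : Type*} [Group G] (N : Subgroup G) [N.Normal] (D : Subgroup G) (y : G) :
    (D.map (MulAut.conj y).toMonoidHom).map (QuotientGroup.mk' N) =
      (D.map (QuotientGroup.mk' N)).map (MulAut.conj (QuotientGroup.mk' N y)).toMonoidHom := by
  rw [Subgroup.map_map, Subgroup.map_map]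
  congr 1

/-- Let N be a normal p-subgroup of the finite group G and write Ḡ = G/N; fix a maximal ideal M of the algebraic integers containing p. Then every block B of G contains a block B̄ of Ḡ (the inflation of every member of B̄ lies in B) whose defect groups are exactly the images in Ḡ of the defect groups of B. -/
theorem result {G : Type*} [Group G] [Finite G] (p : ℕ) [Fact p.Prime] (M : Ideal Cfsg.AlgInt) (hM : Cfsg.IsPModular p M) (N : Subgroup G) [N.Normal] (hN : IsPGroup p N) (B : Set (Cfsg.IrrCharacter G)) (hB : Cfsg.IsPBlock M B) : ∃ Bbar : Set (Cfsg.IrrCharacter (G ⧸ N)), Cfsg.IsPBlock M Bbar ∧ (∀ χ ∈ Bbar, ∀ ψ : Cfsg.IrrCharacter G, (ψ : G → ℂ) = (χ : G ⧸ N → ℂ) ∘ QuotientGroup.mk → ψ ∈ B) ∧ ∀ Dbar : Subgroup (G ⧸ N), Cfsg.IsDefectGroup p M Bbar Dbar ↔ ∃ P : Subgroup G, Cfsg.IsDefectGroup p M B P ∧ Dbar = P.map (QuotientGroup.mk' N) := by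
  have hMp := isPrime_of_isPModular hM
  cases nonempty_fintype G
  cases nonempty_fintype (G ⧸ N)
  obtain ⟨D, hD⟩ := helper80.exists_isDefectGroup p hMp hB
  obtain ⟨Bbar, hBbar, hsub, hDbar⟩ := exists_block_quotient hM N hN hB hD
  refine ⟨Bbar, hBbar, ?_, ?_⟩
  · intro χ hχ ψ hψ
    rw [inflIrr_eq_of_coe N χ ψ hψ]
    exact hsub hχ
  · intro Dbar
    constructor
    · intro h
      obtain ⟨ybar, hy⟩ := helper80.IsDefectGroup.exists_conj_eq hM hBbar hDbar h
      obtain ⟨y, rfl⟩ := QuotientGroup.mk'_surjective N ybar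
      refine ⟨D.map (MulAut.conj y).toMonoidHom, helper80.IsDefectGroup.conj hD y, ?_⟩
      rw [hy, map_conj_map]
    · rintro ⟨P, hP, rfl⟩
      obtain ⟨y, hy⟩ := helper80.IsDefectGroup.exists_conj_eq hM hB hD hP
      rw [hy, map_conj_map]
      exact helper80.IsDefectGroup.conj hDbar _

end Cfsg.Agent.S4434
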