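import Cfsg.Statements.S4437
import Cfsg.Agent.Lib.helper77.StabFong
import Cfsg.Agent.Lib.helper80.FMT2
import Cfsg.Agent.Lib.helper80.InducedBr
import Cfsg.Agent.Lib.helper80.FMTOver
import Cfsg.Agent.Lib.helper80.Cover2

set_option autoImplicit false
open Cfsg

namespace Cfsg.Agent.S4437

open Cfsg.Agent.Lib in
/-- Transitivity of the Brauer functional: for `C_G(P) ≤ H ≤ L ≤ N_G(P)` with `H` normal in `L`,
`ξ ∈ Irr(L)` lying over `θ ∈ Irr(H)` and a class function `z` of `G`, the central character of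
`ξ` on the Brauer image of `z` in `L` is that of `θ` on the Brauer image of `z` in `H`. -/
theorem om_brH_of_over {G : Type*} [Group G] [Fintype G] (P H L : Subgroup G) [Fintype H]
    [Fintype L] (hHL : H ≤ L) (hCH : Subgroup.centralizer (P : Set G) ≤ H)
    (hLN : L ≤ Subgroup.normalizer (P : Set G)) [hn : (H.subgroupOf L).Normal]
    [Fintype (H.subgroupOf L)] (ξ : Cfsg.IrrCharacter L) (θ : Cfsg.IrrCharacter H)
    (h : Cfsg.classInner (fun n : H.subgroupOf L => (ξ : L → ℂ) n)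
      (helper80.irrMap (Subgroup.subgroupOfEquivOfLe hHL).symm θ : H.subgroupOf L → ℂ) ≠ 0)
    (z : G → ℂ) (hz : Cfsg.IsClassFunction G z) :
    helper80.om (ξ : L → ℂ) (helper80.brH P L z) = helper80.om (θ : H → ℂ) (helper80.brH P H z) := by
  classical
  obtain ⟨a, ha⟩ : ∃ a : H.subgroupOf L → ℂ,
      a = fun n => helper80.brH P H z (Subgroup.subgroupOfEquivOfLe hHL n) := ⟨_, rfl⟩
  have ha' : ∀ n : H.subgroupOf L,
      a n = helper80.brH P H z (Subgroup.subgroupOfEquivOfLe hHL n) := fun n => by rw [ha]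
  have h1 : ∀ l : L, helper80.brH P L z l = helper80.extFun (H.subgroupOf L) a l := by
    intro l
    by_cases hl : l ∈ H.subgroupOf L
    · rw [helper80.extFun_of_mem _ _ hl, ha']
      by_cases hc : (l : G) ∈ Subgroup.centralizer (P : Set G)
      · rw [helper80.brH_of_mem P L z hc, helper80.brH_of_mem P H z (by exact hc)]
        rfl
      · rw [helper80.brH_of_not_mem P L z hc, helper80.brH_of_not_mem P H z (by exact hc)]
    · rw [helper80.extFun_of_not_mem _ _ hl]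
      apply helper80.brH_of_not_mem
      intro hc
      exact hl (Subgroup.mem_subgroupOf.mpr (hCH hc))
  have hinv : ∀ (g : L) (n : H.subgroupOf L),
      a ⟨g * n * g⁻¹, hn.conj_mem n n.2 g⟩ = a n := by
    intro g n
    rw [ha', ha']
    have hiff := helper80.conj_mem_centralizer_iff_of_mem_normalizer P (hLN g.2) ((n : L) : G)
    by_cases hc : ((n : L) : G) ∈ Subgroup.centralizer (P : Set G)
    · rw [helper80.brH_of_mem P H z (by exact hiff.mpr hc), helper80.brH_of_mem P H z (by exact hc)]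
      exact hz ((n : L) : G) (g : G)
    · rw [helper80.brH_of_not_mem P H z (by exact fun h' => hc (hiff.mp h')),
        helper80.brH_of_not_mem P H z (by exact hc)]
  rw [helper80.om_congr _ h1, helper77.om_extFun_of_constituent (H.subgroupOf L) h a hinv]
  unfold helper80.om
  have h2 : (helper80.irrMap (Subgroup.subgroupOfEquivOfLe hHL).symm θ : H.subgroupOf L → ℂ) 1
      = (θ : H → ℂ) 1 := by
    rw [helper80.irrMap_apply, map_one]
  rw [h2]
  congr 1
  apply Fintype.sum_equiv (Subgroup.subgroupOfEquivOfLe hHL).toEquiv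
  intro n
  rw [ha']
  rfl

/-- Let P be a p-subgroup of the finite group G, H = P·C_G(P), and b a block of H (relative to a maximal ideal M of the algebraic integers containing p) having P as a defect group; let B be the block of G induced by b. Let T be the stabilizer of b in N_G(P): the elements g of N_G(P) such that the g-conjugate of every member of b is again a member of b. Then B has defect group P if and only if p does not divide the index of H in T. -/
theorem result {G : Type*} [Group G] [Fintype G] (p : ℕ) [Fact p.Prime] (M : Ideal Cfsg.AlgInt) (hM : Cfsg.IsPModular p M) (P : Subgroup G) (hP : IsPGroup p P) (H : Subgroup G) [Fintype H] (hH : H = P ⊔ Subgroup.centralizer (P : Set G)) (b : Set (Cfsg.IrrCharacter H)) (hb : Cfsg.IsPBlock M b) (hbP : Cfsg.IsDefectGroup p M b (P.subgroupOf H)) (B : Set (Cfsg.IrrCharacter G)) (hind : Cfsg.IsInducedBlock M H b B) (T : Subgroup G) (hT : ∀ g : G, g ∈ T ↔ (g ∈ Subgroup.normalizer (P : Set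 G) ∧ ∀ θ ∈ b, ∀ θ' : Cfsg.IrrCharacter H, (∀ h h' : H, (h' : G) = g * h * g⁻¹ → (θ' : H → ℂ) h' = (θ : H → ℂ) h) → θ' ∈ b)) : Cfsg.IsDefectGroup p M B P ↔ ¬ p ∣ H.relIndex T := by
  classical
  have hMp : M.IsPrime := Cfsg.Agent.Lib.helper20.isPrime_of_isPModular hM
  have hpp : p.Prime := Fact.out
  have hB : Cfsg.IsPBlock M B := hind.2.1
  have hPH : P ≤ H := by rw [hH]; exact le_sup_left
  have hCH : Subgroup.centralizer (P : Set G) ≤ H := by rw [hH]; exact le_sup_right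
  obtain ⟨L, hL⟩ : ∃ L : Subgroup G, L = Subgroup.normalizer (P : Set G) := ⟨_, rfl⟩
  have hLN : L ≤ Subgroup.normalizer (P : Set G) := hL.le
  have hNL : Subgroup.normalizer (P : Set G) ≤ L := hL.ge
  have hHN : H ≤ Subgroup.normalizer (P : Set G) := by
    rw [hH]
    exact sup_le Subgroup.le_normalizer (Subgroup.centralizer_le_normalizer _)
  have hHL : H ≤ L := hHN.trans hNL
  have hPL : P ≤ L := hPH.trans hHL
  have : Fintype L := Fintype.ofFinite _
  have hTL : T ≤ L := fun g hg => hNL ((hT g).mp hg).1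
  have hHLn : (H.subgroupOf L).Normal := by
    rw [Subgroup.normal_subgroupOf_iff_le_normalizer hHL]
    intro l hl
    have h1 := Cfsg.Agent.Lib.helper80.mem_normalizer_sup_centralizer P (hLN hl)
    rwa [← hH] at h1
  have : Fintype (H.subgroupOf L) := Fintype.ofFinite _
  have : Fintype (T.subgroupOf L) := Fintype.ofFinite _
  have hPLn : (P.subgroupOf L).Normal :=
    (Subgroup.normal_subgroupOf_iff_le_normalizer hPL).mpr hLN
  -- transport of `b` to `H.subgroupOf L`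
  obtain ⟨e, he⟩ : ∃ e : H ≃* H.subgroupOf L, e = (Subgroup.subgroupOfEquivOfLe hHL).symm :=
    ⟨_, rfl⟩
  have hecoe : ∀ h : H, ((e h : L) : G) = (h : G) := by
    intro h
    rw [he]
    rfl
  have hesymm : ∀ k : H.subgroupOf L, ((e.symm k : H) : G) = ((k : L) : G) := by
    intro k
    rw [he]
    rfl
  obtain ⟨bL, hbL⟩ : ∃ bL : Set (Cfsg.IrrCharacter (H.subgroupOf L)),
      bL = Cfsg.Agent.Lib.helper80.blockMap e b := ⟨_, rfl⟩
  have hbLblk : Cfsg.IsPBlock M bL := by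
    rw [hbL]
    exact Cfsg.Agent.Lib.helper80.isPBlock_blockMap e hb
  have hmemL : ∀ θ : Cfsg.IrrCharacter H, Cfsg.Agent.Lib.helper80.irrMap e θ ∈ bL ↔ θ ∈ b := by
    intro θ
    rw [hbL]
    exact Cfsg.Agent.Lib.helper80.irrMap_mem_blockMap e b θ
  have hsurj : ∀ θL : Cfsg.IrrCharacter (H.subgroupOf L), ∃ θ : Cfsg.IrrCharacter H,
      Cfsg.Agent.Lib.helper80.irrMap e θ = θL :=
    fun θL => ⟨_, Cfsg.Agent.Lib.helper80.irrMap_irrMap_symm e θL⟩
  -- conjugate characters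
  have hrel : ∀ (g : L) (θ : Cfsg.IrrCharacter H) (h h' : H),
      (h' : G) = (g : G) * h * (g : G)⁻¹ →
      (Cfsg.Agent.Lib.helper80.irrMap e.symm (Cfsg.Agent.Lib.helper77.cjIrr (H.subgroupOf L) g
        (Cfsg.Agent.Lib.helper80.irrMap e θ)) : H → ℂ) h' = (θ : H → ℂ) h := by
    intro g θ h h' hh
    rw [Cfsg.Agent.Lib.helper80.irrMap_apply, Cfsg.Agent.Lib.helper77.cjIrr_coe,
      Cfsg.Agent.Lib.helper82.cconj_apply, Cfsg.Agent.Lib.helper80.irrMap_apply]
    refine congrArg _ (Subtype.ext ?_)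
    rw [hesymm]
    show (g : G)⁻¹ * (((e.symm.symm h' : H.subgroupOf L) : L) : G) * (g : G) = (h : G)
    rw [MulEquiv.symm_symm, hecoe, hh]
    group
  have huniq : ∀ (g : L) (θ θ'' : Cfsg.IrrCharacter H),
      (∀ h h' : H, (h' : G) = (g : G) * h * (g : G)⁻¹ → (θ'' : H → ℂ) h' = (θ : H → ℂ) h) →
      θ'' = Cfsg.Agent.Lib.helper80.irrMap e.symm
        (Cfsg.Agent.Lib.helper77.cjIrr (H.subgroupOf L) g (Cfsg.Agent.Lib.helper80.irrMap e θ)) := by
    intro g θ θ'' hrel''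
    apply Subtype.ext
    funext h'
    have hmem : (g : G)⁻¹ * (h' : G) * (g : G) ∈ H := by
      have h1 := hHLn.conj_mem (e h') (e h').2 g⁻¹
      rw [Subgroup.mem_subgroupOf] at h1
      have h2 : (((g⁻¹ * (e h' : L) * g⁻¹⁻¹ : L)) : G) = (g : G)⁻¹ * (h' : G) * (g : G) := by
        rw [inv_inv, Subgroup.coe_mul, Subgroup.coe_mul, Subgroup.coe_inv, hecoe]
      rwa [h2] at h1
    have hc : (h' : G) = (g : G) * ((⟨_, hmem⟩ : H) : G) * (g : G)⁻¹ := by
      show (h' : G) = (g : G) * ((g : G)⁻¹ * (h' : G) * (g : G)) * (g : G)⁻¹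
      group
    rw [hrel'' ⟨_, hmem⟩ h' hc, hrel g θ ⟨_, hmem⟩ h' hc]
  -- the stabilizer
  have hTs : ∀ t ∈ T.subgroupOf L, ∀ θL ∈ bL,
      Cfsg.Agent.Lib.helper77.cjIrr (H.subgroupOf L) t θL ∈ bL := by
    intro t ht θL hθL
    obtain ⟨θ, rfl⟩ := hsurj θL
    have hθ : θ ∈ b := (hmemL θ).mp hθL
    have h1 := ((hT (t : G)).mp (Subgroup.mem_subgroupOf.mp ht)).2 θ hθ _ (hrel t θ)
    rw [hbL, Cfsg.Agent.Lib.helper80.mem_blockMap]
    exact h1
  have hTc : ∀ g : L, ∀ θL ∈ bL,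
      Cfsg.Agent.Lib.helper77.cjIrr (H.subgroupOf L) g θL ∈ bL → g ∈ T.subgroupOf L := by
    intro g θL hθL hg
    rw [Subgroup.mem_subgroupOf, hT]
    refine ⟨hLN g.2, ?_⟩
    intro θ hθ θ'' hrel''
    rw [huniq g θ θ'' hrel'']
    have h1 : Cfsg.Agent.Lib.helper77.cjIrr (H.subgroupOf L) g
        (Cfsg.Agent.Lib.helper80.irrMap e θ) ∈ bL := by
      have hs := Cfsg.Agent.Lib.helper80.sameBlock_of_mem hMp hbLblk hθL ((hmemL θ).mpr hθ)
      exact Cfsg.Agent.Lib.helper81.mem_of_sameBlock hMp hbLblk hg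
        (Cfsg.Agent.Lib.helper77.sameBlock_cjIrr (H.subgroupOf L) g hs)
    rw [hbL, Cfsg.Agent.Lib.helper80.mem_blockMap] at h1
    exact h1
  have hNT : H.subgroupOf L ≤ T.subgroupOf L := by
    intro k hk
    obtain ⟨θ₀, hθ₀⟩ := Cfsg.Agent.Lib.helper80.isPBlock_nonempty hMp hbLblk
    apply hTc k θ₀ hθ₀
    have h1 : Cfsg.Agent.Lib.helper77.cjIrr (H.subgroupOf L) k θ₀ = θ₀ :=
      Subtype.ext (Cfsg.Agent.Lib.helper82.cconj_of_mem (H.subgroupOf L)
        (Cfsg.Agent.Lib.helper4.isClassFunction_of_isIrrCharacter θ₀.2) hk)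
    rw [h1]
    exact hθ₀
  -- defect group of the transported block
  have hDL : Cfsg.IsDefectGroup p M bL ((P.subgroupOf H).map e.toMonoidHom) := by
    rw [hbL]
    exact Cfsg.Agent.Lib.helper80.isDefectGroup_blockMap e hbP
  have hCL : Subgroup.centralizer
      ((((P.subgroupOf H).map e.toMonoidHom).map (H.subgroupOf L).subtype : Subgroup L) : Set L)
        ≤ H.subgroupOf L := by
    intro l hl
    rw [Subgroup.mem_subgroupOf]
    apply hCH
    rw [Subgroup.mem_centralizer_iff]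
    intro x hx
    have h3 := (Subgroup.mem_centralizer_iff.mp hl)
      ((H.subgroupOf L).subtype (e ⟨x, hPH hx⟩))
      ⟨e ⟨x, hPH hx⟩, ⟨⟨x, hPH hx⟩, Subgroup.mem_subgroupOf.mpr hx, rfl⟩, rfl⟩
    have h4 := congrArg (fun y : L => (y : G)) h3
    simp only [Subgroup.coe_mul, Subgroup.coe_subtype] at h4
    rw [hecoe] at h4
    exact h4
  have hcardP : Nat.card ((P.subgroupOf H).map e.toMonoidHom) = Nat.card P := by
    rw [Subgroup.card_map_of_injective e.injective]
    exact Nat.card_congr (Subgroup.subgroupOfEquivOfLe hPH).toEquiv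
  have hdbL : p ^ Cfsg.blockDefect p bL = Nat.card P := by
    rw [← Cfsg.Agent.Lib.helper79.card_eq_of_isDefectGroup hM hbLblk hDL, hcardP]
  have hcardPL : Nat.card (P.subgroupOf L) = Nat.card P :=
    Nat.card_congr (Subgroup.subgroupOfEquivOfLe hPL).toEquiv
  -- Brauer correspondence for `b` and `B`
  have hbr := (Cfsg.Agent.Lib.helper80.isInducedBlock_iff_brInd hM P H hP hPH hCH hHN hb hB).mp hind
  -- a block of `L` covering `b`
  obtain ⟨θ₀, hθ₀⟩ := Cfsg.Agent.Lib.helper80.isPBlock_nonempty hMp hb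
  obtain ⟨ξ, hξ⟩ := Cfsg.Agent.Lib.helper77.exists_irr_over (H.subgroupOf L)
    (Cfsg.Agent.Lib.helper80.irrMap e θ₀)
  obtain ⟨c, hc⟩ : ∃ c : Set (Cfsg.IrrCharacter L), c = Cfsg.blockOf M (ξ : L → ℂ) := ⟨_, rfl⟩
  have hcblk : Cfsg.IsPBlock M c := by
    rw [hc]
    exact Cfsg.Agent.Lib.helper80.isPBlock_blockOf M ξ
  have hξc : ξ ∈ c := by
    rw [hc]
    exact Cfsg.Agent.Lib.helper80.mem_blockOf_self hMp ξ
  have hcov : ∃ χ ∈ c, ∃ θ ∈ bL, Cfsg.classInner (fun n : H.subgroupOf L => (χ : L → ℂ) n)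
      (θ : H.subgroupOf L → ℂ) ≠ 0 := ⟨ξ, hξc, _, (hmemL θ₀).mpr hθ₀, hξ⟩
  have hbrξ : ∀ χ ∈ B, Cfsg.Agent.Lib.helper80.BrInd M P L (ξ : L → ℂ) (χ : G → ℂ) := by
    intro χ hχ z hz
    have h1 := hbr θ₀ hθ₀ χ hχ z hz
    rw [om_brH_of_over P H L hHL hCH hLN ξ θ₀ (by rw [← he]; exact hξ) z hz.1]
    exact h1
  have hkey := Cfsg.Agent.Lib.helper77.blockDefect_cover_stab (H.subgroupOf L) (T.subgroupOf L)
    hM hNT hbLblk hTs hTc hDL hCL hcblk hcov
  rw [Subgroup.relIndex_subgroupOf hTL] at hkey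
  have hPLp : IsPGroup p (P.subgroupOf L) := hP.comap_subtype
  constructor
  · intro hDB
    obtain ⟨c₀, hc₀, hDc₀, -, hbr₀, -⟩ := Cfsg.Agent.Lib.helper80.fmt_down hM P L hP hLN hNL hB hDB
    obtain ⟨ξ₀, hξ₀⟩ := Cfsg.Agent.Lib.helper80.isPBlock_nonempty hMp hc₀
    obtain ⟨χ, hχ⟩ := Cfsg.Agent.Lib.helper80.isPBlock_nonempty hMp hB
    have hξc₀ : ξ ∈ c₀ := Cfsg.Agent.Lib.helper80.BrInd.mem_of_defect hM P L hP hLN hNL hc₀ hDc₀
      hξ₀ (hbr₀ ξ₀ hξ₀ χ hχ) (hbrξ χ hχ)
    have hceq : c = c₀ := Cfsg.Agent.Lib.helper80.isPBlock_eq_of_mem hMp hcblk hc₀ hξc hξc₀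
    rw [← hceq] at hDc₀
    have h1 := Cfsg.Agent.Lib.helper79.card_eq_of_isDefectGroup hM hcblk hDc₀
    rw [hcardPL, ← hdbL] at h1
    have h2 : Cfsg.blockDefect p bL = Cfsg.blockDefect p c := Nat.pow_right_injective hpp.two_le h1
    rw [← h2] at hkey
    have h3 : (H.relIndex T).factorization p = 0 := by omega
    intro hdvd
    have hne : H.relIndex T ≠ 0 := Subgroup.index_ne_zero_of_finite
    rcases (Nat.factorization_eq_zero_iff _ _).mp h3 with h4 | h4 | h4
    · exact h4 hpp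
    · exact h4 hdvd
    · exact hne h4
  · intro hnd
    have hfz : (H.relIndex T).factorization p = 0 := Nat.factorization_eq_zero_of_not_dvd hnd
    rw [hfz, add_zero] at hkey
    obtain ⟨Dc, hDc⟩ := Cfsg.Agent.Lib.helper80.exists_isDefectGroup p hMp hcblk
    have hle : P.subgroupOf L ≤ Dc :=
      Cfsg.Agent.Lib.helper80.normal_le_defectGroup hM (P.subgroupOf L) hPLp hcblk hDc
    have hcardDc : Nat.card Dc = Nat.card (P.subgroupOf L) := by
      rw [Cfsg.Agent.Lib.helper79.card_eq_of_isDefectGroup hM hcblk hDc, hkey, hdbL, hcardPL]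
    have hDceq : P.subgroupOf L = Dc := Subgroup.eq_of_le_of_card_ge hle hcardDc.le
    rw [← hDceq] at hDc
    obtain ⟨χ, hχ⟩ := Cfsg.Agent.Lib.helper80.isPBlock_nonempty hMp hB
    exact Cfsg.Agent.Lib.helper80.BrInd.isDefectGroup_of hM P L hP hLN hNL hcblk hDc hξc
      (hbrξ χ hχ) hB hχ

end Cfsg.Agent.S4437
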