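import Cfsg.Statements.S4444
import Cfsg.Agent.Lib.helper82.GlaubSub

set_option autoImplicit false
open Cfsg

namespace Cfsg.Agent.S4444

/-- The Glauberman correspondence for a p-group of operators. Inside a finite group Γ let S normalise G with the orders of G and S coprime, S a p-group, and let C = G ⊓ C(S) be the fixed points. Call an irreducible character χ of G S-invariant when χ(s g s⁻¹) = χ(g) for s ∈ S, g ∈ G. Then: (i) for every S-invariant χ there is exactly one irreducible character β of C whose multiplicity [χ_C, β] in the restriction of χ is not divisible by p; (ii) that multiplicity is ≡ 1 or ≡ −1 (mod p); (iii) distinct S-invariant χ give distinct β; (iv) every irreducible character of C arises in this way. So χ ↦ β is a bijection from the S-invariant irreducible characters of G onto the irreducible characters of C. -/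
theorem result {Γ : Type*} [Group Γ] [Fintype Γ] (G S : Subgroup Γ) [Fintype G] (hnorm : ∀ s ∈ S, ∀ g ∈ G, s * g * s⁻¹ ∈ G) (hcop : (Nat.card G).Coprime (Nat.card S)) (p : ℕ) (hp : p.Prime) (hS : IsPGroup p S) (C : Subgroup Γ) [Fintype C] (hC : C = G ⊓ Subgroup.centralizer (S : Set Γ)) (hCG : C ≤ G) : (∀ χ : Cfsg.IrrCharacter G, (∀ s ∈ S, ∀ g g' : G, (g' : Γ) = s * g * s⁻¹ → (χ : G → ℂ) g' = (χ : G → ℂ) g) → ∃! β : Cfsg.IrrCharacter C, ∃ m : ℕ, Cfsg.classInner (fun c : C => (χ : G → ℂ) ⟨c, hCG c.2⟩) (β : C → ℂ) = (m : ℂ) ∧ ¬ p ∣ m) ∧ (∀ χ : Cfsg.IrrCharacter G, (∀ s ∈ S, ∀ g g' : G, (g' : Γ) = s * g * s⁻¹ → (χ : G → ℂ) g' = (χ : G → ℂ) g) → ∀ β : Cfsg.IrrCharacter C, ∀ m : ℕ, Cfsg.classInner (fun c : C => (χ : G → ℂ) ⟨c, hCG c.2⟩) (β : C → ℂ) = (m : ℂ) → ¬ p ∣ m → ((m : ℤ) ≡ 1 [ZMOD p] ∨ (m : ℤ) ≡ -1 [ZMOD p])) ∧ (∀ χ χ' : Cfsg.IrrCharacter G,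 (∀ s ∈ S, ∀ g g' : G, (g' : Γ) = s * g * s⁻¹ → (χ : G → ℂ) g' = (χ : G → ℂ) g) → (∀ s ∈ S, ∀ g g' : G, (g' : Γ) = s * g * s⁻¹ → (χ' : G → ℂ) g' = (χ' : G → ℂ) g) → ∀ β : Cfsg.IrrCharacter C, ∀ m m' : ℕ, Cfsg.classInner (fun c : C => (χ : G → ℂ) ⟨c, hCG c.2⟩) (β : C → ℂ) = (m : ℂ) → ¬ p ∣ m → Cfsg.classInner (fun c : C => (χ' : G → ℂ) ⟨c, hCG c.2⟩) (β : C → ℂ) = (m' : ℂ) → ¬ p ∣ m' → χ = χ') ∧ (∀ β : Cfsg.IrrCharacter C, ∃ χ : Cfsg.IrrCharacter G, (∀ s ∈ S, ∀ g g' : G, (g' : Γ) = s * g * s⁻¹ → (χ : G → ℂ) g' = (χ : G → ℂ) g) ∧ ∃ m : ℕ, Cfsg.classInner (fun c : C => (χ : G → ℂ) ⟨c, hCG c.2⟩) (β : C → ℂ) = (m : ℂ) ∧ ¬ p ∣ m) := by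
  classical
  have : Fact p.Prime := ⟨hp⟩
  have hcorr := Cfsg.Agent.Lib.helper82.gcorr_internal G S hnorm hcop p hS C hC hCG
  have hinv_iff := Cfsg.Agent.Lib.helper82.isInvFun_conj_iff G S hnorm
  have hnat : ∀ (χ : Cfsg.IrrCharacter G) (β : Cfsg.IrrCharacter C), ∃ m : ℕ,
      Cfsg.classInner (fun c : C => (χ : G → ℂ) ⟨c, hCG c.2⟩) (β : C → ℂ) = (m : ℂ) := fun χ β =>
    Cfsg.Agent.Lib.helper4.exists_nat_classInner_irr
      (Cfsg.Agent.Lib.helper4.isCharacter_comp (Subgroup.inclusion hCG)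
        (Cfsg.Agent.Lib.helper4.isCharacter_of_isIrrCharacter χ.2)) β.2
  have hgrel : ∀ (χ : Cfsg.IrrCharacter G) (β : Cfsg.IrrCharacter C) (m : ℕ),
      Cfsg.classInner (fun c : C => (χ : G → ℂ) ⟨c, hCG c.2⟩) (β : C → ℂ) = (m : ℂ) →
      (Cfsg.Agent.Lib.helper82.GRel p (Subgroup.inclusion hCG) (χ : G → ℂ) (β : C → ℂ) ↔
        ¬ p ∣ m) := fun χ β m hm =>
    Cfsg.Agent.Lib.helper82.grel_iff_nat p (Subgroup.inclusion hCG) (χ : G → ℂ) (β : C → ℂ) m hm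
  refine ⟨?_, ?_, ?_, ?_⟩
  · intro χ hχ
    obtain ⟨β, hβ⟩ := hcorr.1 χ ((hinv_iff _).mpr hχ)
    obtain ⟨m, hm⟩ := hnat χ β
    refine ⟨β, ⟨m, hm, (hgrel χ β m hm).mp hβ.grel⟩, ?_⟩
    rintro β₂ ⟨m₂, hm₂, hpm₂⟩
    exact hβ.unique ((hgrel χ β₂ m₂ hm₂).mpr hpm₂)
  · intro χ hχ β m hm hpm
    obtain ⟨β₀, hβ₀⟩ := hcorr.1 χ ((hinv_iff _).mpr hχ)
    have e : β = β₀ := hβ₀.unique ((hgrel χ β m hm).mpr hpm)
    obtain ⟨ε, hε, hall⟩ := hβ₀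
    obtain ⟨k, hk⟩ := hall β
    rw [if_pos e] at hk
    have hk' : Cfsg.classInner (fun c : C => (χ : G → ℂ) ⟨c, hCG c.2⟩) (β : C → ℂ) =
        (((p : ℤ) * k + ε : ℤ) : ℂ) := hk
    rw [hm] at hk'
    have h1 : (m : ℤ) = (p : ℤ) * k + ε := by exact_mod_cast hk'
    rcases hε with rfl | rfl
    · left
      rw [Int.modEq_iff_dvd]
      exact ⟨-k, by rw [h1]; ring⟩
    · right
      rw [Int.modEq_iff_dvd]
      exact ⟨-k, by rw [h1]; ring⟩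
  · intro χ χ' hχ hχ' β m m' hm hpm hm' hpm'
    exact hcorr.2.1 χ χ' ((hinv_iff _).mpr hχ) ((hinv_iff _).mpr hχ') β
      ((hgrel χ β m hm).mpr hpm) ((hgrel χ' β m' hm').mpr hpm')
  · intro β
    obtain ⟨χ, hχ, hrel⟩ := hcorr.2.2 β
    obtain ⟨m, hm⟩ := hnat χ β
    exact ⟨χ, (hinv_iff _).mp hχ, m, hm, (hgrel χ β m hm).mp hrel⟩

end Cfsg.Agent.S4444
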