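import Cfsg.Statements.S4446
import Mathlib
import Cfsg.Agent.Lib.helper19.GlaubCount

set_option autoImplicit false
open Cfsg

namespace Cfsg.Agent.S4446

/-- Let the finite group Γ be generated by a normal subgroup G and a cyclic subgroup S of coprime orders, C = G ⊓ C(S), and let χ be an S-invariant irreducible character of G with canonical extension χ̂ to Γ (the extension whose determinantal order is coprime to the order of S). Then there are exactly one irreducible character β of C and one sign ε such that χ̂(c s) = ε β(c) for every c ∈ C and every generator s of S; this β is a constituent of the restriction of χ to C; distinct S-invariant χ give distinct β; and every irreducible character of C arises in this way. -/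
theorem result {Γ : Type*} [Group Γ] [Fintype Γ] (G S : Subgroup Γ) [Fintype G] (hnorm : ∀ s ∈ S, ∀ g ∈ G, s * g * s⁻¹ ∈ G) (hcop : (Nat.card G).Coprime (Nat.card S)) (htop : G ⊔ S = ⊤) (hcyc : IsCyclic S) (C : Subgroup Γ) [Fintype C] (hC : C = G ⊓ Subgroup.centralizer (S : Set Γ)) (hCG : C ≤ G) : (∀ (χ : Cfsg.IrrCharacter G) (χh : Cfsg.IrrCharacter Γ), (∀ s ∈ S, ∀ g g' : G, (g' : Γ) = s * g * s⁻¹ → (χ : G → ℂ) g' = (χ : G → ℂ) g) → (∀ g : G, (χh : Γ → ℂ) g = (χ : G → ℂ) g) → (Cfsg.detOrder (χh : Γ → ℂ)).Coprime (Nat.card S) → (∃! βε : Cfsg.IrrCharacter C × ℤ, (βε.2 = 1 ∨ βε.2 = -1) ∧ ∀ c : C, ∀ s : Γ, Subgroup.zpowers s = S → (χh : Γ → ℂ) ((c : Γ) * s) = (βε.2 : ℂ) * (βε.1 : C → ℂ) c) ∧ ∀ β : Cfsg.IrrCharacter C, ∀ ε : ℤ, (ε = 1 ∨ ε = -1) → (∀ c : C, ∀ s : Γ, Subgroup.zpowers s = S → (χh : Γ → ℂ) ((c : Γ) * s) = (ε : ℂ) * (β : C → ℂ) c) → Cfsg.classInner (fun c : C => (χ : G → ℂ) ⟨c,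 hCG c.2⟩) (β : C → ℂ) ≠ 0) ∧ (∀ (χ χ' : Cfsg.IrrCharacter G) (χh χh' : Cfsg.IrrCharacter Γ), (∀ s ∈ S, ∀ g g' : G, (g' : Γ) = s * g * s⁻¹ → (χ : G → ℂ) g' = (χ : G → ℂ) g) → (∀ s ∈ S, ∀ g g' : G, (g' : Γ) = s * g * s⁻¹ → (χ' : G → ℂ) g' = (χ' : G → ℂ) g) → (∀ g : G, (χh : Γ → ℂ) g = (χ : G → ℂ) g) → (∀ g : G, (χh' : Γ → ℂ) g = (χ' : G → ℂ) g) → (Cfsg.detOrder (χh : Γ → ℂ)).Coprime (Nat.card S) → (Cfsg.detOrder (χh' : Γ → ℂ)).Coprime (Nat.card S) → ∀ β : Cfsg.IrrCharacter C, ∀ ε ε' : ℤ, (ε = 1 ∨ ε = -1) → (ε' = 1 ∨ ε' = -1) → (∀ c : C, ∀ s : Γ, Subgroup.zpowers s = S → (χh : Γ → ℂ) ((c : Γ) * s) = (ε : ℂ) * (β : C → ℂ) c) → (∀ c : C, ∀ s : Γ, Subgroup.zpowers s = S → (χh' : Γ → ℂ) ((c : Γ) * s) = (ε' : ℂ) * (β : C → ℂ) c) → χ = χ') ∧ (∀ β : Cfsg.IrrCharacter C, ∃ (χ : Cfsg.IrrCharacter G) (χh : Cfsg.IrrCharacter Γ) (ε : ℤ), (∀ s ∈ S, ∀ g g' : G, (g' : Γ) = s * g * s⁻¹ → (χ : G → ℂ) g'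 = (χ : G → ℂ) g) ∧ (∀ g : G, (χh : Γ → ℂ) g = (χ : G → ℂ) g) ∧ (Cfsg.detOrder (χh : Γ → ℂ)).Coprime (Nat.card S) ∧ (ε = 1 ∨ ε = -1) ∧ ∀ c : C, ∀ s : Γ, Subgroup.zpowers s = S → (χh : Γ → ℂ) ((c : Γ) * s) = (ε : ℂ) * (β : C → ℂ) c) := by
  classical
  -- `G` is normal in `Γ`
  have hGn : G.Normal := by
    rw [← Subgroup.normalizer_eq_top_iff]
    apply top_le_iff.1
    rw [← htop]
    refine sup_le Subgroup.le_normalizer ?_
    intro x hx
    rw [Subgroup.mem_normalizer_iff]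
    intro g
    constructor
    · intro hg
      exact hnorm x hx g hg
    · intro hg
      have := hnorm x⁻¹ (S.inv_mem hx) _ hg
      simpa [mul_assoc] using this
  -- a generator of `S`
  obtain ⟨s₀, hs₀⟩ := hcyc.exists_generator
  obtain ⟨s, hsS⟩ := s₀
  have hS : Subgroup.zpowers s = S := by
    ext x
    constructor
    · intro hx
      obtain ⟨k, rfl⟩ := Subgroup.mem_zpowers_iff.1 hx
      exact S.zpow_mem hsS k
    · intro hx
      obtain ⟨k, hk⟩ := Subgroup.mem_zpowers_iff.1 (hs₀ ⟨x, hx⟩)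
      have := congrArg Subtype.val hk
      rw [Subgroup.mem_zpowers_iff]
      exact ⟨k, by simpa using this⟩
  subst hS
  have hcop' : (Nat.card G).Coprime (orderOf s) := by
    rw [← Nat.card_zpowers]; exact hcop
  have hC' : ∀ c : Γ, c ∈ C ↔ c ∈ G ∧ Commute c s := by
    intro c
    rw [hC, Subgroup.mem_inf, Subgroup.mem_centralizer_iff]
    constructor
    · rintro ⟨h1, h2⟩
      exact ⟨h1, (h2 s (Subgroup.mem_zpowers s)).symm⟩
    · rintro ⟨h1, h2⟩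
      exact ⟨h1, fun h hh => ((Cfsg.Agent.Lib.helper19.commute_of_mem_zpowers hh h2).eq).symm⟩
  have hcard := Cfsg.Agent.Lib.helper19.card_eq_of_sup_zpowers G s hcop' htop
  have hSo : Nat.card (Subgroup.zpowers s) = orderOf s := Nat.card_zpowers s
  refine ⟨?_, ?_, ?_⟩
  · intro χ χh hinvS hext hdet
    have hχ' : Cfsg.IsIrrCharacter G (fun g : G => (χh : Γ → ℂ) g) := by
      have : (fun g : G => (χh : Γ → ℂ) g) = (χ : G → ℂ) := funext hext
      rw [this]; exact χ.2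
    rw [hSo] at hdet
    obtain ⟨β₀, ε₀, hε₀, hval₀, hne₀⟩ := Cfsg.Agent.Lib.helper19.exists_glauberman_cyclic G s C
      hcop' hcard hC' (χh : Γ → ℂ) χh.2 hχ' hdet
    have huniq : ∀ (β : Cfsg.IrrCharacter C) (ε : ℤ), (ε = 1 ∨ ε = -1) →
        (∀ c : C, ∀ s' : Γ, Subgroup.zpowers s' = Subgroup.zpowers s →
          (χh : Γ → ℂ) ((c : Γ) * s') = (ε : ℂ) * (β : C → ℂ) c) → β = β₀ ∧ ε = ε₀ := by
      intro β ε hε hv
      have h1 : (ε : ℂ) * (β : C → ℂ) 1 = (ε₀ : ℂ) * (β₀ : C → ℂ) 1 := by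
        rw [← hv 1 s rfl, ← hval₀ 1 s rfl]
      obtain ⟨n, hn, hn1⟩ := Cfsg.Agent.Lib.helper4.exists_pos_nat_degree β.2
      obtain ⟨n₀, hn₀, hn₀1⟩ := Cfsg.Agent.Lib.helper4.exists_pos_nat_degree β₀.2
      rw [hn1, hn₀1] at h1
      have h2 : ε * (n : ℤ) = ε₀ * (n₀ : ℤ) := by exact_mod_cast h1
      have hεε : ε = ε₀ := by
        rcases hε with h | h <;> rcases hε₀ with h' | h' <;> rw [h, h'] at h2 ⊢ <;> omega
      refine ⟨?_, hεε⟩
      apply Subtype.ext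
      funext c
      have h3 : (ε : ℂ) * (β : C → ℂ) c = (ε₀ : ℂ) * (β₀ : C → ℂ) c := by
        rw [← hv c s rfl, ← hval₀ c s rfl]
      rw [hεε] at h3
      have hne : (ε₀ : ℂ) ≠ 0 := by
        rcases hε₀ with h | h <;> rw [h] <;> norm_num
      exact mul_left_cancel₀ hne h3
    refine ⟨⟨(β₀, ε₀), ⟨hε₀, hval₀⟩, ?_⟩, ?_⟩
    · rintro ⟨β, ε⟩ ⟨h1, h2⟩
      obtain ⟨e1, e2⟩ := huniq β ε h1 h2
      exact Prod.ext e1 e2
    · intro β ε hε hv
      obtain ⟨e1, -⟩ := huniq β ε hε hv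
      rw [e1]
      have : (fun c : C => (χ : G → ℂ) ⟨c, hCG c.2⟩) = (fun c : C => (χh : Γ → ℂ) c) := by
        funext c
        exact (hext ⟨c, hCG c.2⟩).symm
      rw [this]
      exact hne₀
  · intro χ χ' χh χh' hinv hinv' hext hext' hdet hdet' β ε ε' hε hε' hv hv'
    have hr : Cfsg.IsIrrCharacter G (fun g : G => (χh : Γ → ℂ) g) := by
      have : (fun g : G => (χh : Γ → ℂ) g) = (χ : G → ℂ) := funext hext
      rw [this]; exact χ.2
    have hr' : Cfsg.IsIrrCharacter G (fun g : G => (χh' : Γ → ℂ) g) := by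
      have : (fun g : G => (χh' : Γ → ℂ) g) = (χ' : G → ℂ) := funext hext'
      rw [this]; exact χ'.2
    have := Cfsg.Agent.Lib.helper19.glauberman_cyclic_inj G s C hcop' hC' (χh : Γ → ℂ)
      (χh' : Γ → ℂ) χh.2 χh'.2 hr hr' (β : C → ℂ) β.2 ε ε' hε hε'
      (fun c => hv c s rfl) (fun c => hv' c s rfl)
    apply Subtype.ext
    funext g
    rw [← hext g, ← hext' g]
    exact congrFun this g
  · intro β
    obtain ⟨χ, χh, ε, hinv, hχh, hext, hdet, hε, hval⟩ :=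
      Cfsg.Agent.Lib.helper19.glauberman_cyclic_surj G s C hcop' htop hC' β
    refine ⟨χ, ⟨χh, hχh⟩, ε, ?_, hext, ?_, hε, hval⟩
    · intro s' hs' g g' hgg'
      have h1 := Cfsg.Agent.Lib.helper19.invariant_of_sup_zpowers G s htop (χ : G → ℂ)
        (Cfsg.Agent.Lib.helper4.isClassFunction_of_isIrrCharacter χ.2) hinv s' g
      have e : g' = ⟨s' * g * s'⁻¹, hGn.conj_mem g g.2 s'⟩ := Subtype.ext hgg'
      rw [e]
      exact h1
    · rw [hSo]; exact hdet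

end Cfsg.Agent.S4446
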