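import Cfsg.Statements.S4447
import Mathlib
import Cfsg.Agent.Lib.helper32.CoprimeConstituent

set_option autoImplicit false
open Cfsg

namespace Cfsg.Agent.S4447

/-- Inside a finite group Γ let S normalise G and also normalise a normal subgroup N of G, with the order of S coprime to the index of N in G and S or G/N solvable. Then for every S-invariant irreducible character χ of G, the restriction of χ to N has an S-invariant irreducible constituent. -/
theorem result {Γ : Type*} [Group Γ] [Fintype Γ] (G S N : Subgroup Γ) [Fintype G] [Fintype N] (hnorm : ∀ s ∈ S, ∀ g ∈ G, s * g * s⁻¹ ∈ G) (hNG : N ≤ G) [hNn : (N.subgroupOf G).Normal] (hNS : ∀ s ∈ S, ∀ n ∈ N, s * n * s⁻¹ ∈ N) (hcop : (N.relIndex G).Coprime (Nat.card S)) (hsolv : Group.IsSolvable S ∨ Group.IsSolvable (G ⧸ N.subgroupOf G)) (χ : Cfsg.IrrCharacter G) (hinv : (∀ s ∈ S, ∀ g g' : G, (g' : Γ) = s * g * s⁻¹ → (χ : G → ℂ) g' = (χ : G → ℂ) g)) : ∃ θ : Cfsg.IrrCharacter N, Cfsg.classInner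 (fun n : N => (χ : G → ℂ) ⟨n, hNG n.2⟩) (θ : N → ℂ) ≠ 0 ∧ (∀ s ∈ S, ∀ g g' : N, (g' : Γ) = s * g * s⁻¹ → (θ : N → ℂ) g' = (θ : N → ℂ) g) := by
  classical
  obtain ⟨M, hM⟩ : ∃ M : Subgroup Γ, M = Subgroup.normalizer (N : Set Γ) := ⟨_, rfl⟩
  have hGM : G ≤ M := by
    intro g hg
    rw [hM, Subgroup.mem_normalizer_iff]
    intro h
    constructor
    · intro hh
      have h1 := hNn.conj_mem (⟨h, hNG hh⟩ : G)
        (Subgroup.mem_subgroupOf.mpr hh) ⟨g, hg⟩
      exact Subgroup.mem_subgroupOf.mp h1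
    · intro hh
      have h1 := hNn.conj_mem (⟨g * h * g⁻¹, hNG hh⟩ : G)
        (Subgroup.mem_subgroupOf.mpr hh) (⟨g, hg⟩⁻¹ : G)
      have h2 : (g⁻¹ * (g * h * g⁻¹) * g⁻¹⁻¹ : Γ) ∈ N := Subgroup.mem_subgroupOf.mp h1
      have h3 : g⁻¹ * (g * h * g⁻¹) * g⁻¹⁻¹ = h := by group
      rwa [h3] at h2
  have hSM : S ≤ M := by
    intro s hs
    rw [hM, Subgroup.mem_normalizer_iff]
    intro h
    constructor
    · intro hh
      exact hNS s hs h hh
    · intro hh
      have h2 := hNS s⁻¹ (S.inv_mem hs) _ hh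
      have h3 : s⁻¹ * (s * h * s⁻¹) * s⁻¹⁻¹ = h := by group
      rwa [h3] at h2
  have hNM : N ≤ M := hNG.trans hGM
  have hN₀ : (N.subgroupOf M).Normal := by
    rw [hM]
    infer_instance
  let _iM : Fintype M := Fintype.ofFinite _
  let _iN : Fintype (N.subgroupOf M) := Fintype.ofFinite _
  let _iG : Fintype (G.subgroupOf M) := Fintype.ofFinite _
  have hNG₀ : N.subgroupOf M ≤ G.subgroupOf M :=
    fun x hx => Subgroup.mem_subgroupOf.mpr (hNG (Subgroup.mem_subgroupOf.mp hx))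
  have hnorm₀ : ∀ s ∈ S.subgroupOf M, ∀ g ∈ G.subgroupOf M, s * g * s⁻¹ ∈ G.subgroupOf M := by
    intro s hs g hg
    rw [Subgroup.mem_subgroupOf] at hs hg ⊢
    exact hnorm _ hs _ hg
  have hcop₀ : ((N.subgroupOf M).relIndex (G.subgroupOf M)).Coprime
      (Nat.card (S.subgroupOf M)) := by
    rw [Subgroup.relIndex_subgroupOf hGM,
      Nat.card_congr (Subgroup.subgroupOfEquivOfLe hSM).toEquiv]
    exact hcop
  have hsolv₀ : Group.IsSolvable (S.subgroupOf M) ∨
      Group.IsSolvable ((G.subgroupOf M).map (QuotientGroup.mk' (N.subgroupOf M))) := by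
    rcases hsolv with h | h
    · left
      exact Group.isSolvable_of_surjective (f := (Subgroup.subgroupOfEquivOfLe hSM).symm.toMonoidHom)
        (Subgroup.subgroupOfEquivOfLe hSM).symm.surjective
    · right
      let f : G →* ((G.subgroupOf M).map (QuotientGroup.mk' (N.subgroupOf M))) :=
        ((QuotientGroup.mk' (N.subgroupOf M)).subgroupMap (G.subgroupOf M)).comp
          (Subgroup.subgroupOfEquivOfLe hGM).symm.toMonoidHom
      have hf : Function.Surjective f :=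
        ((QuotientGroup.mk' (N.subgroupOf M)).subgroupMap_surjective (G.subgroupOf M)).comp
          (Subgroup.subgroupOfEquivOfLe hGM).symm.surjective
      have hker : N.subgroupOf G ≤ f.ker := by
        intro x hx
        rw [MonoidHom.mem_ker]
        apply Subtype.ext
        show QuotientGroup.mk' (N.subgroupOf M)
          (((Subgroup.subgroupOfEquivOfLe hGM).symm x : G.subgroupOf M) : M) = 1
        rw [QuotientGroup.mk'_apply, QuotientGroup.eq_one_iff]
        exact Subgroup.mem_subgroupOf.mpr (Subgroup.mem_subgroupOf.mp hx)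
      exact Group.isSolvable_of_surjective
        (QuotientGroup.lift_surjective_of_surjective (N.subgroupOf G) f hf hker)
  have hinv₀ : ∀ s ∈ S.subgroupOf M, ∀ g g' : G.subgroupOf M, (g' : M) = s * g * s⁻¹ →
      (Cfsg.Agent.Lib.helper80.irrMap (Subgroup.subgroupOfEquivOfLe hGM).symm χ :
        G.subgroupOf M → ℂ) g' =
      (Cfsg.Agent.Lib.helper80.irrMap (Subgroup.subgroupOfEquivOfLe hGM).symm χ :
        G.subgroupOf M → ℂ) g := by
    intro s hs g g' h
    rw [Cfsg.Agent.Lib.helper80.irrMap_apply, Cfsg.Agent.Lib.helper80.irrMap_apply]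
    refine hinv (s : Γ) (Subgroup.mem_subgroupOf.mp hs) _ _ ?_
    show ((g' : M) : Γ) = _
    rw [h]
    rfl
  obtain ⟨θ₀, hθ₀, hθ₀S⟩ := Cfsg.Agent.Lib.helper32.exists_invariant_constituent
    (N.subgroupOf M) (G.subgroupOf M) (S.subgroupOf M) hnorm₀ hNG₀ hcop₀ hsolv₀
    (Cfsg.Agent.Lib.helper80.irrMap (Subgroup.subgroupOfEquivOfLe hGM).symm χ) hinv₀
  refine ⟨Cfsg.Agent.Lib.helper80.irrMap (Subgroup.subgroupOfEquivOfLe hNM) θ₀, ?_, ?_⟩
  · have heq : Cfsg.classInner (fun n : N => (χ : G → ℂ) ⟨n, hNG n.2⟩)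
        (Cfsg.Agent.Lib.helper80.irrMap (Subgroup.subgroupOfEquivOfLe hNM) θ₀ : N → ℂ)
        = Cfsg.classInner (fun n : N.subgroupOf M =>
            (Cfsg.Agent.Lib.helper80.irrMap (Subgroup.subgroupOfEquivOfLe hGM).symm χ :
              G.subgroupOf M → ℂ) ⟨n, hNG₀ n.2⟩) (θ₀ : N.subgroupOf M → ℂ) := by
      unfold Cfsg.classInner
      rw [Nat.card_congr (Subgroup.subgroupOfEquivOfLe hNM).toEquiv]
      congr 1
      refine (Fintype.sum_equiv (Subgroup.subgroupOfEquivOfLe hNM).toEquiv _ _ (fun x => ?_)).symm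
      show (Cfsg.Agent.Lib.helper80.irrMap (Subgroup.subgroupOfEquivOfLe hGM).symm χ :
          G.subgroupOf M → ℂ) ⟨x, hNG₀ x.2⟩ * (starRingEnd ℂ) ((θ₀ : N.subgroupOf M → ℂ) x)
        = (χ : G → ℂ) ⟨(Subgroup.subgroupOfEquivOfLe hNM x : N),
            hNG (Subgroup.subgroupOfEquivOfLe hNM x).2⟩ *
          (starRingEnd ℂ) ((Cfsg.Agent.Lib.helper80.irrMap (Subgroup.subgroupOfEquivOfLe hNM) θ₀ :
            N → ℂ) (Subgroup.subgroupOfEquivOfLe hNM x))
      rw [Cfsg.Agent.Lib.helper80.irrMap_apply', Cfsg.Agent.Lib.helper80.irrMap_apply]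
      rfl
    rw [heq]
    exact hθ₀
  · intro s hs g g' hgg'
    have h1 := (Cfsg.Agent.Lib.helper82.cconj_eq_iff (N.subgroupOf M) (⟨s, hSM hs⟩ : M)
      (θ₀ : N.subgroupOf M → ℂ)).mp
      (hθ₀S ⟨s, hSM hs⟩ (Subgroup.mem_subgroupOf.mpr hs))
      ((Subgroup.subgroupOfEquivOfLe hNM).symm g)
    rw [Cfsg.Agent.Lib.helper80.irrMap_apply, Cfsg.Agent.Lib.helper80.irrMap_apply, ← h1]
    refine congrArg _ ?_
    apply Subtype.ext
    apply Subtype.ext
    exact hgg'

end Cfsg.Agent.S4447
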