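import Cfsg.Statements.S4451
import Mathlib
import Cfsg.Agent.Lib.helper19.GlaubFpf

set_option autoImplicit false
open Cfsg

namespace Cfsg.Agent.S4451

/-- Let the finite group Γ be generated by a normal subgroup G and a cyclic subgroup S of coprime orders such that every non-identity element of S has the same centraliser C = G ⊓ C(S) in G. Let χ be an S-invariant irreducible character of G, χ̂ its canonical extension to Γ (determinantal order coprime to the order of S), and β the irreducible character of C with χ̂(c s) = ε₀ β(c) for c ∈ C and generators s of S (ε₀ = ±1). Then there are a sign ε = ±1, which may differ from ε₀, and a linear character μ of S with μ² = 1, such that: (a) χ̂(c x) = ε β(c) μ(x) for all c ∈ C and all x ∈ S other than 1; (b) the restriction of χ to C equals |S|·ϑ + ε β for some character ϑ of C or ϑ = 0; (c) |S| divides χ(1) − ε β(1). -/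
theorem result {Γ : Type*} [Group Γ] [Fintype Γ] (G S : Subgroup Γ) [Fintype G] (hnorm : ∀ s ∈ S, ∀ g ∈ G, s * g * s⁻¹ ∈ G) (hcop : (Nat.card G).Coprime (Nat.card S)) (htop : G ⊔ S = ⊤) (hcyc : IsCyclic S) (C : Subgroup Γ) [Fintype C] (hC : C = G ⊓ Subgroup.centralizer (S : Set Γ)) (hCG : C ≤ G) (hfpf : ∀ x ∈ S, x ≠ 1 → G ⊓ Subgroup.centralizer ({x} : Set Γ) = C) (χ : Cfsg.IrrCharacter G) (hinv : (∀ s ∈ S, ∀ g g' : G, (g' : Γ) = s * g * s⁻¹ → (χ : G → ℂ) g' = (χ : G → ℂ) g)) (χh : Cfsg.IrrCharacter Γ) (hext : (∀ g : G, (χh : Γ → ℂ) g = (χ : G → ℂ) g)) (hdet : (Cfsg.detOrder (χh : Γ → ℂ)).Coprime (Nat.card S)) (β : Cfsg.IrrCharacter C) (ε₀ : ℤ) (hε₀ : ε₀ = 1 ∨ ε₀ = -1) (hβ : ∀ c : C, ∀ s : Γ, Subgroup.zpowers s = S → (χh : Γ → ℂ) ((c : Γ) * s) = (ε₀ : ℂ) * (β : C → ℂ) c) : ∃ ε : ℤ, (ε = 1 ∨ ε = -1) ∧ (∃ μ : S → ℂ, Cfsg.IsCharacter S μ ∧ μ 1 = 1 ∧ (∀ x : S, μ x * μ x = 1) ∧ ∀ c : C, ∀ x : S, x ≠ 1 → (χh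 : Γ → ℂ) ((c : Γ) * x) = (ε : ℂ) * (β : C → ℂ) c * μ x) ∧ (∃ ϑ : C → ℂ, Cfsg.IsCharacter C ϑ ∧ (fun c : C => (χ : G → ℂ) ⟨c, hCG c.2⟩) = fun c => (Nat.card S : ℂ) * ϑ c + (ε : ℂ) * (β : C → ℂ) c) ∧ (Nat.card S : ℤ) ∣ (Cfsg.charDegree (χ : G → ℂ) : ℤ) - ε * (Cfsg.charDegree (β : C → ℂ) : ℤ) := by
  classical
  -- `G` is normal in `Γ`
  have hGn : G.Normal := by
    rw [← Subgroup.normalizer_eq_top_iff]
    apply top_le_iff.1
    rw [← htop]
    refine sup_le Subgroup.le_normalizer ?_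
    intro x hx
    rw [Subgroup.mem_normalizer_iff]
    intro g
    constructor
    · intro hg
      exact hnorm x hx g hg
    · intro hg
      have := hnorm x⁻¹ (S.inv_mem hx) _ hg
      simpa [mul_assoc] using this
  -- a generator of `S`
  obtain ⟨s₀, hs₀⟩ := hcyc.exists_generator
  obtain ⟨s, hsS⟩ := s₀
  have hS : Subgroup.zpowers s = S := by
    ext x
    constructor
    · intro hx
      obtain ⟨k, rfl⟩ := Subgroup.mem_zpowers_iff.1 hx
      exact S.zpow_mem hsS k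
    · intro hx
      obtain ⟨k, hk⟩ := Subgroup.mem_zpowers_iff.1 (hs₀ ⟨x, hx⟩)
      have := congrArg Subtype.val hk
      rw [Subgroup.mem_zpowers_iff]
      exact ⟨k, by simpa using this⟩
  subst hS
  have hcop' : (Nat.card G).Coprime (orderOf s) := by
    rw [← Nat.card_zpowers]; exact hcop
  have hSo : Nat.card (Subgroup.zpowers s) = orderOf s := Nat.card_zpowers s
  have hCs : ∀ c ∈ C, Commute c s := by
    intro c hc
    rw [hC, Subgroup.mem_inf, Subgroup.mem_centralizer_iff] at hc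
    exact (hc.2 s (Subgroup.mem_zpowers s)).symm
  have hfpf' : ∀ x ∈ Subgroup.zpowers s, x ≠ 1 → ∀ c : Γ, c ∈ C ↔ c ∈ G ∧ Commute c x := by
    intro x hx hx1 c
    rw [← hfpf x hx hx1, Subgroup.mem_inf, Subgroup.mem_centralizer_iff]
    constructor
    · rintro ⟨h1, h2⟩
      exact ⟨h1, (h2 x (Set.mem_singleton x)).symm⟩
    · rintro ⟨h1, h2⟩
      refine ⟨h1, fun h hh => ?_⟩
      rw [Set.mem_singleton_iff] at hh
      rw [hh]
      exact h2.eq.symm
  have hχ' : Cfsg.IsIrrCharacter G (fun g : G => (χh : Γ → ℂ) g) := by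
    have : (fun g : G => (χh : Γ → ℂ) g) = (χ : G → ℂ) := funext hext
    rw [this]; exact χ.2
  rw [hSo] at hdet
  obtain ⟨ε, hε, ⟨μ, hμ, hμ1, hμsq, hval⟩, ⟨ϑ, hϑ, hres⟩⟩ :=
    Cfsg.Agent.Lib.helper19.glauberman_fpf G s C hcop' htop hfpf' hCs hCG (χh : Γ → ℂ) χh.2 hχ'
      hdet β ε₀ hε₀ (fun c => hβ c s rfl)
  refine ⟨ε, hε, ⟨μ, hμ, hμ1, hμsq, hval⟩, ⟨ϑ, hϑ, ?_⟩, ?_⟩
  · funext c
    rw [← hext ⟨c, hCG c.2⟩, hSo]
    exact hres c
  · have h1 := hres 1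
    simp only [OneMemClass.coe_one] at h1
    have h2 : (χh : Γ → ℂ) 1 = (χ : G → ℂ) 1 := hext 1
    rw [h2] at h1
    obtain ⟨d, hd⟩ := Cfsg.Agent.Lib.helper4.exists_nat_degree
      (Cfsg.Agent.Lib.helper4.isCharacter_of_isIrrCharacter χ.2)
    obtain ⟨b, hb⟩ := Cfsg.Agent.Lib.helper4.exists_nat_degree
      (Cfsg.Agent.Lib.helper4.isCharacter_of_isIrrCharacter β.2)
    obtain ⟨t, ht⟩ := Cfsg.Agent.Lib.helper4.exists_nat_degree hϑ
    have hdχ : Cfsg.charDegree (χ : G → ℂ) = d := by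
      unfold Cfsg.charDegree
      rw [hd]
      simp
    have hdβ : Cfsg.charDegree (β : C → ℂ) = b := by
      unfold Cfsg.charDegree
      rw [hb]
      simp
    rw [hd, hb, ht] at h1
    have h3 : (d : ℤ) = (orderOf s : ℤ) * (t : ℤ) + ε * (b : ℤ) := by exact_mod_cast h1
    rw [hdχ, hdβ, hSo]
    exact ⟨t, by linarith⟩

end Cfsg.Agent.S4451
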