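import Cfsg.Statements.S4460
import Cfsg.Agent.Lib.helper82.ThreeDegF

set_option autoImplicit false
open Cfsg

namespace Cfsg.Agent.S4460

/-- A finite group with exactly three distinct irreducible character degrees is solvable of derived length at most 3: its third derived subgroup is trivial. -/
theorem result {G : Type*} [Group G] [Finite G] (hcd : Nat.card {n : ℕ // ∃ χ : Cfsg.IrrCharacter G, Cfsg.charDegree (χ : G → ℂ) = n} = 3) : derivedSeries G 3 = ⊥ := by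
  classical
  haveI : Fintype G := Fintype.ofFinite G
  haveI hfin : Finite {n : ℕ // ∃ χ : Cfsg.IrrCharacter G, Cfsg.charDegree (χ : G → ℂ) = n} :=
    Nat.finite_of_card_ne_zero (by rw [hcd]; norm_num)
  obtain ⟨e⟩ : Nonempty ({n : ℕ // ∃ χ : Cfsg.IrrCharacter G,
      Cfsg.charDegree (χ : G → ℂ) = n} ≃ Fin 3) := ⟨Finite.equivFinOfCardEq hcd⟩
  obtain ⟨t₁, ht₁⟩ : ∃ t₁ : {n : ℕ // ∃ χ : Cfsg.IrrCharacter G,
      Cfsg.charDegree (χ : G → ℂ) = n}, t₁.1 = 1 :=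
    ⟨⟨1, ⟨⟨fun _ => 1, Cfsg.Agent.Lib.helper83.isIrrCharacter_one⟩,
      Cfsg.Agent.Lib.helper82.charDegree_of_one_eq Cfsg.Agent.Lib.helper83.isIrrCharacter_one
        (by simp)⟩⟩, rfl⟩
  obtain ⟨e', he'⟩ : ∃ e' : {n : ℕ // ∃ χ : Cfsg.IrrCharacter G,
      Cfsg.charDegree (χ : G → ℂ) = n} ≃ Fin 3, e' t₁ = 0 :=
    ⟨e.trans (Equiv.swap (e t₁) 0), by simp⟩
  apply Cfsg.Agent.Lib.helper82.three_deg (e'.symm 1).1 (e'.symm 2).1
  intro χ
  obtain ⟨d, hd⟩ : ∃ d : {n : ℕ // ∃ χ : Cfsg.IrrCharacter G,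
      Cfsg.charDegree (χ : G → ℂ) = n}, d.1 = Cfsg.charDegree (χ : G → ℂ) :=
    ⟨⟨Cfsg.charDegree (χ : G → ℂ), ⟨χ, rfl⟩⟩, rfl⟩
  rw [← hd]
  obtain ⟨j, hj⟩ : ∃ j : Fin 3, e' d = j := ⟨_, rfl⟩
  fin_cases j
  · left
    have h1 : d = t₁ := e'.injective (by rw [hj, he']; rfl)
    rw [h1, ht₁]
  · right; left
    have h1 : d = e'.symm 1 := by
      rw [Equiv.eq_symm_apply]; exact hj
    rw [h1]
  · right; right
    have h1 : d = e'.symm 2 := by
      rw [Equiv.eq_symm_apply]; exact hj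
    rw [h1]

end Cfsg.Agent.S4460
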