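import Mathlib
import Cfsg.Statements.S4461
import Cfsg.Agent.Lib.helper21.SylowFrattini
import Cfsg.Agent.Lib.helper21.LargerConstituent
import Cfsg.Agent.Lib.helper28.Fitting
import Cfsg.Agent.Lib.helper1.Hall
import Cfsg.Agent.Lib.helper82.CharNormal
import Cfsg.Agent.Lib.helper19.Gallagher

set_option autoImplicit false
open Cfsg

namespace Cfsg.Agent.S4461

open Cfsg.Agent.Lib.helper21 Subgroup

/-- The kernel part: a constituent given by `exists_larger_constituent` has kernel properly
contained in `K`, provided normal subgroups `L` with `L ∩ N ≤ K` lie in `K`. -/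
theorem finish {G : Type*} [Group G] [Finite G] (χ ψ : Cfsg.IrrCharacter G) (K N : Subgroup G)
    (hK : ∀ g : G, g ∈ K ↔ (χ : G → ℂ) g = (χ : G → ℂ) 1)
    (hdeg : Cfsg.charDegree (χ : G → ℂ) < Cfsg.charDegree (ψ : G → ℂ))
    (hψN : ∀ x ∈ N, (ψ : G → ℂ) x = (ψ : G → ℂ) 1 → (χ : G → ℂ) x = (χ : G → ℂ) 1)
    (hψK : ¬ (∀ k ∈ K, (ψ : G → ℂ) k = (ψ : G → ℂ) 1))
    (hL : ∀ L : Subgroup G, L.Normal → L ⊓ N ≤ K → L ≤ K) :
    ∃ ψ : Cfsg.IrrCharacter G, Cfsg.charDegree (χ : G → ℂ) < Cfsg.charDegree (ψ : G → ℂ) ∧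
      ∃ L : Subgroup G, (∀ g : G, g ∈ L ↔ (ψ : G → ℂ) g = (ψ : G → ℂ) 1) ∧ L < K := by
  obtain ⟨L, hLn, hLker⟩ := Cfsg.Agent.Lib.helper82.exists_ker_of_isCharacter
    (Cfsg.Agent.Lib.helper83.isCharacter_of_irr ψ.2)
  refine ⟨ψ, hdeg, L, hLker, lt_of_le_of_ne ?_ ?_⟩
  · apply hL L hLn
    rintro x ⟨hxL, hxN⟩
    exact (hK x).mpr (hψN x hxN ((hLker x).mp hxL))
  · intro heq
    apply hψK
    intro k hk
    exact (hLker k).mp (heq ▸ hk)

theorem result {G : Type*} [Group G] [Finite G] (χ : Cfsg.IrrCharacter G) (K : Subgroup G) [K.Normal] (hK : (∀ g : G, g ∈ K ↔ (χ : G → ℂ) g = (χ : G → ℂ) 1)) (h : ¬ K ≤ Cfsg.fittingSubgroup G ∨ (K = Cfsg.fittingSubgroup G ∧ Group.IsSolvable (G ⧸ K) ∧ K ≠ ⊤)) : ∃ ψ : Cfsg.IrrCharacter G, Cfsg.charDegree (χ : G → ℂ) < Cfsg.charDegree (ψ : G → ℂ) ∧ ∃ L : Subgroup G, (∀ g : G, g ∈ L ↔ (ψ : G → ℂ) g = (ψ : G → ℂ) 1) ∧ L < K := by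
  classical
  have hKker : ∀ k ∈ K, (χ : G → ℂ) k = (χ : G → ℂ) 1 := fun k hk => (hK k).mp hk
  have hχ1 : (χ : G → ℂ) 1 ≠ 0 := Cfsg.Agent.Lib.helper4.irr_degree_ne_zero χ.2
  rcases h with h | ⟨hKF, hsol, hKtop⟩
  · -- Case 1: `K` is not nilpotent
    have hnil : ¬ Group.IsNilpotent K := fun hn =>
      h (Cfsg.Agent.Lib.helper28.le_fittingSubgroup inferInstance hn)
    have htfae := (Group.isNilpotent_of_finite_tfae (G := K)).out 0 3
    rw [htfae] at hnil
    push Not at hnil
    obtain ⟨p, hp, P, hP⟩ := hnil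
    have hKN : K ⊔ normalizer (((P : Subgroup K).map K.subtype : Subgroup G) : Set G) = ⊤ := by
      rw [sup_comm]; exact Sylow.normalizer_sup_eq_top P
    rcases exists_larger_constituent χ K _ hKker hKN with h1 | ⟨ψ, hdeg, hψN, hψK⟩
    · exfalso
      apply hP
      constructor
      intro n hn g
      have hu : (n : G) ∈ (P : Subgroup K).map K.subtype := mem_map_of_mem _ hn
      have hχn : (χ : G → ℂ) n ≠ 0 := by rw [hKker _ n.2]; exact hχ1
      have hN := h1 n (le_normalizer hu) hχn (g⁻¹ : K)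
      obtain ⟨w, hw, hwe⟩ := conj_mem_sylow_of_mem_normalizer K P n hu (g⁻¹ : K) hN
      have hwg : w = g * n * g⁻¹ := Subtype.ext (by simpa using hwe)
      rw [← hwg]; exact hw
    · exact finish χ ψ K _ hK hdeg hψN hψK
        (fun L hLn hLN => by
          have := hLn
          exact le_of_inf_normalizer_sylow_le K P K L hLN inf_le_right)
  · -- Case 2: `K = F(G)`, `G/K` solvable and nontrivial
    obtain ⟨g₀, hg₀⟩ : ∃ g₀ : G, g₀ ∉ K := by
      by_contra hcon
      push Not at hcon
      exact hKtop (eq_top_iff.mpr fun x _ => hcon x)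
    have hnt : Nontrivial (G ⧸ K) :=
      nontrivial_of_ne (g₀ : G ⧸ K) 1 (fun h1 => hg₀ ((QuotientGroup.eq_one_iff g₀).mp h1))
    obtain ⟨p, Q, hp, hQn, hQbot, hQp⟩ := Cfsg.Agent.Lib.helper1.exists_normal_pgroup (G := G ⧸ K)
    have hpf : Fact p.Prime := ⟨hp⟩
    have hMn : (Q.comap (QuotientGroup.mk' K)).Normal := hQn.comap _
    have hKM : K ≤ Q.comap (QuotientGroup.mk' K) := by
      intro k hk
      rw [mem_comap, QuotientGroup.mk'_apply, (QuotientGroup.eq_one_iff k).mpr hk]
      exact Q.one_mem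
    have hMK : ¬ Q.comap (QuotientGroup.mk' K) ≤ K := by
      intro hle
      apply hQbot
      rw [eq_bot_iff]
      intro q hq
      obtain ⟨g, rfl⟩ := QuotientGroup.mk_surjective q
      rw [mem_bot]
      exact (QuotientGroup.eq_one_iff g).mpr (hle (mem_comap.mpr hq))
    obtain ⟨P⟩ : Nonempty (Sylow p (Q.comap (QuotientGroup.mk' K))) := Sylow.nonempty
    -- `M = K P`
    have hsurj : Function.Surjective ((QuotientGroup.mk' K).subgroupComap Q) :=
      (QuotientGroup.mk' K).subgroupComap_surjective_of_surjective Q (QuotientGroup.mk'_surjective K)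
    have htop : (⊤ : Subgroup Q) = (P : Subgroup _).map ((QuotientGroup.mk' K).subgroupComap Q) :=
      (P.mapSurjective hsurj).3 (hQp.to_subgroup ⊤) le_top
    have hMKP : Q.comap (QuotientGroup.mk' K) ≤
        K ⊔ (P : Subgroup (Q.comap (QuotientGroup.mk' K))).map (Subgroup.subtype _) := by
      intro m hm
      have h1 : (⟨(m : G ⧸ K), hm⟩ : Q) ∈
          (P : Subgroup _).map ((QuotientGroup.mk' K).subgroupComap Q) := by
        rw [← htop]; trivial
      obtain ⟨u, hu, hue⟩ := h1
      have h2 : ((u : G) : G ⧸ K) = (m : G ⧸ K) := congrArg Subtype.val hue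
      have h3 : (u : G)⁻¹ * m ∈ K := QuotientGroup.eq.mp h2
      have h4 : m * (u : G)⁻¹ ∈ K := by
        have := (inferInstance : K.Normal).conj_mem _ h3 (u : G)
        simpa [mul_assoc] using this
      have h5 : m = (m * (u : G)⁻¹) * (u : G) := by group
      rw [h5]
      exact Subgroup.mul_mem _ (mem_sup_left h4) (mem_sup_right (mem_map_of_mem _ hu))
    have hKN : K ⊔ normalizer (((P : Subgroup (Q.comap (QuotientGroup.mk' K))).map
        (Subgroup.subtype _) : Subgroup G) : Set G) = ⊤ := by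
      apply le_antisymm le_top
      rw [← Sylow.normalizer_sup_eq_top P]
      exact sup_le le_sup_right (hMKP.trans (sup_le le_sup_left (le_normalizer.trans le_sup_right)))
    rcases exists_larger_constituent χ K _ hKker hKN with h1 | ⟨ψ, hdeg, hψN, hψK⟩
    · exfalso
      -- `χ` vanishes on `P ∖ K`
      have hvan : ∀ u ∈ (P : Subgroup (Q.comap (QuotientGroup.mk' K))).map (Subgroup.subtype _),
          u ∉ K → (χ : G → ℂ) u = 0 := by
        intro u hu huK
        by_contra hne
        apply huK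
        have hconj : ∀ x : G, x⁻¹ * u * x ∈
            (P : Subgroup (Q.comap (QuotientGroup.mk' K))).map (Subgroup.subtype _) := fun x =>
          conj_mem_sylow_of_mem_normalizer _ P u hu x (h1 u (le_normalizer hu) hne x)
        have hle : normalClosure ({u} : Set G) ≤
            (P : Subgroup (Q.comap (QuotientGroup.mk' K))).map (Subgroup.subtype _) := by
          rw [normalClosure, closure_le]
          intro a ha
          obtain ⟨b, hb, hba⟩ := Group.mem_conjugatesOfSet_iff.mp ha
          rw [Set.mem_singleton_iff] at hb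
          subst hb
          obtain ⟨c, hc⟩ := isConj_iff.mp hba
          rw [← hc]
          have := hconj c⁻¹
          rw [inv_inv] at this
          exact this
        have hpg : IsPGroup p (normalClosure ({u} : Set G)) :=
          (P.isPGroup'.map _).to_le hle
        have hnilU : Group.IsNilpotent (normalClosure ({u} : Set G)) := hpg.isNilpotent
        have := Cfsg.Agent.Lib.helper28.le_fittingSubgroup (N := normalClosure ({u} : Set G))
          inferInstance hnilU
        rw [hKF]
        exact this (subset_normalClosure (Set.mem_singleton u))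
      have hvanM : ∀ m ∈ Q.comap (QuotientGroup.mk' K), m ∉ K → (χ : G → ℂ) m = 0 := by
        intro m hm hmK
        have hm' : m ∈ ((K ⊔ (P : Subgroup (Q.comap (QuotientGroup.mk' K))).map
            (Subgroup.subtype _) : Subgroup G) : Set G) := hMKP hm
        rw [Subgroup.normal_mul] at hm'
        obtain ⟨k, hk, u, hu, rfl⟩ := Set.mem_mul.mp hm'
        have huK : u ∉ K := fun huK => hmK (K.mul_mem hk huK)
        rw [Cfsg.Agent.Lib.helper19.irr_trivial_coset K (χ : G → ℂ)
          (Cfsg.Agent.Lib.helper83.isCharacter_of_irr χ.2) hKker k hk u]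
        exact hvan u hu huK
      have instM : Fintype (Q.comap (QuotientGroup.mk' K)) := Fintype.ofFinite _
      have hsum0 : ∑ m : Q.comap (QuotientGroup.mk' K), (χ : G → ℂ) (1 * (m : G)) = 0 := by
        apply Cfsg.Agent.Lib.helper82.irr_sum_mul_normal χ
        by_contra hcon
        push Not at hcon
        exact hMK fun x hx => (hK x).mpr (hcon x hx)
      have hsum1 : ∑ m : Q.comap (QuotientGroup.mk' K), (χ : G → ℂ) (1 * (m : G)) =
          ((Finset.univ.filter (fun m : Q.comap (QuotientGroup.mk' K) => (m : G) ∈ K)).card : ℂ) *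
            (χ : G → ℂ) 1 := by
        have h2 : ∀ m : Q.comap (QuotientGroup.mk' K), (χ : G → ℂ) (1 * (m : G)) =
            if (m : G) ∈ K then (χ : G → ℂ) 1 else 0 := by
          intro m
          rw [one_mul]
          split_ifs with hmK
          · exact hKker _ hmK
          · exact hvanM _ m.2 hmK
        rw [Finset.sum_congr rfl (fun m _ => h2 m), Finset.sum_ite, Finset.sum_const_zero,
          add_zero, Finset.sum_const, nsmul_eq_mul]
      rw [hsum1] at hsum0
      rcases mul_eq_zero.mp hsum0 with h3 | h3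
      · have h4 : (Finset.univ.filter
            (fun m : Q.comap (QuotientGroup.mk' K) => (m : G) ∈ K)).card = 0 := by
          exact_mod_cast h3
        have h5 : (1 : Q.comap (QuotientGroup.mk' K)) ∈ Finset.univ.filter
            (fun m : Q.comap (QuotientGroup.mk' K) => (m : G) ∈ K) := by
          simp [K.one_mem]
        rw [Finset.card_eq_zero] at h4
        rw [h4] at h5
        exact absurd h5 (Finset.notMem_empty _)
      · exact hχ1 h3
    · refine finish χ ψ K _ hK hdeg hψN hψK (fun L hLn hLN => ?_)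
      have := hLn
      refine le_of_inf_normalizer_sylow_le _ P K L hLN ?_
      -- `L ∩ M ≤ K`
      rintro x ⟨hxL, hxM⟩
      obtain ⟨k, hk⟩ := hQp ⟨(x : G ⧸ K), hxM⟩
      have hk' : (x : G ⧸ K) ^ p ^ k = 1 := by
        have := congrArg Subtype.val hk
        simpa using this
      obtain ⟨b, c, hpc, hbc⟩ := Nat.exists_eq_pow_mul_and_not_dvd (orderOf_pos x).ne' p hp.ne_one
      have hxc : (⟨x ^ c, Subgroup.pow_mem _ hxM c⟩ : Q.comap (QuotientGroup.mk' K)) ^ p ^ b = 1 := by
        apply Subtype.ext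
        rw [Subgroup.coe_pow, Subgroup.coe_one]
        show (x ^ c) ^ p ^ b = 1
        rw [← pow_mul, mul_comm, ← hbc, pow_orderOf_eq_one]
      have hpg := isPGroup_zpowers_of_pow_eq_one (p := p) _ b hxc
      obtain ⟨m, -, hm⟩ := exists_conj_le_sylow_of_le P ⊤ le_top _ hpg le_top
      have h2 := hm _ (mem_zpowers _)
      have h3 : (m : G)⁻¹ * x ^ c * (m : G) ∈
          (P : Subgroup (Q.comap (QuotientGroup.mk' K))).map (Subgroup.subtype _) :=
        ⟨_, h2, rfl⟩
      have h4 : (m : G)⁻¹ * x ^ c * (m : G) ∈ L := by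
        have := hLn.conj_mem (x ^ c) (L.pow_mem hxL c) (m : G)⁻¹
        simpa using this
      have h5 : (m : G)⁻¹ * x ^ c * (m : G) ∈ K := hLN ⟨h4, le_normalizer h3⟩
      have h6 : x ^ c ∈ K := by
        have := (inferInstance : K.Normal).conj_mem _ h5 (m : G)
        simpa [mul_assoc] using this
      have h7 : (x : G ⧸ K) ^ c = 1 := by
        rw [← QuotientGroup.mk_pow]
        exact (QuotientGroup.eq_one_iff _).mpr h6
      have h8 : orderOf (x : G ⧸ K) ∣ c := orderOf_dvd_of_pow_eq_one h7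
      have h9 : orderOf (x : G ⧸ K) ∣ p ^ k := orderOf_dvd_of_pow_eq_one hk'
      have hcop : Nat.Coprime c (p ^ k) :=
        Nat.Coprime.pow_right k ((Nat.Prime.coprime_iff_not_dvd hp).mpr hpc).symm
      have h10 : orderOf (x : G ⧸ K) = 1 := Nat.eq_one_of_dvd_coprimes hcop h8 h9
      exact (QuotientGroup.eq_one_iff x).mp (orderOf_eq_one_iff.mp h10)

end Cfsg.Agent.S4461
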