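import Mathlib
import Cfsg.Statements.S4462
import Cfsg.Agent.S4461
import Cfsg.Agent.Lib.helper28.Fitting
import Cfsg.Agent.Lib.helper82.CharQuot
import Cfsg.Agent.Lib.helper83.CharBasic2

set_option autoImplicit false
open Cfsg

namespace Cfsg.Agent.S4462

universe u

/-- The set of irreducible character degrees. -/
def cdSet (G : Type u) [Group G] : Set ℕ :=
  {d | ∃ χ : Cfsg.IrrCharacter G, Cfsg.charDegree (χ : G → ℂ) = d}

theorem cdSet_finite (G : Type u) [Group G] [Finite G] : (cdSet G).Finite := by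
  have h : cdSet G = Set.range (fun χ : Cfsg.IrrCharacter G => Cfsg.charDegree (χ : G → ℂ)) := by
    ext d; simp [cdSet]
  rw [h]; exact Set.finite_range _

theorem cdSet_nonempty (G : Type u) [Group G] : (cdSet G).Nonempty :=
  ⟨_, ⟨⟨_, Cfsg.Agent.Lib.helper82.isIrrCharacter_of_hom (1 : G →* ℂˣ)⟩, rfl⟩⟩

/-- Garrison's step: the largest degree of a solvable non-nilpotent group is not a degree of
`G / F(G)`. -/
theorem cdSet_quotient_ssubset (G : Type u) [Group G] [Finite G] (hsolv : Group.IsSolvable G)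
    (hF : fittingSubgroup G ≠ ⊤) : cdSet (G ⧸ fittingSubgroup G) ⊂ cdSet G := by
  have hsub : cdSet (G ⧸ fittingSubgroup G) ⊆ cdSet G := by
    rintro d ⟨ψ, rfl⟩
    refine ⟨⟨_, Cfsg.Agent.Lib.helper82.isIrrCharacter_inflation (fittingSubgroup G) ψ.2⟩, ?_⟩
    simp [Cfsg.charDegree]
  refine ⟨hsub, fun hsup => ?_⟩
  have hb := Nat.sSup_mem (cdSet_nonempty G) (cdSet_finite G).bddAbove
  obtain ⟨ψ, hψ⟩ := hsup hb
  have hψirr := Cfsg.Agent.Lib.helper82.isIrrCharacter_inflation (fittingSubgroup G) ψ.2
  have hdeg : charDegree (fun g : G => (ψ : G ⧸ fittingSubgroup G → ℂ) (g : G ⧸ fittingSubgroup G)) =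
      sSup (cdSet G) := by
    rw [← hψ]; simp [Cfsg.charDegree]
  obtain ⟨K, hKn, hK⟩ := Cfsg.Agent.Lib.helper82.exists_ker_of_isCharacter
    (Cfsg.Agent.Lib.helper83.isCharacter_of_irr hψirr)
  have hFK : fittingSubgroup G ≤ K := by
    intro x hx
    rw [hK]
    show (ψ : G ⧸ fittingSubgroup G → ℂ) (x : G ⧸ fittingSubgroup G) =
      (ψ : G ⧸ fittingSubgroup G → ℂ) ((1 : G) : G ⧸ fittingSubgroup G)
    rw [(QuotientGroup.eq_one_iff x).mpr hx, QuotientGroup.mk_one]
  have hcase : ¬ K ≤ fittingSubgroup G ∨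
      (K = fittingSubgroup G ∧ Group.IsSolvable (G ⧸ K) ∧ K ≠ ⊤) := by
    by_cases hle : K ≤ fittingSubgroup G
    · right
      have heq : K = fittingSubgroup G := le_antisymm hle hFK
      refine ⟨heq, inferInstance, ?_⟩
      rw [heq]; exact hF
    · left; exact hle
  obtain ⟨ψ', hlt, -⟩ := Cfsg.Agent.S4461.result ⟨_, hψirr⟩ K hK hcase
  have hmem : charDegree (ψ' : G → ℂ) ∈ cdSet G := ⟨ψ', rfl⟩
  have hle := le_csSup (cdSet_finite G).bddAbove hmem
  rw [← hdeg] at hle
  exact absurd hlt (not_lt.mpr hle)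

/-- The chain property of the statement. -/
def HasChain (G : Type u) [Group G] (n : ℕ) : Prop :=
  ∃ N : Fin (n + 1) → Subgroup G, N 0 = ⊥ ∧ N (Fin.last n) = ⊤ ∧ Monotone N ∧
    (∀ i, (N i).Normal) ∧ ∀ i : Fin n, ∀ h : (N i.castSucc).subgroupOf (N i.succ) |>.Normal,
      Group.IsNilpotent (↥(N i.succ) ⧸ (N i.castSucc).subgroupOf (N i.succ))

theorem nilp_quot_of_nilp {G : Type u} [Group G] (X Y : Subgroup G) (hY : Group.IsNilpotent Y)
    (_h : (X.subgroupOf Y).Normal) : Group.IsNilpotent (↥Y ⧸ X.subgroupOf Y) :=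
  inferInstance

theorem nilp_quot_comap {G H : Type u} [Group G] [Group H] (f : G →* H) (A B : Subgroup H)
    (hBA : (B.subgroupOf A).Normal) (hnil : Group.IsNilpotent (↥A ⧸ B.subgroupOf A))
    (X Y : Subgroup G) (hX : X = B.comap f) (hY : Y = A.comap f) (h : (X.subgroupOf Y).Normal) :
    Group.IsNilpotent (↥Y ⧸ X.subgroupOf Y) := by
  subst hX hY
  have hle : (B.comap f).subgroupOf (A.comap f) ≤ (B.subgroupOf A).comap (f.subgroupComap A) := by
    intro x hx
    exact hx
  refine Subgroup.isNilpotent_of_ker_le_center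
    (QuotientGroup.map _ (B.subgroupOf A) (f.subgroupComap A) hle) ?_
  rw [QuotientGroup.ker_map]
  have h1 : (B.subgroupOf A).comap (f.subgroupComap A) = (B.comap f).subgroupOf (A.comap f) := by
    ext x; rfl
  rw [h1, QuotientGroup.map_mk'_self]
  exact bot_le

theorem hasChain_of_card_le : ∀ (n : ℕ) (G : Type u) [Group G] [Finite G],
    Group.IsSolvable G → (cdSet G).ncard ≤ n → HasChain G n := by
  intro n
  induction n with
  | zero =>
    intro G _ _ hsolv hcard
    exfalso
    have : 0 < (cdSet G).ncard := (Set.ncard_pos (cdSet_finite G)).mpr (cdSet_nonempty G)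
    omega
  | succ n ih =>
    intro G _ _ hsolv hcard
    by_cases hF : fittingSubgroup G = ⊤
    · have hnilF := Cfsg.Agent.Lib.helper28.fittingSubgroup_isNilpotent G
      have hnilG : Group.IsNilpotent G := by
        rw [hF] at hnilF
        exact Group.nilpotent_of_mulEquiv Subgroup.topEquiv
      refine ⟨fun i => if i = 0 then ⊥ else ⊤, by simp, ?_, ?_, ?_, ?_⟩
      · simp [Fin.ext_iff]
      · intro i j hij
        dsimp only
        split_ifs with h1 h2 h2
        · exact le_rfl
        · exact bot_le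
        · exfalso
          subst h2
          exact h1 (le_antisymm hij (Fin.zero_le _))
        · exact le_rfl
      · intro i
        dsimp only
        split_ifs <;> infer_instance
      · intro i h
        exact nilp_quot_of_nilp _ _ inferInstance h
    · have hss := cdSet_quotient_ssubset G hsolv hF
      have hlt : (cdSet (G ⧸ fittingSubgroup G)).ncard < (cdSet G).ncard :=
        Set.ncard_lt_ncard hss (cdSet_finite G)
      obtain ⟨N', h0, hlast, hmono, hnorm, hquot⟩ :=
        ih (G ⧸ fittingSubgroup G) inferInstance (by omega)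
      refine ⟨Fin.cons ⊥ (fun i => (N' i).comap (QuotientGroup.mk' (fittingSubgroup G))),
        by simp, ?_, ?_, ?_, ?_⟩
      · rw [← Fin.succ_last, Fin.cons_succ, hlast]
        simp
      · rw [Fin.monotone_iff_le_succ]
        intro i
        refine Fin.cases ?_ (fun j => ?_) i
        · simp
        · rw [← Fin.succ_castSucc, Fin.cons_succ, Fin.cons_succ]
          exact Subgroup.comap_mono (hmono (Fin.castSucc_le_succ j))
      · intro i
        refine Fin.cases ?_ (fun j => ?_) i
        · rw [Fin.cons_zero]; infer_instance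
        · rw [Fin.cons_succ]; exact (hnorm j).comap _
      · intro i
        refine Fin.cases ?_ (fun j => ?_) i
        · intro h
          apply nilp_quot_of_nilp
          have h1 : (Fin.cons ⊥ (fun i => (N' i).comap (QuotientGroup.mk' (fittingSubgroup G))) :
              Fin (n + 2) → Subgroup G) (Fin.succ 0) = fittingSubgroup G := by
            rw [Fin.cons_succ, h0]
            exact QuotientGroup.ker_mk' _
          rw [h1]
          exact Cfsg.Agent.Lib.helper28.fittingSubgroup_isNilpotent G
        · intro h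
          have := hnorm j.castSucc
          exact nilp_quot_comap (QuotientGroup.mk' (fittingSubgroup G)) (N' j.succ)
            (N' j.castSucc) inferInstance (hquot j inferInstance) _ _
            (by rw [← Fin.succ_castSucc, Fin.cons_succ]) (by rw [Fin.cons_succ]) h

/-- Let G be a finite solvable group with exactly n distinct irreducible character degrees. Then G has normal subgroups 1 = N₀ ≤ N₁ ≤ ⋯ ≤ Nₙ = G with every quotient N_{i+1}/N_i nilpotent (the nilpotent length of G is at most n). -/
theorem result {G : Type*} [Group G] [Finite G] (hsolv : Group.IsSolvable G) (n : ℕ) (hcd : Nat.card {d : ℕ // ∃ χ : Cfsg.IrrCharacter G, Cfsg.charDegree (χ : G → ℂ) = d} = n) : ∃ N : Fin (n + 1) → Subgroup G, N 0 = ⊥ ∧ N (Fin.last n) = ⊤ ∧ Monotone N ∧ (∀ i, (N i).Normal) ∧ ∀ i : Fin n, ∀ h : (N i.castSucc).subgroupOf (N i.succ) |>.Normal, Group.IsNilpotent (↥(N i.succ) ⧸ (N i.castSucc).subgroupOf (N i.succ)) := by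
  have h := hasChain_of_card_le n G hsolv (by
    rw [← Nat.card_coe_set_eq]
    exact hcd.le)
  exact h

end Cfsg.Agent.S4462
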