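import Cfsg.Statements.S4470
import Mathlib

set_option autoImplicit false
open Cfsg

namespace Cfsg.Agent.S4470

section helpers

open Matrix

universe u

section specdecomp

variable {n : ℕ}

/-- Joint spectral decomposition of a unitary representation of a finite abelian group. -/
theorem spec_decomp {Γ : Type u} [CommGroup Γ] [Finite Γ] (W : Γ → Matrix (Fin n) (Fin n) ℂ)
    (hW1 : W 1 = 1) (hWm : ∀ a b, W (a * b) = W a * W b) (hWs : ∀ a, (W a)ᴴ = W a⁻¹) :
    ∃ (ι : Type u) (_ : Fintype ι) (e : ι → Matrix (Fin n) (Fin n) ℂ) (c : ι → Γ → ℂ),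
      (∑ i, e i = 1) ∧ (∀ i, (e i)ᴴ = e i) ∧ (∀ i j, i ≠ j → e i * e j = 0) ∧
      (∀ i, e i * e i = e i) ∧
      (∀ i a, W a * e i = c i a • e i) ∧ (∀ i a, e i * W a = c i a • e i) ∧
      (∀ i a, ‖c i a‖ = 1) ∧ (∀ i a b, c i (a * b) = c i a * c i b) ∧
      (∀ M : Matrix (Fin n) (Fin n) ℂ, (∀ a, M * W a = W a * M) → ∀ i, M * e i = e i * M) := by
  classical
  haveI : Fintype Γ := Fintype.ofFinite Γ
  have hcard : (Fintype.card Γ : ℂ) ≠ 0 := by
    exact_mod_cast Fintype.card_ne_zero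
  let e : AddChar (Additive Γ) ℂ → Matrix (Fin n) (Fin n) ℂ := fun ψ =>
    (Fintype.card Γ : ℂ)⁻¹ • ∑ a : Γ, ψ (Additive.ofMul a⁻¹) • W a
  let c : AddChar (Additive Γ) ℂ → Γ → ℂ := fun ψ a => ψ (Additive.ofMul a)
  have hcm : ∀ (ψ : AddChar (Additive Γ) ℂ) (a b : Γ), c ψ (a * b) = c ψ a * c ψ b := by
    intro ψ a b
    show ψ (Additive.ofMul (a * b)) = _
    rw [ofMul_mul, AddChar.map_add_eq_mul]
  have hWcomm : ∀ a b, W a * W b = W b * W a := by
    intro a b; rw [← hWm, ← hWm, mul_comm]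
  have h5 : ∀ ψ b, W b * e ψ = c ψ b • e ψ := by
    intro ψ b
    show W b * ((Fintype.card Γ : ℂ)⁻¹ • ∑ a : Γ, ψ (Additive.ofMul a⁻¹) • W a) =
      c ψ b • ((Fintype.card Γ : ℂ)⁻¹ • ∑ a : Γ, ψ (Additive.ofMul a⁻¹) • W a)
    rw [Matrix.mul_smul, smul_comm (c ψ b)]
    congr 1
    rw [Finset.mul_sum, Finset.smul_sum]
    rw [← Equiv.sum_comp (Equiv.mulLeft b) (fun a => c ψ b • ψ (Additive.ofMul a⁻¹) • W a)]
    apply Finset.sum_congr rfl
    intro a _
    simp only [Equiv.coe_mulLeft]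
    rw [Matrix.mul_smul, ← hWm, smul_smul]
    congr 1
    have : (b * a)⁻¹ = a⁻¹ * b⁻¹ := mul_inv_rev b a
    rw [this, ofMul_mul, AddChar.map_add_eq_mul]
    show ψ (Additive.ofMul a⁻¹) = ψ (Additive.ofMul b) * (ψ (Additive.ofMul a⁻¹) * ψ (Additive.ofMul b⁻¹))
    have h1 : ψ (Additive.ofMul b) * ψ (Additive.ofMul b⁻¹) = 1 := by
      rw [← AddChar.map_add_eq_mul, ← ofMul_mul, mul_inv_cancel, ofMul_one, AddChar.map_zero_eq_one]
    rw [mul_left_comm, h1, mul_one]
  have h9 : ∀ M : Matrix (Fin n) (Fin n) ℂ, (∀ a, M * W a = W a * M) → ∀ ψ, M * e ψ = e ψ * M := by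
    intro M hM ψ
    show M * ((Fintype.card Γ : ℂ)⁻¹ • ∑ a : Γ, ψ (Additive.ofMul a⁻¹) • W a) =
      ((Fintype.card Γ : ℂ)⁻¹ • ∑ a : Γ, ψ (Additive.ofMul a⁻¹) • W a) * M
    rw [Matrix.mul_smul, Matrix.smul_mul, Finset.mul_sum, Finset.sum_mul]
    congr 1
    apply Finset.sum_congr rfl
    intro a _
    rw [Matrix.mul_smul, Matrix.smul_mul, hM]
  have h6 : ∀ ψ b, e ψ * W b = c ψ b • e ψ := by
    intro ψ b
    rw [← h5, h9 (W b) (fun a => hWcomm b a) ψ]
  have h2 : ∀ ψ, (e ψ)ᴴ = e ψ := by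
    intro ψ
    show ((Fintype.card Γ : ℂ)⁻¹ • ∑ a : Γ, ψ (Additive.ofMul a⁻¹) • W a)ᴴ =
      ((Fintype.card Γ : ℂ)⁻¹ • ∑ a : Γ, ψ (Additive.ofMul a⁻¹) • W a)
    rw [Matrix.conjTranspose_smul, Matrix.conjTranspose_sum]
    have hs : star ((Fintype.card Γ : ℂ)⁻¹) = (Fintype.card Γ : ℂ)⁻¹ := by
      simp
    rw [hs]
    congr 1
    rw [← Equiv.sum_comp (Equiv.inv Γ) (fun a => ψ (Additive.ofMul a⁻¹) • W a)]
    apply Finset.sum_congr rfl
    intro a _
    simp only [Equiv.inv_apply, inv_inv]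
    rw [Matrix.conjTranspose_smul, hWs]
    congr 1
    have := AddChar.map_neg_eq_conj ψ (Additive.ofMul a)
    rw [← ofMul_inv] at this
    rw [this]
    simp
  have h3 : ∀ ψ φ, ψ ≠ φ → e ψ * e φ = 0 := by
    intro ψ φ hne
    have : ∃ a : Γ, c ψ a ≠ c φ a := by
      by_contra hcon
      push Not at hcon
      apply hne
      apply DFunLike.ext
      intro x
      exact hcon (Additive.toMul x)
    obtain ⟨a, ha⟩ := this
    have e1 : e ψ * W a * e φ = c ψ a • (e ψ * e φ) := by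
      rw [h6, Matrix.smul_mul]
    have e2 : e ψ * W a * e φ = c φ a • (e ψ * e φ) := by
      rw [Matrix.mul_assoc, h5, Matrix.mul_smul]
    have e3 : (c ψ a - c φ a) • (e ψ * e φ) = 0 := by
      rw [sub_smul, ← e1, ← e2, sub_self]
    exact (smul_eq_zero.mp e3).resolve_left (sub_ne_zero.mpr ha)
  have h1 : ∑ ψ, e ψ = 1 := by
    show ∑ ψ : AddChar (Additive Γ) ℂ, (Fintype.card Γ : ℂ)⁻¹ • ∑ a : Γ, ψ (Additive.ofMul a⁻¹) • W a = 1
    rw [← Finset.smul_sum, Finset.sum_comm]
    have : ∀ a : Γ, ∑ ψ : AddChar (Additive Γ) ℂ, ψ (Additive.ofMul a⁻¹) • W a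
        = (if a = 1 then (Fintype.card Γ : ℂ) else 0) • W a := by
      intro a
      rw [← Finset.sum_smul, AddChar.sum_apply_eq_ite]
      congr 1
      have hc : Fintype.card (Additive Γ) = Fintype.card Γ := Fintype.card_congr Additive.toMul
      by_cases h : a = 1
      · subst h; simp [hc]
      · have : ¬ (Additive.ofMul a⁻¹ = 0) := by
          intro h0
          apply h
          have : a⁻¹ = 1 := by simpa using h0
          simpa using this
        simp [h, this]
    simp only [this]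
    rw [Finset.sum_eq_single 1]
    · simp [hW1, hcard]
    · intro b _ hb; simp [hb]
    · intro h; exact absurd (Finset.mem_univ _) h
  have h4 : ∀ ψ, e ψ * e ψ = e ψ := by
    intro ψ
    have : e ψ * ∑ φ, e φ = e ψ := by rw [h1, Matrix.mul_one]
    rw [Finset.mul_sum, Finset.sum_eq_single ψ] at this
    · exact this
    · intro φ _ hφ; exact h3 ψ φ (Ne.symm hφ)
    · intro h; exact absurd (Finset.mem_univ _) h
  refine ⟨AddChar (Additive Γ) ℂ, inferInstance, e, c, h1, h2, h3, h4, h5, h6, ?_, hcm, h9⟩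
  intro ψ a
  exact AddChar.norm_apply ψ _

end specdecomp


section frob

variable {n : ℕ}

/-- squared Frobenius norm -/
noncomputable def fN (K : Matrix (Fin n) (Fin n) ℂ) : ℝ :=
  ∑ i, ∑ j, Complex.normSq (K j i)

theorem trace_eq_fN (K : Matrix (Fin n) (Fin n) ℂ) :
    Matrix.trace (Kᴴ * K) = ((fN K : ℝ) : ℂ) := by
  unfold fN
  rw [Matrix.trace]
  push_cast
  apply Finset.sum_congr rfl
  intro i _
  rw [Matrix.diag_apply, Matrix.mul_apply]
  apply Finset.sum_congr rfl
  intro j _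
  rw [Matrix.conjTranspose_apply, Complex.normSq_eq_conj_mul_self]
  rfl

theorem fN_nonneg (K : Matrix (Fin n) (Fin n) ℂ) : 0 ≤ fN K :=
  Finset.sum_nonneg fun _ _ => Finset.sum_nonneg fun _ _ => Complex.normSq_nonneg _

theorem fN_eq_zero {K : Matrix (Fin n) (Fin n) ℂ} : fN K = 0 ↔ K = 0 := by
  constructor
  · intro h
    unfold fN at h
    rw [Finset.sum_eq_zero_iff_of_nonneg
      (fun _ _ => Finset.sum_nonneg fun _ _ => Complex.normSq_nonneg _)] at h
    ext j i
    have h2 := h i (Finset.mem_univ _)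
    rw [Finset.sum_eq_zero_iff_of_nonneg (fun _ _ => Complex.normSq_nonneg _)] at h2
    exact Complex.normSq_eq_zero.mp (h2 j (Finset.mem_univ _))
  · rintro rfl
    simp [fN]

theorem fN_neg (K : Matrix (Fin n) (Fin n) ℂ) : fN (-K) = fN K := by
  simp [fN]

theorem fN_smul (z : ℂ) (K : Matrix (Fin n) (Fin n) ℂ) : fN (z • K) = Complex.normSq z * fN K := by
  simp [fN, Finset.mul_sum]

theorem fN_unitary_left (u K : Matrix (Fin n) (Fin n) ℂ) (hu : uᴴ * u = 1) :
    fN (u * K) = fN K := by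
  apply Complex.ofReal_injective
  rw [← trace_eq_fN, ← trace_eq_fN, Matrix.conjTranspose_mul, Matrix.mul_assoc,
    ← Matrix.mul_assoc uᴴ, hu, Matrix.one_mul]

theorem fN_sub_comm (K L : Matrix (Fin n) (Fin n) ℂ) : fN (K - L) = fN (L - K) := by
  rw [← fN_neg, neg_sub]

end frob

/-- spectral data of a single unitary matrix -/
structure Spec {n : ℕ} (a : Matrix (Fin n) (Fin n) ℂ) : Type (u + 1) where
  ι : Type u
  [fin : Fintype ι]
  e : ι → Matrix (Fin n) (Fin n) ℂ
  l : ι → ℂ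
  sum_e : ∑ i, e i = 1
  herm : ∀ i, (e i)ᴴ = e i
  orth : ∀ i j, i ≠ j → e i * e j = 0
  idem : ∀ i, e i * e i = e i
  left : ∀ i, a * e i = l i • e i
  right : ∀ i, e i * a = l i • e i
  norm_l : ∀ i, ‖l i‖ = 1
  comm : ∀ M : Matrix (Fin n) (Fin n) ℂ, M * a = a * M → ∀ i, M * e i = e i * M

attribute [instance] Spec.fin

section specfacts

variable {n : ℕ} {a : Matrix (Fin n) (Fin n) ℂ} (S : Spec.{u} a)

theorem Spec.pyth (K : Matrix (Fin n) (Fin n) ℂ) :
    fN K = ∑ p : S.ι × S.ι, fN (S.e p.1 * K * S.e p.2) := by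
  apply Complex.ofReal_injective
  rw [← trace_eq_fN]
  push_cast
  have key : ∀ p : S.ι × S.ι, ((fN (S.e p.1 * K * S.e p.2) : ℝ) : ℂ)
      = Matrix.trace (Kᴴ * S.e p.1 * K * S.e p.2) := by
    intro p
    rw [← trace_eq_fN, Matrix.conjTranspose_mul, Matrix.conjTranspose_mul, S.herm, S.herm]
    have e1 : S.e p.2 * (Kᴴ * S.e p.1) * (S.e p.1 * K * S.e p.2)
        = S.e p.2 * (Kᴴ * (S.e p.1 * S.e p.1) * K * S.e p.2) := by
      simp only [Matrix.mul_assoc]
    rw [e1, S.idem, Matrix.trace_mul_comm, Matrix.mul_assoc _ (S.e p.2) (S.e p.2), S.idem]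
  rw [Finset.sum_congr rfl (fun p _ => key p), Fintype.sum_prod_type]
  have h1 : ∀ i : S.ι, ∑ j, (Kᴴ * S.e i * K * S.e j).trace = (Kᴴ * S.e i * K).trace := by
    intro i
    rw [← Matrix.trace_sum, ← Finset.mul_sum, S.sum_e, Matrix.mul_one]
  rw [Finset.sum_congr rfl (fun i _ => h1 i), ← Matrix.trace_sum, ← Finset.sum_mul,
    ← Finset.mul_sum, S.sum_e, Matrix.mul_one]

theorem Spec.eq_sum_left (K : Matrix (Fin n) (Fin n) ℂ) : K = ∑ i, S.e i * K := by
  rw [← Finset.sum_mul, S.sum_e, Matrix.one_mul]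

theorem Spec.l_ne_zero (i : S.ι) : S.l i ≠ 0 := by
  intro h
  have := S.norm_l i
  rw [h, norm_zero] at this
  exact zero_ne_one this

end specfacts


section core

variable {n : ℕ}

/-- all eigenvalues within 30 degrees of 1 -/
def Good (a : Matrix (Fin n) (Fin n) ℂ) : Prop :=
  ∀ (μ : ℂ) (v : Fin n → ℂ), v ≠ 0 → a *ᵥ v = μ • v → Real.sqrt 3 / 2 < μ.re

theorem good_of_proj {a e : Matrix (Fin n) (Fin n) ℂ} (ha : Good a) (μ : ℂ)
    (he : a * e = μ • e) (hne : e ≠ 0) : Real.sqrt 3 / 2 < μ.re := by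
  have : ∃ k, (fun i => e i k) ≠ 0 := by
    by_contra h
    push Not at h
    apply hne
    ext i k
    exact congrFun (h k) i
  obtain ⟨k, hk⟩ := this
  apply ha μ _ hk
  ext i
  have := congrFun (congrFun he i) k
  simpa [Matrix.mulVec, dotProduct, Matrix.mul_apply] using this

theorem Spec.good_l {a : Matrix (Fin n) (Fin n) ℂ} (S : Spec.{u} a) (ha : Good a) (i : S.ι)
    (hi : S.e i ≠ 0) : Real.sqrt 3 / 2 < (S.l i).re :=
  good_of_proj ha _ (S.left i) hi

theorem sqrt3_pos : 0 < Real.sqrt 3 / 2 := by positivity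

theorem arc (u v : ℂ) (hu : ‖u‖ = 1) (hv : ‖v‖ = 1) (hu' : Real.sqrt 3 / 2 < u.re)
    (hv' : Real.sqrt 3 / 2 < v.re) : Complex.normSq (u - v) < 1 := by
  have h3 : Real.sqrt 3 ^ 2 = 3 := Real.sq_sqrt (by norm_num)
  have hr : (Real.sqrt 3 / 2) ^ 2 = 3 / 4 := by rw [div_pow, h3]; norm_num
  have hr0 := sqrt3_pos
  have hu2 : u.re * u.re + u.im * u.im = 1 := by
    have := Complex.sq_norm u
    rw [hu, Complex.normSq_apply] at this
    linarith
  have hv2 : v.re * v.re + v.im * v.im = 1 := by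
    have := Complex.sq_norm v
    rw [hv, Complex.normSq_apply] at this
    linarith
  generalize Real.sqrt 3 / 2 = r at *
  rw [Complex.normSq_apply]
  simp only [Complex.sub_re, Complex.sub_im]
  have h1 : 3 / 4 < u.re * v.re := by nlinarith [mul_pos (sub_pos.mpr hu') (sub_pos.mpr hv')]
  have h2 : u.im * u.im < 1 / 4 := by nlinarith
  have h4 : v.im * v.im < 1 / 4 := by nlinarith
  nlinarith [sq_nonneg (u.im + v.im)]

theorem fN_zero : fN (0 : Matrix (Fin n) (Fin n) ℂ) = 0 := fN_eq_zero.mpr rfl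

theorem Spec.nr {a : Matrix (Fin n) (Fin n) ℂ} (S : Spec.{u} a) (ha : Good a)
    (E : Matrix (Fin n) (Fin n) ℂ) (h : Eᴴ * a * E = 0) : E = 0 := by
  have ha_sum : a = ∑ i, S.l i • S.e i := by
    calc a = a * ∑ i, S.e i := by rw [S.sum_e, Matrix.mul_one]
      _ = ∑ i, S.l i • S.e i := by
          rw [Finset.mul_sum]; exact Finset.sum_congr rfl (fun i _ => S.left i)
  have h2 : ∑ i, S.l i * ((fN (S.e i * E) : ℝ) : ℂ) = 0 := by
    have htr : Matrix.trace (Eᴴ * a * E) = 0 := by rw [h]; simp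
    have e1 : Eᴴ * a * E = ∑ i, S.l i • ((S.e i * E)ᴴ * (S.e i * E)) := by
      conv_lhs => rw [ha_sum]
      rw [Finset.mul_sum, Finset.sum_mul]
      apply Finset.sum_congr rfl
      intro i _
      rw [Matrix.mul_smul, Matrix.smul_mul, Matrix.conjTranspose_mul, S.herm]
      congr 1
      rw [Matrix.mul_assoc Eᴴ (S.e i) (S.e i * E), ← Matrix.mul_assoc (S.e i), S.idem,
        Matrix.mul_assoc]
    rw [e1, Matrix.trace_sum] at htr
    rw [← htr]
    apply Finset.sum_congr rfl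
    intro i _
    rw [Matrix.trace_smul, trace_eq_fN, smul_eq_mul]
  have h3 : ∑ i, (S.l i).re * fN (S.e i * E) = 0 := by
    have := congrArg Complex.re h2
    simpa [Complex.re_sum, Complex.mul_re] using this
  have hnn : ∀ i ∈ Finset.univ, 0 ≤ (S.l i).re * fN (S.e i * E) := by
    intro i _
    by_cases hz : S.e i * E = 0
    · rw [hz, fN_zero, mul_zero]
    · have hei : S.e i ≠ 0 := by
        rintro h0; apply hz; rw [h0, Matrix.zero_mul]
      have := S.good_l ha i hei
      have hs := sqrt3_pos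
      exact mul_nonneg (by linarith) (fN_nonneg _)
  have h5 := (Finset.sum_eq_zero_iff_of_nonneg hnn).mp h3
  have h4 : ∀ i, S.e i * E = 0 := by
    intro i
    by_contra hz
    have hei : S.e i ≠ 0 := by
      rintro h0; apply hz; rw [h0, Matrix.zero_mul]
    have hl := S.good_l ha i hei
    have hpos : 0 < fN (S.e i * E) :=
      lt_of_le_of_ne (fN_nonneg _) (fun h => hz (fN_eq_zero.mp h.symm))
    have h6 := h5 i (Finset.mem_univ _)
    have hs := sqrt3_pos
    have : 0 < (S.l i).re * fN (S.e i * E) := mul_pos (by linarith) hpos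
    linarith
  rw [S.eq_sum_left E]
  exact Finset.sum_eq_zero (fun i _ => h4 i)

theorem Spec.decrease {a : Matrix (Fin n) (Fin n) ℂ} (S : Spec.{u} a) (ha : Good a)
    (b : Matrix (Fin n) (Fin n) ℂ) :
    fN (a * b - b * a) ≤ fN (b - 1) ∧ (a * b - b * a ≠ 0 → fN (a * b - b * a) < fN (b - 1)) := by
  have ht : ∀ p : S.ι × S.ι,
      fN (S.e p.1 * (a * b - b * a) * S.e p.2) ≤ fN (S.e p.1 * (b - 1) * S.e p.2) ∧
      (fN (S.e p.1 * (a * b - b * a) * S.e p.2) ≠ 0 →
        fN (S.e p.1 * (a * b - b * a) * S.e p.2) < fN (S.e p.1 * (b - 1) * S.e p.2)) := by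
    rintro ⟨i, j⟩
    simp only
    have hM : S.e i * (a * b - b * a) * S.e j = (S.l i - S.l j) • (S.e i * b * S.e j) := by
      have t1 : S.e i * (a * b) * S.e j = S.l i • (S.e i * b * S.e j) := by
        rw [← Matrix.mul_assoc, S.right, Matrix.smul_mul, Matrix.smul_mul]
      have t2 : S.e i * (b * a) * S.e j = S.l j • (S.e i * b * S.e j) := by
        rw [← Matrix.mul_assoc, Matrix.mul_assoc (S.e i * b), S.left, Matrix.mul_smul]
      rw [Matrix.mul_sub, Matrix.sub_mul, t1, t2, sub_smul]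
    by_cases hij : i = j
    · subst hij
      rw [hM, sub_self, zero_smul, fN_zero]
      exact ⟨fN_nonneg _, fun h => absurd rfl h⟩
    · have hb1 : S.e i * (b - 1) * S.e j = S.e i * b * S.e j := by
        rw [Matrix.mul_sub, Matrix.sub_mul, Matrix.mul_one, S.orth i j hij, sub_zero]
      rw [hM, hb1, fN_smul]
      by_cases hs : fN (S.e i * b * S.e j) = 0
      · rw [hs, mul_zero]; exact ⟨le_refl _, fun h => absurd rfl h⟩
      · have hne : S.e i * b * S.e j ≠ 0 := fun h => hs (fN_eq_zero.mpr h)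
        have hi : S.e i ≠ 0 := by
          rintro h; apply hne; rw [h]; simp
        have hj : S.e j ≠ 0 := by
          rintro h; apply hne; rw [h]; simp
        have harc := arc (S.l i) (S.l j) (S.norm_l i) (S.norm_l j) (S.good_l ha i hi)
          (S.good_l ha j hj)
        have hpos : 0 < fN (S.e i * b * S.e j) := lt_of_le_of_ne (fN_nonneg _) (Ne.symm hs)
        constructor
        · nlinarith
        · intro _; nlinarith
  rw [S.pyth (a * b - b * a), S.pyth (b - 1)]
  constructor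
  · exact Finset.sum_le_sum (fun p _ => (ht p).1)
  · intro hM
    have hpos : fN (a * b - b * a) ≠ 0 := fun h => hM (fN_eq_zero.mp h)
    rw [S.pyth (a * b - b * a)] at hpos
    obtain ⟨p, _, hp⟩ := Finset.exists_ne_zero_of_sum_ne_zero hpos
    exact Finset.sum_lt_sum (fun p _ => (ht p).1) ⟨p, Finset.mem_univ _, (ht p).2 hp⟩

theorem descent {a : Matrix (Fin n) (Fin n) ℂ} (S : Spec.{u} a) (haa : aᴴ * a = 1)
    (b : Matrix (Fin n) (Fin n) ℂ) (hbb : bᴴ * b = 1) (c : Matrix (Fin n) (Fin n) ℂ)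
    (hc : c = aᴴ * bᴴ * a * b) (S' : Spec.{u} c) (hac : a * c = c * a)
    (hNR : ∀ (μ : ℂ) (E : Matrix (Fin n) (Fin n) ℂ), a * E = μ • E → Eᴴ * b * E = 0 → E = 0) :
    c = 1 := by
  have haa' : a * aᴴ = 1 := mul_eq_one_comm.mp haa
  have hbb' : b * bᴴ = 1 := mul_eq_one_comm.mp hbb
  have hab : a * b = b * a * c := by
    rw [hc]
    simp only [← Matrix.mul_assoc]
    rw [Matrix.mul_assoc b a aᴴ, haa', Matrix.mul_one, hbb', Matrix.one_mul]
  have hzero : ∀ j : S'.ι, S'.l j ≠ 1 → S'.e j = 0 := by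
    intro j hj
    have hcomm1 : ∀ i, S.e i * S'.e j = S'.e j * S.e i := by
      intro i
      have h1 : a * S'.e j = S'.e j * a := S'.comm a hac j
      exact (S.comm (S'.e j) h1.symm i).symm
    have hz : ∀ i, S.e i * S'.e j = 0 := by
      intro i
      have hcE : c * (S.e i * S'.e j) = S'.l j • (S.e i * S'.e j) := by
        rw [hcomm1 i, ← Matrix.mul_assoc, S'.left, Matrix.smul_mul]
      have haE : a * (S.e i * S'.e j) = S.l i • (S.e i * S'.e j) := by
        rw [← Matrix.mul_assoc, S.left, Matrix.smul_mul]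
      generalize S.e i * S'.e j = E at hcE haE
      apply hNR (S.l i) E haE
      have habE : a * (b * E) = (S'.l j * S.l i) • (b * E) := by
        rw [← Matrix.mul_assoc, hab, Matrix.mul_assoc, Matrix.mul_assoc, hcE, Matrix.mul_smul,
          haE, Matrix.mul_smul, Matrix.mul_smul, smul_smul]
      have hEa : Eᴴ * a = S.l i • Eᴴ := by
        have h1 : aᴴ * E = (S.l i)⁻¹ • E := by
          have h0 : aᴴ * (a * E) = S.l i • (aᴴ * E) := by rw [haE, Matrix.mul_smul]
          rw [← Matrix.mul_assoc, haa, Matrix.one_mul] at h0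
          calc aᴴ * E = (S.l i)⁻¹ • (S.l i • (aᴴ * E)) := by
                rw [smul_smul, inv_mul_cancel₀ (S.l_ne_zero i), one_smul]
            _ = (S.l i)⁻¹ • E := by rw [← h0]
        have h2 := congrArg Matrix.conjTranspose h1
        rw [Matrix.conjTranspose_mul, Matrix.conjTranspose_conjTranspose,
          Matrix.conjTranspose_smul] at h2
        rw [h2]
        congr 1
        rw [Complex.inv_eq_conj (S.norm_l i)]
        simp
      have e1 : Eᴴ * (a * (b * E)) = (S'.l j * S.l i) • (Eᴴ * b * E) := by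
        rw [habE, Matrix.mul_smul, Matrix.mul_assoc]
      have e2 : Eᴴ * (a * (b * E)) = S.l i • (Eᴴ * b * E) := by
        rw [← Matrix.mul_assoc, hEa, Matrix.smul_mul, Matrix.mul_assoc]
      have key : (S.l i * (1 - S'.l j)) • (Eᴴ * b * E) = 0 := by
        rw [mul_sub, mul_one, sub_smul, ← e2, mul_comm, ← e1, sub_self]
      rcases smul_eq_zero.mp key with h | h
      · exfalso
        rcases mul_eq_zero.mp h with h | h
        · exact S.l_ne_zero i h
        · exact hj (sub_eq_zero.mp h).symm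
      · exact h
    rw [S.eq_sum_left (S'.e j)]
    exact Finset.sum_eq_zero (fun i _ => hz i)
  calc c = c * ∑ j, S'.e j := by rw [S'.sum_e, Matrix.mul_one]
    _ = ∑ j, S'.e j := by
        rw [Finset.mul_sum]
        apply Finset.sum_congr rfl
        intro j _
        rw [S'.left]
        by_cases hj : S'.l j = 1
        · rw [hj, one_smul]
        · rw [hzero j hj, smul_zero]
    _ = 1 := S'.sum_e

end core


section grp

variable {G : Type u} [Group G] [Finite G] {n : ℕ} (U : G → Matrix (Fin n) (Fin n) ℂ)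
  (hU1 : U 1 = 1) (hUm : ∀ a b, U (a * b) = U a * U b) (hUs : ∀ a, (U a)ᴴ = U a⁻¹)

include hU1 hUm in
theorem U_inv_mul (a : G) : U a⁻¹ * U a = 1 := by rw [← hUm, inv_mul_cancel, hU1]

include hU1 hUm in
theorem U_mul_inv (a : G) : U a * U a⁻¹ = 1 := by rw [← hUm, mul_inv_cancel, hU1]

include hU1 hUm hUs in
theorem U_unitary (a : G) : (U a)ᴴ * U a = 1 := by rw [hUs, U_inv_mul U hU1 hUm]

include hU1 hUm hUs in
theorem spec_single (x : G) : Nonempty (Spec.{u} (U x)) := by
  classical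
  letI : CommGroup (Subgroup.zpowers x) :=
    { (inferInstance : Group (Subgroup.zpowers x)) with
      mul_comm := by
        rintro ⟨a, ha⟩ ⟨b, hb⟩
        apply Subtype.ext
        obtain ⟨i, rfl⟩ := Subgroup.mem_zpowers_iff.mp ha
        obtain ⟨j, rfl⟩ := Subgroup.mem_zpowers_iff.mp hb
        show x ^ i * x ^ j = x ^ j * x ^ i
        rw [← _root_.zpow_add, ← _root_.zpow_add, add_comm] }
  obtain ⟨ι, inst, e, c, h1, h2, h3, h4, h5, h6, h7, h8, h9⟩ :=
    spec_decomp (Γ := Subgroup.zpowers x) (fun γ => U γ.1) hU1 (fun a b => hUm a.1 b.1)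
      (fun a => hUs a.1)
  refine ⟨{
    ι := ι
    e := e
    l := fun i => c i ⟨x, Subgroup.mem_zpowers x⟩
    sum_e := h1
    herm := h2
    orth := h3
    idem := h4
    left := fun i => h5 i ⟨x, Subgroup.mem_zpowers x⟩
    right := fun i => h6 i ⟨x, Subgroup.mem_zpowers x⟩
    norm_l := fun i => h7 i _
    comm := ?_ }⟩
  intro M hM i
  apply h9 M
  rintro ⟨γ, hγ⟩
  show M * U γ = U γ * M
  let T : Subgroup G :=
    { carrier := {γ | M * U γ = U γ * M}
      mul_mem' := by
        intro a b ha hb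
        show M * U (a * b) = U (a * b) * M
        rw [hUm, ← Matrix.mul_assoc, ha, Matrix.mul_assoc, hb, Matrix.mul_assoc]
      one_mem' := by
        show M * U 1 = U 1 * M
        rw [hU1, Matrix.mul_one, Matrix.one_mul]
      inv_mem' := by
        intro a ha
        show M * U a⁻¹ = U a⁻¹ * M
        have h := congrArg (fun K => U a⁻¹ * K * U a⁻¹) (show M * U a = U a * M from ha)
        beta_reduce at h
        have hL : U a⁻¹ * (M * U a) * U a⁻¹ = U a⁻¹ * M := by
          rw [Matrix.mul_assoc, Matrix.mul_assoc, U_mul_inv U hU1 hUm, Matrix.mul_one]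
        have hR : U a⁻¹ * (U a * M) * U a⁻¹ = M * U a⁻¹ := by
          rw [← Matrix.mul_assoc, U_inv_mul U hU1 hUm, Matrix.one_mul]
        rw [hL, hR] at h
        exact h.symm }
  have hx : x ∈ T := hM
  exact (Subgroup.zpowers_le.mpr hx) hγ

include hU1 hUm in
theorem good_conj (x g : G) (hx : Good (U x)) : Good (U (g * x * g⁻¹)) := by
  intro μ v hv hev
  have hw : U g⁻¹ *ᵥ v ≠ 0 := by
    intro h0
    apply hv
    have : U g *ᵥ (U g⁻¹ *ᵥ v) = v := by
      rw [Matrix.mulVec_mulVec, U_mul_inv U hU1 hUm, Matrix.one_mulVec]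
    rw [← this, h0, Matrix.mulVec_zero]
  apply hx μ _ hw
  have h1 : U g⁻¹ *ᵥ (U (g * x * g⁻¹) *ᵥ v) = μ • (U g⁻¹ *ᵥ v) := by
    rw [hev, Matrix.mulVec_smul]
  rw [Matrix.mulVec_mulVec, ← hUm] at h1
  have e : g⁻¹ * (g * x * g⁻¹) = x * g⁻¹ := by group
  rw [e, hUm, ← Matrix.mulVec_mulVec] at h1
  exact h1

theorem cm_eq_one_iff (x y : G) : x⁻¹ * y⁻¹ * x * y = 1 ↔ x * y = y * x := by
  constructor
  · intro h
    have : x * y = y * x * (x⁻¹ * y⁻¹ * x * y) := by group
    rw [this, h, mul_one]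
  · intro h
    have : x⁻¹ * y⁻¹ * x * y = x⁻¹ * y⁻¹ * (x * y) := by group
    rw [this, h]; group

include hU1 hUm hUs in
theorem comm_of_good (hinj : ∀ g, U g = 1 → g = 1) (x y : G) (hx : Good (U x))
    (hy : Good (U y)) : x * y = y * x := by
  obtain ⟨S⟩ := spec_single U hU1 hUm hUs x
  have hUcm : ∀ d : G, U (x⁻¹ * d⁻¹ * x * d) = (U x)ᴴ * (U d)ᴴ * U x * U d := by
    intro d; rw [hUm, hUm, hUm, hUs, hUs]
  -- (a) decrease
  have hdec : ∀ d : G, x⁻¹ * d⁻¹ * x * d ≠ 1 →
      fN (1 - U (x⁻¹ * d⁻¹ * x * d)) < fN (1 - U d) := by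
    intro d hd
    have e1 : 1 - U (x⁻¹ * d⁻¹ * x * d) = U (x⁻¹ * d⁻¹) * (U d * U x - U x * U d) := by
      rw [Matrix.mul_sub, ← hUm, ← hUm, ← hUm, ← hUm]
      have e2 : x⁻¹ * d⁻¹ * (d * x) = 1 := by group
      have e3 : x⁻¹ * d⁻¹ * (x * d) = x⁻¹ * d⁻¹ * x * d := by group
      rw [e2, e3, hU1]
    have hu : (U (x⁻¹ * d⁻¹))ᴴ * U (x⁻¹ * d⁻¹) = 1 := U_unitary U hU1 hUm hUs _
    rw [e1, fN_unitary_left _ _ hu, fN_sub_comm (U d * U x), fN_sub_comm 1 (U d)]
    apply (S.decrease hx (U d)).2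
    intro h0
    apply hd
    apply hinj
    rw [hUcm, Matrix.mul_assoc, sub_eq_zero.mp h0, ← Matrix.mul_assoc, Matrix.mul_assoc (U x)ᴴ,
      U_unitary U hU1 hUm hUs d, Matrix.mul_one, U_unitary U hU1 hUm hUs x]
  -- (b) numerical range for good elements
  have hNRx : ∀ E : Matrix (Fin n) (Fin n) ℂ, Eᴴ * U x * E = 0 → E = 0 := S.nr hx
  have hNRy : ∀ (μ : ℂ) (E : Matrix (Fin n) (Fin n) ℂ), U x * E = μ • E →
      Eᴴ * U y * E = 0 → E = 0 := by
    intro μ E _ h
    obtain ⟨Sy⟩ := spec_single U hU1 hUm hUs y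
    exact Sy.nr hy E h
  -- (c) numerical range for commutators
  have hNRc : ∀ (d : G) (μ : ℂ) (E : Matrix (Fin n) (Fin n) ℂ), U x * E = μ • E →
      Eᴴ * U (x⁻¹ * d⁻¹ * x * d) * E = 0 → E = 0 := by
    intro d μ E hE h
    by_cases hμ : μ = 0
    · rw [hμ, zero_smul] at hE
      have : U x⁻¹ * (U x * E) = E := by
        rw [← Matrix.mul_assoc, U_inv_mul U hU1 hUm, Matrix.one_mul]
      rw [← this, hE, Matrix.mul_zero]
    · have h1 : Eᴴ * (U x)ᴴ = star μ • Eᴴ := by
        rw [← Matrix.conjTranspose_mul, hE, Matrix.conjTranspose_smul]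
      have h2 : Eᴴ * U (x⁻¹ * d⁻¹ * x * d) * E
          = star μ • ((U d * E)ᴴ * U x * (U d * E)) := by
        rw [hUcm, Matrix.conjTranspose_mul]
        simp only [← Matrix.mul_assoc]
        rw [h1]
        simp only [Matrix.smul_mul]
      rw [h2] at h
      have h3 : (U d * E)ᴴ * U x * (U d * E) = 0 :=
        (smul_eq_zero.mp h).resolve_left (by simpa using hμ)
      have h4 := hNRx _ h3
      have : U d⁻¹ * (U d * E) = E := by
        rw [← Matrix.mul_assoc, U_inv_mul U hU1 hUm, Matrix.one_mul]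
      rw [← this, h4, Matrix.mul_zero]
  -- (d) descent
  have hdesc : ∀ d : G, (∀ (μ : ℂ) (E : Matrix (Fin n) (Fin n) ℂ), U x * E = μ • E →
      Eᴴ * U d * E = 0 → E = 0) → x * (x⁻¹ * d⁻¹ * x * d) = (x⁻¹ * d⁻¹ * x * d) * x →
      x⁻¹ * d⁻¹ * x * d = 1 := by
    intro d hNR hcomm
    obtain ⟨S'⟩ := spec_single U hU1 hUm hUs (x⁻¹ * d⁻¹ * x * d)
    apply hinj
    exact descent S (U_unitary U hU1 hUm hUs x) (U d) (U_unitary U hU1 hUm hUs d) _ (hUcm d) S'
      (by rw [← hUm, hcomm, hUm]) hNR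
  -- (e) the sequence
  let cm : G → G := fun d => x⁻¹ * d⁻¹ * x * d
  have hys : ∀ i : ℕ, cm^[i + 1] y = x⁻¹ * (cm^[i] y)⁻¹ * x * cm^[i] y := by
    intro i
    rw [Function.iterate_succ_apply']
  have hex : ∃ m : ℕ, cm^[m] y = 1 := by
    by_contra hcon
    push Not at hcon
    have hanti : StrictAnti (fun i : ℕ => fN (1 - U (cm^[i] y))) := by
      apply strictAnti_nat_of_succ_lt
      intro i
      have := hdec (cm^[i] y) (by rw [← hys]; exact hcon (i + 1))
      rw [← hys] at this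
      exact this
    have hinj2 : Function.Injective (fun i : ℕ => cm^[i] y) := by
      intro i j hij
      apply hanti.injective
      show fN (1 - U (cm^[i] y)) = fN (1 - U (cm^[j] y))
      simp only at hij
      rw [hij]
    exact not_injective_infinite_finite _ hinj2
  have hQ : ∀ m : ℕ, cm^[m + 1] y = 1 → cm^[1] y = 1 := by
    intro m
    induction m with
    | zero => exact fun h => h
    | succ m ih =>
      intro h
      apply ih
      rw [hys (m + 1)] at h
      have hcomm : x * cm^[m + 1] y = cm^[m + 1] y * x := (cm_eq_one_iff x _).mp h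
      rw [hys m] at hcomm ⊢
      apply hdesc (cm^[m] y) _ hcomm
      cases m with
      | zero => exact hNRy
      | succ k =>
        rw [hys k]
        exact hNRc (cm^[k] y)
  obtain ⟨m, hm⟩ := hex
  cases m with
  | zero =>
    have : y = 1 := hm
    rw [this, mul_one, one_mul]
  | succ m =>
    have := hQ m hm
    exact (cm_eq_one_iff x y).mp this

end grp


theorem exists_box : ∃ β : ℂ → Fin 12, ∀ u v : ℂ, ‖u‖ = 1 → ‖v‖ = 1 → β u = β v →
    Real.sqrt 3 / 2 < (u⁻¹ * v).re := by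
  have hpi := Real.pi_pos
  have ht0 : ∀ u : ℂ, 0 < (Complex.arg u + Real.pi) * (6 / Real.pi) := by
    intro u
    have := Complex.neg_pi_lt_arg u
    have h6 : 0 < 6 / Real.pi := by positivity
    exact mul_pos (by linarith) h6
  have ht12 : ∀ u : ℂ, (Complex.arg u + Real.pi) * (6 / Real.pi) ≤ 12 := by
    intro u
    have := Complex.arg_le_pi u
    have h6 : 0 < 6 / Real.pi := by positivity
    have : (Complex.arg u + Real.pi) * (6 / Real.pi) ≤ (Real.pi + Real.pi) * (6 / Real.pi) :=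
      mul_le_mul_of_nonneg_right (by linarith) h6.le
    have e : (Real.pi + Real.pi) * (6 / Real.pi) = 12 := by field_simp; ring
    linarith
  refine ⟨fun u => ⟨(⌈(Complex.arg u + Real.pi) * (6 / Real.pi)⌉₊ - 1) % 12,
    Nat.mod_lt _ (by norm_num)⟩, ?_⟩
  intro u v hu hv h
  have h' : (⌈(Complex.arg u + Real.pi) * (6 / Real.pi)⌉₊ - 1) % 12
      = (⌈(Complex.arg v + Real.pi) * (6 / Real.pi)⌉₊ - 1) % 12 := by
    simpa using congrArg Fin.val h
  have hcu1 : 0 < ⌈(Complex.arg u + Real.pi) * (6 / Real.pi)⌉₊ := Nat.ceil_pos.mpr (ht0 u)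
  have hcu2 : ⌈(Complex.arg u + Real.pi) * (6 / Real.pi)⌉₊ ≤ 12 :=
    Nat.ceil_le.mpr (by exact_mod_cast ht12 u)
  have hcv1 : 0 < ⌈(Complex.arg v + Real.pi) * (6 / Real.pi)⌉₊ := Nat.ceil_pos.mpr (ht0 v)
  have hcv2 : ⌈(Complex.arg v + Real.pi) * (6 / Real.pi)⌉₊ ≤ 12 :=
    Nat.ceil_le.mpr (by exact_mod_cast ht12 v)
  have hceq : ⌈(Complex.arg u + Real.pi) * (6 / Real.pi)⌉₊
      = ⌈(Complex.arg v + Real.pi) * (6 / Real.pi)⌉₊ := by omega
  have hu1 := Nat.le_ceil ((Complex.arg u + Real.pi) * (6 / Real.pi))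
  have hu2 := Nat.ceil_lt_add_one (ht0 u).le
  have hv1 := Nat.le_ceil ((Complex.arg v + Real.pi) * (6 / Real.pi))
  have hv2 := Nat.ceil_lt_add_one (ht0 v).le
  rw [hceq] at hu1 hu2
  have hd : |Complex.arg v - Complex.arg u| < Real.pi / 6 := by
    have e : Complex.arg v - Complex.arg u
        = ((Complex.arg v + Real.pi) * (6 / Real.pi) - (Complex.arg u + Real.pi) * (6 / Real.pi))
          * (Real.pi / 6) := by
      field_simp; ring
    rw [e, abs_mul, abs_of_pos (by positivity : 0 < Real.pi / 6)]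
    have h1 : |(Complex.arg v + Real.pi) * (6 / Real.pi) - (Complex.arg u + Real.pi) * (6 / Real.pi)|
        < 1 := abs_lt.mpr ⟨by linarith, by linarith⟩
    have hp6 : 0 < Real.pi / 6 := by positivity
    nlinarith
  have hu' : Complex.exp (Complex.arg u * Complex.I) = u := by
    have := Complex.norm_mul_exp_arg_mul_I u
    rw [hu] at this
    simpa using this
  have hv' : Complex.exp (Complex.arg v * Complex.I) = v := by
    have := Complex.norm_mul_exp_arg_mul_I v
    rw [hv] at this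
    simpa using this
  have e2 : u⁻¹ * v = Complex.exp (((Complex.arg v - Complex.arg u : ℝ) : ℂ) * Complex.I) := by
    conv_lhs => rw [← hu', ← hv']
    rw [← Complex.exp_neg, ← Complex.exp_add]
    congr 1
    push_cast
    ring
  rw [e2, Complex.exp_ofReal_mul_I_re, ← Real.cos_abs, ← Real.cos_pi_div_six]
  exact Real.cos_lt_cos_of_nonneg_of_le_pi (abs_nonneg _) (by linarith) hd

theorem card_nonzero_le {n : ℕ} {ι : Type u} [Fintype ι] (e : ι → Matrix (Fin n) (Fin n) ℂ)
    (horth : ∀ i j, i ≠ j → e i * e j = 0) (hidem : ∀ i, e i * e i = e i) :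
    Fintype.card {i // e i ≠ 0} ≤ n := by
  classical
  have hcol : ∀ i : {i // e i ≠ 0}, ∃ k, (fun r => e i.1 r k) ≠ 0 := by
    intro i
    by_contra h
    push Not at h
    apply i.2
    ext r k
    exact congrFun (h k) r
  choose k hk using hcol
  have hmul : ∀ i j : {i // e i ≠ 0}, e j.1 *ᵥ (fun r => e i.1 r (k i))
      = if i = j then (fun r => e i.1 r (k i)) else 0 := by
    intro i j
    have h0 : e j.1 *ᵥ (fun r => e i.1 r (k i)) = fun r => (e j.1 * e i.1) r (k i) := by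
      ext r
      simp [Matrix.mulVec, dotProduct, Matrix.mul_apply]
    rw [h0]
    by_cases hij : i = j
    · subst hij
      rw [if_pos rfl, hidem]
    · rw [if_neg hij, horth j.1 i.1 (fun h => hij (Subtype.ext h.symm))]
      rfl
  have hli : LinearIndependent ℂ (fun i : {i // e i ≠ 0} => (fun r => e i.1 r (k i))) := by
    rw [Fintype.linearIndependent_iff]
    intro g hg j
    have h1 := congrArg (fun w => e j.1 *ᵥ w) hg
    simp only [Matrix.mulVec_sum, Matrix.mulVec_smul, hmul, Matrix.mulVec_zero] at h1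
    rw [Finset.sum_eq_single j] at h1
    · rw [if_pos rfl] at h1
      exact (smul_eq_zero.mp h1).resolve_right (hk j)
    · intro b _ hb
      rw [if_neg hb, smul_zero]
    · intro h; exact absurd (Finset.mem_univ _) h
  have := hli.fintype_card_le_finrank
  simpa using this

section grp2

variable {G : Type u} [Group G] [Finite G] {n : ℕ} (U : G → Matrix (Fin n) (Fin n) ℂ)
  (hU1 : U 1 = 1) (hUm : ∀ a b, U (a * b) = U a * U b) (hUs : ∀ a, (U a)ᴴ = U a⁻¹)

include hU1 hUm hUs in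
theorem index_bound (H : Subgroup G) (hH : ∀ x ∈ H, ∀ y ∈ H, x * y = y * x) (A : Subgroup G)
    (hA : ∀ x, Good (U x) → x ∈ A) : (A.subgroupOf H).index ≤ 12 ^ n := by
  classical
  letI : CommGroup H :=
    { (inferInstance : Group H) with
      mul_comm := fun a b => Subtype.ext (hH a.1 a.2 b.1 b.2) }
  obtain ⟨ι, inst, e, c, h1, h2, h3, h4, h5, h6, h7, h8, h9⟩ :=
    spec_decomp (Γ := H) (fun γ => U γ.1) hU1 (fun a b => hUm a.1 b.1) (fun a => hUs a.1)
  obtain ⟨β, hβ⟩ := exists_box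
  have hJ := card_nonzero_le e h3 h4
  have hc1 : ∀ i, c i 1 = 1 := by
    intro i
    have h0 := h8 i 1 1
    rw [mul_one] at h0
    have hne : c i 1 ≠ 0 := by
      intro h0
      have := h7 i 1
      rw [h0, norm_zero] at this
      exact zero_ne_one this
    have : c i 1 * c i 1 = c i 1 * 1 := by rw [mul_one]; exact h0.symm
    exact mul_left_cancel₀ hne this
  have hcinv : ∀ i (a : H), c i a⁻¹ = (c i a)⁻¹ := by
    intro i a
    have h0 := h8 i a⁻¹ a
    rw [inv_mul_cancel, hc1] at h0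
    exact eq_inv_of_mul_eq_one_left h0.symm
  have hF : ∀ h h' : H, (fun i : {i // e i ≠ 0} => β (c i.1 h)) = (fun i => β (c i.1 h')) →
      (h⁻¹ * h' : H) ∈ A.subgroupOf H := by
    intro h h' hFF
    rw [Subgroup.mem_subgroupOf]
    apply hA
    intro μ v hv hev
    have hsum : v = ∑ i, e i *ᵥ v := by
      rw [← Matrix.sum_mulVec, h1, Matrix.one_mulVec]
    have : ∃ i, e i *ᵥ v ≠ 0 := by
      by_contra hcon
      push Not at hcon
      apply hv
      rw [hsum]
      exact Finset.sum_eq_zero (fun i _ => hcon i)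
    obtain ⟨i, hi⟩ := this
    have hei : e i ≠ 0 := by
      rintro h0; apply hi; rw [h0, Matrix.zero_mulVec]
    have e1 : e i *ᵥ (U ((h⁻¹ * h' : H) : G) *ᵥ v) = μ • (e i *ᵥ v) := by
      rw [hev, Matrix.mulVec_smul]
    rw [Matrix.mulVec_mulVec, h6 i (h⁻¹ * h'), Matrix.smul_mulVec] at e1
    have hμ : μ = c i (h⁻¹ * h') := by
      have : (c i (h⁻¹ * h') - μ) • (e i *ᵥ v) = 0 := by rw [sub_smul, e1, sub_self]
      exact (sub_eq_zero.mp ((smul_eq_zero.mp this).resolve_right hi)).symm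
    rw [hμ, h8, hcinv]
    exact hβ _ _ (h7 i h) (h7 i h') (congrFun hFF ⟨i, hei⟩)
  have hinjΦ : Function.Injective
      (fun q : H ⧸ A.subgroupOf H => (fun i : {i // e i ≠ 0} => β (c i.1 q.out))) := by
    intro q q' hq
    have := hF _ _ hq
    rw [← QuotientGroup.eq] at this
    rwa [QuotientGroup.out_eq', QuotientGroup.out_eq'] at this
  have hle := Nat.card_le_card_of_injective _ hinjΦ
  rw [Subgroup.index]
  refine hle.trans ?_
  rw [Nat.card_eq_fintype_card, Fintype.card_fun, Fintype.card_fin]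
  exact Nat.pow_le_pow_right (by norm_num) hJ

end grp2

section unit

open scoped ComplexOrder

theorem unitarize {G : Type u} [Group G] [Finite G] {n : ℕ} (R : G → Matrix (Fin n) (Fin n) ℂ)
    (hR1 : R 1 = 1) (hRm : ∀ a b, R (a * b) = R a * R b) :
    ∃ U : G → Matrix (Fin n) (Fin n) ℂ, U 1 = 1 ∧ (∀ a b, U (a * b) = U a * U b) ∧
      (∀ a, (U a)ᴴ = U a⁻¹) ∧ (∀ g, U g = 1 → R g = 1) := by
  classical
  haveI : Fintype G := Fintype.ofFinite G
  have hH0inv : ∀ a, (R a)ᴴ * (∑ g : G, (R g)ᴴ * R g) * R a = ∑ g : G, (R g)ᴴ * R g := by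
    intro a
    rw [Finset.mul_sum, Finset.sum_mul]
    rw [← Equiv.sum_comp (Equiv.mulRight a) (fun g => (R g)ᴴ * R g)]
    apply Finset.sum_congr rfl
    intro g _
    simp only [Equiv.coe_mulRight]
    rw [hRm, Matrix.conjTranspose_mul]
    simp only [Matrix.mul_assoc]
  have hPD : (∑ g : G, (R g)ᴴ * R g).PosDef := by
    rw [← Finset.add_sum_erase _ _ (Finset.mem_univ (1 : G)), hR1, Matrix.conjTranspose_one,
      Matrix.mul_one]
    apply Matrix.PosDef.add_posSemidef Matrix.PosDef.one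
    apply Matrix.posSemidef_sum
    intro g _
    exact Matrix.posSemidef_conjTranspose_mul_self _
  generalize (∑ g : G, (R g)ᴴ * R g) = H0 at hH0inv hPD
  have hH : H0.IsHermitian := hPD.isHermitian
  have hVV : (hH.eigenvectorUnitary : Matrix (Fin n) (Fin n) ℂ)
      * star (hH.eigenvectorUnitary : Matrix (Fin n) (Fin n) ℂ) = 1 := Unitary.coe_mul_star_self _
  have hVV' : star (hH.eigenvectorUnitary : Matrix (Fin n) (Fin n) ℂ)
      * (hH.eigenvectorUnitary : Matrix (Fin n) (Fin n) ℂ) = 1 := Unitary.coe_star_mul_self _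
  have hspec : H0 = (hH.eigenvectorUnitary : Matrix (Fin n) (Fin n) ℂ)
      * Matrix.diagonal (fun i => ((hH.eigenvalues i : ℝ) : ℂ))
      * star (hH.eigenvectorUnitary : Matrix (Fin n) (Fin n) ℂ) := by
    have := hH.spectral_theorem
    rw [Unitary.conjStarAlgAut_apply] at this
    exact this
  have hpos : ∀ i, 0 < hH.eigenvalues i := hPD.eigenvalues_pos
  generalize (hH.eigenvectorUnitary : Matrix (Fin n) (Fin n) ℂ) = V at hVV hVV' hspec
  generalize hH.eigenvalues = ev at hspec hpos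
  have hBB' : (Matrix.diagonal (fun i => ((Real.sqrt (ev i) : ℝ) : ℂ)) * star V)
      * (V * Matrix.diagonal (fun i => (((Real.sqrt (ev i) : ℝ) : ℂ))⁻¹)) = 1 := by
    rw [Matrix.mul_assoc, ← Matrix.mul_assoc (star V), hVV', Matrix.one_mul,
      Matrix.diagonal_mul_diagonal, ← Matrix.diagonal_one]
    congr 1
    funext i
    apply mul_inv_cancel₀
    exact_mod_cast (Real.sqrt_pos.mpr (hpos i)).ne'
  have hBHB : (Matrix.diagonal (fun i => ((Real.sqrt (ev i) : ℝ) : ℂ)) * star V)ᴴ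
      * (Matrix.diagonal (fun i => ((Real.sqrt (ev i) : ℝ) : ℂ)) * star V) = H0 := by
    rw [hspec, Matrix.conjTranspose_mul, Matrix.diagonal_conjTranspose,
      ← Matrix.star_eq_conjTranspose (star V), star_star, Matrix.mul_assoc,
      ← Matrix.mul_assoc (Matrix.diagonal _), Matrix.diagonal_mul_diagonal, ← Matrix.mul_assoc]
    congr 2
    congr 1
    funext i
    simp only [Pi.star_apply, RCLike.star_def, Complex.conj_ofReal]
    rw [← Complex.ofReal_mul, Real.mul_self_sqrt (hpos i).le]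
  generalize (Matrix.diagonal (fun i => ((Real.sqrt (ev i) : ℝ) : ℂ)) * star V) = B at hBB' hBHB
  generalize (V * Matrix.diagonal (fun i => (((Real.sqrt (ev i) : ℝ) : ℂ))⁻¹)) = B' at hBB'
  have hB'B : B' * B = 1 := mul_eq_one_comm.mp hBB'
  refine ⟨fun g => B * R g * B', ?_, ?_, ?_, ?_⟩
  · show B * R 1 * B' = 1
    rw [hR1, Matrix.mul_one, hBB']
  · intro a b
    show B * R (a * b) * B' = B * R a * B' * (B * R b * B')
    rw [hRm]
    simp only [Matrix.mul_assoc]
    rw [← Matrix.mul_assoc B' B, hB'B, Matrix.one_mul]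
  · intro a
    have hu : (B * R a * B')ᴴ * (B * R a * B') = 1 := by
      rw [Matrix.conjTranspose_mul, Matrix.conjTranspose_mul]
      have e1 : B'ᴴ * ((R a)ᴴ * Bᴴ) * (B * R a * B') = B'ᴴ * ((R a)ᴴ * (Bᴴ * B) * R a) * B' := by
        simp only [Matrix.mul_assoc]
      rw [e1, hBHB, hH0inv, ← hBHB]
      have e2 : B'ᴴ * (Bᴴ * B) * B' = (B * B')ᴴ * (B * B') := by
        rw [Matrix.conjTranspose_mul]
        simp only [Matrix.mul_assoc]
      rw [e2, hBB', Matrix.conjTranspose_one, Matrix.mul_one]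
    have hinv : (B * R a * B') * (B * R a⁻¹ * B') = 1 := by
      have e3 : (B * R a * B') * (B * R a⁻¹ * B') = B * (R a * ((B' * B) * R a⁻¹)) * B' := by
        simp only [Matrix.mul_assoc]
      rw [e3, hB'B, Matrix.one_mul, ← hRm, mul_inv_cancel, hR1, Matrix.mul_one, hBB']
    show (B * R a * B')ᴴ = B * R a⁻¹ * B'
    calc (B * R a * B')ᴴ = (B * R a * B')ᴴ * ((B * R a * B') * (B * R a⁻¹ * B')) := by
          rw [hinv, Matrix.mul_one]
      _ = B * R a⁻¹ * B' := by rw [← Matrix.mul_assoc, hu, Matrix.one_mul]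
  · intro g hg
    have h0 : B * R g * B' = 1 := hg
    have e4 : R g = B' * (B * R g * B') * B := by
      have : B' * (B * R g * B') * B = (B' * B) * R g * (B' * B) := by
        simp only [Matrix.mul_assoc]
      rw [this, hB'B, Matrix.one_mul, Matrix.mul_one]
    rw [e4, h0, Matrix.mul_one, hB'B]

end unit

end helpers


/-- Let the finite group G have a faithful character of degree n. Then G has an abelian normal subgroup A such that every abelian subgroup H of G satisfies [H : H ⊓ A] ≤ 12^n. -/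
theorem result {G : Type*} [Group G] [Finite G] (χ : G → ℂ) (hχ : Cfsg.IsCharacter G χ) (hfaith : ∀ g : G, χ g = χ 1 → g = 1) (n : ℕ) (hn : Cfsg.charDegree χ = n) : ∃ A : Subgroup G, A.Normal ∧ (∀ x ∈ A, ∀ y ∈ A, x * y = y * x) ∧ ∀ H : Subgroup G, (∀ x ∈ H, ∀ y ∈ H, x * y = y * x) → (A.subgroupOf H).index ≤ 12 ^ n := by
  obtain ⟨n', ρ, rfl⟩ := hχ
  have hdeg : n = n' := by
    rw [← hn]
    unfold Cfsg.charDegree
    have h1 : ρ.character 1 = (n' : ℂ) := by
      simp [Representation.character]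
    rw [h1]
    simp
  subst hdeg
  have hR1 : (fun g => LinearMap.toMatrix' (ρ g)) 1 = (1 : Matrix (Fin n) (Fin n) ℂ) := by
    simp
  have hRm : ∀ a b : G, (fun g => LinearMap.toMatrix' (ρ g)) (a * b)
      = (fun g => LinearMap.toMatrix' (ρ g)) a * (fun g => LinearMap.toMatrix' (ρ g)) b := by
    intro a b
    simp [LinearMap.toMatrix'_mul]
  obtain ⟨U, hU1, hUm, hUs, hUf⟩ :=
    unitarize (fun g : G => (LinearMap.toMatrix' (ρ g) : Matrix (Fin n) (Fin n) ℂ)) hR1 hRm
  have hinj : ∀ g, U g = 1 → g = 1 := by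
    intro g hg
    apply hfaith
    have h0 := hUf g hg
    have h1 : ρ g = 1 := by
      apply LinearMap.toMatrix'.injective
      rw [LinearMap.toMatrix'_one]
      exact h0
    show ρ.character g = ρ.character 1
    simp [Representation.character, h1]
  refine ⟨Subgroup.closure {x | Good (U x)}, ?_, ?_, ?_⟩
  · constructor
    intro a ha g
    induction ha using Subgroup.closure_induction with
    | mem x hx => exact Subgroup.subset_closure (good_conj U hU1 hUm x g hx)
    | one => simp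
    | mul x y _ _ hx hy =>
      have : g * (x * y) * g⁻¹ = (g * x * g⁻¹) * (g * y * g⁻¹) := by group
      rw [this]
      exact mul_mem hx hy
    | inv x _ hx =>
      have : g * x⁻¹ * g⁻¹ = (g * x * g⁻¹)⁻¹ := by group
      rw [this]
      exact inv_mem hx
  · have hX : ∀ x ∈ {x | Good (U x)}, ∀ y ∈ {x | Good (U x)}, x * y = y * x :=
      fun x hx y hy => comm_of_good U hU1 hUm hUs hinj x y hx hy
    have h1 : Subgroup.closure {x | Good (U x)}
        ≤ Subgroup.centralizer ({x | Good (U x)} : Set G) := by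
      rw [Subgroup.closure_le]
      intro x hx
      rw [SetLike.mem_coe, Subgroup.mem_centralizer_iff]
      intro y hy
      exact hX y hy x hx
    have h2 : Subgroup.closure {x | Good (U x)}
        ≤ Subgroup.centralizer (Subgroup.closure {x | Good (U x)} : Set G) := by
      rw [Subgroup.closure_le]
      intro x hx
      rw [SetLike.mem_coe, Subgroup.mem_centralizer_iff]
      intro y hy
      have := h1 hy
      rw [Subgroup.mem_centralizer_iff] at this
      exact (this x hx).symm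
    intro x hx y hy
    have := h2 hx
    rw [Subgroup.mem_centralizer_iff] at this
    exact (this y hy).symm
  · intro H hH
    exact index_bound U hU1 hUm hUs H hH _ (fun x hx => Subgroup.subset_closure hx)

end Cfsg.Agent.S4470
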