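import Cfsg.Statements.S4469
import Cfsg.Agent.S4465
import Cfsg.Agent.S4470
import Cfsg.Agent.Lib.helper4.JordanBound

set_option autoImplicit false
open Cfsg

namespace Cfsg.Agent.S4469

/-- The classical bound for finite linear groups, in explicit form. Let the finite group G have a faithful character of degree n. Then G has an abelian normal subgroup whose index is at most n! · 12^(n·(π(n+1)+1)), π(k) denoting the number of primes not exceeding k. -/
theorem result {G : Type*} [Group G] [Finite G] (χ : G → ℂ) (hχ : Cfsg.IsCharacter G χ) (hfaith : ∀ g : G, χ g = χ 1 → g = 1) (n : ℕ) (hn : Cfsg.charDegree χ = n) : ∃ A : Subgroup G, A.Normal ∧ (∀ x ∈ A, ∀ y ∈ A, x * y = y * x) ∧ A.index ≤ Nat.factorial n * 12 ^ (n * (Nat.primeCounting (n + 1) + 1)) := by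
  classical
  obtain ⟨A, hAn, hAab, hAH⟩ := Cfsg.Agent.S4470.result χ hχ hfaith n hn
  refine ⟨A, hAn, hAab, ?_⟩
  apply Cfsg.Agent.Lib.helper4.index_le_of_local_bounds A n hAH
  · intro p hp
    have : Fact p.Prime := ⟨hp⟩
    obtain ⟨P⟩ : Nonempty (Sylow p G) := inferInstance
    have hnil : Group.IsNilpotent ↥(P : Subgroup G) := P.isPGroup'.isNilpotent
    obtain ⟨B₀, hB₀, hB₀i⟩ :=
      Cfsg.Agent.Lib.helper4.exists_abelian_index_dvd_factorial_of_nilpotent
        (P := ↥(P : Subgroup G)) (fun x => χ x)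
        (Cfsg.Agent.Lib.helper4.isCharacter_restrict _ hχ)
        (fun g hg => Subtype.ext (hfaith g hg)) n (by rw [← hn]; rfl)
    refine ⟨B₀.map (P : Subgroup G).subtype, ?_, (P : Subgroup G).index, P.not_dvd_index, ?_⟩
    · rintro x ⟨x', hx', rfl⟩ y ⟨y', hy', rfl⟩
      exact congrArg Subtype.val (hB₀ x' hx' y' hy')
    · rw [Subgroup.index_map_subtype, mul_comm]
      apply Nat.mul_dvd_mul_left
      obtain ⟨j, hj⟩ := P.isPGroup'.index B₀
      rw [hj] at hB₀i ⊢
      exact pow_dvd_pow p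
        ((Nat.Prime.pow_dvd_iff_le_factorization hp (Nat.factorial_ne_zero n)).mp hB₀i)
  · obtain ⟨B, hB, -, hBi⟩ := Cfsg.Agent.S4465.result χ hχ hfaith n hn
    exact ⟨B, hB, hBi⟩

end Cfsg.Agent.S4469
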