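import Mathlib
import Cfsg.Statements.S4473
import Cfsg.Agent.Lib.helper4.CharTheory
import Cfsg.Agent.Lib.helper4.CharDecomp
import Cfsg.Agent.Lib.helper4.Induction
import Cfsg.Agent.Lib.helper19.AbelianOver

set_option autoImplicit false
open Cfsg

namespace Cfsg.Agent.S4473

open Matrix

/-- the commutant of a non-scalar 2×2 matrix is spanned by `1` and the matrix. -/
theorem exists_eq_add_smul (M P : Matrix (Fin 2) (Fin 2) ℂ) (hM : ∀ c : ℂ, M ≠ c • (1 : Matrix (Fin 2) (Fin 2) ℂ))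
    (hP : P * M = M * P) : ∃ α β : ℂ, P = α • (1 : Matrix (Fin 2) (Fin 2) ℂ) + β • M := by
  have h00 := congrFun (congrFun hP 0) 0
  have h01 := congrFun (congrFun hP 0) 1
  have h10 := congrFun (congrFun hP 1) 0
  have h11 := congrFun (congrFun hP 1) 1
  simp only [Matrix.mul_apply, Fin.sum_univ_two] at h00 h01 h10 h11
  by_cases hb : M 0 1 = 0
  · by_cases hc : M 1 0 = 0
    · have had : M 0 0 - M 1 1 ≠ 0 := by
        intro had
        apply hM (M 0 0)
        ext i j
        fin_cases i <;> fin_cases j <;> simp [hb, hc]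
        linear_combination -had
      have hq : P 0 1 = 0 := by
        have : P 0 1 * (M 0 0 - M 1 1) = 0 := by linear_combination -h01 + (P 0 0 - P 1 1) * hb
        rcases mul_eq_zero.mp this with h | h
        · exact h
        · exact absurd h had
      have hr : P 1 0 = 0 := by
        have : P 1 0 * (M 0 0 - M 1 1) = 0 := by linear_combination h10 + (P 0 0 - P 1 1) * hc
        rcases mul_eq_zero.mp this with h | h
        · exact h
        · exact absurd h had
      refine ⟨P 0 0 - (P 0 0 - P 1 1) / (M 0 0 - M 1 1) * M 0 0, (P 0 0 - P 1 1) / (M 0 0 - M 1 1), ?_⟩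
      ext i j
      fin_cases i <;> fin_cases j
      · simp
      · simp [hb, hq]
      · simp [hc, hr]
      · simp
        field_simp
        ring
    · refine ⟨P 0 0 - P 1 0 / M 1 0 * M 0 0, P 1 0 / M 1 0, ?_⟩
      ext i j
      fin_cases i <;> fin_cases j
      · simp
      · simp
        field_simp
        linear_combination h00
      · simp
        field_simp
      · simp
        field_simp
        linear_combination h10
  · refine ⟨P 0 0 - P 0 1 / M 0 1 * M 0 0, P 0 1 / M 0 1, ?_⟩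
    ext i j
    fin_cases i <;> fin_cases j
    · simp
    · simp
      field_simp
    · simp
      field_simp
      linear_combination -h00
    · simp
      field_simp
      linear_combination -h01

theorem comm_of_comm (M P Q : Matrix (Fin 2) (Fin 2) ℂ) (hM : ∀ c : ℂ, M ≠ c • (1 : Matrix (Fin 2) (Fin 2) ℂ))
    (hP : P * M = M * P) (hQ : Q * M = M * Q) : P * Q = Q * P := by
  obtain ⟨α, β, rfl⟩ := exists_eq_add_smul M P hM hP
  obtain ⟨α', β', rfl⟩ := exists_eq_add_smul M Q hM hQ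
  simp only [add_mul, mul_add, smul_mul_assoc, mul_smul_comm, one_mul, mul_one, smul_add, smul_smul]
  rw [mul_comm α α', mul_comm β β', mul_comm α β', mul_comm β α']
  abel

/-- a non-scalar 2×2 matrix of finite order has nonzero discriminant. -/
theorem disc_ne_zero (M : Matrix (Fin 2) (Fin 2) ℂ) (hM : ∀ c : ℂ, M ≠ c • (1 : Matrix (Fin 2) (Fin 2) ℂ))
    (k : ℕ) (hk : 0 < k) (hMk : M ^ k = 1) : M.trace ^ 2 - 4 * M.det ≠ 0 := by
  intro hdisc
  rw [Matrix.trace_fin_two, Matrix.det_fin_two] at hdisc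
  obtain ⟨l, hl⟩ : ∃ l : ℂ, l = (M 0 0 + M 1 1) / 2 := ⟨_, rfl⟩
  obtain ⟨N, hN⟩ : ∃ N : Matrix (Fin 2) (Fin 2) ℂ, N = M - l • (1 : Matrix (Fin 2) (Fin 2) ℂ) := ⟨_, rfl⟩
  have hNN : N * N = 0 := by
    ext i j
    fin_cases i <;> fin_cases j
    · simp [hN, Matrix.mul_apply, Fin.sum_univ_two, hl]
      linear_combination (1/4 : ℂ) * hdisc
    · simp [hN, Matrix.mul_apply, Fin.sum_univ_two, hl]
      ring
    · simp [hN, Matrix.mul_apply, Fin.sum_univ_two, hl]
      ring
    · simp [hN, Matrix.mul_apply, Fin.sum_univ_two, hl]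
      linear_combination (1/4 : ℂ) * hdisc
  have hMN : M = l • (1 : Matrix (Fin 2) (Fin 2) ℂ) + N := by rw [hN]; abel
  have hpow : ∀ j : ℕ, M ^ (j + 1) = (l ^ (j + 1)) • (1 : Matrix (Fin 2) (Fin 2) ℂ) + (((j : ℂ) + 1) * l ^ j) • N := by
    intro j
    induction j with
    | zero => simp [← hMN]
    | succ j ih =>
      rw [pow_succ, ih]
      conv_lhs => rw [hMN]
      simp only [add_mul, mul_add, smul_mul_assoc, mul_smul_comm, one_mul, mul_one, smul_add, smul_smul, hNN, smul_zero, add_zero]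
      rw [add_assoc, ← add_smul]
      congr 2
      · ring
      · push_cast; ring
  obtain ⟨j, rfl⟩ : ∃ j, k = j + 1 := ⟨k - 1, by omega⟩
  rw [hpow j] at hMk
  by_cases hc : ((j : ℂ) + 1) * l ^ j = 0
  · have hlj : l ^ j = 0 := by
      rcases mul_eq_zero.mp hc with h | h
      · exfalso
        have : ((j + 1 : ℕ) : ℂ) = 0 := by push_cast; exact h
        exact Nat.cast_ne_zero.mpr (Nat.succ_ne_zero j) this
      · exact h
    rw [hc, zero_smul, add_zero, pow_succ, hlj, zero_mul, zero_smul] at hMk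
    have := congrFun (congrFun hMk 0) 0
    simp at this
  · apply hM (l + (((j : ℂ) + 1) * l ^ j)⁻¹ * (1 - l ^ (j + 1)))
    have hNeq : N = ((((j : ℂ) + 1) * l ^ j)⁻¹ * (1 - l ^ (j + 1))) • (1 : Matrix (Fin 2) (Fin 2) ℂ) := by
      have h1 : (((j : ℂ) + 1) * l ^ j) • N = (1 - l ^ (j + 1)) • (1 : Matrix (Fin 2) (Fin 2) ℂ) := by
        rw [sub_smul, one_smul]
        rw [eq_sub_iff_add_eq, add_comm]
        exact hMk
      rw [mul_smul, ← h1, smul_smul, inv_mul_cancel₀ hc, one_smul]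
    rw [hMN, add_smul]
    congr 1

/-- a commuting matrix with the same trace and determinant is the matrix itself or its "conjugate". -/
theorem eq_or_eq_trace_sub (M M' : Matrix (Fin 2) (Fin 2) ℂ) (hM : ∀ c : ℂ, M ≠ c • (1 : Matrix (Fin 2) (Fin 2) ℂ))
    (hdisc : M.trace ^ 2 - 4 * M.det ≠ 0) (hcomm : M' * M = M * M') (htr : M'.trace = M.trace)
    (hdet : M'.det = M.det) : M' = M ∨ M' = M.trace • (1 : Matrix (Fin 2) (Fin 2) ℂ) - M := by
  obtain ⟨α, β, rfl⟩ := exists_eq_add_smul M M' hM hcomm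
  rw [Matrix.trace_fin_two, Matrix.det_fin_two] at hdisc
  rw [Matrix.trace_fin_two, Matrix.trace_fin_two] at htr
  rw [Matrix.det_fin_two, Matrix.det_fin_two] at hdet
  simp at htr hdet
  have hα : α = (M 0 0 + M 1 1) * (1 - β) / 2 := by linear_combination (1/2 : ℂ) * htr
  have key : (1 - β) * (1 + β) * ((M 0 0 + M 1 1) ^ 2 - 4 * (M 0 0 * M 1 1 - M 0 1 * M 1 0)) = 0 := by
    rw [hα] at hdet
    linear_combination (4 : ℂ) * hdet
  rcases mul_eq_zero.mp key with h | h
  · rcases mul_eq_zero.mp h with h | h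
    · left
      have hβ : β = 1 := by linear_combination -h
      rw [hα, hβ]
      simp
    · right
      have hβ : β = -1 := by linear_combination h
      rw [hα, hβ, Matrix.trace_fin_two]
      ext i j
      fin_cases i <;> fin_cases j <;> simp <;> ring
  · exact absurd h hdisc


section grp
open Classical

variable {G : Type*} [Group G] [Fintype G]

theorem card_filter_mem (H : Subgroup G) :
    (Finset.univ.filter (fun g : G => g ∈ H)).card = Nat.card H := by
  rw [Nat.card_eq_fintype_card, Fintype.card_subtype]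

variable (R : G →* Matrix (Fin 2) (Fin 2) ℂ) (hR : Function.Injective R)
include hR

theorem nonscalar {x : G} (hx : x ∉ Subgroup.center G) :
    ∀ c : ℂ, R x ≠ c • (1 : Matrix (Fin 2) (Fin 2) ℂ) := by
  intro c hc
  apply hx
  rw [Subgroup.mem_center_iff]
  intro g
  apply hR
  rw [map_mul, map_mul, hc]
  simp

theorem comm_grp {x : G} (hx : x ∉ Subgroup.center G) {y z : G} (hy : y * x = x * y)
    (hz : z * x = x * z) : y * z = z * y := by
  apply hR
  rw [map_mul, map_mul]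
  apply comm_of_comm (R x) (R y) (R z) (nonscalar R hR hx)
  · rw [← map_mul, ← map_mul, hy]
  · rw [← map_mul, ← map_mul, hz]

theorem cent_iff {x y : G} (hx : x ∉ Subgroup.center G) (hy : y ∉ Subgroup.center G)
    (hxy : x * y = y * x) (h : G) : h * y = y * h ↔ h * x = x * h := by
  constructor
  · intro hh
    exact comm_grp R hR hy hh hxy
  · intro hh
    exact comm_grp R hR hx hh hxy.symm

theorem conj_eq {x : G} (hx : x ∉ Subgroup.center G) {n n' : G}
    (hn : (n * x * n⁻¹) * x = x * (n * x * n⁻¹)) (hn1 : n * x * n⁻¹ ≠ x)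
    (hn' : (n' * x * n'⁻¹) * x = x * (n' * x * n'⁻¹)) (hn1' : n' * x * n'⁻¹ ≠ x) :
    n * x * n⁻¹ = n' * x * n'⁻¹ := by
  have hns := nonscalar R hR hx
  have hdisc : (R x).trace ^ 2 - 4 * (R x).det ≠ 0 := by
    apply disc_ne_zero (R x) hns (orderOf x) (orderOf_pos x)
    rw [← map_pow, pow_orderOf_eq_one, map_one]
  have key : ∀ m : G, (m * x * m⁻¹) * x = x * (m * x * m⁻¹) → m * x * m⁻¹ ≠ x →
      R (m * x * m⁻¹) = (R x).trace • (1 : Matrix (Fin 2) (Fin 2) ℂ) - R x := by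
    intro m hm hm1
    have h1 : R m * R m⁻¹ = 1 := by rw [← map_mul, mul_inv_cancel, map_one]
    have h2 : R m⁻¹ * R m = 1 := by rw [← map_mul, inv_mul_cancel, map_one]
    have c1 : R (m * x * m⁻¹) * R x = R x * R (m * x * m⁻¹) := by
      rw [← map_mul, ← map_mul, hm]
    have c2 : (R (m * x * m⁻¹)).trace = (R x).trace := by
      rw [map_mul, map_mul, Matrix.trace_mul_cycle, h2, one_mul]
    have c3 : (R (m * x * m⁻¹)).det = (R x).det := by
      rw [map_mul, map_mul, Matrix.det_mul, Matrix.det_mul, mul_right_comm, ← Matrix.det_mul, h1,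
        Matrix.det_one, one_mul]
    rcases eq_or_eq_trace_sub (R x) (R (m * x * m⁻¹)) hns hdisc c1 c2 c3 with h | h
    · exact absurd (hR h) hm1
    · exact h
  apply hR
  rw [key n hn hn1, key n' hn' hn1']

theorem card_normalizer_le {x : G} (hx : x ∉ Subgroup.center G) :
    Nat.card (Subgroup.normalizer ((Subgroup.centralizer {x} : Subgroup G) : Set G)) ≤
      2 * Nat.card (Subgroup.centralizer ({x} : Set G)) := by
  obtain ⟨A, hA⟩ : ∃ A : Subgroup G, A = Subgroup.centralizer ({x} : Set G) := ⟨_, rfl⟩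
  rw [← hA]
  have hmemA : ∀ k : G, k ∈ A ↔ k * x = x * k := by
    intro k; rw [hA]; exact Subgroup.mem_centralizer_singleton_iff
  have hxA : x ∈ A := (hmemA x).mpr rfl
  by_cases hNA : Subgroup.normalizer (A : Set G) ≤ A
  · calc Nat.card (Subgroup.normalizer (A : Set G)) ≤ Nat.card A := Subgroup.card_le_of_le hNA
      _ ≤ 2 * Nat.card A := by omega
  · obtain ⟨n₀, hn₀N, hn₀A⟩ := SetLike.not_le_iff_exists.mp hNA
    have hprop : ∀ n ∈ Subgroup.normalizer (A : Set G), n ∉ A →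
        (n * x * n⁻¹) * x = x * (n * x * n⁻¹) ∧ n * x * n⁻¹ ≠ x := by
      intro n hn hnA
      refine ⟨(hmemA _).mp ((Subgroup.mem_normalizer_iff.mp hn x).mp hxA), ?_⟩
      intro h
      apply hnA
      rw [hmemA]
      calc n * x = n * x * n⁻¹ * n := by group
        _ = x * n := by rw [h]
    have hsub : ((Subgroup.normalizer (A : Set G) : Subgroup G) : Set G) ⊆
        (A : Set G) ∪ (fun a => n₀ * a) '' (A : Set G) := by
      intro n hn
      by_cases hnA : n ∈ A
      · exact Or.inl hnA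
      · right
        refine ⟨n₀⁻¹ * n, ?_, by group⟩
        rw [SetLike.mem_coe, hmemA]
        have h := conj_eq R hR hx (hprop n hn hnA).1 (hprop n hn hnA).2 (hprop n₀ hn₀N hn₀A).1
          (hprop n₀ hn₀N hn₀A).2
        calc n₀⁻¹ * n * x = n₀⁻¹ * (n * x * n⁻¹) * n := by group
          _ = n₀⁻¹ * (n₀ * x * n₀⁻¹) * n := by rw [h]
          _ = x * (n₀⁻¹ * n) := by group
    calc Nat.card (Subgroup.normalizer (A : Set G))
        = ((Subgroup.normalizer (A : Set G) : Subgroup G) : Set G).ncard := (Nat.card_coe_set_eq _)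
      _ ≤ ((A : Set G) ∪ (fun a => n₀ * a) '' (A : Set G)).ncard :=
          Set.ncard_le_ncard hsub (Set.toFinite _)
      _ ≤ (A : Set G).ncard + ((fun a => n₀ * a) '' (A : Set G)).ncard := Set.ncard_union_le _ _
      _ ≤ (A : Set G).ncard + (A : Set G).ncard :=
          Nat.add_le_add_left (Set.ncard_image_le (Set.toFinite _)) _
      _ = 2 * Nat.card A := by
          have : (A : Set G).ncard = Nat.card A := (Nat.card_coe_set_eq _).symm
          rw [this]; ring

/-- the block of `x`: the non-central elements conjugate into the centralizer of `x`. -/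
noncomputable def blk (x : G) : Finset G :=
  Finset.univ.filter (fun y => y ∉ Subgroup.center G ∧
    ∃ g : G, (g * y * g⁻¹) * x = x * (g * y * g⁻¹))

omit hR in
theorem mem_blk {x y : G} : y ∈ blk x ↔ y ∉ Subgroup.center G ∧
    ∃ g : G, (g * y * g⁻¹) * x = x * (g * y * g⁻¹) := by
  simp [blk]

omit hR in
theorem conj_not_mem_center {y : G} (hy : y ∉ Subgroup.center G) (g : G) :
    g * y * g⁻¹ ∉ Subgroup.center G := by
  intro h
  apply hy
  have : y = g⁻¹ * (g * y * g⁻¹) * g := by group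
  rw [this]
  have hn : (Subgroup.center G).Normal := inferInstance
  have := hn.conj_mem _ h g⁻¹
  simpa using this

omit hR in
theorem self_mem_blk {x : G} (hx : x ∉ Subgroup.center G) : x ∈ blk x :=
  mem_blk.mpr ⟨hx, 1, by simp⟩

theorem blk_eq {x y : G} (hx : x ∉ Subgroup.center G) (hy : y ∈ blk x) : blk y = blk x := by
  obtain ⟨hyZ, g₀, hg₀⟩ := mem_blk.mp hy
  have hy₀Z := conj_not_mem_center hyZ g₀
  -- commuting with `g₀ y g₀⁻¹` is the same as commuting with `x`
  have hiff := cent_iff R hR hx hy₀Z hg₀.symm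
  ext w
  rw [mem_blk, mem_blk]
  constructor
  · rintro ⟨hwZ, h, hh⟩
    refine ⟨hwZ, g₀ * h, ?_⟩
    apply (hiff _).mp
    calc g₀ * h * w * (g₀ * h)⁻¹ * (g₀ * y * g₀⁻¹) = g₀ * ((h * w * h⁻¹) * y) * g₀⁻¹ := by group
      _ = g₀ * (y * (h * w * h⁻¹)) * g₀⁻¹ := by rw [hh]
      _ = g₀ * y * g₀⁻¹ * (g₀ * h * w * (g₀ * h)⁻¹) := by group
  · rintro ⟨hwZ, h, hh⟩
    refine ⟨hwZ, g₀⁻¹ * h, ?_⟩
    have h2 := (hiff _).mpr hh
    calc g₀⁻¹ * h * w * (g₀⁻¹ * h)⁻¹ * y = g₀⁻¹ * ((h * w * h⁻¹) * (g₀ * y * g₀⁻¹)) * g₀ := by group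
      _ = g₀⁻¹ * ((g₀ * y * g₀⁻¹) * (h * w * h⁻¹)) * g₀ := by rw [h2]
      _ = y * (g₀⁻¹ * h * w * (g₀⁻¹ * h)⁻¹) := by group

theorem card_blk_mul {x : G} (hx : x ∉ Subgroup.center G) :
    (blk x).card *
        Nat.card (Subgroup.normalizer ((Subgroup.centralizer {x} : Subgroup G) : Set G)) =
      Nat.card G * (Nat.card (Subgroup.centralizer ({x} : Set G)) -
        Nat.card (Subgroup.center G)) := by
  obtain ⟨A, hA⟩ : ∃ A : Subgroup G, A = Subgroup.centralizer ({x} : Set G) := ⟨_, rfl⟩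
  rw [← hA]
  have hmemA : ∀ k : G, k ∈ A ↔ k * x = x * k := by
    intro k; rw [hA]; exact Subgroup.mem_centralizer_singleton_iff
  have hZA : Subgroup.center G ≤ A := by rw [hA]; exact Subgroup.center_le_centralizer _
  have h1 : ∀ g : G, (Finset.univ.filter (fun y : G => y ∉ Subgroup.center G ∧
      (g * y * g⁻¹) * x = x * (g * y * g⁻¹))).card =
      Nat.card A - Nat.card (Subgroup.center G) := by
    intro g
    rw [← card_filter_mem A, ← card_filter_mem (Subgroup.center G),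
      ← Finset.card_sdiff_of_subset]
    · apply Finset.card_nbij' (fun y => g * y * g⁻¹) (fun w => g⁻¹ * w * g)
      · intro y hy
        simp only [Finset.coe_filter, Finset.mem_univ, true_and, Set.mem_ofPred_eq] at hy
        simp only [Finset.coe_sdiff, Finset.coe_filter, Finset.mem_univ, true_and, Set.mem_sdiff,
          Set.mem_ofPred_eq]
        exact ⟨(hmemA _).mpr hy.2, conj_not_mem_center hy.1 g⟩
      · intro w hw
        simp only [Finset.coe_sdiff, Finset.coe_filter, Finset.mem_univ, true_and, Set.mem_sdiff,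
          Set.mem_ofPred_eq] at hw
        simp only [Finset.coe_filter, Finset.mem_univ, true_and, Set.mem_ofPred_eq]
        refine ⟨?_, ?_⟩
        · have := conj_not_mem_center hw.2 g⁻¹
          simpa using this
        · have e : g * (g⁻¹ * w * g) * g⁻¹ = w := by group
          rw [e]; exact (hmemA _).mp hw.1
      · intro y _
        show g⁻¹ * (g * y * g⁻¹) * g = y
        group
      · intro w _
        show g * (g⁻¹ * w * g) * g⁻¹ = w
        group
    · intro w hw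
      simp only [Finset.mem_filter, Finset.mem_univ, true_and] at hw ⊢
      exact hZA hw
  have h2 : ∀ y ∈ blk x, (Finset.univ.filter (fun g : G => y ∉ Subgroup.center G ∧
      (g * y * g⁻¹) * x = x * (g * y * g⁻¹))).card =
      Nat.card (Subgroup.normalizer (A : Set G)) := by
    intro y hy
    obtain ⟨hyZ, g₀, hg₀⟩ := mem_blk.mp hy
    have hy₀Z := conj_not_mem_center hyZ g₀
    have hiff := cent_iff R hR hx hy₀Z hg₀.symm
    rw [← card_filter_mem (Subgroup.normalizer (A : Set G))]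
    apply Finset.card_nbij' (fun g => g * g₀⁻¹) (fun m => m * g₀)
    · intro g hg
      simp only [Finset.coe_filter, Finset.mem_univ, true_and, Set.mem_ofPred_eq] at hg ⊢
      obtain ⟨m, hm_def⟩ : ∃ m : G, m = g * g₀⁻¹ := ⟨_, rfl⟩
      rw [← hm_def]
      have hm : (m * (g₀ * y * g₀⁻¹) * m⁻¹) * x = x * (m * (g₀ * y * g₀⁻¹) * m⁻¹) := by
        have e : m * (g₀ * y * g₀⁻¹) * m⁻¹ = g * y * g⁻¹ := by rw [hm_def]; group
        rw [e]; exact hg.2
      have hmZ : m * (g₀ * y * g₀⁻¹) * m⁻¹ ∉ Subgroup.center G := conj_not_mem_center hy₀Z m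
      have hiff2 := cent_iff R hR hx hmZ hm.symm
      rw [Subgroup.mem_normalizer_iff]
      intro h
      rw [hmemA, hmemA, ← hiff h, ← hiff2 (m * h * m⁻¹)]
      constructor
      · intro hh
        calc m * h * m⁻¹ * (m * (g₀ * y * g₀⁻¹) * m⁻¹)
            = m * (h * (g₀ * y * g₀⁻¹)) * m⁻¹ := by group
          _ = m * ((g₀ * y * g₀⁻¹) * h) * m⁻¹ := by rw [hh]
          _ = m * (g₀ * y * g₀⁻¹) * m⁻¹ * (m * h * m⁻¹) := by group
      · intro hh
        have : m * (h * (g₀ * y * g₀⁻¹)) * m⁻¹ = m * ((g₀ * y * g₀⁻¹) * h) * m⁻¹ := by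
          calc m * (h * (g₀ * y * g₀⁻¹)) * m⁻¹
              = m * h * m⁻¹ * (m * (g₀ * y * g₀⁻¹) * m⁻¹) := by group
            _ = m * (g₀ * y * g₀⁻¹) * m⁻¹ * (m * h * m⁻¹) := hh
            _ = m * ((g₀ * y * g₀⁻¹) * h) * m⁻¹ := by group
        exact mul_left_cancel (mul_right_cancel this)
    · intro m hm
      simp only [Finset.coe_filter, Finset.mem_univ, true_and, Set.mem_ofPred_eq] at hm ⊢
      refine ⟨hyZ, ?_⟩
      have hy₀A : g₀ * y * g₀⁻¹ ∈ A := (hmemA _).mpr hg₀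
      have := (Subgroup.mem_normalizer_iff.mp hm _).mp hy₀A
      have e : m * g₀ * y * (m * g₀)⁻¹ = m * (g₀ * y * g₀⁻¹) * m⁻¹ := by group
      rw [e]; exact (hmemA _).mp this
    · intro g _
      show g * g₀⁻¹ * g₀ = g
      group
    · intro m _
      show m * g₀ * g₀⁻¹ = m
      group
  have key : ∑ g : G, ∑ y : G, (if (y ∉ Subgroup.center G ∧
      (g * y * g⁻¹) * x = x * (g * y * g⁻¹)) then 1 else 0 : ℕ) =
      Nat.card G * (Nat.card A - Nat.card (Subgroup.center G)) := by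
    have hg : ∀ g : G, ∑ y : G, (if (y ∉ Subgroup.center G ∧
        (g * y * g⁻¹) * x = x * (g * y * g⁻¹)) then 1 else 0 : ℕ) =
        Nat.card A - Nat.card (Subgroup.center G) := by
      intro g
      rw [← Finset.card_filter]; exact h1 g
    rw [Finset.sum_congr rfl (fun g _ => hg g)]
    rw [Finset.sum_const, Finset.card_univ, smul_eq_mul, Nat.card_eq_fintype_card (α := G)]
  rw [← key, Finset.sum_comm]
  have hy : ∀ y : G, ∑ g : G, (if (y ∉ Subgroup.center G ∧
      (g * y * g⁻¹) * x = x * (g * y * g⁻¹)) then 1 else 0 : ℕ) =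
      if y ∈ blk x then Nat.card (Subgroup.normalizer (A : Set G)) else 0 := by
    intro y
    split_ifs with hy
    · rw [← Finset.card_filter]; exact h2 y hy
    · apply Finset.sum_eq_zero
      intro g _
      rw [if_neg]
      rintro ⟨h1, h2⟩
      exact hy (mem_blk.mpr ⟨h1, g, h2⟩)
  rw [Finset.sum_congr rfl (fun y _ => hy y), ← Finset.sum_filter, Finset.sum_const, smul_eq_mul]
  congr 2
  ext y; simp

theorem data {x : G} (hx : x ∉ Subgroup.center G)
    (hidx : ∀ A : Subgroup G, (∀ a ∈ A, ∀ b ∈ A, a * b = b * a) → A.index ≠ 2) :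
    ∃ e a n : ℕ, (e = 1 ∨ e = 2) ∧ 2 ≤ a ∧ 2 ≤ n ∧ (e = 1 → 3 ≤ n) ∧
      e * a * n = (Subgroup.center G).index ∧
      (blk x).card = n * Nat.card (Subgroup.center G) * (a - 1) := by
  have hcardN := card_normalizer_le R hR hx
  have hblk := card_blk_mul R hR hx
  obtain ⟨A, hA⟩ : ∃ A : Subgroup G, A = Subgroup.centralizer ({x} : Set G) := ⟨_, rfl⟩
  rw [← hA] at hcardN hblk
  have hmemA : ∀ k : G, k ∈ A ↔ k * x = x * k := by
    intro k; rw [hA]; exact Subgroup.mem_centralizer_singleton_iff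
  have hxA : x ∈ A := (hmemA x).mpr rfl
  have hZA : Subgroup.center G ≤ A := by rw [hA]; exact Subgroup.center_le_centralizer _
  have hAab : ∀ a ∈ A, ∀ b ∈ A, a * b = b * a := fun a ha b hb =>
    comm_grp R hR hx ((hmemA a).mp ha) ((hmemA b).mp hb)
  have hAN : A ≤ Subgroup.normalizer (A : Set G) := Subgroup.le_normalizer
  obtain ⟨a, ha⟩ := Subgroup.card_dvd_of_le hZA
  obtain ⟨e, he⟩ := Subgroup.card_dvd_of_le hAN
  have hZpos : 0 < Nat.card (Subgroup.center G) := Nat.card_pos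
  have hApos : 0 < Nat.card A := Nat.card_pos
  have hNpos : 0 < Nat.card (Subgroup.normalizer (A : Set G)) := Nat.card_pos
  have hN := Subgroup.card_mul_index (Subgroup.normalizer (A : Set G))
  have hZ := Subgroup.card_mul_index (Subgroup.center G)
  have hAi := Subgroup.card_mul_index A
  have hAidx : A.index ≠ 2 := hidx A hAab
  have hAtop : A.index ≠ 1 := by
    intro h
    rw [Subgroup.index_eq_one] at h
    apply hx
    rw [Subgroup.mem_center_iff]
    intro g
    have : g ∈ A := by rw [h]; exact Subgroup.mem_top g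
    exact (hmemA g).mp this
  obtain ⟨n, hn⟩ : ∃ n, n = (Subgroup.normalizer (A : Set G)).index := ⟨_, rfl⟩
  obtain ⟨cN, hcN⟩ : ∃ c, c = Nat.card (Subgroup.normalizer (A : Set G)) := ⟨_, rfl⟩
  obtain ⟨cA, hcA⟩ : ∃ c, c = Nat.card A := ⟨_, rfl⟩
  obtain ⟨cZ, hcZ⟩ : ∃ c, c = Nat.card (Subgroup.center G) := ⟨_, rfl⟩
  obtain ⟨cG, hcG⟩ : ∃ c, c = Nat.card G := ⟨_, rfl⟩
  rw [← hcN, ← hcA] at hcardN he
  rw [← hcN, ← hcA, ← hcZ, ← hcG] at hblk
  rw [← hcA, ← hcZ] at ha
  rw [← hcN] at hNpos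
  rw [← hcA] at hApos
  rw [← hcZ] at hZpos
  rw [← hcN, ← hn, ← hcG] at hN
  rw [← hcZ, ← hcG] at hZ
  rw [← hcA, ← hcG] at hAi
  have ha2 : 2 ≤ a := by
    rcases a with _ | _ | a
    · rw [mul_zero] at ha; omega
    · exfalso; apply hx
      have : Subgroup.center G = A :=
        Subgroup.eq_of_le_of_card_ge hZA (by rw [← hcA, ← hcZ, ha]; omega)
      rw [this]; exact hxA
    · omega
  have he12 : e = 1 ∨ e = 2 := by
    have h1 : e ≤ 2 := by
      by_contra hcon
      have : cA * 3 ≤ cA * e := Nat.mul_le_mul_left _ (by omega)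
      omega
    have h2 : e ≠ 0 := by rintro rfl; rw [mul_zero] at he; omega
    omega
  have hAidx_eq : A.index = e * n := by
    apply Nat.eq_of_mul_eq_mul_left hApos
    rw [hAi, ← hN, he, mul_assoc]
  have hZidx : e * a * n = (Subgroup.center G).index := by
    apply Nat.eq_of_mul_eq_mul_left hZpos
    rw [hZ, ← hN, he, ha]; ring
  have hnpos : 0 < n := by
    rcases Nat.eq_zero_or_pos n with h | h
    · rw [h, mul_zero] at hN
      have : 0 < cG := by rw [hcG]; exact Nat.card_pos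
      omega
    · exact h
  refine ⟨e, a, n, he12, ha2, ?_, ?_, hZidx, ?_⟩
  · rcases he12 with rfl | rfl
    · rw [one_mul] at hAidx_eq; omega
    · omega
  · rintro rfl
    rw [one_mul] at hAidx_eq; omega
  · rw [← hcZ]
    apply Nat.eq_of_mul_eq_mul_right hNpos
    rw [hblk, ← hN, ha]
    obtain ⟨b, rfl⟩ : ∃ b, a = b + 1 := ⟨a - 1, by omega⟩
    have : cZ * (b + 1) - cZ = cZ * b := by rw [mul_add, mul_one]; omega
    rw [this, Nat.add_sub_cancel]
    ring

end grp

theorem extract {α : Type*} [Fintype α] (S : Finset α) (U : α → Finset α)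
    (hx : ∀ x ∈ S, x ∈ U x) (hsub : ∀ x ∈ S, U x ⊆ S) (heq : ∀ x ∈ S, ∀ y ∈ U x, U y = U x) :
    ∃ T : Finset α, T ⊆ S ∧ (∀ x ∈ T, ∀ y ∈ T, x ≠ y → Disjoint (U x) (U y)) ∧
      ∀ s, s ∈ S ↔ ∃ x ∈ T, s ∈ U x := by
  classical
  let idx : α → ℕ := fun a => (Fintype.equivFin α a : ℕ)
  have hidx : Function.Injective idx := fun a b h => (Fintype.equivFin α).injective (Fin.val_injective h)
  refine ⟨S.filter (fun x => ∀ y ∈ U x, idx x ≤ idx y), Finset.filter_subset _ _, ?_, ?_⟩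
  · intro x hx' y hy' hne
    rw [Finset.mem_filter] at hx' hy'
    rw [Finset.disjoint_left]
    intro w hwx hwy
    have e1 : U w = U x := heq x hx'.1 w hwx
    have e2 : U w = U y := heq y hy'.1 w hwy
    have hxy : U x = U y := e1.symm.trans e2
    have h1 : idx x ≤ idx y := hx'.2 y (by rw [hxy]; exact hx y hy'.1)
    have h2 : idx y ≤ idx x := hy'.2 x (by rw [← hxy]; exact hx x hx'.1)
    exact hne (hidx (le_antisymm h1 h2))
  · intro s
    simp only [Finset.mem_filter]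
    constructor
    · intro hs
      obtain ⟨x, hxU, hmin⟩ := Finset.exists_min_image (U s) idx ⟨s, hx s hs⟩
      have hxS : x ∈ S := hsub s hs hxU
      have hUx : U x = U s := heq s hs x hxU
      exact ⟨x, ⟨hxS, fun y hy => hmin y (by rw [← hUx]; exact hy)⟩, by rw [hUx]; exact hx s hs⟩
    · rintro ⟨x, ⟨hxS, -⟩, hsx⟩
      exact hsub x hxS hsx

theorem dioph1 (e n p g : ℕ) (he : e = 1 ∨ e = 2) (hn : 2 ≤ n) (hg : g = e * (p + n))
    (hs : p = g - 1) : False := by
  rcases he with rfl | rfl <;> omega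

theorem dioph2 (e1 e2 n1 n2 p1 p2 g : ℕ)
    (he1 : e1 = 1 ∨ e1 = 2) (he2 : e2 = 1 ∨ e2 = 2)
    (hn1 : 2 ≤ n1) (hn2 : 2 ≤ n2) (hm1 : e1 = 1 → 3 ≤ n1) (hm2 : e2 = 1 → 3 ≤ n2)
    (hg1 : g = e1 * (p1 + n1)) (hg2 : g = e2 * (p2 + n2))
    (hp1 : p1 = n1 ∨ p1 = 2 * n1 ∨ p1 = 3 * n1 ∨ p1 = 4 * n1 ∨ 5 * n1 ≤ p1)
    (hp2 : p2 = n2 ∨ p2 = 2 * n2 ∨ p2 = 3 * n2 ∨ p2 = 4 * n2 ∨ 5 * n2 ≤ p2)
    (hs : p1 + p2 = g - 1) : g = 12 ∨ g = 24 ∨ g = 60 := by
  have w1 : p1 = n1 ∨ p1 = 2 * n1 ∨ 3 * n1 ≤ p1 := by omega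
  have w2 : p2 = n2 ∨ p2 = 2 * n2 ∨ 3 * n2 ≤ p2 := by omega
  clear hp1 hp2
  rcases he1 with rfl | rfl <;> rcases he2 with rfl | rfl
  · omega
  · have := hm1 rfl
    clear hm1 hm2
    rcases w1 with h | h | h <;> rcases w2 with h' | h' | h' <;> omega
  · have := hm2 rfl
    clear hm1 hm2
    rcases w1 with h | h | h <;> rcases w2 with h' | h' | h' <;> omega
  · omega

set_option maxHeartbeats 2000000 in
theorem dioph3_main (n1 n2 n3 p1 p2 p3 h : ℕ)
    (hn1 : 2 ≤ n1) (hn2 : 2 ≤ n2) (hn3 : 2 ≤ n3)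
    (hg1 : h = p1 + n1) (hg2 : h = p2 + n2) (hg3 : h = p3 + n3)
    (hp1 : p1 = n1 ∨ p1 = 2 * n1 ∨ p1 = 3 * n1 ∨ p1 = 4 * n1 ∨ 5 * n1 ≤ p1)
    (hp2 : p2 = n2 ∨ p2 = 2 * n2 ∨ p2 = 3 * n2 ∨ p2 = 4 * n2 ∨ 5 * n2 ≤ p2)
    (hp3 : p3 = n3 ∨ p3 = 2 * n3 ∨ p3 = 3 * n3 ∨ p3 = 4 * n3 ∨ 5 * n3 ≤ p3)
    (hs : p1 + p2 + p3 + 1 = 2 * h) : h = 6 ∨ h = 12 ∨ h = 30 := by
  have w1 : p1 = n1 ∨ 2 * n1 ≤ p1 := by omega
  have w2 : p2 = n2 ∨ 2 * n2 ≤ p2 := by omega
  have w3 : p3 = n3 ∨ 2 * n3 ≤ p3 := by omega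
  rcases w1 with a1 | a1 <;> rcases w2 with a2 | a2 <;> rcases w3 with a3 | a3
  · clear hp1 hp2 hp3; omega
  · clear hp1 hp2 hp3; omega
  · clear hp1 hp2 hp3; omega
  · clear hp1
    rcases hp2 with h' | h' | h' | h' | h' <;> rcases hp3 with h'' | h'' | h'' | h'' | h'' <;> omega
  · clear hp1 hp2 hp3; omega
  · clear hp2
    rcases hp1 with h' | h' | h' | h' | h' <;> rcases hp3 with h'' | h'' | h'' | h'' | h'' <;> omega
  · clear hp3
    rcases hp1 with h' | h' | h' | h' | h' <;> rcases hp2 with h'' | h'' | h'' | h'' | h'' <;> omega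
  · clear hp1 hp2 hp3; omega

theorem dioph3 (e1 e2 e3 n1 n2 n3 p1 p2 p3 g : ℕ)
    (he1 : e1 = 1 ∨ e1 = 2) (he2 : e2 = 1 ∨ e2 = 2) (he3 : e3 = 1 ∨ e3 = 2)
    (hn1 : 2 ≤ n1) (hn2 : 2 ≤ n2) (hn3 : 2 ≤ n3)
    (hg1 : g = e1 * (p1 + n1)) (hg2 : g = e2 * (p2 + n2)) (hg3 : g = e3 * (p3 + n3))
    (hp1 : p1 = n1 ∨ p1 = 2 * n1 ∨ p1 = 3 * n1 ∨ p1 = 4 * n1 ∨ 5 * n1 ≤ p1)
    (hp2 : p2 = n2 ∨ p2 = 2 * n2 ∨ p2 = 3 * n2 ∨ p2 = 4 * n2 ∨ 5 * n2 ≤ p2)
    (hp3 : p3 = n3 ∨ p3 = 2 * n3 ∨ p3 = 3 * n3 ∨ p3 = 4 * n3 ∨ 5 * n3 ≤ p3)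
    (hs : p1 + p2 + p3 = g - 1) : g = 12 ∨ g = 24 ∨ g = 60 := by
  have q1 : n1 ≤ p1 := by omega
  have q2 : n2 ≤ p2 := by omega
  have q3 : n3 ≤ p3 := by omega
  rcases he1 with rfl | rfl <;> rcases he2 with rfl | rfl <;> rcases he3 with rfl | rfl
  · clear hp1 hp2 hp3; omega
  · clear hp1 hp2 hp3; omega
  · clear hp1 hp2 hp3; omega
  · clear hp1 hp2 hp3; omega
  · clear hp1 hp2 hp3; omega
  · clear hp1 hp2 hp3; omega
  · clear hp1 hp2 hp3; omega
  · have := dioph3_main n1 n2 n3 p1 p2 p3 (p1 + n1) hn1 hn2 hn3 rfl (by omega) (by omega) hp1 hp2 hp3 (by omega)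
    omega

theorem norm_data (e a n g : ℕ) (ha : 2 ≤ a) (h : e * a * n = g) :
    g = e * (n * (a - 1) + n) ∧ (n * (a - 1) = n ∨ n * (a - 1) = 2 * n ∨ n * (a - 1) = 3 * n ∨
      n * (a - 1) = 4 * n ∨ 5 * n ≤ n * (a - 1)) := by
  obtain ⟨b, rfl⟩ : ∃ b, a = b + 1 := ⟨a - 1, by omega⟩
  simp only [Nat.add_sub_cancel]
  refine ⟨by rw [← h]; ring, ?_⟩
  rcases (by omega : b = 1 ∨ b = 2 ∨ b = 3 ∨ b = 4 ∨ 5 ≤ b) with rfl | rfl | rfl | rfl | hb
  · left; ring
  · right; left; ring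
  · right; right; left; ring
  · right; right; right; left; ring
  · right; right; right; right
    calc 5 * n = n * 5 := by ring
      _ ≤ n * b := Nat.mul_le_mul_left n hb

theorem dioph {ι : Type*} [DecidableEq ι] (T : Finset ι) (e a n : ι → ℕ) (g : ℕ) (hT : T.Nonempty)
    (h : ∀ i ∈ T, (e i = 1 ∨ e i = 2) ∧ 2 ≤ a i ∧ 2 ≤ n i ∧ (e i = 1 → 3 ≤ n i) ∧ e i * a i * n i = g)
    (hsum : ∑ i ∈ T, n i * (a i - 1) = g - 1) : g = 12 ∨ g = 24 ∨ g = 60 := by
  have hnd : ∀ i ∈ T, g = e i * (n i * (a i - 1) + n i) ∧ (n i * (a i - 1) = n i ∨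
      n i * (a i - 1) = 2 * n i ∨ n i * (a i - 1) = 3 * n i ∨
      n i * (a i - 1) = 4 * n i ∨ 5 * n i ≤ n i * (a i - 1)) :=
    fun i hi => norm_data (e i) (a i) (n i) g (h i hi).2.1 (h i hi).2.2.2.2
  have hcard : T.card ≤ 3 := by
    have h1 : T.card • g ≤ ∑ i ∈ T, 4 * (n i * (a i - 1)) := by
      apply Finset.card_nsmul_le_sum
      intro i hi
      obtain ⟨h1, h2⟩ := hnd i hi
      obtain ⟨he, -, hn, -, -⟩ := h i hi
      have q : n i ≤ n i * (a i - 1) := by omega
      rcases he with he | he <;> rw [he] at h1 <;> omega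
    rw [← Finset.mul_sum, hsum, smul_eq_mul] at h1
    obtain ⟨i, hi⟩ := hT
    obtain ⟨h1', h2⟩ := hnd i hi
    obtain ⟨he, -, hn, -, -⟩ := h i hi
    have hg : 0 < g := by
      rcases he with he | he <;> rw [he] at h1' <;> omega
    by_contra hcon
    have h4 : 4 ≤ T.card := by omega
    have : 4 * g ≤ T.card * g := Nat.mul_le_mul_right g h4
    omega
  have hpos : 0 < T.card := Finset.card_pos.mpr hT
  rcases (by omega : T.card = 1 ∨ T.card = 2 ∨ T.card = 3) with hc | hc | hc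
  · obtain ⟨i, rfl⟩ := Finset.card_eq_one.mp hc
    rw [Finset.sum_singleton] at hsum
    have hi := h i (Finset.mem_singleton_self i)
    have hi' := hnd i (Finset.mem_singleton_self i)
    exact (dioph1 (e i) (n i) (n i * (a i - 1)) g hi.1 hi.2.2.1 hi'.1 hsum).elim
  · obtain ⟨i, j, hij, rfl⟩ := Finset.card_eq_two.mp hc
    rw [Finset.sum_pair hij] at hsum
    have hi := h i (by simp)
    have hi' := hnd i (by simp)
    have hj := h j (by simp)
    have hj' := hnd j (by simp)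
    exact dioph2 (e i) (e j) (n i) (n j) _ _ g hi.1 hj.1 hi.2.2.1 hj.2.2.1 hi.2.2.2.1 hj.2.2.2.1
      hi'.1 hj'.1 hi'.2 hj'.2 hsum
  · obtain ⟨i, j, k, hij, hik, hjk, rfl⟩ := Finset.card_eq_three.mp hc
    rw [Finset.sum_insert (by simp [hij, hik]), Finset.sum_pair hjk, ← add_assoc] at hsum
    have hi := h i (by simp)
    have hi' := hnd i (by simp)
    have hj := h j (by simp)
    have hj' := hnd j (by simp)
    have hk := h k (by simp)
    have hk' := hnd k (by simp)
    exact dioph3 (e i) (e j) (e k) (n i) (n j) (n k) _ _ _ g hi.1 hj.1 hk.1 hi.2.2.1 hj.2.2.1 hk.2.2.1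
      hi'.1 hj'.1 hk'.1 hi'.2 hj'.2 hk'.2 hsum

section chars
open Cfsg.Agent.Lib.helper4
open scoped ComplexConjugate

theorem char_zero_of_degree_zero {G : Type*} [Group G] {θ : G → ℂ} (hθ : Cfsg.IsCharacter G θ)
    (h1 : θ 1 = 0) : θ = 0 := by
  obtain ⟨n, ρ, rfl⟩ := hθ
  have h := Representation.char_one ρ
  rw [h1] at h
  have hn : n = 0 := by
    have h' : ((Module.finrank ℂ (Fin n → ℂ) : ℕ) : ℂ) = 0 := h.symm
    rw [Module.finrank_fin_fun] at h'
    exact_mod_cast h'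
  subst hn
  exact char_eq_zero_of_subsingleton ρ

theorem not_index_two {G : Type*} [Group G] [Fintype G] (χ : G → ℂ) (hχ : Cfsg.IsIrrCharacter G χ)
    (h2 : χ 1 = 2)
    (hprim : ∀ H : Subgroup G, H ≠ ⊤ → ∀ θ : H → ℂ, Cfsg.IsCharacter H θ → χ ≠ Cfsg.indFun H θ)
    (A : Subgroup G) (hA : ∀ a ∈ A, ∀ b ∈ A, a * b = b * a) : A.index ≠ 2 := by
  classical
  intro hidx
  have hAtop : A ≠ ⊤ := by
    rintro rfl
    rw [Subgroup.index_top] at hidx
    omega
  have hχc := isCharacter_of_isIrrCharacter hχ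
  have hres : Cfsg.IsCharacter A (fun a : A => χ a) := isCharacter_restrict A hχc
  obtain ⟨l, hl⟩ := exists_irr_list_of_isCharacter hres
  cases l with
  | nil =>
    have h := congrFun hl 1
    simp only [List.map_nil, List.sum_nil, Pi.zero_apply] at h
    have h' : χ 1 = 0 := h
    rw [h2] at h'
    norm_num at h'
  | cons ψ l' =>
    have hψ1 : (ψ : A → ℂ) 1 = 1 := by
      apply Cfsg.Agent.Lib.helper19.linear_of_abelian_quot (⊥ : Subgroup A) ?_ ψ.1 ψ.2 ?_
      · intro x y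
        rw [Subgroup.mem_bot]
        have : x * y = y * x := Subtype.ext (hA x x.2 y y.2)
        rw [this]; group
      · intro x hx
        rw [Subgroup.mem_bot] at hx
        rw [hx]
    obtain ⟨m, hm⟩ := exists_nat_classInner_list_irr l' ψ.2
    have hinner : Cfsg.classInner (fun a : A => χ a) (ψ : A → ℂ) = 1 + m := by
      rw [hl, List.map_cons, List.sum_cons, classInner_add_left, classInner_irr_self ψ.2, hm]
    have hfrob : Cfsg.classInner (Cfsg.indFun A (ψ : A → ℂ)) χ = 1 + m := by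
      rw [frobenius_reciprocity A _ (isClassFunction_of_isIrrCharacter hχ),
        ← classInner_conj_symm, hinner]
      simp
    have hind : Cfsg.IsCharacter G (Cfsg.indFun A (ψ : A → ℂ)) :=
      isCharacter_indFun A (isCharacter_of_isIrrCharacter ψ.2)
    have hθ : Cfsg.IsCharacter G (Cfsg.indFun A (ψ : A → ℂ) - χ) := by
      rw [isCharacter_iff_nat_classInner]
      refine ⟨isClassFunction_sub (isClassFunction_of_isCharacter hind)
        (isClassFunction_of_isIrrCharacter hχ), ?_⟩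
      intro φ
      obtain ⟨k, hk⟩ := exists_nat_classInner_irr hind φ.2
      rw [classInner_sub_left, hk]
      by_cases hφ : χ = (φ : G → ℂ)
      · rw [← hφ, classInner_irr_self hχ]
        rw [← hφ, hfrob] at hk
        refine ⟨m, ?_⟩
        rw [← hk]; ring
      · rw [classInner_irr_ne hχ φ.2 hφ]
        exact ⟨k, by simp⟩
    have hθ1 : (Cfsg.indFun A (ψ : A → ℂ) - χ) 1 = 0 := by
      rw [Pi.sub_apply, indFun_one, hidx, hψ1, h2]; norm_num
    have hθ0 := char_zero_of_degree_zero hθ hθ1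
    exact hprim A hAtop ψ.1 (isCharacter_of_isIrrCharacter ψ.2) (sub_eq_zero.mp hθ0).symm

theorem exists_matrix_rep {G : Type*} [Group G] (χ : G → ℂ) (hχ : Cfsg.IsIrrCharacter G χ)
    (h2 : χ 1 = 2) : ∃ R : G →* Matrix (Fin 2) (Fin 2) ℂ, ∀ g, (R g).trace = χ g := by
  obtain ⟨n, ρ, hirr, rfl⟩ := hχ
  have hn : n = 2 := by
    have h := Representation.char_one ρ
    rw [h2, Module.finrank_fin_fun] at h
    exact_mod_cast h.symm
  subst hn
  refine ⟨{ toFun := fun g => LinearMap.toMatrix' (ρ g)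
            map_one' := by rw [map_one]; exact LinearMap.toMatrix'_one
            map_mul' := fun a b => by rw [map_mul]; exact LinearMap.toMatrix'_mul _ _ }, ?_⟩
  intro g
  show (LinearMap.toMatrix' (ρ g)).trace = ρ.character g
  rw [← LinearMap.toMatrix_eq_toMatrix', ← LinearMap.trace_eq_matrix_trace]
  rfl

end chars


/-- Let the finite group G have a faithful irreducible character χ of degree 2 that is primitive: χ is not induced from a character of any proper subgroup. Then the centre of G has index 12, 24 or 60. -/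
theorem result {G : Type*} [Group G] [Fintype G] (χ : Cfsg.IrrCharacter G) (hfaith : ∀ g : G, (χ : G → ℂ) g = (χ : G → ℂ) 1 → g = 1) (h2 : Cfsg.charDegree (χ : G → ℂ) = 2) (hprim : ∀ H : Subgroup G, H ≠ ⊤ → ∀ θ : H → ℂ, Cfsg.IsCharacter H θ → (χ : G → ℂ) ≠ Cfsg.indFun H θ) : (Subgroup.center G).index = 12 ∨ (Subgroup.center G).index = 24 ∨ (Subgroup.center G).index = 60 := by
  classical
  have hχ := χ.2
  have hχ1 : (χ : G → ℂ) 1 = 2 := by
    obtain ⟨n, -, hn⟩ := Cfsg.Agent.Lib.helper4.exists_pos_nat_degree hχ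
    unfold Cfsg.charDegree at h2
    rw [hn] at h2 ⊢
    simp only [Complex.natCast_re, Nat.floor_natCast] at h2
    rw [h2]; norm_num
  obtain ⟨R, hRtr⟩ := exists_matrix_rep (χ : G → ℂ) hχ hχ1
  have hRinj : Function.Injective R := by
    intro a b hab
    have h1 : R (a * b⁻¹) = 1 := by rw [map_mul, hab, ← map_mul, mul_inv_cancel, map_one]
    have h3 : (χ : G → ℂ) (a * b⁻¹) = (χ : G → ℂ) 1 := by
      rw [← hRtr, h1, Matrix.trace_one, hχ1]; simp
    exact mul_inv_eq_one.mp (hfaith _ h3)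
  have hidx : ∀ A : Subgroup G, (∀ a ∈ A, ∀ b ∈ A, a * b = b * a) → A.index ≠ 2 :=
    fun A hA => not_index_two _ hχ hχ1 hprim A hA
  have hnc : ∃ x : G, x ∉ Subgroup.center G := by
    by_contra hcon
    push Not at hcon
    have hcomm : ∀ a b : G, a * b = b * a := fun a b => (Subgroup.mem_center_iff.mp (hcon b) a)
    have h := Cfsg.Agent.Lib.helper19.linear_of_abelian_quot (⊥ : Subgroup G)
      (fun x y => by rw [Subgroup.mem_bot, hcomm x y]; group) _ hχ
      (fun x hx => by rw [Subgroup.mem_bot] at hx; rw [hx])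
    rw [hχ1] at h; norm_num at h
  obtain ⟨S, hS⟩ : ∃ S : Finset G, S = Finset.univ.filter (fun y => y ∉ Subgroup.center G) :=
    ⟨_, rfl⟩
  have hmemS : ∀ y, y ∈ S ↔ y ∉ Subgroup.center G := by
    intro y; rw [hS]; simp
  obtain ⟨T, hTS, hdisj, hcover⟩ := extract S blk
    (fun x hx => self_mem_blk ((hmemS x).mp hx))
    (fun x hx y hy => (hmemS y).mpr (mem_blk.mp hy).1)
    (fun x hx y hy => blk_eq R hRinj ((hmemS x).mp hx) hy)
  have hdata : ∀ x ∈ T, ∃ e a n : ℕ, (e = 1 ∨ e = 2) ∧ 2 ≤ a ∧ 2 ≤ n ∧ (e = 1 → 3 ≤ n) ∧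
      e * a * n = (Subgroup.center G).index ∧
      (blk x).card = n * Nat.card (Subgroup.center G) * (a - 1) :=
    fun x hx => data R hRinj ((hmemS x).mp (hTS hx)) hidx
  choose! e a n hdata using hdata
  have hSU : S = T.biUnion blk := by
    ext s; rw [hcover, Finset.mem_biUnion]
  have hScard : S.card = Nat.card G - Nat.card (Subgroup.center G) := by
    have h := Finset.card_filter_add_card_filter_not (s := (Finset.univ : Finset G))
      (fun y => y ∈ Subgroup.center G)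
    have hZc : (Finset.univ.filter (fun y : G => y ∈ Subgroup.center G)).card =
        Nat.card (Subgroup.center G) := by
      convert card_filter_mem (Subgroup.center G)
    have hS' : (Finset.univ.filter (fun a : G => ¬ a ∈ Subgroup.center G)).card = S.card := by
      rw [hS]
    rw [hZc, hS', Finset.card_univ, ← Nat.card_eq_fintype_card] at h
    omega
  have hsum : ∑ x ∈ T, n x * (a x - 1) = (Subgroup.center G).index - 1 := by
    have h1 : S.card = ∑ x ∈ T, (blk x).card := by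
      rw [hSU]; exact Finset.card_biUnion (fun x hx y hy hne => hdisj x hx y hy hne)
    have h2 : ∑ x ∈ T, (blk x).card =
        Nat.card (Subgroup.center G) * ∑ x ∈ T, n x * (a x - 1) := by
      rw [Finset.mul_sum]
      apply Finset.sum_congr rfl
      intro x hx
      rw [(hdata x hx).2.2.2.2.2]; ring
    have h3 := Subgroup.card_mul_index (Subgroup.center G)
    have hZpos : 0 < Nat.card (Subgroup.center G) := Nat.card_pos
    apply Nat.eq_of_mul_eq_mul_left hZpos
    rw [← h2, ← h1, hScard, ← h3, Nat.mul_sub, mul_one]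
  have hTne : T.Nonempty := by
    obtain ⟨x, hx⟩ := hnc
    obtain ⟨t, ht, -⟩ := (hcover x).mp ((hmemS x).mpr hx)
    exact ⟨t, ht⟩
  exact dioph T e a n (Subgroup.center G).index hTne
    (fun i hi => ⟨(hdata i hi).1, (hdata i hi).2.1, (hdata i hi).2.2.1, (hdata i hi).2.2.2.1,
      (hdata i hi).2.2.2.2.1⟩) hsum

end Cfsg.Agent.S4473
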