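import Cfsg.Statements.S4476
import Cfsg.Agent.Lib.helper78.FrobSchur2

set_option autoImplicit false
open Cfsg

namespace Cfsg.Agent.S4476


open Cfsg.Agent.Lib.helper83 Cfsg.Agent.Lib.helper78

/-- Integer data extracted from the character theory of `G`: degrees `d`, indicators `e`. -/
theorem data {G : Type*} [Group G] [Fintype G] [Fintype (IrrCharacter G)] [DecidableEq (IrrCharacter G)]
    (t : ℕ) (ht : Nat.card {x : G // orderOf x = 2} = t) :
    ∃ e : IrrCharacter G → ℤ, (∀ χ, e χ = 0 ∨ e χ = 1 ∨ e χ = -1) ∧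
      (∀ χ, e χ ≠ 0 → ∀ g : G, ((χ : G → ℂ) g).im = 0) ∧
      ∑ χ ∈ Finset.univ.erase (trivIrr G), e χ * (charDegree (χ : G → ℂ) : ℤ) = t ∧
      ∑ χ ∈ Finset.univ.erase (trivIrr G), (charDegree (χ : G → ℂ) : ℤ) ^ 2 = (Nat.card G : ℤ) - 1 := by
  choose e he hν hreal using fun χ : IrrCharacter G => irr_fs_indicator χ
  refine ⟨e, he, hreal, ?_, ?_⟩
  · have hsum1 : ∑ χ : IrrCharacter G, e χ * (charDegree (χ : G → ℂ) : ℤ) = 1 + t := by
      have h := fs_count (G := G)
      rw [card_sq_eq_one, ht] at h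
      simp_rw [hν, irr_one_eq_charDegree] at h
      have h2 : ((1 + t : ℕ) : ℂ) =
          ((∑ χ : IrrCharacter G, e χ * (charDegree (χ : G → ℂ) : ℤ) : ℤ) : ℂ) := by
        rw [h]; push_cast; rfl
      exact_mod_cast h2.symm
    have he_triv : e (trivIrr G) = 1 := by
      have h := hν (trivIrr G)
      simp only [trivIrr_apply, Finset.sum_const, Finset.card_univ, nsmul_eq_mul, mul_one] at h
      rw [← Nat.card_eq_fintype_card, inv_mul_cancel₀ card_ne_zero'] at h
      exact_mod_cast h.symm
    have hd_triv : (charDegree (trivIrr G : G → ℂ) : ℤ) = 1 := by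
      have h := irr_one_eq_charDegree (trivIrr G)
      rw [trivIrr_apply] at h
      exact_mod_cast h.symm
    have := Finset.add_sum_erase Finset.univ (fun χ => e χ * (charDegree (χ : G → ℂ) : ℤ))
      (Finset.mem_univ (trivIrr G))
    rw [hsum1, he_triv, hd_triv] at this
    linarith
  · have hsum2 : ∑ χ : IrrCharacter G, (charDegree (χ : G → ℂ) : ℤ) ^ 2 = (Nat.card G : ℤ) := by
      have h := sum_charDegree_sq (G := G)
      rw [finsum_eq_sum_of_fintype] at h
      exact_mod_cast h
    have hd_triv : (charDegree (trivIrr G : G → ℂ) : ℤ) = 1 := by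
      have h := irr_one_eq_charDegree (trivIrr G)
      rw [trivIrr_apply] at h
      exact_mod_cast h.symm
    have := Finset.add_sum_erase Finset.univ (fun χ : IrrCharacter G => (charDegree (χ : G → ℂ) : ℤ) ^ 2)
      (Finset.mem_univ (trivIrr G))
    rw [hsum2, hd_triv] at this
    linarith

theorem ne_triv {G : Type*} [Group G] (χ : IrrCharacter G) (h : χ ≠ trivIrr G) :
    (χ : G → ℂ) ≠ (fun _ => 1) := fun h' => h (Subtype.ext h')

/-- Let G be a finite group of even order g with exactly t involutions, and put α = (g − 1)/t (a rational number). Then (a) some non-identity element x of G has at most α² conjugates; and (b) some non-principal real-valued irreducible character of G has degree at most α. -/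
theorem result {G : Type*} [Group G] [Fintype G] (heven : Even (Nat.card G)) (t : ℕ) (ht : Nat.card {x : G // orderOf x = 2} = t) : (∃ x : G, x ≠ 1 ∧ ((Subgroup.centralizer ({x} : Set G)).index : ℚ) ≤ (((Nat.card G : ℚ) - 1) / t) ^ 2) ∧ ∃ χ : Cfsg.IrrCharacter G, (χ : G → ℂ) ≠ (fun _ => 1) ∧ (∀ g : G, ((χ : G → ℂ) g).im = 0) ∧ (Cfsg.charDegree (χ : G → ℂ) : ℚ) ≤ ((Nat.card G : ℚ) - 1) / t := by
  classical
  have := Fintype.ofFinite (IrrCharacter G)
  have ht1 : 1 ≤ t := by
    rw [← ht]
    obtain ⟨x, hx⟩ := exists_prime_orderOf_dvd_card' 2 heven.two_dvd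
    exact Nat.card_pos_iff.mpr ⟨⟨⟨x, hx⟩⟩, inferInstance⟩
  obtain ⟨e, he, hreal, hsum1, hsum2⟩ := data t ht
  have hg1 : (1 : ℤ) ≤ (Nat.card G : ℤ) := by exact_mod_cast Nat.card_pos
  have htq : (0 : ℚ) < t := by exact_mod_cast ht1
  constructor
  · have hCS := Finset.sum_mul_sq_le_sq_mul_sq (Finset.univ.erase (trivIrr G)) e
      (fun χ => (charDegree (χ : G → ℂ) : ℤ))
    rw [hsum1, hsum2] at hCS
    have he2 : ∑ χ ∈ Finset.univ.erase (trivIrr G), e χ ^ 2 ≤
        ((Finset.univ.erase (trivIrr G)).card : ℤ) := by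
      calc ∑ χ ∈ Finset.univ.erase (trivIrr G), e χ ^ 2
          ≤ ∑ χ ∈ Finset.univ.erase (trivIrr G), (1 : ℤ) :=
            Finset.sum_le_sum (fun χ _ => by rcases he χ with h | h | h <;> rw [h] <;> norm_num)
        _ = ((Finset.univ.erase (trivIrr G)).card : ℤ) := by simp
    have hkpos : 1 ≤ Nat.card (ConjClasses G) := Nat.card_pos
    have hk : ((Finset.univ.erase (trivIrr G)).card : ℤ) = (Nat.card (ConjClasses G) : ℤ) - 1 := by
      rw [Finset.card_erase_of_mem (Finset.mem_univ _), Finset.card_univ,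
        ← Nat.card_eq_fintype_card, card_irr_eq_card_conjClasses]
      push_cast [Nat.cast_sub hkpos]
      rfl
    have hkey : (t : ℤ) ^ 2 ≤ ((Nat.card (ConjClasses G) : ℤ) - 1) * ((Nat.card G : ℤ) - 1) := by
      calc (t : ℤ) ^ 2 ≤ (∑ χ ∈ Finset.univ.erase (trivIrr G), e χ ^ 2) * ((Nat.card G : ℤ) - 1) := hCS
        _ ≤ ((Nat.card (ConjClasses G) : ℤ) - 1) * ((Nat.card G : ℤ) - 1) :=
            mul_le_mul_of_nonneg_right (he2.trans hk.le) (by linarith)
    have ht1' : (1 : ℤ) ≤ (t : ℤ) := by exact_mod_cast ht1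
    have := Fintype.ofFinite (ConjClasses G)
    have hcls := Group.sum_card_conj_classes_eq_card (G := G)
    rw [finsum_eq_sum_of_fintype] at hcls
    have hone : (ConjClasses.mk (1 : G)).carrier.ncard = 1 := by
      have h1 : (ConjClasses.mk (1 : G)).carrier = {1} := by
        ext a
        rw [ConjClasses.mem_carrier_iff_mk_eq, ConjClasses.mk_eq_mk_iff_isConj,
          Set.mem_singleton_iff, isConj_comm, isConj_one_right]
      rw [h1, Set.ncard_singleton]
    have hcls' : ∑ C ∈ Finset.univ.erase (ConjClasses.mk (1 : G)), C.carrier.ncard =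
        Nat.card G - 1 := by
      have h1 := Finset.add_sum_erase Finset.univ (fun C : ConjClasses G => C.carrier.ncard)
        (Finset.mem_univ (ConjClasses.mk (1 : G)))
      rw [hcls, hone] at h1
      omega
    have hcard : (Finset.univ.erase (ConjClasses.mk (1 : G))).card = Nat.card (ConjClasses G) - 1 := by
      rw [Finset.card_erase_of_mem (Finset.mem_univ _), Finset.card_univ,
        ← Nat.card_eq_fintype_card]
    have hne : (Finset.univ.erase (ConjClasses.mk (1 : G))).Nonempty := by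
      rw [← Finset.card_pos, hcard]
      by_contra h
      have hk1 : (Nat.card (ConjClasses G) : ℤ) - 1 ≤ 0 := by
        have : Nat.card (ConjClasses G) ≤ 1 := by omega
        have : (Nat.card (ConjClasses G) : ℤ) ≤ 1 := by exact_mod_cast this
        linarith
      nlinarith
    obtain ⟨C₀, hC₀, hmin⟩ := Finset.exists_min_image _
      (fun C : ConjClasses G => C.carrier.ncard) hne
    have hle := Finset.card_nsmul_le_sum (Finset.univ.erase (ConjClasses.mk (1 : G)))
      (fun C : ConjClasses G => C.carrier.ncard) C₀.carrier.ncard hmin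
    rw [hcls', smul_eq_mul, hcard] at hle
    obtain ⟨x₀, rfl⟩ := ConjClasses.exists_rep C₀
    have hx₀ : x₀ ≠ 1 := by
      rintro rfl
      exact (Finset.ne_of_mem_erase hC₀) rfl
    have hm : (ConjClasses.mk x₀).carrier.ncard =
        (Subgroup.centralizer ({x₀} : Set G)).index := by
      have h1 : (ConjClasses.mk x₀).carrier.ncard = Nat.card {y : G // IsConj y x₀} := by
        rw [← Nat.card_coe_set_eq]
        exact Nat.card_congr (Equiv.subtypeEquivRight fun y => by
          rw [ConjClasses.mem_carrier_iff_mk_eq, ConjClasses.mk_eq_mk_iff_isConj])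
      have h2 := card_conj_mul_card_centralizer x₀
      have h3 := (Subgroup.centralizer ({x₀} : Set G)).card_mul_index
      rw [h1]
      have hpos : 0 < Nat.card (Subgroup.centralizer ({x₀} : Set G)) := Nat.card_pos
      apply Nat.eq_of_mul_eq_mul_right hpos
      rw [h2, mul_comm, h3]
    refine ⟨x₀, hx₀, ?_⟩
    rw [← hm, div_pow, le_div_iff₀ (by positivity)]
    have hgpos : 1 ≤ Nat.card G := Nat.card_pos
    have hle' : ((Nat.card (ConjClasses G) : ℤ) - 1) * ((ConjClasses.mk x₀).carrier.ncard : ℤ) ≤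
        (Nat.card G : ℤ) - 1 := by
      have h1 : ((Nat.card (ConjClasses G) - 1 : ℕ) : ℤ) * ((ConjClasses.mk x₀).carrier.ncard : ℤ) ≤
          ((Nat.card G - 1 : ℕ) : ℤ) := by exact_mod_cast hle
      rwa [Nat.cast_sub hkpos, Nat.cast_sub hgpos, Nat.cast_one] at h1
    have hm0 : (0 : ℤ) ≤ ((ConjClasses.mk x₀).carrier.ncard : ℤ) := by positivity
    have hZ : ((ConjClasses.mk x₀).carrier.ncard : ℤ) * (t : ℤ) ^ 2 ≤ ((Nat.card G : ℤ) - 1) ^ 2 := by
      nlinarith [mul_le_mul_of_nonneg_left hkey hm0,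
        mul_le_mul_of_nonneg_right hle' (by linarith : (0 : ℤ) ≤ (Nat.card G : ℤ) - 1)]
    exact_mod_cast hZ
  · by_contra hcon
    push Not at hcon
    have hterm : ∀ χ ∈ Finset.univ.erase (trivIrr G),
        (Nat.card G : ℤ) * (e χ * (charDegree (χ : G → ℂ) : ℤ)) ≤
          (t : ℤ) * (charDegree (χ : G → ℂ) : ℤ) ^ 2 := by
      intro χ hχ
      have hdpos : (0 : ℤ) < (charDegree (χ : G → ℂ) : ℤ) := by exact_mod_cast charDegree_pos χ
      have ht0 : (0 : ℤ) ≤ (t : ℤ) := by positivity
      rcases he χ with h | h | h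
      · rw [h]; simp; positivity
      · have hne : χ ≠ trivIrr G := Finset.ne_of_mem_erase hχ
        have hlt := hcon χ (ne_triv χ hne) (hreal χ (by rw [h]; norm_num))
        rw [div_lt_iff₀ htq] at hlt
        have hlt' : (Nat.card G : ℤ) - 1 < (charDegree (χ : G → ℂ) : ℤ) * t := by exact_mod_cast hlt
        rw [h]
        nlinarith
      · rw [h]
        nlinarith
    have hsum := Finset.sum_le_sum hterm
    rw [← Finset.mul_sum, ← Finset.mul_sum, hsum1, hsum2] at hsum
    have : (1 : ℤ) ≤ (t : ℤ) := by exact_mod_cast ht1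
    nlinarith

end Cfsg.Agent.S4476
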