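import Mathlib
import Cfsg.Statements.S4477
import Cfsg.Agent.S0158
import Cfsg.Agent.S0159
import Cfsg.Agent.Lib.helper82.CharQuot
import Cfsg.Agent.Lib.helper82.CharSums
import Cfsg.Agent.Lib.helper82.CharInt
import Cfsg.Agent.Lib.helper19.AbelianOver
import Cfsg.Agent.Lib.helper24.PFrattini
import Cfsg.Agent.Lib.helper4.CharTheory
import Cfsg.Agent.Lib.helper81.CharBasic

set_option autoImplicit false
open Cfsg

namespace Cfsg.Agent.S4477

set_option linter.style.haveILetI false

open Cfsg.Agent.Lib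
open scoped ComplexConjugate

/-- A real complex number of finite multiplicative order squares to one. -/
theorem sq_eq_one_of_real {z : ℂ} {n : ℕ} (hn : n ≠ 0) (hz : z ^ n = 1) (him : z.im = 0) :
    z * z = 1 := by
  have hnorm : ‖z‖ = 1 := Complex.norm_eq_one_of_pow_eq_one hz hn
  have hz' : z = (z.re : ℂ) := Complex.ext rfl (by simpa using him)
  have h2 : ‖z‖ ^ 2 = z.re ^ 2 + z.im ^ 2 := by
    rw [Complex.sq_norm, Complex.normSq_apply]; ring
  have : z.re * z.re = 1 := by
    rw [hnorm, him] at h2; nlinarith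
  rw [hz', ← Complex.ofReal_mul, this, Complex.ofReal_one]

/-- The group of homomorphisms to `ℂˣ` with square one. -/
def sqOne (G : Type*) [Group G] : Subgroup (G →* ℂˣ) where
  carrier := {f | ∀ g, f g * f g = 1}
  one_mem' := fun g => by simp
  mul_mem' := fun {a b} ha hb g => by
    rw [MonoidHom.mul_apply, mul_mul_mul_comm, ha g, hb g, one_mul]
  inv_mem' := fun {a} ha g => by
    rw [MonoidHom.inv_apply, ← mul_inv, ha g, inv_one]

theorem mem_sqOne {G : Type*} [Group G] {f : G →* ℂˣ} : f ∈ sqOne G ↔ ∀ g, f g * f g = 1 :=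
  Iff.rfl

theorem sqOne_val {G : Type*} [Group G] {f : G →* ℂˣ} (hf : f ∈ sqOne G) (g : G) :
    (f g : ℂ) = 1 ∨ (f g : ℂ) = -1 := by
  have h := hf g
  have h' : (f g : ℂ) * (f g : ℂ) = 1 := by
    rw [← Units.val_mul, h, Units.val_one]
  exact mul_self_eq_one_iff.1 h'

theorem isPGroup_sqOne (G : Type*) [Group G] : IsPGroup 2 (sqOne G) := by
  intro f
  refine ⟨1, ?_⟩
  apply Subtype.ext
  apply MonoidHom.ext
  intro g
  simp only [pow_one, pow_two, Subgroup.coe_mul, MonoidHom.mul_apply, Subgroup.coe_one,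
    MonoidHom.one_apply]
  exact f.2 g

variable {G : Type*} [Group G] [Fintype G]

theorem finite_hom : Finite (G →* ℂˣ) := by
  refine Finite.of_injective
    (fun f : G →* ℂˣ => (⟨fun g => (f g : ℂ), helper82.isIrrCharacter_of_hom f⟩ : IrrCharacter G))
    ?_
  intro f f' h
  ext g
  have := congrFun (congrArg Subtype.val h) g
  exact this

/-- Twisting an irreducible character by a linear character. -/
noncomputable def twist (f : G →* ℂˣ) (χ : IrrCharacter G) : IrrCharacter G :=
  ⟨(χ : G → ℂ) * (fun g => (f g : ℂ)),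
    helper19.isIrr_mul_linear _ _ χ.2 (helper82.isIrrCharacter_of_hom f) (by simp)⟩

theorem twist_apply (f : G →* ℂˣ) (χ : IrrCharacter G) (g : G) :
    (twist f χ : G → ℂ) g = (χ : G → ℂ) g * (f g : ℂ) := rfl

theorem charDegree_twist (f : G →* ℂˣ) (χ : IrrCharacter G) :
    charDegree (twist f χ : G → ℂ) = charDegree (χ : G → ℂ) := by
  unfold charDegree
  rw [twist_apply, map_one, Units.val_one, mul_one]

/-- The degree bound for character values. -/
theorem norm_le_deg (χ : IrrCharacter G) (g : G) :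
    ‖(χ : G → ℂ) g‖ ≤ (charDegree (χ : G → ℂ) : ℝ) := by
  obtain ⟨n, ρ, hirr, hχ⟩ := χ.2
  have h1 := helper82.irr_one_eq χ
  have h2 : (χ : G → ℂ) 1 = (n : ℂ) := by
    rw [← hχ, Representation.char_one]; simp
  have h3 : charDegree (χ : G → ℂ) = n := by
    rw [h1] at h2; exact_mod_cast h2
  have := helper82.norm_char_le ρ g
  rw [hχ] at this
  rw [h3]
  simpa using this

/-- The Frobenius–Schur indicator of an irreducible character. -/
noncomputable def fsInd (χ : IrrCharacter G) : ℂ :=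
  (Nat.card G : ℂ)⁻¹ * ∑ s : G, (χ : G → ℂ) (s * s)

theorem fsInd_cases (χ : IrrCharacter G) :
    (fsInd χ = 0 ∨ fsInd χ = 1 ∨ fsInd χ = -1) ∧
      (fsInd χ = 0 ↔ ∃ s : G, ((χ : G → ℂ) s).im ≠ 0) := by
  obtain ⟨n, ρ, hirr, hχ⟩ := χ.2
  haveI : ρ.IsIrreducible := hirr
  have := Cfsg.Agent.S0158.result ρ
  rw [hχ] at this
  exact this

/-- Real linear characters have indicator one. -/
theorem fsInd_linear_real (χ : IrrCharacter G) (h1 : charDegree (χ : G → ℂ) = 1)
    (hre : ∀ s, ((χ : G → ℂ) s).im = 0) : fsInd χ = 1 := by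
  have hχ1 : (χ : G → ℂ) 1 = 1 := by rw [helper82.irr_one_eq χ, h1]; simp
  obtain ⟨f, hf⟩ := helper82.exists_hom_of_linear (helper4.isCharacter_of_isIrrCharacter χ.2) hχ1
  have hval : ∀ s : G, (χ : G → ℂ) (s * s) = 1 := by
    intro s
    rw [hf, map_mul, Units.val_mul]
    refine sq_eq_one_of_real (n := Nat.card G) Nat.card_pos.ne' ?_ ?_
    · rw [← Units.val_pow_eq_pow_val, ← map_pow, pow_card_eq_one', map_one, Units.val_one]
    · rw [← hf]; exact hre s
  unfold fsInd
  simp only [hval, Finset.sum_const, Finset.card_univ, nsmul_eq_mul, mul_one]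
  rw [Nat.card_eq_fintype_card]
  exact inv_mul_cancel₀ (by exact_mod_cast Fintype.card_ne_zero)

/-- Real-valued irreducible characters of degree `d`. -/
abbrev RealDeg (G : Type*) [Group G] (d : ℕ) : Type _ :=
  {χ : IrrCharacter G // charDegree (χ : G → ℂ) = d ∧ ∀ s, ((χ : G → ℂ) s).im = 0}

theorem term_mod4 (hG : IsPGroup 2 G) (χ : IrrCharacter G) :
    ∃ z : ℤ, fsInd χ * (χ : G → ℂ) 1 = (z : ℂ) ∧
      z ≡ (if charDegree (χ : G → ℂ) = 1 ∧ (∀ s, ((χ : G → ℂ) s).im = 0) then 1 else 0) +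
        2 * (if charDegree (χ : G → ℂ) = 2 ∧ (∀ s, ((χ : G → ℂ) s).im = 0) then 1 else 0)
        [ZMOD 4] := by
  classical
  obtain ⟨k, hk⟩ := IsPGroup.iff_card.1 hG
  have hdvd := helper82.irr_degree_dvd_card χ
  rw [hk] at hdvd
  obtain ⟨j, -, hj⟩ := (Nat.dvd_prime_pow Nat.prime_two).1 hdvd
  have h1 := helper82.irr_one_eq χ
  obtain ⟨h3, hiff⟩ := fsInd_cases χ
  by_cases hre : ∀ s, ((χ : G → ℂ) s).im = 0
  · have hne : fsInd χ ≠ 0 := fun h0 => by
      obtain ⟨s, hs⟩ := hiff.1 h0
      exact hs (hre s)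
    rcases Nat.lt_or_ge j 2 with hj2 | hj2
    · interval_cases j
      · have hd : charDegree (χ : G → ℂ) = 1 := by simpa using hj
        refine ⟨1, ?_, ?_⟩
        · rw [fsInd_linear_real χ hd hre, h1, hd]; simp
        · rw [if_pos ⟨hd, hre⟩, if_neg (by rw [hd]; rintro ⟨h, -⟩; exact absurd h (by decide))]
          decide
      · have hd : charDegree (χ : G → ℂ) = 2 := by simpa using hj
        have hneg : ¬ (charDegree (χ : G → ℂ) = 1 ∧ ∀ s, ((χ : G → ℂ) s).im = 0) := by
          rw [hd]; rintro ⟨h, -⟩; exact absurd h (by decide)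
        rcases h3 with h0 | hp | hm
        · exact absurd h0 hne
        · refine ⟨2, ?_, ?_⟩
          · rw [hp, h1, hd]; simp
          · rw [if_neg hneg, if_pos ⟨hd, hre⟩]; decide
        · refine ⟨-2, ?_, ?_⟩
          · rw [hm, h1, hd]; simp
          · rw [if_neg hneg, if_pos ⟨hd, hre⟩]; decide
    · obtain ⟨m, hm⟩ : ∃ m, charDegree (χ : G → ℂ) = 4 * m :=
        ⟨2 ^ (j - 2), by rw [hj, show (4 : ℕ) = 2 ^ 2 by norm_num, ← pow_add]; congr 1; omega⟩
      have hm0 : m ≠ 0 := by
        rintro rfl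
        have := helper82.irr_charDegree_pos χ
        omega
      have hd1 : ¬ (charDegree (χ : G → ℂ) = 1 ∧ ∀ s, ((χ : G → ℂ) s).im = 0) := by
        rintro ⟨h, -⟩; omega
      have hd2 : ¬ (charDegree (χ : G → ℂ) = 2 ∧ ∀ s, ((χ : G → ℂ) s).im = 0) := by
        rintro ⟨h, -⟩; omega
      rw [if_neg hd1, if_neg hd2]
      rcases h3 with h0 | hp | hm'
      · exact absurd h0 hne
      · refine ⟨4 * m, ?_, ?_⟩
        · rw [hp, h1, hm]; push_cast; ring
        · exact (Int.modEq_zero_iff_dvd.2 ⟨m, rfl⟩)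
      · refine ⟨-(4 * m), ?_, ?_⟩
        · rw [hm', h1, hm]; push_cast; ring
        · exact (Int.modEq_zero_iff_dvd.2 ⟨-m, by ring⟩)
  · have h0 : fsInd χ = 0 := hiff.2 (by push Not at hre; exact hre)
    refine ⟨0, by rw [h0]; simp, ?_⟩
    rw [if_neg (fun h => hre h.2), if_neg (fun h => hre h.2)]
    decide

theorem card_realDeg (d : ℕ) [DecidablePred (fun χ : IrrCharacter G =>
    charDegree (χ : G → ℂ) = d ∧ ∀ s, ((χ : G → ℂ) s).im = 0)] :
    Nat.card (RealDeg G d) = (Finset.univ.filter (fun χ : IrrCharacter G =>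
      charDegree (χ : G → ℂ) = d ∧ ∀ s, ((χ : G → ℂ) s).im = 0)).card := by
  rw [Nat.card_eq_fintype_card, Fintype.card_subtype]

theorem count_mod4 (hG : IsPGroup 2 G) :
    (Nat.card {s : G // s * s = 1} : ℤ) ≡
      (Nat.card (RealDeg G 1) : ℤ) + 2 * (Nat.card (RealDeg G 2) : ℤ) [ZMOD 4] := by
  classical
  have hcount := Cfsg.Agent.S0159.result (G := G)
  rw [finsum_eq_sum_of_fintype] at hcount
  choose z hz1 hz2 using term_mod4 hG
  have hsum : (Nat.card {s : G // s * s = 1} : ℤ) = ∑ χ : IrrCharacter G, z χ := by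
    have : ((Nat.card {s : G // s * s = 1} : ℤ) : ℂ) = ((∑ χ : IrrCharacter G, z χ : ℤ) : ℂ) := by
      push_cast
      rw [hcount]
      exact Finset.sum_congr rfl (fun χ _ => hz1 χ)
    exact_mod_cast this
  rw [hsum, card_realDeg 1, card_realDeg 2]
  refine (Int.ModEq.sum (fun χ _ => hz2 χ)).trans ?_
  rw [Finset.sum_add_distrib, ← Finset.mul_sum, Finset.sum_boole, Finset.sum_boole]

theorem card_sqOne_eq : Nat.card (sqOne G) = Nat.card (RealDeg G 1) := by
  classical
  have hdeg : ∀ f : G →* ℂˣ, charDegree (fun g => (f g : ℂ)) = 1 := by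
    intro f
    unfold charDegree
    simp
  refine Nat.card_congr (Equiv.ofBijective
    (fun f : sqOne G => (⟨⟨fun g => ((f : G →* ℂˣ) g : ℂ), helper82.isIrrCharacter_of_hom f.1⟩,
      hdeg f.1, fun s => by
        rcases sqOne_val f.2 s with h | h
        · show ((f.1 s : ℂˣ) : ℂ).im = 0
          rw [h]; simp
        · show ((f.1 s : ℂˣ) : ℂ).im = 0
          rw [h]; simp⟩ : RealDeg G 1)) ⟨?_, ?_⟩)
  · intro f f' h
    apply Subtype.ext
    apply MonoidHom.ext
    intro g
    have := congrFun (congrArg (fun x : RealDeg G 1 => (x.1 : G → ℂ)) h) g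
    exact Units.ext this
  · rintro ⟨χ, hd, hre⟩
    have hχ1 : (χ : G → ℂ) 1 = 1 := by rw [helper82.irr_one_eq χ, hd]; simp
    obtain ⟨f, hf⟩ := helper82.exists_hom_of_linear (helper4.isCharacter_of_isIrrCharacter χ.2) hχ1
    have hmem : f ∈ sqOne G := by
      intro g
      apply Units.ext
      rw [Units.val_mul, Units.val_one]
      refine sq_eq_one_of_real (n := Nat.card G) Nat.card_pos.ne' ?_ ?_
      · rw [← Units.val_pow_eq_pow_val, ← map_pow, pow_card_eq_one', map_one, Units.val_one]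
      · rw [← hf]; exact hre g
    refine ⟨⟨f, hmem⟩, ?_⟩
    apply Subtype.ext
    apply Subtype.ext
    funext g
    exact (hf g).symm

theorem card_sq_eq :
    Nat.card {s : G // s * s = 1} = Nat.card {x : G // orderOf x = 2} + 1 := by
  classical
  rw [Nat.card_eq_fintype_card, Nat.card_eq_fintype_card, Fintype.card_subtype,
    Fintype.card_subtype]
  have h : (Finset.univ.filter (fun s : G => s * s = 1)) =
      insert 1 (Finset.univ.filter (fun x : G => orderOf x = 2)) := by
    ext s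
    simp only [Finset.mem_filter, Finset.mem_univ, true_and, Finset.mem_insert]
    constructor
    · intro h
      by_cases h1 : s = 1
      · exact Or.inl h1
      · exact Or.inr (orderOf_eq_prime (by rw [pow_two]; exact h) h1)
    · rintro (rfl | h)
      · simp
      · rw [← pow_two, ← h]; exact pow_orderOf_eq_one s
  rw [h, Finset.card_insert_of_notMem]
  simp

theorem neg_one_ne_one_units : (-1 : ℂˣ) ≠ 1 := by
  intro h
  have h' : ((-1 : ℂˣ) : ℂ) = ((1 : ℂˣ) : ℂ) := congrArg Units.val h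
  rw [Units.val_neg, Units.val_one] at h'
  norm_num at h'

/-- The sign character of a subgroup of index two. -/
noncomputable def signHom (M : Subgroup G) (hM : M.index = 2) : G →* ℂˣ :=
  MonoidHom.mk' (fun g => @ite _ (g ∈ M) (Classical.propDecidable _) (1 : ℂˣ) (-1)) (by
    intro a b
    by_cases ha : a ∈ M <;> by_cases hb : b ∈ M
    · rw [if_pos ha, if_pos hb, if_pos (M.mul_mem ha hb), one_mul]
    · rw [if_pos ha, if_neg hb, if_neg (fun h => hb ((M.mul_mem_cancel_left ha).1 h)), one_mul]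
    · rw [if_neg ha, if_pos hb, if_neg (fun h => ha ((M.mul_mem_cancel_right hb).1 h)), mul_one]
    · rw [if_neg ha, if_neg hb,
        if_pos ((Subgroup.mul_mem_iff_of_index_two hM).2 (by simp [ha, hb]))]
      simp)

theorem signHom_of_mem (M : Subgroup G) (hM : M.index = 2) {g : G} (hg : g ∈ M) :
    signHom M hM g = 1 := by
  show @ite _ (g ∈ M) (Classical.propDecidable _) (1 : ℂˣ) (-1) = 1
  rw [if_pos hg]

theorem signHom_of_not_mem (M : Subgroup G) (hM : M.index = 2) {g : G} (hg : g ∉ M) :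
    signHom M hM g = -1 := by
  show @ite _ (g ∈ M) (Classical.propDecidable _) (1 : ℂˣ) (-1) = -1
  rw [if_neg hg]

theorem signHom_mem (M : Subgroup G) (hM : M.index = 2) : signHom M hM ∈ sqOne G := by
  intro g
  by_cases hg : g ∈ M
  · rw [signHom_of_mem M hM hg, one_mul]
  · rw [signHom_of_not_mem M hM hg]; simp

theorem isCyclic_of_card_sqOne (hG : IsPGroup 2 G) (h2 : Nat.card (sqOne G) = 2) :
    IsCyclic G := by
  classical
  haveI : Fact (Nat.Prime 2) := ⟨Nat.prime_two⟩
  obtain ⟨f₀, hf₀, huniq⟩ := (Nat.card_eq_two_iff' (1 : sqOne G)).1 h2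
  have hco : ∀ M : Subgroup G, IsCoatom M → ∀ g ∈ M, (f₀ : G →* ℂˣ) g = 1 := by
    intro M hM g hg
    obtain ⟨-, hidx⟩ := helper24.pgroup_coatom_normal_index hG hM
    have hne : (⟨signHom M hidx, signHom_mem M hidx⟩ : sqOne G) ≠ 1 := by
      intro h
      apply hM.1
      rw [Subgroup.eq_top_iff']
      intro x
      by_contra hx
      have h1 : signHom M hidx x = 1 := congrArg (fun f : sqOne G => (f : G →* ℂˣ) x) h
      rw [signHom_of_not_mem M hidx hx] at h1
      exact neg_one_ne_one_units h1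
    have heq : signHom M hidx = (f₀ : G →* ℂˣ) := congrArg Subtype.val (huniq _ hne)
    rw [← heq]; exact signHom_of_mem M hidx hg
  obtain ⟨g₀, hg₀⟩ : ∃ g, (f₀ : G →* ℂˣ) g ≠ 1 := by
    by_contra hcon
    push Not at hcon
    exact hf₀ (Subtype.ext (MonoidHom.ext fun g => hcon g))
  rw [isCyclic_iff_exists_zpowers_eq_top]
  refine ⟨g₀, ?_⟩
  rcases eq_top_or_exists_le_coatom (Subgroup.zpowers g₀) with h | ⟨M, hM, hle⟩
  · exact h
  · exact absurd (hco M hM g₀ (hle (Subgroup.mem_zpowers g₀))) hg₀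

/-- The intersection of the kernels of all real linear characters. -/
def kerAll (G : Type*) [Group G] : Subgroup G := ⨅ f : sqOne G, (f : G →* ℂˣ).ker

theorem mem_kerAll {G : Type*} [Group G] {g : G} :
    g ∈ kerAll G ↔ ∀ f ∈ sqOne G, f g = 1 := by
  unfold kerAll
  rw [Subgroup.mem_iInf]
  constructor
  · intro h f hf; exact MonoidHom.mem_ker.1 (h ⟨f, hf⟩)
  · intro h f; exact MonoidHom.mem_ker.2 (h f.1 f.2)

theorem commutator_le_kerAll (G : Type*) [Group G] : commutator G ≤ kerAll G := by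
  unfold kerAll
  exact le_iInf fun f => Abelianization.commutator_subset_ker _

/-- An irreducible character of degree two vanishing off `K` forces `|G| ≤ 4|K|`. -/
theorem card_le_of_support (χ : IrrCharacter G) (hd : charDegree (χ : G → ℂ) = 2)
    (K : Subgroup G) (hK : ∀ g, g ∉ K → (χ : G → ℂ) g = 0) :
    Nat.card G ≤ 4 * Nat.card K := by
  classical
  have h1 := helper4.classInner_irr_self χ.2
  unfold classInner at h1
  have hne : (Nat.card G : ℂ) ≠ 0 := by exact_mod_cast Nat.card_pos.ne'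
  rw [inv_mul_eq_iff_eq_mul₀ hne, mul_one] at h1
  have hsumR : ∑ g : G, Complex.normSq ((χ : G → ℂ) g) = (Nat.card G : ℝ) := by
    have : ((∑ g : G, Complex.normSq ((χ : G → ℂ) g) : ℝ) : ℂ) = ((Nat.card G : ℝ) : ℂ) := by
      push_cast
      rw [← h1]
      exact Finset.sum_congr rfl (fun g _ => (Complex.mul_conj _).symm)
    exact_mod_cast this
  have hbound : ∀ g : G, Complex.normSq ((χ : G → ℂ) g) ≤ if g ∈ K then (4 : ℝ) else 0 := by
    intro g
    by_cases hg : g ∈ K
    · rw [if_pos hg]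
      have h2 := norm_le_deg χ g
      rw [hd] at h2
      rw [Complex.normSq_eq_norm_sq]
      have h0 := norm_nonneg ((χ : G → ℂ) g)
      push_cast at h2
      nlinarith
    · rw [if_neg hg, hK g hg]; simp
  have hc : Nat.card K = (Finset.univ.filter (fun g : G => g ∈ K)).card := by
    rw [Nat.card_eq_fintype_card, Fintype.card_subtype]
  have : (Nat.card G : ℝ) ≤ 4 * (Nat.card K : ℝ) := by
    rw [← hsumR]
    calc ∑ g : G, Complex.normSq ((χ : G → ℂ) g)
        ≤ ∑ g : G, (if g ∈ K then (4 : ℝ) else 0) := Finset.sum_le_sum (fun g _ => hbound g)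
      _ = 4 * (Nat.card K : ℝ) := by
        rw [hc, Finset.sum_ite, Finset.sum_const_zero, add_zero, Finset.sum_const, nsmul_eq_mul,
          mul_comm]
  exact_mod_cast this

theorem sqOne_apply_eq {G : Type*} [Group G] {f f' : G →* ℂˣ} (hf : f ∈ sqOne G)
    (hf' : f' ∈ sqOne G) (g : G) (h : f g = 1 ↔ f' g = 1) : f g = f' g := by
  rcases sqOne_val hf g with a | a <;> rcases sqOne_val hf' g with b | b
  · exact Units.ext (a.trans b.symm)
  · have h1 : f g = 1 := Units.ext (a.trans Units.val_one.symm)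
    rw [h1, h.1 h1]
  · have h1 : f' g = 1 := Units.ext (b.trans Units.val_one.symm)
    rw [h1, h.2 h1]
  · exact Units.ext (a.trans b.symm)

theorem card_sqOne_le_two (g₀ : G) (h : ∀ g, g ∈ kerAll G ∨ g * g₀ ∈ kerAll G) :
    Nat.card (sqOne G) ≤ 2 := by
  classical
  haveI := finite_hom (G := G)
  have hinj : Function.Injective (fun f : sqOne G => decide ((f : G →* ℂˣ) g₀ = 1)) := by
    intro f f' hff
    have hiff : (f : G →* ℂˣ) g₀ = 1 ↔ (f' : G →* ℂˣ) g₀ = 1 := decide_eq_decide.1 hff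
    have h0 := sqOne_apply_eq f.2 f'.2 g₀ hiff
    apply Subtype.ext
    apply MonoidHom.ext
    intro g
    rcases h g with hg | hg
    · rw [mem_kerAll.1 hg f.1 f.2, mem_kerAll.1 hg f'.1 f'.2]
    · have e1 := mem_kerAll.1 hg f.1 f.2
      have e2 := mem_kerAll.1 hg f'.1 f'.2
      rw [map_mul] at e1 e2
      rw [eq_inv_of_mul_eq_one_left e1, eq_inv_of_mul_eq_one_left e2, h0]
  calc Nat.card (sqOne G) ≤ Nat.card Bool := Nat.card_le_card_of_injective _ hinj
    _ = 2 := by simp

theorem four_le_index (hG : IsPGroup 2 G) (h4 : 4 ≤ Nat.card (sqOne G)) :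
    4 ≤ (kerAll G).index := by
  by_contra hlt
  push Not at hlt
  obtain ⟨j, hj⟩ := hG.index (kerAll G)
  have hj2 : j < 2 := by
    by_contra hcon
    push Not at hcon
    have : 2 ^ 2 ≤ 2 ^ j := Nat.pow_le_pow_right (by norm_num) hcon
    omega
  have hle : Nat.card (sqOne G) ≤ 2 := by
    interval_cases j
    · have htop : kerAll G = ⊤ := Subgroup.index_eq_one.1 (by simpa using hj)
      exact card_sqOne_le_two 1 (fun g => Or.inl (by rw [htop]; exact Subgroup.mem_top g))
    · have h2 : (kerAll G).index = 2 := by simpa using hj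
      obtain ⟨g₀, hg₀⟩ : ∃ g₀, g₀ ∉ kerAll G := by
        by_contra hcon
        push Not at hcon
        have : kerAll G = ⊤ := (Subgroup.eq_top_iff' _).2 hcon
        rw [this, Subgroup.index_top] at h2
        omega
      refine card_sqOne_le_two g₀ (fun g => ?_)
      by_cases hg : g ∈ kerAll G
      · exact Or.inl hg
      · exact Or.inr ((Subgroup.mul_mem_iff_of_index_two h2).2 (by simp [hg, hg₀]))
  omega

theorem exists_beta (hG : IsPGroup 2 G) (N : Subgroup G) (n₀ : G) (hn₀ : n₀ ∈ N)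
    (hn₀' : n₀ ∉ commutator G) :
    ∃ β : G →* ℂˣ, (∀ n ∈ N, β n * β n = 1) ∧ ∃ n₁ ∈ N, β n₁ ≠ 1 := by
  classical
  have hne : (Abelianization.of n₀ : Abelianization G) ≠ 1 := by
    intro h
    apply hn₀'
    rw [← Abelianization.ker_of G]
    exact MonoidHom.mem_ker.2 h
  obtain ⟨φ, hφ⟩ :=
    CommGroup.exists_apply_ne_one_of_hasEnoughRootsOfUnity (Abelianization G) ℂ hne
  have hex : ∃ j, ∀ n ∈ N, (φ (Abelianization.of n)) ^ (2 ^ j) = 1 := by
    obtain ⟨k, hk⟩ := IsPGroup.iff_card.1 hG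
    exact ⟨k, fun n _ => by rw [← map_pow, ← map_pow, ← hk, pow_card_eq_one', map_one, map_one]⟩
  have hj0 : Nat.find hex ≠ 0 := by
    intro h0
    have := Nat.find_spec hex n₀ hn₀
    rw [h0, pow_zero, pow_one] at this
    exact hφ this
  obtain ⟨i, hi⟩ := Nat.exists_eq_succ_of_ne_zero hj0
  have hmin : ¬ ∀ n ∈ N, (φ (Abelianization.of n)) ^ (2 ^ i) = 1 :=
    Nat.find_min hex (by omega)
  push Not at hmin
  obtain ⟨n₁, hn₁, hn₁'⟩ := hmin
  have e : 2 ^ i + 2 ^ i = 2 ^ (Nat.find hex) := by rw [hi, pow_succ]; ring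
  refine ⟨(φ.comp Abelianization.of) ^ (2 ^ i), fun n hn => ?_, n₁, hn₁, ?_⟩
  · rw [MonoidHom.pow_apply, ← pow_add, e]
    exact Nat.find_spec hex n hn
  · rw [MonoidHom.pow_apply]; exact hn₁'

theorem mul_fix_zero {a u : ℂ} (h : a * u = a) (hu : u ≠ 1) : a = 0 := by
  by_contra ha
  exact hu (mul_left_cancel₀ ha (h.trans (mul_one a).symm))

/-- Twisting real characters of degree two by real linear characters. -/
noncomputable def twistReal (f : sqOne G) (χ : RealDeg G 2) : RealDeg G 2 :=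
  ⟨twist f.1 χ.1, (charDegree_twist f.1 χ.1).trans χ.2.1, fun s => by
    rw [twist_apply]
    rcases sqOne_val f.2 s with h | h
    · rw [h, mul_one]; exact χ.2.2 s
    · rw [h, mul_neg, mul_one, Complex.neg_im, χ.2.2 s, neg_zero]⟩

theorem twistReal_apply (f : sqOne G) (χ : RealDeg G 2) (g : G) :
    ((twistReal f χ).1 : G → ℂ) g = (χ.1 : G → ℂ) g * ((f : G →* ℂˣ) g : ℂ) := rfl

theorem realDeg_ext {d : ℕ} {χ ψ : RealDeg G d}
    (h : ∀ g, (χ.1 : G → ℂ) g = (ψ.1 : G → ℂ) g) : χ = ψ :=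
  Subtype.ext (Subtype.ext (funext h))

/-- The action of real linear characters on real characters of degree two. -/
noncomputable def actReal : MulAction (sqOne G) (RealDeg G 2) where
  smul := twistReal
  one_smul := fun χ => realDeg_ext fun g => by
    show ((twistReal 1 χ).1 : G → ℂ) g = _
    rw [twistReal_apply]; simp
  mul_smul := fun f f' χ => realDeg_ext fun g => by
    show ((twistReal (f * f') χ).1 : G → ℂ) g = ((twistReal f (twistReal f' χ)).1 : G → ℂ) g
    rw [twistReal_apply, twistReal_apply, twistReal_apply, Subgroup.coe_mul,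
      MonoidHom.mul_apply, Units.val_mul]
    ring

/-- Twisting by a linear character which is real on `N`, for characters vanishing off `N`. -/
noncomputable def twistB (β : G →* ℂˣ) (N : Subgroup G) (hβ : ∀ n ∈ N, β n * β n = 1)
    (χ : RealDeg G 2) (hv : ∀ g, g ∉ N → (χ.1 : G → ℂ) g = 0) : RealDeg G 2 :=
  ⟨twist β χ.1, (charDegree_twist β χ.1).trans χ.2.1, fun s => by
    rw [twist_apply]
    by_cases hs : s ∈ N
    · have h' : (β s : ℂ) * (β s : ℂ) = 1 := by rw [← Units.val_mul, hβ s hs, Units.val_one]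
      rcases mul_self_eq_one_iff.1 h' with h | h
      · rw [h, mul_one]; exact χ.2.2 s
      · rw [h, mul_neg, mul_one, Complex.neg_im, χ.2.2 s, neg_zero]
    · rw [hv s hs, zero_mul]; rfl⟩

theorem twistB_apply (β : G →* ℂˣ) (N : Subgroup G) (hβ : ∀ n ∈ N, β n * β n = 1)
    (χ : RealDeg G 2) (hv : ∀ g, g ∉ N → (χ.1 : G → ℂ) g = 0) (g : G) :
    ((twistB β N hβ χ hv).1 : G → ℂ) g = (χ.1 : G → ℂ) g * (β g : ℂ) := rfl

theorem even_card_of_involution {α : Type*} (s : Finset α) (σ : ∀ a ∈ s, α)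
    (h1 : ∀ a ha, σ a ha ∈ s) (h2 : ∀ a ha, σ (σ a ha) (h1 a ha) = a)
    (h3 : ∀ a ha, σ a ha ≠ a) : Even s.card := by
  have h := Finset.sum_involution (s := s) (f := fun _ => (1 : ZMod 2)) σ
    (fun a ha => by show (1 : ZMod 2) + 1 = 0; decide) (fun a ha _ => h3 a ha) h1 h2
  rw [Finset.sum_const, nsmul_eq_mul, mul_one] at h
  exact ZMod.natCast_eq_zero_iff_even.1 h

theorem index_four (hG : IsPGroup 2 G) (h4 : 4 ≤ Nat.card (sqOne G))
    (hodd : Nat.card (RealDeg G 2) % 2 = 1) : (commutator G).index = 4 := by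
  classical
  haveI : Fact (Nat.Prime 2) := ⟨Nat.prime_two⟩
  haveI := finite_hom (G := G)
  letI : MulAction (sqOne G) (RealDeg G 2) := actReal
  have hfp := (isPGroup_sqOne G).card_modEq_card_fixedPoints (RealDeg G 2)
  let S : Finset (RealDeg G 2) :=
    Finset.univ.filter (fun χ => χ ∈ MulAction.fixedPoints (sqOne G) (RealDeg G 2))
  have hScard : Nat.card (MulAction.fixedPoints (sqOne G) (RealDeg G 2)) = S.card := by
    rw [Nat.card_eq_fintype_card]
    exact Fintype.card_of_subtype S (fun x =>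
      ⟨fun h => (Finset.mem_filter.1 h).2, fun h => Finset.mem_filter.2 ⟨Finset.mem_univ _, h⟩⟩)
  have hSodd : S.card % 2 = 1 := by
    have h := hfp
    unfold Nat.ModEq at h
    rw [hScard] at h
    omega
  have hfix : ∀ χ ∈ S, ∀ f : sqOne G, twistReal f χ = χ := by
    intro χ hχ f
    exact (Finset.mem_filter.1 hχ).2 f
  have hvan : ∀ χ ∈ S, ∀ g, g ∉ kerAll G → (χ.1 : G → ℂ) g = 0 := by
    intro χ hχ g hg
    rw [mem_kerAll] at hg
    push Not at hg
    obtain ⟨f, hf, hfg⟩ := hg
    have h := congrArg (fun ψ : RealDeg G 2 => (ψ.1 : G → ℂ) g) (hfix χ hχ ⟨f, hf⟩)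
    simp only [twistReal_apply] at h
    exact mul_fix_zero h (fun h1 => hfg (Units.ext (h1.trans Units.val_one.symm)))
  obtain ⟨χ₀, hχ₀⟩ : S.Nonempty := by
    rw [Finset.nonempty_iff_ne_empty]
    intro h
    rw [h] at hSodd
    simp at hSodd
  have hle : Nat.card G ≤ 4 * Nat.card (kerAll G) :=
    card_le_of_support χ₀.1 χ₀.2.1 (kerAll G) (hvan χ₀ hχ₀)
  have hge := four_le_index hG h4
  have hmul := (kerAll G).card_mul_index
  have hposN : 0 < Nat.card (kerAll G) := Nat.card_pos
  have hN4 : (kerAll G).index = 4 := by nlinarith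
  have hGN : Nat.card G = 4 * Nat.card (kerAll G) := by rw [← hmul, hN4, mul_comm]
  by_contra hne
  obtain ⟨n₀, hn₀N, hn₀⟩ : ∃ n₀ ∈ kerAll G, n₀ ∉ commutator G := by
    by_contra hcon
    push Not at hcon
    exact hne ((le_antisymm (commutator_le_kerAll G) hcon) ▸ hN4)
  obtain ⟨β, hβ1, n₁, hn₁N, hβ2⟩ := exists_beta hG (kerAll G) n₀ hn₀N hn₀
  have heven : Even S.card := by
    refine even_card_of_involution S
      (fun χ hχ => twistB β (kerAll G) hβ1 χ (hvan χ hχ)) ?_ ?_ ?_
    · intro χ hχ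
      refine Finset.mem_filter.2 ⟨Finset.mem_univ _, fun f => ?_⟩
      refine realDeg_ext fun g => ?_
      show ((twistReal f (twistB β (kerAll G) hβ1 χ (hvan χ hχ))).1 : G → ℂ) g = _
      rw [twistReal_apply, twistB_apply]
      have h := congrArg (fun ψ : RealDeg G 2 => (ψ.1 : G → ℂ) g) (hfix χ hχ f)
      simp only [twistReal_apply] at h
      rw [mul_right_comm, h]
    · intro χ hχ
      refine realDeg_ext fun g => ?_
      rw [twistB_apply, twistB_apply]
      by_cases hg : g ∈ kerAll G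
      · rw [mul_assoc, ← Units.val_mul, hβ1 g hg, Units.val_one, mul_one]
      · rw [hvan χ hχ g hg, zero_mul, zero_mul]
    · intro χ hχ heq
      have hv : ∀ g, g ∉ (kerAll G ⊓ β.ker) → (χ.1 : G → ℂ) g = 0 := by
        intro g hg
        by_cases hgN : g ∈ kerAll G
        · have hgb : β g ≠ 1 := fun h => hg ⟨hgN, MonoidHom.mem_ker.2 h⟩
          have h := congrArg (fun ψ : RealDeg G 2 => (ψ.1 : G → ℂ) g) heq
          simp only [twistB_apply] at h
          exact mul_fix_zero h (fun h1 => hgb (Units.ext (h1.trans Units.val_one.symm)))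
        · exact hvan χ hχ g hgN
      have hle2 := card_le_of_support χ.1 χ.2.1 _ hv
      have hKle : kerAll G ⊓ β.ker ≤ kerAll G := inf_le_left
      obtain ⟨m, hm⟩ := Subgroup.card_dvd_of_le hKle
      have hm1 : m ≠ 1 := by
        rintro rfl
        have hK : kerAll G ⊓ β.ker = kerAll G :=
          Subgroup.eq_of_le_of_card_ge hKle (by rw [hm]; simp)
        have hn₁K : n₁ ∈ kerAll G ⊓ β.ker := by rw [hK]; exact hn₁N
        exact hβ2 (MonoidHom.mem_ker.1 hn₁K.2)
      have hm0 : m ≠ 0 := by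
        rintro rfl
        omega
      have hm2 : 2 ≤ m := by omega
      have hb := Nat.mul_le_mul_left (Nat.card (kerAll G ⊓ β.ker : Subgroup G)) hm2
      have hposK : 0 < Nat.card (kerAll G ⊓ β.ker : Subgroup G) := Nat.card_pos
      omega
  rcases heven with ⟨m, hm⟩
  omega

/-- Let G be a finite 2-group whose number of involutions is congruent to 1 modulo 4. Then G is cyclic or its commutator subgroup has index 4. -/
theorem result {G : Type*} [Group G] [Finite G] (hG : IsPGroup 2 G) (ht : Nat.card {x : G // orderOf x = 2} % 4 = 1) : IsCyclic G ∨ (commutator G).index = 4 := by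
  classical
  have := Fintype.ofFinite G
  haveI := finite_hom (G := G)
  have h1 := count_mod4 hG
  rw [card_sq_eq, ← card_sqOne_eq] at h1
  obtain ⟨n, hn⟩ := IsPGroup.iff_card.1 (isPGroup_sqOne G)
  have h2 : (Nat.card {x : G // orderOf x = 2} + 1) % 4 =
      (Nat.card (sqOne G) + 2 * Nat.card (RealDeg G 2)) % 4 := by
    have h := h1
    unfold Int.ModEq at h
    omega
  rcases n with _ | _ | n
  · exfalso
    rw [pow_zero] at hn
    omega
  · left
    exact isCyclic_of_card_sqOne hG (by simpa using hn)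
  · right
    have h4' : Nat.card (sqOne G) = 4 * 2 ^ n := by rw [hn, pow_succ, pow_succ]; ring
    have hpos : 0 < 2 ^ n := Nat.pos_of_ne_zero (by positivity)
    exact index_four hG (by omega) (by omega)

end Cfsg.Agent.S4477
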