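import Cfsg.Statements.S4478
import Cfsg.Agent.Lib.helper4.DefectZero
import Cfsg.Agent.Lib.helper78.FrobSchur2
import Cfsg.Agent.Lib.helper82.CharSums
import Cfsg.Agent.Lib.helper71.Basic

set_option autoImplicit false
open Cfsg

namespace Cfsg.Agent.S4478

open Cfsg.Agent.Lib

universe u

variable {G : Type u} [Group G]

/-- A character of `p`-defect zero vanishes on the elements of order divisible by `p`. -/
theorem vanish [Finite G] (χ : IrrCharacter G) (p : ℕ) (hp : p.Prime)
    (hd : p ^ (Nat.card G).factorization p ∣ charDegree (χ : G → ℂ)) (g : G)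
    (hg : p ∣ orderOf g) : (χ : G → ℂ) g = 0 := by
  obtain ⟨χf, d, ρ, hirr, rfl⟩ := χ
  have := hirr
  have h1 : charDegree ρ.character = Module.finrank ℂ (Fin d → ℂ) := helper82.charDegree_char ρ
  have hd' : p ^ (Nat.card G).factorization p ∣ Module.finrank ℂ (Fin d → ℂ) := h1 ▸ hd
  exact helper4.char_eq_zero_of_defect_zero ρ p _ hp
    (Nat.pow_succ_factorization_not_dvd Nat.card_pos.ne' hp) hd' g hg

theorem sum_eq_zero [Fintype G] (χ : IrrCharacter G) (h1 : (χ : G → ℂ) 1 ≠ 1) :
    ∑ g, (χ : G → ℂ) g = 0 := by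
  classical
  have h := helper83.classInner_irr χ ⟨fun _ => 1, helper83.isIrrCharacter_one⟩
  have hne : χ ≠ ⟨fun _ => 1, helper83.isIrrCharacter_one⟩ := by
    intro h; apply h1; rw [h]
  rw [if_neg hne] at h
  unfold classInner at h
  simp only [map_one, mul_one] at h
  have hG : (Nat.card G : ℂ)⁻¹ ≠ 0 := inv_ne_zero (by exact_mod_cast Nat.card_pos.ne')
  exact (mul_eq_zero.mp h).resolve_left hG

/-- Squaring permutes the elements of odd order. -/
theorem sum_sq_odd [Fintype G] [DecidableEq G] (f : G → ℂ) :
    ∑ g ∈ Finset.univ.filter (fun g : G => Odd (orderOf g)), f (g * g) =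
    ∑ g ∈ Finset.univ.filter (fun g : G => Odd (orderOf g)), f g := by
  have key : ∀ g : G, Odd (orderOf g) → orderOf (g * g) = orderOf g := by
    intro g hg
    rw [← pow_two]
    exact Nat.Coprime.orderOf_pow (Nat.coprime_two_right.mpr hg)
  refine Finset.sum_nbij' (fun g => g * g) (fun h => h ^ ((orderOf h + 1) / 2)) ?_ ?_ ?_ ?_ ?_
  · intro g hg
    simp only [Finset.mem_filter, Finset.mem_univ, true_and] at hg ⊢
    rw [key g hg]; exact hg
  · intro h hh
    simp only [Finset.mem_filter, Finset.mem_univ, true_and] at hh ⊢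
    exact Odd.of_dvd_nat hh (orderOf_pow_dvd _)
  · intro g hg
    simp only [Finset.mem_filter, Finset.mem_univ, true_and] at hg
    show (g * g) ^ ((orderOf (g * g) + 1) / 2) = g
    rw [key g hg, ← pow_two, ← pow_mul]
    obtain ⟨m, hm⟩ := hg
    have h1 : 2 * ((orderOf g + 1) / 2) = orderOf g + 1 := by omega
    rw [h1, pow_succ, pow_orderOf_eq_one, one_mul]
  · intro h hh
    simp only [Finset.mem_filter, Finset.mem_univ, true_and] at hh
    show h ^ ((orderOf h + 1) / 2) * h ^ ((orderOf h + 1) / 2) = h
    rw [← pow_add]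
    obtain ⟨m, hm⟩ := hh
    have h1 : (orderOf h + 1) / 2 + (orderOf h + 1) / 2 = orderOf h + 1 := by omega
    rw [h1, pow_succ, pow_orderOf_eq_one, one_mul]
  · intro g _
    rfl

/-- Let G be a finite group of even order and χ an irreducible character of G whose degree x is divisible by the full power of 2 dividing the order of G and, for every odd prime p such that G has an element of order 2p, by the full power of p dividing the order of G. Then all involutions of G are conjugate, the centralizer of every involution has order exactly x with x coprime to its index, and the Frobenius–Schur indicator of χ equals 1. -/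
theorem result {G : Type*} [Group G] [Fintype G] (heven : Even (Nat.card G)) (χ : Cfsg.IrrCharacter G) (h2 : 2 ^ (Nat.card G).factorization 2 ∣ Cfsg.charDegree (χ : G → ℂ)) (hp : ∀ p : ℕ, p.Prime → p ≠ 2 → (∃ g : G, orderOf g = 2 * p) → p ^ (Nat.card G).factorization p ∣ Cfsg.charDegree (χ : G → ℂ)) : (∀ s t : G, orderOf s = 2 → orderOf t = 2 → IsConj s t) ∧ (∀ s : G, orderOf s = 2 → Nat.card (Subgroup.centralizer ({s} : Set G)) = Cfsg.charDegree (χ : G → ℂ) ∧ (Nat.card (Subgroup.centralizer ({s} : Set G))).Coprime (Subgroup.centralizer ({s} : Set G)).index) ∧ (Nat.card G : ℂ)⁻¹ * ∑ g : G, (χ : G → ℂ) (g * g) = 1 := by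
  classical
  obtain ⟨x, hx⟩ : ∃ x, x = charDegree (χ : G → ℂ) := ⟨_, rfl⟩
  rw [← hx] at h2 hp ⊢
  have hxpos : 0 < x := hx ▸ helper82.irr_charDegree_pos χ
  have hx1 : (χ : G → ℂ) 1 = (x : ℂ) := hx ▸ helper82.irr_one_eq χ
  have hG2 : 2 ∣ Nat.card G := heven.two_dvd
  have h2x : 2 ∣ x := by
    refine dvd_trans ?_ h2
    apply dvd_pow_self
    exact (Nat.Prime.factorization_pos_of_dvd Nat.prime_two Nat.card_pos.ne' hG2).ne'
  have hχ1 : (χ : G → ℂ) 1 ≠ 1 := by
    rw [hx1]
    intro h
    have : x = 1 := by exact_mod_cast h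
    omega
  have hvan2 : ∀ g : G, ¬ Odd (orderOf g) → (χ : G → ℂ) g = 0 := by
    intro g hg
    exact vanish χ 2 Nat.prime_two (hx ▸ h2) g
      (by rwa [Nat.not_odd_iff_even, even_iff_two_dvd] at hg)
  have hsum : ∑ g : G, (χ : G → ℂ) (g * g) = (Nat.card {s : G // orderOf s = 2} : ℂ) * x := by
    rw [← Finset.sum_filter_add_sum_filter_not Finset.univ (fun g : G => Odd (orderOf g))]
    have hA : ∑ g ∈ Finset.univ.filter (fun g : G => Odd (orderOf g)),
        (χ : G → ℂ) (g * g) = 0 := by
      rw [sum_sq_odd]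
      have h0 := sum_eq_zero χ hχ1
      rw [← Finset.sum_filter_add_sum_filter_not Finset.univ (fun g : G => Odd (orderOf g))] at h0
      have hB : ∑ g ∈ Finset.univ.filter (fun g : G => ¬ Odd (orderOf g)), (χ : G → ℂ) g = 0 :=
        Finset.sum_eq_zero (fun g hg => hvan2 g (Finset.mem_filter.mp hg).2)
      rw [hB, add_zero] at h0
      exact h0
    rw [hA, zero_add, Finset.sum_filter]
    have hB : ∀ g : G, (if ¬ Odd (orderOf g) then (χ : G → ℂ) (g * g) else 0) =
        (if orderOf g = 2 then (1 : ℂ) else 0) * x := by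
      intro g
      by_cases h2o : orderOf g = 2
      · have hno : ¬ Odd (orderOf g) := by rw [h2o]; decide
        have hgg : g * g = 1 := by rw [← pow_two, ← h2o, pow_orderOf_eq_one]
        rw [if_pos hno, if_pos h2o, hgg, hx1, one_mul]
      · rw [if_neg h2o, zero_mul]
        by_cases hg' : Odd (orderOf g)
        · rw [if_neg (not_not.mpr hg')]
        · rw [if_pos hg']
          have hn0 : 0 < orderOf g := orderOf_pos g
          obtain ⟨m, hm⟩ := Nat.not_odd_iff_even.mp hg'
          have hsq : orderOf (g * g) = m := by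
            rw [← pow_two, orderOf_pow' g (by norm_num : (2 : ℕ) ≠ 0), hm]
            have h3 : Nat.gcd (m + m) 2 = 2 := Nat.gcd_eq_right ⟨m, by ring⟩
            rw [h3]
            omega
          by_cases hmo : Odd m
          · have hm1 : m ≠ 1 := by
              intro h
              apply h2o
              rw [hm, h]
            obtain ⟨p, hpp, hpm⟩ := Nat.exists_prime_and_dvd hm1
            have hp2 : p ≠ 2 := by
              rintro rfl
              exact (Nat.not_even_iff_odd.mpr hmo) (even_iff_two_dvd.mpr hpm)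
            have hex : ∃ y : G, orderOf y = 2 * p := by
              obtain ⟨c, rfl⟩ := hpm
              have hc : 0 < c := by
                rcases Nat.eq_zero_or_pos c with rfl | h
                · rw [Nat.mul_zero, Nat.add_zero] at hm; omega
                · exact h
              refine ⟨g ^ c, ?_⟩
              rw [orderOf_pow' g hc.ne', hm]
              have h3 : Nat.gcd (p * c + p * c) c = c := Nat.gcd_eq_right ⟨2 * p, by ring⟩
              rw [h3, show p * c + p * c = (2 * p) * c by ring, Nat.mul_div_cancel _ hc]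
            have hd := hp p hpp hp2 hex
            exact vanish χ p hpp (hx ▸ hd) (g * g) (by rw [hsq]; exact hpm)
          · exact vanish χ 2 Nat.prime_two (hx ▸ h2) (g * g)
              (by rw [hsq]; exact even_iff_two_dvd.mp (Nat.not_odd_iff_even.mp hmo))
    rw [Finset.sum_congr rfl (fun g _ => hB g), ← Finset.sum_mul, Finset.sum_boole,
      Nat.card_eq_fintype_card, Fintype.card_subtype]
  obtain ⟨e, he, hνe, -⟩ := helper78.irr_fs_indicator χ
  obtain ⟨I, hI⟩ : ∃ I, I = Nat.card {s : G // orderOf s = 2} := ⟨_, rfl⟩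
  rw [← hI] at hsum
  have hIpos : 0 < I := by
    have : Fact (Nat.Prime 2) := ⟨Nat.prime_two⟩
    obtain ⟨s, hs⟩ := exists_prime_orderOf_dvd_card' 2 hG2
    rw [hI]
    exact Nat.card_pos_iff.mpr ⟨⟨⟨s, hs⟩⟩, inferInstance⟩
  have hcardG : (Nat.card G : ℂ) ≠ 0 := by exact_mod_cast Nat.card_pos.ne'
  have hIx : I * x = Nat.card G := by
    rw [hsum] at hνe
    have h1 : ((I * x : ℕ) : ℂ) = (e : ℂ) * (Nat.card G : ℂ) := by
      push_cast
      rw [inv_mul_eq_iff_eq_mul₀ hcardG] at hνe
      rw [hνe]; ring
    have h3 : ((I * x : ℕ) : ℤ) = e * (Nat.card G : ℤ) := by exact_mod_cast h1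
    have hpos : 0 < I * x := Nat.mul_pos hIpos hxpos
    have hpos' : (0 : ℤ) < ((I * x : ℕ) : ℤ) := by exact_mod_cast hpos
    have hGpos : (0 : ℤ) < (Nat.card G : ℤ) := by exact_mod_cast Nat.card_pos
    rcases he with h | h | h
    · rw [h, zero_mul] at h3; omega
    · rw [h, one_mul] at h3; exact_mod_cast h3
    · rw [h] at h3; nlinarith
  have hfull : ∀ s : G, orderOf s = 2 → ∀ p : ℕ, p.Prime →
      p ∣ Nat.card (Subgroup.centralizer ({s} : Set G)) →
      p ^ (Nat.card G).factorization p ∣ x := by
    intro s hs p hpp hpC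
    by_cases hp2 : p = 2
    · subst hp2; exact h2
    · have : Fact p.Prime := ⟨hpp⟩
      obtain ⟨c, hc⟩ := exists_prime_orderOf_dvd_card' p hpC
      apply hp p hpp hp2
      refine ⟨s * (c : G), ?_⟩
      have hcomm : Commute s (c : G) := by
        have h1 := c.2
        rw [Subgroup.mem_centralizer_iff] at h1
        exact h1 s (Set.mem_singleton s)
      have hco : orderOf (c : G) = p := by rw [Subgroup.orderOf_coe]; exact hc
      rw [hcomm.orderOf_mul_eq_mul_orderOf_of_coprime
        (by rw [hs, hco]; exact (Nat.coprime_primes Nat.prime_two hpp).mpr (Ne.symm hp2)), hs, hco]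
  have hCdvd : ∀ s : G, orderOf s = 2 → Nat.card (Subgroup.centralizer ({s} : Set G)) ∣ x := by
    intro s hs
    rw [Nat.dvd_iff_prime_pow_dvd_dvd]
    intro p k hpp hpk
    rcases Nat.eq_zero_or_pos k with rfl | hk
    · simp
    · have h1 := hfull s hs p hpp ((dvd_pow_self p hk.ne').trans hpk)
      have h3 : p ^ k ∣ Nat.card G := hpk.trans (Subgroup.card_subgroup_dvd_card _)
      have h4 : k ≤ (Nat.card G).factorization p :=
        (hpp.pow_dvd_iff_le_factorization Nat.card_pos.ne').mp h3
      exact (pow_dvd_pow p h4).trans h1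
  -- class counting
  have hclass : ∀ s : G, orderOf s = 2 →
      Nat.card (Subgroup.centralizer ({s} : Set G)) = x ∧
      (ConjClasses.mk s).carrier = {g : G | orderOf g = 2} := by
    intro s hs
    have hsub : (ConjClasses.mk s).carrier ⊆ {g : G | orderOf g = 2} := by
      intro g hg
      rw [ConjClasses.mem_carrier_iff_mk_eq, ConjClasses.mk_eq_mk_iff_isConj] at hg
      obtain ⟨c, hc⟩ := isConj_iff.mp hg
      show orderOf g = 2
      have h1 : orderOf (MulAut.conj c g) = orderOf g := MulEquiv.orderOf_eq _ _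
      rw [MulAut.conj_apply, hc] at h1
      rw [← h1, hs]
    have hfin : ({g : G | orderOf g = 2} : Set G).Finite := Set.toFinite _
    have hle : (Subgroup.centralizer ({s} : Set G)).index ≤ I := by
      rw [← helper71.ncard_conjClass_eq_index_centralizer, hI, ← Nat.card_coe_set_eq]
      exact Set.ncard_le_ncard hsub hfin
    have hmul : Nat.card (Subgroup.centralizer ({s} : Set G)) *
        (Subgroup.centralizer ({s} : Set G)).index = Nat.card G := Subgroup.card_mul_index _
    have hCle : Nat.card (Subgroup.centralizer ({s} : Set G)) ≤ x :=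
      Nat.le_of_dvd hxpos (hCdvd s hs)
    have hCpos : 0 < Nat.card (Subgroup.centralizer ({s} : Set G)) := Nat.card_pos
    have hipos : 0 < (Subgroup.centralizer ({s} : Set G)).index :=
      Nat.pos_of_ne_zero Subgroup.index_ne_zero_of_finite
    have hCeq : Nat.card (Subgroup.centralizer ({s} : Set G)) = x := by
      by_contra hne
      have hlt : Nat.card (Subgroup.centralizer ({s} : Set G)) < x := lt_of_le_of_ne hCle hne
      have h1 : Nat.card (Subgroup.centralizer ({s} : Set G)) *
          (Subgroup.centralizer ({s} : Set G)).index < x * I :=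
        calc _ < x * (Subgroup.centralizer ({s} : Set G)).index :=
              Nat.mul_lt_mul_of_pos_right hlt hipos
          _ ≤ x * I := Nat.mul_le_mul_left x hle
      rw [hmul, ← hIx, mul_comm] at h1
      exact lt_irrefl _ h1
    refine ⟨hCeq, ?_⟩
    have hidx : (Subgroup.centralizer ({s} : Set G)).index = I := by
      rw [hCeq, ← hIx, mul_comm] at hmul
      exact Nat.eq_of_mul_eq_mul_right hxpos hmul
    apply Set.eq_of_subset_of_ncard_le hsub _ hfin
    rw [helper71.ncard_conjClass_eq_index_centralizer, hidx, hI, ← Nat.card_coe_set_eq]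
    exact le_rfl
  refine ⟨?_, ?_, ?_⟩
  · intro s t hs ht
    have h1 : t ∈ (ConjClasses.mk s).carrier := by
      rw [(hclass s hs).2]; exact ht
    rw [ConjClasses.mem_carrier_iff_mk_eq, ConjClasses.mk_eq_mk_iff_isConj] at h1
    exact h1.symm
  · intro s hs
    refine ⟨(hclass s hs).1, ?_⟩
    apply Nat.coprime_of_dvd
    intro p hpp hpC hpi
    have h1 := hfull s hs p hpp hpC
    rw [← (hclass s hs).1] at h1
    have h3 : p ^ ((Nat.card G).factorization p + 1) ∣ Nat.card G := by
      have h4 := Nat.mul_dvd_mul h1 hpi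
      rwa [Subgroup.card_mul_index, ← pow_succ] at h4
    exact Nat.pow_succ_factorization_not_dvd Nat.card_pos.ne' hpp h3
  · rw [hsum, ← Nat.cast_mul, hIx]
    exact inv_mul_cancel₀ hcardG

end Cfsg.Agent.S4478
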