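import Cfsg.Statements.S4482
import Cfsg.Agent.Lib.helper81.DihFinal

set_option autoImplicit false
open Cfsg

namespace Cfsg.Agent.S4482

/-- An order formula for groups with dihedral Sylow 2-subgroups and one class of involutions. Let G be a finite group whose Sylow 2-subgroup P = ⟨σ, τ⟩ is dihedral of order 2^n ≥ 8 (σ of order 2^(n−1), τ an involution inverting σ), let J be the central involution σ^(2^(n−2)), and suppose J, τ and στ are conjugate in G. Fix M over 2 and let χ₁ be an irreducible character in the principal 2-block taking one constant value δ₁ = ±1 at every non-identity power of σ, with χ₁ ≠ 1. Then, with x₁ = χ₁(1) and c(·) denoting orders of centralizers, x₁ ≠ δ₁ and #G · (x₁ − δ₁)² = 2·x₁(x₁ + δ₁)·c(J)³·(1/c(J, τ) + 1/c(J, στ))², where c(J, y) is the order of the joint centralizer of J and y. -/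
theorem result {G : Type*} [Group G] [Finite G] (M : Ideal Cfsg.AlgInt) (hM : Cfsg.IsPModular 2 M) (n : ℕ) (hn : 3 ≤ n) (P : Sylow 2 G) (σ τ : G) (hσ : σ ∈ (P : Subgroup G)) (hτ : τ ∈ (P : Subgroup G)) (hσo : orderOf σ = 2 ^ (n - 1)) (hτo : orderOf τ = 2) (hrel : τ * σ * τ⁻¹ = σ⁻¹) (hgen : Subgroup.closure ({σ, τ} : Set G) = (P : Subgroup G)) (hconj : IsConj (σ ^ (2 ^ (n - 2))) τ ∧ IsConj (σ ^ (2 ^ (n - 2))) (σ * τ)) (χ₁ : Cfsg.IrrCharacter G) (hχ₁ : χ₁ ∈ Cfsg.principalBlock M G) (h1 : (χ₁ : G → ℂ) ≠ (fun _ => 1)) (δ₁ : ℤ) (hδ₁ : δ₁ = 1 ∨ δ₁ = -1) (hval : ∀ l : ℕ, 0 < l → l < 2 ^ (n - 1) → (χ₁ : G → ℂ) (σ ^ l) = δ₁) : (Cfsg.charDegree (χ₁ : G → ℂ) : ℤ) ≠ δ₁ ∧ (Nat.card G : ℚ) * ((Cfsg.charDegree (χ₁ : G → ℂ) : ℚ) - δ₁) ^ 2 = 2 * (Cfsg.charDegree (χ₁ : G → ℂ) : ℚ) * ((Cfsg.charDegree (χ₁ : G → ℂ) : ℚ) + δ₁) * (Nat.card (Subgroup.centralizer ({σ ^ (2 ^ (n - 2))} : Set G)) : ℚ) ^ 3 * (1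 / (Nat.card (Subgroup.centralizer ({σ ^ (2 ^ (n - 2)), τ} : Set G)) : ℚ) + 1 / (Nat.card (Subgroup.centralizer ({σ ^ (2 ^ (n - 2)), σ * τ} : Set G)) : ℚ)) ^ 2 := by
  classical
  have : Fintype G := Fintype.ofFinite G
  have hτ2 : τ * τ = 1 := by
    have := pow_orderOf_eq_one τ
    rwa [hτo, pow_two] at this
  have hP : ∀ x ∈ (P : Subgroup G), x ∈ Subgroup.zpowers σ ∨ τ * x ∈ Subgroup.zpowers σ := by
    intro x hx
    rw [← hgen] at hx
    exact Cfsg.Agent.Lib.helper81.dih_closure_cases σ τ hτ2 hrel x hx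
  have hζ : IsPrimitiveRoot (Complex.exp (2 * Real.pi * Complex.I / ((2 ^ (n - 1) : ℕ) : ℂ)))
      (2 ^ (n - 1)) := Complex.isPrimitiveRoot_exp _ (by positivity)
  obtain ⟨H, lam, D⟩ := Cfsg.Agent.Lib.helper81.dih_local_exists P σ τ n hn hσ hτ hσo hτo hrel hP
    _ hζ
  have hK := Cfsg.Agent.Lib.helper81.dih_one_class P σ τ n (by omega) hσo hτ2 hrel hP hconj
  have hδ : ((δ₁ : ℤ) : ℂ) = 1 ∨ ((δ₁ : ℤ) : ℂ) = -1 := by
    rcases hδ₁ with h | h
    · left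
      rw [h]
      norm_num
    · right
      rw [h]
      norm_num
  have hval' : ∀ h : ↥H, Even (orderOf (h : G)) → (χ₁ : G → ℂ) h = ((δ₁ : ℤ) : ℂ) := by
    intro h he
    obtain ⟨l, hl0, hl1, hl⟩ := D.section_const hM χ₁ hχ₁ (h : G) h.2 he
    rw [hl]
    exact hval l hl0 hl1
  obtain ⟨hne, hform⟩ := D.order_formula hK χ₁ h1 _ hδ hval'
  rw [Cfsg.Agent.Lib.helper83.irr_one_eq_charDegree] at hne hform
  have hJ := D.card_J
  have hA := Cfsg.Agent.Lib.helper81.dih_card_conj (σ ^ (2 ^ (n - 2))) τ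
  have hB := Cfsg.Agent.Lib.helper81.dih_card_conj (σ ^ (2 ^ (n - 2))) (σ * τ)
  rw [hJ] at hform
  refine ⟨?_, ?_⟩
  · intro h
    apply hne
    rw [← h]
    norm_num
  · have hc1 : (Nat.card (Subgroup.centralizer ({σ ^ (2 ^ (n - 2)), τ} : Set G)) : ℚ) ≠ 0 := by
      exact_mod_cast Nat.card_pos.ne'
    have hc2 : (Nat.card (Subgroup.centralizer ({σ ^ (2 ^ (n - 2)), σ * τ} : Set G)) : ℚ) ≠ 0 := by
      exact_mod_cast Nat.card_pos.ne'
    have hA' : (Nat.card {a : G // ∃ c ∈ Subgroup.centralizer ({σ ^ (2 ^ (n - 2))} : Set G),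
        a = c * τ * c⁻¹} : ℚ) = (Nat.card (Subgroup.centralizer ({σ ^ (2 ^ (n - 2))} : Set G)) : ℚ) /
        (Nat.card (Subgroup.centralizer ({σ ^ (2 ^ (n - 2)), τ} : Set G)) : ℚ) := by
      rw [eq_div_iff hc1, ← hA]
      push_cast
      ring
    have hB' : (Nat.card {a : G // ∃ c ∈ Subgroup.centralizer ({σ ^ (2 ^ (n - 2))} : Set G),
        a = c * (σ * τ) * c⁻¹} : ℚ) =
        (Nat.card (Subgroup.centralizer ({σ ^ (2 ^ (n - 2))} : Set G)) : ℚ) /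
        (Nat.card (Subgroup.centralizer ({σ ^ (2 ^ (n - 2)), σ * τ} : Set G)) : ℚ) := by
      rw [eq_div_iff hc2, ← hB]
      push_cast
      ring
    have hQ : (Nat.card G : ℚ) * ((Cfsg.charDegree (χ₁ : G → ℂ) : ℚ) - δ₁) ^ 2 =
        2 * (Cfsg.charDegree (χ₁ : G → ℂ) : ℚ) * ((Cfsg.charDegree (χ₁ : G → ℂ) : ℚ) + δ₁) *
          (Nat.card (Subgroup.centralizer ({σ ^ (2 ^ (n - 2))} : Set G)) : ℚ) *
          ((Nat.card {a : G // ∃ c ∈ Subgroup.centralizer ({σ ^ (2 ^ (n - 2))} : Set G),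
            a = c * τ * c⁻¹} : ℚ) +
           (Nat.card {a : G // ∃ c ∈ Subgroup.centralizer ({σ ^ (2 ^ (n - 2))} : Set G),
            a = c * (σ * τ) * c⁻¹} : ℚ)) ^ 2 := by
      apply Rat.cast_injective (α := ℂ)
      push_cast
      push_cast at hform
      exact hform
    rw [hQ, hA', hB']
    ring

end Cfsg.Agent.S4482
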