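import Cfsg.Statements.S4483
import Cfsg.Agent.Lib.helper78.OddCount

set_option autoImplicit false
open Cfsg

namespace Cfsg.Agent.S4483

/-- Let G be a finite group of order 2^n·g₀ with g₀ odd, and M a maximal ideal of the algebraic integers containing 2. Every real-valued irreducible character of G of odd degree lies in the principal 2-block; consequently G has at most 2^(2n) real-valued irreducible characters of odd degree. -/
theorem result {G : Type*} [Group G] [Finite G] (M : Ideal Cfsg.AlgInt) (hM : Cfsg.IsPModular 2 M) : (∀ χ : Cfsg.IrrCharacter G, (∀ g : G, ((χ : G → ℂ) g).im = 0) → Odd (Cfsg.charDegree (χ : G → ℂ)) → χ ∈ Cfsg.principalBlock M G) ∧ Nat.card {χ : Cfsg.IrrCharacter G // (∀ g : G, ((χ : G → ℂ) g).im = 0) ∧ Odd (Cfsg.charDegree (χ : G → ℂ))} ≤ 2 ^ (2 * (Nat.card G).factorization 2) := by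
  classical
  have := Fintype.ofFinite G
  have h1 : ∀ χ : Cfsg.IrrCharacter G, (∀ g : G, ((χ : G → ℂ) g).im = 0) →
      Odd (Cfsg.charDegree (χ : G → ℂ)) → χ ∈ Cfsg.principalBlock M G :=
    fun χ hr ho => Cfsg.Agent.Lib.helper78.mem_principalBlock_of_real_odd hM χ hr ho
  refine ⟨h1, ?_⟩
  have : Finite (Cfsg.IrrCharacter G) := Finite.of_fintype _
  refine le_trans ?_ (Cfsg.Agent.Lib.helper78.card_principalBlock_le (G := G) hM)
  apply Nat.card_le_card_of_injective
    (fun x : {χ : Cfsg.IrrCharacter G // (∀ g : G, ((χ : G → ℂ) g).im = 0) ∧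
        Odd (Cfsg.charDegree (χ : G → ℂ))} =>
      (⟨x.1, h1 x.1 x.2.1 x.2.2⟩ : {ψ : Cfsg.IrrCharacter G // ψ ∈ Cfsg.principalBlock M G}))
  intro x y hxy
  apply Subtype.ext
  exact congrArg (fun z : {ψ : Cfsg.IrrCharacter G // ψ ∈ Cfsg.principalBlock M G} => z.1) hxy

end Cfsg.Agent.S4483
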