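import Cfsg.Statements.S4484
import Cfsg.Agent.Lib.helper81.S4484L
import Cfsg.Agent.Lib.helper81.WBO
import Cfsg.Agent.Lib.helper81.Kernel
import Cfsg.Agent.Lib.helper76.KazCore
import Cfsg.Agent.Lib.helper43.S4484FA
import Cfsg.Agent.Lib.helper61.S4484NT4
import Cfsg.Agent.Lib.helper56.S4484SY
import Cfsg.Agent.Lib.helper56.S4484BL
import Cfsg.Agent.Lib.helper56.S4484MU1
import Cfsg.Agent.Lib.helper15.S4484MU2a
import Cfsg.Agent.Lib.helper15.S4484MU2b

set_option autoImplicit false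
open Cfsg

namespace Cfsg.Agent.S4484

open Cfsg.Agent.Lib.helper83 Cfsg.Agent.Lib.helper79 Cfsg.Agent.Lib.helper81
  Cfsg.Agent.Lib.helper81.S4484
open Cfsg.Agent.Lib.helper43.S4484 Cfsg.Agent.Lib.helper61.S4484 Cfsg.Agent.Lib.helper56.S4484
  Cfsg.Agent.Lib.helper15.S4484

/-- A refinement of Burnside's result on simple groups of order divisible by only two primes. Let G be a finite simple group of order p^a · q^b · g₀ with p, q distinct primes, a > 0, g₀ coprime to p and q, and the order of G different from p. Then g₀ − 1 > log p / log 6, that is 6^(g₀ − 1) > p. -/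
theorem result {G : Type*} [Group G] [Finite G] [IsSimpleGroup G] (p q a b g₀ : ℕ) (hp : p.Prime) (hq : q.Prime) (hpq : p ≠ q) (ha : 0 < a) (hg : Nat.card G = p ^ a * q ^ b * g₀) (hcop : ¬ p ∣ g₀) (hcoq : ¬ q ∣ g₀) (hne : Nat.card G ≠ p) : p < 6 ^ (g₀ - 1) := by
  classical
  by_contra hcon
  have hcon' : 6 ^ (g₀ - 1) ≤ p := not_lt.mp hcon
  haveI : Fintype G := Fintype.ofFinite G
  have hG0 : 0 < Nat.card G := Nat.card_pos
  have hg0 : 1 ≤ g₀ := by
    rcases Nat.eq_zero_or_pos g₀ with h | h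
    · rw [h, mul_zero] at hg
      omega
    · exact h
  have hpG : p ∣ Nat.card G := by
    rw [hg]
    exact Dvd.dvd.mul_right (Dvd.dvd.mul_right (dvd_pow_self p ha.ne') _) _
  have hg0p : g₀ < p := by
    have h1 : g₀ - 1 < 6 ^ (g₀ - 1) := Nat.lt_pow_self (by norm_num)
    have h2 : g₀ ≤ p := by omega
    rcases Nat.lt_or_ge g₀ p with h | h
    · exact h
    · exact absurd (le_antisymm h h2 ▸ dvd_refl p) hcop
  obtain ⟨M, hM⟩ := Cfsg.Agent.Lib.helper76.exists_isPModular p hp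
  obtain ⟨χ, hχB, hχne, hχq⟩ := exists_block_char (G := G) p q hq M hM hpG
  obtain ⟨n, ρ, -, hρχ⟩ := χ.2
  obtain ⟨x, hxo, hxK⟩ := exists_central_p_elt (G := G) p hp hpG
  have hinj : Function.Injective (repMat ρ) :=
    repMat_injective_of_simple ρ (by rw [hρχ]; exact irr_exists_ne_of_ne_triv χ hχne)
  have hd : charDegree (χ : G → ℂ) ∣ p ^ a * q ^ b * g₀ := hg ▸ irr_degree_dvd_card χ
  -- the eigenvalue sets of the conjugates of `x`
  have hdata : ∀ y : G, orderOf y = p →
      (Subgroup.centralizer ({y} : Set G)).index = (Subgroup.centralizer ({x} : Set G)).index →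
      ∃ E : Finset ℂ, (∀ lam ∈ E, lam ^ p = 1) ∧
        (∀ lam : ℂ, lam ^ p = 1 → lam ∉ E → proj (repMat ρ y) p lam = 0) ∧ E.card ≤ g₀ := by
    intro y hyo hyK
    have hyKp : ¬ p ∣ (Subgroup.centralizer ({y} : Set G)).index := by rw [hyK]; exact hxK
    have hKd : (Subgroup.centralizer ({y} : Set G)).index ∣ p ^ a * q ^ b * g₀ :=
      hg ▸ Subgroup.index_dvd_card _
    have he : Nat.gcd (charDegree (χ : G → ℂ)) (Subgroup.centralizer ({y} : Set G)).index ∣ g₀ :=
      gcd_dvd_g0 p q a b g₀ _ _ hp hq hd hKd hχq hyKp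
    have hele := Nat.le_of_dvd hg0 he
    obtain ⟨c, hc0, hcχ⟩ := exists_mult ρ p hp y (by rw [← hyo]; exact pow_orderOf_eq_one y)
    have hcχ' : ∀ l : ℕ, (χ : G → ℂ) (y ^ l) =
        ∑ lam ∈ Polynomial.nthRootsFinset p (1 : ℂ), (c lam : ℂ) * lam ^ l := by
      intro l
      rw [← hρχ]
      exact hcχ l
    have hcard := card_support_le p M hM χ hχB y hyo hyKp c hcχ' (lt_of_le_of_lt hele hg0p)
    refine ⟨(Polynomial.nthRootsFinset p (1 : ℂ)).filter (fun lam => c lam ≠ 0), ?_, ?_,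
      le_trans hcard hele⟩
    · intro lam hlam
      exact (Polynomial.mem_nthRootsFinset hp.pos (1 : ℂ)).mp (Finset.mem_filter.mp hlam).1
    · intro lam hl hlam
      apply hc0 lam hl
      by_contra h
      exact hlam (Finset.mem_filter.mpr ⟨(Polynomial.mem_nthRootsFinset hp.pos (1 : ℂ)).mpr hl, h⟩)
  have hxp : x ^ p = 1 := by rw [← hxo]; exact pow_orderOf_eq_one x
  obtain ⟨E, hE, hPE, hEc⟩ := hdata x hxo rfl
  have key : ∀ u : G, x * (u * x * u⁻¹) = (u * x * u⁻¹) * x := by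
    intro u
    have hyo : orderOf (u * x * u⁻¹) = p := by
      have := (MulAut.conj u).orderOf_eq x
      rw [MulAut.conj_apply] at this
      rw [this, hxo]
    have hyp : (u * x * u⁻¹) ^ p = 1 := by rw [← hyo]; exact pow_orderOf_eq_one _
    obtain ⟨E', hE', hPE', hE'c⟩ := hdata (u * x * u⁻¹) hyo (centralizer_index_conj x u)
    apply hinj
    rw [repMat_mul ρ x (u * x * u⁻¹), repMat_mul ρ (u * x * u⁻¹) x]
    apply Cfsg.Agent.Lib.helper81.S4484.comm_of_few_eigen ρ p hp x (u * x * u⁻¹) hxp hyp E E' hE hE' hPE hPE'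
    have h1 : E.card + E'.card - 2 ≤ 2 * (g₀ - 1) := by omega
    exact lt_of_le_of_lt (Nat.pow_le_pow_right hp.pos h1) (pow_lt_two_pow p g₀ hp hg0 hcon')
  have hx1 : x ≠ 1 := by
    intro h
    rw [h, orderOf_one] at hxo
    exact hp.one_lt.ne hxo
  have hcomm := comm_of_comm_conj x hx1 key
  have hprime : (Nat.card G).Prime := by
    letI : CommGroup G := { ‹Group G› with mul_comm := hcomm }
    exact IsSimpleGroup.prime_card
  exact hne ((Nat.prime_dvd_prime_iff_eq hp hprime).mp hpG).symm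

end Cfsg.Agent.S4484
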