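import Mathlib
import Cfsg.Statements.S4485
import Cfsg.Agent.Lib.helper21.BLMain
import Cfsg.Agent.Lib.helper21.SylowConj

set_option autoImplicit false
open Cfsg

namespace Cfsg.Agent.S4485

open Cfsg.Agent.Lib.helper21 Cfsg.Agent.Lib.helper4 in
/-- Let G be a finite group and p a prime dividing its order such that every non-identity element of a Sylow p-subgroup P has the same centralizer as P itself (so P is abelian); let p^n be the order of P. If G has a faithful character of degree x with x² < p^n − 1, then P is normal in G. -/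
theorem result {G : Type*} [Group G] [Finite G] (p : ℕ) (hp : p.Prime) (hpG : p ∣ Nat.card G) (P : Sylow p G) (hstar : ∀ x ∈ (P : Subgroup G), x ≠ 1 → Subgroup.centralizer ({x} : Set G) = Subgroup.centralizer ((P : Subgroup G) : Set G)) (n : ℕ) (hn : Nat.card P = p ^ n) (χ : G → ℂ) (hχ : Cfsg.IsCharacter G χ) (hfaith : ∀ g : G, χ g = χ 1 → g = 1) (hdeg : Cfsg.charDegree χ ^ 2 + 1 < p ^ n) : (P : Subgroup G).Normal := by
  classical
  haveI := Fact.mk hp
  haveI := Fintype.ofFinite G
  obtain ⟨l, hl⟩ := exists_irr_list_of_isCharacter hχ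
  obtain ⟨N, hN, -, hNdeg⟩ := list_sum_degree l
  have hχN : charDegree χ = N := charDegree_of_one_eq (by rw [hl]; exact hN)
  rw [hχN] at hdeg
  obtain ⟨M, hMdef⟩ : ∃ M : Subgroup G,
      M = Subgroup.normalClosure ((P : Subgroup G) : Set G) := ⟨_, rfl⟩
  have hMn : M.Normal := by rw [hMdef]; exact Subgroup.normalClosure_normal
  have hPM : (P : Subgroup G) ≤ M := hMdef ▸ Subgroup.le_normalClosure
  have hcomm : ∀ m ∈ M, ∀ y ∈ (P : Subgroup G), m * y = y * m := by
    intro m hm y hy
    have h1 : χ (m * y * m⁻¹ * y⁻¹) = χ 1 := by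
      rw [hl, list_sum_val_apply, list_sum_val_apply]
      congr 1
      apply List.map_congr_left
      intro a ha
      apply bl_core P hstar a.2 _ hy (hMdef ▸ hm)
      have h2 := hNdeg a ha
      have h3 : charDegree (a : G → ℂ) ^ 2 ≤ N ^ 2 := Nat.pow_le_pow_left h2 2
      rw [hn]
      omega
    have h2 := hfaith _ h1
    exact mul_inv_eq_iff_eq_mul.mp (mul_inv_eq_one.mp h2)
  have hnorm : ∀ g : G, g ∈ Subgroup.normalizer ((P : Subgroup G) : Set G) := by
    intro g
    have hH : IsPGroup p ((P : Subgroup G).map (MulAut.conj g).toMonoidHom) :=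
      P.isPGroup'.map _
    have hHM : (P : Subgroup G).map (MulAut.conj g).toMonoidHom ≤ M := by
      rintro _ ⟨z, hz, rfl⟩
      exact hMn.conj_mem z (hPM hz) g
    obtain ⟨x, hxM, hx⟩ := exists_conj_le_sylow_of_le P M hPM _ hH hHM
    have h1 : x⁻¹ * g ∈ Subgroup.normalizer ((P : Subgroup G) : Set G) := by
      apply mem_normalizer_of_conj_mem_fin21
      intro z hz
      have h2 := hx (g * z * g⁻¹) ⟨z, hz, rfl⟩
      have h3 : x⁻¹ * g * z * (x⁻¹ * g)⁻¹ = x⁻¹ * (g * z * g⁻¹) * x := by group
      rw [h3]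
      exact h2
    have h2 : x ∈ Subgroup.normalizer ((P : Subgroup G) : Set G) := by
      apply Subgroup.centralizer_le_normalizer
      rw [Subgroup.mem_centralizer_iff]
      intro h hh
      exact (hcomm x hxM h hh).symm
    have h3 : g = x * (x⁻¹ * g) := by group
    rw [h3]
    exact mul_mem h2 h1
  exact ⟨fun z hz g => (Subgroup.mem_normalizer_iff.mp (hnorm g) z).mp hz⟩

end Cfsg.Agent.S4485
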