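import Mathlib
import Cfsg.Statements.S4486
import Cfsg.Agent.Lib.helper21.BLMain
import Cfsg.Agent.Lib.helper21.SylowConj

set_option autoImplicit false
open Cfsg

namespace Cfsg.Agent.S4486

open Cfsg.Agent.Lib.helper21 Cfsg.Agent.Lib.helper4 in
open scoped ComplexConjugate commutatorElement in
/-- Let G be a finite group and p a prime dividing its order such that every non-identity element of a Sylow p-subgroup P has the same centralizer as P; let p^n be the order of P. If G has a non-principal irreducible character χ of degree x with x² < p^n − 1, then either G has a proper normal subgroup containing P, or G has a normal subgroup of index p^n and x = 1. -/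
theorem result {G : Type*} [Group G] [Finite G] (p : ℕ) (hp : p.Prime) (hpG : p ∣ Nat.card G) (P : Sylow p G) (hstar : ∀ x ∈ (P : Subgroup G), x ≠ 1 → Subgroup.centralizer ({x} : Set G) = Subgroup.centralizer ((P : Subgroup G) : Set G)) (n : ℕ) (hn : Nat.card P = p ^ n) (χ : Cfsg.IrrCharacter G) (h1 : (χ : G → ℂ) ≠ fun _ => 1) (hdeg : Cfsg.charDegree (χ : G → ℂ) ^ 2 + 1 < p ^ n) : (∃ K : Subgroup G, K.Normal ∧ K ≠ ⊤ ∧ (P : Subgroup G) ≤ K) ∨ ((∃ N : Subgroup G, N.Normal ∧ N.index = p ^ n) ∧ Cfsg.charDegree (χ : G → ℂ) = 1) := by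
  classical
  haveI := Fact.mk hp
  haveI := Fintype.ofFinite G
  have hχchar := isCharacter_of_isIrrCharacter χ.2
  obtain ⟨K, hKn, hK⟩ := Cfsg.Agent.Lib.helper82.exists_ker_of_isCharacter hχchar
  have hG : (Nat.card G : ℂ) ≠ 0 := by exact_mod_cast (Nat.card_pos (α := G)).ne'
  have hKtop : K ≠ ⊤ := by
    intro htop
    apply h1
    have hconst : ∀ g, (χ : G → ℂ) g = (χ : G → ℂ) 1 := fun g =>
      (hK g).mp (by rw [htop]; trivial)
    have hone : IsIrrCharacter G (fun _ : G => (1 : ℂ)) := by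
      have h := Cfsg.Agent.Lib.helper82.isIrrCharacter_of_hom (1 : G →* ℂˣ)
      simpa using h
    by_contra hne
    have h2 := classInner_irr_ne χ.2 hone hne
    have h3 : classInner (χ : G → ℂ) (fun _ => 1) = (χ : G → ℂ) 1 := by
      unfold classInner
      rw [Finset.sum_congr rfl (fun g _ => by
          show (χ : G → ℂ) g * conj (1 : ℂ) = (χ : G → ℂ) 1
          rw [hconst g, map_one, mul_one]), Finset.sum_const,
        Finset.card_univ, nsmul_eq_mul, ← Nat.card_eq_fintype_card, ← mul_assoc,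
        inv_mul_cancel₀ hG, one_mul]
    rw [h3] at h2
    exact irr_degree_ne_zero χ.2 h2
  by_cases hPK : (P : Subgroup G) ≤ K
  · exact Or.inl ⟨K, hKn, hKtop, hPK⟩
  obtain ⟨M, hMdef⟩ : ∃ M : Subgroup G,
      M = Subgroup.normalClosure ((P : Subgroup G) : Set G) := ⟨_, rfl⟩
  have hMn : M.Normal := by rw [hMdef]; exact Subgroup.normalClosure_normal
  have hPM : (P : Subgroup G) ≤ M := hMdef ▸ Subgroup.le_normalClosure
  have hMK : ∀ m ∈ M, ∀ y ∈ (P : Subgroup G), m * y * m⁻¹ * y⁻¹ ∈ K := by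
    intro m hm y hy
    apply (hK _).mpr
    apply bl_core P hstar χ.2 _ hy (hMdef ▸ hm)
    rw [hn]
    exact hdeg
  have hLn : ((P : Subgroup G) ⊔ K).Normal := by
    constructor
    intro a ha g
    have hle : (P : Subgroup G) ⊔ K ≤
        ((P : Subgroup G) ⊔ K).comap (MulAut.conj g).toMonoidHom := by
      apply sup_le
      · intro y hy
        rw [Subgroup.mem_comap]
        show g * y * g⁻¹ ∈ (P : Subgroup G) ⊔ K
        have hH : IsPGroup p ((P : Subgroup G).map (MulAut.conj g).toMonoidHom) :=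
          P.isPGroup'.map _
        have hHM : (P : Subgroup G).map (MulAut.conj g).toMonoidHom ≤ M := by
          rintro _ ⟨z, hz, rfl⟩
          exact hMn.conj_mem z (hPM hz) g
        obtain ⟨x, hxM, hx⟩ := exists_conj_le_sylow_of_le P M hPM _ hH hHM
        have h2 : x⁻¹ * (g * y * g⁻¹) * x ∈ (P : Subgroup G) :=
          hx (g * y * g⁻¹) ⟨y, hy, rfl⟩
        have h3 := hMK x hxM _ h2
        have h4 : g * y * g⁻¹ =
            (x * (x⁻¹ * (g * y * g⁻¹) * x) * x⁻¹ * (x⁻¹ * (g * y * g⁻¹) * x)⁻¹) *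
              (x⁻¹ * (g * y * g⁻¹) * x) := by group
        rw [h4]
        exact mul_mem (Subgroup.mem_sup_right h3) (Subgroup.mem_sup_left h2)
      · intro k hk
        rw [Subgroup.mem_comap]
        exact Subgroup.mem_sup_right (hKn.conj_mem k hk g)
    exact hle ha
  by_cases hLtop : (P : Subgroup G) ⊔ K = ⊤
  swap
  · exact Or.inl ⟨(P : Subgroup G) ⊔ K, hLn, hLtop, le_sup_left⟩
  have hcomK : commutator G ≤ K := by
    rw [commutator_def, Subgroup.commutator_le]
    intro a _ b _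
    have ha : a ∈ (P : Subgroup G) ⊔ K := by rw [hLtop]; trivial
    have hb : b ∈ (P : Subgroup G) ⊔ K := by rw [hLtop]; trivial
    obtain ⟨y₁, hy₁, k₁, hk₁, rfl⟩ := Subgroup.mem_sup_of_normal_right.mp ha
    obtain ⟨y₂, hy₂, k₂, hk₂, rfl⟩ := Subgroup.mem_sup_of_normal_right.mp hb
    have hq : ∀ k ∈ K, (QuotientGroup.mk' K) k = 1 := fun k hk =>
      (QuotientGroup.eq_one_iff k).mpr hk
    apply (QuotientGroup.eq_one_iff _).mp
    show (QuotientGroup.mk' K) ⁅y₁ * k₁, y₂ * k₂⁆ = 1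
    have hc : Commute y₁ y₂ := bl_comm P hstar hy₁ hy₂
    rw [map_commutatorElement, map_mul, map_mul, hq k₁ hk₁, hq k₂ hk₂, mul_one, mul_one,
      ← map_commutatorElement, commutatorElement_eq_one_iff_commute.mpr hc, map_one]
  have hχ1 : (χ : G → ℂ) 1 = 1 :=
    (Cfsg.Agent.Lib.helper82.irr_linear_iff χ.2).mpr (fun x hx => (hK x).mp (hcomK hx))
  have hdeg1 : charDegree (χ : G → ℂ) = 1 :=
    charDegree_of_one_eq (n := 1) (by rw [hχ1]; simp)
  have hNC : Subgroup.normalizer ((P : Subgroup G) : Set G) ≤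
      Subgroup.centralizer ((P : Subgroup G) : Set G) := by
    intro x hx
    by_contra hxC
    apply hPK
    intro z hz
    let f : ↥(P : Subgroup G) → ↥(P : Subgroup G) := fun y =>
      ⟨x⁻¹ * (y : G) * x * (y : G)⁻¹,
        mul_mem (conj_mem_of_mem_normalizer hx y.2) (inv_mem y.2)⟩
    have hinj : Function.Injective f := by
      intro a b hab
      have h1 : x⁻¹ * (a : G) * x * (a : G)⁻¹ = x⁻¹ * (b : G) * x * (b : G)⁻¹ :=
        congrArg Subtype.val hab
      have h3 : x⁻¹ * (a : G) * x = x⁻¹ * (b : G) * x * (b : G)⁻¹ * a := by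
        calc x⁻¹ * (a : G) * x = (x⁻¹ * (a : G) * x * (a : G)⁻¹) * a := by group
          _ = (x⁻¹ * (b : G) * x * (b : G)⁻¹) * a := by rw [h1]
      have h2 : x⁻¹ * ((b : G)⁻¹ * a) * x = (b : G)⁻¹ * a := by
        calc x⁻¹ * ((b : G)⁻¹ * a) * x = (x⁻¹ * (b : G) * x)⁻¹ * (x⁻¹ * (a : G) * x) := by
              group
          _ = (x⁻¹ * (b : G) * x)⁻¹ * (x⁻¹ * (b : G) * x * (b : G)⁻¹ * a) := by rw [h3]
          _ = (b : G)⁻¹ * a := by group
      by_contra hne
      apply hxC
      have hne' : (b : G)⁻¹ * a ≠ 1 := fun h =>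
        hne (Subtype.ext (inv_mul_eq_one.mp h).symm)
      rw [← hstar _ (mul_mem (inv_mem b.2) a.2) hne', Subgroup.mem_centralizer_iff]
      intro h hh
      rw [Set.mem_singleton_iff.mp hh]
      calc (b : G)⁻¹ * a * x = x * (x⁻¹ * ((b : G)⁻¹ * a) * x) := by group
        _ = x * ((b : G)⁻¹ * a) := by rw [h2]
    obtain ⟨y, hy⟩ := Finite.surjective_of_injective hinj ⟨z, hz⟩
    have h1 : z = x⁻¹ * (y : G) * x * (y : G)⁻¹ := (congrArg Subtype.val hy).symm
    rw [h1]
    apply hcomK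
    have h2 : x⁻¹ * (y : G) * x * (y : G)⁻¹ = ⁅x⁻¹, (y : G)⁆ := by
      rw [commutatorElement_def, inv_inv]
    rw [h2, commutator_def]
    exact Subgroup.commutator_mem_commutator (Subgroup.mem_top _) (Subgroup.mem_top _)
  have hcompl := MonoidHom.ker_transferSylow_isComplement' P hNC
  refine Or.inr ⟨⟨(MonoidHom.transferSylow P hNC).ker, MonoidHom.normal_ker _, ?_⟩, hdeg1⟩
  rw [hcompl.symm.index_eq_card, hn]

end Cfsg.Agent.S4486
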