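import Cfsg.Statements.S4488
import Cfsg.Agent.Lib.helper78.SchurBound

set_option autoImplicit false
open Cfsg

namespace Cfsg.Agent.S4488

/-- Let the finite group G have a faithful p-rational character χ of degree n (all values of χ lie in the field generated over ℚ by a root of unity of order prime to p), and let p^a be the order of a Sylow p-subgroup of G. Then a ≤ Σ_{i ≥ 0} ⌊n / ((p − 1)·p^i)⌋ (a finite sum; the terms vanish once (p − 1)p^i > n). -/
theorem result {G : Type*} [Group G] [Finite G] (p : ℕ) (hp : p.Prime) (χ : G → ℂ) (hχ : Cfsg.IsCharacter G χ) (hfaith : ∀ g : G, χ g = χ 1 → g = 1) (hrat : (∃ r : ℕ, 0 < r ∧ ¬ p ∣ r ∧ ∀ g : G, χ g ∈ IntermediateField.adjoin ℚ ({Complex.exp (2 * Real.pi * Complex.I / r)} : Set ℂ))) (n : ℕ) (hn : Cfsg.charDegree χ = n) : (Nat.card G).factorization p ≤ ∑ i ∈ Finset.range (n + 1), n / ((p - 1) * p ^ i) := by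
  classical
  have := Fintype.ofFinite G
  have : Fact p.Prime := ⟨hp⟩
  obtain ⟨r, hr, hpr, hmem⟩ := hrat
  obtain ⟨d, ρ, rfl⟩ := hχ
  have h1 : ρ.character 1 = (d : ℂ) := by simp [Representation.char_one]
  have hd : d = n := by
    rw [← hn, Cfsg.charDegree, h1]
    simp
  subst hd
  let P : Sylow p G := default
  have hval : ∀ u ∈ (P : Subgroup G), ∃ z : ℤ, ρ.character u = z ∧ z ≤ d ∧
      -((d / (p - 1) : ℕ) : ℤ) ≤ z ∧ (z = d → u = 1) := by
    intro u hu
    obtain ⟨b, hb⟩ := (IsPGroup.iff_orderOf.mp P.isPGroup') ⟨u, hu⟩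
    rw [← Subgroup.orderOf_coe] at hb
    cases b with
    | zero =>
      have hu1 : u = 1 := by
        rw [pow_zero] at hb
        exact orderOf_eq_one_iff.mp hb
      refine ⟨d, ?_, le_refl _, ?_, fun _ => hu1⟩
      · rw [hu1, h1]; simp
      · have : (0 : ℤ) ≤ ((d / (p - 1) : ℕ) : ℤ) := by positivity
        have : (0 : ℤ) ≤ (d : ℤ) := by positivity
        omega
    | succ b =>
      have hinv : ∀ k : ℕ, ¬ p ∣ k → ρ.character (u ^ k) = ρ.character u := fun k hk =>
        Cfsg.Agent.Lib.helper78.char_pow_eq_of_mem_adjoin ρ p hp r hr hpr u (b + 1)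
          (by rw [← hb]; exact pow_orderOf_eq_one u) (hmem u) k hk
      obtain ⟨z, hz, hzd, hzK⟩ :=
        Cfsg.Agent.Lib.helper78.exists_int_char_of_pow_invariant ρ p hp u b hb hinv
      refine ⟨z, hz, hzd, hzK, fun hzeq => hfaith u ?_⟩
      rw [hz, h1, hzeq]
      simp
  have hdvd := Cfsg.Agent.Lib.helper78.card_dvd_factorial_of_int_values ρ.character ⟨d, ρ, rfl⟩
    (P : Subgroup G) d (d / (p - 1)) hval h1
  rw [Sylow.card_eq_multiplicity] at hdvd
  rw [← Cfsg.Agent.Lib.helper78.factorization_factorial_schur p hp d]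
  exact (hp.pow_dvd_iff_le_factorization (Nat.factorial_ne_zero _)).mp hdvd

end Cfsg.Agent.S4488
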