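-- Statement S4489: faithful irreducible character of a p-group, order bound by degree and field.
import Cfsg.Statements.S4489
import Cfsg.Agent.Lib.helper83.PFieldB

set_option autoImplicit false
set_option linter.style.haveILetI false
open Cfsg

namespace Cfsg.Agent.S4489

open Cfsg.Agent.Lib Cfsg.Agent.Lib.helper83 Cfsg.Agent.Lib.helper83.PField

universe u

/-- The generalized bound, by strong induction on the order: if the field of values has
degree at most `(p - 1) * p ^ t` then `(p - 1) * a ≤ (f - 1) + (p - 1) * (t + 1) * f`. -/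
theorem main (p : ℕ) (hp : p.Prime) :
    ∀ (n : ℕ) (P : Type u) [Group P] [Finite P], Nat.card P = n →
    ∀ (a : ℕ), Nat.card P = p ^ a → ∀ (χ : IrrCharacter P),
    (∀ g : P, (χ : P → ℂ) g = (χ : P → ℂ) 1 → g = 1) → ∀ (t : ℕ),
    FiniteDimensional ℚ (QF (χ : P → ℂ)) →
    Module.finrank ℚ (QF (χ : P → ℂ)) ≤ (p - 1) * p ^ t →
    (p - 1) * a ≤ (charDegree (χ : P → ℂ) - 1) +
      (p - 1) * (t + 1) * charDegree (χ : P → ℂ) := by
  intro n
  induction n using Nat.strong_induction_on with
  | _ n ih =>
    intro P _ _ hn a hPa χ hfaith t hfin hrank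
    haveI := hfin
    by_cases hdeg : charDegree (χ : P → ℂ) = 1
    · have h1 := base_case p a hp hPa χ hfaith hdeg t hrank
      rw [hdeg]
      simp only [Nat.sub_self, zero_add, mul_one]
      exact Nat.mul_le_mul_left _ h1
    · obtain ⟨T, ψ, hcard, hdegψ, hcase⟩ := step p a hp hPa χ hfaith hdeg
      have hp2 : 2 ≤ p := hp.two_le
      have hTpos : 0 < Nat.card T := Nat.card_pos
      have ha1 : 1 ≤ a := by
        rcases Nat.eq_zero_or_pos a with h0 | h0
        · exfalso
          rw [h0, pow_zero] at hPa
          rw [hPa] at hcard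
          have h1 : p ∣ 1 := ⟨Nat.card T, hcard⟩
          have h2 := Nat.le_of_dvd one_pos h1
          omega
        · exact h0
      have hTcard : Nat.card T = p ^ (a - 1) := by
        have h1 : p * Nat.card T = p * p ^ (a - 1) := by
          rw [← hcard, hPa, ← pow_succ', Nat.sub_add_cancel ha1]
        exact Nat.eq_of_mul_eq_mul_left hp.pos h1
      have hlt : Nat.card T < n := by
        rw [← hn, hcard]
        calc Nat.card T < 2 * Nat.card T := by omega
          _ ≤ p * Nat.card T := Nat.mul_le_mul_right _ hp2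
      have hf1 : 1 ≤ charDegree (ψ : T → ℂ) := charDegree_pos ψ
      rw [hdegψ]
      rcases hcase with ⟨hfa, α, hα, hval⟩ | ⟨K, hKn, hK, hidx, hval⟩
      · -- the restriction is faithful: the field grows by a factor at most `p`
        have hle : ∀ x ∈ QF (ψ : T → ℂ),
            x ∈ IntermediateField.adjoin (QF (χ : P → ℂ)) {α} := by
          have h1 : QF (ψ : T → ℂ) ≤
              (IntermediateField.adjoin (QF (χ : P → ℂ)) {α}).restrictScalars ℚ := by
            rw [IntermediateField.adjoin_le_iff]
            rintro x ⟨h, rfl⟩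
            exact hval h
          exact fun x hx => h1 hx
        obtain ⟨hfd, hrk⟩ := finrank_le_of_root (QF (χ : P → ℂ)) (QF (ψ : T → ℂ)) α p
          hp.ne_zero hα hle
        have hrk' : Module.finrank ℚ (QF (ψ : T → ℂ)) ≤ (p - 1) * p ^ (t + 1) := by
          calc Module.finrank ℚ (QF (ψ : T → ℂ))
              ≤ p * Module.finrank ℚ (QF (χ : P → ℂ)) := hrk
            _ ≤ p * ((p - 1) * p ^ t) := Nat.mul_le_mul_left _ hrank
            _ = (p - 1) * p ^ (t + 1) := by ring
        have h2 := ih (Nat.card T) hlt T rfl (a - 1) hTcard ψ hfa (t + 1) hfd hrk'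
        exact arithA p a _ t hp2 ha1 hf1 h2
      · -- the restriction has a kernel: pass to the quotient, same field
        haveI := hKn
        have hidx_dvd : K.index ∣ p ^ (a - 1) := by
          rw [← hTcard]
          exact K.index_dvd_card
        obtain ⟨a₁, ha₁le, hKidx⟩ := (Nat.dvd_prime_pow hp).mp hidx_dvd
        have hQcard : Nat.card (T ⧸ K) = p ^ a₁ := by
          rw [← hKidx]
          exact (Subgroup.index_eq_card K).symm
        obtain ⟨ψ', hirr, hψ'⟩ := helper82.isIrrCharacter_deflation K ψ.2
          (fun x hx => (hK x).mp hx)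
        have hone : ψ' 1 = (ψ : T → ℂ) 1 := hψ' 1
        have hfaith' : ∀ q : T ⧸ K, ψ' q = ψ' 1 → q = 1 := by
          intro q hq
          obtain ⟨h, rfl⟩ := QuotientGroup.mk_surjective q
          rw [hψ' h, hone] at hq
          exact (QuotientGroup.eq_one_iff h).mpr ((hK h).mpr hq)
        have hQle : QF ψ' ≤ QF (χ : P → ℂ) := by
          rw [IntermediateField.adjoin_le_iff]
          rintro x ⟨q, rfl⟩
          obtain ⟨h, rfl⟩ := QuotientGroup.mk_surjective q
          rw [hψ' h]
          exact hval h
        have hfd : FiniteDimensional ℚ (QF ψ') := finite_of_le hQle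
        have hrk : Module.finrank ℚ (QF ψ') ≤ (p - 1) * p ^ t :=
          le_trans (finrank_mono' hQle) hrank
        have hlt' : Nat.card (T ⧸ K) < n := by
          have h1 : Nat.card (T ⧸ K) ≤ Nat.card T := by
            rw [hQcard, hTcard]
            exact Nat.pow_le_pow_right hp.pos ha₁le
          omega
        have hdeg' : charDegree ψ' = charDegree (ψ : T → ℂ) := by
          unfold charDegree
          rw [hone]
        have key : (p - 1) * a₁ ≤ (charDegree (ψ : T → ℂ) - 1) +
            (p - 1) * (t + 1) * charDegree (ψ : T → ℂ) := by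
          rw [← hdeg']
          exact ih (Nat.card (T ⧸ K)) hlt' (T ⧸ K) rfl a₁ hQcard ⟨ψ', hirr⟩ hfaith' t hfd hrk
        have haa : a - 1 ≤ p * a₁ := by
          have h1 : p ^ (a - 1) ≤ p ^ (a₁ * p) := by
            rw [pow_mul, ← hKidx, ← hTcard]
            exact hidx
          have h2 := (Nat.pow_le_pow_iff_right hp.one_lt).mp h1
          rw [mul_comm]
          exact h2
        exact arithB p a a₁ _ t hp2 ha1 hf1 haa key

/-- Let P be a finite p-group of order p^a with a > 0, and χ a faithful irreducible character of P of degree f whose field of values ℚ(χ) has degree (p − 1)·p^t over ℚ. Then a ≤ (f − 1)/(p − 1) + (t + 1)·f; in integer form, (p − 1)·a ≤ (f − 1) + (p − 1)(t + 1)·f. -/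
theorem result {P : Type*} [Group P] [Finite P] (p a : ℕ) (hp : p.Prime) (ha : 0 < a) (hP : Nat.card P = p ^ a) (χ : Cfsg.IrrCharacter P) (hfaith : ∀ g : P, (χ : P → ℂ) g = (χ : P → ℂ) 1 → g = 1) (f t : ℕ) (hf : Cfsg.charDegree (χ : P → ℂ) = f) (hfield : Module.finrank ℚ (IntermediateField.adjoin ℚ (Set.range (χ : P → ℂ))) = (p - 1) * p ^ t) : (p - 1) * a ≤ (f - 1) + (p - 1) * (t + 1) * f := by
  have hpos : 0 < Module.finrank ℚ (IntermediateField.adjoin ℚ (Set.range (χ : P → ℂ))) := by
    rw [hfield]
    exact Nat.mul_pos (by have := hp.two_le; omega) (pow_pos hp.pos _)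
  have hfin : FiniteDimensional ℚ (IntermediateField.adjoin ℚ (Set.range (χ : P → ℂ))) :=
    Module.finite_of_finrank_pos hpos
  have h1 := main p hp (Nat.card P) P rfl a hP χ hfaith t hfin (le_of_eq hfield)
  rw [hf] at h1
  exact h1

end Cfsg.Agent.S4489
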