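import Cfsg.Statements.S4493
import Cfsg.Agent.Lib.helper82.Ito
import Cfsg.Agent.Lib.helper84.Brauer
import Cfsg.Agent.Lib.helper71.Basic

set_option autoImplicit false
open Cfsg

namespace Cfsg.Agent.S4493

open Cfsg.Agent.Lib
open scoped ComplexConjugate commutatorElement

universe u

section Over

variable {G : Type u} [Group G] [Fintype G]

/-- Every irreducible character of a subgroup is a constituent of the restriction of some
irreducible character of the group. -/
theorem exists_over (N : Subgroup G) [Fintype N] (θ : IrrCharacter N) :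
    ∃ χ : IrrCharacter G, ∃ e : ℕ, e ≠ 0 ∧
      classInner (fun n : N => (χ : G → ℂ) n) (θ : N → ℂ) = e := by
  classical
  have : Fintype (IrrCharacter G) := Fintype.ofFinite _
  have hΘ : IsCharacter G (indFun N (θ : N → ℂ)) :=
    helper4.isCharacter_indFun N (helper83.isCharacter_of_irr θ.2)
  obtain ⟨K, hK1, hK2, hK3⟩ := helper82.exists_nat_decomp hΘ
  have h1 : indFun N (θ : N → ℂ) 1 = (N.index : ℂ) * (θ : N → ℂ) 1 := helper4.indFun_one N _
  have hθ1 : (θ : N → ℂ) 1 = (charDegree (θ : N → ℂ) : ℂ) := helper82.irr_one_eq θ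
  have hpos : 0 < charDegree (θ : N → ℂ) := helper82.irr_charDegree_pos θ
  have hne : ∃ ψ : IrrCharacter G, K ψ ≠ 0 := by
    by_contra hcon
    push Not at hcon
    rw [h1, hθ1] at hK3
    simp only [hcon, zero_mul, Finset.sum_const_zero] at hK3
    have h2 : N.index * charDegree (θ : N → ℂ) = 0 := by exact_mod_cast hK3
    have h3 : N.index ≠ 0 := Subgroup.index_ne_zero_of_finite
    rcases Nat.mul_eq_zero.mp h2 with h | h
    · exact h3 h
    · omega
  obtain ⟨ψ, hψ⟩ := hne
  refine ⟨ψ, K ψ, hψ, ?_⟩
  have h2 := hK1 ψ
  rw [helper4.frobenius_reciprocity N (θ : N → ℂ)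
    (helper4.isClassFunction_of_isIrrCharacter ψ.2)] at h2
  rw [← helper4.classInner_conj_symm, h2, Complex.conj_natCast]

/-- Clifford degree formula for some irreducible character lying over `θ`. -/
theorem degree_over (N : Subgroup G) [N.Normal] [Fintype N] (θ : IrrCharacter N) :
    ∃ χ : IrrCharacter G, ∃ e : ℕ, charDegree (χ : G → ℂ) =
      e * (helper82.inertia N (θ : N → ℂ)).index * charDegree (θ : N → ℂ) := by
  classical
  have : Fintype (IrrCharacter N) := Fintype.ofFinite _
  obtain ⟨χ, e, he0, he⟩ := exists_over N θ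
  refine ⟨χ, e, ?_⟩
  have h := helper82.clifford_degree N χ.2 θ.2 e he he0
  rw [helper82.irr_one_eq χ, helper82.irr_one_eq θ] at h
  exact_mod_cast h

theorem not_dvd_degree_normal (p : ℕ) (N : Subgroup G) [N.Normal]
    (h : ∀ χ : IrrCharacter G, ¬ p ∣ charDegree (χ : G → ℂ)) (θ : IrrCharacter N) :
    ¬ p ∣ charDegree (θ : N → ℂ) := by
  have : Fintype N := Fintype.ofFinite _
  obtain ⟨χ, e, he⟩ := degree_over N θ
  intro hd
  exact h χ (he ▸ Dvd.dvd.mul_left hd _)

theorem inertia_eq_top (p : ℕ) [hp : Fact p.Prime] (N : Subgroup G) [N.Normal] (a : ℕ)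
    (hidx : N.index = p ^ a)
    (h : ∀ χ : IrrCharacter G, ¬ p ∣ charDegree (χ : G → ℂ)) (θ : IrrCharacter N) :
    helper82.inertia N (θ : N → ℂ) = ⊤ := by
  have : Fintype N := Fintype.ofFinite _
  obtain ⟨χ, e, he⟩ := degree_over N θ
  have hle : N ≤ helper82.inertia N (θ : N → ℂ) :=
    helper82.le_inertia N (helper4.isClassFunction_of_isIrrCharacter θ.2)
  have hdvd : (helper82.inertia N (θ : N → ℂ)).index ∣ p ^ a :=
    hidx ▸ Subgroup.index_dvd_of_le hle
  obtain ⟨j, hj, hj2⟩ := (Nat.dvd_prime_pow hp.out).mp hdvd
  rcases Nat.eq_zero_or_pos j with rfl | hjpos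
  · rw [pow_zero] at hj2
    exact Subgroup.index_eq_one.mp hj2
  · exfalso
    apply h χ
    rw [he, hj2]
    exact Dvd.dvd.mul_right (Dvd.dvd.mul_left (dvd_pow_self p hjpos.ne') _) _

/-- Brauer's permutation lemma: if all irreducible characters of the normal subgroup `N` are
`G`-invariant, then all conjugacy classes of `N` are `G`-invariant. -/
theorem conj_isConj_of_inertia (N : Subgroup G) [hN : N.Normal]
    (h : ∀ θ : IrrCharacter N, helper82.inertia N (θ : N → ℂ) = ⊤) (g : G) (n : N) :
    IsConj n (MulAut.conjNormal g n) := by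
  classical
  have : Fintype N := Fintype.ofFinite _
  let τ : N → N := fun n => MulAut.conjNormal g n
  let T : IrrCharacter N → IrrCharacter N := fun θ =>
    ⟨helper82.cconj N g⁻¹ θ.1, helper82.isIrrCharacter_cconj N g⁻¹ θ.2⟩
  have hT : ∀ (χ : IrrCharacter N) (n : N), (T χ : N → ℂ) n = (χ : N → ℂ) (τ n) := by
    intro χ n
    show helper82.cconj N g⁻¹ χ.1 n = _
    rw [helper82.cconj_def, inv_inv]
  let P : ConjClasses N → Prop := fun C => ∀ n : N, ConjClasses.mk n = C → IsConj n (τ n)
  have hP : ∀ n : N, P (ConjClasses.mk n) ↔ IsConj n (τ n) := by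
    intro n
    constructor
    · intro hp; exact hp n rfl
    · intro hc m hm
      have hmn : IsConj m n := ConjClasses.mk_eq_mk_iff_isConj.mp hm
      have h2 : IsConj (τ m) (τ n) := by
        obtain ⟨c, hc⟩ := isConj_iff.mp hmn
        rw [isConj_iff]
        refine ⟨τ c, ?_⟩
        rw [← hc]
        simp only [τ, map_mul, map_inv]
      exact hmn.trans (hc.trans h2.symm)
  have hcard := helper84.card_irr_fixed_eq τ T hT P hP
  have hall : ∀ χ : IrrCharacter N, T χ = χ := by
    intro χ
    apply Subtype.ext
    have hg : g⁻¹ ∈ helper82.inertia N (χ : N → ℂ) := by rw [h χ]; trivial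
    exact (helper82.mem_inertia N _ _).mp hg
  have h1 : Nat.card {χ : IrrCharacter N // T χ = χ} = Nat.card (IrrCharacter N) :=
    Nat.card_congr (Equiv.subtypeUnivEquiv hall)
  rw [h1, helper83.card_irr_eq_card_conjClasses] at hcard
  have hPall : ∀ C : ConjClasses N, P C := by
    by_contra hcon
    push Not at hcon
    obtain ⟨C, hC⟩ := hcon
    have : Fintype (ConjClasses N) := Fintype.ofFinite _
    have : Nat.card {C : ConjClasses N // P C} < Nat.card (ConjClasses N) := by
      rw [Nat.card_eq_fintype_card, Nat.card_eq_fintype_card]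
      exact Fintype.card_subtype_lt hC
    omega
  exact (hP n).mp (hPall _)

end Over

section Fixed

variable {G : Type u} [Group G] [Finite G]

/-- A `p`-subgroup `P` stabilizing every conjugacy class of a normal `p'`-subgroup `M`
centralizes `M`. -/
theorem centralizes_of_classes (p : ℕ) [hp : Fact p.Prime] (M P : Subgroup G) [hM : M.Normal]
    (hP : IsPGroup p P) (hpM : ¬ p ∣ Nat.card M)
    (hcl : ∀ (g : G) (m : M), IsConj m (MulAut.conjNormal g m)) :
    ∀ m ∈ M, ∀ x ∈ P, x * m = m * x := by
  classical
  let act : MulAction P M :=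
    MulAction.compHom M ((MulAut.conjNormal (H := M)).comp P.subtype)
  have hsmul : ∀ (x : P) (m : M), x • m = MulAut.conjNormal (x : G) m := fun x m => rfl
  -- the subgroup of `M` centralized by `P`
  let C : Subgroup M := (Subgroup.centralizer (P : Set G)).subgroupOf M
  have hC : C = ⊤ := by
    apply helper71.eq_top_of_forall_exists_conj_mem
    intro m
    let S : SubMulAction P M :=
      { carrier := {y | IsConj m y}
        smul_mem' := by
          intro x y hy
          show IsConj m (x • y)
          rw [hsmul]
          exact IsConj.trans hy (hcl x y) }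
    have hcardS : Nat.card S ∣ Nat.card M := by
      have h1 : Nat.card S = (ConjClasses.mk m).carrier.ncard := by
        rw [← Nat.card_coe_set_eq]
        apply Nat.card_congr
        refine Equiv.subtypeEquivRight ?_
        intro y
        show IsConj m y ↔ y ∈ (ConjClasses.mk m).carrier
        rw [ConjClasses.mem_carrier_iff_mk_eq, ConjClasses.mk_eq_mk_iff_isConj]
        exact ⟨fun h => h.symm, fun h => h.symm⟩
      rw [h1, helper71.ncard_conjClass_eq_index_centralizer]
      exact Subgroup.index_dvd_card _
    have hnd : ¬ p ∣ Nat.card S := fun hd => hpM (hd.trans hcardS)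
    obtain ⟨y, hy⟩ := hP.nonempty_fixed_point_of_prime_not_dvd_card S hnd
    have hym : IsConj m (y : M) := y.2
    obtain ⟨a, ha⟩ := isConj_iff.mp hym
    refine ⟨a, ?_⟩
    rw [ha]
    show ((y : M) : G) ∈ Subgroup.centralizer (P : Set G)
    rw [Subgroup.mem_centralizer_iff]
    intro x hx
    have h2 := hy ⟨x, hx⟩
    have h3 : (⟨x, hx⟩ : P) • (y : M) = (y : M) := by
      have := congrArg (Subtype.val : S → M) h2
      exact this
    rw [hsmul] at h3
    have h4 := congrArg (Subtype.val : M → G) h3
    rw [MulAut.conjNormal_apply] at h4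
    -- h4 : x * y * x⁻¹ = y
    have h5 : x * (y : M) = (y : M) * x := by
      have : x * ((y : M) : G) * x⁻¹ * x = ((y : M) : G) * x := by rw [h4]
      simpa using this
    exact h5
  intro m hm x hx
  have h1 : (⟨m, hm⟩ : M) ∈ C := by rw [hC]; trivial
  have h2 : m ∈ Subgroup.centralizer (P : Set G) := h1
  rw [Subgroup.mem_centralizer_iff] at h2
  exact h2 x hx

end Fixed

/-- A finite solvable group all of whose irreducible character degrees are prime to `p` has a
normal Sylow `p`-subgroup. -/
theorem normal_sylow_aux (p : ℕ) [hp : Fact p.Prime] :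
    ∀ (n : ℕ) (G : Type u) [Group G] [Finite G], Nat.card G ≤ n → Group.IsSolvable G →
      (∀ χ : IrrCharacter G, ¬ p ∣ charDegree (χ : G → ℂ)) →
      ∃ P : Sylow p G, (P : Subgroup G).Normal := by
  intro n
  induction n with
  | zero =>
    intro G _ _ hc
    have := Nat.card_pos (α := G)
    omega
  | succ n ih =>
    intro G _ _ hcard hsolv hdeg
    classical
    have : Fintype G := Fintype.ofFinite G
    by_cases hO : ∃ O : Subgroup G, O.Normal ∧ IsPGroup p O ∧ O ≠ ⊥
    · obtain ⟨O, hOn, hOp, hOne⟩ := hO
      have := hOn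
      have hlt : Nat.card (G ⧸ O) < Nat.card G := by
        have h1 : Nat.card G = Nat.card (G ⧸ O) * Nat.card O :=
          Subgroup.card_eq_card_quotient_mul_card_subgroup O
        have h2 : 1 < Nat.card O := (Subgroup.one_lt_card_iff_ne_bot O).mpr hOne
        have h3 : 0 < Nat.card (G ⧸ O) := Nat.card_pos
        nlinarith
      have hdeg' : ∀ χ : IrrCharacter (G ⧸ O), ¬ p ∣ charDegree (χ : G ⧸ O → ℂ) := by
        intro χ
        exact hdeg ⟨_, helper82.isIrrCharacter_inflation O χ.2⟩
      obtain ⟨Pbar, hPbar⟩ := ih (G ⧸ O) (by omega) inferInstance hdeg'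
      let P : Subgroup G := (Pbar : Subgroup (G ⧸ O)).comap (QuotientGroup.mk' O)
      have hPp : IsPGroup p P :=
        Pbar.2.comap_of_ker_isPGroup (QuotientGroup.mk' O)
          (by rw [QuotientGroup.ker_mk']; exact hOp)
      have hPi : ¬ p ∣ P.index := by
        show ¬ p ∣ ((Pbar : Subgroup (G ⧸ O)).comap (QuotientGroup.mk' O)).index
        rw [Subgroup.index_comap_of_surjective _ (QuotientGroup.mk'_surjective O)]
        exact Pbar.not_dvd_index
      have hPn : P.Normal := hPbar.comap _
      exact ⟨hPp.toSylow hPi, hPn⟩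
    · push Not at hO
      obtain ⟨P⟩ : Nonempty (Sylow p G) := inferInstance
      refine ⟨P, ?_⟩
      by_cases hnt : Nontrivial G
      swap
      · rw [not_nontrivial_iff_subsingleton] at hnt
        exact ⟨fun n hn g => by rwa [Subsingleton.elim (g * n * g⁻¹) n]⟩
      have hB1 : ∀ N : Subgroup G, N.Normal → N ≠ ⊤ → ¬ p ∣ Nat.card N := by
        intro N hNn hNtop
        have := hNn
        have hlt : Nat.card N < Nat.card G := by
          have h1 : Nat.card N * N.index = Nat.card G := Subgroup.card_mul_index N
          have h2 : N.index ≠ 1 := fun h => hNtop (Subgroup.index_eq_one.mp h)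
          have h3 : N.index ≠ 0 := Subgroup.index_ne_zero_of_finite
          have h4 : 0 < Nat.card N := Nat.card_pos
          have h5 : 2 ≤ N.index := by omega
          nlinarith
        obtain ⟨Q, hQ⟩ := ih N (by omega) inferInstance (not_dvd_degree_normal p N hdeg)
        have : (Q : Subgroup N).Characteristic := Sylow.characteristic_of_normal Q hQ
        have hn : ((Q : Subgroup N).map N.subtype).Normal :=
          ConjAct.normal_of_characteristic_of_normal
        have hbot := hO _ hn (Q.2.map N.subtype)
        have hQbot : (Q : Subgroup N) = ⊥ :=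
          (Subgroup.map_eq_bot_iff_of_injective _ N.subtype_injective).mp hbot
        intro hdvd
        have := Q.not_dvd_index
        rw [hQbot, Subgroup.index_bot] at this
        exact this hdvd
      have hM : commutator G ≠ ⊤ := (Group.IsSolvable.commutator_lt_top_of_nontrivial G).ne
      have hpM : ¬ p ∣ Nat.card (commutator G) := hB1 _ inferInstance hM
      have hHn : (commutator G ⊔ (P : Subgroup G)).Normal := by
        refine ⟨fun h hh g => ?_⟩
        have : g * h * g⁻¹ = ⁅g, h⁆ * h := by simp [commutatorElement_def]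
        rw [this]
        exact mul_mem (le_sup_left (a := commutator G)
          (Subgroup.commutator_mem_commutator (Subgroup.mem_top g) (Subgroup.mem_top h))) hh
      by_cases hH : commutator G ⊔ (P : Subgroup G) = ⊤
      · have hidx : ∃ a, (commutator G).index = p ^ a := by
          have h1 : (commutator G).index = (commutator G).relIndex (P : Subgroup G) := by
            rw [← Subgroup.relIndex_top_right, ← hH, Subgroup.relIndex_sup_left]
          have h2 : (commutator G).relIndex (P : Subgroup G) ∣ Nat.card P :=
            Subgroup.relIndex_dvd_card _ _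
          obtain ⟨k, hk⟩ := IsPGroup.iff_card.mp P.2
          rw [hk] at h2
          obtain ⟨j, -, hj⟩ := (Nat.dvd_prime_pow hp.out).mp h2
          exact ⟨j, h1.trans hj⟩
        obtain ⟨a, ha⟩ := hidx
        have hin := fun θ => inertia_eq_top p (commutator G) a ha hdeg θ
        have hcl := conj_isConj_of_inertia (commutator G) hin
        have hcent := centralizes_of_classes p (commutator G) P P.2 hpM hcl
        have hnorm : commutator G ⊔ (P : Subgroup G) ≤ Subgroup.normalizer ((P : Subgroup G) : Set G) := by
          apply sup_le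
          · intro m hm
            rw [Subgroup.mem_normalizer_iff]
            intro x
            constructor
            · intro hx
              have h1 := hcent m hm x hx
              have h2 : m * x * m⁻¹ = x := by rw [← h1]; group
              rwa [h2]
            · intro hx
              have h1 := hcent m hm _ hx
              have h2 : m * x = m * (m * x * m⁻¹) := by rw [← h1]; group
              have h3 : x = m * x * m⁻¹ := mul_left_cancel h2
              rw [h3]; exact hx
          · exact Subgroup.le_normalizer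
        rw [hH] at hnorm
        exact Subgroup.normalizer_eq_top_iff.mp (top_le_iff.mp hnorm)
      · have h1 := hB1 _ hHn hH
        have h2 : ¬ p ∣ Nat.card P := fun hd =>
          h1 (hd.trans (Subgroup.card_dvd_of_le le_sup_right))
        have h3 : (P : Subgroup G) = ⊥ := by
          obtain ⟨k, hk⟩ := IsPGroup.iff_card.mp P.2
          rcases Nat.eq_zero_or_pos k with rfl | hk0
          · rw [pow_zero] at hk
            exact Subgroup.card_eq_one.mp hk
          · exact absurd (hk ▸ dvd_pow_self p hk0.ne') h2
        rw [h3]; infer_instance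

/-- Let G be a finite solvable group and p a prime. Then G has a normal abelian Sylow p-subgroup if and only if no irreducible character degree of G is divisible by p. -/
theorem result {G : Type*} [Group G] [Finite G] (hsolv : Group.IsSolvable G) (p : ℕ) (hp : p.Prime) : (∃ P : Subgroup G, P.Normal ∧ (∀ x ∈ P, ∀ y ∈ P, x * y = y * x) ∧ IsPGroup p P ∧ ¬ p ∣ P.index) ↔ ∀ χ : Cfsg.IrrCharacter G, ¬ p ∣ Cfsg.charDegree (χ : G → ℂ) := by
  have : Fact p.Prime := ⟨hp⟩
  constructor
  · rintro ⟨P, hPn, hPab, hPp, hPi⟩ χ hd
    have := hPn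
    obtain ⟨d, hd1, hd2⟩ := helper82.ito_char P hPab χ.2
    rw [helper82.irr_one_eq χ] at hd1
    have hd3 : charDegree (χ : G → ℂ) = d := by exact_mod_cast hd1
    exact hPi ((hd3 ▸ hd).trans hd2)
  · intro h
    have : Fintype G := Fintype.ofFinite G
    obtain ⟨P, hPn⟩ := normal_sylow_aux p (Nat.card G) G le_rfl hsolv h
    refine ⟨P, hPn, ?_, P.2, P.not_dvd_index⟩
    have := hPn
    have hlin : ∀ θ : IrrCharacter P, (θ : P → ℂ) 1 = 1 := by
      intro θ
      have h1 := not_dvd_degree_normal p (P : Subgroup G) h θ
      have h2 := helper82.irr_degree_dvd_card θ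
      obtain ⟨k, hk⟩ := IsPGroup.iff_card.mp P.2
      rw [hk] at h2
      obtain ⟨j, -, hj⟩ := (Nat.dvd_prime_pow hp).mp h2
      rcases Nat.eq_zero_or_pos j with rfl | hj0
      · rw [helper82.irr_one_eq θ, hj]; simp
      · exact absurd (hj ▸ dvd_pow_self p hj0.ne') h1
    have hcomm : commutator P = ⊥ := by
      rw [eq_bot_iff]
      intro x hx
      have hc : IsConj x 1 := helper82.isConj_of_forall_irr_eq
        (fun θ => ((helper82.irr_linear_iff θ.2).mp (hlin θ)) x hx)
      rw [Subgroup.mem_bot]
      exact isConj_one_left.mp hc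
    intro x hx y hy
    have hxy : ⁅(⟨x, hx⟩ : P), ⟨y, hy⟩⁆ ∈ commutator P :=
      Subgroup.commutator_mem_commutator (Subgroup.mem_top _) (Subgroup.mem_top _)
    rw [hcomm, Subgroup.mem_bot, commutatorElement_eq_one_iff_mul_comm] at hxy
    exact congrArg Subtype.val hxy

end Cfsg.Agent.S4493
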