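import Cfsg.Statements.S4498
import Cfsg.Agent.Lib.helper84.BlockOrth

set_option autoImplicit false
open Cfsg

namespace Cfsg.Agent.S4498

open Cfsg.Agent.Lib.helper84 Cfsg.Agent.Lib.helper81 Cfsg.Agent.Lib.helper80
  Cfsg.Agent.Lib.helper20
open scoped ComplexConjugate

/-- Let p and q be distinct primes dividing the order of the finite group G, and suppose G has no element of order p·q. Fix maximal ideals M_p over p and M_q over q of the algebraic integers. Then the principal p-block and the principal q-block of G have a non-principal irreducible character in common. -/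
theorem result {G : Type*} [Group G] [Finite G] (p q : ℕ) [Fact p.Prime] [Fact q.Prime] (hpq : p ≠ q) (hp : p ∣ Nat.card G) (hq : q ∣ Nat.card G) (hno : ∀ g : G, orderOf g ≠ p * q) (Mp Mq : Ideal Cfsg.AlgInt) (hMp : Cfsg.IsPModular p Mp) (hMq : Cfsg.IsPModular q Mq) : ∃ χ : Cfsg.IrrCharacter G, (χ : G → ℂ) ≠ (fun _ => 1) ∧ χ ∈ Cfsg.principalBlock Mp G ∧ χ ∈ Cfsg.principalBlock Mq G := by
  classical
  have : Fintype G := Fintype.ofFinite G
  have hpP := (Fact.out : p.Prime)
  have hqP := (Fact.out : q.Prime)
  obtain ⟨x, hx⟩ := exists_prime_orderOf_dvd_card' p hp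
  obtain ⟨y, hy⟩ := exists_prime_orderOf_dvd_card' q hq
  by_contra hcon
  simp only [not_exists, not_and] at hcon
  set θ : G → ℂ := fun g => ∑ χ : IrrCharacter G,
    if χ ∈ principalBlock Mp G then (χ : G → ℂ) g * conj ((χ : G → ℂ) x) else 0 with hθdef
  set η : G → ℂ := fun g => ∑ ψ : IrrCharacter G,
    if ψ ∈ principalBlock Mq G then (ψ : G → ℂ) g * conj ((ψ : G → ℂ) y) else 0 with hηdef
  have hθ : ∀ g, q ∣ orderOf g → θ g = 0 := by
    intro g hg
    apply block_orthogonality' hMp isPBlock_principalBlock g x
    intro h i hi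
    by_contra hpi
    -- x ^ i has order p
    have h1 : orderOf (x ^ i) = p := by
      rw [orderOf_pow, hx]
      have : Nat.gcd p i = 1 := (Nat.Prime.coprime_iff_not_dvd hpP).mpr hpi
      rw [this, Nat.div_one]
    have h2 : orderOf (g ^ i) = p := by
      rw [← h1, ← hi]
      have hsc : SemiconjBy h⁻¹ (g ^ i) (h⁻¹ * g ^ i * h) := by
        unfold SemiconjBy
        group
      exact hsc.orderOf_eq
    have h3 : p ∣ orderOf g := by
      rw [← h2]
      exact orderOf_dvd_of_pow_eq_one (by rw [← pow_mul, mul_comm, pow_mul, pow_orderOf_eq_one, one_pow])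
    have h4 : p * q ∣ orderOf g :=
      Nat.Coprime.mul_dvd_of_dvd_of_dvd ((Nat.coprime_primes hpP hqP).mpr hpq) h3 hg
    obtain ⟨m, hm⟩ := h4
    have hg0 : 0 < orderOf g := orderOf_pos g
    have h5 : orderOf (g ^ m) = p * q := by
      rw [orderOf_pow, hm, Nat.gcd_mul_left_left]
      have hm0 : 0 < m := by
        rcases Nat.eq_zero_or_pos m with h | h
        · rw [h, mul_zero] at hm; omega
        · exact h
      exact Nat.mul_div_cancel _ hm0
    exact hno _ h5
  have hη : ∀ g, ¬ q ∣ orderOf g → η g = 0 := by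
    intro g hg
    exact block_orthogonality hMq isPBlock_principalBlock g y hg (by rw [hy])
  have h0 : ∑ g, θ g * conj (η g) = 0 := by
    apply Finset.sum_eq_zero
    intro g _
    by_cases hg : q ∣ orderOf g
    · rw [hθ g hg, zero_mul]
    · rw [hη g hg, map_zero, mul_zero]
  have h1 : ∑ g, θ g * conj (η g) = (Nat.card G : ℂ) * ∑ χ : IrrCharacter G,
      (if χ ∈ principalBlock Mp G ∧ χ ∈ principalBlock Mq G then
        conj ((χ : G → ℂ) x) * (χ : G → ℂ) y else 0) := by
    simp only [hθdef, hηdef, map_sum, Finset.sum_mul_sum]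
    rw [Finset.sum_comm, Finset.mul_sum]
    refine Finset.sum_congr rfl fun χ _ => ?_
    rw [Finset.sum_comm]
    rw [Finset.sum_eq_single χ]
    · by_cases h1 : χ ∈ principalBlock Mp G
      · by_cases h2 : χ ∈ principalBlock Mq G
        · simp only [h1, h2, if_true, and_self]
          have h3 := irr_sum_mul_conj χ χ
          simp only [if_true] at h3
          rw [← h3, Finset.sum_mul]
          refine Finset.sum_congr rfl fun g _ => ?_
          simp only [map_mul, Complex.conj_conj]
          ring
        · simp [h1, h2]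
      · simp [h1]
    · intro ψ _ hψ
      by_cases h1 : χ ∈ principalBlock Mp G
      · by_cases h2 : ψ ∈ principalBlock Mq G
        · simp only [h1, h2, if_true]
          have h3 := irr_sum_mul_conj χ ψ
          rw [if_neg (Ne.symm hψ)] at h3
          have h4 : ∑ g : G, (χ : G → ℂ) g * conj ((χ : G → ℂ) x) *
              conj ((ψ : G → ℂ) g * conj ((ψ : G → ℂ) y)) =
              (∑ g : G, (χ : G → ℂ) g * conj ((ψ : G → ℂ) g)) *
                (conj ((χ : G → ℂ) x) * (ψ : G → ℂ) y) := by
            rw [Finset.sum_mul]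
            refine Finset.sum_congr rfl fun g _ => ?_
            simp only [map_mul, Complex.conj_conj]
            ring
          rw [h4, h3, zero_mul]
        · simp [h2]
      · simp [h1]
    · intro h; exact absurd (Finset.mem_univ _) h
  have h2 : ∑ χ : IrrCharacter G,
      (if χ ∈ principalBlock Mp G ∧ χ ∈ principalBlock Mq G then
        conj ((χ : G → ℂ) x) * (χ : G → ℂ) y else 0) = 1 := by
    rw [Finset.sum_eq_single (trivChar G)]
    · rw [if_pos ⟨trivChar_mem_principalBlock (isPrime_of_isPModular hMp),
        trivChar_mem_principalBlock (isPrime_of_isPModular hMq)⟩]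
      simp
    · intro χ _ hχ
      rw [if_neg]
      rintro ⟨h1, h2⟩
      refine hcon χ ?_ h1 h2
      intro h3
      apply hχ
      exact Subtype.ext h3
    · intro h; exact absurd (Finset.mem_univ _) h
  rw [h1, h2, mul_one] at h0
  have hcard : (Nat.card G : ℂ) ≠ 0 := by
    exact_mod_cast Nat.card_pos.ne'
  exact hcard h0

end Cfsg.Agent.S4498
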