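import Mathlib
import Cfsg.Statements.S4508
import Cfsg.Agent.Lib.helper21.PrimeTI
import Cfsg.Agent.Lib.helper21.PrimeOrderCount
import Cfsg.Agent.Lib.helper21.SylowConj
import Cfsg.Agent.Lib.helper32.Coh4
import Cfsg.Agent.Lib.helper19.DetChar
import Cfsg.Agent.Lib.helper20.Schur
import Cfsg.Agent.Lib.helper82.CharDeg
import Cfsg.Agent.Lib.helper82.GlaubSub
import Cfsg.Agent.Lib.helper4.RepEquiv
import Cfsg.Agent.Lib.helper83.CharBasic2

set_option autoImplicit false
set_option linter.unusedSectionVars false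
set_option linter.style.haveILetI false
open Cfsg

namespace Cfsg.Agent.S4508

open Cfsg.Agent.Lib Cfsg.Agent.Lib.helper83 Cfsg.Agent.Lib.helper82
open scoped ComplexConjugate

universe u

/-! ### Group theory of a self-centralizing element of prime order -/

section Grp

variable {G : Type u} [Group G] [Finite G]

theorem card_zp (p : ℕ) (x : G) (hx : orderOf x = p) : Nat.card (Subgroup.zpowers x) = p := by
  rw [Nat.card_zpowers, hx]

theorem mem_of_commute (p : ℕ) (hp : p.Prime) (x : G) (hx : orderOf x = p)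
    (hC : Subgroup.centralizer ({x} : Set G) = Subgroup.zpowers x) {y : G}
    (hy : y ∈ Subgroup.zpowers x) (hy1 : y ≠ 1) {g : G} (hg : g * y = y * g) :
    g ∈ Subgroup.zpowers x := by
  have hcard := card_zp p x hx
  have hyo : orderOf y = p :=
    helper21.orderOf_eq_prime_of_mem_of_card hp (Subgroup.zpowers x) hcard y hy hy1
  have hle : Subgroup.zpowers y ≤ Subgroup.zpowers x := Subgroup.zpowers_le.mpr hy
  have hcy : Nat.card (Subgroup.zpowers y) = p := by rw [Nat.card_zpowers, hyo]
  have heq : Subgroup.zpowers y = Subgroup.zpowers x :=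
    Subgroup.eq_of_le_of_card_ge hle (hcard.trans hcy.symm).le
  have hxy : x ∈ Subgroup.zpowers y := by
    rw [heq]
    exact Subgroup.mem_zpowers x
  obtain ⟨k, hk⟩ := Subgroup.mem_zpowers_iff.mp hxy
  rw [← hC, Subgroup.mem_centralizer_iff]
  intro h hh
  rw [Set.mem_singleton_iff] at hh
  rw [hh, ← hk]
  exact (Commute.zpow_right (show Commute g y from hg) k).eq.symm

theorem exists_sylow (p : ℕ) [hp : Fact p.Prime] (x : G) (hx : orderOf x = p)
    (hC : Subgroup.centralizer ({x} : Set G) = Subgroup.zpowers x) :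
    ∃ P₀ : Sylow p G, (P₀ : Subgroup G) = Subgroup.zpowers x := by
  have hcard := card_zp p x hx
  have hpg : IsPGroup p (Subgroup.zpowers x) := IsPGroup.of_card (n := 1) (by rw [hcard, pow_one])
  obtain ⟨S, hS⟩ := hpg.exists_le_sylow
  refine ⟨S, le_antisymm ?_ hS⟩
  have hx1 : x ≠ 1 := by
    intro h
    rw [h, orderOf_one] at hx
    exact hp.out.one_lt.ne hx
  have hxS : x ∈ (S : Subgroup G) := hS (Subgroup.mem_zpowers x)
  haveI : Nontrivial (S : Subgroup G) :=
    ⟨⟨⟨x, hxS⟩, 1, fun h => hx1 (congrArg Subtype.val h)⟩⟩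
  haveI := IsPGroup.center_nontrivial S.isPGroup'
  obtain ⟨z, hz⟩ := exists_ne (1 : Subgroup.center (S : Subgroup G))
  have hzc : ∀ s : (S : Subgroup G), s * (z : (S : Subgroup G)) = (z : (S : Subgroup G)) * s :=
    fun s => Subgroup.mem_center_iff.mp z.2 s
  have hz1 : (((z : (S : Subgroup G)) : G)) ≠ 1 := by
    intro h
    apply hz
    apply Subtype.ext
    apply Subtype.ext
    exact h
  have hzx : (((z : (S : Subgroup G)) : G)) ∈ Subgroup.zpowers x := by
    rw [← hC, Subgroup.mem_centralizer_iff]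
    intro h hh
    rw [Set.mem_singleton_iff] at hh
    rw [hh]
    exact congrArg Subtype.val (hzc ⟨x, hxS⟩)
  intro s hs
  exact mem_of_commute p hp.out x hx hC hzx hz1 (congrArg Subtype.val (hzc ⟨s, hs⟩))

theorem te_eq (p : ℕ) [hp : Fact p.Prime] (x : G) (hx : orderOf x = p)
    (hC : Subgroup.centralizer ({x} : Set G) = Subgroup.zpowers x) (e : ℕ)
    (he : Nat.card (Subgroup.normalizer ((Subgroup.zpowers x : Subgroup G) : Set G)) = p * e) :
    Nat.card {C : ConjClasses G // ∃ g ∈ C.carrier, orderOf g = p} * e = p - 1 := by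
  classical
  obtain ⟨P₀, hP₀⟩ := exists_sylow p x hx hC
  have hcard := card_zp p x hx
  have hcardP₀ : Nat.card (P₀ : Subgroup G) = p := by
    rw [hP₀]
    exact hcard
  have h1 : Nat.card {g : G // orderOf g = p} = Nat.card (Sylow p G) * (p - 1) := by
    apply helper21.card_orderOf_eq_prime_of_sylow_card
    intro Q
    rw [Sylow.card_eq_multiplicity, ← Sylow.card_eq_multiplicity P₀, hcardP₀]
  have h2 : Nat.card (Sylow p G) =
      (Subgroup.normalizer ((P₀ : Subgroup G) : Set G)).index := Sylow.card_eq_index_normalizer P₀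
  rw [hP₀] at h2
  letI : Fintype {C : ConjClasses G // ∃ g ∈ C.carrier, orderOf g = p} := Fintype.ofFinite _
  have hcls : ∀ C : {C : ConjClasses G // ∃ g ∈ C.carrier, orderOf g = p},
      Nat.card {g : G // ConjClasses.mk g = C.1} * p = Nat.card G := by
    rintro ⟨C, g, hg, hgo⟩
    have hmk : ConjClasses.mk g = C := ConjClasses.mem_carrier_iff_mk_eq.mp hg
    obtain ⟨h, -, hh⟩ := helper21.exists_conj_le_sylow_of_le P₀ ⊤ le_top (Subgroup.zpowers g)
      (IsPGroup.of_card (n := 1) (by rw [Nat.card_zpowers, hgo, pow_one])) le_top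
    have hy : h⁻¹ * g * h ∈ Subgroup.zpowers x := by
      rw [← hP₀]
      exact hh g (Subgroup.mem_zpowers g)
    have hg1 : g ≠ 1 := by
      intro h1
      rw [h1, orderOf_one] at hgo
      exact hp.out.one_lt.ne hgo
    have hy1 : h⁻¹ * g * h ≠ 1 := by
      intro h1
      apply hg1
      have h2 : g = h * (h⁻¹ * g * h) * h⁻¹ := by group
      rw [h2, h1]
      group
    have hmk' : ConjClasses.mk (h⁻¹ * g * h) = C := by
      rw [← hmk, ConjClasses.mk_eq_mk_iff_isConj, isConj_iff]
      exact ⟨h, by group⟩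
    have hcent : Subgroup.centralizer ({h⁻¹ * g * h} : Set G) = Subgroup.zpowers x := by
      apply le_antisymm
      · intro k hk
        rw [Subgroup.mem_centralizer_iff] at hk
        have h3 := hk _ (Set.mem_singleton _)
        exact mem_of_commute p hp.out x hx hC hy hy1 h3.symm
      · intro k hk
        rw [Subgroup.mem_centralizer_iff]
        intro w hw
        rw [Set.mem_singleton_iff] at hw
        rw [hw]
        obtain ⟨i, hi⟩ := Subgroup.mem_zpowers_iff.mp hk
        obtain ⟨j, hj⟩ := Subgroup.mem_zpowers_iff.mp hy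
        rw [← hi, ← hj]
        exact zpow_mul_comm x j i
    have h3 := card_conj_mul_card_centralizer (h⁻¹ * g * h)
    rw [hcent, hcard] at h3
    rw [← h3]
    congr 1
    apply Nat.card_congr
    apply Equiv.subtypeEquivRight
    intro k
    show ConjClasses.mk k = C ↔ IsConj k (h⁻¹ * g * h)
    rw [← hmk', ConjClasses.mk_eq_mk_iff_isConj]
  have h3 : Nat.card {g : G // orderOf g = p} =
      ∑ C : {C : ConjClasses G // ∃ g ∈ C.carrier, orderOf g = p},
        Nat.card {g : G // ConjClasses.mk g = C.1} := by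
    rw [← Nat.card_sigma]
    apply Nat.card_congr
    exact
      { toFun := fun g => ⟨⟨ConjClasses.mk g.1, g.1, ConjClasses.mem_carrier_mk, g.2⟩, ⟨g.1, rfl⟩⟩
        invFun := fun Cg => ⟨Cg.2.1, by
          obtain ⟨g', hg', hgo'⟩ := Cg.1.2
          have h4 : ConjClasses.mk Cg.2.1 = ConjClasses.mk g' := by
            rw [Cg.2.2]
            exact (ConjClasses.mem_carrier_iff_mk_eq.mp hg').symm
          obtain ⟨c, hc⟩ := isConj_iff.mp (ConjClasses.mk_eq_mk_iff_isConj.mp h4)
          have h5 := helper21.orderOf_inv_mul_mul c⁻¹ Cg.2.1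
          rw [inv_inv, hc, hgo'] at h5
          exact h5.symm⟩
        left_inv := fun g => rfl
        right_inv := by
          rintro ⟨⟨C, hC'⟩, ⟨g, hg⟩⟩
          have hg' : ConjClasses.mk g = C := hg
          subst hg'
          rfl }
  have h4 : Nat.card {g : G // orderOf g = p} * p =
      Nat.card {C : ConjClasses G // ∃ g ∈ C.carrier, orderOf g = p} * Nat.card G := by
    rw [h3, Finset.sum_mul, Finset.sum_congr rfl (fun C _ => hcls C), Finset.sum_const,
      Finset.card_univ, ← Nat.card_eq_fintype_card, smul_eq_mul]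
  have h5 := Subgroup.index_mul_card
    (Subgroup.normalizer ((Subgroup.zpowers x : Subgroup G) : Set G))
  rw [he] at h5
  rw [h1, h2, ← h5] at h4
  have hI : 0 < (Subgroup.normalizer ((Subgroup.zpowers x : Subgroup G) : Set G)).index :=
    Nat.pos_of_ne_zero Subgroup.index_ne_zero_of_finite
  apply Nat.eq_of_mul_eq_mul_left (Nat.mul_pos hI hp.out.pos)
  calc (Subgroup.normalizer ((Subgroup.zpowers x : Subgroup G) : Set G)).index * p *
        (Nat.card {C : ConjClasses G // ∃ g ∈ C.carrier, orderOf g = p} * e)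
      = Nat.card {C : ConjClasses G // ∃ g ∈ C.carrier, orderOf g = p} *
        ((Subgroup.normalizer ((Subgroup.zpowers x : Subgroup G) : Set G)).index * (p * e)) := by
        ring
    _ = (Subgroup.normalizer ((Subgroup.zpowers x : Subgroup G) : Set G)).index * (p - 1) * p :=
        h4.symm
    _ = _ := by ring

theorem even_of_hom (f : G →* ℂˣ) (c : G) (hc : f c = -1) : Even (commutator G).index := by
  have hle : commutator G ≤ f.ker := Abelianization.commutator_subset_ker f
  have h1 := Subgroup.index_dvd_of_le hle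
  rw [Subgroup.index_ker] at h1
  haveI : Finite f.range := Finite.of_surjective f.rangeRestrict f.rangeRestrict_surjective
  haveI : Fact (Nat.Prime 2) := ⟨Nat.prime_two⟩
  have h2 : orderOf (-1 : ℂˣ) = 2 := by
    apply orderOf_eq_prime
    · norm_num
    · intro h
      have h3 := congrArg Units.val h
      norm_num at h3
  have h4 : 2 ∣ Nat.card f.range := by
    have h3 := Subgroup.orderOf_dvd_natCard f.range (⟨c, rfl⟩ : f c ∈ f.range)
    rwa [hc, h2] at h3
  exact even_iff_two_dvd.mpr (h4.trans h1)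

theorem even_of_two (x : G) (hx : orderOf x = 2)
    (hC : Subgroup.centralizer ({x} : Set G) = Subgroup.zpowers x) :
    Even (commutator G).index := by
  haveI : Fact (Nat.Prime 2) := ⟨Nat.prime_two⟩
  obtain ⟨P₀, hP₀⟩ := exists_sylow 2 x hx hC
  have hcard := card_zp 2 x hx
  have hx1 : x ≠ 1 := by
    intro h
    rw [h, orderOf_one] at hx
    omega
  have hP : Subgroup.normalizer ((P₀ : Subgroup G) : Set G) ≤
      Subgroup.centralizer ((P₀ : Subgroup G) : Set G) := by
    intro n hn
    rw [hP₀] at hn ⊢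
    have h1 : n * x * n⁻¹ ∈ Subgroup.zpowers x :=
      (Subgroup.mem_normalizer_iff.mp hn x).mp (Subgroup.mem_zpowers x)
    have h2 : orderOf (n * x * n⁻¹) = 2 :=
      helper21.orderOf_eq_prime_of_mem_of_card Nat.prime_two (Subgroup.zpowers x) hcard _ h1 (by
        intro h
        apply hx1
        have h' : x = n⁻¹ * (n * x * n⁻¹) * n := by group
        rw [h', h]
        group)
    have h3 : n * x * n⁻¹ = x := by
      obtain ⟨k, hk⟩ := Subgroup.mem_zpowers_iff.mp h1
      rcases Int.emod_two_eq_zero_or_one k with hk2 | hk2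
      · exfalso
        have h4 : x ^ k = 1 := by
          rw [← zpow_mod_orderOf, hx]
          norm_num [hk2]
        rw [h4] at hk
        rw [← hk, orderOf_one] at h2
        omega
      · rw [← hk, ← zpow_mod_orderOf, hx]
        norm_num [hk2]
    have hcomm : Commute n x := by
      show n * x = x * n
      calc n * x = n * x * n⁻¹ * n := by group
        _ = x * n := by rw [h3]
    rw [Subgroup.mem_centralizer_iff]
    intro y hy
    obtain ⟨j, hj⟩ := Subgroup.mem_zpowers_iff.mp hy
    rw [← hj]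
    exact (hcomm.zpow_right j).eq.symm
  have hcompl := MonoidHom.ker_transferSylow_isComplement' P₀ hP
  have hidx : (MonoidHom.transferSylow P₀ hP).ker.index = 2 := by
    rw [hcompl.symm.index_eq_card, hP₀, hcard]
  have hcardQ : Nat.card (G ⧸ (MonoidHom.transferSylow P₀ hP).ker) = 2 := by
    rw [← Subgroup.index_eq_card, hidx]
  haveI : IsCyclic (G ⧸ (MonoidHom.transferSylow P₀ hP).ker) := isCyclic_of_prime_card hcardQ
  letI : CommGroup (G ⧸ (MonoidHom.transferSylow P₀ hP).ker) := IsCyclic.commGroup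
  have hle : commutator G ≤ (MonoidHom.transferSylow P₀ hP).ker := by
    have h := Abelianization.commutator_subset_ker
      (QuotientGroup.mk' (MonoidHom.transferSylow P₀ hP).ker)
    rwa [QuotientGroup.ker_mk'] at h
  have h := Subgroup.index_dvd_of_le hle
  rw [hidx] at h
  exact even_iff_two_dvd.mpr h

theorem two_part (p e t : ℕ) (hp : p.Prime) (hp2 : p ≠ 2) (hte : t * e = p - 1)
    (ht : ¬ Even t) :
    ∃ s m : ℕ, (p * e).factorization 2 = s ∧ s ≠ 0 ∧ Odd m ∧ p - 1 = 2 ^ s * m := by
  have hp3 : 3 ≤ p := by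
    have := hp.two_le
    omega
  have he0 : e ≠ 0 := by
    rintro rfl
    rw [mul_zero] at hte
    omega
  have hpe0 : p * e ≠ 0 := Nat.mul_ne_zero hp.ne_zero he0
  obtain ⟨m₀, hm₀⟩ := Nat.ordProj_dvd (p * e) 2
  have hm₀odd : Odd m₀ := by
    have h1 := Nat.not_dvd_ordCompl Nat.prime_two hpe0
    have h2 : p * e / 2 ^ (p * e).factorization 2 = m₀ := by
      exact Nat.div_eq_of_eq_mul_right (pow_pos (by norm_num : (0 : ℕ) < 2) _) hm₀
    rw [h2] at h1
    exact Nat.not_even_iff_odd.mp (fun h => h1 (even_iff_two_dvd.mp h))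
  have podd : Odd p := hp.odd_of_ne_two hp2
  have todd : Odd t := Nat.not_even_iff_odd.mp ht
  have hcop : Nat.Coprime (2 ^ (p * e).factorization 2) p :=
    Nat.Coprime.pow_left _ ((Nat.coprime_primes Nat.prime_two hp).mpr (Ne.symm hp2))
  have hdvd : 2 ^ (p * e).factorization 2 ∣ (p - 1) * p := by
    have h1 : (p - 1) * p = t * (p * e) := by
      rw [← hte]
      ring
    rw [h1]
    exact Dvd.dvd.mul_left (Nat.ordProj_dvd (p * e) 2) t
  obtain ⟨m₁, hm₁⟩ := hcop.dvd_of_dvd_mul_right hdvd
  have hm₁odd : Odd m₁ := by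
    have h1 : p * m₁ = t * m₀ := by
      have h2 : 2 ^ (p * e).factorization 2 * (p * m₁) =
          2 ^ (p * e).factorization 2 * (t * m₀) := by
        calc 2 ^ (p * e).factorization 2 * (p * m₁)
            = p * (2 ^ (p * e).factorization 2 * m₁) := by ring
          _ = p * (p - 1) := by rw [← hm₁]
          _ = t * (p * e) := by
              rw [← hte]
              ring
          _ = t * (2 ^ (p * e).factorization 2 * m₀) := by rw [← hm₀]
          _ = _ := by ring
      exact Nat.eq_of_mul_eq_mul_left (pow_pos (by norm_num) _) h2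
    have h3 : Odd (p * m₁) := by
      rw [h1]
      exact todd.mul hm₀odd
    exact (Nat.odd_mul.mp h3).2
  refine ⟨(p * e).factorization 2, m₁, rfl, ?_, hm₁odd, hm₁⟩
  intro h0
  rw [h0, pow_zero, one_mul] at hm₁
  obtain ⟨k, hk⟩ := podd
  obtain ⟨j, hj⟩ := hm₁odd
  omega

theorem exists_two_elt (p : ℕ) (hp : p.Prime) (hp2 : p ≠ 2) (x : G) (hx : orderOf x = p)
    (hC : Subgroup.centralizer ({x} : Set G) = Subgroup.zpowers x) :
    ∃ c ∈ Subgroup.normalizer ((Subgroup.zpowers x : Subgroup G) : Set G),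
      orderOf c = 2 ^ (Nat.card
        (Subgroup.normalizer ((Subgroup.zpowers x : Subgroup G) : Set G))).factorization 2 := by
  classical
  haveI : Fact p.Prime := ⟨hp⟩
  haveI : Fact (Nat.Prime 2) := ⟨Nat.prime_two⟩
  have hcard := card_zp p x hx
  obtain ⟨N, hN⟩ : ∃ N : Subgroup G,
      N = Subgroup.normalizer ((Subgroup.zpowers x : Subgroup G) : Set G) := ⟨_, rfl⟩
  rw [← hN]
  have hnorm : ∀ s ∈ N, ∀ g ∈ Subgroup.zpowers x, s * g * s⁻¹ ∈ Subgroup.zpowers x := by
    rw [hN]
    exact fun s hs g hg => (Subgroup.mem_normalizer_iff.mp hs g).mp hg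
  have hxP : x ∈ Subgroup.zpowers x := Subgroup.mem_zpowers x
  obtain ⟨T₂⟩ : Nonempty (Sylow 2 N) := inferInstance
  let f : ↥(T₂ : Subgroup N) →* MulAut (Subgroup.zpowers x) :=
    (conjHom (Subgroup.zpowers x) N hnorm).comp (T₂ : Subgroup N).subtype
  have hf : Function.Injective f := by
    rw [injective_iff_map_eq_one]
    intro t ht
    have h1 : (((t : N) : G)) * x * (((t : N) : G))⁻¹ = x := by
      have h2 := congrArg (fun σ : MulAut (Subgroup.zpowers x) =>
        ((σ ⟨x, hxP⟩ : Subgroup.zpowers x) : G)) ht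
      exact h2
    have h3 : (((t : N) : G)) ∈ Subgroup.zpowers x := by
      rw [← hC, Subgroup.mem_centralizer_iff]
      intro h hh
      rw [Set.mem_singleton_iff] at hh
      rw [hh]
      calc x * (((t : N) : G)) = (((t : N) : G)) * x * (((t : N) : G))⁻¹ * (((t : N) : G)) := by
            rw [h1]
        _ = (((t : N) : G)) * x := by group
    have h4 : orderOf (((t : N) : G)) ∣ p := by
      have h5 := orderOf_dvd_natCard (⟨((t : N) : G), h3⟩ : Subgroup.zpowers x)
      rwa [Subgroup.orderOf_mk, hcard] at h5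
    obtain ⟨k, hk⟩ := T₂.isPGroup' t
    have h6 : orderOf (((t : N) : G)) ∣ 2 ^ k := by
      apply orderOf_dvd_of_pow_eq_one
      have h7 := congrArg (fun s : ↥(T₂ : Subgroup N) => ((s : N) : G)) hk
      simpa using h7
    have hcop : Nat.Coprime p (2 ^ k) :=
      Nat.Coprime.pow_right k ((Nat.coprime_primes hp Nat.prime_two).mpr hp2)
    have h8 : orderOf (((t : N) : G)) = 1 := Nat.eq_one_of_dvd_coprimes hcop h4 h6
    apply Subtype.ext
    apply Subtype.ext
    exact orderOf_eq_one_iff.mp h8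
  haveI : IsCyclic (Subgroup.zpowers x) := isCyclic_of_prime_card hcard
  haveI : IsCyclic (ZMod (Nat.card (Subgroup.zpowers x)))ˣ := by
    rw [hcard]
    exact ZMod.isCyclic_units_prime hp
  haveI : IsCyclic (MulAut (Subgroup.zpowers x)) :=
    isCyclic_of_injective (IsCyclic.mulAutMulEquiv (Subgroup.zpowers x)).toMonoidHom
      (IsCyclic.mulAutMulEquiv (Subgroup.zpowers x)).injective
  haveI : IsCyclic ↥(T₂ : Subgroup N) := isCyclic_of_injective f hf
  obtain ⟨g₀, hg₀⟩ := IsCyclic.exists_generator (α := ↥(T₂ : Subgroup N))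
  refine ⟨((g₀ : N) : G), (g₀ : N).2, ?_⟩
  rw [Subgroup.orderOf_coe, Subgroup.orderOf_coe, orderOf_eq_card_of_forall_mem_zpowers hg₀,
    Sylow.card_eq_multiplicity]

end Grp

/-! ### Sums of a character over cosets of a normal subgroup -/

theorem sum_coset_eq_zero {Γ : Type u} [Group Γ] [Fintype Γ] (R : Subgroup Γ) [R.Normal]
    [Fintype R] (Θ : Γ → ℂ) (hΘ : IsCharacter Γ Θ) (h0 : ∑ u : R, Θ u = 0) (v : Γ) :
    ∑ u : R, Θ ((u : Γ) * v) = 0 := by
  classical
  letI : Fintype (IrrCharacter Γ) := Fintype.ofFinite _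
  letI : Fintype (IrrCharacter R) := Fintype.ofFinite _
  obtain ⟨c, hc1, hc2, hc3⟩ := exists_nat_decomp hΘ
  have hR0 : (Nat.card R : ℂ) ≠ 0 := by exact_mod_cast Nat.card_pos.ne'
  have hk : ∀ θ : IrrCharacter Γ, ∃ k : ℕ,
      ∑ u : R, (θ : Γ → ℂ) u = (Nat.card R : ℂ) * k := by
    intro θ
    have hθR : IsCharacter R (fun u : R => (θ : Γ → ℂ) (R.subtype u)) :=
      helper4.isCharacter_comp R.subtype (isCharacter_of_irr θ.2)
    obtain ⟨K, hK1, -, -⟩ := exists_nat_decomp hθR
    refine ⟨K (trivIrr R), ?_⟩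
    have h1 := hK1 (trivIrr R)
    rw [classInner_def] at h1
    have h2 : ∑ u : R, (θ : Γ → ℂ) (R.subtype u) * conj ((trivIrr R : R → ℂ) u) =
        ∑ u : R, (θ : Γ → ℂ) u := by
      apply Finset.sum_congr rfl
      intro u _
      rw [trivIrr_apply, map_one, mul_one]
      rfl
    rw [h2] at h1
    rw [← h1, ← mul_assoc, mul_inv_cancel₀ hR0, one_mul]
  choose k hk using hk
  have hsum : ∑ θ : IrrCharacter Γ, c θ * k θ = 0 := by
    have h1 : ∑ u : R, Θ u = ∑ θ : IrrCharacter Γ, (c θ : ℂ) * ((Nat.card R : ℂ) * k θ) := by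
      rw [Finset.sum_congr rfl (fun (u : R) _ => hc2 (u : Γ)), Finset.sum_comm]
      apply Finset.sum_congr rfl
      intro θ _
      rw [← Finset.mul_sum, hk θ]
    have h2 : (Nat.card R : ℂ) * ((∑ θ : IrrCharacter Γ, c θ * k θ : ℕ) : ℂ) =
        ∑ θ : IrrCharacter Γ, (c θ : ℂ) * ((Nat.card R : ℂ) * k θ) := by
      push_cast
      rw [Finset.mul_sum]
      apply Finset.sum_congr rfl
      intro θ _
      ring
    rw [← h1, h0] at h2
    have h3 := (mul_eq_zero.mp h2).resolve_left hR0
    exact_mod_cast h3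
  have hθ : ∀ θ : IrrCharacter Γ, c θ ≠ 0 → ∑ u : R, (θ : Γ → ℂ) ((u : Γ) * v) = 0 := by
    intro θ hcθ
    have hkθ : k θ = 0 := by
      have h1 := Finset.sum_eq_zero_iff.mp hsum θ (Finset.mem_univ θ)
      rcases Nat.mul_eq_zero.mp h1 with h | h
      · exact absurd h hcθ
      · exact h
    have hs0 : ∑ u : R, (θ : Γ → ℂ) u = 0 := by
      rw [hk θ, hkθ]
      simp
    have key : ∀ u : R, (θ : Γ → ℂ) 1 * ∑ x : Γ, (θ : Γ → ℂ) (x * u * x⁻¹ * v) =
        (Nat.card Γ : ℂ) * (θ : Γ → ℂ) u * (θ : Γ → ℂ) v :=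
      fun u => helper20.irr_sum_conj_mul (θ : Γ → ℂ) θ.2 u v
    have h1 : ∑ u : R, ((θ : Γ → ℂ) 1 * ∑ x : Γ, (θ : Γ → ℂ) (x * u * x⁻¹ * v)) = 0 := by
      rw [Finset.sum_congr rfl (fun u _ => key u), ← Finset.sum_mul, ← Finset.mul_sum, hs0]
      simp
    have h2 : ∀ x : Γ, ∑ u : R, (θ : Γ → ℂ) (x * u * x⁻¹ * v) =
        ∑ u : R, (θ : Γ → ℂ) ((u : Γ) * v) := by
      intro x
      rw [← Equiv.sum_comp (MulAut.conjNormal x : MulAut R).toEquiv
        (fun u : R => (θ : Γ → ℂ) ((u : Γ) * v))]
      apply Finset.sum_congr rfl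
      intro u _
      simp [MulAut.conjNormal_apply]
    rw [← Finset.mul_sum, Finset.sum_comm, Finset.sum_congr rfl (fun x _ => h2 x),
      Finset.sum_const, Finset.card_univ, nsmul_eq_mul] at h1
    have hd0 : (θ : Γ → ℂ) 1 ≠ 0 := by
      rw [irr_one_eq_charDegree]
      exact_mod_cast (charDegree_pos θ).ne'
    have hΓ0 : ((Fintype.card Γ : ℕ) : ℂ) ≠ 0 := by exact_mod_cast Fintype.card_ne_zero
    rcases mul_eq_zero.mp h1 with h | h
    · exact absurd h hd0
    · rcases mul_eq_zero.mp h with h' | h'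
      · exact absurd h' hΓ0
      · exact h'
  rw [Finset.sum_congr rfl (fun (u : R) _ => hc2 ((u : Γ) * v)), Finset.sum_comm]
  apply Finset.sum_eq_zero
  intro θ _
  rw [← Finset.mul_sum]
  by_cases hcθ : c θ = 0
  · rw [hcθ]
    simp
  · rw [hθ θ hcθ, mul_zero]

theorem vanish_off {G : Type u} [Group G] [Finite G] (P : Subgroup G) [Fintype P]
    (hfree : ∀ y ∈ P, y ≠ 1 → ∀ g : G, g * y = y * g → g ∈ P)
    (χ : G → ℂ) (hχ : IsCharacter G χ) (h0 : ∑ y : P, χ y = 0) (v : G)
    (hvN : v ∈ Subgroup.normalizer (P : Set G)) (hvP : v ∉ P) : χ v = 0 := by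
  classical
  have hcf := helper4.isClassFunction_of_isCharacter hχ
  have hPN : P ≤ Subgroup.normalizer (P : Set G) := Subgroup.le_normalizer
  -- all elements of the coset `P v` are conjugate to `v`
  have hmem : ∀ w : P, (w : G) * (v * (w : G)⁻¹ * v⁻¹) ∈ P :=
    fun w => P.mul_mem w.2 ((Subgroup.mem_normalizer_iff.mp hvN _).mp (P.inv_mem w.2))
  have hinj : Function.Injective (fun w : P => (⟨(w : G) * (v * (w : G)⁻¹ * v⁻¹), hmem w⟩ : P)) := by
    intro w w' h
    have h1 : (w : G) * (v * (w : G)⁻¹ * v⁻¹) = (w' : G) * (v * (w' : G)⁻¹ * v⁻¹) :=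
      congrArg Subtype.val h
    have h1' : (w : G) * v * (w : G)⁻¹ = (w' : G) * v * (w' : G)⁻¹ := by
      have h2 := congrArg (· * v) h1
      simpa [mul_assoc] using h2
    have h2 : v * ((w' : G)⁻¹ * (w : G)) = (w' : G)⁻¹ * (w : G) * v := by
      calc v * ((w' : G)⁻¹ * (w : G)) = (w' : G)⁻¹ * ((w' : G) * v * (w' : G)⁻¹) * (w : G) := by
            group
        _ = (w' : G)⁻¹ * ((w : G) * v * (w : G)⁻¹) * (w : G) := by rw [h1']
        _ = (w' : G)⁻¹ * (w : G) * v := by group
    by_contra hne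
    apply hvP
    apply hfree ((w' : G)⁻¹ * (w : G)) (P.mul_mem (P.inv_mem w'.2) w.2) _ v h2
    intro h3
    apply hne
    apply Subtype.ext
    exact (inv_mul_eq_one.mp h3).symm
  have hsurj := Finite.injective_iff_surjective.mp hinj
  have hconj : ∀ u ∈ P, χ (u * v) = χ v := by
    intro u hu
    obtain ⟨w, hw⟩ := hsurj ⟨u, hu⟩
    have hw' : (w : G) * (v * (w : G)⁻¹ * v⁻¹) = u := congrArg Subtype.val hw
    have h1 : u * v = (w : G) * v * (w : G)⁻¹ := by
      rw [← hw']
      group
    rw [h1, hcf]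
  -- the sum over the coset vanishes
  letI : Fintype (Subgroup.normalizer (P : Set G)) := Fintype.ofFinite _
  letI : Fintype (P.subgroupOf (Subgroup.normalizer (P : Set G))) := Fintype.ofFinite _
  have hΘ : IsCharacter (Subgroup.normalizer (P : Set G))
      (fun n => χ ((Subgroup.normalizer (P : Set G)).subtype n)) :=
    helper4.isCharacter_comp _ hχ
  have h0' : ∑ u : P.subgroupOf (Subgroup.normalizer (P : Set G)),
      χ ((Subgroup.normalizer (P : Set G)).subtype (u : Subgroup.normalizer (P : Set G))) = 0 := by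
    rw [← h0]
    exact Fintype.sum_equiv (Subgroup.subgroupOfEquivOfLe hPN).toEquiv _ _ (fun u => rfl)
  have h1 := sum_coset_eq_zero (P.subgroupOf (Subgroup.normalizer (P : Set G)))
    (fun n => χ ((Subgroup.normalizer (P : Set G)).subtype n)) hΘ h0' ⟨v, hvN⟩
  have h2 : ∀ u : P.subgroupOf (Subgroup.normalizer (P : Set G)),
      χ ((Subgroup.normalizer (P : Set G)).subtype
        ((u : Subgroup.normalizer (P : Set G)) * ⟨v, hvN⟩)) = χ v := by
    intro u
    exact hconj _ (Subgroup.mem_subgroupOf.mp u.2)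
  rw [Finset.sum_congr rfl (fun u _ => h2 u), Finset.sum_const, Finset.card_univ,
    nsmul_eq_mul] at h1
  rcases mul_eq_zero.mp h1 with h | h
  · exfalso
    have h3 : (Fintype.card (P.subgroupOf (Subgroup.normalizer (P : Set G)))) ≠ 0 :=
      Fintype.card_ne_zero
    exact h3 (by exact_mod_cast h)
  · exact h

/-! ### The multiplicity of the trivial character of `P` -/

theorem triv_mult {G : Type u} [Group G] [Finite G] (p : ℕ) (hp : p.Prime) (hp2 : p ≠ 2)
    (P : Subgroup G) [Fintype P] (hP : Nat.card P = p)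
    (hCP : Subgroup.centralizer (P : Set G) ≤ P) (e : ℕ)
    (he : Nat.card (Subgroup.normalizer (P : Set G)) = p * e) (χ : IrrCharacter G)
    (hχ : charDegree (χ : G → ℂ) + 1 = p) : e = 1 ∨ ∑ y : P, (χ : G → ℂ) y = 0 := by
  classical
  letI : Fintype G := Fintype.ofFinite G
  letI : Fintype (IrrCharacter P) := Fintype.ofFinite _
  letI : Fintype (IrrCharacter G) := Fintype.ofFinite _
  have hp3 : 3 ≤ p := by
    have := hp.two_le
    omega
  have hp0 : (p : ℂ) ≠ 0 := by exact_mod_cast hp.ne_zero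
  have hPc : (Nat.card P : ℂ) = p := by rw [hP]
  have hkey : (p : ℂ)⁻¹ * p = 1 := inv_mul_cancel₀ hp0
  have hθ : IsCharacter P (fun y => (χ : G → ℂ) (P.subtype y)) :=
    helper4.isCharacter_comp P.subtype (isCharacter_of_irr χ.2)
  obtain ⟨m, hm1, hm2, hm3⟩ := exists_nat_decomp hθ
  have hone : ∀ ν : IrrCharacter P, (ν : P → ℂ) ≠ (fun _ => 1) ↔ ν ≠ trivIrr P := by
    intro ν
    constructor
    · intro h h'
      apply h
      rw [h']
      rfl
    · intro h h'
      apply h
      exact Subtype.ext h'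
  have hdeg1 : ∀ ν : IrrCharacter P, charDegree (ν : P → ℂ) = 1 := by
    intro ν
    have h1 := helper21.irr_apply_one_of_prime_card hp hP ν.2
    rw [irr_one_eq_charDegree] at h1
    exact_mod_cast h1
  have hsum : ∑ ν : IrrCharacter P, m ν = p - 1 := by
    have h1 : (χ : G → ℂ) (P.subtype 1) = _ := hm3
    rw [map_one, irr_one_eq_charDegree] at h1
    have h2 : charDegree (χ : G → ℂ) =
        ∑ ν : IrrCharacter P, m ν * charDegree (ν : P → ℂ) := by exact_mod_cast h1
    have h3 : ∀ ν : IrrCharacter P, m ν * charDegree (ν : P → ℂ) = m ν :=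
      fun ν => by rw [hdeg1 ν, mul_one]
    rw [Finset.sum_congr rfl (fun ν _ => h3 ν)] at h2
    have h4 : charDegree (χ : G → ℂ) = p - 1 := by omega
    rw [← h4, h2]
  have hind : ∀ ν : IrrCharacter P,
      classInner (indFun P (ν : P → ℂ)) (χ : G → ℂ) = (m ν : ℂ) := by
    intro ν
    rw [helper4.frobenius_reciprocity P (ν : P → ℂ) (isClassFunction_irr χ)]
    exact classInner_irr_char_comm ν (hm1 ν)
  have hnorm : ∀ a b : IrrCharacter P,
      classInner (indFun P (a : P → ℂ) - indFun P (b : P → ℂ))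
        (indFun P (a : P → ℂ) - indFun P (b : P → ℂ)) =
      (p : ℂ)⁻¹ * ((helper21.tiCount P (a : P → ℂ) (a : P → ℂ) : ℂ) -
        (helper21.tiCount P (a : P → ℂ) (b : P → ℂ) : ℂ) -
        (helper21.tiCount P (b : P → ℂ) (a : P → ℂ) : ℂ) +
        (helper21.tiCount P (b : P → ℂ) (b : P → ℂ) : ℂ)) := by
    intro a b
    rw [helper21.classInner_indFun_sub_indFun_sub hp hP a.2 b.2,
      helper21.tiK_eq_tiCount hp hP a.2 a.2, helper21.tiK_eq_tiCount hp hP a.2 b.2,
      helper21.tiK_eq_tiCount hp hP b.2 a.2, helper21.tiK_eq_tiCount hp hP b.2 b.2, hPc]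
    ring
  have hDχ : ∀ a b : IrrCharacter P,
      classInner (indFun P (a : P → ℂ) - indFun P (b : P → ℂ)) (χ : G → ℂ) =
        (((m a : ℤ) - (m b : ℤ) : ℤ) : ℂ) := by
    intro a b
    rw [helper4.classInner_sub_left, hind, hind]
    push_cast
    ring
  have h2re : ((2 : ℂ)).re = 2 := by norm_num
  -- (ii)
  have hii : ∀ a b : IrrCharacter P, a ≠ trivIrr P → b ≠ trivIrr P →
      ((m a : ℤ) - m b) ^ 2 ≤ 2 := by
    intro a b ha hb
    have ha1 := (hone a).mpr ha
    have hb1 := (hone b).mpr hb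
    by_cases hab : indFun P (a : P → ℂ) = indFun P (b : P → ℂ)
    · have h1 : (m a : ℂ) = m b := by rw [← hind a, ← hind b, hab]
      have h2 : m a = m b := by exact_mod_cast h1
      rw [h2]
      norm_num
    · have hn := hnorm a b
      rw [helper21.tiCount_self hp hP hCP a.2 ha1, helper21.tiCount_self hp hP hCP b.2 hb1,
        helper21.tiCount_eq_zero_of_indFun_ne hab,
        helper21.tiCount_eq_zero_of_indFun_ne (Ne.symm hab), hPc] at hn
      have hn2 : classInner (indFun P (a : P → ℂ) - indFun P (b : P → ℂ))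
          (indFun P (a : P → ℂ) - indFun P (b : P → ℂ)) = 2 := by
        rw [hn]
        push_cast
        linear_combination 2 * hkey
      have hb' := helper32.bessel_le ({χ} : Finset (IrrCharacter G))
        (fun ψ : IrrCharacter G => (ψ : G → ℂ))
        (indFun P (a : P → ℂ) - indFun P (b : P → ℂ)) (fun _ => (m a : ℤ) - m b)
        (fun i _ j _ => classInner_irr i j)
        (fun i hi => by
          rw [Finset.mem_singleton.mp hi]
          exact hDχ a b)
      rw [hn2, Finset.sum_singleton, h2re] at hb'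
      exact_mod_cast hb'
  have hχne : χ ≠ trivIrr G := by
    intro h
    have h1 : ((charDegree (χ : G → ℂ) : ℕ) : ℂ) = 1 := by
      rw [← irr_one_eq_charDegree, h, trivIrr_apply]
    have h2 : charDegree (χ : G → ℂ) = 1 := by exact_mod_cast h1
    omega
  -- (i)
  have hi : ∀ b : IrrCharacter P, b ≠ trivIrr P →
      ((m (trivIrr P) : ℤ) - m b) ^ 2 ≤ e := by
    intro b hb
    have hb1 := (hone b).mpr hb
    have hn := hnorm (trivIrr P) b
    have h11 : helper21.tiCount P ((trivIrr P : IrrCharacter P) : P → ℂ)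
        ((trivIrr P : IrrCharacter P) : P → ℂ) =
        Nat.card (Subgroup.normalizer (P : Set G)) := helper21.tiCount_one_one
    have h12 : helper21.tiCount P ((trivIrr P : IrrCharacter P) : P → ℂ) (b : P → ℂ) = 0 :=
      helper21.tiCount_one_right hb1
    have h21 : helper21.tiCount P (b : P → ℂ) ((trivIrr P : IrrCharacter P) : P → ℂ) = 0 :=
      helper21.tiCount_one_left hb1
    rw [h11, h12, h21, helper21.tiCount_self hp hP hCP b.2 hb1, he, hPc] at hn
    have hn2 : classInner (indFun P ((trivIrr P : IrrCharacter P) : P → ℂ) - indFun P (b : P → ℂ))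
        (indFun P ((trivIrr P : IrrCharacter P) : P → ℂ) - indFun P (b : P → ℂ)) =
        ((e + 1 : ℕ) : ℂ) := by
      rw [hn]
      push_cast
      linear_combination ((e : ℂ) + 1) * hkey
    have htriv : classInner
        (indFun P ((trivIrr P : IrrCharacter P) : P → ℂ) - indFun P (b : P → ℂ))
        ((trivIrr G : IrrCharacter G) : G → ℂ) = ((1 : ℤ) : ℂ) := by
      rw [helper4.classInner_sub_left,
        helper4.frobenius_reciprocity P _ (isClassFunction_irr (trivIrr G)),
        helper4.frobenius_reciprocity P _ (isClassFunction_irr (trivIrr G))]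
      have h1 : (fun h : P => ((trivIrr G : IrrCharacter G) : G → ℂ) h) =
          ((trivIrr P : IrrCharacter P) : P → ℂ) := rfl
      rw [h1, classInner_irr, classInner_irr, if_pos rfl, if_neg hb]
      norm_num
    have hb' := helper32.bessel_le ({χ, trivIrr G} : Finset (IrrCharacter G))
      (fun ψ : IrrCharacter G => (ψ : G → ℂ))
      (indFun P ((trivIrr P : IrrCharacter P) : P → ℂ) - indFun P (b : P → ℂ))
      (fun ψ => if ψ = χ then (m (trivIrr P) : ℤ) - m b else 1)
      (fun i _ j _ => classInner_irr i j)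
      (fun i hi => by
        rcases Finset.mem_insert.mp hi with h | h
        · rw [h, if_pos rfl]
          exact hDχ (trivIrr P) b
        · rw [Finset.mem_singleton] at h
          rw [h, if_neg (Ne.symm hχne)]
          exact htriv)
    rw [hn2, Finset.sum_pair hχne, if_pos rfl, if_neg (Ne.symm hχne)] at hb'
    have hre : (((e + 1 : ℕ) : ℂ)).re = (e : ℝ) + 1 := by
      rw [Complex.natCast_re]
      push_cast
      ring
    rw [hre] at hb'
    have h3 : ((m (trivIrr P) : ℤ) - m b) ^ 2 + 1 ^ 2 ≤ (e : ℤ) + 1 := by exact_mod_cast hb'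
    linarith
  -- (iii)
  have hiii : ∀ b : IrrCharacter P, b ≠ trivIrr P → m b = 0 →
      e ≤ (Finset.univ.filter (fun ν : IrrCharacter P => ν ≠ trivIrr P ∧ m ν = 0)).card := by
    intro b hb hmb
    have hb1 := (hone b).mpr hb
    have hs := helper21.sum_tiCount hp hP b.2
    rw [he] at hs
    have hterm : ∀ a : IrrCharacter P, helper21.tiCount P (a : P → ℂ) (b : P → ℂ) =
        if (a ≠ trivIrr P ∧ indFun P (a : P → ℂ) = indFun P (b : P → ℂ)) then p else 0 := by
      intro a
      by_cases ha : a = trivIrr P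
      · rw [if_neg (by rintro ⟨h, -⟩; exact h ha), ha]
        exact helper21.tiCount_one_right hb1
      · by_cases hab : indFun P (a : P → ℂ) = indFun P (b : P → ℂ)
        · rw [if_pos ⟨ha, hab⟩,
            helper21.tiCount_of_indFun_eq hp hP hCP a.2 b.2 ((hone a).mpr ha) hb1 hab, hP]
        · rw [if_neg (by rintro ⟨-, h⟩; exact hab h)]
          exact helper21.tiCount_eq_zero_of_indFun_ne hab
    rw [Finset.sum_congr rfl (fun a _ => hterm a), ← Finset.sum_filter, Finset.sum_const,
      smul_eq_mul] at hs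
    have hcard : (Finset.univ.filter (fun a : IrrCharacter P =>
        a ≠ trivIrr P ∧ indFun P (a : P → ℂ) = indFun P (b : P → ℂ))).card = e := by
      rw [mul_comm] at hs
      exact Nat.eq_of_mul_eq_mul_left hp.pos hs
    rw [← hcard]
    apply Finset.card_le_card
    intro a ha
    rw [Finset.mem_filter] at ha ⊢
    refine ⟨Finset.mem_univ _, ha.2.1, ?_⟩
    have h1 : (m a : ℂ) = m b := by rw [← hind a, ← hind b, ha.2.2]
    have h2 : m a = m b := by exact_mod_cast h1
    rw [h2, hmb]
  have he1 : 1 ≤ e := by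
    rcases Nat.eq_zero_or_pos e with h | h
    · rw [h, mul_zero] at he
      exact absurd he Nat.card_pos.ne'
    · exact h
  have hcardIrr : Fintype.card (IrrCharacter P) = p := by
    rw [← Nat.card_eq_fintype_card, card_irr_of_commutative (helper21.comm_of_prime_card hp hP),
      hP]
  have hsplit : m (trivIrr P) + ∑ ν ∈ Finset.univ.erase (trivIrr P), m ν = p - 1 := by
    rw [Finset.add_sum_erase _ _ (Finset.mem_univ _)]
    exact hsum
  have hEcard : (Finset.univ.erase (trivIrr P)).card = p - 1 := by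
    rw [Finset.card_erase_of_mem (Finset.mem_univ _), Finset.card_univ, hcardIrr]
  by_cases hZ : ∃ b : IrrCharacter P, b ≠ trivIrr P ∧ m b = 0
  · left
    obtain ⟨b, hb, hmb⟩ := hZ
    have hle1 : ∀ ν ∈ Finset.univ.erase (trivIrr P), m ν ≤ 1 := by
      intro ν hν
      have hν1 : ν ≠ trivIrr P := Finset.ne_of_mem_erase hν
      have h1 := hii ν b hν1 hb
      rw [hmb] at h1
      by_contra hcon
      push Not at hcon
      have h2 : (2 : ℤ) ≤ m ν := by exact_mod_cast hcon
      have h3 : ((m ν : ℤ) - ((0 : ℕ) : ℤ)) = m ν := by simp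
      rw [h3] at h1
      nlinarith
    have hZc := hiii b hb hmb
    have hfilt : ∑ ν ∈ Finset.univ.erase (trivIrr P), m ν ≤
        ((Finset.univ.erase (trivIrr P)).filter (fun ν => m ν ≠ 0)).card := by
      rw [← Finset.sum_filter_ne_zero]
      calc ∑ ν ∈ (Finset.univ.erase (trivIrr P)).filter (fun ν => m ν ≠ 0), m ν
          ≤ ((Finset.univ.erase (trivIrr P)).filter (fun ν => m ν ≠ 0)).card • 1 :=
            Finset.sum_le_card_nsmul _ _ 1 (fun ν hν => hle1 ν (Finset.mem_of_mem_filter ν hν))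
        _ = _ := by simp
    have hZE : (Finset.univ.filter (fun ν : IrrCharacter P => ν ≠ trivIrr P ∧ m ν = 0)) =
        (Finset.univ.erase (trivIrr P)).filter (fun ν => ¬ m ν ≠ 0) := by
      ext ν
      simp [Finset.mem_filter, Finset.mem_erase]
    have hadd := Finset.card_filter_add_card_filter_not (s := Finset.univ.erase (trivIrr P))
      (fun ν : IrrCharacter P => m ν ≠ 0)
    rw [← hZE, hEcard] at hadd
    have ha_ge : e ≤ m (trivIrr P) := by omega
    have hsq := hi b hb
    rw [hmb] at hsq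
    have h3 : ((m (trivIrr P) : ℤ) - ((0 : ℕ) : ℤ)) = m (trivIrr P) := by simp
    rw [h3] at hsq
    have h5 : (e : ℤ) ≤ m (trivIrr P) := by exact_mod_cast ha_ge
    have h6 : (1 : ℤ) ≤ e := by exact_mod_cast he1
    have h8 : (e : ℤ) * e ≤ (m (trivIrr P) : ℤ) * m (trivIrr P) :=
      mul_self_le_mul_self (by linarith) h5
    have h9 : (e : ℤ) ≤ 1 := by
      by_contra hcon
      push Not at hcon
      have h10 : (2 : ℤ) * e ≤ e * e := mul_le_mul_of_nonneg_right (by linarith) (by linarith)
      nlinarith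
    have h7 : (e : ℤ) = 1 := le_antisymm h9 h6
    exact_mod_cast h7
  · right
    push Not at hZ
    have hge : (Finset.univ.erase (trivIrr P)).card • 1 ≤
        ∑ ν ∈ Finset.univ.erase (trivIrr P), m ν :=
      Finset.card_nsmul_le_sum _ _ 1
        (fun ν hν => Nat.one_le_iff_ne_zero.mpr (hZ ν (Finset.ne_of_mem_erase hν)))
    rw [hEcard, smul_eq_mul, mul_one] at hge
    have ha0 : m (trivIrr P) = 0 := by omega
    have h1 := hm1 (trivIrr P)
    rw [ha0, classInner_def] at h1
    have h2 : ∑ y : P, (χ : G → ℂ) (P.subtype y) * conj ((trivIrr P : P → ℂ) y) =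
        ∑ y : P, (χ : G → ℂ) y := by
      apply Finset.sum_congr rfl
      intro y _
      rw [trivIrr_apply, map_one, mul_one]
      rfl
    rw [h2] at h1
    have hP0 : (Nat.card P : ℂ)⁻¹ ≠ 0 := inv_ne_zero (by rw [hPc]; exact hp0)
    have h1' : (Nat.card P : ℂ)⁻¹ * ∑ y : P, (χ : G → ℂ) y = 0 := by
      rw [h1]
      simp
    rcases mul_eq_zero.mp h1' with h | h
    · exact absurd h hP0
    · exact h

/-! ### The determinant on a cyclic subgroup on which the character vanishes -/

section Det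

/-- `m` copies of the regular representation. -/
noncomputable def regRep (Z : Type u) [Group Z] (m : ℕ) : Representation ℂ Z (Fin m × Z → ℂ) where
  toFun z := LinearMap.funLeft ℂ ℂ (fun ω : Fin m × Z => (ω.1, z⁻¹ * ω.2))
  map_one' := by
    apply LinearMap.ext
    intro f
    funext ω
    show f (ω.1, 1⁻¹ * ω.2) = f ω
    simp
  map_mul' z z' := by
    apply LinearMap.ext
    intro f
    funext ω
    show f (ω.1, (z * z')⁻¹ * ω.2) = f (ω.1, z'⁻¹ * (z⁻¹ * ω.2))
    rw [mul_inv_rev, mul_assoc]

variable (Z : Type u) [Group Z] [Fintype Z] [DecidableEq Z]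

theorem regRep_eq_toLin' (m : ℕ) (z : Z) :
    regRep Z m z = Matrix.toLin' (Equiv.Perm.permMatrix ℂ
      (Equiv.prodCongrRight (fun _ : Fin m => Equiv.mulLeft z⁻¹) : Equiv.Perm (Fin m × Z))) := by
  apply LinearMap.ext
  intro f
  rw [Matrix.toLin'_apply, Matrix.permMatrix_mulVec]
  rfl

theorem regRep_char (m : ℕ) (z : Z) :
    (regRep Z m).character z = if z = 1 then ((Fintype.card Z * m : ℕ) : ℂ) else 0 := by
  show LinearMap.trace ℂ _ (regRep Z m z) = _
  rw [regRep_eq_toLin', Matrix.trace_toLin'_eq, Matrix.trace_permutation]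
  by_cases hz : z = 1
  · rw [if_pos hz]
    have h1 : Function.fixedPoints
        (Equiv.prodCongrRight (fun _ : Fin m => Equiv.mulLeft z⁻¹) : Equiv.Perm (Fin m × Z)) =
        Set.univ := by
      ext ω
      simp only [Set.mem_univ, iff_true, Function.mem_fixedPoints, Function.IsFixedPt]
      rw [hz]
      show (ω.1, (1 : Z)⁻¹ * ω.2) = ω
      simp
    rw [h1, Set.ncard_univ, Nat.card_prod, Nat.card_eq_fintype_card, Nat.card_eq_fintype_card,
      Fintype.card_fin, mul_comm]
  · rw [if_neg hz]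
    have h1 : Function.fixedPoints
        (Equiv.prodCongrRight (fun _ : Fin m => Equiv.mulLeft z⁻¹) : Equiv.Perm (Fin m × Z)) =
        ∅ := by
      ext ω
      simp only [Set.mem_empty_iff_false, iff_false, Function.mem_fixedPoints, Function.IsFixedPt]
      intro h
      have h2 : (ω.1, z⁻¹ * ω.2) = ω := h
      have h3 : z⁻¹ * ω.2 = ω.2 := congrArg Prod.snd h2
      exact hz (by simpa using h3)
    rw [h1, Set.ncard_empty]
    simp

theorem regRep_det (m : ℕ) (z : Z) :
    LinearMap.det (regRep Z m z) =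
      ((((Equiv.Perm.sign (Equiv.mulLeft z⁻¹ : Equiv.Perm Z)) ^ m : ℤˣ) : ℤ) : ℂ) := by
  rw [regRep_eq_toLin', LinearMap.det_toLin', Matrix.det_permutation,
    Equiv.Perm.sign_prodCongrRight]
  simp

theorem sign_mulLeft_generator (g : Z) (hg : ∀ z : Z, z ∈ Subgroup.zpowers g)
    (heven : Even (Fintype.card Z)) : Equiv.Perm.sign (Equiv.mulLeft g) = -1 := by
  have hpow : ∀ (n : ℕ) (w : Z), ((Equiv.mulLeft g) ^ n) w = g ^ n * w := by
    intro n
    induction n with
    | zero =>
      intro w
      simp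
    | succ n ih =>
      intro w
      rw [pow_succ, Equiv.Perm.mul_apply, ih, Equiv.coe_mulLeft, pow_succ, mul_assoc]
  have hg1 : g ≠ 1 := by
    intro h
    have h1 : ∀ z : Z, z = 1 := fun z => by
      have h2 := hg z
      rw [h, Subgroup.zpowers_one_eq_bot, Subgroup.mem_bot] at h2
      exact h2
    have hcard : Fintype.card Z = 1 := Fintype.card_eq_one_iff.mpr ⟨1, h1⟩
    rw [hcard] at heven
    exact absurd heven (by decide)
  have hcyc : (Equiv.mulLeft g).IsCycle := by
    refine ⟨1, ?_, ?_⟩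
    · simpa using hg1
    · intro y _
      have hy := hg y
      rw [← mem_powers_iff_mem_zpowers] at hy
      obtain ⟨n, hn⟩ := (Submonoid.mem_powers_iff _ _).mp hy
      exact ⟨(n : ℤ), by rw [zpow_natCast, hpow, hn, mul_one]⟩
  have hsupp : (Equiv.mulLeft g).support = Finset.univ := by
    ext y
    simp only [Equiv.Perm.mem_support, Finset.mem_univ, iff_true, Equiv.coe_mulLeft]
    intro h
    apply hg1
    simpa using h
  rw [hcyc.sign, hsupp, Finset.card_univ, heven.neg_one_pow]

end Det

theorem exists_hom_neg_one {G : Type u} [Group G] [Finite G] (χ : G → ℂ) (hχ : IsCharacter G χ)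
    (c : G) (hev : Even (orderOf c)) (m : ℕ) (hm : Odd m)
    (h1 : χ 1 = ((orderOf c * m : ℕ) : ℂ))
    (h0 : ∀ g ∈ Subgroup.zpowers c, g ≠ 1 → χ g = 0) : ∃ f : G →* ℂˣ, f c = -1 := by
  classical
  obtain ⟨d, ρ, hρ⟩ := hχ
  refine ⟨helper19.detHom ρ, ?_⟩
  apply Units.ext
  rw [helper19.detHom_apply]
  obtain ⟨Z, hZ⟩ : ∃ Z : Subgroup G, Z = Subgroup.zpowers c := ⟨_, rfl⟩
  letI : Fintype Z := Fintype.ofFinite Z
  have hcZ : c ∈ Z := by
    rw [hZ]
    exact Subgroup.mem_zpowers c
  let ρZ : Representation ℂ Z (Fin d → ℂ) := MonoidHom.comp ρ Z.subtype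
  have hcardZ : Fintype.card Z = orderOf c := by
    rw [← Nat.card_eq_fintype_card, hZ, Nat.card_zpowers]
  have hchar : ρZ.character = (regRep Z m).character := by
    funext z
    rw [regRep_char]
    have h2 : ρZ.character z = χ (z : G) := by
      rw [← hρ]
      rfl
    rw [h2]
    by_cases hz : z = 1
    · rw [if_pos hz, hz, hcardZ]
      exact h1
    · rw [if_neg hz]
      apply h0
      · rw [← hZ]
        exact z.2
      · intro h
        exact hz (Subtype.ext h)
  obtain ⟨φ⟩ := helper4.nonempty_equiv_of_character_eq ρZ (regRep Z m) hchar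
  have hφ : ∀ v, φ.toLinearEquiv (ρZ ⟨c, hcZ⟩ v) = regRep Z m ⟨c, hcZ⟩ (φ.toLinearEquiv v) :=
    fun v => Representation.IntertwiningMap.isIntertwining ρZ (regRep Z m) φ.toIntertwiningMap
      ⟨c, hcZ⟩ v
  have hdet : LinearMap.det (regRep Z m ⟨c, hcZ⟩) = LinearMap.det (ρZ ⟨c, hcZ⟩) := by
    have h3 : regRep Z m ⟨c, hcZ⟩ =
        (φ.toLinearEquiv : (Fin d → ℂ) →ₗ[ℂ] (Fin m × Z → ℂ)) ∘ₗ ρZ ⟨c, hcZ⟩ ∘ₗ
          (φ.toLinearEquiv.symm : (Fin m × Z → ℂ) →ₗ[ℂ] (Fin d → ℂ)) := by
      apply LinearMap.ext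
      intro w
      show regRep Z m ⟨c, hcZ⟩ w = φ.toLinearEquiv (ρZ ⟨c, hcZ⟩ (φ.toLinearEquiv.symm w))
      rw [hφ, LinearEquiv.apply_symm_apply]
    rw [h3, LinearMap.det_conj]
  have h3 : LinearMap.det (ρ c) = LinearMap.det (ρZ ⟨c, hcZ⟩) := rfl
  rw [h3, ← hdet, regRep_det]
  have hgen : ∀ z : Z, z ∈ Subgroup.zpowers (⟨c, hcZ⟩ : Z)⁻¹ := by
    intro z
    rw [Subgroup.zpowers_inv]
    have hz : (z : G) ∈ Subgroup.zpowers c := by
      rw [← hZ]
      exact z.2
    obtain ⟨k, hk⟩ := Subgroup.mem_zpowers_iff.mp hz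
    exact Subgroup.mem_zpowers_iff.mpr ⟨k, Subtype.ext (by simpa using hk)⟩
  rw [sign_mulLeft_generator Z _ hgen (by rw [hcardZ]; exact hev), hm.neg_one_pow]
  simp

/-! ### The main theorem -/

theorem main {G : Type u} [Group G] [Finite G] (p : ℕ) (hp : p.Prime) (x : G)
    (hx : orderOf x = p) (hC : Subgroup.centralizer ({x} : Set G) = Subgroup.zpowers x) (t : ℕ)
    (ht : Nat.card {C : ConjClasses G // ∃ g ∈ C.carrier, orderOf g = p} = t)
    (χ : IrrCharacter G) (hχ : charDegree (χ : G → ℂ) + 1 = p) :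
    Even t ∨ Even (commutator G).index := by
  classical
  haveI : Fact p.Prime := ⟨hp⟩
  by_cases hp2 : p = 2
  · right
    rw [hp2] at hx
    exact even_of_two x hx hC
  · have hcard := card_zp p x hx
    letI : Fintype (Subgroup.zpowers x) := Fintype.ofFinite _
    have hPN : Subgroup.zpowers x ≤
        Subgroup.normalizer ((Subgroup.zpowers x : Subgroup G) : Set G) := Subgroup.le_normalizer
    obtain ⟨e, he⟩ : ∃ e, Nat.card
        (Subgroup.normalizer ((Subgroup.zpowers x : Subgroup G) : Set G)) = p * e := by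
      have h1 := Subgroup.card_dvd_of_le hPN
      rw [hcard] at h1
      exact h1
    have hte := te_eq p x hx hC e he
    rw [ht] at hte
    have hCP : Subgroup.centralizer ((Subgroup.zpowers x : Subgroup G) : Set G) ≤
        Subgroup.zpowers x := by
      intro g hg
      rw [← hC, Subgroup.mem_centralizer_iff]
      intro h hh
      rw [Set.mem_singleton_iff] at hh
      rw [hh]
      exact (Subgroup.mem_centralizer_iff.mp hg) x (Subgroup.mem_zpowers x)
    rcases triv_mult p hp hp2 (Subgroup.zpowers x) hcard hCP e he χ hχ with he1 | h0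
    · left
      rw [he1, mul_one] at hte
      rw [hte]
      exact Nat.Odd.sub_odd (hp.odd_of_ne_two hp2) odd_one
    · by_cases hte' : Even t
      · left
        exact hte'
      · right
        obtain ⟨s, m, hs, hs0, hm, hpm⟩ := two_part p e t hp hp2 hte hte'
        obtain ⟨c, hcN, hco⟩ := exists_two_elt p hp hp2 x hx hC
        rw [he, hs] at hco
        have hvan : ∀ g ∈ Subgroup.zpowers c, g ≠ 1 → (χ : G → ℂ) g = 0 := by
          intro g hg hg1
          apply vanish_off (Subgroup.zpowers x)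
            (fun y hy hy1 g hg => mem_of_commute p hp x hx hC hy hy1 hg)
            (χ : G → ℂ) (isCharacter_of_irr χ.2) h0 g
          · exact (Subgroup.zpowers_le.mpr hcN) hg
          · intro hgP
            have h1 : orderOf g ∣ p := by
              have h2 := orderOf_dvd_natCard (⟨g, hgP⟩ : Subgroup.zpowers x)
              rwa [Subgroup.orderOf_mk, hcard] at h2
            have h2 : orderOf g ∣ 2 ^ s := by
              have h3 := orderOf_dvd_natCard (⟨g, hg⟩ : Subgroup.zpowers c)
              rwa [Subgroup.orderOf_mk, Nat.card_zpowers, hco] at h3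
            have hcop : Nat.Coprime p (2 ^ s) :=
              Nat.Coprime.pow_right s ((Nat.coprime_primes hp Nat.prime_two).mpr hp2)
            have h3 : orderOf g = 1 := Nat.eq_one_of_dvd_coprimes hcop h1 h2
            exact hg1 (orderOf_eq_one_iff.mp h3)
        have hχ1 : (χ : G → ℂ) 1 = ((orderOf c * m : ℕ) : ℂ) := by
          rw [irr_one_eq_charDegree, hco, ← hpm]
          congr 1
          omega
        have hev : Even (orderOf c) := by
          rw [hco]
          exact (Nat.even_pow.mpr ⟨even_two, hs0⟩)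
        obtain ⟨f, hf⟩ := exists_hom_neg_one (χ : G → ℂ) (isCharacter_of_irr χ.2) c hev m hm
          hχ1 hvan
        exact even_of_hom f c hf

/-- Let the finite group G contain an element x of prime order p with C_G(x) = ⟨x⟩, and let t be the number of conjugacy classes of elements of order p. If G has an irreducible character of degree p − 1, then t is even or the commutator subgroup has even index. -/
theorem result {G : Type*} [Group G] [Finite G] (p : ℕ) (hp : p.Prime) (x : G) (hx : orderOf x = p) (hC : Subgroup.centralizer ({x} : Set G) = Subgroup.zpowers x) (t : ℕ) (ht : Nat.card {C : ConjClasses G // ∃ g ∈ C.carrier, orderOf g = p} = t) (χ : Cfsg.IrrCharacter G) (hχ : Cfsg.charDegree (χ : G → ℂ) + 1 = p) : Even t ∨ Even (commutator G).index := by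
  exact main p hp x hx hC t ht χ hχ

end Cfsg.Agent.S4508
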