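import Cfsg.Statements.S4509
import Cfsg.Agent.Lib.helper78.SelfCent2

set_option autoImplicit false
open Cfsg

namespace Cfsg.Agent.S4509

/-- Let the finite group G contain an element x of prime order p with C_G(x) = ⟨x⟩; let t be the number of conjugacy classes of elements of order p and 1 + n·p the number of subgroups of order p. Then G has a normal subgroup of order 1 + n·p if and only if either t = p − 1, or t < p − 1 and G″ ≠ G′. Moreover, if t = p − 1 then G′ has order 1 + n·p and G/G′ is cyclic of order p; and if t < p − 1 and G″ ≠ G′ then G″ has order 1 + n·p and G′ has order p·(1 + n·p). -/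
theorem result {G : Type*} [Group G] [Finite G] (p : ℕ) (hp : p.Prime) (x : G) (hx : orderOf x = p) (hC : Subgroup.centralizer ({x} : Set G) = Subgroup.zpowers x) (t : ℕ) (ht : Nat.card {C : ConjClasses G // ∃ g ∈ C.carrier, orderOf g = p} = t) (n : ℕ) (hn : Nat.card {H : Subgroup G // Nat.card H = p} = 1 + n * p) : ((∃ S : Subgroup G, S.Normal ∧ Nat.card S = 1 + n * p) ↔ (t = p - 1 ∨ (t < p - 1 ∧ derivedSeries G 2 ≠ derivedSeries G 1))) ∧ (t = p - 1 → Nat.card (commutator G) = 1 + n * p ∧ IsCyclic (G ⧸ commutator G) ∧ (commutator G).index = p) ∧ (t < p - 1 → derivedSeries G 2 ≠ derivedSeries G 1 → Nat.card (derivedSeries G 2) = 1 + n * p ∧ Nat.card (commutator G) = p * (1 + n * p)) := by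
  have hcount := Cfsg.Agent.Lib.helper78.sc_card_classes hp hx hC
  rw [ht] at hcount
  have hp1 : 0 < p - 1 := Nat.sub_pos_of_lt hp.one_lt
  have hidx : (Subgroup.normalizer ((Subgroup.zpowers x : Subgroup G) : Set G)).index = 1 + n * p := by
    rw [← Cfsg.Agent.Lib.helper78.sc_card_subgroups_eq_index hp hx hC, hn]
  have he_of_t : t = p - 1 → (Subgroup.zpowers x).relIndex
      (Subgroup.normalizer ((Subgroup.zpowers x : Subgroup G) : Set G)) = 1 := by
    intro heq
    rw [heq] at hcount
    exact Nat.eq_of_mul_eq_mul_left hp1 (by rw [hcount, mul_one])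
  have he_of_ne : t ≠ p - 1 → (Subgroup.zpowers x).relIndex
      (Subgroup.normalizer ((Subgroup.zpowers x : Subgroup G) : Set G)) ≠ 1 := by
    intro hne h
    rw [h, mul_one] at hcount
    exact hne hcount
  have hds1 : derivedSeries G 1 = commutator G := derivedSeries_one G
  have hds2 : derivedSeries G 2 = ⁅commutator G, commutator G⁆ := by
    rw [derivedSeries_succ, hds1]
  have h2 : t = p - 1 → Nat.card (commutator G) = 1 + n * p ∧ IsCyclic (G ⧸ commutator G) ∧
      (commutator G).index = p := by
    intro heq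
    have he := he_of_t heq
    have hi := (Cfsg.Agent.Lib.helper78.sc_commutator_of_relIndex_eq_one hp hx hC he).1
    refine ⟨by rw [Cfsg.Agent.Lib.helper78.sc_card_commutator_of_relIndex_eq_one hp hx hC he, hidx],
      ?_, hi⟩
    have : Fact p.Prime := ⟨hp⟩
    exact isCyclic_of_prime_card (p := p) hi
  have h3 : t < p - 1 → derivedSeries G 2 ≠ derivedSeries G 1 →
      Nat.card (derivedSeries G 2) = 1 + n * p ∧ Nat.card (commutator G) = p * (1 + n * p) := by
    intro hlt hne
    have he := he_of_ne hlt.ne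
    have hxD := Cfsg.Agent.Lib.helper78.sc_mem_commutator hp hx hC he
    rw [hds2, hds1] at hne
    have hD2 : ¬ p ∣ Nat.card (⁅commutator G, commutator G⁆ : Subgroup G) :=
      (Cfsg.Agent.Lib.helper78.sc_derived_dichotomy hp hx hC).resolve_left hne
    rw [hds2, Cfsg.Agent.Lib.helper78.sc_derived_eq_pPrimeCore hp hx hC hxD hD2,
      Cfsg.Agent.Lib.helper78.sc_card_commutator hp hx hC hxD hD2,
      Cfsg.Agent.Lib.helper78.sc_card_pPrimeCore hp hx hC hxD hD2, hidx]
    exact ⟨rfl, rfl⟩
  refine ⟨⟨?_, ?_⟩, h2, h3⟩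
  · rintro ⟨S, hSn, hScard⟩
    by_cases heq : t = p - 1
    · left; exact heq
    · right
      have hlt : t < p - 1 := lt_of_le_of_ne (Nat.le_of_dvd hp1 ⟨_, hcount.symm⟩) heq
      refine ⟨hlt, ?_⟩
      intro hds
      have hSp : ¬ p ∣ Nat.card S := by
        rw [hScard]
        intro h
        have h1 : p ∣ 1 := (Nat.dvd_add_left (dvd_mul_left p n)).mp h
        exact hp.one_lt.ne' (Nat.dvd_one.mp h1)
      have h1 := Cfsg.Agent.Lib.helper78.sc_card_mul_index_sup hp hx hC S hSp
      rw [hidx, hScard] at h1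
      have h2' : (S ⊔ Subgroup.normalizer ((Subgroup.zpowers x : Subgroup G) : Set G)).index = 1 :=
        Nat.eq_of_mul_eq_mul_left (by omega : 0 < 1 + n * p) (by rw [h1, mul_one])
      have htop : Subgroup.normalizer ((Subgroup.zpowers x : Subgroup G) : Set G) ⊔ S = ⊤ := by
        rw [sup_comm]; exact Subgroup.index_eq_one.mp h2'
      have hle := Cfsg.Agent.Lib.helper78.sc_derived_le hC S htop
      have he := he_of_ne heq
      have hxD := Cfsg.Agent.Lib.helper78.sc_mem_commutator hp hx hC he
      have hxS : x ∈ S := hle (by rw [← hds2, hds, hds1]; exact hxD)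
      apply hSp
      have h4 := orderOf_dvd_natCard (⟨x, hxS⟩ : S)
      rwa [← Subgroup.orderOf_coe, hx] at h4
  · rintro (heq | ⟨hlt, hne⟩)
    · exact ⟨commutator G, inferInstance, (h2 heq).1⟩
    · exact ⟨derivedSeries G 2, derivedSeries_normal G 2, (h3 hlt hne).1⟩

end Cfsg.Agent.S4509
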