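import Cfsg.Statements.S4510
import Cfsg.Agent.Lib.helper79.DefectSep

set_option autoImplicit false
open Cfsg

namespace Cfsg.Agent.S4510

open Cfsg.Agent.Lib

/-- Let G be a finite group, p a prime, M a maximal ideal of the algebraic integers containing p, and call the defect of a conjugacy class the exponent of p in the order of the centralizer of its elements. Two irreducible characters lying in p-blocks of defect exactly d lie in the same block if and only if their central characters (class size times χ(x)/χ(1)) agree modulo the local ideal at M at every p-regular element x whose class has defect exactly d. -/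
theorem result {G : Type*} [Group G] [Finite G] (p : ℕ) [Fact p.Prime] (M : Ideal Cfsg.AlgInt) (hM : Cfsg.IsPModular p M) (d : ℕ) (χ ψ : Cfsg.IrrCharacter G) (hχ : Cfsg.blockDefect p (Cfsg.blockOf M (χ : G → ℂ)) = d) (hψ : Cfsg.blockDefect p (Cfsg.blockOf M (ψ : G → ℂ)) = d) : Cfsg.SameBlock M (χ : G → ℂ) (ψ : G → ℂ) ↔ ∀ x : G, ¬ p ∣ orderOf x → (Nat.card (Subgroup.centralizer ({x} : Set G))).factorization p = d → Cfsg.MemLocalIdeal M (Cfsg.centralChar (χ : G → ℂ) x - Cfsg.centralChar (ψ : G → ℂ) x) := by
  classical
  have hprime : M.IsPrime := helper79.isPModular_isPrime hM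
  constructor
  · intro h x _ _
    exact h x
  · intro hyp
    by_contra hns
    have : Fintype G := Fintype.ofFinite G
    set B := Cfsg.blockOf M (χ : G → ℂ) with hBdef
    set B' := Cfsg.blockOf M (ψ : G → ℂ) with hB'def
    have hB : Cfsg.IsPBlock M B := helper81.isPBlock_blockOf χ
    have hB' : Cfsg.IsPBlock M B' := helper81.isPBlock_blockOf ψ
    have hχB : χ ∈ B := helper81.mem_blockOf_self hprime χ
    have hψB' : ψ ∈ B' := helper81.mem_blockOf_self hprime ψ
    have hψB : ψ ∉ B := fun h => hns (helper81.mem_blockOf.mp h)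
    have h1 := helper79.sum_blockCoeff_mul_eq B χ
    have h0 := helper79.sum_blockCoeff_mul_eq B ψ
    rw [if_pos hχB] at h1
    rw [if_neg hψB] at h0
    have hsum : ∑ g : G, (Cfsg.blockCoeff B g * (χ : G → ℂ) g / (χ : G → ℂ) 1 -
        Cfsg.blockCoeff B g * (ψ : G → ℂ) g / (ψ : G → ℂ) 1) = 1 := by
      rw [Finset.sum_sub_distrib, h1, h0, sub_zero]
    have hmem : Cfsg.MemLocalIdeal M (∑ g : G, (Cfsg.blockCoeff B g * (χ : G → ℂ) g / (χ : G → ℂ) 1 -
        Cfsg.blockCoeff B g * (ψ : G → ℂ) g / (ψ : G → ℂ) 1)) := by
      apply helper79.memLocalIdeal_sum_of_class hprime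
      · intro x y hxy
        rw [helper79.blockCoeff_eq_of_isConj B hxy, helper81.irr_conjInv χ x y hxy,
          helper81.irr_conjInv ψ x y hxy]
      · intro x
        have hrw : ((Subgroup.centralizer ({x} : Set G)).index : ℂ) *
            (Cfsg.blockCoeff B x * (χ : G → ℂ) x / (χ : G → ℂ) 1 -
              Cfsg.blockCoeff B x * (ψ : G → ℂ) x / (ψ : G → ℂ) 1) =
            Cfsg.blockCoeff B x * Cfsg.centralChar (χ : G → ℂ) x -
              Cfsg.blockCoeff B x * Cfsg.centralChar (ψ : G → ℂ) x := by
          unfold Cfsg.centralChar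
          ring
        rw [hrw]
        by_cases hreg : ¬ p ∣ orderOf x ∧
            (Nat.card (Subgroup.centralizer ({x} : Set G))).factorization p = d
        · rw [← mul_sub]
          exact helper20.memLocalIdeal_mul_left hprime
            (helper81.memLocalRing_blockCoeff' hprime hB x) (hyp x hreg.1 hreg.2)
        · apply helper20.memLocalIdeal_sub hprime
          · apply helper79.memLocalIdeal_blockCoeff_mul_centralChar hM hB hB hχB x
            rw [hχ]
            rintro ⟨h1, h2, h3⟩
            exact hreg ⟨h1, le_antisymm h3 h2⟩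
          · apply helper79.memLocalIdeal_blockCoeff_mul_centralChar hM hB hB' hψB' x
            rw [hχ, hψ]
            rintro ⟨h1, h2, h3⟩
            exact hreg ⟨h1, le_antisymm h3 h2⟩
    rw [hsum] at hmem
    exact helper20.not_memLocalIdeal_one hmem

end Cfsg.Agent.S4510
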