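import Cfsg.Statements.S4518
import Cfsg.Agent.Lib.helper82.Clifford
import Cfsg.Agent.Lib.helper79.GaloisChar

set_option autoImplicit false
open Cfsg

namespace Cfsg.Agent.S4518

open Cfsg.Agent.Lib

universe u

section Gal

variable {G : Type u} [Group G] [Fintype G] (N : Subgroup G) [hN : N.Normal] [Fintype N]

/-- The Galois twist `φ ↦ φ ∘ (· ^ k)` on the irreducible characters of `N`. -/
noncomputable def gal (k : ℕ) (hk : Nat.Coprime k (Nat.card N)) (φ : IrrCharacter N) :
    IrrCharacter N :=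
  ⟨fun n => (φ : N → ℂ) (n ^ k), helper79.isIrrCharacter_pow_coprime k hk φ.2⟩

omit hN [Fintype N] in
theorem gal_apply (k : ℕ) (hk : Nat.Coprime k (Nat.card N)) (φ : IrrCharacter N) (n : N) :
    (gal N k hk φ : N → ℂ) n = (φ : N → ℂ) (n ^ k) := rfl

end Gal

/-- Let N be a normal subgroup of the finite group G whose index is not divisible by the prime p, and let k be coprime to the order of G with k ^ (p ^ e) ≡ 1 modulo the order of G for some e (so g ↦ g ^ k induces a field automorphism of p-power order on character values). If an irreducible character χ of G satisfies χ (g ^ k) = χ g for all g, then every irreducible constituent θ of the restriction of χ to N satisfies θ (n ^ k) = θ n for all n. -/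
theorem result {G : Type*} [Group G] [Fintype G] (p : ℕ) [Fact p.Prime] (N : Subgroup G) [N.Normal] [Fintype N] (hidx : ¬ p ∣ N.index) (k e : ℕ) (hk : Nat.Coprime k (Nat.card G)) (hke : k ^ (p ^ e) ≡ 1 [MOD Nat.card G]) (χ : Cfsg.IrrCharacter G) (hχ : ∀ g : G, (χ : G → ℂ) (g ^ k) = (χ : G → ℂ) g) (θ : Cfsg.IrrCharacter N) (hθ : Cfsg.classInner (fun n : N => (χ : G → ℂ) n) (θ : N → ℂ) ≠ 0) : ∀ n : N, (θ : N → ℂ) (n ^ k) = (θ : N → ℂ) n := by
  classical
  have : Fintype (IrrCharacter N) := Fintype.ofFinite _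
  have hkN : Nat.Coprime k (Nat.card N) :=
    Nat.Coprime.coprime_dvd_right (Subgroup.card_subgroup_dvd_card N) hk
  have hcardΩ : ¬ p ∣ (helper82.conjOrbit N (θ : N → ℂ)).card := by
    rw [helper82.card_conjOrbit N θ.2]
    intro hd
    exact hidx (hd.trans (Subgroup.index_dvd_of_le
      (helper82.le_inertia N (helper4.isClassFunction_of_isIrrCharacter θ.2))))
  have hσθ : ∃ y : G, (gal N k hkN θ : N → ℂ) = helper82.cconj N y (θ : N → ℂ) := by
    apply helper82.clifford_conj N χ.2 θ.2 (gal N k hkN θ).2 hθ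
    have h1 := helper79.classInner_pow_coprime k hkN (fun n : N => (χ : G → ℂ) n) (θ : N → ℂ)
    have h2 : (fun n : N => (χ : G → ℂ) ((n ^ k : N) : G)) = fun n : N => (χ : G → ℂ) n := by
      funext n
      rw [Subgroup.coe_pow]
      exact hχ n
    rw [h2] at h1
    show classInner (fun n : N => (χ : G → ℂ) n) (fun n => (θ : N → ℂ) (n ^ k)) ≠ 0
    rw [h1]
    exact hθ
  have hmaps : ∀ φ ∈ helper82.conjOrbit N (θ : N → ℂ),
      gal N k hkN φ ∈ helper82.conjOrbit N (θ : N → ℂ) := by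
    intro φ hφ
    obtain ⟨x, hx⟩ := (helper82.mem_conjOrbit N _ φ).mp hφ
    obtain ⟨y, hy⟩ := hσθ
    rw [helper82.mem_conjOrbit]
    refine ⟨x * y, ?_⟩
    rw [helper82.cconj_mul, ← hy]
    funext n
    show (φ : N → ℂ) (n ^ k) = helper82.cconj N x (fun n => (θ : N → ℂ) (n ^ k)) n
    rw [hx]
    simp only [helper82.cconj_def, map_pow]
  let f : Function.End (helper82.conjOrbit N (θ : N → ℂ)) :=
    fun φ => ⟨gal N k hkN φ.1, hmaps φ.1 φ.2⟩
  have hpow : ∀ (j : ℕ) (φ : helper82.conjOrbit N (θ : N → ℂ)) (n : N),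
      (((f ^ j) φ).1 : N → ℂ) n = (φ.1 : N → ℂ) (n ^ (k ^ j)) := by
    intro j
    induction j with
    | zero =>
      intro φ n
      rw [pow_zero, pow_zero, pow_one]
      rfl
    | succ j ih =>
      intro φ n
      have h1 : (f ^ (j + 1)) φ = (f ^ j) (f φ) := by
        rw [pow_succ]; rfl
      rw [h1, ih (f φ) n]
      show (φ.1 : N → ℂ) ((n ^ (k ^ j)) ^ k) = _
      rw [← pow_mul, ← pow_succ]
  have hf : f ^ p ^ e = 1 := by
    funext φ
    apply Subtype.ext
    apply Subtype.ext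
    funext n
    rw [hpow]
    have h1 : n ^ (k ^ p ^ e) = n := by
      have h2 : (k ^ p ^ e) ≡ 1 [MOD orderOf n] :=
        hke.of_dvd ((orderOf_dvd_natCard n).trans (Subgroup.card_subgroup_dvd_card N))
      have h3 := (pow_eq_pow_iff_modEq (x := n)).mpr h2
      rwa [pow_one] at h3
    rw [h1]
    rfl
  have hmod := Equiv.Perm.card_fixedPoints_modEq (f := f) hf
  rw [Fintype.card_coe] at hmod
  have hfix : Fintype.card (Function.fixedPoints f) ≠ 0 := by
    intro h0
    rw [h0] at hmod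
    exact hcardΩ ((Nat.modEq_zero_iff_dvd).mp hmod)
  obtain ⟨⟨φ₀, hφ₀⟩⟩ := Fintype.card_pos_iff.mp (Nat.pos_of_ne_zero hfix)
  obtain ⟨x, hx⟩ := (helper82.mem_conjOrbit N _ φ₀.1).mp φ₀.2
  have hφσ : ∀ n : N, (φ₀.1 : N → ℂ) (n ^ k) = (φ₀.1 : N → ℂ) n := by
    intro n
    have h1 : f φ₀ = φ₀ := hφ₀
    have h2 := congrArg (fun ψ : helper82.conjOrbit N (θ : N → ℂ) => (ψ.1 : N → ℂ) n) h1
    exact h2
  intro n
  have h1 : (θ : N → ℂ) = helper82.cconj N x⁻¹ (φ₀.1 : N → ℂ) := by
    rw [hx, helper82.cconj_inv_cconj]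
  rw [h1]
  simp only [helper82.cconj_def, map_pow]
  exact hφσ _

end Cfsg.Agent.S4518
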