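import Cfsg.Statements.S4521
import Cfsg.Agent.Lib.helper84.ThirdMain
import Cfsg.Agent.Lib.helper77.BlockCover
import Cfsg.Agent.Lib.helper81.CharOrtho

set_option autoImplicit false
open Cfsg

namespace Cfsg.Agent.S4521

universe u

open Classical in
/-- `χ` lies in the principal block iff its sum over the `p`-regular elements is nonzero. -/
theorem mem_principal_iff_sum {G : Type u} [Group G] [Fintype G] {p : ℕ} [Fact p.Prime]
    {M : Ideal AlgInt} (hM : IsPModular p M) (χ : IrrCharacter G) :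
    χ ∈ principalBlock M G ↔
      ∑ x : G, (if ¬ p ∣ orderOf x then (χ : G → ℂ) x else 0) ≠ 0 := by
  constructor
  · intro h h0
    have h1 := Cfsg.Agent.Lib.helper84.not_memLocalIdeal_pRegSum_of_mem hM χ h
    rw [h0, zero_div] at h1
    exact h1 (Cfsg.Agent.Lib.helper20.memLocalIdeal_zero hM.2.1.isPrime)
  · intro h
    by_contra hn
    exact h (Cfsg.Agent.Lib.helper84.pRegSum_eq_zero_of_not_mem hM χ hn)

/-- elementwise commuting subgroups generating the group are normal -/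
theorem normal_of_comm {G : Type u} [Group G] (U V : Subgroup G)
    (hcomm : ∀ u ∈ U, ∀ v ∈ V, u * v = v * u) (hgen : U ⊔ V = ⊤) : U.Normal := by
  have hle : U ⊔ V ≤ Subgroup.normalizer (U : Set G) := by
    refine sup_le Subgroup.le_normalizer ?_
    intro v hv
    rw [Subgroup.mem_normalizer_iff]
    intro h
    constructor
    · intro hh
      have : v * h * v⁻¹ = h := by
        rw [← hcomm h hh v hv, mul_assoc, mul_inv_cancel, mul_one]
      rw [this]; exact hh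
    · intro hh
      have h2 := hcomm _ hh v hv
      have : h = v * h * v⁻¹ := by
        have h3 : v * h * v⁻¹ * v = v * (v * h * v⁻¹) := h2
        have h4 : v * h = v * (v * h * v⁻¹) := by
          rw [← h3]; group
        exact mul_left_cancel h4
      rw [this]; exact hh
  rw [hgen] at hle
  constructor
  intro n hn g
  have hg : g ∈ Subgroup.normalizer (U : Set G) := hle (Subgroup.mem_top g)
  exact (Subgroup.mem_normalizer_iff.1 hg n).1 hn

/-- a `p`-regular element of the `p`-group `U ⊓ V` is trivial -/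
theorem eq_one_of_reg {G : Type u} [Group G] {p : ℕ} [hp : Fact p.Prime] (U V : Subgroup G)
    (hZ : IsPGroup p ↥(U ⊓ V)) (z : G) (hz : z ∈ U ⊓ V) (hr : ¬ p ∣ orderOf z) : z = 1 := by
  obtain ⟨k, hk⟩ := hZ ⟨z, hz⟩
  have hk' : z ^ p ^ k = 1 := by
    have := congrArg Subtype.val hk
    simpa using this
  have hdvd : orderOf z ∣ p ^ k := orderOf_dvd_of_pow_eq_one hk'
  obtain ⟨j, -, hj⟩ := (Nat.dvd_prime_pow hp.out).1 hdvd
  rcases Nat.eq_zero_or_pos j with h0 | hpos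
  · rw [h0, pow_zero] at hj
    exact orderOf_eq_one_iff.1 hj
  · exact absurd (hj ▸ dvd_pow_self p hpos.ne') hr

theorem orderOf_conj' {G : Type u} [Group G] (x g : G) : orderOf (x * g * x⁻¹) = orderOf g := by
  have := (MulAut.conj x).orderOf_eq g
  rwa [MulAut.conj_apply] at this

theorem reg_mul {G : Type u} [Group G] {p : ℕ} [hp : Fact p.Prime] (a b : G)
    (hab : Commute a b) (ha : ¬ p ∣ orderOf a) (hb : ¬ p ∣ orderOf b) :
    ¬ p ∣ orderOf (a * b) := by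
  intro h
  have h1 : p ∣ orderOf a * orderOf b :=
    dvd_trans (dvd_trans h hab.orderOf_mul_dvd_lcm) (Nat.lcm_dvd_mul _ _)
  rcases (Nat.Prime.dvd_mul hp.out).1 h1 with h2 | h2
  · exact ha h2
  · exact hb h2

open Classical in
/-- the `p`-regular elements of a central product over a `p`-group are the products of
`p`-regular elements, uniquely -/
theorem sum_reg_prod {G : Type u} [Group G] [Fintype G] (p : ℕ) [hp : Fact p.Prime]
    (U₁ U₂ : Subgroup G) [Fintype U₁] [Fintype U₂]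
    (hcomm : ∀ u ∈ U₁, ∀ v ∈ U₂, u * v = v * u) (hgen : U₁ ⊔ U₂ = ⊤)
    (hZ : IsPGroup p ↥(U₁ ⊓ U₂)) (f : G → ℂ) :
    ∑ q : U₁ × U₂, (if (¬ p ∣ orderOf q.1 ∧ ¬ p ∣ orderOf q.2) then
        f ((q.1 : G) * (q.2 : G)) else 0)
      = ∑ g : G, (if ¬ p ∣ orderOf g then f g else 0) := by
  have hn : U₁.Normal := normal_of_comm U₁ U₂ hcomm hgen
  rw [← Finset.sum_filter, ← Finset.sum_filter]
  refine Finset.sum_nbij (fun q : U₁ × U₂ => (q.1 : G) * (q.2 : G)) ?_ ?_ ?_ ?_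
  · intro q hq
    simp only [Finset.mem_filter, Finset.mem_univ, true_and] at hq ⊢
    refine reg_mul _ _ (hcomm _ q.1.2 _ q.2.2) ?_ ?_
    · rw [Subgroup.orderOf_coe]; exact hq.1
    · rw [Subgroup.orderOf_coe]; exact hq.2
  · intro q hq q' hq' heq
    simp only [Finset.coe_filter, Finset.mem_univ, true_and, Set.mem_ofPred_eq] at hq hq'
    have heq' : (q.1 : G) * (q.2 : G) = (q'.1 : G) * (q'.2 : G) := heq
    -- z = q'.1⁻¹ q.1 = q'.2 q.2⁻¹
    have hz1 : (q'.1 : G)⁻¹ * (q.1 : G) = (q'.2 : G) * (q.2 : G)⁻¹ := by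
      rw [inv_mul_eq_iff_eq_mul, ← mul_assoc, ← heq', mul_assoc, mul_inv_cancel, mul_one]
    have hzU1 : (q'.1 : G)⁻¹ * (q.1 : G) ∈ U₁ := U₁.mul_mem (U₁.inv_mem q'.1.2) q.1.2
    have hzU2 : (q'.1 : G)⁻¹ * (q.1 : G) ∈ U₂ := by
      rw [hz1]; exact U₂.mul_mem q'.2.2 (U₂.inv_mem q.2.2)
    have hcz : Commute ((q'.1 : G)⁻¹) (q.1 : G) := by
      have h1 : (q'.1 : G) * ((q'.1 : G)⁻¹ * (q.1 : G)) = ((q'.1 : G)⁻¹ * (q.1 : G)) * (q'.1 : G) :=
        hcomm _ q'.1.2 _ hzU2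
      have h2 : Commute (q'.1 : G) (q.1 : G) := by
        have h3 : (q.1 : G) = (q'.1 : G)⁻¹ * (q.1 : G) * (q'.1 : G) := by
          rw [← h1]; group
        show (q'.1 : G) * (q.1 : G) = (q.1 : G) * (q'.1 : G)
        calc (q'.1 : G) * (q.1 : G) = (q'.1 : G) * ((q'.1 : G)⁻¹ * (q.1 : G) * (q'.1 : G)) := by
              rw [← h3]
          _ = (q.1 : G) * (q'.1 : G) := by group
      exact h2.inv_left
    have hzr : ¬ p ∣ orderOf ((q'.1 : G)⁻¹ * (q.1 : G)) := by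
      refine reg_mul _ _ hcz ?_ ?_
      · rw [orderOf_inv, Subgroup.orderOf_coe]; exact hq'.1
      · rw [Subgroup.orderOf_coe]; exact hq.1
    have hz := eq_one_of_reg U₁ U₂ hZ _ ⟨hzU1, hzU2⟩ hzr
    have e1 : (q.1 : G) = (q'.1 : G) := by
      have := inv_mul_eq_one.1 hz
      exact this.symm
    have e2 : (q.2 : G) = (q'.2 : G) := by
      rw [e1] at heq'
      exact mul_left_cancel heq'
    exact Prod.ext (Subtype.ext e1) (Subtype.ext e2)
  · intro g hg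
    simp only [Finset.coe_filter, Finset.mem_univ, true_and, Set.mem_ofPred_eq] at hg
    have hgm : g ∈ U₁ ⊔ U₂ := by rw [hgen]; exact Subgroup.mem_top g
    obtain ⟨v₁, hv₁, v₂, hv₂, hv⟩ := Subgroup.mem_sup_of_normal_left.1 hgm
    have hcv : Commute v₁ v₂ := hcomm v₁ hv₁ v₂ hv₂
    obtain ⟨n, hn⟩ : ∃ n, n = orderOf g := ⟨_, rfl⟩
    have hpn : ¬ p ∣ n := by rw [hn]; exact hg
    have h1 : v₁ ^ n * v₂ ^ n = 1 := by
      rw [← hcv.mul_pow, hv, hn, pow_orderOf_eq_one]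
    have hw1 : v₁ ^ n ∈ U₁ := U₁.pow_mem hv₁ n
    have hw2 : v₁ ^ n ∈ U₂ := by
      have : v₁ ^ n = (v₂ ^ n)⁻¹ := eq_inv_of_mul_eq_one_left h1
      rw [this]; exact U₂.inv_mem (U₂.pow_mem hv₂ n)
    obtain ⟨k, hk⟩ := hZ ⟨v₁ ^ n, hw1, hw2⟩
    have hk' : (v₁ ^ n) ^ p ^ k = 1 := by
      have := congrArg Subtype.val hk
      simpa using this
    have hk2 : (v₂ ^ n) ^ p ^ k = 1 := by
      have : v₂ ^ n = (v₁ ^ n)⁻¹ := eq_inv_of_mul_eq_one_right h1
      rw [this, inv_pow, hk', inv_one]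
    have hco : n.Coprime (p ^ k) :=
      Nat.Coprime.pow_right k ((Nat.Prime.coprime_iff_not_dvd hp.out).2 hpn).symm
    obtain ⟨t, ht1, ht0⟩ := Nat.chineseRemainder hco 1 0
    obtain ⟨m, hm⟩ : p ^ k ∣ t := (Nat.modEq_zero_iff_dvd).1 ht0
    have hgt : g ^ t = g := by
      rw [← pow_mod_orderOf, ← hn, ht1, hn, pow_mod_orderOf, pow_one]
    have hu1 : (v₁ ^ t) ^ n = 1 := by
      rw [← pow_mul, mul_comm, pow_mul, hm, pow_mul, hk', one_pow]
    have hu2 : (v₂ ^ t) ^ n = 1 := by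
      rw [← pow_mul, mul_comm, pow_mul, hm, pow_mul, hk2, one_pow]
    refine ⟨(⟨v₁ ^ t, U₁.pow_mem hv₁ t⟩, ⟨v₂ ^ t, U₂.pow_mem hv₂ t⟩), ?_, ?_⟩
    · simp only [Finset.coe_filter, Finset.mem_univ, true_and, Set.mem_ofPred_eq]
      constructor
      · rw [← Subgroup.orderOf_coe]
        exact fun h => hpn (dvd_trans h (orderOf_dvd_of_pow_eq_one hu1))
      · rw [← Subgroup.orderOf_coe]
        exact fun h => hpn (dvd_trans h (orderOf_dvd_of_pow_eq_one hu2))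
    · show v₁ ^ t * v₂ ^ t = g
      rw [← hcv.mul_pow, hv, hgt]
  · intro q _
    rfl

open Classical in
/-- restriction to a normal subgroup: `p`-regular sums of `χ` and of a constituent -/
theorem restrict_sum {G : Type u} [Group G] [Fintype G] (p : ℕ) (U : Subgroup G) [hU : U.Normal]
    [Fintype U] (χ : IrrCharacter G) (ψ : IrrCharacter U)
    (h : classInner (fun u : U => (χ : G → ℂ) u) (ψ : U → ℂ) ≠ 0) :
    (∑ u : U, (if ¬ p ∣ orderOf u then (χ : G → ℂ) u else 0)) * (ψ : U → ℂ) 1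
      = (∑ u : U, (if ¬ p ∣ orderOf u then (ψ : U → ℂ) u else 0)) * (χ : G → ℂ) 1 := by
  have key := Cfsg.Agent.Lib.helper77.sum_mul_restrict_eq U h
    (fun n : U => if ¬ p ∣ orderOf n then (1 : ℂ) else 0) (by
      intro g n
      have : orderOf (⟨g * n * g⁻¹, hU.conj_mem n n.2 g⟩ : U) = orderOf n := by
        rw [← Subgroup.orderOf_coe, ← Subgroup.orderOf_coe]
        exact orderOf_conj' g (n : G)
      simp only [this])
  simp only [ite_mul, one_mul, zero_mul] at key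
  exact key

/-- Let the finite group G be generated by subgroups U₁ and U₂ that commute elementwise and whose intersection is a p-group, and let M be a maximal ideal of the algebraic integers containing the prime p. If the irreducible character χ of G has the irreducible constituents ψ₁ on U₁ and ψ₂ on U₂, then χ lies in the principal block of G if and only if ψ₁ and ψ₂ lie in the principal blocks of U₁ and U₂. -/
theorem result {G : Type*} [Group G] [Fintype G] (p : ℕ) [Fact p.Prime] (M : Ideal Cfsg.AlgInt) (hM : Cfsg.IsPModular p M) (U₁ U₂ : Subgroup G) [Fintype U₁] [Fintype U₂] (hcomm : ∀ u ∈ U₁, ∀ v ∈ U₂, u * v = v * u) (hgen : U₁ ⊔ U₂ = ⊤) (hZ : IsPGroup p ↥(U₁ ⊓ U₂)) (χ : Cfsg.IrrCharacter G) (ψ₁ : Cfsg.IrrCharacter U₁) (ψ₂ : Cfsg.IrrCharacter U₂) (h₁ : Cfsg.classInner (fun u : U₁ => (χ : G → ℂ) u) (ψ₁ : U₁ → ℂ) ≠ 0) (h₂ : Cfsg.classInner (fun u : U₂ => (χ : G → ℂ) u) (ψ₂ : U₂ → ℂ) ≠ 0) : χ ∈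 Cfsg.principalBlock M G ↔ (ψ₁ ∈ Cfsg.principalBlock M U₁ ∧ ψ₂ ∈ Cfsg.principalBlock M U₂) := by
  classical
  have hn₁ : U₁.Normal := normal_of_comm U₁ U₂ hcomm hgen
  have hn₂ : U₂.Normal := normal_of_comm U₂ U₁ (fun v hv u hu => (hcomm u hu v hv).symm)
    (by rw [sup_comm]; exact hgen)
  rw [mem_principal_iff_sum hM χ, mem_principal_iff_sum hM ψ₁, mem_principal_iff_sum hM ψ₂]
  have hχ1 : (χ : G → ℂ) 1 ≠ 0 := Cfsg.Agent.Lib.helper81.irr_one_ne_zero χ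
  have hψ1 : (ψ₁ : U₁ → ℂ) 1 ≠ 0 := Cfsg.Agent.Lib.helper81.irr_one_ne_zero ψ₁
  have hψ2 : (ψ₂ : U₂ → ℂ) 1 ≠ 0 := Cfsg.Agent.Lib.helper81.irr_one_ne_zero ψ₂
  have r1 := restrict_sum p U₁ χ ψ₁ h₁
  have r2 := restrict_sum p U₂ χ ψ₂ h₂
  obtain ⟨S₁, hS₁⟩ : ∃ S, S = ∑ u : U₁, (if ¬ p ∣ orderOf u then (χ : G → ℂ) u else 0) := ⟨_, rfl⟩
  obtain ⟨S₂, hS₂⟩ : ∃ S, S = ∑ u : U₂, (if ¬ p ∣ orderOf u then (χ : G → ℂ) u else 0) := ⟨_, rfl⟩
  obtain ⟨T₁, hT₁⟩ : ∃ S, S = ∑ u : U₁, (if ¬ p ∣ orderOf u then (ψ₁ : U₁ → ℂ) u else 0) := ⟨_, rfl⟩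
  obtain ⟨T₂, hT₂⟩ : ∃ S, S = ∑ u : U₂, (if ¬ p ∣ orderOf u then (ψ₂ : U₂ → ℂ) u else 0) := ⟨_, rfl⟩
  rw [← hS₁, ← hT₁] at r1
  rw [← hS₂, ← hT₂] at r2
  rw [← hT₁, ← hT₂]
  -- the product formula
  have hF : IsClassFunction G (fun g : G => if (g ∈ U₁ ∧ ¬ p ∣ orderOf g) then (1 : ℂ) else 0) := by
    intro g x
    have h1 : x * g * x⁻¹ ∈ U₁ ↔ g ∈ U₁ := by
      constructor
      · intro hh
        have := hn₁.conj_mem _ hh x⁻¹
        have e : x⁻¹ * (x * g * x⁻¹) * x⁻¹⁻¹ = g := by group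
        rwa [e] at this
      · intro hh; exact hn₁.conj_mem _ hh x
    have h2 : orderOf (x * g * x⁻¹) = orderOf g := orderOf_conj' x g
    simp only [h1, h2]
  have e1 : ∀ hh : G → ℂ, ∑ g : G, (if (g ∈ U₁ ∧ ¬ p ∣ orderOf g) then (1 : ℂ) else 0) * hh g
      = ∑ u : U₁, (if ¬ p ∣ orderOf u then hh u else 0) := by
    intro hh
    have e2 : ∀ g : G, (if (g ∈ U₁ ∧ ¬ p ∣ orderOf g) then (1 : ℂ) else 0) * hh g
        = if g ∈ U₁ then (if ¬ p ∣ orderOf g then hh g else 0) else 0 := by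
      intro g
      by_cases hg : g ∈ U₁ <;> by_cases hr : p ∣ orderOf g <;> simp [hg, hr]
    rw [Finset.sum_congr rfl (fun g _ => e2 g), ← Finset.sum_filter]
    rw [Finset.sum_subtype (Finset.univ.filter (· ∈ U₁)) (p := (· ∈ U₁)) (by simp)
      (fun g => if ¬ p ∣ orderOf g then hh g else 0)]
    refine Finset.sum_congr rfl (fun u _ => ?_)
    rw [Subgroup.orderOf_coe]
  have shift : ∀ u : G, ∑ u₁ : U₁, (if ¬ p ∣ orderOf u₁ then (χ : G → ℂ) ((u₁ : G) * u) else 0)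
      = S₁ / (χ : G → ℂ) 1 * (χ : G → ℂ) u := by
    intro u
    have := Cfsg.Agent.Lib.helper81.irr_sum_shift χ hF u
    rw [e1 (fun g => (χ : G → ℂ) (g * u)), e1 (fun g => (χ : G → ℂ) g), ← hS₁] at this
    exact this
  have prod : ∑ g : G, (if ¬ p ∣ orderOf g then (χ : G → ℂ) g else 0)
      = S₁ / (χ : G → ℂ) 1 * S₂ := by
    rw [← sum_reg_prod p U₁ U₂ hcomm hgen hZ (χ : G → ℂ), Fintype.sum_prod_type_right]
    have e3 : ∀ y : U₂, ∑ x : U₁, (if (¬ p ∣ orderOf x ∧ ¬ p ∣ orderOf y) then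
        (χ : G → ℂ) ((x : G) * (y : G)) else 0)
        = if ¬ p ∣ orderOf y then S₁ / (χ : G → ℂ) 1 * (χ : G → ℂ) y else 0 := by
      intro y
      by_cases hy : p ∣ orderOf y
      · simp [hy]
      · simp only [hy, not_false_eq_true, and_true, if_true]
        exact shift y
    rw [Finset.sum_congr rfl (fun y _ => e3 y), hS₂, Finset.mul_sum]
    refine Finset.sum_congr rfl (fun y _ => ?_)
    split_ifs <;> simp
  rw [prod]
  have hS₁T : S₁ = T₁ * (χ : G → ℂ) 1 / (ψ₁ : U₁ → ℂ) 1 := by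
    rw [← r1]; field_simp
  have hS₂T : S₂ = T₂ * (χ : G → ℂ) 1 / (ψ₂ : U₂ → ℂ) 1 := by
    rw [← r2]; field_simp
  rw [hS₁T, hS₂T]
  constructor
  · intro hne
    constructor
    · intro h0; apply hne; rw [h0]; simp
    · intro h0; apply hne; rw [h0]; simp
  · rintro ⟨ha, hb⟩
    have : T₁ * (χ : G → ℂ) 1 / (ψ₁ : U₁ → ℂ) 1 / (χ : G → ℂ) 1 * (T₂ * (χ : G → ℂ) 1 / (ψ₂ : U₂ → ℂ) 1)
        = T₁ * T₂ * ((χ : G → ℂ) 1 / ((ψ₁ : U₁ → ℂ) 1 * (ψ₂ : U₂ → ℂ) 1)) := by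
      field_simp
    rw [this]
    exact mul_ne_zero (mul_ne_zero ha hb) (div_ne_zero hχ1 (mul_ne_zero hψ1 hψ2))

end Cfsg.Agent.S4521
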