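import Cfsg.Statements.S4540
import Cfsg.Agent.Lib.helper79.SubsectionTwo

set_option autoImplicit false
open Cfsg

namespace Cfsg.Agent.S4540

/-- Let B be a 2-block of the finite group G (relative to a maximal ideal M of the algebraic integers containing 2) of defect d with defect group D. Let z be an element of D commuting with every element of D, and let b be a block of the centralizer C of z with defect group D that induces B (a major subsection (z, b)). If b has 2-regular rank at most three, then 3·k(B) ≤ 3·k₀(B) + 2·Σ 2 ^ h(χ), where k(B) is the number of members of B, k₀(B) the number of members of height zero, and the sum runs over the members χ of B of positive height h(χ); this bound is at most 3·2 ^ d, so in particular B contains at most 2 ^ d irreducible characters. -/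
theorem result {G : Type*} [Group G] [Finite G] (M : Ideal Cfsg.AlgInt) (hM : Cfsg.IsPModular 2 M) (B : Set (Cfsg.IrrCharacter G)) (hB : Cfsg.IsPBlock M B) (D : Subgroup G) (hD : Cfsg.IsDefectGroup 2 M B D) (z : G) (hzD : z ∈ D) (hzc : ∀ d ∈ D, d * z = z * d) (b : Set (Cfsg.IrrCharacter ↥(Subgroup.centralizer ({z} : Set G)))) (hb : Cfsg.IsInducedBlock M (Subgroup.centralizer ({z} : Set G)) b B) (hbD : Cfsg.IsDefectGroup 2 M b (D.subgroupOf (Subgroup.centralizer ({z} : Set G)))) (hl : Cfsg.blockRank 2 b ≤ 3) : 3 * Nat.card B ≤ 3 * Nat.card {χ : Cfsg.IrrCharacter G // χ ∈ B ∧ Cfsg.blockHeight 2 B (χ : G → ℂ) = 0} + 2 * (∑ᶠ χ ∈ {χ : Cfsg.IrrCharacter G | χ ∈ B ∧ 1 ≤ Cfsg.blockHeight 2 B (χ : G → ℂ)}, 2 ^ Cfsg.blockHeight 2 B (χ : G → ℂ)) ∧ 3 * Nat.card {χ : Cfsg.IrrCharacter G // χ ∈ B ∧ Cfsg.blockHeight 2 B (χ : G → ℂ) = 0} + 2 * (∑ᶠ χ ∈ {χ : Cfsg.IrrCharacter G | χ ∈ B ∧ 1 ≤ Cfsg.blockHeight 2 B (χ : G → ℂ)}, 2 ^ Cfsg.blockHeight 2 B (χ : G → ℂ)) ≤ 3 * 2 ^ Cfsg.blockDefect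 2 B := by
  classical
  have : Fintype G := Fintype.ofFinite G
  have hp : (2 : ℕ).Prime := Nat.prime_two
  have hH : ∀ g : G, g ∈ Subgroup.centralizer ({z} : Set G) ↔ g * z = z * g := by
    intro g
    rw [Subgroup.mem_centralizer_iff]
    constructor
    · intro h
      exact (h z rfl).symm
    · intro h x hx
      rw [Set.mem_singleton_iff] at hx
      rw [hx]
      exact h.symm
  have hDcard := Cfsg.Agent.Lib.helper79.card_eq_of_isDefectGroup hM hB hD
  have hz : ∃ k : ℕ, orderOf z = 2 ^ k := by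
    have h1 : orderOf z ∣ Nat.card D := by
      have := orderOf_dvd_natCard (⟨z, hzD⟩ : D)
      rwa [Subgroup.orderOf_mk] at this
    rw [hDcard] at h1
    obtain ⟨k, -, hk⟩ := (Nat.dvd_prime_pow hp).mp h1
    exact ⟨k, hk⟩
  have hbcard := Cfsg.Agent.Lib.helper79.card_eq_of_isDefectGroup hM hb.1 hbD
  have hle : D ≤ Subgroup.centralizer ({z} : Set G) := by
    intro d hd
    rw [hH]
    exact hzc d hd
  have hcardeq : Nat.card (D.subgroupOf (Subgroup.centralizer ({z} : Set G))) = Nat.card D :=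
    Nat.card_congr (Subgroup.subgroupOfEquivOfLe hle).toEquiv
  have hdd : blockDefect 2 b = blockDefect 2 B := by
    apply Nat.pow_right_injective hp.two_le
    show 2 ^ blockDefect 2 b = 2 ^ blockDefect 2 B
    rw [← hbcard, ← hDcard, hcardeq]
  obtain ⟨Z, hzero, htrace, hht0, hht1⟩ :=
    Cfsg.Agent.Lib.helper79.exists_galois_avg_of_major hM _ hB hb z hH hz hdd
  set BF := Finset.univ.filter (fun ψ : IrrCharacter G => ψ ∈ B) with hBF
  have hk : Nat.card B = BF.card := by
    rw [Nat.card_eq_fintype_card, Fintype.card_subtype]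
  have hsum : ∑ χ ∈ BF, Z χ = 2 ^ blockDefect 2 B * (blockRank 2 b : ℤ) := by
    rw [← htrace]
    apply Finset.sum_subset (Finset.subset_univ _)
    intro χ _ hχ
    apply hzero
    intro hχB
    exact hχ (Finset.mem_filter.mpr ⟨Finset.mem_univ _, hχB⟩)
  have hk0 : Nat.card {χ : Cfsg.IrrCharacter G // χ ∈ B ∧ Cfsg.blockHeight 2 B (χ : G → ℂ) = 0} =
      (BF.filter (fun χ : IrrCharacter G => blockHeight 2 B (χ : G → ℂ) = 0)).card := by
    rw [Nat.card_eq_fintype_card, Fintype.card_subtype, hBF, Finset.filter_filter]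
  have hfin : (∑ᶠ χ ∈ {χ : Cfsg.IrrCharacter G | χ ∈ B ∧ 1 ≤ Cfsg.blockHeight 2 B (χ : G → ℂ)},
      2 ^ Cfsg.blockHeight 2 B (χ : G → ℂ)) =
      ∑ χ ∈ BF.filter (fun χ : IrrCharacter G => 1 ≤ blockHeight 2 B (χ : G → ℂ)),
        2 ^ blockHeight 2 B (χ : G → ℂ) := by
    have hset : {χ : Cfsg.IrrCharacter G | χ ∈ B ∧ 1 ≤ Cfsg.blockHeight 2 B (χ : G → ℂ)} =
        ((BF.filter (fun χ : IrrCharacter G => 1 ≤ blockHeight 2 B (χ : G → ℂ)) :
          Finset (IrrCharacter G)) : Set (IrrCharacter G)) := by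
      ext χ
      simp [hBF]
    rw [hset, finsum_mem_coe_finset]
  rw [hk, hk0, hfin]
  have hmain := Cfsg.Agent.Lib.helper79.three_mul_bound_of_avg BF
    (fun χ => blockHeight 2 B (χ : G → ℂ)) Z _ _ hl hsum
    (fun χ hχ hχ0 => hht0 χ (Finset.mem_filter.mp hχ).2 hχ0)
    (fun χ hχ hχ1 => (hht1 χ (Finset.mem_filter.mp hχ).2 hχ1).1)
  constructor
  · have hcard : BF.card = (BF.filter (fun χ : IrrCharacter G =>
        blockHeight 2 B (χ : G → ℂ) = 0)).card + (BF.filter (fun χ : IrrCharacter G =>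
        1 ≤ blockHeight 2 B (χ : G → ℂ))).card := by
      rw [← Finset.card_filter_add_card_filter_not (s := BF)
        (fun χ : IrrCharacter G => blockHeight 2 B (χ : G → ℂ) = 0)]
      congr 2
      apply Finset.filter_congr
      intro χ _
      omega
    have hge : 2 * (BF.filter (fun χ : IrrCharacter G =>
        1 ≤ blockHeight 2 B (χ : G → ℂ))).card ≤
        ∑ χ ∈ BF.filter (fun χ : IrrCharacter G => 1 ≤ blockHeight 2 B (χ : G → ℂ)),
          2 ^ blockHeight 2 B (χ : G → ℂ) := by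
      rw [Finset.card_eq_sum_ones, Finset.mul_sum]
      apply Finset.sum_le_sum
      intro χ hχ
      have h1 := (Finset.mem_filter.mp hχ).2
      calc 2 * 1 = 2 ^ 1 := by norm_num
        _ ≤ 2 ^ blockHeight 2 B (χ : G → ℂ) := Nat.pow_le_pow_right (by norm_num) h1
    omega
  · have h2 : ((3 * (BF.filter (fun χ : IrrCharacter G =>
        blockHeight 2 B (χ : G → ℂ) = 0)).card +
        2 * ∑ χ ∈ BF.filter (fun χ : IrrCharacter G => 1 ≤ blockHeight 2 B (χ : G → ℂ)),
          2 ^ blockHeight 2 B (χ : G → ℂ) : ℕ) : ℤ) ≤ ((3 * 2 ^ blockDefect 2 B : ℕ) : ℤ) := by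
      push_cast
      exact hmain
    exact_mod_cast h2

end Cfsg.Agent.S4540
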