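import Cfsg.Statements.S4541
import Cfsg.Agent.Lib.helper79.SubsectionHt
-- import your own Cfsg.Agent.* helpers here

set_option autoImplicit false
open Cfsg

namespace Cfsg.Agent.S4541

/-- The arithmetic behind the statement: `k ≤ 2^q n`, `k n ≤ 2^q l` with `n` odd. -/
theorem arith (k n l q s : ℤ) (hk : 1 ≤ k) (hn : Odd n) (hle : k ≤ 2 ^ q.toNat * n)
    (hsum : k * n ≤ 2 ^ q.toNat * l) (hs0 : 0 ≤ s) (hs1 : s * s ≤ l) (hs2 : l < (s + 1) * (s + 1)) :
    (Odd s → k ≤ s * 2 ^ q.toNat) ∧ (¬ Odd s → (s + 1) * k ≤ l * 2 ^ q.toNat) ∧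
      (l ≤ 3 → k ≤ 2 ^ q.toNat) := by
  have h2q : (0 : ℤ) < 2 ^ q.toNat := by positivity
  have hnpos : 1 ≤ n := by
    by_contra h
    push Not at h
    have : (2 : ℤ) ^ q.toNat * n ≤ 0 := mul_nonpos_of_nonneg_of_nonpos h2q.le (by omega)
    omega
  have part1 : Odd s → k ≤ s * 2 ^ q.toNat := by
    intro hs
    by_cases hns : n ≤ s
    · nlinarith
    · push Not at hns
      have hn2 : s + 2 ≤ n := by
        have hne : n ≠ s + 1 := by
          intro h
          have hev : Even n := by rw [h]; exact hs.add_one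
          exact (Int.not_even_iff_odd.mpr hn) hev
        omega
      have h3 : k * (s + 2) ≤ 2 ^ q.toNat * s * (s + 2) := by nlinarith
      have h4 : k ≤ 2 ^ q.toNat * s := le_of_mul_le_mul_right h3 (by omega)
      linarith
  refine ⟨part1, ?_, ?_⟩
  · intro hs
    by_cases hns : n ≤ s
    · have hn2 : n ≤ s - 1 := by
        have hne : n ≠ s := by
          intro h
          exact hs (h ▸ hn)
        omega
      have h3 : k ≤ 2 ^ q.toNat * (s - 1) := by nlinarith
      have h4 : (s + 1) * k ≤ (s + 1) * (2 ^ q.toNat * (s - 1)) :=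
        mul_le_mul_of_nonneg_left h3 (by omega)
      nlinarith
    · push Not at hns
      nlinarith
  · intro hl
    have hl1 : 1 ≤ l := by
      by_contra h
      push Not at h
      have h5 : (2 : ℤ) ^ q.toNat * l ≤ 0 := mul_nonpos_of_nonneg_of_nonpos h2q.le (by omega)
      nlinarith
    have hs1' : s = 1 := by
      have h6 : 1 ≤ s := by
        by_contra h
        push Not at h
        have : s = 0 := by omega
        rw [this] at hs2
        omega
      have h7 : s ≤ 1 := by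
        by_contra h
        push Not at h
        nlinarith
      omega
    have := part1 (by rw [hs1']; exact odd_one)
    rw [hs1'] at this
    linarith

/-- Let B be a 2-block of the finite group G (relative to a maximal ideal M of the algebraic integers containing 2), u a 2-element, and b a block of the centralizer of u inducing B (a subsection (u, b)), of defect q and 2-regular rank l; write s for the integer square root of l and k₀(B) for the number of members of B of height zero. If s is odd then k₀(B) ≤ s·2 ^ q, and otherwise (s + 1)·k₀(B) ≤ l·2 ^ q; in particular k₀(B) ≤ 2 ^ q when l ≤ 3. -/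
theorem result {G : Type*} [Group G] [Finite G] (M : Ideal Cfsg.AlgInt) (hM : Cfsg.IsPModular 2 M) (B : Set (Cfsg.IrrCharacter G)) (hB : Cfsg.IsPBlock M B) (u : G) (hu : ∃ j : ℕ, orderOf u = 2 ^ j) (b : Set (Cfsg.IrrCharacter ↥(Subgroup.centralizer ({u} : Set G)))) (hb : Cfsg.IsInducedBlock M (Subgroup.centralizer ({u} : Set G)) b B) : (Odd (Nat.sqrt (Cfsg.blockRank 2 b)) → Nat.card {χ : Cfsg.IrrCharacter G // χ ∈ B ∧ Cfsg.blockHeight 2 B (χ : G → ℂ) = 0} ≤ Nat.sqrt (Cfsg.blockRank 2 b) * 2 ^ Cfsg.blockDefect 2 b) ∧ (¬ Odd (Nat.sqrt (Cfsg.blockRank 2 b)) → (Nat.sqrt (Cfsg.blockRank 2 b) + 1) * Nat.card {χ : Cfsg.IrrCharacter G // χ ∈ B ∧ Cfsg.blockHeight 2 B (χ : G → ℂ) = 0} ≤ Cfsg.blockRank 2 b * 2 ^ Cfsg.blockDefect 2 b) ∧ (Cfsg.blockRank 2 b ≤ 3 → Nat.card {χ : Cfsg.IrrCharacter G // χ ∈ B ∧ Cfsg.blockHeight 2 B (χ : G → ℂ) = 0} ≤ 2 ^ Cfsg.blockDefect 2 b) := by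
  classical
  have : Fintype G := Fintype.ofFinite G
  have hH : ∀ g : G, g ∈ Subgroup.centralizer ({u} : Set G) ↔ g * u = u * g := by
    intro g
    rw [Subgroup.mem_centralizer_iff]
    constructor
    · intro h
      exact (h u rfl).symm
    · intro h x hx
      rw [Set.mem_singleton_iff] at hx
      rw [hx]
      exact h.symm
  obtain ⟨Z, hZ1, hZ2⟩ := Cfsg.Agent.Lib.helper79.exists_odd_of_height_zero hM
    (Subgroup.centralizer ({u} : Set G)) hb u hH hu
  set B₀ := Finset.univ.filter (fun ψ : IrrCharacter G =>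
    ψ ∈ B ∧ blockHeight 2 B (ψ : G → ℂ) = 0) with hB₀
  have hk : Nat.card {χ : IrrCharacter G // χ ∈ B ∧ blockHeight 2 B (χ : G → ℂ) = 0} =
      B₀.card := by
    rw [Nat.card_eq_fintype_card, Fintype.card_subtype]
  obtain ⟨χ₀, hχ₀, h0⟩ := Cfsg.Agent.Lib.helper79.exists_height_zero (p := 2) hM hB
  have hne : B₀.Nonempty :=
    ⟨χ₀, by rw [hB₀, Finset.mem_filter]; exact ⟨Finset.mem_univ _, hχ₀, h0⟩⟩
  obtain ⟨χ₁, hχ₁, hmin⟩ := Finset.exists_min_image B₀ Z hne
  have hχ₁' := (Finset.mem_filter.mp hχ₁).2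
  obtain ⟨hodd, hle⟩ := hZ1 χ₁ hχ₁'.1 hχ₁'.2
  have hkpos : (1 : ℤ) ≤ (B₀.card : ℤ) := by exact_mod_cast Finset.card_pos.mpr hne
  have hsum : (B₀.card : ℤ) * Z χ₁ ≤ 2 ^ blockDefect 2 b * (blockRank 2 b : ℤ) := by
    calc (B₀.card : ℤ) * Z χ₁ = ∑ χ ∈ B₀, Z χ₁ := by
          rw [Finset.sum_const, nsmul_eq_mul]
      _ ≤ ∑ χ ∈ B₀, Z χ := Finset.sum_le_sum (fun χ hχ => hmin χ hχ)
      _ ≤ _ := hZ2
  have hs1 : ((Nat.sqrt (blockRank 2 b) : ℕ) : ℤ) * (Nat.sqrt (blockRank 2 b) : ℕ) ≤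
      (blockRank 2 b : ℤ) := by
    exact_mod_cast Nat.sqrt_le (blockRank 2 b)
  have hs2 : (blockRank 2 b : ℤ) <
      (((Nat.sqrt (blockRank 2 b) : ℕ) : ℤ) + 1) * (((Nat.sqrt (blockRank 2 b) : ℕ) : ℤ) + 1) := by
    exact_mod_cast Nat.lt_succ_sqrt (blockRank 2 b)
  have key := arith (B₀.card : ℤ) (Z χ₁) (blockRank 2 b : ℤ) (blockDefect 2 b : ℤ)
    ((Nat.sqrt (blockRank 2 b) : ℕ) : ℤ) hkpos hodd (by simpa using hle) (by simpa using hsum)
    (by positivity) hs1 hs2
  simp only [Int.toNat_natCast] at key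
  rw [hk]
  refine ⟨fun h => ?_, fun h => ?_, fun h => ?_⟩
  · have := key.1 (by exact_mod_cast h)
    exact_mod_cast this
  · have := key.2.1 (by
      intro h'
      apply h
      exact_mod_cast h')
    exact_mod_cast this
  · have := key.2.2 (by exact_mod_cast h)
    exact_mod_cast this

end Cfsg.Agent.S4541
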