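import Cfsg.Statements.S4550
import Cfsg.Agent.Lib.helper79.GaloisSum
import Cfsg.Agent.Lib.helper79.FiniteOrderTrace
import Cfsg.Agent.Lib.helper4.CharDecomp
import Cfsg.Agent.Lib.helper4.Burnside2
import Cfsg.Agent.Lib.helper84.BlockOrth

set_option autoImplicit false
open Cfsg

namespace Cfsg.Agent.S4550

open Cfsg.Agent.Lib
open scoped ComplexConjugate

/-- Value of a character at an involution: `χ y = χ 1 - 2 t`. -/
theorem involution_value {G : Type*} [Group G] {χ : G → ℂ} (hχ : Cfsg.IsCharacter G χ) (y : G)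
    (hy : y ^ 2 = 1) : ∃ d t : ℕ, χ 1 = d ∧ χ y = (d : ℂ) - 2 * t := by
  classical
  obtain ⟨n, ρ, rfl⟩ := hχ
  obtain ⟨S, mult, hS, -, hsum, -⟩ := helper79.character_pow_eq_sum ρ y 2 two_ne_zero hy
  refine ⟨∑ μ ∈ S, mult μ, ∑ μ ∈ S, if μ = -1 then mult μ else 0, ?_, ?_⟩
  · have h0 := hsum 0
    rw [pow_zero] at h0
    rw [h0]
    push_cast
    exact Finset.sum_congr rfl (fun μ _ => by rw [pow_zero, mul_one])
  · have h1 := hsum 1
    rw [pow_one] at h1
    rw [h1]
    push_cast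
    rw [Finset.mul_sum, ← Finset.sum_sub_distrib]
    refine Finset.sum_congr rfl (fun μ hμ => ?_)
    rcases sq_eq_one_iff_of_ne_zero_or (hS μ hμ) with h | h
    · have hne : μ ≠ -1 := by rw [h]; norm_num
      rw [if_neg hne, h]; push_cast; ring
    · rw [if_pos h, h]; ring
where
  sq_eq_one_iff_of_ne_zero_or {μ : ℂ} (h : μ ^ 2 = 1) : μ = 1 ∨ μ = -1 := sq_eq_one_iff.mp h

/-- An odd number raised to the power `2 ^ n` is `≡ 1` modulo `2 ^ (n + 1)`. -/
theorem pow_two_pow_modEq_one (k : ℕ) (hk : Odd k) (n : ℕ) : k ^ (2 ^ n) ≡ 1 [MOD 2 ^ (n + 1)] := by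
  have key : ∀ n : ℕ, ((2 : ℤ) ^ (n + 1)) ∣ ((k : ℤ) ^ (2 ^ n) - 1) := by
    intro n
    induction n with
    | zero =>
      obtain ⟨j, rfl⟩ := hk
      simp
    | succ n ih =>
      have h1 : ((k : ℤ) ^ (2 ^ (n + 1)) - 1) = ((k : ℤ) ^ (2 ^ n) - 1) * ((k : ℤ) ^ (2 ^ n) + 1) := by
        rw [pow_succ, pow_mul]; ring
      have h2 : (2 : ℤ) ∣ ((k : ℤ) ^ (2 ^ n) + 1) := by
        have hodd : Odd ((k : ℤ) ^ (2 ^ n)) := Odd.pow (by exact_mod_cast hk)
        exact (Odd.add_odd hodd odd_one).two_dvd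
      rw [h1, pow_succ]
      exact mul_dvd_mul ih h2
  have h := key n
  have h3 : ((2 ^ (n + 1) : ℕ) : ℤ) ∣ ((k ^ (2 ^ n) : ℕ) : ℤ) - ((1 : ℕ) : ℤ) := by
    push_cast; exact h
  exact (Nat.modEq_iff_dvd.mpr h3).symm

/-- Under the hypotheses on `k`, the map `g ↦ g ^ k` has `2`-power order. -/
theorem pow_pow_eq_self {G : Type*} [Group G] [Finite G] (k : ℕ) (hodd : Odd k)
    (hk₂ : ∀ g : G, Odd (orderOf g) → g ^ k = g) (g : G) : g ^ (k ^ (2 ^ Nat.card G)) = g := by
  have hpos : orderOf g ≠ 0 := (orderOf_pos g).ne'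
  obtain ⟨a, m', hm', hgm⟩ := Nat.exists_eq_pow_mul_and_not_dvd hpos 2 (by norm_num)
  have hm'odd : Odd m' := Nat.odd_iff.mpr (Nat.two_dvd_ne_zero.mp hm')
  have hcop : Nat.Coprime (2 ^ a) m' := Nat.Coprime.pow_left a (Nat.coprime_two_left.mpr hm'odd)
  have h1 : k ^ (2 ^ Nat.card G) ≡ 1 [MOD 2 ^ a] := by
    have h := pow_two_pow_modEq_one k hodd (Nat.card G)
    refine Nat.ModEq.of_dvd ?_ h
    apply pow_dvd_pow
    have h5 : 2 ^ a ≤ Nat.card G := by
      have h2 : 2 ^ a ∣ orderOf g := ⟨m', hgm⟩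
      exact Nat.le_of_dvd Nat.card_pos (h2.trans (orderOf_dvd_natCard g))
    have h6 : a < 2 ^ a := Nat.lt_two_pow_self
    omega
  have h2 : k ≡ 1 [MOD m'] := by
    have hord : orderOf (g ^ (2 ^ a)) = m' := by
      rw [orderOf_pow_of_dvd (pow_ne_zero a two_ne_zero) ⟨m', hgm⟩, hgm,
        Nat.mul_div_cancel_left _ (pow_pos two_pos a)]
    have h4 := hk₂ (g ^ (2 ^ a)) (hord ▸ hm'odd)
    have h3 : (g ^ (2 ^ a)) ^ k = (g ^ (2 ^ a)) ^ 1 := by rw [pow_one]; exact h4
    rw [pow_eq_pow_iff_modEq, hord] at h3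
    exact h3
  have h3 : k ^ (2 ^ Nat.card G) ≡ 1 [MOD m'] := by
    have h := h2.pow (2 ^ Nat.card G)
    rwa [one_pow] at h
  have h4 : k ^ (2 ^ Nat.card G) ≡ 1 [MOD orderOf g] := by
    rw [hgm]
    exact (Nat.modEq_and_modEq_iff_modEq_mul hcop).mp ⟨h1, h3⟩
  have h5 : g ^ (k ^ (2 ^ Nat.card G)) = g ^ 1 := by
    rw [pow_eq_pow_iff_modEq]; exact h4
  rwa [pow_one] at h5

theorem centralizer_pow_coprime {G : Type*} [Group G] [Finite G] (k : ℕ)
    (hk : k.Coprime (Nat.card G)) (g : G) :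
    Subgroup.centralizer ({g ^ k} : Set G) = Subgroup.centralizer ({g} : Set G) := by
  have hk' : k.Coprime (orderOf g) := Nat.Coprime.coprime_dvd_right (orderOf_dvd_natCard g) hk
  obtain ⟨j, hj⟩ := exists_pow_eq_self_of_coprime hk'
  ext x
  simp only [Subgroup.mem_centralizer_iff, Set.mem_singleton_iff, forall_eq]
  constructor
  · intro h
    have h2 : Commute ((g ^ k) ^ j) x := Commute.pow_left (show Commute (g ^ k) x from h) j
    rw [hj] at h2
    exact h2.eq
  · intro h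
    exact (Commute.pow_left (show Commute g x from h) k).eq

theorem coprime_of_hyp {G : Type*} [Group G] [Finite G] (k : ℕ)
    (hk₁ : ∀ g : G, (∃ j : ℕ, orderOf g = 2 ^ j) → g ^ k = g ^ 3)
    (hk₂ : ∀ g : G, Odd (orderOf g) → g ^ k = g) : k.Coprime (Nat.card G) := by
  by_contra hnc
  obtain ⟨q, hq, hqk, hqG⟩ := Nat.Prime.not_coprime_iff_dvd.mp hnc
  haveI := Fact.mk hq
  obtain ⟨g, hg⟩ := exists_prime_orderOf_dvd_card' q hqG
  have hgk : g ^ k = 1 := by
    obtain ⟨c, rfl⟩ := hqk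
    rw [pow_mul, ← hg, pow_orderOf_eq_one, one_pow]
  have hg1 : g ≠ 1 := by
    intro h1
    rw [h1, orderOf_one] at hg
    exact hq.one_lt.ne hg
  rcases hq.eq_two_or_odd' with h2 | hodd
  · have h3 := hk₁ g ⟨1, by rw [hg, h2, pow_one]⟩
    rw [hgk] at h3
    have hg2 : g ^ 2 = 1 := by
      have := pow_orderOf_eq_one g
      rwa [hg, h2] at this
    have h4 : g ^ 3 = g := by
      rw [pow_succ, hg2, one_mul]
    rw [h4] at h3
    exact hg1 h3.symm
  · have h3 := hk₂ g (hg ▸ hodd)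
    rw [hgk] at h3
    exact hg1 h3.symm

open scoped Classical in
/-- The statement, assuming weak block orthogonality for the principal block at involutions. -/
theorem core {G : Type*} [Group G] [Finite G] (M : Ideal Cfsg.AlgInt) (hev : Even (Nat.card G))
    (k : ℕ) (hk₁ : ∀ g : G, (∃ j : ℕ, orderOf g = 2 ^ j) → g ^ k = g ^ 3)
    (hk₂ : ∀ g : G, Odd (orderOf g) → g ^ k = g)
    (hwbo : ∀ y : G, orderOf y = 2 → ∑ᶠ χ : Cfsg.IrrCharacter G,
      (if χ ∈ Cfsg.principalBlock M G then (χ : G → ℂ) 1 * conj ((χ : G → ℂ) y) else 0) = 0) :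
    Even (Nat.card {χ : Cfsg.IrrCharacter G // χ ∈ Cfsg.principalBlock M G ∧
      Odd (Cfsg.charDegree (χ : G → ℂ)) ∧ ∀ g : G, (χ : G → ℂ) (g ^ k) = (χ : G → ℂ) g}) := by
  have := Fintype.ofFinite G
  haveI : Fintype (Cfsg.IrrCharacter G) := Fintype.ofFinite _
  have hkcop : k.Coprime (Nat.card G) := coprime_of_hyp k hk₁ hk₂
  have hkodd : Odd k := by
    rw [← Nat.coprime_two_left]
    exact Nat.Coprime.coprime_dvd_left (even_iff_two_dvd.mp hev) hkcop.symm
  -- the Galois map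
  set σ := helper79.irrPow (G := G) k hkcop with hσ
  have hσB : ∀ χ : Cfsg.IrrCharacter G, χ ∈ Cfsg.principalBlock M G →
      σ χ ∈ Cfsg.principalBlock M G := by
    intro χ hχ g
    have h := hχ (g ^ k)
    unfold Cfsg.centralChar at h ⊢
    rw [centralizer_pow_coprime k hkcop g] at h
    rw [hσ, helper79.irrPow_apply, helper79.irrPow_apply, one_pow]
    exact h
  have hσdeg : ∀ χ : Cfsg.IrrCharacter G,
      Cfsg.charDegree (σ χ : G → ℂ) = Cfsg.charDegree (χ : G → ℂ) := by
    intro χ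
    unfold Cfsg.charDegree
    rw [hσ, helper79.irrPow_apply, one_pow]
  have hσiter : ∀ (j : ℕ) (χ : Cfsg.IrrCharacter G) (g : G),
      ((σ^[j] χ : Cfsg.IrrCharacter G) : G → ℂ) g = (χ : G → ℂ) (g ^ (k ^ j)) := by
    intro j
    induction j with
    | zero => intro χ g; simp
    | succ j ih =>
      intro χ g
      rw [Function.iterate_succ_apply', hσ, helper79.irrPow_apply, ← hσ, ih, ← pow_mul, pow_succ']
  -- the set A of odd-degree characters of the principal block
  let A := {χ : Cfsg.IrrCharacter G // χ ∈ Cfsg.principalBlock M G ∧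
    Odd (Cfsg.charDegree (χ : G → ℂ))}
  let f : Function.End A := fun χ => ⟨σ χ.1, hσB χ.1 χ.2.1, by rw [hσdeg]; exact χ.2.2⟩
  have hfiter : ∀ (j : ℕ) (χ : A), ((f^[j] χ : A) : Cfsg.IrrCharacter G) = σ^[j] χ.1 := by
    intro j
    induction j with
    | zero => intro χ; rfl
    | succ j ih =>
      intro χ
      rw [Function.iterate_succ_apply', Function.iterate_succ_apply', ← ih]
  have hfpow : f ^ 2 ^ (Nat.card G) = 1 := by
    funext χ
    apply Subtype.ext
    apply Subtype.ext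
    funext g
    have h1 : (f ^ 2 ^ (Nat.card G)) χ = f^[2 ^ Nat.card G] χ :=
      congrFun (hom_coe_pow (fun g : Function.End A ↦ g) rfl (fun g h ↦ rfl) f (2 ^ Nat.card G)) χ
    rw [h1, hfiter, hσiter, pow_pow_eq_self k hkodd hk₂ g]
    rfl
  have hmod := Equiv.Perm.card_fixedPoints_modEq (p := 2) (n := Nat.card G) hfpow
  -- evenness of #A from weak block orthogonality at an involution
  have hA : Even (Fintype.card A) := by
    haveI : Fact (Nat.Prime 2) := ⟨Nat.prime_two⟩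
    obtain ⟨y, hy⟩ := exists_prime_orderOf_dvd_card' (G := G) 2 (even_iff_two_dvd.mp hev)
    have hy2 : y ^ 2 = 1 := by
      have := pow_orderOf_eq_one y
      rwa [hy] at this
    choose d t hd ht using (fun χ : Cfsg.IrrCharacter G =>
      involution_value (helper4.isCharacter_of_isIrrCharacter χ.2) y hy2)
    have hdeg : ∀ χ : Cfsg.IrrCharacter G, Cfsg.charDegree (χ : G → ℂ) = d χ := by
      intro χ
      unfold Cfsg.charDegree
      rw [hd χ]
      simp
    have hw := hwbo y hy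
    rw [finsum_eq_sum_of_fintype] at hw
    have hint : ∑ χ : Cfsg.IrrCharacter G, (if χ ∈ Cfsg.principalBlock M G then
        (d χ : ℤ) * ((d χ : ℤ) - 2 * (t χ : ℤ)) else 0) = 0 := by
      have h1 : ((∑ χ : Cfsg.IrrCharacter G, (if χ ∈ Cfsg.principalBlock M G then
          (d χ : ℤ) * ((d χ : ℤ) - 2 * (t χ : ℤ)) else 0) : ℤ) : ℂ) = 0 := by
        rw [← hw]
        push_cast
        refine Finset.sum_congr rfl (fun χ _ => ?_)
        split_ifs
        · rw [hd χ, ht χ, map_sub, map_mul, Complex.conj_natCast, Complex.conj_natCast, map_ofNat]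
        · rfl
      exact_mod_cast h1
    have hz : ∑ χ : Cfsg.IrrCharacter G, (if χ ∈ Cfsg.principalBlock M G then
        (d χ : ZMod 2) else 0) = 0 := by
      have h1 := congrArg (Int.cast : ℤ → ZMod 2) hint
      push_cast at h1
      refine Eq.trans (Finset.sum_congr rfl (fun χ _ => ?_)) h1
      split_ifs
      · have h2 : (2 : ZMod 2) = 0 := rfl
        have h3 : ∀ x : ZMod 2, x * x = x := by
          intro x; fin_cases x <;> rfl
        rw [h2, zero_mul, sub_zero, h3]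
      · rfl
    have hcard : (Fintype.card A : ZMod 2) = 0 := by
      rw [Fintype.card_subtype, Finset.card_filter]
      push_cast
      refine Eq.trans (Finset.sum_congr rfl (fun χ _ => ?_)) hz
      by_cases hB : χ ∈ Cfsg.principalBlock M G
      · rw [if_pos hB]
        by_cases hodd : Odd (d χ)
        · rw [if_pos ⟨hB, by rw [hdeg]; exact hodd⟩, ZMod.natCast_eq_one_iff_odd.mpr hodd]
        · rw [if_neg (fun h => hodd (by rw [← hdeg]; exact h.2)),
            ZMod.natCast_eq_zero_iff_even.mpr (Nat.not_odd_iff_even.mp hodd)]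
      · rw [if_neg hB, if_neg (fun h => hB h.1)]
    exact ZMod.natCast_eq_zero_iff_even.mp hcard
  have hfix : Even (Fintype.card ↥(Function.fixedPoints f)) := by
    rw [Nat.even_iff] at hA ⊢
    rw [← hA]
    exact hmod.symm
  have hequiv : Nat.card {χ : Cfsg.IrrCharacter G // χ ∈ Cfsg.principalBlock M G ∧
      Odd (Cfsg.charDegree (χ : G → ℂ)) ∧ ∀ g : G, (χ : G → ℂ) (g ^ k) = (χ : G → ℂ) g} =
      Fintype.card ↥(Function.fixedPoints f) := by
    rw [← Nat.card_eq_fintype_card]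
    refine Nat.card_congr ⟨fun τ => ⟨⟨τ.1, τ.2.1, τ.2.2.1⟩, ?_⟩, fun x => ⟨x.1.1, x.1.2.1, x.1.2.2, ?_⟩,
      fun τ => rfl, fun x => rfl⟩
    · exact Subtype.ext (Subtype.ext (funext (fun g => τ.2.2.2 g)))
    · intro g
      have h1 : f x.1 = x.1 := x.2
      have h2 := congrArg (fun z : A => (z.1 : G → ℂ) g) h1
      exact h2
  rw [hequiv]
  exact hfix

/-- Let G be a finite group of even order and M a maximal ideal of the algebraic integers containing 2. Let k be a natural number with g ^ k = g ^ 3 for every 2-element g and g ^ k = g for every element g of odd order (such k exist); an irreducible character χ is unchanged by g ↦ g ^ k exactly when it is fixed by the field automorphism that cubes the 2-power roots of unity and fixes the roots of unity of odd order. Then the number of members χ of the principal 2-block of odd degree with χ (g ^ k) = χ g for all g is even. -/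
theorem result {G : Type*} [Group G] [Finite G] (M : Ideal Cfsg.AlgInt) (hM : Cfsg.IsPModular 2 M) (hev : Even (Nat.card G)) (k : ℕ) (hk₁ : ∀ g : G, (∃ j : ℕ, orderOf g = 2 ^ j) → g ^ k = g ^ 3) (hk₂ : ∀ g : G, Odd (orderOf g) → g ^ k = g) : Even (Nat.card {χ : Cfsg.IrrCharacter G // χ ∈ Cfsg.principalBlock M G ∧ Odd (Cfsg.charDegree (χ : G → ℂ)) ∧ ∀ g : G, (χ : G → ℂ) (g ^ k) = (χ : G → ℂ) g}) := by
  classical
  refine core M hev k hk₁ hk₂ ?_
  intro y hy
  have := Fintype.ofFinite G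
  haveI : Fact (Nat.Prime 2) := ⟨Nat.prime_two⟩
  have hB : Cfsg.IsPBlock M (Cfsg.principalBlock M G) :=
    ⟨⟨fun _ => 1, helper4.isIrrCharacter_one⟩, rfl⟩
  have h := helper84.block_orthogonality hM hB 1 y (by rw [orderOf_one]; norm_num)
    (by rw [hy])
  rw [finsum_eq_sum_of_fintype]
  convert h

end Cfsg.Agent.S4550
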