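import Cfsg.Statements.S4558
import Cfsg.Agent.Lib.helper79.FiniteOrderTrace

set_option autoImplicit false
open Cfsg

namespace Cfsg.Agent.S4558

open Polynomial in
/-- A vanishing sum of `p ^ (j+1)`-th roots of unity with natural multiplicities has total
multiplicity divisible by `p`. -/
theorem dvd_sum_of_sum_roots_eq_zero (p j : ℕ) [Fact p.Prime] (S : Finset ℂ) (m : ℂ → ℕ)
    (h1 : ∀ μ ∈ S, μ ^ (p ^ (j + 1)) = 1) (h0 : ∑ μ ∈ S, (m μ : ℂ) * μ = 0) :
    p ∣ ∑ μ ∈ S, m μ := by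
  classical
  have hp : p.Prime := Fact.out
  have hNpos : 0 < p ^ (j + 1) := pow_pos hp.pos _
  have hζ : IsPrimitiveRoot (Complex.exp (2 * Real.pi * Complex.I / (p ^ (j + 1) : ℕ))) (p ^ (j + 1)) :=
    Complex.isPrimitiveRoot_exp _ hNpos.ne'
  set ζ := Complex.exp (2 * Real.pi * Complex.I / (p ^ (j + 1) : ℕ)) with hζdef
  have hex : ∀ μ : ℂ, ∃ a : ℕ, μ ∈ S → ζ ^ a = μ := by
    intro μ
    by_cases hμ : μ ∈ S
    · obtain ⟨a, _, ha⟩ := hζ.eq_pow_of_pow_eq_one (h1 μ hμ)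
      exact ⟨a, fun _ => ha⟩
    · exact ⟨0, fun h => absurd h hμ⟩
  choose a ha using hex
  let F : ℤ[X] := ∑ μ ∈ S, C (m μ : ℤ) * X ^ (a μ)
  have hF : aeval ζ F = 0 := by
    simp only [F, map_sum, map_mul, map_pow, aeval_X, aeval_C]
    rw [← h0]
    apply Finset.sum_congr rfl
    intro μ hμ
    rw [ha μ hμ]
    simp
  have hdvd : cyclotomic (p ^ (j + 1)) ℤ ∣ F := by
    rw [cyclotomic_eq_minpoly hζ hNpos]
    exact minpoly.isIntegrallyClosed_dvd (hζ.isIntegral hNpos) hF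
  obtain ⟨Q, hQ⟩ := hdvd
  have h2 : F.eval 1 = (p : ℤ) * Q.eval 1 := by
    rw [hQ, eval_mul, eval_one_cyclotomic_prime_pow]
  have h3 : F.eval 1 = ((∑ μ ∈ S, m μ : ℕ) : ℤ) := by
    simp only [F, eval_finsetSum, eval_mul, eval_C, eval_pow, eval_X, one_pow, mul_one]
    push_cast
    rfl
  have h4 : (p : ℤ) ∣ ((∑ μ ∈ S, m μ : ℕ) : ℤ) := ⟨Q.eval 1, by rw [← h3, h2]⟩
  exact Int.natCast_dvd_natCast.mp h4

/-- Let χ be a character of the finite group G and g an element of p-power order for the prime p. If χ g = 0, then p divides the degree of χ. -/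
theorem result {G : Type*} [Group G] [Finite G] (p : ℕ) [Fact p.Prime] (χ : G → ℂ) (hχ : Cfsg.IsCharacter G χ) (g : G) (hg : ∃ j : ℕ, orderOf g = p ^ j) (h0 : χ g = 0) : p ∣ Cfsg.charDegree χ := by
  obtain ⟨n, ρ, rfl⟩ := hχ
  obtain ⟨j, hj⟩ := hg
  have hdeg : Cfsg.charDegree ρ.character = n := by
    simp [Cfsg.charDegree, Representation.char_one]
  rw [hdeg]
  rcases Nat.eq_zero_or_pos j with rfl | hjpos
  · -- g = 1
    have hg1 : g = 1 := by
      rw [pow_zero] at hj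
      exact orderOf_eq_one_iff.mp hj
    rw [hg1, Representation.char_one] at h0
    have : n = 0 := by simpa using h0
    rw [this]
    exact dvd_zero p
  · obtain ⟨j', rfl⟩ : ∃ j', j = j' + 1 := ⟨j - 1, by omega⟩
    have hgN : g ^ (p ^ (j' + 1)) = 1 := by rw [← hj]; exact pow_orderOf_eq_one g
    have hp : p.Prime := Fact.out
    obtain ⟨S, m, h1, _, h3, h4⟩ := Cfsg.Agent.Lib.helper79.character_pow_eq_sum ρ g (p ^ (j' + 1))
      (pow_pos hp.pos _).ne' hgN
    have h5 := h3 1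
    simp only [pow_one] at h5
    rw [h0] at h5
    have h6 := dvd_sum_of_sum_roots_eq_zero p j' S m h1 h5.symm
    rw [h4] at h6
    simpa using h6

end Cfsg.Agent.S4558
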