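import Cfsg.Statements.S4560
import Cfsg.Agent.Lib.helper63.ACChars
import Cfsg.Agent.Lib.helper63.ACElems

set_option autoImplicit false
open Cfsg

namespace Cfsg.Agent.S4560

open Cfsg.Agent.Lib.helper63.AC

theorem ch1_zero {n : ℕ} (z : Equiv.Perm (Fin n)) (h : fixN (Fin n) z = 1) :
    ch1 (Equiv.Perm (Fin n)) (Fin n) z = 0 := by
  simp [ch1, h]

theorem ch2_zero {n : ℕ} (z : Equiv.Perm (Fin n))
    (h : (fixN (Fin n) z = 0 ∧ twoN (Fin n) z = 0) ∨ (fixN (Fin n) z = 3 ∧ twoN (Fin n) z = 0)) :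
    ch2 (Equiv.Perm (Fin n)) (Fin n) z = 0 := by
  rcases h with ⟨h1, h2⟩ | ⟨h1, h2⟩ <;> simp [ch2, h1, h2]

theorem ch3_zero {n : ℕ} (z : Equiv.Perm (Fin n))
    (h : (fixN (Fin n) z = 2 ∧ twoN (Fin n) z = 0) ∨ (fixN (Fin n) z = 0 ∧ twoN (Fin n) z = 2)) :
    ch3 (Equiv.Perm (Fin n)) (Fin n) z = 0 := by
  rcases h with ⟨h1, h2⟩ | ⟨h1, h2⟩ <;> simp [ch3, h1, h2] <;> norm_num

/-- Packaging: an irreducible character of `A_n` vanishing at `x`, restricted from `S_n`. -/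
theorem package {n : ℕ} (P : alternatingGroup (Fin n) → Prop)
    (chA : alternatingGroup (Fin n) → ℂ) (chS : Equiv.Perm (Fin n) → ℂ)
    (hA : Cfsg.IsIrrCharacter (alternatingGroup (Fin n)) chA)
    (hS : Cfsg.IsIrrCharacter (Equiv.Perm (Fin n)) chS)
    (hres : ∀ x : alternatingGroup (Fin n), chS x = chA x)
    (x : alternatingGroup (Fin n)) (hP : P x) (hx : chS x = 0) :
    ∃ χ : Cfsg.IrrCharacter (alternatingGroup (Fin n)),
      (∃ x : alternatingGroup (Fin n), P x ∧ (χ : alternatingGroup (Fin n) → ℂ) x = 0) ∧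
      ∃ ψ : Cfsg.IrrCharacter (Equiv.Perm (Fin n)), ∀ x : alternatingGroup (Fin n),
        (ψ : Equiv.Perm (Fin n) → ℂ) x = (χ : alternatingGroup (Fin n) → ℂ) x :=
  ⟨⟨chA, hA⟩, ⟨x, hP, (hres x).symm.trans hx⟩, ⟨chS, hS⟩, hres⟩

/-- For n ≥ 7 the alternating group on n letters has an irreducible character that vanishes at some 2-element and is the restriction of an irreducible character of the symmetric group, and an irreducible character that vanishes at some element of order 3 and is the restriction of an irreducible character of the symmetric group. -/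
theorem result (n : ℕ) (hn : 7 ≤ n) : (∃ χ : Cfsg.IrrCharacter (alternatingGroup (Fin n)), (∃ x : alternatingGroup (Fin n), (∃ j : ℕ, orderOf x = 2 ^ j) ∧ (χ : alternatingGroup (Fin n) → ℂ) x = 0) ∧ ∃ ψ : Cfsg.IrrCharacter (Equiv.Perm (Fin n)), ∀ x : alternatingGroup (Fin n), (ψ : Equiv.Perm (Fin n) → ℂ) x = (χ : alternatingGroup (Fin n) → ℂ) x) ∧ (∃ χ : Cfsg.IrrCharacter (alternatingGroup (Fin n)), (∃ y : alternatingGroup (Fin n), orderOf y = 3 ∧ (χ : alternatingGroup (Fin n) → ℂ) y = 0) ∧ ∃ ψ : Cfsg.IrrCharacter (Equiv.Perm (Fin n)), ∀ x : alternatingGroup (Fin n), (ψ : Equiv.Perm (Fin n) → ℂ) x = (χ : alternatingGroup (Fin n) → ℂ) x) := by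
  have hS4 : MulAction.IsMultiplyPretransitive (Equiv.Perm (Fin n)) (Fin n) 4 :=
    Equiv.Perm.isMultiplyPretransitive (Fin n) 4
  have hA4 : MulAction.IsMultiplyPretransitive (alternatingGroup (Fin n)) (Fin n) 4 := by
    have := alternatingGroup.isMultiplyPretransitive (Fin n)
    exact MulAction.isMultiplyPretransitive_of_le (n := Nat.card (Fin n) - 2)
      (by simp; omega) (by simp)
  have hcard : 4 ≤ Fintype.card (Fin n) := by simp; omega
  have hA1 := irr1 (G := alternatingGroup (Fin n)) (Ω := Fin n) hA4 hcard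
  have hA2 := irr2 (G := alternatingGroup (Fin n)) (Ω := Fin n) hA4 hcard
  have hA3 := irr3 (G := alternatingGroup (Fin n)) (Ω := Fin n) hA4 hcard
  have hS1 := irr1 (G := Equiv.Perm (Fin n)) (Ω := Fin n) hS4 hcard
  have hS2 := irr2 (G := Equiv.Perm (Fin n)) (Ω := Fin n) hS4 hcard
  have hS3 := irr3 (G := Equiv.Perm (Fin n)) (Ω := Fin n) hS4 hcard
  have r1 : ∀ x : alternatingGroup (Fin n), ch1 (Equiv.Perm (Fin n)) (Fin n) x
      = ch1 (alternatingGroup (Fin n)) (Fin n) x := fun x => rfl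
  have r2 : ∀ x : alternatingGroup (Fin n), ch2 (Equiv.Perm (Fin n)) (Fin n) x
      = ch2 (alternatingGroup (Fin n)) (Fin n) x := fun x => rfl
  have r3 : ∀ x : alternatingGroup (Fin n), ch3 (Equiv.Perm (Fin n)) (Fin n) x
      = ch3 (alternatingGroup (Fin n)) (Fin n) x := fun x => rfl
  constructor
  · obtain ⟨z, hz1, hz8, hz⟩ := exists_two_elem n hn
    have hzA : z ∈ alternatingGroup (Fin n) := Equiv.Perm.mem_alternatingGroup.mpr hz1
    have hord : ∃ j : ℕ, orderOf (⟨z, hzA⟩ : alternatingGroup (Fin n)) = 2 ^ j := by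
      have h1 : orderOf (⟨z, hzA⟩ : alternatingGroup (Fin n)) = orderOf z :=
        Subgroup.orderOf_mk z hzA
      have h2 : orderOf z ∣ 2 ^ 3 := orderOf_dvd_of_pow_eq_one hz8
      obtain ⟨j, -, hj⟩ := (Nat.dvd_prime_pow Nat.prime_two).mp h2
      exact ⟨j, by rw [h1, hj]⟩
    rcases hz with h | h | h | h | h
    · exact package _ _ _ hA1 hS1 r1 ⟨z, hzA⟩ hord (ch1_zero z h)
    · exact package _ _ _ hA2 hS2 r2 ⟨z, hzA⟩ hord (ch2_zero z (Or.inl h))
    · exact package _ _ _ hA2 hS2 r2 ⟨z, hzA⟩ hord (ch2_zero z (Or.inr h))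
    · exact package _ _ _ hA3 hS3 r3 ⟨z, hzA⟩ hord (ch3_zero z (Or.inl h))
    · exact package _ _ _ hA3 hS3 r3 ⟨z, hzA⟩ hord (ch3_zero z (Or.inr h))
  · obtain ⟨y, hy1, hy3, hyf, hyt⟩ := exists_three_elem n (by omega)
    have hyA : y ∈ alternatingGroup (Fin n) := Equiv.Perm.mem_alternatingGroup.mpr hy1
    have hord : orderOf (⟨y, hyA⟩ : alternatingGroup (Fin n)) = 3 := by
      rw [Subgroup.orderOf_mk y hyA, hy3]
    have hcases : n % 3 = 0 ∨ n % 3 = 1 ∨ n % 3 = 2 := by omega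
    rcases hcases with h | h | h
    · exact package _ _ _ hA2 hS2 r2 ⟨y, hyA⟩ hord
        (ch2_zero y (Or.inl ⟨by rw [hyf, h], hyt⟩))
    · exact package _ _ _ hA1 hS1 r1 ⟨y, hyA⟩ hord (ch1_zero y (by rw [hyf, h]))
    · exact package _ _ _ hA3 hS3 r3 ⟨y, hyA⟩ hord
        (ch3_zero y (Or.inl ⟨by rw [hyf, h], hyt⟩))

end Cfsg.Agent.S4560
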