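import Cfsg.Statements.S4561
import Cfsg.Agent.Lib.helper79.CentralTypeA
import Cfsg.Agent.Lib.helper79.CentralTypeB

set_option autoImplicit false
universe u
open Cfsg

namespace Cfsg.Agent.S4561

/-- For every finite solvable group G there is a finite group H with a faithful irreducible character χ whose degree squared equals the index of the centre Z(H) (so χ is fully ramified over the centre), such that G is isomorphic to a subgroup of H/Z(H), the primes dividing the orders of H, of Z(H) and of G are the same, and the order of Z(H) is squarefree. -/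
theorem result {G : Type u} [Group G] [Finite G] (hsolv : Group.IsSolvable G) : ∃ (H : Type u) (_ : Group H) (_ : Finite H) (χ : Cfsg.IrrCharacter H), (∀ h : H, (χ : H → ℂ) h = (χ : H → ℂ) 1 → h = 1) ∧ (Cfsg.charDegree (χ : H → ℂ)) ^ 2 = (Subgroup.center H).index ∧ (∃ f : G →* H ⧸ Subgroup.center H, Function.Injective f) ∧ (∀ p : ℕ, p.Prime → ((p ∣ Nat.card H ↔ p ∣ Nat.card G) ∧ (p ∣ Nat.card (Subgroup.center H) ↔ p ∣ Nat.card G))) ∧ Squarefree (Nat.card (Subgroup.center H)) := by
  obtain ⟨K, hKg, hKf, hBC, hprimes, f, hf⟩ :=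
    Cfsg.Agent.Lib.helper79.exists_bc_embedding (Nat.card G) G hsolv rfl
  obtain ⟨A, hA, act, c, hbij, hcoc, hexp⟩ := hBC
  obtain ⟨H, hHg, hHf, χ, hfaith, hdeg, ⟨e, he⟩, hcardH, hcardZ⟩ :=
    Cfsg.Agent.Lib.helper79.central_type_of_bcdata
      ({ act := act, c := c, n := Cfsg.Agent.Lib.helper79.radN (Nat.card K), bij := hbij,
         coc := hcoc, npos := Cfsg.Agent.Lib.helper79.radN_ne_zero _, exp := hexp } :
        Cfsg.Agent.Lib.helper79.BCData K A)
  have hcardH' : Nat.card H = Cfsg.Agent.Lib.helper79.radN (Nat.card K) * Nat.card K ^ 2 :=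
    hcardH
  have hcardZ' : Nat.card (Subgroup.center H) = Cfsg.Agent.Lib.helper79.radN (Nat.card K) :=
    hcardZ
  refine ⟨H, hHg, hHf, χ, hfaith, hdeg, ⟨e.comp f, he.comp hf⟩, ?_, ?_⟩
  · intro p hp
    have hK0 : Nat.card K ≠ 0 := Nat.card_pos.ne'
    have hG0 : Nat.card G ≠ 0 := Nat.card_pos.ne'
    have hKG : p ∣ Nat.card K ↔ p ∣ Nat.card G := by
      have h1 : p ∣ Nat.card K ↔ p ∈ (Nat.card K).primeFactors := by
        rw [Nat.mem_primeFactors]; exact ⟨fun h => ⟨hp, h, hK0⟩, fun h => h.2.1⟩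
      have h2 : p ∣ Nat.card G ↔ p ∈ (Nat.card G).primeFactors := by
        rw [Nat.mem_primeFactors]; exact ⟨fun h => ⟨hp, h, hG0⟩, fun h => h.2.1⟩
      rw [h1, h2, hprimes]
    constructor
    · rw [hcardH', ← hKG, hp.dvd_mul, Cfsg.Agent.Lib.helper79.prime_dvd_radN_iff hp hK0]
      constructor
      · rintro (h | h)
        · exact h
        · exact hp.dvd_of_dvd_pow h
      · intro h; exact Or.inl h
    · rw [hcardZ', ← hKG]
      exact Cfsg.Agent.Lib.helper79.prime_dvd_radN_iff hp hK0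
  · rw [hcardZ']
    exact Cfsg.Agent.Lib.helper79.radN_squarefree _

end Cfsg.Agent.S4561
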