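import Cfsg.Statements.S4563
import Cfsg.Agent.Lib.helper82.FullRamF
import Cfsg.Agent.S0006

set_option autoImplicit false
open Cfsg

namespace Cfsg.Agent.S4563

open Cfsg.Agent.Lib.helper82 in
/-- Let χ be an irreducible character of the finite group H that is fully ramified over the normal subgroup Z: the restriction of χ to Z is e times an irreducible character of Z with e ^ 2 equal to the index of Z. If K is a proper normal subgroup of H containing Z and χ is induced from a character of K, then H/K is solvable; in particular, if K is solvable then so is H. -/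
theorem result {H : Type*} [Group H] [Fintype H] (Z : Subgroup H) [Z.Normal] (χ : Cfsg.IrrCharacter H) (hfr : ∃ (θ : Cfsg.IrrCharacter ↥Z) (e : ℕ), e ^ 2 = Z.index ∧ ∀ z : ↥Z, (χ : H → ℂ) z = (e : ℂ) * (θ : ↥Z → ℂ) z) (K : Subgroup H) [K.Normal] [Fintype K] (hZK : Z ≤ K) (hK : K ≠ ⊤) (φ : ↥K → ℂ) (hφ : Cfsg.IsCharacter ↥K φ) (hind : Cfsg.indFun K φ = (χ : H → ℂ)) : Group.IsSolvable (H ⧸ K) ∧ (Group.IsSolvable ↥K → Group.IsSolvable H) := by
  classical
  haveI : Fintype Z := Fintype.ofFinite Z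
  obtain ⟨θ, e, he, hres⟩ := hfr
  obtain ⟨φ₁, hφ₁, hind₁⟩ := exists_irr_ind_eq K hφ χ.2 hind
  have hsol : Group.IsSolvable (H ⧸ K) := by
    apply Cfsg.Agent.S0006.result
    intro p hp
    haveI : Fact p.Prime := ⟨hp⟩
    obtain ⟨M, hM1, hM2⟩ := fr_sylow_complement_of_regular Z χ.2 θ.2 e he hres K hZK p
      (fun S₀ S hS hZS μ hμ hμθ htr =>
        fr_induced_regular Z χ.2 θ.2 e he hres K hZK hφ₁ hind₁ p S₀ S hS hZS μ hμ hμθ htr)
    refine ⟨M, ?_⟩
    obtain ⟨P⟩ : Nonempty (Sylow p (H ⧸ K)) := inferInstance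
    have h1 := (hM2 P).card_mul
    have h2 := M.card_mul_index
    have h3 : Nat.card (P : Subgroup (H ⧸ K)) = p ^ (Nat.card (H ⧸ K)).factorization p :=
      P.card_eq_multiplicity
    have hpos : 0 < Nat.card M := Nat.card_pos
    have h4 : Nat.card M * M.index = Nat.card M * Nat.card (P : Subgroup (H ⧸ K)) := by
      rw [h2, h1]
    rw [← h3]
    exact Nat.eq_of_mul_eq_mul_left hpos h4
  refine ⟨hsol, fun hKs => ?_⟩
  haveI := hsol
  haveI := hKs
  refine solvable_of_ker_le_range K.subtype (QuotientGroup.mk' K) ?_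
  rw [QuotientGroup.ker_mk', Subgroup.range_subtype]

end Cfsg.Agent.S4563
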