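import Cfsg.Statements.S4565
import Cfsg.Agent.Lib.helper83.CharBasic2
import Cfsg.Agent.Lib.helper82.CharSums

set_option autoImplicit false
open Cfsg

namespace Cfsg.Agent.S4565

open scoped ComplexConjugate
open Cfsg.Agent.Lib.helper83 Cfsg.Agent.Lib.helper82

/-- Coset decomposition of a sum of a function supported on the preimage of a cyclic subgroup of
the quotient and invariant under left translation by a lift of the generator. -/
theorem sum_eq_orderOf_mul_sum {H : Type*} [Group H] [Fintype H] (Z : Subgroup H) [Z.Normal]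
    [Fintype Z] (c : H) (f : H → ℂ) (hf1 : ∀ x, f (c * x) = f x)
    (hf2 : ∀ x : H, (x : H ⧸ Z) ∉ Subgroup.zpowers (c : H ⧸ Z) → f x = 0) :
    ∑ x : H, f x = (orderOf (c : H ⧸ Z) : ℂ) * ∑ z : Z, f z := by
  classical
  set k := orderOf (c : H ⧸ Z) with hk_def
  have hk : 0 < k := orderOf_pos _
  let φ : ℕ × Z → H := fun p => c ^ p.1 * (p.2 : H)
  have h2 : ∀ (n : ℕ) (u : Z), ((c ^ n * (u : H) : H) : H ⧸ Z) = (c : H ⧸ Z) ^ n := by
    intro n u
    rw [QuotientGroup.mk_mul, QuotientGroup.mk_pow, (QuotientGroup.eq_one_iff (u : H)).mpr u.2,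
      mul_one]
  have hinj : Set.InjOn φ (Finset.range k ×ˢ (Finset.univ : Finset Z) : Finset (ℕ × Z)) := by
    rintro ⟨i, z⟩ hi ⟨j, w⟩ hj h
    simp only [Finset.coe_product, Finset.coe_range, Finset.coe_univ, Set.mem_prod, Set.mem_Iio,
      Set.mem_univ, and_true] at hi hj
    have h' : c ^ i * (z : H) = c ^ j * (w : H) := h
    have h1 : ((c ^ i * (z : H) : H) : H ⧸ Z) = ((c ^ j * (w : H) : H) : H ⧸ Z) := by rw [h']
    rw [h2, h2] at h1
    have h3 : i = j := pow_injOn_Iio_orderOf hi hj h1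
    subst h3
    have h4 : (z : H) = (w : H) := mul_left_cancel h'
    rw [Subtype.ext h4]
  have himg : ∀ x : H, x ∉ Finset.image φ (Finset.range k ×ˢ (Finset.univ : Finset Z)) →
      f x = 0 := by
    intro x hx
    apply hf2 x
    intro hmem
    apply hx
    rw [← mem_powers_iff_mem_zpowers, mem_powers_iff_mem_range_orderOf] at hmem
    obtain ⟨i, hi, hix⟩ := Finset.mem_image.mp hmem
    have hz : (c ^ i)⁻¹ * x ∈ Z := by
      apply QuotientGroup.eq.mp
      rw [QuotientGroup.mk_pow]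
      exact hix
    refine Finset.mem_image.mpr ⟨(i, ⟨(c ^ i)⁻¹ * x, hz⟩), ?_, ?_⟩
    · exact Finset.mem_product.mpr ⟨hi, Finset.mem_univ _⟩
    · show c ^ i * ((c ^ i)⁻¹ * x) = x
      rw [mul_inv_cancel_left]
  have hpow : ∀ (i : ℕ) (x : H), f (c ^ i * x) = f x := by
    intro i
    induction i with
    | zero => intro x; rw [pow_zero, one_mul]
    | succ i ih => intro x; rw [pow_succ', mul_assoc, hf1, ih]
  calc ∑ x : H, f x
      = ∑ x ∈ Finset.image φ (Finset.range k ×ˢ (Finset.univ : Finset Z)), f x := by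
        symm
        apply Finset.sum_subset (Finset.subset_univ _)
        intro x _ hx
        exact himg x hx
    _ = ∑ p ∈ Finset.range k ×ˢ (Finset.univ : Finset Z), f (φ p) := Finset.sum_image hinj
    _ = ∑ i ∈ Finset.range k, ∑ z : Z, f (c ^ i * (z : H)) := Finset.sum_product _ _ _
    _ = ∑ i ∈ Finset.range k, ∑ z : Z, f (z : H) := by
        apply Finset.sum_congr rfl
        intro i _
        apply Finset.sum_congr rfl
        intro z _
        exact hpow i z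
    _ = (k : ℂ) * ∑ z : Z, f z := by
        rw [Finset.sum_const, Finset.card_range, nsmul_eq_mul]

/-- A fully ramified character vanishes off `Z`. -/
theorem vanish_off {H : Type*} [Group H] [Fintype H] (Z : Subgroup H) [Fintype Z]
    (χ : IrrCharacter H) (θ : IrrCharacter Z) (e : ℕ) (he : e ^ 2 = Z.index)
    (hχθ : ∀ z : Z, (χ : H → ℂ) z = (e : ℂ) * (θ : Z → ℂ) z) (x : H) (hx : x ∉ Z) :
    (χ : H → ℂ) x = 0 := by
  classical
  have h1 := irr_orthogonality' χ χ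
  rw [if_pos rfl] at h1
  have h2 := irr_orthogonality' θ θ
  rw [if_pos rfl] at h2
  have hcard : (Nat.card H : ℂ) = (e : ℂ) ^ 2 * (Nat.card Z : ℂ) := by
    rw [← Z.card_mul_index, ← he]
    push_cast
    ring
  -- sum over Z
  have h3 : ∑ z : Z, (χ : H → ℂ) z * conj ((χ : H → ℂ) z) = (Nat.card H : ℂ) := by
    rw [hcard, ← h2, Finset.mul_sum]
    apply Finset.sum_congr rfl
    intro z _
    rw [hχθ z, map_mul, Complex.conj_natCast]
    ring
  have h4 : ∑ g : H, (χ : H → ℂ) g * conj ((χ : H → ℂ) g) =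
      ∑ g ∈ Finset.univ.filter (fun g : H => g ∈ Z), (χ : H → ℂ) g * conj ((χ : H → ℂ) g) +
      ∑ g ∈ Finset.univ.filter (fun g : H => g ∉ Z), (χ : H → ℂ) g * conj ((χ : H → ℂ) g) :=
    (Finset.sum_filter_add_sum_filter_not _ _ _).symm
  have h5 : ∑ g ∈ Finset.univ.filter (fun g : H => g ∈ Z), (χ : H → ℂ) g * conj ((χ : H → ℂ) g) =
      ∑ z : Z, (χ : H → ℂ) z * conj ((χ : H → ℂ) z) := by
    rw [← Finset.sum_subtype (Finset.univ.filter (fun g : H => g ∈ Z)) (p := fun g => g ∈ Z)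
      (by intro g; simp) (fun g => (χ : H → ℂ) g * conj ((χ : H → ℂ) g))]
  have h6 : ∑ g ∈ Finset.univ.filter (fun g : H => g ∉ Z),
      (χ : H → ℂ) g * conj ((χ : H → ℂ) g) = 0 := by
    rw [h4, h5, h3] at h1
    exact add_eq_left.mp h1
  have h7 : ∀ g : H, (χ : H → ℂ) g * conj ((χ : H → ℂ) g) = ((Complex.normSq ((χ : H → ℂ) g) : ℝ) : ℂ) :=
    fun g => Complex.mul_conj _
  simp only [h7] at h6
  rw [← Complex.ofReal_sum, Complex.ofReal_eq_zero] at h6
  have h8 := (Finset.sum_eq_zero_iff_of_nonneg (fun g _ => Complex.normSq_nonneg _)).mp h6 x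
    (Finset.mem_filter.mpr ⟨Finset.mem_univ _, hx⟩)
  exact Complex.normSq_eq_zero.mp h8

/-- Let χ be an irreducible character of the finite group H that is fully ramified over the normal subgroup Z: the restriction of χ to Z is e times an irreducible character of Z with e ^ 2 equal to the index of Z. If Z ≠ H, then H/Z has no cyclic subgroup that is its own centralizer. -/
theorem result {H : Type*} [Group H] [Finite H] (Z : Subgroup H) [Z.Normal] (χ : Cfsg.IrrCharacter H) (hfr : ∃ (θ : Cfsg.IrrCharacter ↥Z) (e : ℕ), e ^ 2 = Z.index ∧ ∀ z : ↥Z, (χ : H → ℂ) z = (e : ℂ) * (θ : ↥Z → ℂ) z) (hZ : Z ≠ ⊤) (C : Subgroup (H ⧸ Z)) (hC : IsCyclic C) : Subgroup.centralizer (C : Set (H ⧸ Z)) ≠ C := by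
  classical
  intro hcent
  have := Fintype.ofFinite H
  have := Fintype.ofFinite Z
  obtain ⟨θ, e, he, hχθ⟩ := hfr
  have he0 : (e : ℂ) ≠ 0 := by
    have h1 : Z.index ≠ 0 := Subgroup.index_ne_zero_of_finite
    have h2 : e ≠ 0 := by
      rintro rfl
      apply h1
      rw [← he]
      norm_num
    exact_mod_cast h2
  have hvan := vanish_off Z χ θ e he hχθ
  -- generator of C
  obtain ⟨g, hg⟩ := hC.exists_generator
  obtain ⟨c, hc⟩ := QuotientGroup.mk_surjective (g : H ⧸ Z)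
  have hCz : C = Subgroup.zpowers (c : H ⧸ Z) := by
    apply le_antisymm
    · intro y hy
      obtain ⟨n, hn⟩ := Subgroup.mem_zpowers_iff.mp (hg ⟨y, hy⟩)
      rw [hc]
      refine Subgroup.mem_zpowers_iff.mpr ⟨n, ?_⟩
      have := congrArg (Subtype.val) hn
      simpa using this
    · rw [Subgroup.zpowers_le, hc]
      exact g.2
  -- commuting with the generator means lying in C
  have hcomm : ∀ x : H, (x : H ⧸ Z) * (c : H ⧸ Z) = (c : H ⧸ Z) * (x : H ⧸ Z) →
      (x : H ⧸ Z) ∈ Subgroup.zpowers (c : H ⧸ Z) := by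
    intro x hx
    rw [← hCz, ← hcent, Subgroup.mem_centralizer_iff]
    intro h hh
    rw [SetLike.mem_coe, hCz] at hh
    obtain ⟨n, rfl⟩ := Subgroup.mem_zpowers_iff.mp hh
    have : Commute (c : H ⧸ Z) (x : H ⧸ Z) := hx.symm
    exact (this.zpow_left n).eq
  -- c is not in Z
  have hcZ : c ∉ Z := by
    intro hcZ
    apply hZ
    rw [eq_top_iff]
    intro x _
    have h1 : (c : H ⧸ Z) = 1 := (QuotientGroup.eq_one_iff c).mpr hcZ
    have h2 := hcomm x (by rw [h1, mul_one, one_mul])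
    rw [h1, Subgroup.zpowers_one_eq_bot, Subgroup.mem_bot] at h2
    exact (QuotientGroup.eq_one_iff x).mp h2
  -- Step 3: for each lift of the generator the commutator sum over Z vanishes
  have hstep3 : ∀ z : Z, ∑ y : Z, (χ : H → ℂ) ((c * (z : H)) * ((y : H) * (c * (z : H))⁻¹ * (y : H)⁻¹)) = 0 := by
    intro z
    set c' : H := c * (z : H) with hc'
    have hc'q : (c' : H ⧸ Z) = (c : H ⧸ Z) := by
      rw [hc', QuotientGroup.mk_mul, (QuotientGroup.eq_one_iff (z : H)).mpr z.2, mul_one]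
    have hc'Z : c' ∉ Z := by
      intro h
      apply hcZ
      rw [← QuotientGroup.eq_one_iff] at h ⊢
      rw [← hc'q]; exact h
    have hI1 := irr_sum_mul_conj χ c' c'⁻¹
    rw [hvan c' hc'Z] at hI1
    have hA := sum_eq_orderOf_mul_sum Z c' (fun x => (χ : H → ℂ) (c' * (x * c'⁻¹ * x⁻¹)))
      (by
        intro x
        show (χ : H → ℂ) (c' * (c' * x * c'⁻¹ * (c' * x)⁻¹)) = (χ : H → ℂ) (c' * (x * c'⁻¹ * x⁻¹))
        have : c' * (c' * x * c'⁻¹ * (c' * x)⁻¹) = c' * (c' * (x * c'⁻¹ * x⁻¹)) * c'⁻¹ := by group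
        rw [this, irr_conj])
      (by
        intro x hx
        apply hvan
        intro hmem
        apply hx
        rw [hc'q]
        apply hcomm
        have h1 : ((c' * (x * c'⁻¹ * x⁻¹) : H) : H ⧸ Z) = 1 := (QuotientGroup.eq_one_iff _).mpr hmem
        simp only [QuotientGroup.mk_mul, QuotientGroup.mk_inv, hc'q] at h1
        have h2 : (c : H ⧸ Z) * (x : H ⧸ Z) = (x : H ⧸ Z) * (c : H ⧸ Z) := by
          calc (c : H ⧸ Z) * (x : H ⧸ Z)
              = ((c : H ⧸ Z) * ((x : H ⧸ Z) * (c : H ⧸ Z)⁻¹ * (x : H ⧸ Z)⁻¹)) * ((x : H ⧸ Z) * (c : H ⧸ Z)) := by group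
            _ = (x : H ⧸ Z) * (c : H ⧸ Z) := by rw [h1, one_mul]
        exact h2.symm)
    rw [hI1] at hA
    have hk : (orderOf (c' : H ⧸ Z) : ℂ) ≠ 0 := by
      exact_mod_cast (orderOf_pos (c' : H ⧸ Z)).ne'
    have h0 : (Nat.card H : ℂ) * 0 * (χ : H → ℂ) c'⁻¹ / (charDegree (χ : H → ℂ) : ℂ) = 0 := by
      simp
    rw [h0] at hA
    exact (mul_eq_zero.mp hA.symm).resolve_left hk
  -- Step 4: double sum
  have hD : ∑ y : Z, ∑ z : Z, (χ : H → ℂ) ((c * (z : H)) * ((y : H) * (c * (z : H))⁻¹ * (y : H)⁻¹)) = 0 := by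
    rw [Finset.sum_comm]
    exact Finset.sum_eq_zero (fun z _ => hstep3 z)
  have hθconj : ∀ y : Z, ∀ gy : Z, (gy : H) = c⁻¹ * (y : H)⁻¹ * c → (θ : Z → ℂ) gy = (θ : Z → ℂ) y⁻¹ := by
    intro y gy hgy
    have h1 : (χ : H → ℂ) (gy : H) = (χ : H → ℂ) ((y⁻¹ : Z) : H) := by
      rw [hgy]
      have := irr_conj χ ((y : H)⁻¹) c⁻¹
      rw [inv_inv] at this
      rw [this]; rfl
    rw [hχθ, hχθ] at h1
    exact mul_left_cancel₀ he0 h1
  have hinner : ∀ y : Z, ∑ z : Z, (χ : H → ℂ) ((c * (z : H)) * ((y : H) * (c * (z : H))⁻¹ * (y : H)⁻¹)) =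
      (e : ℂ) * ((Nat.card Z : ℂ) * (θ : Z → ℂ) y⁻¹ * (θ : Z → ℂ) y / (charDegree (θ : Z → ℂ) : ℂ)) := by
    intro y
    have hmem : c⁻¹ * (y : H)⁻¹ * c ∈ Z := by
      have := (inferInstance : Z.Normal).conj_mem _ (Z.inv_mem y.2) c⁻¹
      rwa [inv_inv] at this
    set gy : Z := ⟨c⁻¹ * (y : H)⁻¹ * c, hmem⟩ with hgy
    rw [← hθconj y gy rfl, ← irr_sum_mul_conj θ gy y, Finset.mul_sum]
    apply Finset.sum_congr rfl
    intro z _
    rw [← hχθ]
    have h1 : (c * (z : H)) * ((y : H) * (c * (z : H))⁻¹ * (y : H)⁻¹) =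
        (c * ((z : H) * (y : H) * (z : H)⁻¹)) * (c⁻¹ * (y : H)⁻¹) := by group
    rw [h1, isCharacter_mul_comm (isCharacter_of_irr χ.2)]
    refine congrArg (χ : H → ℂ) ?_
    show c⁻¹ * (y : H)⁻¹ * (c * ((z : H) * (y : H) * (z : H)⁻¹)) = c⁻¹ * (y : H)⁻¹ * c * ((z : H) * (y : H) * (z : H)⁻¹)
    group
  simp only [hinner] at hD
  have hgo := irr_generalized_orthogonality θ 1
  simp only [one_mul] at hgo
  rw [mul_div_assoc, div_self (irr_one_ne_zero θ), mul_one] at hgo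
  have hd : (charDegree (θ : Z → ℂ) : ℂ) ≠ 0 := by
    exact_mod_cast (charDegree_pos θ).ne'
  have hZc : (Nat.card Z : ℂ) ≠ 0 := by exact_mod_cast Nat.card_pos.ne'
  have hfin : ∑ y : Z, (e : ℂ) * ((Nat.card Z : ℂ) * (θ : Z → ℂ) y⁻¹ * (θ : Z → ℂ) y / (charDegree (θ : Z → ℂ) : ℂ)) =
      (e : ℂ) * (Nat.card Z : ℂ) / (charDegree (θ : Z → ℂ) : ℂ) * (Nat.card Z : ℂ) := by
    rw [← hgo, Finset.mul_sum]
    apply Finset.sum_congr rfl
    intro y _
    field_simp
  rw [hfin] at hD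
  have : (e : ℂ) * (Nat.card Z : ℂ) / (charDegree (θ : Z → ℂ) : ℂ) * (Nat.card Z : ℂ) ≠ 0 := by
    apply mul_ne_zero _ hZc
    exact div_ne_zero (mul_ne_zero he0 hZc) hd
  exact this hD

end Cfsg.Agent.S4565
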