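import Cfsg.Statements.S4566
import Cfsg.Agent.Lib.helper79.SchurScalar

set_option autoImplicit false
open Cfsg

namespace Cfsg.Agent.S4566

open scoped ComplexConjugate

/-- Let N be a central subgroup of the finite group G, ψ a faithful irreducible (hence degree-one) character of N, and χ an irreducible character of G whose restriction to N contains ψ. If g ∈ G and some x ∈ G has commutator x⁻¹ g⁻¹ x g in N but different from 1, then χ g = 0. -/
theorem result {G : Type*} [Group G] [Fintype G] (N : Subgroup G) [Fintype N] (hN : N ≤ Subgroup.center G) (ψ : Cfsg.IrrCharacter ↥N) (hfaith : ∀ n : ↥N, (ψ : ↥N → ℂ) n = (ψ : ↥N → ℂ) 1 → n = 1) (χ : Cfsg.IrrCharacter G) (hover : Cfsg.classInner (fun n : ↥N => (χ : G → ℂ) n) (ψ : ↥N → ℂ) ≠ 0) (g x : G) (hcomm : x⁻¹ * g⁻¹ * x * g ∈ N) (hne : x⁻¹ * g⁻¹ * x * g ≠ 1) : (χ : G → ℂ) g = 0 := by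
  obtain ⟨χf, n, ρ, hρ, rfl⟩ := χ
  obtain ⟨ψf, m, σ, hσ, rfl⟩ := ψ
  simp only at hfaith hover ⊢
  set z := x⁻¹ * g⁻¹ * x * g with hz
  have hzc : ∀ y : G, y * z = z * y := fun y => (Subgroup.mem_center_iff.mp (hN hcomm) y)
  obtain ⟨t, ht, htc⟩ := Cfsg.Agent.Lib.helper79.central_character_mul ρ hρ z hzc
  -- χ(g) = t χ(g)
  have h1 : ρ.character g = t * ρ.character g := by
    have h2 : x⁻¹ * g * x⁻¹⁻¹ = z⁻¹ * g := by
      have h3 : z⁻¹ * g = g * z⁻¹ := by
        have := hzc (z⁻¹ * g * z⁻¹)
        calc z⁻¹ * g = z⁻¹ * g * z⁻¹ * z := by group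
          _ = z * (z⁻¹ * g * z⁻¹) := this
          _ = g * z⁻¹ := by group
      rw [h3, hz]
      group
    have h4 : ρ.character g = ρ.character (z⁻¹ * g) := by
      rw [← h2, Representation.char_conj]
    have h5 := htc (z⁻¹ * g)
    rw [mul_inv_cancel_left] at h5
    exact h5.trans (congrArg (fun c => t * c) h4.symm)
  by_cases ht1 : t = 1
  · exfalso
    -- ρ z = id, so χ(z * n) = χ(n)
    have hw : ∀ y : N, y * (⟨z, hcomm⟩ : N) = ⟨z, hcomm⟩ * y := by
      intro y
      apply Subtype.ext
      simp only [Subgroup.coe_mul]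
      exact hzc y
    obtain ⟨s, hs, hsc⟩ := Cfsg.Agent.Lib.helper79.central_character_mul σ hσ ⟨z, hcomm⟩ hw
    have hsum : ∑ y : N, ρ.character (y : G) * conj (σ.character y)
        = conj s * ∑ y : N, ρ.character (y : G) * conj (σ.character y) := by
      calc ∑ y : N, ρ.character (y : G) * conj (σ.character y)
          = ∑ y : N, ρ.character (((⟨z, hcomm⟩ : N) * y : N) : G) * conj (σ.character ((⟨z, hcomm⟩ : N) * y)) :=
            (Fintype.sum_equiv (Equiv.mulLeft (⟨z, hcomm⟩ : N)) _ _ (fun y => rfl)).symm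
        _ = ∑ y : N, conj s * (ρ.character (y : G) * conj (σ.character y)) := by
            apply Finset.sum_congr rfl
            intro y _
            rw [hsc y, Subgroup.coe_mul, htc (y : G), ht1, one_mul, map_mul]
            ring
        _ = conj s * ∑ y : N, ρ.character (y : G) * conj (σ.character y) := by
            rw [Finset.mul_sum]
    have hsum_ne : ∑ y : N, ρ.character (y : G) * conj (σ.character y) ≠ 0 := by
      intro h0
      apply hover
      unfold Cfsg.classInner
      rw [h0, mul_zero]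
    have hs1 : conj s = 1 := by
      have h6 : (1 - conj s) * ∑ y : N, ρ.character (y : G) * conj (σ.character y) = 0 := by
        rw [sub_mul, one_mul, ← hsum, sub_self]
      rcases mul_eq_zero.mp h6 with h7 | h7
      · exact (sub_eq_zero.mp h7).symm
      · exact absurd h7 hsum_ne
    have hs1' : s = 1 := by
      have := congrArg conj hs1
      simpa using this
    have h8 := hsc 1
    rw [mul_one, hs1', one_mul] at h8
    have h9 := hfaith ⟨z, hcomm⟩ h8
    exact hne (congrArg Subtype.val h9)
  · have h10 : (1 - t) * ρ.character g = 0 := by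
      rw [sub_mul, one_mul, ← h1, sub_self]
    rcases mul_eq_zero.mp h10 with h11 | h11
    · exact absurd (sub_eq_zero.mp h11).symm ht1
    · exact h11

end Cfsg.Agent.S4566
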