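import Cfsg.Statements.S4567
import Cfsg.Agent.Lib.helper79.SchurScalar
import Cfsg.Agent.Lib.helper83.CharBasic

set_option autoImplicit false
open Cfsg

namespace Cfsg.Agent.S4567

open scoped ComplexConjugate
open Cfsg.Agent.Lib.helper79 Cfsg.Agent.Lib.helper83

/-- `g` is good with respect to the central subgroup `N`. -/
def Good {G : Type*} [Group G] (N : Subgroup G) (g : G) : Prop :=
  ∀ x : G, x⁻¹ * g⁻¹ * x * g ∈ N → x * g = g * x

theorem good_mul_left {G : Type*} [Group G] (N : Subgroup G) (hN : N ≤ Subgroup.center G)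
    (n g : G) (hn : n ∈ N) : Good N (n * g) ↔ Good N g := by
  have hc : ∀ y : G, y * n = n * y := fun y => Subgroup.mem_center_iff.mp (hN hn) y
  have key1 : ∀ x : G, x⁻¹ * (n * g)⁻¹ * x * (n * g) = x⁻¹ * g⁻¹ * x * g := by
    intro x
    have h1 : n⁻¹ * x * n = x := by rw [mul_assoc, hc x, ← mul_assoc, inv_mul_cancel, one_mul]
    calc x⁻¹ * (n * g)⁻¹ * x * (n * g) = x⁻¹ * g⁻¹ * (n⁻¹ * x * n) * g := by group
      _ = x⁻¹ * g⁻¹ * x * g := by rw [h1]
  have key2 : ∀ x : G, x * (n * g) = n * g * x ↔ x * g = g * x := by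
    intro x
    rw [← mul_assoc, hc x, mul_assoc, mul_assoc, mul_left_cancel_iff]
  constructor
  · intro h x hx
    exact (key2 x).mp (h x (by rw [key1 x]; exact hx))
  · intro h x hx
    exact (key2 x).mpr (h x (by rw [← key1 x]; exact hx))

theorem good_conj {G : Type*} [Group G] (N : Subgroup G) [hNn : N.Normal] (g y : G)
    (hg : Good N g) : Good N (y * g * y⁻¹) := by
  intro x hx
  have h1 : (y⁻¹ * x * y)⁻¹ * g⁻¹ * (y⁻¹ * x * y) * g =
      y⁻¹ * (x⁻¹ * (y * g * y⁻¹)⁻¹ * x * (y * g * y⁻¹)) * y⁻¹⁻¹ := by group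
  have h2 : (y⁻¹ * x * y)⁻¹ * g⁻¹ * (y⁻¹ * x * y) * g ∈ N := by
    rw [h1]
    exact hNn.conj_mem _ hx y⁻¹
  have h3 := hg (y⁻¹ * x * y) h2
  calc x * (y * g * y⁻¹) = y * ((y⁻¹ * x * y) * g) * y⁻¹ := by group
    _ = y * (g * (y⁻¹ * x * y)) * y⁻¹ := by rw [h3]
    _ = y * g * y⁻¹ * x := by group

theorem good_of_mk_eq {G : Type*} [Group G] (N : Subgroup G) [N.Normal]
    (hN : N ≤ Subgroup.center G) (g g' : G) (h : (g : G ⧸ N) = (g' : G ⧸ N)) (hg : Good N g) :
    Good N g' := by
  have h1 : g⁻¹ * g' ∈ N := QuotientGroup.eq.mp h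
  have hc : ∀ y : G, y * (g⁻¹ * g') = (g⁻¹ * g') * y := fun y => Subgroup.mem_center_iff.mp (hN h1) y
  have h2 : g' = (g⁻¹ * g') * g := by
    rw [← hc g]; group
  rw [h2]
  exact (good_mul_left N hN (g⁻¹ * g') g h1).mpr hg

theorem good_iff_exists {G : Type*} [Group G] (N : Subgroup G) [N.Normal]
    (hN : N ≤ Subgroup.center G) (g : G) :
    Good N g ↔ ∃ g₀ : G, ConjClasses.mk (g₀ : G ⧸ N) = ConjClasses.mk (g : G ⧸ N) ∧ Good N g₀ := by
  constructor
  · intro h
    exact ⟨g, rfl, h⟩
  · rintro ⟨g₀, h1, h2⟩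
    rw [ConjClasses.mk_eq_mk_iff_isConj, isConj_iff] at h1
    obtain ⟨c, hc⟩ := h1
    obtain ⟨y, rfl⟩ := QuotientGroup.mk_surjective c
    have h3 : ((y * g₀ * y⁻¹ : G) : G ⧸ N) = (g : G ⧸ N) := by
      rw [← hc]; rfl
    exact good_of_mk_eq N hN _ _ h3 (good_conj N g₀ y h2)

theorem card_centralizer_of_good {G : Type*} [Group G] [Finite G] (N : Subgroup G) [N.Normal]
    (g : G) (hg : Good N g) :
    Nat.card (Subgroup.centralizer ({g} : Set G)) =
      Nat.card N * Nat.card (Subgroup.centralizer ({(g : G ⧸ N)} : Set (G ⧸ N))) := by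
  have h1 : Subgroup.centralizer ({g} : Set G) =
      (Subgroup.centralizer ({(g : G ⧸ N)} : Set (G ⧸ N))).comap (QuotientGroup.mk' N) := by
    ext x
    rw [Subgroup.mem_comap, Subgroup.mem_centralizer_singleton_iff,
      Subgroup.mem_centralizer_singleton_iff]
    constructor
    · intro h
      show ((x : G ⧸ N)) * (g : G ⧸ N) = (g : G ⧸ N) * (x : G ⧸ N)
      rw [← QuotientGroup.mk_mul, ← QuotientGroup.mk_mul, h]
    · intro h
      apply hg x
      have h2 : ((g * x : G) : G ⧸ N) = ((x * g : G) : G ⧸ N) := by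
        rw [QuotientGroup.mk_mul, QuotientGroup.mk_mul]
        exact h.symm
      have h3 := QuotientGroup.eq.mp h2
      have h4 : (g * x)⁻¹ * (x * g) = x⁻¹ * g⁻¹ * x * g := by group
      rw [← h4]
      exact h3
  rw [h1]
  exact QuotientGroup.card_preimage_mk N
    ((Subgroup.centralizer ({(g : G ⧸ N)} : Set (G ⧸ N)) : Subgroup (G ⧸ N)) : Set (G ⧸ N))

/-- Counting conjugacy classes with a property by summing centralizer orders. -/
theorem sum_card_centralizer_eq {Q : Type*} [Group Q] [Fintype Q] (P : ConjClasses Q → Prop)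
    [DecidablePred P] [Fintype (ConjClasses Q)] [DecidableEq (ConjClasses Q)] :
    ∑ q : Q, (if P (ConjClasses.mk q) then Nat.card (Subgroup.centralizer ({q} : Set Q)) else 0) =
      Nat.card Q * Nat.card {C : ConjClasses Q // P C} := by
  classical
  rw [← Finset.sum_fiberwise (Finset.univ) (ConjClasses.mk (α := Q)) _]
  have key : ∀ C : ConjClasses Q,
      ∑ q ∈ Finset.univ.filter (fun q : Q => ConjClasses.mk q = C),
        (if P (ConjClasses.mk q) then Nat.card (Subgroup.centralizer ({q} : Set Q)) else 0) =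
      if P C then Nat.card Q else 0 := by
    intro C
    by_cases hC : P C
    · rw [if_pos hC]
      have h1 : ∀ q ∈ Finset.univ.filter (fun q : Q => ConjClasses.mk q = C),
          (Finset.univ.filter (fun q : Q => ConjClasses.mk q = C)).card *
            (if P (ConjClasses.mk q) then Nat.card (Subgroup.centralizer ({q} : Set Q)) else 0)
            = Nat.card Q := by
        intro q hq
        have hqC : ConjClasses.mk q = C := (Finset.mem_filter.mp hq).2
        rw [hqC, if_pos hC, ← card_conj_mul_card_centralizer q]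
        congr 1
        rw [Nat.card_eq_fintype_card, Fintype.card_subtype]
        congr 1
        ext x
        simp only [Finset.mem_filter, Finset.mem_univ, true_and]
        rw [← hqC, ConjClasses.mk_eq_mk_iff_isConj]
      obtain ⟨q₀, hq₀⟩ := ConjClasses.exists_rep C
      have hne : 0 < (Finset.univ.filter (fun q : Q => ConjClasses.mk q = C)).card :=
        Finset.card_pos.mpr ⟨q₀, Finset.mem_filter.mpr ⟨Finset.mem_univ _, hq₀⟩⟩
      have h2 : (Finset.univ.filter (fun q : Q => ConjClasses.mk q = C)).card *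
          ∑ q ∈ Finset.univ.filter (fun q : Q => ConjClasses.mk q = C),
            (if P (ConjClasses.mk q) then Nat.card (Subgroup.centralizer ({q} : Set Q)) else 0) =
          (Finset.univ.filter (fun q : Q => ConjClasses.mk q = C)).card * Nat.card Q := by
        rw [Finset.mul_sum, Finset.sum_congr rfl h1, Finset.sum_const, smul_eq_mul]
      exact Nat.eq_of_mul_eq_mul_left hne h2
    · rw [if_neg hC]
      apply Finset.sum_eq_zero
      intro q hq
      rw [(Finset.mem_filter.mp hq).2, if_neg hC]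
  rw [Finset.sum_congr rfl (fun C _ => key C), ← Finset.sum_filter, Finset.sum_const, smul_eq_mul,
    mul_comm, Nat.card_eq_fintype_card (α := {C : ConjClasses Q // P C}), Fintype.card_subtype]

/-- A central element multiplies an irreducible character by the scalar `χ c / χ 1`. -/
theorem irr_central_mul {G : Type*} [Group G] (χ : IrrCharacter G) (c : G)
    (hc : ∀ g : G, g * c = c * g) (g : G) :
    (χ : G → ℂ) (c * g) = ((χ : G → ℂ) c / (χ : G → ℂ) 1) * (χ : G → ℂ) g := by
  have hne : (χ : G → ℂ) 1 ≠ 0 := irr_one_ne_zero χ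
  obtain ⟨χf, n, ρ, hρ, rfl⟩ := χ
  obtain ⟨t, -, ht⟩ := central_character_mul ρ hρ c hc
  have h1 := ht 1
  rw [mul_one] at h1
  simp only at hne ⊢
  rw [ht g, h1, mul_div_cancel_right₀ _ hne]

/-- Sum over a group of a function of the coset. -/
theorem sum_comp_mk {G : Type*} [Group G] [Fintype G] (N : Subgroup G) [Fintype N]
    [Fintype (G ⧸ N)] (f : G ⧸ N → ℕ) :
    ∑ g : G, f (g : G ⧸ N) = Fintype.card N * ∑ q : G ⧸ N, f q := by
  rw [← Equiv.sum_comp (Subgroup.groupEquivQuotientProdSubgroup (s := N)).symm]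
  rw [Fintype.sum_prod_type]
  have : ∀ (q : G ⧸ N) (n : N),
      (((Subgroup.groupEquivQuotientProdSubgroup (s := N)).symm (q, n) : G) : G ⧸ N) = q := by
    intro q n
    have := (Subgroup.groupEquivQuotientProdSubgroup (s := N)).apply_symm_apply (q, n)
    exact congrArg Prod.fst this
  simp only [this, Finset.sum_const, Finset.card_univ, smul_eq_mul, Finset.mul_sum]

/-- The purely group-theoretic count. -/
theorem sum_good_card_centralizer {G : Type*} [Group G] [Fintype G] (N : Subgroup G) [N.Normal]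
    [Fintype N] (hN : N ≤ Subgroup.center G) [DecidablePred (Good N)] :
    ∑ g : G, (if Good N g then Nat.card (Subgroup.centralizer ({g} : Set G)) else 0) =
      Nat.card N * Nat.card G * Nat.card {C : ConjClasses (G ⧸ N) //
        ∃ g : G, ConjClasses.mk (g : G ⧸ N) = C ∧ Good N g} := by
  classical
  have : Fintype (G ⧸ N) := Fintype.ofFinite _
  have : Fintype (ConjClasses (G ⧸ N)) := Fintype.ofFinite _
  let F : G ⧸ N → ℕ := fun q =>
    if (∃ g₀ : G, ConjClasses.mk (g₀ : G ⧸ N) = ConjClasses.mk q ∧ Good N g₀)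
      then Nat.card N * Nat.card (Subgroup.centralizer ({q} : Set (G ⧸ N))) else 0
  have h1 : ∀ g : G, (if Good N g then Nat.card (Subgroup.centralizer ({g} : Set G)) else 0) =
      F (g : G ⧸ N) := by
    intro g
    by_cases hg : Good N g
    · rw [if_pos hg]
      simp only [F]
      rw [if_pos ((good_iff_exists N hN g).mp hg), card_centralizer_of_good N g hg]
    · rw [if_neg hg]
      simp only [F]
      rw [if_neg (fun h => hg ((good_iff_exists N hN g).mpr h))]
  rw [Finset.sum_congr rfl (fun g _ => h1 g), sum_comp_mk N F]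
  have h2 : ∀ q : G ⧸ N, F q =
      Nat.card N * (if (∃ g₀ : G, ConjClasses.mk (g₀ : G ⧸ N) = ConjClasses.mk q ∧ Good N g₀)
        then Nat.card (Subgroup.centralizer ({q} : Set (G ⧸ N))) else 0) := by
    intro q
    simp only [F]
    split_ifs <;> simp
  rw [Finset.sum_congr rfl (fun q _ => h2 q), ← Finset.mul_sum,
    sum_card_centralizer_eq (fun C : ConjClasses (G ⧸ N) =>
      ∃ g₀ : G, ConjClasses.mk (g₀ : G ⧸ N) = C ∧ Good N g₀),
    Subgroup.card_eq_card_quotient_mul_card_subgroup N, Nat.card_eq_fintype_card (α := N)]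
  ring

/-- The character-theoretic identity: `|N| ∑_{χ over ψ} |χ(g)|² = |C_G(g)|` if `g` is good,
and `0` otherwise. -/
theorem sum_over_eq {G : Type*} [Group G] [Fintype G] (N : Subgroup G) [N.Normal] [Fintype N]
    (hN : N ≤ Subgroup.center G) (ψ : Cfsg.IrrCharacter ↥N)
    (hfaith : ∀ n : ↥N, (ψ : ↥N → ℂ) n = (ψ : ↥N → ℂ) 1 → n = 1)
    [Fintype (IrrCharacter G)] [DecidablePred (Good N)]
    [DecidablePred (fun χ : IrrCharacter G =>
      Cfsg.classInner (fun n : ↥N => (χ : G → ℂ) n) (ψ : ↥N → ℂ) ≠ 0)] (g : G) :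
    (Nat.card N : ℂ) * ∑ χ : IrrCharacter G,
      (if Cfsg.classInner (fun n : ↥N => (χ : G → ℂ) n) (ψ : ↥N → ℂ) ≠ 0
        then (χ : G → ℂ) g * conj ((χ : G → ℂ) g) else 0) =
      if Good N g then (Nat.card (Subgroup.centralizer ({g} : Set G)) : ℂ) else 0 := by
  classical
  set s : N → ℂ := fun n => (ψ : N → ℂ) n / (ψ : N → ℂ) 1 with hs
  set t : IrrCharacter G → N → ℂ := fun χ n => (χ : G → ℂ) n / (χ : G → ℂ) 1 with ht
  have hψ1 : (ψ : N → ℂ) 1 ≠ 0 := irr_one_ne_zero ψ
  have hχ1 : ∀ χ : IrrCharacter G, (χ : G → ℂ) 1 ≠ 0 := fun χ => irr_one_ne_zero χ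
  have hNcomm : ∀ (a b : N), b * a = a * b :=
    fun a b => Subtype.ext (Subgroup.mem_center_iff.mp (hN a.2) b)
  have hs_mul : ∀ a b : N, s (a * b) = s a * s b := by
    intro a b
    simp only [hs]
    rw [irr_central_mul ψ a (fun b => hNcomm a b) b]
    field_simp
  have hs_one : s 1 = 1 := div_self hψ1
  have hs_faith : ∀ a : N, s a = 1 → a = 1 := by
    intro a ha
    apply hfaith a
    simp only [hs] at ha
    exact (div_eq_one_iff_eq hψ1).mp ha
  have ht_mul : ∀ (χ : IrrCharacter G) (a : N) (g : G),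
      (χ : G → ℂ) ((a : G) * g) = t χ a * (χ : G → ℂ) g :=
    fun χ a g => irr_central_mul χ a (fun g => Subgroup.mem_center_iff.mp (hN a.2) g) g
  have ht_mul' : ∀ (χ : IrrCharacter G) (a b : N), t χ (a * b) = t χ a * t χ b := by
    intro χ a b
    have h1 := ht_mul χ a (b : G)
    simp only [ht] at h1 ⊢
    rw [Subgroup.coe_mul, h1]
    ring
  set a : IrrCharacter G → ℂ := fun χ => ∑ n : N, t χ n * conj (s n) with ha
  have hcardN : (Nat.card N : ℂ) ≠ 0 := by exact_mod_cast Nat.card_pos.ne'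
  -- Claim A
  have hA1 : ∀ χ : IrrCharacter G, Cfsg.classInner (fun n : N => (χ : G → ℂ) n) (ψ : N → ℂ) =
      (Nat.card N : ℂ)⁻¹ * ((χ : G → ℂ) 1 * conj ((ψ : N → ℂ) 1)) * a χ := by
    intro χ
    have hc : conj ((ψ : N → ℂ) 1) ≠ 0 := (map_ne_zero _).mpr hψ1
    have e : ∀ n : N, (χ : G → ℂ) n * conj ((ψ : N → ℂ) n) =
        ((χ : G → ℂ) 1 * conj ((ψ : N → ℂ) 1)) * (t χ n * conj (s n)) := by
      intro n
      have hχ1' := hχ1 χ
      simp only [ht, hs]
      rw [map_div₀]
      field_simp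
    show (Nat.card N : ℂ)⁻¹ * ∑ n : N, (χ : G → ℂ) n * conj ((ψ : N → ℂ) n) = _
    rw [Finset.sum_congr rfl (fun n _ => e n), ← Finset.mul_sum]
    simp only [ha]
    ring
  have hA2 : ∀ χ : IrrCharacter G, a χ ≠ 0 → ∀ n : N, t χ n * conj (s n) = 1 := by
    intro χ hχ n₀
    have h1 : a χ = (t χ n₀ * conj (s n₀)) * a χ := by
      simp only [ha]
      rw [Finset.mul_sum, ← Equiv.sum_comp (Equiv.mulLeft n₀)]
      apply Finset.sum_congr rfl
      intro n _
      simp only [Equiv.coe_mulLeft]
      rw [ht_mul', hs_mul, map_mul]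
      ring
    have h2 : (1 - t χ n₀ * conj (s n₀)) * a χ = 0 := by
      rw [sub_mul, one_mul, ← h1, sub_self]
    rcases mul_eq_zero.mp h2 with h | h
    · exact (sub_eq_zero.mp h).symm
    · exact absurd h hχ
  have hA3 : ∀ χ : IrrCharacter G, a χ =
      if Cfsg.classInner (fun n : ↥N => (χ : G → ℂ) n) (ψ : ↥N → ℂ) ≠ 0
        then (Nat.card N : ℂ) else 0 := by
    intro χ
    by_cases h : Cfsg.classInner (fun n : ↥N => (χ : G → ℂ) n) (ψ : ↥N → ℂ) ≠ 0
    · rw [if_pos h]
      have h0 : a χ ≠ 0 := by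
        intro h0
        apply h
        rw [hA1, h0, mul_zero]
      simp only [ha]
      rw [Finset.sum_congr rfl (fun n _ => hA2 χ h0 n)]
      simp [Nat.card_eq_fintype_card]
    · rw [if_neg h]
      by_contra h0
      apply h
      rw [hA1]
      exact mul_ne_zero (mul_ne_zero (inv_ne_zero hcardN)
        (mul_ne_zero (hχ1 χ) ((map_ne_zero _).mpr hψ1))) h0
  -- double sum
  have h1 : ∑ n : N, s n * ∑ χ : IrrCharacter G,
      (χ : G → ℂ) g * conj ((χ : G → ℂ) ((n : G) * g)) =
      (Nat.card N : ℂ) * ∑ χ : IrrCharacter G,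
        (if Cfsg.classInner (fun n : ↥N => (χ : G → ℂ) n) (ψ : ↥N → ℂ) ≠ 0
          then (χ : G → ℂ) g * conj ((χ : G → ℂ) g) else 0) := by
    simp_rw [Finset.mul_sum]
    rw [Finset.sum_comm]
    apply Finset.sum_congr rfl
    intro χ _
    have e : ∀ n : N, s n * ((χ : G → ℂ) g * conj ((χ : G → ℂ) ((n : G) * g))) =
        ((χ : G → ℂ) g * conj ((χ : G → ℂ) g)) * conj (t χ n * conj (s n)) := by
      intro n
      rw [ht_mul χ n g, map_mul, map_mul, Complex.conj_conj]
      ring
    rw [Finset.sum_congr rfl (fun n _ => e n), ← Finset.mul_sum, ← map_sum]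
    have e2 : ∑ n : N, t χ n * conj (s n) = a χ := rfl
    rw [e2, hA3 χ]
    split_ifs <;> simp [mul_comm]
  have hcen : ∀ n : N, Subgroup.centralizer ({(n : G) * g} : Set G) =
      Subgroup.centralizer ({g} : Set G) := by
    intro n
    have hnc := Subgroup.mem_center_iff.mp (hN n.2)
    ext x
    rw [Subgroup.mem_centralizer_singleton_iff, Subgroup.mem_centralizer_singleton_iff,
      ← mul_assoc, hnc x, mul_assoc, mul_assoc, mul_left_cancel_iff]
  have h2 : ∑ n : N, s n * ∑ χ : IrrCharacter G,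
      (χ : G → ℂ) g * conj ((χ : G → ℂ) ((n : G) * g)) =
      (Nat.card (Subgroup.centralizer ({g} : Set G)) : ℂ) *
        ∑ n : N, (if IsConj g ((n : G) * g) then s n else 0) := by
    rw [Finset.mul_sum]
    apply Finset.sum_congr rfl
    intro n _
    rw [second_orthogonality, hcen n]
    split_ifs <;> ring
  -- Claim D
  have h3 : ∑ n : N, (if IsConj g ((n : G) * g) then s n else 0) = if Good N g then 1 else 0 := by
    by_cases hg : Good N g
    · rw [if_pos hg, Finset.sum_eq_single (1 : N)]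
      · have hrefl : IsConj g (((1 : N) : G) * g) := by
          rw [Subgroup.coe_one, one_mul]
        rw [if_pos hrefl, hs_one]
      · intro n _ hn1
        rw [if_neg]
        intro hconj
        apply hn1
        obtain ⟨c, hc⟩ := isConj_iff.mp hconj
        have hnc := Subgroup.mem_center_iff.mp (hN n.2)
        have hx : (c⁻¹)⁻¹ * g⁻¹ * c⁻¹ * g ∈ N := by
          have e1 : (c⁻¹)⁻¹ * g⁻¹ * c⁻¹ * g = (c * g * c⁻¹)⁻¹ * g := by group
          have e2 : ((n : G) * g)⁻¹ * g = (n : G)⁻¹ := by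
            rw [← hnc g]; group
          rw [e1, hc, e2]
          exact N.inv_mem n.2
        have hcomm := hg c⁻¹ hx
        have e3 : c * g * c⁻¹ = g := by
          calc c * g * c⁻¹ = c * (g * c⁻¹) := by group
            _ = c * (c⁻¹ * g) := by rw [hcomm]
            _ = g := by group
        rw [e3] at hc
        have e4 : (n : G) = 1 := by
          have : (n : G) * g = 1 * g := by rw [one_mul]; exact hc.symm
          exact mul_right_cancel this
        exact Subtype.ext e4
      · intro h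
        exact absurd (Finset.mem_univ _) h
    · rw [if_neg hg]
      unfold Good at hg
      push Not at hg
      obtain ⟨x, hxN, hxne⟩ := hg
      have hz1 : (⟨x⁻¹ * g⁻¹ * x * g, hxN⟩ : N) ≠ 1 := by
        intro h
        apply hxne
        have h' : x⁻¹ * g⁻¹ * x * g = 1 := congrArg Subtype.val h
        calc x * g = g * x * (x⁻¹ * g⁻¹ * x * g) := by group
          _ = g * x := by rw [h', mul_one]
      set z : N := ⟨x⁻¹ * g⁻¹ * x * g, hxN⟩ with hz
      have hzc := Subgroup.mem_center_iff.mp (hN z.2)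
      have e1 : x * g * x⁻¹ = (z : G) * g := by
        have h1 : x * (z : G) = (z : G) * x := hzc x
        calc x * g * x⁻¹ = g * (x * (x⁻¹ * g⁻¹ * x * g) * x⁻¹) := by group
          _ = g * (x * (z : G) * x⁻¹) := rfl
          _ = g * ((z : G) * x * x⁻¹) := by rw [h1]
          _ = g * (z : G) := by group
          _ = (z : G) * g := hzc g
      have hconjx : ∀ n : N, x * ((n : G) * g) * x⁻¹ = ((z * n : N) : G) * g := by
        intro n
        have hnc := Subgroup.mem_center_iff.mp (hN n.2)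
        calc x * ((n : G) * g) * x⁻¹ = (x * (n : G)) * g * x⁻¹ := by group
          _ = ((n : G) * x) * g * x⁻¹ := by rw [hnc x]
          _ = (n : G) * (x * g * x⁻¹) := by group
          _ = (n : G) * ((z : G) * g) := by rw [e1]
          _ = ((n : G) * (z : G)) * g := by group
          _ = ((z : G) * (n : G)) * g := by rw [hnc (z : G)]
          _ = ((z * n : N) : G) * g := by rw [Subgroup.coe_mul]
      have hiff : ∀ n : N, IsConj g (((z * n : N) : G) * g) ↔ IsConj g ((n : G) * g) := by
        intro n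
        have hc1 : IsConj ((n : G) * g) (((z * n : N) : G) * g) :=
          isConj_iff.mpr ⟨x, hconjx n⟩
        exact ⟨fun h => h.trans hc1.symm, fun h => h.trans hc1⟩
      have hsum : ∑ n : N, (if IsConj g ((n : G) * g) then s n else 0) =
          s z * ∑ n : N, (if IsConj g ((n : G) * g) then s n else 0) := by
        rw [Finset.mul_sum]
        rw [← Equiv.sum_comp (Equiv.mulLeft z)]
        apply Finset.sum_congr rfl
        intro n _
        show (if IsConj g (((z * n : N) : G) * g) then s (z * n) else 0) =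
          s z * (if IsConj g ((n : G) * g) then s n else 0)
        by_cases h : IsConj g ((n : G) * g)
        · rw [if_pos ((hiff n).mpr h), if_pos h, hs_mul]
        · rw [if_neg (fun h' => h ((hiff n).mp h')), if_neg h, mul_zero]
      have hsz : s z ≠ 1 := fun h => hz1 (hs_faith z h)
      have h4 : (1 - s z) * ∑ n : N, (if IsConj g ((n : G) * g) then s n else 0) = 0 := by
        rw [sub_mul, one_mul, ← hsum, sub_self]
      rcases mul_eq_zero.mp h4 with h | h
      · exact absurd (sub_eq_zero.mp h).symm hsz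
      · exact h
  rw [← h1, h2, h3]
  split_ifs <;> simp

/-- Let N be a central subgroup of the finite group G and ψ a faithful irreducible (hence degree-one) character of N. Call a coset g N special when every x ∈ G whose commutator x⁻¹ g⁻¹ x g lies in N actually commutes with g (this depends only on the coset). Then the number of irreducible characters of G whose restriction to N contains ψ equals the number of conjugacy classes of G/N consisting of special cosets. -/
theorem result {G : Type*} [Group G] [Fintype G] (N : Subgroup G) [N.Normal] [Fintype N] (hN : N ≤ Subgroup.center G) (ψ : Cfsg.IrrCharacter ↥N) (hfaith : ∀ n : ↥N, (ψ : ↥N → ℂ) n = (ψ : ↥N → ℂ) 1 → n = 1) : Nat.card {χ : Cfsg.IrrCharacter G // Cfsg.classInner (fun n : ↥N => (χ : G → ℂ) n) (ψ : ↥N → ℂ) ≠ 0} = Nat.card {C : ConjClasses (G ⧸ N) // ∃ g : G, ConjClasses.mk (g : G ⧸ N) = C ∧ ∀ x : G, x⁻¹ * g⁻¹ * x * g ∈ N → x * g = g * x} := by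
  classical
  have : Fintype (IrrCharacter G) := Fintype.ofFinite _
  have hsum : ∑ g : G, (Nat.card N : ℂ) * ∑ χ : IrrCharacter G,
      (if Cfsg.classInner (fun n : ↥N => (χ : G → ℂ) n) (ψ : ↥N → ℂ) ≠ 0
        then (χ : G → ℂ) g * conj ((χ : G → ℂ) g) else 0) =
      ∑ g : G, (if Good N g then (Nat.card (Subgroup.centralizer ({g} : Set G)) : ℂ) else 0) :=
    Finset.sum_congr rfl (fun g _ => sum_over_eq N hN ψ hfaith g)
  have hL : ∑ g : G, (Nat.card N : ℂ) * ∑ χ : IrrCharacter G,
      (if Cfsg.classInner (fun n : ↥N => (χ : G → ℂ) n) (ψ : ↥N → ℂ) ≠ 0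
        then (χ : G → ℂ) g * conj ((χ : G → ℂ) g) else 0) =
      ((Nat.card N * Nat.card G * Nat.card {χ : Cfsg.IrrCharacter G //
        Cfsg.classInner (fun n : ↥N => (χ : G → ℂ) n) (ψ : ↥N → ℂ) ≠ 0} : ℕ) : ℂ) := by
    rw [← Finset.mul_sum, Finset.sum_comm]
    have h1 : ∀ χ : IrrCharacter G, ∑ g : G,
        (if Cfsg.classInner (fun n : ↥N => (χ : G → ℂ) n) (ψ : ↥N → ℂ) ≠ 0
          then (χ : G → ℂ) g * conj ((χ : G → ℂ) g) else 0) =
        if Cfsg.classInner (fun n : ↥N => (χ : G → ℂ) n) (ψ : ↥N → ℂ) ≠ 0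
          then (Nat.card G : ℂ) else 0 := by
      intro χ
      split_ifs with h
      · have := irr_orthogonality' χ χ
        simpa using this
      · simp
    rw [Finset.sum_congr rfl (fun χ _ => h1 χ), ← Finset.sum_filter, Finset.sum_const,
      nsmul_eq_mul, Nat.card_eq_fintype_card (α := {χ : Cfsg.IrrCharacter G //
        Cfsg.classInner (fun n : ↥N => (χ : G → ℂ) n) (ψ : ↥N → ℂ) ≠ 0}), Fintype.card_subtype]
    push_cast
    ring
  have hR : ∑ g : G, (if Good N g then (Nat.card (Subgroup.centralizer ({g} : Set G)) : ℂ) else 0) =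
      ((Nat.card N * Nat.card G * Nat.card {C : ConjClasses (G ⧸ N) //
        ∃ g : G, ConjClasses.mk (g : G ⧸ N) = C ∧ Good N g} : ℕ) : ℂ) := by
    rw [← sum_good_card_centralizer N hN]
    push_cast
    apply Finset.sum_congr rfl
    intro g _
    split_ifs <;> simp
  rw [hL, hR] at hsum
  have h : Nat.card N * Nat.card G * Nat.card {χ : Cfsg.IrrCharacter G //
        Cfsg.classInner (fun n : ↥N => (χ : G → ℂ) n) (ψ : ↥N → ℂ) ≠ 0} =
      Nat.card N * Nat.card G * Nat.card {C : ConjClasses (G ⧸ N) //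
        ∃ g : G, ConjClasses.mk (g : G ⧸ N) = C ∧ Good N g} := by
    exact_mod_cast hsum
  exact Nat.eq_of_mul_eq_mul_left (Nat.mul_pos Nat.card_pos Nat.card_pos) h

end Cfsg.Agent.S4567
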