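import Mathlib
import Cfsg.Statements.S4573
import Cfsg.Agent.Lib.helper5.WreathM
import Cfsg.Agent.Lib.helper4.Monomial
import Cfsg.Agent.Lib.helper2.Schmidt

set_option autoImplicit false
universe u
open Cfsg

namespace Cfsg.Agent.S4573

set_option linter.style.haveILetI false
open Cfsg.Agent.Lib.helper5 RegularWreathProduct

theorem kk_mem {G : Type u} [Group G] (N : Subgroup G) [N.Normal] (g : G) (x : G ⧸ N) :
    (Quotient.out x)⁻¹ * g * Quotient.out ((g : G ⧸ N)⁻¹ * x) ∈ N := by
  rw [← QuotientGroup.eq_one_iff]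
  simp

/-- The Krasner–Kaloujnine embedding, composed with `j : N →* M` on the base. -/
noncomputable def kkHom {G : Type u} [Group G] (N : Subgroup G) [N.Normal] {M : Type u} [Group M]
    (j : N →* M) : G →* (M ≀ᵣ (G ⧸ N)) where
  toFun g := ⟨fun x => j ⟨(Quotient.out x)⁻¹ * g * Quotient.out ((g : G ⧸ N)⁻¹ * x),
    kk_mem N g x⟩, (g : G ⧸ N)⟩
  map_one' := by
    apply RegularWreathProduct.ext
    · funext x
      have h1 : (⟨(Quotient.out x)⁻¹ * 1 * Quotient.out (((1 : G) : G ⧸ N)⁻¹ * x),
          kk_mem N 1 x⟩ : N) = 1 := Subtype.ext (by simp)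
      show j _ = 1
      rw [h1, map_one]
    · rfl
  map_mul' g h := by
    apply RegularWreathProduct.ext
    · funext x
      show j _ = j _ * j _
      rw [← map_mul]
      congr 1
      apply Subtype.ext
      have h1 : ((g * h : G) : G ⧸ N)⁻¹ * x = (h : G ⧸ N)⁻¹ * ((g : G ⧸ N)⁻¹ * x) := by
        rw [QuotientGroup.mk_mul, mul_inv_rev, mul_assoc]
      show (Quotient.out x)⁻¹ * (g * h) * Quotient.out (((g * h : G) : G ⧸ N)⁻¹ * x) =
        (Quotient.out x)⁻¹ * g * Quotient.out ((g : G ⧸ N)⁻¹ * x) *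
          ((Quotient.out ((g : G ⧸ N)⁻¹ * x))⁻¹ * h *
            Quotient.out ((h : G ⧸ N)⁻¹ * ((g : G ⧸ N)⁻¹ * x)))
      rw [h1]
      group
    · rfl

theorem kk_injective {G : Type u} [Group G] (N : Subgroup G) [N.Normal] {M : Type u} [Group M]
    (j : N →* M) (hj : Function.Injective j) : Function.Injective (kkHom N j) := by
  rw [injective_iff_map_eq_one]
  intro g hg
  have h1 : (g : G ⧸ N) = 1 := congrArg RegularWreathProduct.right hg
  have h2 := congrFun (congrArg RegularWreathProduct.left hg) 1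
  have h3 : j ⟨(Quotient.out (1 : G ⧸ N))⁻¹ * g * Quotient.out ((g : G ⧸ N)⁻¹ * 1),
      kk_mem N g 1⟩ = 1 := h2
  rw [← map_one j] at h3
  have h4 := congrArg Subtype.val (hj h3)
  simp only [h1, inv_one, one_mul, Subgroup.coe_one] at h4
  -- h4 : (out 1)⁻¹ * g * out 1 = 1
  have h5 : g = Quotient.out (1 : G ⧸ N) * ((Quotient.out (1 : G ⧸ N))⁻¹ * g *
      Quotient.out (1 : G ⧸ N)) * (Quotient.out (1 : G ⧸ N))⁻¹ := by group
  rw [h5, h4]
  group

theorem dade_aux : ∀ (n : ℕ) (G : Type u) [Group G] [Finite G], Nat.card G = n →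
    Group.IsSolvable G →
    ∃ (M : Type u) (_ : Group M) (_ : Fintype M), (∀ χ : M → ℂ, Cfsg.IsIrrCharacter M χ →
      (∃ (H : Subgroup M) (lam : ↥H →* ℂˣ), χ = Cfsg.indFun H (fun h => (lam h : ℂ)))) ∧
      ∃ f : G →* M, Function.Injective f := by
  intro n
  induction n using Nat.strong_induction_on with
  | _ n ih =>
    intro G _ _ hn hsolv
    by_cases hnt : Nontrivial G
    · obtain ⟨N, hN, hprime⟩ := Cfsg.Agent.Lib.helper2.exists_normal_prime_index G
      have hlt : Nat.card N < n := by
        have h1 := Subgroup.card_mul_index N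
        rw [hn] at h1
        have h2 := hprime.two_le
        have h3 : 0 < Nat.card N := Nat.card_pos
        nlinarith
      obtain ⟨M0, instG, instF, hM0, j, hj⟩ := ih (Nat.card N) hlt N rfl inferInstance
      letI : Fintype (G ⧸ N) := Fintype.ofFinite _
      letI : Fintype (M0 ≀ᵣ (G ⧸ N)) := Fintype.ofFinite _
      refine ⟨M0 ≀ᵣ (G ⧸ N), inferInstance, inferInstance, ?_, kkHom N j, kk_injective N j hj⟩
      intro χ hχ
      classical
      letI : Fintype (wBase M0 (G ⧸ N)) := Fintype.ofFinite _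
      exact wreath_monomial (by rw [← Subgroup.index_eq_card]; exact hprime) hM0 χ hχ
    · haveI : Subsingleton G := not_nontrivial_iff_subsingleton.mp hnt
      letI : Fintype G := Fintype.ofFinite G
      refine ⟨G, inferInstance, inferInstance, ?_, MonoidHom.id G, fun _ _ h => h⟩
      intro χ hχ
      exact Cfsg.Agent.Lib.helper4.exists_linear_induced_of_nilpotent hχ

/-- Every finite solvable group is isomorphic to a subgroup of a finite M-group, a group each of whose irreducible characters is induced from a homomorphism of some subgroup into ℂˣ. -/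
theorem result {G : Type u} [Group G] [Finite G] (hsolv : Group.IsSolvable G) : ∃ (M : Type u) (_ : Group M) (_ : Fintype M), (∀ χ : M → ℂ, Cfsg.IsIrrCharacter M χ → (∃ (H : Subgroup M) (lam : ↥H →* ℂˣ), χ = Cfsg.indFun H (fun h => (lam h : ℂ)))) ∧ ∃ f : G →* M, Function.Injective f := by
  exact dade_aux _ G rfl hsolv

end Cfsg.Agent.S4573
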