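import Cfsg.Statements.S4575
import Cfsg.Agent.Lib.helper79.SubsectionTwo

set_option autoImplicit false
open Cfsg

namespace Cfsg.Agent.S4575

/-- Let B be a 2-block of the finite group G (relative to a maximal ideal M of the algebraic integers containing 2) of defect d with defect group D. Let z be an element of D commuting with every element of D, and let b be a block of the centralizer of z with defect group D that induces B (a major subsection (z, b)). If the number of irreducible characters in B exceeds the 2-regular rank of b by at most three, then B contains at most 2 ^ d irreducible characters. -/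
theorem result {G : Type*} [Group G] [Finite G] (M : Ideal Cfsg.AlgInt) (hM : Cfsg.IsPModular 2 M) (B : Set (Cfsg.IrrCharacter G)) (hB : Cfsg.IsPBlock M B) (D : Subgroup G) (hD : Cfsg.IsDefectGroup 2 M B D) (z : G) (hzD : z ∈ D) (hzc : ∀ d ∈ D, d * z = z * d) (b : Set (Cfsg.IrrCharacter ↥(Subgroup.centralizer ({z} : Set G)))) (hb : Cfsg.IsInducedBlock M (Subgroup.centralizer ({z} : Set G)) b B) (hbD : Cfsg.IsDefectGroup 2 M b (D.subgroupOf (Subgroup.centralizer ({z} : Set G)))) (h : Nat.card B ≤ Cfsg.blockRank 2 b + 3) : Nat.card B ≤ 2 ^ Cfsg.blockDefect 2 B := by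
  classical
  have : Fintype G := Fintype.ofFinite G
  have hp : (2 : ℕ).Prime := Nat.prime_two
  have hH : ∀ g : G, g ∈ Subgroup.centralizer ({z} : Set G) ↔ g * z = z * g := by
    intro g
    rw [Subgroup.mem_centralizer_iff]
    constructor
    · intro h
      exact (h z rfl).symm
    · intro h x hx
      rw [Set.mem_singleton_iff] at hx
      rw [hx]
      exact h.symm
  have hDcard := Cfsg.Agent.Lib.helper79.card_eq_of_isDefectGroup hM hB hD
  have hz : ∃ k : ℕ, orderOf z = 2 ^ k := by
    have h1 : orderOf z ∣ Nat.card D := by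
      have := orderOf_dvd_natCard (⟨z, hzD⟩ : D)
      rwa [Subgroup.orderOf_mk] at this
    rw [hDcard] at h1
    obtain ⟨k, -, hk⟩ := (Nat.dvd_prime_pow hp).mp h1
    exact ⟨k, hk⟩
  have hbcard := Cfsg.Agent.Lib.helper79.card_eq_of_isDefectGroup hM hb.1 hbD
  have hle : D ≤ Subgroup.centralizer ({z} : Set G) := by
    intro d hd
    rw [hH]
    exact hzc d hd
  have hcardeq : Nat.card (D.subgroupOf (Subgroup.centralizer ({z} : Set G))) = Nat.card D :=
    Nat.card_congr (Subgroup.subgroupOfEquivOfLe hle).toEquiv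
  have hdd : blockDefect 2 b = blockDefect 2 B := by
    apply Nat.pow_right_injective hp.two_le
    show 2 ^ blockDefect 2 b = 2 ^ blockDefect 2 B
    rw [← hbcard, ← hDcard, hcardeq]
  obtain ⟨Z, hzero, htrace, hht0, hht1⟩ :=
    Cfsg.Agent.Lib.helper79.exists_galois_avg_of_major hM _ hB hb z hH hz hdd
  set BF := Finset.univ.filter (fun ψ : IrrCharacter G => ψ ∈ B) with hBF
  have hk : Nat.card B = BF.card := by
    rw [Nat.card_eq_fintype_card, Fintype.card_subtype]
  have hsum : ∑ χ ∈ BF, Z χ = 2 ^ blockDefect 2 B * (blockRank 2 b : ℤ) := by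
    rw [← htrace]
    apply Finset.sum_subset (Finset.subset_univ _)
    intro χ _ hχ
    apply hzero
    intro hχB
    exact hχ (Finset.mem_filter.mpr ⟨Finset.mem_univ _, hχB⟩)
  rw [hk] at h ⊢
  exact Cfsg.Agent.Lib.helper79.card_le_of_avg BF (fun χ => blockHeight 2 B (χ : G → ℂ)) Z _ _ h
    hsum (fun χ hχ hχ0 => hht0 χ (Finset.mem_filter.mp hχ).2 hχ0)
    (fun χ hχ hχ1 => (hht1 χ (Finset.mem_filter.mp hχ).2 hχ1).2)

end Cfsg.Agent.S4575
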