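import Cfsg.Statements.S4581
import Cfsg.Agent.Lib.helper79.RealOddH

set_option autoImplicit false
open Cfsg

namespace Cfsg.Agent.S4581

/-- Let G be a finite solvable group, P a Sylow 2-subgroup and N its normalizer. Then G and N have the same number of real-valued irreducible characters of odd degree; and every odd-degree irreducible character of G is real-valued exactly when the derived subgroup of P equals the Frattini subgroup of P and P is its own normalizer in G. -/
theorem result {G : Type*} [Group G] [Finite G] [Group.IsSolvable G] (P : Sylow 2 G) :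
    Nat.card {χ : Cfsg.IrrCharacter G // (∀ g : G, ((χ : G → ℂ) g).im = 0) ∧ Odd (Cfsg.charDegree (χ : G → ℂ))} =
      Nat.card {ψ : Cfsg.IrrCharacter (Subgroup.normalizer ((P : Subgroup G) : Set G)) // (∀ g, ((ψ : Subgroup.normalizer ((P : Subgroup G) : Set G) → ℂ) g).im = 0) ∧ Odd (Cfsg.charDegree (ψ : Subgroup.normalizer ((P : Subgroup G) : Set G) → ℂ))} ∧
    ((∀ χ : Cfsg.IrrCharacter G, Odd (Cfsg.charDegree (χ : G → ℂ)) → ∀ g : G, ((χ : G → ℂ) g).im = 0) ↔
      (commutator (P : Subgroup G) = frattini (P : Subgroup G) ∧ Subgroup.normalizer ((P : Subgroup G) : Set G) = (P : Subgroup G))) := by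
  refine ⟨Cfsg.Agent.Lib.helper79.card_realOdd_eq_normalizer (Nat.card G) G rfl P, ?_, ?_⟩
  · intro hR
    refine ⟨?_, le_antisymm ?_ Subgroup.le_normalizer⟩
    · exact (Cfsg.Agent.Lib.helper79.allLinReal_iff_commutator_eq_frattini P.isPGroup').mp
        (Cfsg.Agent.Lib.helper79.allLinReal_of_allOddReal (Nat.card G) G rfl hR P)
    · exact Cfsg.Agent.Lib.helper79.normalizer_le_of_allOddReal (Nat.card G) G rfl hR P
  · rintro ⟨h1, h2⟩
    exact Cfsg.Agent.Lib.helper79.allOddReal_of_allLinReal (Nat.card G) G rfl P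
      ((Cfsg.Agent.Lib.helper79.allLinReal_iff_commutator_eq_frattini P.isPGroup').mpr h1)
      (le_of_eq h2)

end Cfsg.Agent.S4581
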