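import Cfsg.Statements.S4582
import Mathlib.GroupTheory.Transfer

set_option autoImplicit false
open Cfsg

namespace Cfsg.Agent.S4582

open scoped commutatorElement

set_option maxHeartbeats 400000 in
theorem lemmaA {H : Type*} [Group H] [Finite H] (N P : Subgroup H) [N.Normal]
    (hNP : N ⊔ P = ⊤) (hidx : Odd P.index)
    (hP : ∀ x ∈ P, x ^ 2 ∈ (P ⊓ N) ⊔ ⁅P, P⁆)
    (hQ : ∀ x ∈ P ⊓ N, x ^ 2 ∈ ⁅P ⊓ N, P ⊓ N⁆)
    (hodd : Odd (Nat.card (Abelianization N))) :
    ∀ x ∈ P, x ^ 2 ∈ ⁅P, P⁆ := by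
  classical
  let ϕ : P →* Abelianization P := Abelianization.of
  -- kernel of ϕ
  have hk : ∀ x : P, ϕ x = 1 ↔ (x : H) ∈ ⁅P, P⁆ := by
    intro x
    rw [← MonoidHom.mem_ker, Abelianization.ker_of, ← Subgroup.map_subtype_commutator]
    constructor
    · intro hx
      exact ⟨x, hx, rfl⟩
    · rintro ⟨y, hy, hxy⟩
      have : y = x := Subtype.ext hxy
      rwa [← this]
  -- (i) squares of elements of `P ⊓ N` die
  have hi : ∀ q : P, (q : H) ∈ N → ϕ q ^ 2 = 1 := by
    intro q hq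
    rw [← map_pow, hk]
    exact Subgroup.commutator_mono inf_le_left inf_le_left (hQ q ⟨q.2, hq⟩)
  -- (iv) fourth powers die
  have hiv : ∀ x : P, ϕ x ^ 4 = 1 := by
    intro x
    let K₂ : Subgroup H := (((powMonoidHom 2 : Abelianization P →* Abelianization P).comp ϕ).ker).map P.subtype
    have h1 : (P ⊓ N) ⊔ ⁅P, P⁆ ≤ K₂ := by
      refine sup_le ?_ ?_
      · intro q hq
        refine ⟨⟨q, hq.1⟩, ?_, rfl⟩
        simp only [SetLike.mem_coe, MonoidHom.mem_ker, MonoidHom.comp_apply, powMonoidHom_apply]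
        exact hi ⟨q, hq.1⟩ hq.2
      · intro c hc
        have hcP : c ∈ P := Subgroup.commutator_le_self P hc
        refine ⟨⟨c, hcP⟩, ?_, rfl⟩
        simp only [SetLike.mem_coe, MonoidHom.mem_ker, MonoidHom.comp_apply, powMonoidHom_apply]
        rw [(hk ⟨c, hcP⟩).mpr hc, one_pow]
    obtain ⟨y, hy, hyx⟩ := h1 (hP x x.2)
    have hy' : y = x ^ 2 := Subtype.ext (by simpa using hyx)
    simp only [SetLike.mem_coe, MonoidHom.mem_ker, MonoidHom.comp_apply, powMonoidHom_apply] at hy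
    rw [hy', map_pow, ← pow_mul] at hy
    exact hy
  have hiv' : ∀ a : Abelianization P, a ^ 4 = 1 := by
    intro a
    obtain ⟨x, rfl⟩ : ∃ x, Abelianization.of x = a := Quot.exists_rep a
    exact hiv x
  let T : H →* Abelianization P := MonoidHom.transfer ϕ
  -- (iii) T kills N
  have hiii : ∀ n ∈ N, T n = 1 := by
    intro n hn
    have h1 : T n ^ Nat.card (Abelianization N) = 1 := by
      have := Abelianization.lift_apply_of (T.comp N.subtype) ⟨n, hn⟩
      have h2 : (Abelianization.of (⟨n, hn⟩ : N)) ^ Nat.card (Abelianization N) = 1 := pow_card_eq_one'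
      have h3 := congrArg (Abelianization.lift (T.comp N.subtype)) h2
      rw [map_pow, map_one, this] at h3
      simpa using h3
    have h4 : T n ^ 4 = 1 := hiv' _
    have h5 : orderOf (T n) ∣ Nat.gcd (Nat.card (Abelianization N)) 4 :=
      Nat.dvd_gcd (orderOf_dvd_of_pow_eq_one h1) (orderOf_dvd_of_pow_eq_one h4)
    have h6 : Nat.gcd (Nat.card (Abelianization N)) 4 = 1 := by
      have h7 : Nat.Coprime (Nat.card (Abelianization N)) (2 ^ 2) :=
        Nat.Coprime.pow_right 2 hodd.coprime_two_right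
      exact h7
    rw [h6, Nat.dvd_one, orderOf_eq_one_iff] at h5
    exact h5
  -- (v) T kills squares of elements of P
  have hv : ∀ x ∈ P, T (x ^ 2) = 1 := by
    intro x hx
    have h1 : (P ⊓ N) ⊔ ⁅P, P⁆ ≤ T.ker := by
      refine sup_le ?_ ?_
      · intro q hq
        exact hiii q hq.2
      · exact (Subgroup.commutator_mono le_top le_top).trans
          (Abelianization.commutator_subset_ker T)
    exact h1 (hP x hx)
  -- (vii) conjugation preserves ϕ(·)^2
  have hvii : ∀ (u : P) (y : H) (hmem : y⁻¹ * (u : H) * y ∈ P),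
      ϕ ⟨y⁻¹ * (u : H) * y, hmem⟩ ^ 2 = ϕ u ^ 2 := by
    intro u y hmem
    have hy : y ∈ N ⊔ P := by rw [hNP]; exact Subgroup.mem_top y
    obtain ⟨n, hn, p, hp, rfl⟩ := Subgroup.mem_sup_of_normal_left.mp hy
    -- w = n⁻¹ u n ∈ P
    have hw : n⁻¹ * (u : H) * n ∈ P := by
      have : n⁻¹ * (u : H) * n = p * ((n * p)⁻¹ * (u : H) * (n * p)) * p⁻¹ := by group
      rw [this]
      exact P.mul_mem (P.mul_mem hp hmem) (P.inv_mem hp)
    -- q' = u⁻¹ w ∈ P ⊓ N
    have hq'P : (u : H)⁻¹ * (n⁻¹ * (u : H) * n) ∈ P := P.mul_mem (P.inv_mem u.2) hw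
    have hq'N : (u : H)⁻¹ * (n⁻¹ * (u : H) * n) ∈ N := by
      have : (u : H)⁻¹ * (n⁻¹ * (u : H) * n) = ((u : H)⁻¹ * n⁻¹ * (u : H)) * n := by group
      rw [this]
      refine N.mul_mem ?_ hn
      have := ‹N.Normal›.conj_mem n⁻¹ (N.inv_mem hn) (u : H)⁻¹
      simpa using this
    have e1 : (⟨(n * p)⁻¹ * (u : H) * (n * p), hmem⟩ : P)
        = (⟨p, hp⟩ : P)⁻¹ * (u * ⟨(u : H)⁻¹ * (n⁻¹ * (u : H) * n), hq'P⟩) * ⟨p, hp⟩ := by
      apply Subtype.ext
      simp only [Subgroup.coe_mul, Subgroup.coe_inv]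
      group
    rw [e1, map_mul, map_mul, map_inv, mul_comm, mul_inv_cancel_left, map_mul, mul_pow,
      hi ⟨(u : H)⁻¹ * (n⁻¹ * (u : H) * n), hq'P⟩ hq'N, mul_one]
  -- (vi) T(x)^2 = ϕ(x)^(2 * index)
  intro x hx
  have hvi : T x ^ 2 = ϕ ⟨x, hx⟩ ^ (2 * P.index) := by
    have : Fintype (Quotient (MulAction.orbitRel (Subgroup.zpowers x) (H ⧸ P))) :=
      Fintype.ofFinite _
    rw [Subgroup.index_eq_sum_minimalPeriod P x, Finset.mul_sum, ← Finset.prod_pow_eq_pow_sum]
    show (MonoidHom.transfer ϕ x) ^ 2 = _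
    rw [MonoidHom.transfer_eq_prod_quotient_orbitRel_zpowers_quot, ← Finset.prod_pow]
    apply Finset.prod_congr rfl
    intro q _
    have := hvii (⟨x, hx⟩ ^ Function.minimalPeriod (x • ·) q.out) q.out.out
      (by simpa using QuotientGroup.out_conj_pow_minimalPeriod_mem P x q.out)
    rw [map_pow, ← pow_mul, mul_comm] at this
    rw [← this]
    rfl
  have h8 : ϕ ⟨x, hx⟩ ^ (2 * P.index) = 1 := by
    rw [← hvi, ← map_pow]
    exact hv x hx
  have h9 : ϕ ⟨x, hx⟩ ^ 4 = 1 := hiv _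
  have h10 : orderOf (ϕ ⟨x, hx⟩) ∣ Nat.gcd (2 * P.index) 4 :=
    Nat.dvd_gcd (orderOf_dvd_of_pow_eq_one h8) (orderOf_dvd_of_pow_eq_one h9)
  have h11 : Nat.gcd (2 * P.index) 4 = 2 := by
    have h12 : Nat.gcd (2 * P.index) (2 * 2) = 2 * Nat.gcd P.index 2 := Nat.gcd_mul_left 2 P.index 2
    have h13 : Nat.gcd P.index 2 = 1 := hidx.coprime_two_right
    rw [h13] at h12
    exact h12
  rw [h11] at h10
  have h14 : ϕ ⟨x, hx⟩ ^ 2 = 1 := orderOf_dvd_iff_pow_eq_one.mp h10
  rw [← map_pow, hk] at h14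
  exact h14

/-- Let N be a normal subgroup of the finite group G, P a Sylow 2-subgroup of G and Q = P ∩ N. Suppose that P/QP' and Q/Q' are elementary abelian (every square of an element of P lies in the subgroup generated by Q and the derived subgroup of P, and every square of an element of Q lies in the derived subgroup of Q), and that the commutator factor group N/N' has odd order. Then P/P' is elementary abelian. -/
theorem result {G : Type*} [Group G] [Finite G] (N : Subgroup G) [N.Normal] (P : Sylow 2 G)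
    (hP : ∀ x ∈ (P : Subgroup G), x ^ 2 ∈ ((P : Subgroup G) ⊓ N) ⊔ ⁅(P : Subgroup G), (P : Subgroup G)⁆)
    (hQ : ∀ x ∈ (P : Subgroup G) ⊓ N, x ^ 2 ∈ ⁅(P : Subgroup G) ⊓ N, (P : Subgroup G) ⊓ N⁆)
    (hodd : Odd (Nat.card (Abelianization N))) :
    ∀ x ∈ (P : Subgroup G), x ^ 2 ∈ ⁅(P : Subgroup G), (P : Subgroup G)⁆ := by
  have hNH : N ≤ N ⊔ (P : Subgroup G) := le_sup_left
  have hPH : (P : Subgroup G) ≤ N ⊔ (P : Subgroup G) := le_sup_right
  have hinj : Function.Injective (N ⊔ (P : Subgroup G)).subtype := Subgroup.subtype_injective _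
  have hsup : N.subgroupOf (N ⊔ (P : Subgroup G)) ⊔ (P : Subgroup G).subgroupOf (N ⊔ (P : Subgroup G)) = ⊤ := by
    rw [← Subgroup.subgroupOf_sup hNH hPH]
    exact Subgroup.subgroupOf_self _
  have hidx : Odd ((P : Subgroup G).subgroupOf (N ⊔ (P : Subgroup G))).index := by
    have h1 : (P : Subgroup G).relIndex (N ⊔ (P : Subgroup G)) * (N ⊔ (P : Subgroup G)).index
        = (P : Subgroup G).index := Subgroup.relIndex_mul_index hPH
    have h2 : ¬ 2 ∣ (P : Subgroup G).index := P.not_dvd_index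
    rw [← Nat.not_even_iff_odd, even_iff_two_dvd]
    intro h3
    exact h2 (h1 ▸ Dvd.dvd.mul_right h3 _)
  have m1 : (⁅(P : Subgroup G).subgroupOf (N ⊔ (P : Subgroup G)),
      (P : Subgroup G).subgroupOf (N ⊔ (P : Subgroup G))⁆).map (N ⊔ (P : Subgroup G)).subtype
      = ⁅(P : Subgroup G), (P : Subgroup G)⁆ := by
    rw [Subgroup.map_commutator, Subgroup.map_subgroupOf_eq_of_le hPH]
  have m0 : ((P : Subgroup G).subgroupOf (N ⊔ (P : Subgroup G)) ⊓ N.subgroupOf (N ⊔ (P : Subgroup G))).map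
      (N ⊔ (P : Subgroup G)).subtype = (P : Subgroup G) ⊓ N := by
    rw [Subgroup.map_inf _ _ _ hinj, Subgroup.map_subgroupOf_eq_of_le hPH,
      Subgroup.map_subgroupOf_eq_of_le hNH]
  have m2 : (((P : Subgroup G).subgroupOf (N ⊔ (P : Subgroup G)) ⊓ N.subgroupOf (N ⊔ (P : Subgroup G))) ⊔
      ⁅(P : Subgroup G).subgroupOf (N ⊔ (P : Subgroup G)),
      (P : Subgroup G).subgroupOf (N ⊔ (P : Subgroup G))⁆).map (N ⊔ (P : Subgroup G)).subtype
      = ((P : Subgroup G) ⊓ N) ⊔ ⁅(P : Subgroup G), (P : Subgroup G)⁆ := by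
    rw [Subgroup.map_sup, m0, m1]
  have m3 : (⁅(P : Subgroup G).subgroupOf (N ⊔ (P : Subgroup G)) ⊓ N.subgroupOf (N ⊔ (P : Subgroup G)),
      (P : Subgroup G).subgroupOf (N ⊔ (P : Subgroup G)) ⊓ N.subgroupOf (N ⊔ (P : Subgroup G))⁆).map
      (N ⊔ (P : Subgroup G)).subtype = ⁅(P : Subgroup G) ⊓ N, (P : Subgroup G) ⊓ N⁆ := by
    rw [Subgroup.map_commutator, m0]
  have hodd' : Odd (Nat.card (Abelianization (N.subgroupOf (N ⊔ (P : Subgroup G))))) := by
    have e := (Subgroup.subgroupOfEquivOfLe hNH).abelianizationCongr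
    rw [Nat.card_congr e.toEquiv]
    exact hodd
  have key := lemmaA (N.subgroupOf (N ⊔ (P : Subgroup G))) ((P : Subgroup G).subgroupOf (N ⊔ (P : Subgroup G)))
    hsup hidx ?_ ?_ hodd'
  · intro x hx
    have h1 := key ⟨x, hPH hx⟩ (by rw [Subgroup.mem_subgroupOf]; exact hx)
    rw [← Subgroup.mem_map_iff_mem hinj, m1] at h1
    simpa using h1
  · intro y hy
    rw [Subgroup.mem_subgroupOf] at hy
    rw [← Subgroup.mem_map_iff_mem hinj, m2]
    simpa using hP y hy
  · intro y hy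
    rw [← Subgroup.mem_map_iff_mem hinj, m0] at hy
    rw [← Subgroup.mem_map_iff_mem hinj, m3]
    simpa using hQ y hy

end Cfsg.Agent.S4582
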