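import Mathlib
import Cfsg.Statements.S4583
import Cfsg.Agent.Lib.helper58.PrincipalOver
-- import your own Cfsg.Agent.* helpers here

set_option autoImplicit false
open Cfsg

namespace Cfsg.Agent.S4583

/-- Let N be a normal subgroup of the finite group G, p a prime, M a maximal ideal of the algebraic integers containing p, and P a Sylow p-subgroup of G. Let θ be an irreducible character of N of degree prime to p lying in the principal p-block of N, and suppose θ extends to the subgroup NP (some irreducible character of NP restricts to θ). Then some irreducible character χ of G of degree prime to p in the principal p-block of G lies over θ (θ is a constituent of the restriction of χ to N). -/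
theorem result {G : Type*} [Group G] [Finite G] (N : Subgroup G) [N.Normal] (p : ℕ) [Fact p.Prime] (M : Ideal Cfsg.AlgInt) (hM : Cfsg.IsPModular p M) (P : Sylow p G)
    (θ : Cfsg.IrrCharacter N) (hθ : θ ∈ Cfsg.principalBlock M N) (hdeg : ¬ p ∣ Cfsg.charDegree (θ : N → ℂ))
    (hext : ∃ η : Cfsg.IrrCharacter ↥(N ⊔ (P : Subgroup G)), ∀ n : N, (η : ↥(N ⊔ (P : Subgroup G)) → ℂ) (Subgroup.inclusion le_sup_left n) = (θ : N → ℂ) n) :
    ∃ χ : Cfsg.IrrCharacter G, χ ∈ Cfsg.principalBlock M G ∧ ¬ p ∣ Cfsg.charDegree (χ : G → ℂ) ∧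
      haveI := Fintype.ofFinite N; Cfsg.classInner (fun n : N => (χ : G → ℂ) n) (θ : N → ℂ) ≠ 0 := by
  classical
  obtain ⟨η, hη⟩ := hext
  let _ : Fintype ↥(N ⊔ (P : Subgroup G)) := Fintype.ofFinite _
  let _ : Fintype N := Fintype.ofFinite N
  have hpp : p.Prime := Fact.out
  have hreg : ∀ k ∈ N ⊔ (P : Subgroup G), ¬ p ∣ orderOf k → k ∈ N := by
    intro k hk hko
    have hmem : k ∈ (↑(N ⊔ (P : Subgroup G)) : Set G) := hk
    rw [Subgroup.normal_mul] at hmem
    obtain ⟨n, hn, x, hx, rfl⟩ := Set.mem_mul.mp hmem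
    have h1 : orderOf (((n * x : G)) : G ⧸ N) ∣ orderOf (n * x) :=
      orderOf_map_dvd (QuotientGroup.mk' N) (n * x)
    have h2 : (((n * x : G)) : G ⧸ N) = ((x : G) : G ⧸ N) := by
      rw [QuotientGroup.mk_mul, (QuotientGroup.eq_one_iff n).mpr hn, one_mul]
    have h3 : orderOf ((x : G) : G ⧸ N) ∣ orderOf x := orderOf_map_dvd (QuotientGroup.mk' N) x
    obtain ⟨j, hj⟩ := (IsPGroup.iff_orderOf.mp P.isPGroup') ⟨x, hx⟩
    rw [Subgroup.orderOf_mk] at hj
    rw [hj, ← h2] at h3
    have hcop : (orderOf (((n * x : G)) : G ⧸ N)).Coprime (p ^ j) :=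
      Nat.Coprime.coprime_dvd_left h1
        (Nat.Coprime.pow_right j ((Nat.Prime.coprime_iff_not_dvd hpp).mpr hko).symm)
    have h4 : orderOf (((n * x : G)) : G ⧸ N) = 1 := Nat.Coprime.eq_one_of_dvd hcop h3
    rw [orderOf_eq_one_iff] at h4
    exact (QuotientGroup.eq_one_iff (n * x)).mp h4
  have hηB := Cfsg.Agent.Lib.helper58.mem_principalBlock_of_pRegular_le hM N
    (N ⊔ (P : Subgroup G)) le_sup_left hreg θ hθ η hη
  have hdegη : ¬ p ∣ Cfsg.charDegree (η : ↥(N ⊔ (P : Subgroup G)) → ℂ) := by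
    have h1 : (η : ↥(N ⊔ (P : Subgroup G)) → ℂ) 1 = (θ : N → ℂ) 1 := by
      have h2 := hη 1
      rw [map_one] at h2
      exact h2
    unfold Cfsg.charDegree
    rw [h1]
    exact hdeg
  have hidx : ¬ p ∣ (N ⊔ (P : Subgroup G)).index := fun h =>
    P.not_dvd_index (h.trans (Subgroup.index_dvd_of_le le_sup_right))
  obtain ⟨χ, hχB, hχd, hχη⟩ := Cfsg.Agent.Lib.helper58.exists_principal_pPrime_over hM
    (N ⊔ (P : Subgroup G)) hidx η hηB hdegη
  exact ⟨χ, hχB, hχd,
    Cfsg.Agent.Lib.helper58.classInner_restrict_ne_zero N (N ⊔ (P : Subgroup G)) le_sup_left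
      χ η θ hη hχη⟩

end Cfsg.Agent.S4583
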