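import Cfsg.Statements.S4585
import Cfsg.Agent.Lib.helper79.PFour

set_option autoImplicit false
open Cfsg

namespace Cfsg.Agent.S4585

open Cfsg.Agent.Lib.helper79 Cfsg.Agent.Lib.helper54

/-- Let p be a prime and P a group of order p^4. Then P' has index p^2 in P if and only if P has maximal nilpotency class, that is, nilpotency class exactly 3. -/
theorem result {P : Type*} [Group P] [Finite P] (p : ℕ) [Fact p.Prime] (hP : Nat.card P = p ^ 4) :
    (commutator P).index = p ^ 2 ↔ Group.nilpotencyClass P = 3 := by
  have hp : 0 < p := (Fact.out : p.Prime).pos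
  have hp1 : 1 < p := (Fact.out : p.Prime).one_lt
  have hPg : IsPGroup p P := IsPGroup.of_card hP
  have : Group.IsNilpotent P := hPg.isNilpotent
  have hγ1 : (⊤ : Subgroup P).lowerCentralSeries 1 = commutator P :=
    Subgroup.top_lowerCentralSeries_one
  have hstab : ∀ H : Subgroup P, H ≤ ⁅H, (⊤ : Subgroup P)⁆ → H = ⊥ := by
    intro H hH
    have key : ∀ n, H ≤ (⊤ : Subgroup P).lowerCentralSeries n := by
      intro n
      induction n with
      | zero => exact le_top
      | succ n ih =>
        rw [Subgroup.lowerCentralSeries_succ]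
        exact hH.trans (Subgroup.commutator_mono ih le_rfl)
    have h1 := key (Group.nilpotencyClass P)
    rw [Subgroup.lowerCentralSeries_nilpotencyClass] at h1
    exact le_bot_iff.mp h1
  have hclass2 : Group.nilpotencyClass P ≤ 2 ↔ commutator P ≤ Subgroup.center P := by
    rw [← Subgroup.lowerCentralSeries_eq_bot_iff_nilpotencyClass_le]
    show ⁅(⊤ : Subgroup P).lowerCentralSeries 1, ⊤⁆ = ⊥ ↔ _
    rw [hγ1, Subgroup.commutator_eq_bot_iff_le_centralizer, Subgroup.coe_top,
      Subgroup.centralizer_univ]
  have hclass3 : Group.nilpotencyClass P ≤ 3 ↔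
      ⁅⁅commutator P, (⊤ : Subgroup P)⁆, (⊤ : Subgroup P)⁆ = ⊥ := by
    rw [← Subgroup.lowerCentralSeries_eq_bot_iff_nilpotencyClass_le]
    show ⁅⁅(⊤ : Subgroup P).lowerCentralSeries 1, ⊤⁆, ⊤⁆ = ⊥ ↔ _
    rw [hγ1]
  have hmul := (commutator P).card_mul_index
  rw [hP] at hmul
  -- strictness
  have hlt : ∀ H : Subgroup P, H.Normal → H ≠ ⊥ → ⁅H, (⊤ : Subgroup P)⁆ < H := by
    intro H hHn hH
    refine lt_of_le_of_ne (Subgroup.commutator_le_left H ⊤) ?_
    intro h
    exact hH (hstab H h.ge)
  constructor
  · intro hidx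
    have hcard : Nat.card (commutator P) = p ^ 2 := by
      rw [hidx] at hmul
      exact Nat.eq_of_mul_eq_mul_right (pow_pos hp 2) (by rw [hmul]; ring)
    have hne : commutator P ≠ ⊥ := by
      intro h
      rw [h, Subgroup.card_bot] at hcard
      have : 1 < p ^ 2 := Nat.one_lt_pow (by norm_num) hp1
      omega
    have h2 : ¬ Group.nilpotencyClass P ≤ 2 := by
      rw [hclass2]
      intro hc
      have := card_commutator_of_le_center hP hc hne
      rw [hcard] at this
      have : p < p ^ 2 := by nlinarith
      omega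
    have h3 : Group.nilpotencyClass P ≤ 3 := by
      rw [hclass3]
      by_contra hne3
      have hγ2ne : ⁅commutator P, (⊤ : Subgroup P)⁆ ≠ ⊥ := by
        intro h
        apply hne3
        rw [h]
        exact Subgroup.commutator_bot_left ⊤
      have l1 := hlt (commutator P) inferInstance hne
      have l2 := hlt ⁅commutator P, (⊤ : Subgroup P)⁆ inferInstance hγ2ne
      have l3 : (⊥ : Subgroup P) < ⁅⁅commutator P, (⊤ : Subgroup P)⁆, (⊤ : Subgroup P)⁆ :=
        bot_lt_iff_ne_bot.mpr hne3
      have c1 := card_mul_le_of_lt hP l1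
      have c2 := card_mul_le_of_lt hP l2
      have c3 := card_mul_le_of_lt hP l3
      rw [Subgroup.card_bot] at c3
      rw [hcard] at c1
      have : p * p * p ≤ p ^ 2 := by
        calc p * p * p = 1 * p * p * p := by ring
          _ ≤ Nat.card (⁅⁅commutator P, (⊤ : Subgroup P)⁆, (⊤ : Subgroup P)⁆ : Subgroup P) * p * p :=
            Nat.mul_le_mul_right p (Nat.mul_le_mul_right p c3)
          _ ≤ Nat.card (⁅commutator P, (⊤ : Subgroup P)⁆ : Subgroup P) * p := Nat.mul_le_mul_right p c2
          _ ≤ p ^ 2 := c1
      have : p ^ 2 < p * p * p := by nlinarith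
      omega
    omega
  · intro hcl
    have h2 : ¬ commutator P ≤ Subgroup.center P := by
      rw [← hclass2]; omega
    have hγ2ne : ⁅commutator P, (⊤ : Subgroup P)⁆ ≠ ⊥ := by
      intro h
      apply h2
      rw [Subgroup.commutator_eq_bot_iff_le_centralizer, Subgroup.coe_top,
        Subgroup.centralizer_univ] at h
      exact h
    have hne : commutator P ≠ ⊥ := by
      intro h
      apply hγ2ne
      rw [h]
      exact Subgroup.commutator_bot_left ⊤
    have l1 := hlt (commutator P) inferInstance hne
    have l2 : (⊥ : Subgroup P) < ⁅commutator P, (⊤ : Subgroup P)⁆ := bot_lt_iff_ne_bot.mpr hγ2ne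
    have c1 := card_mul_le_of_lt hP l1
    have c2 := card_mul_le_of_lt hP l2
    rw [Subgroup.card_bot] at c2
    have hcard : p ^ 2 ≤ Nat.card (commutator P) := by
      calc p ^ 2 = 1 * p * p := by ring
        _ ≤ Nat.card (⁅commutator P, (⊤ : Subgroup P)⁆ : Subgroup P) * p := Nat.mul_le_mul_right p c2
        _ ≤ _ := c1
    obtain ⟨k, -, hk⟩ := (Nat.dvd_prime_pow Fact.out).mp
      (hP ▸ Subgroup.index_dvd_card (commutator P))
    have hk0 : k ≠ 0 := by
      rintro rfl
      rw [pow_zero, Subgroup.index_eq_one] at hk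
      have h1 : (⊤ : Subgroup P) = ⊥ := by
        apply hstab
        have h3 : ⁅(⊤ : Subgroup P), (⊤ : Subgroup P)⁆ = commutator P := rfl
        rw [h3, hk]
      exact hne (by rw [hk, h1])
    have hk1 : k ≠ 1 := by
      rintro rfl
      rw [pow_one] at hk
      have hcard3 : Nat.card (commutator P) = p ^ 3 := by
        rw [hk] at hmul
        exact Nat.eq_of_mul_eq_mul_right hp (by rw [hmul]; ring)
      have hnetop : commutator P ≠ ⊤ := by
        intro h
        rw [h, Subgroup.index_top] at hk
        omega
      obtain ⟨x, hx⟩ : ∃ x : P, x ∉ commutator P := by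
        by_contra hcon
        push Not at hcon
        exact hnetop (eq_top_iff.mpr (fun g _ => hcon g))
      have l3 : commutator P < Subgroup.zpowers x ⊔ commutator P := by
        refine lt_of_le_of_ne le_sup_right ?_
        intro h
        apply hx
        rw [h]
        exact Subgroup.mem_sup_left (Subgroup.mem_zpowers x)
      have c3 := card_mul_le_of_lt hP l3
      rw [hcard3] at c3
      have htop : Subgroup.zpowers x ⊔ commutator P = ⊤ := by
        apply (Subgroup.card_eq_iff_eq_top _).mp
        rw [hP]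
        apply le_antisymm
        · rw [← hP]; exact Subgroup.card_le_card_group _
        · calc p ^ 4 = p ^ 3 * p := by ring
            _ ≤ _ := c3
      have hz := eq_top_of_sup_commutator_eq_top hPg htop
      apply hne
      rw [commutator_eq_bot_iff]
      refine ⟨⟨fun a b => ?_⟩⟩
      have ha : a ∈ Subgroup.zpowers x := hz ▸ Subgroup.mem_top a
      have hb : b ∈ Subgroup.zpowers x := hz ▸ Subgroup.mem_top b
      obtain ⟨m, rfl⟩ := Subgroup.mem_zpowers_iff.mp ha
      obtain ⟨n, rfl⟩ := Subgroup.mem_zpowers_iff.mp hb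
      exact zpow_mul_comm x m n
    have hk2 : k ≤ 2 := by
      by_contra hcon
      push Not at hcon
      have h3 : p ^ 3 ≤ p ^ k := Nat.pow_le_pow_right hp hcon
      rw [← hk] at h3
      have : p ^ 2 * p ^ 3 ≤ Nat.card (commutator P) * (commutator P).index :=
        Nat.mul_le_mul hcard h3
      rw [hmul] at this
      have : p ^ 4 < p ^ 2 * p ^ 3 := by
        have : p ^ 2 * p ^ 3 = p ^ 4 * p := by ring
        rw [this]
        have : 0 < p ^ 4 := pow_pos hp 4
        nlinarith
      omega
    have hk' : k = 2 := by omega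
    rw [hk, hk']

end Cfsg.Agent.S4585
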