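import Cfsg.Statements.S4586
import Cfsg.Agent.Lib.helper79.PFour

set_option autoImplicit false
open Cfsg

namespace Cfsg.Agent.S4586

open Cfsg.Agent.Lib.helper79
open scoped commutatorElement

variable {P : Type*} [Group P]

/-- In a finite group, a subgroup stable under conjugation by a generating set is normal. -/
theorem normal_of_generators [Finite P] (K : Subgroup P) (S : Set P)
    (hS : Subgroup.closure S = ⊤) (h : ∀ s ∈ S, ∀ y ∈ K, s * y * s⁻¹ ∈ K) : K.Normal := by
  let T : Submonoid P :=
    { carrier := {g | ∀ y ∈ K, g * y * g⁻¹ ∈ K}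
      one_mem' := by
        intro y hy
        simpa using hy
      mul_mem' := by
        intro a b ha hb y hy
        have := ha _ (hb y hy)
        have e : a * b * y * (a * b)⁻¹ = a * (b * y * b⁻¹) * a⁻¹ := by group
        rw [e]; exact this }
  have hpow : ∀ g ∈ T, g⁻¹ ∈ T := by
    intro g hg
    have h1 : g⁻¹ ∈ Submonoid.powers g := by
      rw [mem_powers_iff_mem_zpowers]
      exact Subgroup.inv_mem _ (Subgroup.mem_zpowers g)
    obtain ⟨k, hk⟩ := h1
    rw [← hk]; exact T.pow_mem hg k
  have hall : ∀ g : P, g ∈ T := by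
    intro g
    have hg : g ∈ Subgroup.closure S := hS ▸ Subgroup.mem_top g
    induction hg using Subgroup.closure_induction with
    | mem s hs => exact h s hs
    | one => exact T.one_mem
    | mul a b _ _ ha hb => exact T.mul_mem ha hb
    | inv a _ ha => exact hpow a ha
  exact ⟨fun y hy g => hall g y hy⟩

/-- The map `n ↦ [x, n]` from `N` to its abelianization. -/
noncomputable def delta (N : Subgroup P) [N.Normal] (x : P) : N →* Abelianization N :=
  (Abelianization.of.comp (MulAut.conjNormal x : N ≃* N).toMonoidHom) / Abelianization.of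

theorem delta_apply (N : Subgroup P) [N.Normal] (x : P) (n : N) :
    delta N x n = Abelianization.of (MulAut.conjNormal x n * n⁻¹) := by
  simp [delta, div_eq_mul_inv]

theorem coe_mem_map_subtype (N : Subgroup P) (H : Subgroup N) (m : N) :
    (m : P) ∈ H.map N.subtype ↔ m ∈ H := by
  constructor
  · rintro ⟨c, hc, hceq⟩
    have : c = m := Subtype.ext hceq
    rw [← this]; exact hc
  · intro h
    exact ⟨m, h, rfl⟩

theorem key [Finite P] (p : ℕ) [Fact p.Prime] (N : Subgroup P) [N.Normal] (hN : N.index = p)
    (x : P) (hx : x ∉ N) :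
    (commutator P).index * Nat.card (commutator N) =
      p * Nat.card {n : N // x * n * x⁻¹ * (n : P)⁻¹ ∈ (commutator N).map N.subtype} := by
  classical
  have hp : 0 < p := (Fact.out : p.Prime).pos
  set g := delta N x with hg
  set R := g.range with hR
  set K : Subgroup P := (R.comap Abelianization.of).map N.subtype with hK
  have hcoe : ∀ n : N, ((MulAut.conjNormal x n * n⁻¹ : N) : P) = x * n * x⁻¹ * (n : P)⁻¹ := by
    intro n
    simp [MulAut.conjNormal_apply]
  -- c(x) = |ker g|
  have hcx : Nat.card {n : N // x * n * x⁻¹ * (n : P)⁻¹ ∈ (commutator N).map N.subtype} =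
      Nat.card g.ker := by
    apply Nat.card_congr
    apply Equiv.subtypeEquivRight
    intro n
    rw [MonoidHom.mem_ker, hg, delta_apply, ← MonoidHom.mem_ker, Abelianization.ker_of, ← hcoe n,
      coe_mem_map_subtype]
  have hd : Nat.card N = Nat.card g.ker * Nat.card R := by
    rw [hR, ← Subgroup.index_ker, Subgroup.card_mul_index]
  -- |K| = |N'| * |R|
  have hsurj : Function.Surjective (Abelianization.of : N →* Abelianization N) :=
    QuotientGroup.mk_surjective
  have hcK : Nat.card K = Nat.card (commutator N) * Nat.card R := by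
    rw [hK, Subgroup.card_map_of_injective N.subtype_injective]
    have h1 := (R.comap (Abelianization.of : N →* Abelianization N)).card_mul_index
    rw [Subgroup.index_comap_of_surjective R hsurj] at h1
    have h2 := R.card_mul_index
    have h3 := (commutator N).card_mul_index
    have h4 : (commutator N).index = Nat.card (Abelianization N) := rfl
    rw [h4, ← h2] at h3
    have hpos : 0 < R.index := Nat.pos_of_ne_zero Subgroup.index_ne_zero_of_finite
    apply Nat.eq_of_mul_eq_mul_right hpos
    rw [h1, ← h3]; ring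
  -- K ≤ P'
  have hmapcomm : (commutator N).map N.subtype ≤ commutator P := by
    rw [commutator_def, Subgroup.map_commutator]
    exact Subgroup.commutator_mono le_top le_top
  have hKle : K ≤ commutator P := by
    rintro _ ⟨m, hm, rfl⟩
    rw [SetLike.mem_coe, Subgroup.mem_comap] at hm
    obtain ⟨n, hn⟩ := hm
    rw [hg, delta_apply] at hn
    have h1 : (MulAut.conjNormal x n * n⁻¹)⁻¹ * m ∈ commutator N := by
      rw [← Abelianization.ker_of, MonoidHom.mem_ker, map_mul, map_inv, hn, inv_mul_cancel]
    have h2 : ((MulAut.conjNormal x n * n⁻¹ : N) : P) ∈ commutator P := by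
      rw [hcoe]
      exact Subgroup.commutator_mem_commutator (Subgroup.mem_top x) (Subgroup.mem_top (n : P))
    have h3 : (((MulAut.conjNormal x n * n⁻¹)⁻¹ * m : N) : P) ∈ commutator P :=
      hmapcomm ((coe_mem_map_subtype N _ _).mpr h1)
    have h4 : (m : P) = ((MulAut.conjNormal x n * n⁻¹ : N) : P) *
        (((MulAut.conjNormal x n * n⁻¹)⁻¹ * m : N) : P) := by
      rw [← Subgroup.coe_mul, mul_inv_cancel_left]
    show (m : P) ∈ commutator P
    rw [h4]
    exact Subgroup.mul_mem _ h2 h3
  -- generation
  have hgen : Subgroup.closure ((N : Set P) ∪ {x}) = ⊤ := by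
    have h1 : N ≤ Subgroup.closure ((N : Set P) ∪ {x}) := fun n hn =>
      Subgroup.subset_closure (Or.inl hn)
    have h2 : x ∈ Subgroup.closure ((N : Set P) ∪ {x}) := Subgroup.subset_closure (Or.inr rfl)
    have h3 := Subgroup.relIndex_mul_index h1
    rw [hN] at h3
    have h4 : N.relIndex (Subgroup.closure ((N : Set P) ∪ {x})) ≠ 1 := by
      intro h
      rw [Subgroup.relIndex_eq_one] at h
      exact hx (h h2)
    rcases (Nat.dvd_prime (Fact.out : p.Prime)).mp (Dvd.intro_left _ h3) with h5 | h5
    · exact Subgroup.index_eq_one.mp h5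
    · rw [h5] at h3
      have : N.relIndex (Subgroup.closure ((N : Set P) ∪ {x})) = 1 := by
        have : N.relIndex (Subgroup.closure ((N : Set P) ∪ {x})) * p = 1 * p := by rw [h3, one_mul]
        exact Nat.eq_of_mul_eq_mul_right hp this
      exact absurd this h4
  -- membership in K
  have hKmem : ∀ m : N, (m : P) ∈ K ↔ Abelianization.of m ∈ R := by
    intro m
    rw [hK, coe_mem_map_subtype, Subgroup.mem_comap]
  have hKN : K ≤ N := Subgroup.map_subtype_le _
  -- K normal
  have hKn : K.Normal := by
    apply normal_of_generators K _ hgen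
    intro s hs y hy
    have hyN : y ∈ N := hKN hy
    have hy' : Abelianization.of (⟨y, hyN⟩ : N) ∈ R := (hKmem ⟨y, hyN⟩).mp hy
    rcases hs with hs | hs
    · have e : s * y * s⁻¹ = (((⟨s, hs⟩ : N) * ⟨y, hyN⟩ * (⟨s, hs⟩ : N)⁻¹ : N) : P) := rfl
      rw [e, hKmem, map_mul, map_mul, map_inv, mul_comm, inv_mul_cancel_left]
      exact hy'
    · have hs' : s = x := hs
      have e : s * y * s⁻¹ = ((MulAut.conjNormal x (⟨y, hyN⟩ : N) : N) : P) := by
        rw [hs', MulAut.conjNormal_apply]
      rw [e, hKmem]
      have h1 : Abelianization.of (MulAut.conjNormal x (⟨y, hyN⟩ : N)) =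
          g ⟨y, hyN⟩ * Abelianization.of (⟨y, hyN⟩ : N) := by
        rw [hg, delta_apply, map_mul, map_inv, inv_mul_cancel_right]
      rw [h1]
      exact R.mul_mem ⟨_, rfl⟩ hy'
  -- P' ≤ K
  have hleK : commutator P ≤ K := by
    apply commutator_le_of_generators K _ hgen
    have hNN : ∀ s ∈ N, ∀ t ∈ N, ⁅s, t⁆ ∈ K := by
      intro s hs t ht
      have e : ⁅s, t⁆ = ((⁅(⟨s, hs⟩ : N), (⟨t, ht⟩ : N)⁆ : N) : P) := rfl
      rw [e, hKmem]
      have : ⁅(⟨s, hs⟩ : N), (⟨t, ht⟩ : N)⁆ ∈ (Abelianization.of : N →* Abelianization N).ker := by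
        rw [Abelianization.ker_of]
        exact Subgroup.commutator_mem_commutator (Subgroup.mem_top _) (Subgroup.mem_top _)
      rw [MonoidHom.mem_ker.mp this]
      exact R.one_mem
    have hxN : ∀ t ∈ N, ⁅x, t⁆ ∈ K := by
      intro t ht
      have e : ⁅x, t⁆ = ((MulAut.conjNormal x (⟨t, ht⟩ : N) * (⟨t, ht⟩ : N)⁻¹ : N) : P) := by
        rw [hcoe]; rfl
      rw [e, hKmem, ← delta_apply]
      exact ⟨_, rfl⟩
    intro s hs t ht
    rcases hs with hs | hs
    · rcases ht with ht | ht
      · exact hNN s hs t ht
      · have ht' : t = x := ht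
        rw [ht', ← commutatorElement_inv x s]
        exact K.inv_mem (hxN s hs)
    · have hs' : s = x := hs
      rcases ht with ht | ht
      · rw [hs']; exact hxN t ht
      · have ht' : t = x := ht
        rw [hs', ht', commutatorElement_self]; exact K.one_mem
  have hPK : commutator P = K := le_antisymm hleK hKle
  -- counting
  have ha := (commutator P).card_mul_index
  have hb := N.card_mul_index
  rw [hN] at hb
  rw [hPK, hcK, ← hb, hd] at ha
  rw [hcx]
  have hRpos : 0 < Nat.card R := Nat.card_pos
  apply Nat.eq_of_mul_eq_mul_right hRpos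
  rw [← hPK] at ha
  calc (commutator P).index * Nat.card (commutator N) * Nat.card R
      = Nat.card (commutator N) * Nat.card R * (commutator P).index := by ring
    _ = Nat.card g.ker * Nat.card R * p := ha
    _ = p * Nat.card g.ker * Nat.card R := by ring

/-- Let p be a prime, P a finite p-group and N a normal subgroup of P of index p. For x ∈ P write c(x) for the number of elements n of N whose commutator x n x⁻¹ n⁻¹ lies in the derived subgroup N' (so c(x)/#N' is the order of the centralizer of x acting on N/N'). Then [P : P'] = p² if and only if c(x) = p·#N' for every x ∈ P outside N, and also if and only if c(x) = p·#N' for some x ∈ P outside N. -/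
theorem result {P : Type*} [Group P] [Finite P] (p : ℕ) [Fact p.Prime] (hP : IsPGroup p P) (N : Subgroup P) [N.Normal] (hN : N.index = p) :
    ((commutator P).index = p ^ 2 ↔ ∀ x : P, x ∉ N →
        Nat.card {n : N // x * n * x⁻¹ * (n : P)⁻¹ ∈ (commutator N).map N.subtype} = p * Nat.card (commutator N)) ∧
    ((commutator P).index = p ^ 2 ↔ ∃ x : P, x ∉ N ∧
        Nat.card {n : N // x * n * x⁻¹ * (n : P)⁻¹ ∈ (commutator N).map N.subtype} = p * Nat.card (commutator N)) := by
  have hp : 0 < p := (Fact.out : p.Prime).pos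
  have hp1 : 1 < p := (Fact.out : p.Prime).one_lt
  have hcpos : 0 < Nat.card (commutator N) := Nat.card_pos
  have hNtop : N ≠ ⊤ := by
    intro h
    rw [h, Subgroup.index_top] at hN
    omega
  obtain ⟨x₀, hx₀⟩ : ∃ x : P, x ∉ N := by
    by_contra hcon
    push Not at hcon
    exact hNtop (eq_top_iff.mpr (fun g _ => hcon g))
  have fwd : ∀ x : P, x ∉ N → (commutator P).index = p ^ 2 →
      Nat.card {n : N // x * n * x⁻¹ * (n : P)⁻¹ ∈ (commutator N).map N.subtype} =
        p * Nat.card (commutator N) := by
    intro x hx hidx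
    have hk := key p N hN x hx
    rw [hidx] at hk
    apply Nat.eq_of_mul_eq_mul_left hp
    rw [← hk]; ring
  have bwd : ∀ x : P, x ∉ N →
      Nat.card {n : N // x * n * x⁻¹ * (n : P)⁻¹ ∈ (commutator N).map N.subtype} =
        p * Nat.card (commutator N) → (commutator P).index = p ^ 2 := by
    intro x hx hc
    have hk := key p N hN x hx
    rw [hc] at hk
    apply Nat.eq_of_mul_eq_mul_right hcpos
    rw [hk]; ring
  refine ⟨⟨fun h x hx => fwd x hx h, fun h => bwd x₀ hx₀ (h x₀ hx₀)⟩,
    ⟨fun h => ⟨x₀, hx₀, fwd x₀ hx₀ h⟩, fun ⟨x, hx, hc⟩ => bwd x hx hc⟩⟩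

end Cfsg.Agent.S4586
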