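import Mathlib
import Cfsg.Statements.S4591
import Cfsg.Agent.Lib.helper58.PPrimeOver
import Cfsg.Agent.Lib.helper58.PPrimeKerGT
import Cfsg.Agent.Lib.helper58.PPrimeKerRep
-- import your own Cfsg.Agent.* helpers here

set_option autoImplicit false
open Cfsg

namespace Cfsg.Agent.S4591

/-- Let G be a finite group, p a prime and P a Sylow p-subgroup, and let N be the largest normal subgroup of G in which P has trivial centralizer (N is normal with C_N(P) = 1 and contains every normal subgroup with that property). Then the intersection of the kernels of the irreducible characters of G of degree prime to p is the normal core in G of the subgroup N·P' (P' the derived subgroup of P). In particular, when G has no nontrivial normal subgroup of order prime to p, that intersection is the normal core of P'. -/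
theorem result {G : Type*} [Group G] [Finite G] (p : ℕ) [Fact p.Prime] (P : Sylow p G) (N : Subgroup G) [N.Normal]
    (hN : N ⊓ Subgroup.centralizer ((P : Subgroup G) : Set G) = ⊥)
    (hmax : ∀ L : Subgroup G, L.Normal → L ⊓ Subgroup.centralizer ((P : Subgroup G) : Set G) = ⊥ → L ≤ N) :
    {g : G | ∀ χ : Cfsg.IrrCharacter G, ¬ p ∣ Cfsg.charDegree (χ : G → ℂ) → (χ : G → ℂ) g = (χ : G → ℂ) 1} =
      ((N ⊔ ⁅(P : Subgroup G), (P : Subgroup G)⁆).normalCore : Set G) := by
  classical
  obtain ⟨K, hKn, hK⟩ := Cfsg.Agent.Lib.helper58.exists_pPrimeKer p G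
  have h1 : K ≤ N ⊔ ⁅(P : Subgroup G), (P : Subgroup G)⁆ :=
    Cfsg.Agent.Lib.helper58.le_sup_commutator_of_pPrime_ker P N hmax K
      (fun H hidx x hxH hxK =>
        Cfsg.Agent.Lib.helper58.mem_commutator_of_pPrime_ker H hidx x hxH ((hK x).1 hxK))
  have h2 : K ≤ (N ⊔ ⁅(P : Subgroup G), (P : Subgroup G)⁆).normalCore :=
    (Subgroup.normal_le_normalCore).2 h1
  ext g
  constructor
  · intro hg
    exact h2 ((hK g).2 hg)
  · intro hg χ hdeg
    exact Cfsg.Agent.Lib.helper58.irr_eq_of_mem_sup_commutator P N hN
      (N ⊔ ⁅(P : Subgroup G), (P : Subgroup G)⁆).normalCore (Subgroup.normalCore_le _)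
      χ hdeg g hg

end Cfsg.Agent.S4591
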