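import Cfsg.Statements.S4593
import Cfsg.Agent.S0215
import Cfsg.Agent.Lib.helper18.AbelSylow

set_option autoImplicit false
open Cfsg

namespace Cfsg.Agent.S4593

open Cfsg.Agent.Lib.helper18

lemma ord_two {H : Type*} [Group H] {a : H} (h1 : a * a = 1) (h2 : a ≠ 1) : orderOf a = 2 := by
  have : Fact (Nat.Prime 2) := ⟨Nat.prime_two⟩
  exact orderOf_eq_prime (by rw [pow_two]; exact h1) h2

/-- The semidirect product step: a `2`-group `A` of automorphisms centralizing the abelian
Sylow `2`-subgroup `P`. Every element `a₀` of `A` has an odd power `a₀ ^ m` and an element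
`p ∈ P` such that the involutions among the powers of `(p, a₀ ^ m)` are central in `G ⋊ A`. -/
theorem central_aux {G : Type*} [Group G] [Finite G]
    (hcore : Cfsg.pPrimeCore 2 G = ⊥) (P : Sylow 2 G)
    (hab : IsMulCommutative (P : Subgroup G)) (A : Subgroup (MulAut G))
    (hAcomm : ∀ a b : ↥A, a * b = b * a) (n : ℕ) (hAcard : Nat.card ↥A = 2 ^ n)
    (hfixA : ∀ a : ↥A, ∀ x ∈ (P : Subgroup G), (a : MulAut G) x = x) (a₀ : ↥A) :
    ∃ p ∈ (P : Subgroup G), ∃ m : ℕ, Odd m ∧ ∀ i : ℕ, p ^ (2 * i) = 1 → a₀ ^ (2 * (m * i)) = 1 →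
      (p ^ i ≠ 1 ∨ a₀ ^ (m * i) ≠ 1) →
      ∀ g : G, ((a₀ ^ (m * i) : ↥A) : MulAut G) g = (p ^ i)⁻¹ * g * p ^ i := by
  classical
  have : Fact (Nat.Prime 2) := ⟨Nat.prime_two⟩
  have hfinΓ : Finite (SemidirectProduct G ↥A A.subtype) :=
    Finite.of_equiv _ SemidirectProduct.equivProd.symm
  have hPcomm : ∀ x ∈ (P : Subgroup G), ∀ y ∈ (P : Subgroup G), x * y = y * x := by
    intro x hx y hy
    have := hab.is_comm.comm (⟨x, hx⟩ : ↥(P : Subgroup G)) ⟨y, hy⟩
    exact congrArg Subtype.val this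
  -- the subgroup `P × A`
  let R₀ : Subgroup (SemidirectProduct G ↥A A.subtype) :=
    { carrier := {x | x.left ∈ (P : Subgroup G)}
      mul_mem' := by
        intro x y hx hy
        show (x * y).left ∈ (P : Subgroup G)
        rw [SemidirectProduct.mul_left]
        have : (A.subtype x.right) y.left = y.left := hfixA x.right y.left hy
        rw [this]
        exact Subgroup.mul_mem _ hx hy
      one_mem' := by
        show (1 : SemidirectProduct G ↥A A.subtype).left ∈ (P : Subgroup G)
        rw [SemidirectProduct.one_left]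
        exact Subgroup.one_mem _
      inv_mem' := by
        intro x hx
        show (x⁻¹).left ∈ (P : Subgroup G)
        rw [SemidirectProduct.inv_left]
        have : (A.subtype x.right⁻¹) x.left⁻¹ = x.left⁻¹ :=
          hfixA x.right⁻¹ x.left⁻¹ (Subgroup.inv_mem _ hx)
        rw [this]
        exact Subgroup.inv_mem _ hx }
  have hR₀mem : ∀ x : SemidirectProduct G ↥A A.subtype, x ∈ R₀ ↔ x.left ∈ (P : Subgroup G) :=
    fun x => Iff.rfl
  have hR₀comm : ∀ x ∈ R₀, ∀ y ∈ R₀, x * y = y * x := by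
    intro x hx y hy
    apply SemidirectProduct.ext
    · rw [SemidirectProduct.mul_left, SemidirectProduct.mul_left]
      have h1 : (A.subtype x.right) y.left = y.left := hfixA x.right y.left hy
      have h2 : (A.subtype y.right) x.left = x.left := hfixA y.right x.left hx
      rw [h1, h2]
      exact hPcomm _ hx _ hy
    · rw [SemidirectProduct.mul_right, SemidirectProduct.mul_right]
      exact hAcomm _ _
  -- cardinality of `R₀`
  have hR₀card : Nat.card R₀ = Nat.card (P : Subgroup G) * Nat.card ↥A := by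
    rw [← Nat.card_prod]
    apply Nat.card_congr
    exact
      { toFun := fun x => (⟨x.1.left, x.2⟩, x.1.right)
        invFun := fun y => ⟨⟨y.1.1, y.2⟩, y.1.2⟩
        left_inv := by
          intro x
          rfl
        right_inv := by
          intro y
          rfl }
  have hR₀p : IsPGroup 2 R₀ := by
    obtain ⟨e, he⟩ := IsPGroup.exists_card_eq P.isPGroup'
    apply IsPGroup.of_card (n := e + n)
    rw [hR₀card, hAcard, pow_add]
    congr 1
  have hR₀idx : ¬ 2 ∣ R₀.index := by
    have h1 : Nat.card R₀ * R₀.index = Nat.card (SemidirectProduct G ↥A A.subtype) :=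
      Subgroup.card_mul_index R₀
    rw [SemidirectProduct.card, hR₀card] at h1
    have h2 : Nat.card (P : Subgroup G) * (P : Subgroup G).index = Nat.card G :=
      Subgroup.card_mul_index _
    have hApos : 0 < Nat.card ↥A := Nat.card_pos
    have hPpos : 0 < Nat.card (P : Subgroup G) := Nat.card_pos
    have h3 : R₀.index = (P : Subgroup G).index := by
      have : Nat.card (P : Subgroup G) * Nat.card ↥A * R₀.index
          = Nat.card (P : Subgroup G) * Nat.card ↥A * (P : Subgroup G).index := by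
        rw [h1, ← h2]; ring
      exact Nat.eq_of_mul_eq_mul_left (Nat.mul_pos hPpos hApos) this
    rw [h3]
    exact P.not_dvd_index
  obtain ⟨R, hR⟩ : ∃ R : Sylow 2 (SemidirectProduct G ↥A A.subtype), (R : Subgroup _) = R₀ :=
    ⟨hR₀p.toSylow hR₀idx, IsPGroup.toSylow_coe _ _⟩
  have hRmem : ∀ x : SemidirectProduct G ↥A A.subtype, x ∈ R ↔ x.left ∈ (P : Subgroup G) := by
    intro x
    rw [← hR₀mem, ← hR]
    exact Iff.rfl
  have hRcomm : ∀ x ∈ R, ∀ y ∈ R, x * y = y * x := by
    intro x hx y hy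
    exact hR₀comm x ((hRmem x).mp hx) y ((hRmem y).mp hy)
  -- no nontrivial normal subgroup of odd order
  have hO : ∀ N : Subgroup (SemidirectProduct G ↥A A.subtype), N.Normal → Odd (Nat.card N) →
      ∀ x ∈ N, x = 1 := by
    intro N hN hodd x hx
    have hr : x.right = 1 := by
      have h1 : orderOf x.right ∣ 2 ^ n := by
        rw [← hAcard]
        exact orderOf_dvd_natCard _
      have h2 : orderOf x.right ∣ Nat.card N := by
        have h3 : orderOf (⟨x, hx⟩ : ↥N) ∣ Nat.card N := orderOf_dvd_natCard _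
        have h4 : orderOf x.right ∣ orderOf x := by
          have : x.right = SemidirectProduct.rightHom x := rfl
          rw [this]
          exact orderOf_map_dvd _ _
        have h5 : orderOf (⟨x, hx⟩ : ↥N) = orderOf x := Subgroup.orderOf_mk x hx
        rw [h5] at h3
        exact h4.trans h3
      have h6 : orderOf x.right ∣ Nat.gcd (2 ^ n) (Nat.card N) := Nat.dvd_gcd h1 h2
      have h7 : Nat.gcd (2 ^ n) (Nat.card N) = 1 := by
        apply Nat.Coprime.pow_left
        exact Nat.coprime_two_left.mpr hodd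
      rw [h7, Nat.dvd_one] at h6
      exact orderOf_eq_one_iff.mp h6
    have hxl : x = SemidirectProduct.inl x.left := by
      apply SemidirectProduct.ext
      · rfl
      · rw [hr]; rfl
    have hM : (N.comap (SemidirectProduct.inl : G →* SemidirectProduct G ↥A A.subtype)).Normal :=
      hN.comap _
    have hMc : (Nat.card (N.comap
        (SemidirectProduct.inl : G →* SemidirectProduct G ↥A A.subtype))).Coprime 2 := by
      have hdvd := Subgroup.card_comap_dvd_of_injective N
        (SemidirectProduct.inl : G →* SemidirectProduct G ↥A A.subtype)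
        SemidirectProduct.inl_injective
      have : (Nat.card N).Coprime 2 := Nat.coprime_two_right.mpr hodd
      exact Nat.Coprime.coprime_dvd_left hdvd this
    have hMle : N.comap (SemidirectProduct.inl : G →* SemidirectProduct G ↥A A.subtype)
        ≤ Cfsg.pPrimeCore 2 G := by
      unfold Cfsg.pPrimeCore
      exact le_sSup ⟨hM, hMc⟩
    rw [hcore] at hMle
    have hxM : x.left ∈ N.comap
        (SemidirectProduct.inl : G →* SemidirectProduct G ↥A A.subtype) := by
      rw [Subgroup.mem_comap, ← hxl]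
      exact hx
    have := hMle hxM
    rw [Subgroup.mem_bot] at this
    rw [hxl, this, map_one]
  -- the averaged element
  let instA : CommGroup ↥A :=
    { (inferInstance : Group ↥A) with mul_comm := hAcomm }
  have ha₀R : (SemidirectProduct.inr a₀ : SemidirectProduct G ↥A A.subtype) ∈ R := by
    rw [hRmem, SemidirectProduct.left_inr]
    exact Subgroup.one_mem _
  obtain ⟨b, hbR, hbfix, m, hm, hbφ⟩ := exists_normalizer_fixed R hRcomm
    (A := ↥A) (SemidirectProduct.rightHom : SemidirectProduct G ↥A A.subtype →* ↥A)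
    (SemidirectProduct.inr a₀) ha₀R
  have hbr : b.right = a₀ ^ m := by
    have h1 : SemidirectProduct.rightHom b = b.right := rfl
    have h2 : SemidirectProduct.rightHom
        (SemidirectProduct.inr a₀ : SemidirectProduct G ↥A A.subtype) = a₀ := rfl
    rw [h1, h2] at hbφ
    exact hbφ
  have hbP : b.left ∈ (P : Subgroup G) := (hRmem b).mp hbR
  have hpowR : ∀ i : ℕ, b ^ i ∈ R := fun i => Subgroup.pow_mem _ hbR i
  have hpowl : ∀ i : ℕ, (b ^ i).left = b.left ^ i := by
    intro i
    induction i with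
    | zero => simp
    | succ i ih =>
      rw [pow_succ, SemidirectProduct.mul_left, ih, pow_succ]
      have : (A.subtype (b ^ i).right) b.left = b.left := hfixA _ _ hbP
      rw [this]
  have hpowr : ∀ i : ℕ, (b ^ i).right = a₀ ^ (m * i) := by
    intro i
    have h1 : (b ^ i).right = SemidirectProduct.rightHom (b ^ i) := rfl
    rw [h1, map_pow, pow_mul, ← hbr]
    rfl
  refine ⟨b.left, hbP, m, Nat.odd_iff.mpr (Nat.two_dvd_ne_zero.mp hm), ?_⟩
  intro i hi1 hi2 hi3 g
  obtain ⟨y, hy⟩ : ∃ y : SemidirectProduct G ↥A A.subtype, y = b ^ i := ⟨_, rfl⟩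
  have hyR : y ∈ R := hy ▸ hpowR i
  have hyl : y.left = b.left ^ i := by rw [hy]; exact hpowl i
  have hyr : y.right = a₀ ^ (m * i) := by rw [hy]; exact hpowr i
  have hyy : y * y = 1 := by
    apply SemidirectProduct.ext
    · rw [SemidirectProduct.mul_left, SemidirectProduct.one_left]
      have : (A.subtype y.right) y.left = y.left := hfixA _ _ ((hRmem y).mp hyR)
      rw [this, hyl, ← pow_add, ← two_mul]
      exact hi1
    · rw [SemidirectProduct.mul_right, SemidirectProduct.one_right, hyr, ← pow_add, ← two_mul]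
      exact hi2
  have hy1 : y ≠ 1 := by
    intro h
    rcases hi3 with h3 | h3
    · apply h3
      rw [← hyl, h]
      rfl
    · apply h3
      rw [← hyr, h]
      rfl
  have hy2 : orderOf y = 2 := ord_two hyy hy1
  have hyfix : ∀ k ∈ Subgroup.normalizer ((R : Subgroup (SemidirectProduct G ↥A A.subtype)) : Set _),
      k * y * k⁻¹ = y := by
    intro k hk
    rw [hy, ← conj_pow, hbfix k hk]
  have hiso : ∀ k : SemidirectProduct G ↥A A.subtype, k * y * k⁻¹ ∈ R → k * y * k⁻¹ = y :=
    fun k hk => isolated_of_normalizer_fixed R hRcomm y hyR hyfix k hk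
  obtain ⟨N, hN, hNodd, hNc⟩ := Cfsg.Agent.S0215.result R y hy2 hyR hiso
  have hcomm : y * SemidirectProduct.inl g = SemidirectProduct.inl g * y := by
    have h1 := hO N hN hNodd _ (hNc (SemidirectProduct.inl g))
    calc y * SemidirectProduct.inl g
        = (y * SemidirectProduct.inl g * y⁻¹ * (SemidirectProduct.inl g)⁻¹)
          * (SemidirectProduct.inl g * y) := by group
      _ = SemidirectProduct.inl g * y := by rw [h1, one_mul]
  have hl := congrArg SemidirectProduct.left hcomm
  rw [SemidirectProduct.mul_left, SemidirectProduct.mul_left, SemidirectProduct.left_inl,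
    SemidirectProduct.right_inl, map_one, MulAut.one_apply, hyl, hyr] at hl
  have hl' : (A.subtype (a₀ ^ (m * i))) g = (b.left ^ i)⁻¹ * g * b.left ^ i := by
    rw [mul_assoc, ← hl]
    group
  exact hl'

theorem step {G : Type*} [Group G] [Finite G] (hZ : Subgroup.center G = ⊥)
    (hcore : Cfsg.pPrimeCore 2 G = ⊥) (P : Sylow 2 G)
    (hab : IsMulCommutative (P : Subgroup G)) (α : MulAut G) (j : ℕ)
    (hj : orderOf α = 2 ^ (j + 1)) (hfix : ∀ x ∈ (P : Subgroup G), α x = x) :
    ∃ p ∈ (P : Subgroup G), (MulAut.conj p * α) ^ (2 ^ j) = 1 := by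
  classical
  have : Fact (Nat.Prime 2) := ⟨Nat.prime_two⟩
  obtain ⟨A, hA⟩ : ∃ A : Subgroup (MulAut G), A = Subgroup.zpowers α := ⟨_, rfl⟩
  have hαA : α ∈ A := by rw [hA]; exact Subgroup.mem_zpowers α
  have hAcomm : ∀ a b : ↥A, a * b = b * a := by
    subst hA
    intro a b
    exact (Subgroup.zpowers_isMulCommutative α).is_comm.comm a b
  have hAcard : Nat.card ↥A = 2 ^ (j + 1) := by
    rw [hA, Nat.card_zpowers, hj]
  have hfixA : ∀ a : ↥A, ∀ x ∈ (P : Subgroup G), (a : MulAut G) x = x := by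
    let FixP : Subgroup (MulAut G) :=
      { carrier := {a | ∀ x ∈ (P : Subgroup G), a x = x}
        mul_mem' := by
          intro a b ha hb x hx
          rw [MulAut.mul_apply, hb x hx, ha x hx]
        one_mem' := by
          intro x _
          rfl
        inv_mem' := by
          intro a ha x hx
          calc a⁻¹ x = a⁻¹ (a x) := by rw [ha x hx]
            _ = x := MulAut.inv_apply_self _ _ _ }
    have hle : A ≤ FixP := by
      rw [hA, Subgroup.zpowers_le]
      exact hfix
    intro a x hx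
    exact hle a.2 x hx
  obtain ⟨p, hpP, m, hm, hkey⟩ :=
    central_aux hcore P hab A hAcomm (j + 1) hAcard hfixA ⟨α, hαA⟩
  have hcoe : ∀ k : ℕ, (((⟨α, hαA⟩ : ↥A) ^ k : ↥A) : MulAut G) = α ^ k := fun k => rfl
  have hone : ∀ k : ℕ, α ^ k = 1 → (⟨α, hαA⟩ : ↥A) ^ k = 1 := by
    intro k h
    apply Subtype.ext
    rw [hcoe, h]
    rfl
  have hne : ∀ k : ℕ, α ^ k ≠ 1 → (⟨α, hαA⟩ : ↥A) ^ k ≠ 1 := by
    intro k h h'
    apply h
    rw [← hcoe, h']
    rfl
  have hαpow : ∀ k : ℕ, α ^ k = 1 ↔ 2 ^ (j + 1) ∣ k := by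
    intro k
    rw [← hj]
    exact orderOf_dvd_iff_pow_eq_one.symm
  obtain ⟨c, hc⟩ := hm
  -- Step 1: `p ^ 2 ^ (j+1) = 1`
  have hp1 : p ^ (2 ^ (j + 1)) = 1 := by
    by_contra hcon
    obtain ⟨k, hk⟩ := P.isPGroup' ⟨p, hpP⟩
    have hk' : p ^ (2 ^ k) = 1 := by
      have := congrArg Subtype.val hk
      simpa using this
    obtain ⟨t, -, ht⟩ := (Nat.dvd_prime_pow Nat.prime_two).mp (orderOf_dvd_of_pow_eq_one hk')
    have htj : j + 1 < t := by
      by_contra h
      have h := Nat.le_of_not_lt h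
      apply hcon
      apply orderOf_dvd_iff_pow_eq_one.mp
      rw [ht]
      exact pow_dvd_pow 2 h
    obtain ⟨t', rfl⟩ : ∃ t', t = t' + 1 := ⟨t - 1, by omega⟩
    have h2 : 2 * 2 ^ t' = 2 ^ (t' + 1) := by rw [pow_succ]; ring
    have hi1 : p ^ (2 * 2 ^ t') = 1 := by
      rw [h2, ← ht]
      exact pow_orderOf_eq_one p
    have hdvd : 2 ^ (j + 1) ∣ m * 2 ^ t' :=
      Dvd.dvd.mul_left (pow_dvd_pow 2 (by omega)) m
    have hi2 : (⟨α, hαA⟩ : ↥A) ^ (2 * (m * 2 ^ t')) = 1 := by
      apply hone
      rw [hαpow]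
      exact Dvd.dvd.mul_left hdvd 2
    have hi3 : p ^ (2 ^ t') ≠ 1 := by
      intro h
      have := orderOf_dvd_of_pow_eq_one h
      rw [ht] at this
      have := (Nat.pow_dvd_pow_iff_le_right (by norm_num : 1 < 2)).mp this
      omega
    have hconc := hkey (2 ^ t') hi1 hi2 (Or.inl hi3)
    have hα1 : α ^ (m * 2 ^ t') = 1 := (hαpow _).mpr hdvd
    have hcen : p ^ (2 ^ t') ∈ Subgroup.center G := by
      rw [Subgroup.mem_center_iff]
      intro g
      have h := hconc g
      rw [hcoe, hα1, MulAut.one_apply] at h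
      calc g * p ^ (2 ^ t') = p ^ (2 ^ t') * ((p ^ (2 ^ t'))⁻¹ * g * p ^ (2 ^ t')) := by group
        _ = p ^ (2 ^ t') * g := by rw [← h]
    rw [hZ, Subgroup.mem_bot] at hcen
    exact hi3 hcen
  -- Step 2
  have h2 : 2 * 2 ^ j = 2 ^ (j + 1) := by rw [pow_succ]; ring
  have hi1 : p ^ (2 * 2 ^ j) = 1 := by rw [h2]; exact hp1
  have hi2 : (⟨α, hαA⟩ : ↥A) ^ (2 * (m * 2 ^ j)) = 1 := by
    apply hone
    rw [hαpow]
    refine ⟨m, ?_⟩
    rw [← h2]; ring
  have hi3 : (⟨α, hαA⟩ : ↥A) ^ (m * 2 ^ j) ≠ 1 := by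
    apply hne
    rw [Ne, hαpow]
    intro h
    rw [hc, pow_succ] at h
    have h3 : 2 ^ j * 2 ∣ 2 ^ j * (2 * c + 1) := by
      rw [mul_comm (2 ^ j) (2 * c + 1)]; exact h
    have h4 : 2 ∣ 2 * c + 1 := (Nat.mul_dvd_mul_iff_left (by positivity)).mp h3
    omega
  have hconc := hkey (2 ^ j) hi1 hi2 (Or.inr hi3)
  have hτ : α ^ (2 ^ j) * α ^ (2 ^ j) = 1 := by
    rw [← pow_add, ← two_mul, h2, ← hj]
    exact pow_orderOf_eq_one α
  have hτm : α ^ (m * 2 ^ j) = α ^ (2 ^ j) := by
    rw [hc, mul_comm, pow_mul, pow_succ, pow_mul, pow_two, hτ, one_pow, one_mul]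
  have hcomm : Commute (MulAut.conj p) α := by
    unfold Commute SemiconjBy
    ext x
    rw [MulAut.mul_apply, MulAut.mul_apply, MulAut.conj_apply, MulAut.conj_apply, map_mul,
      map_mul, map_inv, hfix p hpP]
  refine ⟨p, hpP, ?_⟩
  rw [hcomm.mul_pow, ← map_pow]
  ext g
  have h := hconc g
  rw [hcoe, hτm] at h
  rw [MulAut.mul_apply, MulAut.conj_apply, h, MulAut.one_apply]
  group

/-- Let G be a finite group with trivial centre and no nontrivial normal subgroup of odd order, whose Sylow 2-subgroups are abelian, and let P be a Sylow 2-subgroup. Every automorphism of G of 2-power order that fixes P elementwise is inner. -/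
theorem result {G : Type*} [Group G] [Finite G] (hZ : Subgroup.center G = ⊥) (hcore : Cfsg.pPrimeCore 2 G = ⊥) (P : Sylow 2 G) (hab : IsMulCommutative (P : Subgroup G))
    (α : MulAut G) (h2 : ∃ j : ℕ, orderOf α = 2 ^ j) (hfix : ∀ x ∈ (P : Subgroup G), α x = x) :
    ∃ g : G, ∀ x : G, α x = g * x * g⁻¹ := by
  obtain ⟨j, hj⟩ := h2
  induction j using Nat.strong_induction_on generalizing α with
  | _ j ih =>
    rcases Nat.eq_zero_or_pos j with h0 | hpos
    · subst h0
      have h1 : α = 1 := orderOf_eq_one_iff.mp (by simpa using hj)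
      exact ⟨1, fun x => by rw [h1]; simp⟩
    · obtain ⟨j', rfl⟩ : ∃ j', j = j' + 1 := ⟨j - 1, by omega⟩
      obtain ⟨p, hpP, hpow⟩ := step hZ hcore P hab α j' hj hfix
      have hdvd : orderOf (MulAut.conj p * α) ∣ 2 ^ j' := orderOf_dvd_of_pow_eq_one hpow
      obtain ⟨j₁, hj₁, hj₁'⟩ := (Nat.dvd_prime_pow Nat.prime_two).mp hdvd
      have hfix' : ∀ x ∈ (P : Subgroup G), (MulAut.conj p * α) x = x := by
        intro x hx
        rw [MulAut.mul_apply, hfix x hx, MulAut.conj_apply]
        have h := congrArg Subtype.val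
          (hab.is_comm.comm (⟨p, hpP⟩ : ↥(P : Subgroup G)) ⟨x, hx⟩)
        have h' : p * x = x * p := h
        rw [h']
        group
      obtain ⟨g, hg⟩ := ih j₁ (by omega) (MulAut.conj p * α) hfix' hj₁'
      refine ⟨p⁻¹ * g, fun x => ?_⟩
      have h := hg x
      rw [MulAut.mul_apply, MulAut.conj_apply] at h
      calc α x = p⁻¹ * (p * α x * p⁻¹) * p := by group
        _ = p⁻¹ * (g * x * g⁻¹) * p := by rw [h]
        _ = p⁻¹ * g * x * (p⁻¹ * g)⁻¹ := by group

end Cfsg.Agent.S4593
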