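import Cfsg.Statements.S4601
import Cfsg.Agent.Lib.helper1.Coprime
import Cfsg.Agent.Lib.helper80.PSolv

set_option autoImplicit false
open Cfsg

namespace Cfsg.Agent.S4601

open Pointwise
open Cfsg.Agent.Lib.helper1 Cfsg.Agent.Lib.helper80

universe u

variable {G : Type u} [Group G]

/-- `|H| * [K : H] = |K|` for `H ≤ K`. -/
theorem card_mul_relIndex' {H K : Subgroup G} (h : H ≤ K) :
    Nat.card H * H.relIndex K = Nat.card K := by
  rw [← Subgroup.relIndex_bot_left (H := H), ← Subgroup.relIndex_bot_left (H := K)]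
  exact Subgroup.relIndex_mul_relIndex ⊥ H K bot_le h

/-- Second isomorphism theorem at the level of indices, for the non-normal factor. -/
theorem relIndex_sup_of_normal [Finite G] (N L : Subgroup G) [N.Normal] :
    L.relIndex (N ⊔ L) = L.relIndex N := by
  have h1 : Nat.card (N ⊔ L : Subgroup G) = Nat.card N * N.relIndex L := by
    rw [← Subgroup.relIndex_sup_left (K := N) (H := L)]
    exact (card_mul_relIndex' le_sup_left).symm
  have h2 : Nat.card L = Nat.card (N ⊓ L : Subgroup G) * N.relIndex L := by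
    rw [← Subgroup.inf_relIndex_right (H := N) (K := L)]
    exact (card_mul_relIndex' inf_le_right).symm
  have h3 : Nat.card (N ⊔ L : Subgroup G) = Nat.card L * L.relIndex (N ⊔ L) :=
    (card_mul_relIndex' le_sup_right).symm
  have h4 : Nat.card N = Nat.card (N ⊓ L : Subgroup G) * L.relIndex N := by
    rw [← Subgroup.inf_relIndex_left (H := N) (K := L)]
    exact (card_mul_relIndex' inf_le_left).symm
  have h5 : Nat.card L * L.relIndex (N ⊔ L) = Nat.card L * L.relIndex N := by
    rw [← h3, h1, h4, h2]; ring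
  exact Nat.eq_of_mul_eq_mul_left Nat.card_pos h5

/-- Elements of a Sylow `q`-subgroup have `q`-power order. -/
theorem orderOf_of_mem_sylow [Finite G] (q : ℕ) [Fact q.Prime] (Q : Sylow q G) (y : G)
    (hy : y ∈ (Q : Subgroup G)) : ∃ j : ℕ, orderOf y = q ^ j := by
  obtain ⟨j, hj⟩ := Q.2 ⟨y, hy⟩
  have h2 : y ^ q ^ j = 1 := by
    have := congrArg Subtype.val hj
    simpa using this
  obtain ⟨i, -, hi⟩ := (Nat.dvd_prime_pow (Fact.out)).mp (orderOf_dvd_of_pow_eq_one h2)
  exact ⟨i, hi⟩

/-- A `q`-element of a quotient lifts to a `q`-element. -/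
theorem exists_lift_qelement [Finite G] (q : ℕ) [Fact q.Prime] (N : Subgroup G) [N.Normal]
    (ybar : G ⧸ N) (h : ∃ k : ℕ, orderOf ybar = q ^ k) :
    ∃ y : G, (y : G ⧸ N) = ybar ∧ ∃ j : ℕ, orderOf y = q ^ j := by
  obtain ⟨k, hk⟩ := h
  have hp : IsPGroup q (Subgroup.zpowers ybar) := IsPGroup.of_card (by rw [Nat.card_zpowers, hk])
  obtain ⟨Qbar, hQbar⟩ := hp.exists_le_sylow
  obtain ⟨Q, hQ⟩ := Sylow.mapSurjective_surjective (QuotientGroup.mk'_surjective N) q Qbar
  have h1 : ybar ∈ (Qbar : Subgroup (G ⧸ N)) := hQbar (Subgroup.mem_zpowers ybar)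
  rw [← hQ, Sylow.coe_mapSurjective] at h1
  obtain ⟨y, hy, rfl⟩ := h1
  exact ⟨y, rfl, orderOf_of_mem_sylow q Q y hy⟩

/-- The class-size hypothesis passes to quotients. -/
theorem hyp_quotient [Finite G] (p q : ℕ) [Fact q.Prime] (N : Subgroup G) [N.Normal]
    (h : ∀ y : G, (∃ k : ℕ, orderOf y = q ^ k) →
      ¬ p ∣ (Subgroup.centralizer ({y} : Set G)).index) :
    ∀ y : G ⧸ N, (∃ k : ℕ, orderOf y = q ^ k) →
      ¬ p ∣ (Subgroup.centralizer ({y} : Set (G ⧸ N))).index := by
  intro ybar hy
  obtain ⟨y, rfl, hy'⟩ := exists_lift_qelement q N ybar hy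
  have h1 := h y hy'
  intro hdvd
  apply h1
  have h2 : (Subgroup.centralizer ({y} : Set G)).map (QuotientGroup.mk' N) ≤
      Subgroup.centralizer ({(y : G ⧸ N)} : Set (G ⧸ N)) := by
    rintro _ ⟨x, hx, rfl⟩
    rw [SetLike.mem_coe] at hx
    rw [Subgroup.mem_centralizer_singleton_iff] at hx ⊢
    show (x : G ⧸ N) * (y : G ⧸ N) = (y : G ⧸ N) * (x : G ⧸ N)
    rw [← QuotientGroup.mk_mul, ← QuotientGroup.mk_mul, hx]
  exact (hdvd.trans (Subgroup.index_dvd_of_le h2)).trans
    (Subgroup.index_map_dvd _ (QuotientGroup.mk'_surjective N))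

/-- Lifting a normalizer relation from the quotient. -/
theorem le_normalizer_sup_of_map (N : Subgroup G) [N.Normal] (P Q : Subgroup G)
    (h : P.map (QuotientGroup.mk' N) ≤
      Subgroup.normalizer ((Q.map (QuotientGroup.mk' N) : Subgroup (G ⧸ N)) : Set (G ⧸ N))) :
    P ≤ Subgroup.normalizer ((Q ⊔ N : Subgroup G) : Set G) := by
  have hcm : (Q.map (QuotientGroup.mk' N)).comap (QuotientGroup.mk' N) = Q ⊔ N := by
    rw [Subgroup.comap_map_eq, QuotientGroup.ker_mk']
  intro g hg
  have h1 := h (Subgroup.mem_map_of_mem _ hg)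
  rw [Subgroup.mem_normalizer_iff] at h1 ⊢
  intro x
  rw [← hcm, Subgroup.mem_comap, Subgroup.mem_comap, h1 ((QuotientGroup.mk' N) x)]
  simp

/-- A subgroup of index prime to `p` contains a Sylow `p`-subgroup. -/
theorem exists_sylow_le_of_not_dvd_index [Finite G] (p : ℕ) [Fact p.Prime] (L : Subgroup G)
    (h : ¬ p ∣ L.index) : ∃ P : Sylow p G, (P : Subgroup G) ≤ L := by
  obtain ⟨R⟩ := (inferInstance : Nonempty (Sylow p L))
  have hR : IsPGroup p ((R : Subgroup L).map L.subtype) := R.2.map _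
  have hidx : ¬ p ∣ ((R : Subgroup L).map L.subtype).index := by
    rw [Subgroup.index_map_subtype]
    exact Nat.Prime.not_dvd_mul Fact.out R.not_dvd_index h
  refine ⟨hR.toSylow hidx, ?_⟩
  rw [IsPGroup.toSylow_coe]
  exact Subgroup.map_subtype_le _

/-- If `s * a * s⁻¹ = a` for all `a ∈ Q` then `s` normalizes `Q`. -/
theorem mem_normalizer_of_forall_conj_eq (Q : Subgroup G) (s : G)
    (key : ∀ a ∈ Q, s * a * s⁻¹ = a) : s ∈ Subgroup.normalizer (Q : Set G) := by
  rw [Subgroup.mem_normalizer_iff]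
  intro a
  constructor
  · intro ha; rw [key a ha]; exact ha
  · intro ha
    have h3 := key _ ha
    have : s * a * s⁻¹ = a := by
      calc s * a * s⁻¹ = s⁻¹ * (s * (s * a * s⁻¹) * s⁻¹) * s := by group
        _ = s⁻¹ * (s * a * s⁻¹) * s := by rw [h3]
        _ = a := by group
    rw [← this]; exact ha

/-- Case of a normal `p`-subgroup centralized by `Q`. -/
theorem mem_normalizer_of_centralizes [Finite G] (q : ℕ) [Fact q.Prime] (Q : Sylow q G)
    (N : Subgroup G) (hN : ∀ a ∈ (Q : Subgroup G), ∀ n ∈ N, n * a = a * n) (g : G)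
    (hg : g ∈ Subgroup.normalizer ((Q ⊔ N : Subgroup G) : Set G)) :
    g ∈ Subgroup.normalizer ((Q : Subgroup G) : Set G) := by
  refine (Sylow.smul_eq_iff_mem_normalizer (P := Q)).mp ?_
  have h1 : ((Q : Subgroup G) ⊔ N : Subgroup G) ≤
      Subgroup.normalizer ((Q : Subgroup G) : Set G) := by
    apply sup_le Subgroup.le_normalizer
    intro n hn
    apply mem_normalizer_of_forall_conj_eq
    intro a ha
    rw [hN a ha n hn, mul_inv_cancel_right]
  have h2 : ((g • Q : Sylow q G) : Subgroup G) ≤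
      Subgroup.normalizer ((Q : Subgroup G) : Set G) := by
    rw [Sylow.coe_subgroup_smul]
    intro x hx
    apply h1
    rw [mem_conj_smul] at hx
    have h3 : g⁻¹ * x * g ∈ ((Q : Subgroup G) ⊔ N : Subgroup G) := Subgroup.mem_sup_left hx
    have := (Subgroup.mem_normalizer_iff.mp hg (g⁻¹ * x * g)).mp h3
    simpa [mul_assoc] using this
  have h3 : IsPGroup q ((((g • Q : Sylow q G) : Subgroup G) ⊔ (Q : Subgroup G) : Subgroup G)) :=
    IsPGroup.to_sup_of_normal_right' (g • Q).2 Q.2 h2
  have h4 := Q.3 h3 le_sup_right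
  have h5 : ((g • Q : Sylow q G) : Subgroup G) ≤ Q := by
    have : ((g • Q : Sylow q G) : Subgroup G) ≤
        (((g • Q : Sylow q G) : Subgroup G) ⊔ (Q : Subgroup G) : Subgroup G) := le_sup_left
    rw [h4] at this
    exact this
  exact Sylow.ext ((g • Q).3 Q.2 h5).symm

theorem isSolvable_sylow [Finite G] (p : ℕ) [Fact p.Prime] (P : Sylow p G) :
    Group.IsSolvable (P : Subgroup G) := by
  have : Group.IsNilpotent (P : Subgroup G) := P.2.isNilpotent
  infer_instance

theorem coprime_card_sylow [Finite G] (p : ℕ) [Fact p.Prime] (P : Sylow p G) (m : ℕ)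
    (hm : m.Coprime p) : (Nat.card (P : Subgroup G)).Coprime m := by
  obtain ⟨n, hn⟩ := IsPGroup.iff_card.mp P.2
  rw [hn]; exact Nat.Coprime.pow_left n hm.symm

/-- Case of a normal `p'`-subgroup: coprime action of `P` on `Q N`. -/
theorem case_pprime [Finite G] (p q : ℕ) [Fact p.Prime] [Fact q.Prime] (hpq : p ≠ q)
    (P : Sylow p G) (Q : Sylow q G) (N : Subgroup G) [N.Normal] (hN : (Nat.card N).Coprime p)
    (hP : (P : Subgroup G) ≤ Subgroup.normalizer (((Q : Subgroup G) ⊔ N : Subgroup G) : Set G)) :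
    ∃ Q₁ : Sylow q G, (P : Subgroup G) ≤ Subgroup.normalizer ((Q₁ : Subgroup G) : Set G) := by
  set K : Subgroup G := (Q : Subgroup G) ⊔ N with hK
  have hcardK : Nat.card K = Nat.card N * N.relIndex Q := by
    rw [← Subgroup.relIndex_sup_right (K := N) (H := (Q : Subgroup G))]
    exact (card_mul_relIndex' le_sup_right).symm
  have hqp : q.Coprime p := (Nat.coprime_primes Fact.out Fact.out).mpr (Ne.symm hpq)
  have hQp : (Nat.card (Q : Subgroup G)).Coprime p := by
    obtain ⟨n, hn⟩ := IsPGroup.iff_card.mp Q.2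
    rw [hn]; exact Nat.Coprime.pow_left n hqp
  have hKp : (Nat.card K).Coprime p := by
    rw [hcardK]
    exact Nat.Coprime.mul_left hN (Nat.Coprime.coprime_dvd_left (Subgroup.relIndex_dvd_card _ _) hQp)
  have hcop : (Nat.card (P : Subgroup G)).Coprime (Nat.card K) := coprime_card_sylow p P _ hKp
  obtain ⟨Q₁, hQ₁⟩ := exists_invariant_sylow (p := q) (P : Subgroup G) K hP hcop
    (Or.inl (isSolvable_sylow p P))
  have hidx : ¬ q ∣ ((Q₁ : Subgroup K).map K.subtype).index := by
    rw [Subgroup.index_map_subtype]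
    apply Nat.Prime.not_dvd_mul Fact.out Q₁.not_dvd_index
    intro hdvd
    exact Q.not_dvd_index (hdvd.trans (Subgroup.index_dvd_of_le le_sup_left))
  refine ⟨(Q₁.2.map K.subtype).toSylow hidx, ?_⟩
  rw [IsPGroup.toSylow_coe]
  exact hQ₁

/-- Case of a normal `q'`-subgroup. -/
theorem case_qprime [Finite G] (p q : ℕ) [Fact p.Prime] [Fact q.Prime]
    (P : Sylow p G) (Q : Sylow q G) (N : Subgroup G) [N.Normal] (hN : (Nat.card N).Coprime q)
    (h : ∀ y : G, (∃ k : ℕ, orderOf y = q ^ k) →
      ¬ p ∣ (Subgroup.centralizer ({y} : Set G)).index)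
    (hP : (P : Subgroup G) ≤ Subgroup.normalizer (((Q : Subgroup G) ⊔ N : Subgroup G) : Set G)) :
    ∃ P₁ : Sylow p G, (P₁ : Subgroup G) ≤ Subgroup.normalizer ((Q : Subgroup G) : Set G) := by
  have hQN : (Q : Subgroup G) ≤ Subgroup.normalizer (N : Set G) := by
    rw [Subgroup.normalizer_eq_top]; exact le_top
  have hcopQN : (Nat.card (Q : Subgroup G)).Coprime (Nat.card N) := coprime_card_sylow q Q _ hN
  have hsolvQ : Group.IsSolvable (Q : Subgroup G) := isSolvable_sylow q Q
  obtain ⟨S, hS⟩ := exists_invariant_sylow (p := p) (Q : Subgroup G) N hQN hcopQN (Or.inl hsolvQ)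
  set S' : Subgroup G := (S : Subgroup N).map N.subtype with hS'
  -- every element of `Q` centralizes `S'`
  have hcent : ∀ y ∈ (Q : Subgroup G), S' ≤ Subgroup.centralizer ({y} : Set G) := by
    intro y hy
    have hC := h y (orderOf_of_mem_sylow q Q y hy)
    set C := Subgroup.centralizer ({y} : Set G) with hCdef
    have h1 : ¬ p ∣ (C.subgroupOf N).index := by
      intro hdvd
      apply hC
      have h2 : C.relIndex N = C.relIndex (N ⊔ C) := (relIndex_sup_of_normal N C).symm
      have h3 : C.relIndex (N ⊔ C) ∣ C.index := Subgroup.relIndex_dvd_index_of_le le_sup_right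
      have h4 : p ∣ C.relIndex N := hdvd
      rw [h2] at h4
      exact h4.trans h3
    obtain ⟨S₁, hS₁⟩ := exists_sylow_le_of_not_dvd_index p (C.subgroupOf N) h1
    set A : Subgroup G := Subgroup.zpowers y with hA
    have hAQ : A ≤ Q := by rw [hA, Subgroup.zpowers_le]; exact hy
    have hAN : A ≤ Subgroup.normalizer (N : Set G) := hAQ.trans hQN
    have hcopA : (Nat.card A).Coprime (Nat.card N) :=
      Nat.Coprime.coprime_dvd_left (Subgroup.card_dvd_of_le hAQ) hcopQN
    have hsolvA : Group.IsSolvable A := isSolvable_of_le hAQ hsolvQ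
    have hS₁C : ∀ x ∈ ((S₁ : Subgroup N).map N.subtype : Subgroup G), x ∈ C := by
      rintro x ⟨s, hs, rfl⟩
      exact Subgroup.mem_subgroupOf.mp (hS₁ hs)
    have hS₁A : A ≤ Subgroup.normalizer
        ((((S₁ : Subgroup N).map N.subtype : Subgroup G)) : Set G) := by
      intro a ha
      apply mem_normalizer_of_forall_conj_eq
      intro x hx
      obtain ⟨k, rfl⟩ := Subgroup.mem_zpowers_iff.mp ha
      have hcomm : Commute y x := (Subgroup.mem_centralizer_singleton_iff.mp (hS₁C x hx)).symm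
      rw [(hcomm.zpow_left k).eq, mul_inv_cancel_right]
    have hSA : A ≤ Subgroup.normalizer (S' : Set G) := hAQ.trans hS
    obtain ⟨c, hc, hcS⟩ := invariant_sylow_conj A N hAN hcopA (Or.inl hsolvA) S₁ S hS₁A hSA
    intro s hs
    rw [hS', ← hcS, mem_conj_smul] at hs
    have hs₁C : c⁻¹ * s * c ∈ C := hS₁C _ hs
    have hcy : y * c = c * y :=
      Subgroup.mem_centralizer_iff.mp hc.2 y (Subgroup.mem_zpowers y)
    rw [Subgroup.mem_centralizer_singleton_iff] at hs₁C ⊢
    calc s * y = c * ((c⁻¹ * s * c) * y) * c⁻¹ := by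
          have : y * c⁻¹ = c⁻¹ * y := by
            calc y * c⁻¹ = c⁻¹ * (c * y) * c⁻¹ := by group
              _ = c⁻¹ * (y * c) * c⁻¹ := by rw [hcy]
              _ = c⁻¹ * y := by group
          calc s * y = s * (c * (c⁻¹ * y)) := by group
            _ = s * (c * (y * c⁻¹)) := by rw [this]
            _ = c * ((c⁻¹ * s * c) * y) * c⁻¹ := by group
      _ = c * (y * (c⁻¹ * s * c)) * c⁻¹ := by rw [hs₁C]
      _ = (c * y) * (c⁻¹ * s) := by group
      _ = (y * c) * (c⁻¹ * s) := by rw [hcy]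
      _ = y * s := by group
  set L := Subgroup.normalizer ((Q : Subgroup G) : Set G) with hL
  have hS'L : S' ≤ N ⊓ L := by
    apply le_inf (Subgroup.map_subtype_le _)
    intro s hs
    apply mem_normalizer_of_forall_conj_eq
    intro a ha
    have := Subgroup.mem_centralizer_singleton_iff.mp (hcent a ha hs)
    rw [this, mul_inv_cancel_right]
  -- Frattini
  have hPNL : (P : Subgroup G) ≤ N ⊔ L := by
    intro g hg
    have hQK : (Q : Subgroup G) ≤ (Q : Subgroup G) ⊔ N := le_sup_left
    obtain ⟨k, hk⟩ := sylow_map_conj_of_mem_normalizer ((Q : Subgroup G) ⊔ N) (Q.subtype hQK) g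
      (hP hg)
    have hmap : ((Q.subtype hQK : Sylow q _) : Subgroup _).map
        ((Q : Subgroup G) ⊔ N : Subgroup G).subtype = Q := by
      rw [Sylow.coe_subtype]; exact Subgroup.map_subgroupOf_eq_of_le hQK
    rw [hmap] at hk
    obtain ⟨a, ha, n, hn, hka⟩ := Subgroup.mem_sup_of_normal_right.mp k.2
    have h1 : MulAut.conj (k : G) • (Q : Subgroup G) = MulAut.conj (a * n * a⁻¹) • (Q : Subgroup G) := by
      have e : (k : G) = (a * n * a⁻¹) * a := by rw [← hka]; group
      rw [e, ← conj_smul_conj_smul, conj_smul_eq_of_mem_normalizer (Subgroup.le_normalizer ha)]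
    rw [h1] at hk
    have hn' : a * n * a⁻¹ ∈ N := (inferInstance : N.Normal).conj_mem n hn a
    have h2 : MulAut.conj ((a * n * a⁻¹)⁻¹ * g) • (Q : Subgroup G) = Q := by
      rw [← conj_smul_conj_smul, hk, conj_smul_conj_smul, inv_mul_cancel, map_one, one_smul]
    have h3 : (a * n * a⁻¹)⁻¹ * g ∈ L := mem_normalizer_of_conj_smul_eq h2
    have : g = (a * n * a⁻¹) * ((a * n * a⁻¹)⁻¹ * g) := by group
    rw [this]
    exact Subgroup.mul_mem _ (Subgroup.mem_sup_left hn') (Subgroup.mem_sup_right h3)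
  have hLidx : ¬ p ∣ L.index := by
    rw [← Subgroup.relIndex_mul_index (le_sup_right : L ≤ N ⊔ L), relIndex_sup_of_normal N L]
    apply Nat.Prime.not_dvd_mul Fact.out
    · intro hdvd
      have h1 : L.relIndex N ∣ S'.relIndex N := by
        rw [← Subgroup.inf_relIndex_left (H := N) (K := L)]
        exact Subgroup.relIndex_dvd_of_le_left N hS'L
      have h2 : S'.relIndex N = (S : Subgroup N).index := by
        show (S'.subgroupOf N).index = _
        have : S'.subgroupOf N = (S : Subgroup N) :=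
          Subgroup.comap_map_eq_self_of_injective (Subgroup.subtype_injective N) (S : Subgroup N)
        rw [this]
      rw [h2] at h1
      exact S.not_dvd_index (hdvd.trans h1)
    · intro hdvd
      exact P.not_dvd_index (hdvd.trans (Subgroup.index_dvd_of_le hPNL))
  exact exists_sylow_le_of_not_dvd_index p L hLidx

/-- A normal `p`-subgroup is centralized by every element whose class size is prime to `p`. -/
theorem normal_pgroup_le_centralizer [Finite G] (p : ℕ) [Fact p.Prime] (N : Subgroup G)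
    [N.Normal] (hN : IsPGroup p N) (y : G)
    (hy : ¬ p ∣ (Subgroup.centralizer ({y} : Set G)).index) :
    N ≤ Subgroup.centralizer ({y} : Set G) := by
  obtain ⟨P, hP⟩ := exists_sylow_le_of_not_dvd_index p _ hy
  exact (normal_pgroup_le_sylow N hN P).trans hP

theorem main (n : ℕ) : ∀ (G : Type u) [Group G] [Finite G] (p q : ℕ) [Fact p.Prime]
    [Fact q.Prime], Nat.card G = n → p ≠ q → (IsPSolvable p G ∨ IsPSolvable q G) →
    (∀ y : G, (∃ k : ℕ, orderOf y = q ^ k) →
      ¬ p ∣ (Subgroup.centralizer ({y} : Set G)).index) →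
    ∃ (P : Sylow p G) (Q : Sylow q G),
      (P : Subgroup G) ≤ Subgroup.normalizer ((Q : Subgroup G) : Set G) := by
  induction n using Nat.strong_induction_on with
  | _ n ih =>
    intro G _ _ p q _ _ hcard hpq hsolv h
    rcases subsingleton_or_nontrivial G with hsub | hnt
    · obtain ⟨P⟩ := (inferInstance : Nonempty (Sylow p G))
      obtain ⟨Q⟩ := (inferInstance : Nonempty (Sylow q G))
      refine ⟨P, Q, ?_⟩
      intro x _
      rw [Subsingleton.elim x 1]
      exact Subgroup.one_mem _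
    · -- a nontrivial normal subgroup
      have hex : ∃ N : Subgroup G, N.Normal ∧ N ≠ ⊥ ∧
          ((IsPSolvable p G ∧ (IsPGroup p N ∨ (Nat.card N).Coprime p)) ∨
           (IsPSolvable q G ∧ (IsPGroup q N ∨ (Nat.card N).Coprime q))) := by
        rcases hsolv with hs | hs
        · obtain ⟨N, hN1, hN2, hN3⟩ := exists_normal_of_isPSolvable p hs
          exact ⟨N, hN1, hN2, Or.inl ⟨hs, hN3⟩⟩
        · obtain ⟨N, hN1, hN2, hN3⟩ := exists_normal_of_isPSolvable q hs
          exact ⟨N, hN1, hN2, Or.inr ⟨hs, hN3⟩⟩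
      obtain ⟨N, hNn, hNbot, hcases⟩ := hex
      have hsolv' : IsPSolvable p (G ⧸ N) ∨ IsPSolvable q (G ⧸ N) := by
        rcases hsolv with hs | hs
        · exact Or.inl (isPSolvable_quotient p N hs)
        · exact Or.inr (isPSolvable_quotient q N hs)
      have hlt : Nat.card (G ⧸ N) < n := by rw [← hcard]; exact card_quot_lt hNbot
      obtain ⟨Pbar, Qbar, hPQ⟩ := ih _ hlt (G ⧸ N) p q rfl hpq hsolv' (hyp_quotient p q N h)
      obtain ⟨P, rfl⟩ := Sylow.mapSurjective_surjective (QuotientGroup.mk'_surjective N) p Pbar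
      obtain ⟨Q, rfl⟩ := Sylow.mapSurjective_surjective (QuotientGroup.mk'_surjective N) q Qbar
      rw [Sylow.coe_mapSurjective, Sylow.coe_mapSurjective] at hPQ
      have hP := le_normalizer_sup_of_map N (P : Subgroup G) (Q : Subgroup G) hPQ
      rcases hcases with ⟨-, hNp | hNp⟩ | ⟨-, hNq | hNq⟩
      · -- normal p-subgroup
        refine ⟨P, Q, ?_⟩
        intro g hg
        apply mem_normalizer_of_centralizes q Q N _ g (hP hg)
        intro a ha n hn
        have := normal_pgroup_le_centralizer p N hNp a (h a (orderOf_of_mem_sylow q Q a ha)) hn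
        exact Subgroup.mem_centralizer_singleton_iff.mp this
      · -- normal p'-subgroup
        obtain ⟨Q₁, hQ₁⟩ := case_pprime p q hpq P Q N hNp hP
        exact ⟨P, Q₁, hQ₁⟩
      · -- normal q-subgroup
        refine ⟨P, Q, ?_⟩
        have hNQ : N ≤ (Q : Subgroup G) := normal_pgroup_le_sylow N hNq Q
        rw [sup_of_le_left hNQ] at hP
        exact hP
      · -- normal q'-subgroup
        obtain ⟨P₁, hP₁⟩ := case_qprime p q P Q N hNq h hP
        exact ⟨P₁, Q, hP₁⟩

/-- Let p and q be primes and G a finite group that is p-solvable or q-solvable, in which no q-element has conjugacy class size divisible by p. Then some Sylow p-subgroup of G normalizes some Sylow q-subgroup of G. -/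
theorem result {G : Type*} [Group G] [Finite G] (p q : ℕ) [Fact p.Prime] [Fact q.Prime] (hsolv : Cfsg.IsPSolvable p G ∨ Cfsg.IsPSolvable q G)
    (h : ∀ y : G, (∃ k : ℕ, orderOf y = q ^ k) → ¬ p ∣ (Subgroup.centralizer ({y} : Set G)).index) :
    ∃ (P : Sylow p G) (Q : Sylow q G), (P : Subgroup G) ≤ Subgroup.normalizer ((Q : Subgroup G) : Set G) := by
  by_cases hpq : p = q
  · subst hpq
    obtain ⟨P⟩ := (inferInstance : Nonempty (Sylow p G))
    exact ⟨P, P, Subgroup.le_normalizer⟩
  · exact main _ G p q rfl hpq hsolv h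

end Cfsg.Agent.S4601
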