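import Cfsg.Statements.S4602
import Cfsg.Agent.Lib.helper80.PSolv
-- import your own Cfsg.Agent.* helpers here

set_option autoImplicit false
open Cfsg

namespace Cfsg.Agent.S4602

/-- Let G be a finite p-solvable group and q a prime different from p. Some Sylow p-subgroup of G normalizes some Sylow q-subgroup of G if and only if q does not divide the order of G/O_{p'}(G), the quotient by the largest normal subgroup of order prime to p. -/
theorem result {G : Type*} [Group G] [Finite G] (p q : ℕ) [Fact p.Prime] [Fact q.Prime] (hpq : p ≠ q) (hsolv : Cfsg.IsPSolvable p G) :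
    (∃ (P : Sylow p G) (Q : Sylow q G), (P : Subgroup G) ≤ Subgroup.normalizer ((Q : Subgroup G) : Set G)) ↔ ¬ q ∣ (Cfsg.pPrimeCore p G).index := by
  have hp : p.Prime := Fact.out
  have hq : q.Prime := Fact.out
  constructor
  · rintro ⟨P, Q, hPQ⟩
    have hQK : (Q : Subgroup G) ≤ Cfsg.pPrimeCore p G :=
      Cfsg.Agent.Lib.helper80.le_pPrimeCore_of_sylow_normalizes p q hpq hsolv P Q Q.isPGroup' hPQ
    intro hdvd
    exact Q.not_dvd_index (hdvd.trans (Subgroup.index_dvd_of_le hQK))
  · intro hK
    set K := Cfsg.pPrimeCore p G with hKdef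
    haveI hKn : K.Normal := Cfsg.Agent.Lib.helper40.pPrimeCore_normal' p G
    have hKc : (Nat.card K).Coprime p := Cfsg.Agent.Lib.helper40.pPrimeCore_card_coprime p G
    obtain ⟨Q₀⟩ : Nonempty (Sylow q K) := inferInstance
    set Q' : Subgroup G := (Q₀ : Subgroup K).map K.subtype with hQ'
    have hQ'q : IsPGroup q Q' := Q₀.isPGroup'.map K.subtype
    have hQ'i : ¬ q ∣ Q'.index := by
      rw [hQ', Subgroup.index_map_subtype]
      exact Nat.Prime.not_dvd_mul hq Q₀.not_dvd_index hK
    have hfr : Subgroup.normalizer (Q' : Set G) ⊔ K = ⊤ := Sylow.normalizer_sup_eq_top Q₀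
    set Nn : Subgroup G := Subgroup.normalizer (Q' : Set G) with hNn
    have hNi : Nn.index ∣ Nat.card K := by
      have h1 := Cfsg.Agent.Lib.helper40.card_sup_dvd_mul Nn K
      rw [hfr, Subgroup.card_top, ← Subgroup.card_mul_index Nn] at h1
      exact Nat.dvd_of_mul_dvd_mul_left Nat.card_pos h1
    have hNc : ¬ p ∣ Nn.index := by
      intro h
      exact (Nat.Prime.coprime_iff_not_dvd hp).mp hKc.symm (h.trans hNi)
    obtain ⟨P₀⟩ : Nonempty (Sylow p Nn) := inferInstance
    set P' : Subgroup G := (P₀ : Subgroup Nn).map Nn.subtype with hP'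
    have hP'p : IsPGroup p P' := P₀.isPGroup'.map Nn.subtype
    have hP'i : ¬ p ∣ P'.index := by
      rw [hP', Subgroup.index_map_subtype]
      exact Nat.Prime.not_dvd_mul hp P₀.not_dvd_index hNc
    refine ⟨hP'p.toSylow hP'i, hQ'q.toSylow hQ'i, ?_⟩
    show P' ≤ Subgroup.normalizer (Q' : Set G)
    rw [hP']
    exact Subgroup.map_subtype_le _

end Cfsg.Agent.S4602
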