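import Mathlib
import Cfsg.Statements.S4604
import Cfsg.Agent.Lib.helper21.FrobCongr
import Cfsg.Agent.Lib.helper4.Induction
import Cfsg.Agent.Lib.helper83.CharBasic

set_option autoImplicit false
open Cfsg

namespace Cfsg.Agent.S4604

open Cfsg.Agent.Lib.helper21 Cfsg.Agent.Lib.helper4
open scoped ComplexConjugate

/-- Non-conjugate `p`-regular elements are separated, modulo the Frobenius ideal, by some
character: the characters induced from `⟨s⟩ × D`, `D` a Sylow `p`-subgroup of `C(s)`. -/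
theorem not_frobCongr_all {G : Type*} [Group G] [Finite G] (p a : ℕ) [Fact p.Prime] (s r : G)
    (hs : ¬ p ∣ orderOf s) (hr : ¬ p ∣ orderOf r) (hsr : ¬ IsConj s r)
    (hall : ∀ χ : G → ℂ, IsCharacter G χ → FrobCongr p a (χ s) (χ r)) : False := by
  classical
  haveI := Fintype.ofFinite G
  have hp : p.Prime := Fact.out
  let H : Subgroup G := Subgroup.centralizer {s}
  have P : Sylow p H := default
  let D : Subgroup G := (P : Subgroup H).map H.subtype
  let A : Subgroup G := Subgroup.zpowers s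
  have hDH : D ≤ H := Subgroup.map_subtype_le _
  have hDp : IsPGroup p D := P.isPGroup'.map H.subtype
  have hDs : ∀ d ∈ D, Commute s d := by
    intro d hd
    exact Subgroup.mem_centralizer_iff.mp (hDH hd) s rfl
  have hcomm : ∀ (a : A) (d : D), Commute (A.subtype a) (D.subtype d) := by
    intro a d
    obtain ⟨k, hk⟩ := Subgroup.mem_zpowers_iff.mp a.2
    simp only [Subgroup.coe_subtype]
    rw [← hk]
    exact (hDs d d.2).zpow_left k
  have hAcomm : ∀ a b : A, a * b = b * a := by
    intro a b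
    obtain ⟨i, hi⟩ := Subgroup.mem_zpowers_iff.mp a.2
    obtain ⟨j, hj⟩ := Subgroup.mem_zpowers_iff.mp b.2
    apply Subtype.ext
    show (a : G) * (b : G) = (b : G) * (a : G)
    rw [← hi, ← hj, ← zpow_add, ← zpow_add, add_comm]
  let φ : A × D →* G := MonoidHom.noncommCoprod A.subtype D.subtype hcomm
  have hφapp : ∀ q : A × D, φ q = (q.1 : G) * (q.2 : G) := fun q => rfl
  obtain ⟨j, hj⟩ := IsPGroup.iff_card.mp hDp
  have hcardA : Nat.card A = orderOf s := Nat.card_zpowers s
  have hφinj : Function.Injective φ := by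
    rw [MonoidHom.noncommCoprod_injective]
    refine ⟨A.subtype_injective, D.subtype_injective, ?_⟩
    rw [Subgroup.range_subtype, Subgroup.range_subtype]
    apply Subgroup.disjoint_of_coprime_natCard
    rw [hcardA, hj]
    exact Nat.Coprime.pow_right j ((Nat.Prime.coprime_iff_not_dvd hp).mpr hs).symm
  let E : Subgroup G := φ.range
  let ε : A × D ≃* E := MonoidHom.ofInjective hφinj
  have hεapp : ∀ q : A × D, ((ε q : E) : G) = (q.1 : G) * (q.2 : G) := fun q => rfl
  let π : E →* A := (MonoidHom.fst A D).comp ε.symm.toMonoidHom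
  have hπapp : ∀ e : E, π e = (ε.symm e).1 := fun e => rfl
  have hπ : ∀ e : E, ∃ d ∈ D, (e : G) = (π e : G) * d := by
    intro e
    refine ⟨((ε.symm e).2 : G), (ε.symm e).2.2, ?_⟩
    have h1 : ε (ε.symm e) = e := ε.apply_symm_apply e
    have h2 : (e : G) = ((ε (ε.symm e) : E) : G) := by rw [h1]
    rw [h2, hεapp, hπapp]
  have hsA : s ∈ A := Subgroup.mem_zpowers s
  have hsE : s ∈ E := ⟨(⟨s, hsA⟩, 1), by rw [hφapp]; simp⟩
  have hπs : π ⟨s, hsE⟩ = ⟨s, hsA⟩ := by
    have h1 : ε (⟨s, hsA⟩, 1) = ⟨s, hsE⟩ := Subtype.ext (by rw [hεapp]; simp)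
    rw [hπapp, ← h1, ε.symm_apply_apply]
  -- the key local fact
  have hL : ∀ g : G, ¬ p ∣ orderOf g → ∀ t : G, ∀ h : t⁻¹ * g * t ∈ E,
      π ⟨t⁻¹ * g * t, h⟩ = ⟨s, hsA⟩ → t⁻¹ * g * t = s := by
    intro g hg t h hπe
    obtain ⟨d, hd, he⟩ := hπ ⟨t⁻¹ * g * t, h⟩
    rw [hπe] at he
    have he' : t⁻¹ * g * t = s * d := he
    have hsd : Commute s d := hDs d hd
    have ho : orderOf (t⁻¹ * g * t) = orderOf g := by
      have := orderOf_injective (MulAut.conj t⁻¹).toMonoidHom (MulAut.conj t⁻¹).injective g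
      simpa using this
    have hdeq : d = s⁻¹ * (t⁻¹ * g * t) := by rw [he']; group
    have hcomm2 : Commute s⁻¹ (t⁻¹ * g * t) := by
      rw [he']
      exact ((Commute.refl s).mul_right hsd).inv_left
    have hdvd : orderOf d ∣ Nat.lcm (orderOf s⁻¹) (orderOf (t⁻¹ * g * t)) := by
      rw [hdeq]; exact hcomm2.orderOf_mul_dvd_lcm
    obtain ⟨k, hk⟩ := (IsPGroup.iff_orderOf.mp hDp) ⟨d, hd⟩
    have hk' : orderOf d = p ^ k := by
      rw [← hk]; exact (Subgroup.orderOf_mk d hd).symm
    have hd1 : d = 1 := by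
      rcases Nat.eq_zero_or_pos k with hk0 | hkpos
      · rw [hk0, pow_zero] at hk'
        exact orderOf_eq_one_iff.mp hk'
      · exfalso
        have h1 : p ∣ orderOf d := by rw [hk']; exact dvd_pow_self p hkpos.ne'
        have h2 : p ∣ orderOf s⁻¹ * orderOf (t⁻¹ * g * t) :=
          (h1.trans hdvd).trans (Nat.lcm_dvd_mul _ _)
        rw [orderOf_inv, ho] at h2
        rcases (Nat.Prime.dvd_mul hp).mp h2 with h3 | h3
        · exact hs h3
        · exact hg h3
    rw [he', hd1, mul_one]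
  haveI : Fintype (IrrCharacter A) := Fintype.ofFinite _
  haveI : Fintype A := Fintype.ofFinite _
  let μ : IrrCharacter A → E → ℂ := fun lam e => (lam : A → ℂ) (π e)
  have hμ : ∀ lam, IsCharacter E (μ lam) :=
    fun lam => isCharacter_comp π (isCharacter_of_isIrrCharacter lam.2)
  let χ : IrrCharacter A → G → ℂ := fun lam => indFun E (μ lam)
  have hχ : ∀ lam, IsCharacter G (χ lam) := fun lam => isCharacter_indFun E (hμ lam)
  let c : IrrCharacter A → ℂ := fun lam => conj ((lam : A → ℂ) ⟨s, hsA⟩)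
  have hc : ∀ lam, IsIntegral ℤ (c lam) := fun lam =>
    map_isIntegral_int (starRingEnd ℂ)
      (isIntegral_of_isCharacter (isCharacter_of_isIrrCharacter lam.2) _)
  have hcent : Subgroup.centralizer ({(⟨s, hsA⟩ : A)} : Set A) = ⊤ := by
    rw [eq_top_iff]
    intro b _
    rw [Subgroup.mem_centralizer_iff]
    intro h _
    exact hAcomm h b
  have hconjA : ∀ b b' : A, IsConj b b' ↔ b = b' := by
    intro b b'
    rw [isConj_iff]
    constructor
    · rintro ⟨c, hc⟩
      rw [← hc, hAcomm c b, mul_inv_cancel_right]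
    · rintro rfl
      exact ⟨1, by simp⟩
  have hsum : ∀ g : G, ∑ lam, c lam * χ lam g = (Nat.card E : ℂ)⁻¹ *
      ∑ t : G, (if ∃ h : t⁻¹ * g * t ∈ E, π ⟨t⁻¹ * g * t, h⟩ = ⟨s, hsA⟩
        then (Nat.card A : ℂ) else 0) := by
    intro g
    have h1 : ∀ lam, c lam * χ lam g = (Nat.card E : ℂ)⁻¹ *
        ∑ t : G, c lam * extendByZero E (μ lam) (t⁻¹ * g * t) := by
      intro lam
      show c lam * ((Nat.card E : ℂ)⁻¹ * ∑ t : G, extendByZero E (μ lam) (t⁻¹ * g * t)) = _
      rw [Finset.mul_sum, Finset.mul_sum, Finset.mul_sum]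
      refine Finset.sum_congr rfl fun t _ => ?_
      ring
    rw [Finset.sum_congr rfl fun lam _ => h1 lam, ← Finset.mul_sum, Finset.sum_comm]
    congr 1
    refine Finset.sum_congr rfl fun t _ => ?_
    by_cases h : t⁻¹ * g * t ∈ E
    · have h2 : ∀ lam, extendByZero E (μ lam) (t⁻¹ * g * t)
          = (lam : A → ℂ) (π ⟨t⁻¹ * g * t, h⟩) :=
        fun lam => extendByZero_apply_mem E (μ lam) h
      have h3 := Cfsg.Agent.Lib.helper83.second_orthogonality (π ⟨t⁻¹ * g * t, h⟩)
        (⟨s, hsA⟩ : A)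
      rw [hcent, Subgroup.card_top] at h3
      have h4 : ∑ lam : IrrCharacter A, c lam * extendByZero E (μ lam) (t⁻¹ * g * t)
          = ∑ lam : IrrCharacter A,
            (lam : A → ℂ) (π ⟨t⁻¹ * g * t, h⟩) * conj ((lam : A → ℂ) ⟨s, hsA⟩) := by
        refine Finset.sum_congr rfl fun lam _ => ?_
        rw [h2 lam, mul_comm]
      rw [h4, h3]
      by_cases h5 : π ⟨t⁻¹ * g * t, h⟩ = ⟨s, hsA⟩
      · rw [if_pos ((hconjA _ _).mpr h5), if_pos ⟨h, h5⟩]
      · rw [if_neg (fun hh => h5 ((hconjA _ _).mp hh)), if_neg]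
        rintro ⟨_, h6⟩
        exact h5 h6
    · have h2 : ∀ lam, c lam * extendByZero E (μ lam) (t⁻¹ * g * t) = 0 := by
        intro lam
        rw [extendByZero_apply_of_not_mem E (μ lam) h, mul_zero]
      rw [Finset.sum_congr rfl fun lam _ => h2 lam, Finset.sum_const_zero, if_neg]
      rintro ⟨h3, _⟩
      exact h h3
  -- value at r
  have hvalr : ∑ lam, c lam * χ lam r = 0 := by
    rw [hsum r]
    have h1 : ∀ t : G, (if ∃ h : t⁻¹ * r * t ∈ E, π ⟨t⁻¹ * r * t, h⟩ = ⟨s, hsA⟩
        then (Nat.card A : ℂ) else 0) = 0 := by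
      intro t
      rw [if_neg]
      rintro ⟨h, h2⟩
      have h3 := hL r hr t h h2
      apply hsr
      rw [isConj_iff]
      exact ⟨t, by rw [← h3]; group⟩
    rw [Finset.sum_congr rfl fun t _ => h1 t, Finset.sum_const_zero, mul_zero]
  -- value at s
  have hcardE : Nat.card E = Nat.card A * Nat.card D := by
    rw [← Nat.card_congr ε.toEquiv, Nat.card_prod]
  have hcardD : Nat.card D = Nat.card (P : Subgroup H) :=
    Subgroup.card_map_of_injective H.subtype_injective
  have hcardH : Nat.card H = Nat.card D * (P : Subgroup H).index := by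
    rw [hcardD]; exact ((P : Subgroup H).card_mul_index).symm
  have hvals : ∑ lam, c lam * χ lam s = (((P : Subgroup H).index : ℕ) : ℂ) := by
    rw [hsum s]
    have h1 : ∀ t : G, (if ∃ h : t⁻¹ * s * t ∈ E, π ⟨t⁻¹ * s * t, h⟩ = ⟨s, hsA⟩
        then (Nat.card A : ℂ) else 0) = if t ∈ H then (Nat.card A : ℂ) else 0 := by
      intro t
      by_cases ht : t ∈ H
      · have h2 : t⁻¹ * s * t = s := by
          have := Subgroup.mem_centralizer_iff.mp ht s rfl
          rw [mul_assoc, this, inv_mul_cancel_left]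
        have hmem : t⁻¹ * s * t ∈ E := by rw [h2]; exact hsE
        rw [if_pos ht, if_pos]
        refine ⟨hmem, ?_⟩
        have h3 : (⟨t⁻¹ * s * t, hmem⟩ : E) = ⟨s, hsE⟩ := Subtype.ext h2
        rw [h3, hπs]
      · rw [if_neg ht, if_neg]
        rintro ⟨h, h2⟩
        have h3 := hL s hs t h h2
        apply ht
        rw [Subgroup.mem_centralizer_iff]
        intro x hx
        rw [Set.mem_singleton_iff] at hx
        subst hx
        have h4 : x * t = t * (t⁻¹ * x * t) := by group
        rw [h4, h3]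
    rw [Finset.sum_congr rfl fun t _ => h1 t, Finset.sum_ite, Finset.sum_const_zero, add_zero,
      Finset.sum_const, nsmul_eq_mul]
    have h2 : (Finset.filter (fun t => t ∈ H) Finset.univ).card = Nat.card H := by
      rw [Nat.card_eq_fintype_card, Fintype.card_subtype]
    rw [h2, hcardE, hcardH]
    have hA0 : (Nat.card A : ℂ) ≠ 0 := Nat.cast_ne_zero.mpr Nat.card_pos.ne'
    have hD0 : (Nat.card D : ℂ) ≠ 0 := Nat.cast_ne_zero.mpr Nat.card_pos.ne'
    push_cast
    field_simp
  have hcongr : FrobCongr p a (∑ lam, c lam * χ lam s) (∑ lam, c lam * χ lam r) :=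
    FrobCongr.sum _ _ _ fun lam _ => (hall (χ lam) (hχ lam)).mul_left (c lam) (hc lam)
  rw [hvals, hvalr] at hcongr
  exact P.not_dvd_index (dvd_of_frobCongr_natCast_zero hcongr)

/-- Let G be a finite group, p a prime and p^a the p-part of the order of G. Let x, y ∈ G and let x′, y′ be their p-regular parts: x′ has order prime to p, commutes with x·x′⁻¹, and x·x′⁻¹ has p-power order (likewise for y). Then x′ and y′ are conjugate in G if and only if for every irreducible character χ of G the algebraic integer χ(x)^(p^a) − χ(y)^(p^a) is p times an algebraic integer. -/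
theorem result {G : Type*} [Group G] [Finite G] (p : ℕ) [Fact p.Prime] (x y x' y' : G)
    (hx : (∃ k : ℕ, orderOf (x * x'⁻¹) = p ^ k) ∧ Commute (x * x'⁻¹) x' ∧ ¬ p ∣ orderOf x')
    (hy : (∃ k : ℕ, orderOf (y * y'⁻¹) = p ^ k) ∧ Commute (y * y'⁻¹) y' ∧ ¬ p ∣ orderOf y') :
    IsConj x' y' ↔ ∀ χ : Cfsg.IrrCharacter G, ∃ γ : Cfsg.AlgInt,
      (χ : G → ℂ) x ^ (p ^ (Nat.card G).factorization p) - (χ : G → ℂ) y ^ (p ^ (Nat.card G).factorization p) = (p : ℂ) * (γ : ℂ) := by
  classical
  obtain ⟨⟨kx, hkx⟩, hcx, hpx⟩ := hx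
  obtain ⟨⟨ky, hky⟩, hcy, hpy⟩ := hy
  have hp : p.Prime := Fact.out
  have hpow : ∀ (u : G) (k : ℕ), orderOf u = p ^ k →
      u ^ (p ^ (Nat.card G).factorization p) = 1 := by
    intro u k hk
    have h1 : p ^ k ∣ Nat.card G := hk ▸ orderOf_dvd_natCard u
    have h2 : k ≤ (Nat.card G).factorization p :=
      (hp.pow_dvd_iff_le_factorization Nat.card_pos.ne').mp h1
    have h3 : orderOf u ∣ p ^ (Nat.card G).factorization p := hk ▸ pow_dvd_pow p h2
    exact orderOf_dvd_iff_pow_eq_one.mp h3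
  have hxs : ∀ χ : G → ℂ, IsCharacter G χ →
      FrobCongr p ((Nat.card G).factorization p) (χ x) (χ x') := by
    intro χ hχ
    have h1 := frobCongr_mul_of_commute (p := p) (a := (Nat.card G).factorization p) hχ hcx
      (hpow _ kx hkx)
    rwa [inv_mul_cancel_right] at h1
  have hys : ∀ χ : G → ℂ, IsCharacter G χ →
      FrobCongr p ((Nat.card G).factorization p) (χ y) (χ y') := by
    intro χ hχ
    have h1 := frobCongr_mul_of_commute (p := p) (a := (Nat.card G).factorization p) hχ hcy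
      (hpow _ ky hky)
    rwa [inv_mul_cancel_right] at h1
  have hint : ∀ (χ : IrrCharacter G) (g : G), IsIntegral ℤ ((χ : G → ℂ) g) :=
    fun χ g => isIntegral_of_isCharacter (isCharacter_of_isIrrCharacter χ.2) g
  constructor
  · intro hconj χ
    have hχc := isCharacter_of_isIrrCharacter χ.2
    have heq : (χ : G → ℂ) x' = (χ : G → ℂ) y' := by
      obtain ⟨c, hc⟩ := isConj_iff.mp hconj
      rw [← hc]
      exact (isClassFunction_of_isIrrCharacter χ.2 x' c).symm
    have h1 : FrobCongr p ((Nat.card G).factorization p) ((χ : G → ℂ) x) ((χ : G → ℂ) y) := by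
      refine (hxs _ hχc).trans ?_
      rw [heq]
      exact (hys _ hχc).symm
    exact (frobCongr_iff_pow (hint χ x) (hint χ y)).mp h1
  · intro h
    by_contra hnc
    have hirr : ∀ χ : IrrCharacter G,
        FrobCongr p ((Nat.card G).factorization p) ((χ : G → ℂ) x) ((χ : G → ℂ) y) :=
      fun χ => (frobCongr_iff_pow (hint χ x) (hint χ y)).mpr (h χ)
    have hall : ∀ χ : G → ℂ, IsCharacter G χ →
        FrobCongr p ((Nat.card G).factorization p) (χ x') (χ y') := by
      intro χ hχ
      exact ((hxs χ hχ).symm.trans (frobCongr_of_irr hχ hirr)).trans (hys χ hχ)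
    exact not_frobCongr_all p _ x' y' hpx hpy hnc hall

end Cfsg.Agent.S4604
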