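import Mathlib
import Cfsg.Statements.S4611
import Cfsg.Agent.Lib.helper81.PrincipalQuot
import Cfsg.Agent.Lib.helper29.PSolv
import Cfsg.Agent.Lib.helper82.CharQuot
import Cfsg.Agent.Lib.helper40.Cores
-- import your own Cfsg.Agent.* helpers here

set_option autoImplicit false
open Cfsg

namespace Cfsg.Agent.S4611

/-- Let G be a finite solvable group and π a nonempty set of primes, each dividing the order of G; fix for each p in π a maximal ideal M p of the algebraic integers containing p. Then the only irreducible character lying in the principal p-block for every p in π is the principal character if and only if G is generated by the subgroups O_{p'}(G), p in π (the largest normal subgroups of order prime to p). -/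
theorem result {G : Type*} [Group G] [Finite G] [Group.IsSolvable G] (π : Set ℕ) (hπ : ∀ p ∈ π, p.Prime ∧ p ∣ Nat.card G) (hne : π.Nonempty) (M : ℕ → Ideal Cfsg.AlgInt) (hM : ∀ p ∈ π, Cfsg.IsPModular p (M p)) :
    (∀ χ : Cfsg.IrrCharacter G, (∀ p ∈ π, χ ∈ Cfsg.principalBlock (M p) G) → (χ : G → ℂ) = fun _ => 1) ↔
      ⨆ p ∈ π, Cfsg.pPrimeCore p G = ⊤ := by
  classical
  let _ : Fintype G := Fintype.ofFinite G
  have hfong : ∀ p ∈ π, ∀ χ : Cfsg.IrrCharacter G, χ ∈ Cfsg.principalBlock (M p) G ↔
      ∀ n ∈ Cfsg.pPrimeCore p G, (χ : G → ℂ) n = (χ : G → ℂ) 1 := by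
    intro p hp χ
    haveI : Fact p.Prime := ⟨(hπ p hp).1⟩
    exact Cfsg.Agent.Lib.helper81.mem_principalBlock_iff_of_isPSolvable (hM p hp)
      (Cfsg.Agent.Lib.helper29.isPSolvable_of_isSolvable p inferInstance) χ
  constructor
  · intro h
    by_contra hK
    obtain ⟨K, hKdef⟩ : ∃ K : Subgroup G, K = ⨆ p ∈ π, Cfsg.pPrimeCore p G := ⟨_, rfl⟩
    rw [← hKdef] at hK
    haveI hKn : K.Normal := by
      rw [hKdef]
      exact Subgroup.biSup_normal π (fun p => Cfsg.pPrimeCore p G)
        (fun p _ => Cfsg.Agent.Lib.helper40.pPrimeCore_normal' p G)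
    have hle : ∀ p ∈ π, Cfsg.pPrimeCore p G ≤ K := by
      intro p hp
      rw [hKdef]
      exact le_biSup (fun p => Cfsg.pPrimeCore p G) hp
    haveI hnt : Nontrivial (G ⧸ K) := by
      rw [← not_subsingleton_iff_nontrivial]
      intro hsub
      apply hK
      rw [eq_top_iff]
      intro g _
      rw [← QuotientGroup.eq_one_iff]
      exact Subsingleton.elim _ _
    have hcomm : commutator (G ⧸ K) ≠ ⊤ := by
      intro htop
      obtain ⟨n, hn⟩ := (inferInstance : Group.IsSolvable (G ⧸ K))
      have hall : ∀ m : ℕ, derivedSeries (G ⧸ K) m = ⊤ := by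
        intro m
        induction m with
        | zero => rfl
        | succ m ih =>
          rw [derivedSeries_succ, ih]
          exact htop
      rw [hall n] at hn
      exact absurd hn.symm (by
        intro hbt
        obtain ⟨x, hx⟩ := exists_ne (1 : G ⧸ K)
        have hxm : x ∈ (⊤ : Subgroup (G ⧸ K)) := Subgroup.mem_top x
        rw [← hbt] at hxm
        exact hx (Subgroup.mem_bot.mp hxm))
    obtain ⟨f, hf⟩ := Cfsg.Agent.Lib.helper82.exists_hom_ker_prime_index hcomm
    obtain ⟨f', hf'⟩ : ∃ f' : G →* ℂˣ, f' = f.comp (QuotientGroup.mk' K) := ⟨_, rfl⟩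
    have hirr := Cfsg.Agent.Lib.helper82.isIrrCharacter_of_hom f'
    have hf'K : ∀ n ∈ K, f' n = 1 := by
      intro n hn
      rw [hf']
      show f ((n : G) : G ⧸ K) = 1
      rw [(QuotientGroup.eq_one_iff n).mpr hn, map_one]
    have hχ := h ⟨_, hirr⟩ (fun p hp => (hfong p hp _).mpr (fun n hn => by
      show ((f' n : ℂˣ) : ℂ) = ((f' 1 : ℂˣ) : ℂ)
      rw [hf'K n (hle p hp hn), map_one]))
    have hker : f.ker = ⊤ := by
      rw [eq_top_iff]
      intro x _
      obtain ⟨g, rfl⟩ := QuotientGroup.mk_surjective x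
      rw [MonoidHom.mem_ker]
      have h1 := congrFun hχ g
      have h2 : ((f' g : ℂˣ) : ℂ) = 1 := h1
      have h3 : f' g = 1 := Units.ext h2
      rw [hf'] at h3
      exact h3
    rw [hker, Subgroup.index_top] at hf
    exact Nat.not_prime_one hf
  · intro h χ hχ
    obtain ⟨K, hKn, hK⟩ := Cfsg.Agent.Lib.helper82.exists_ker_of_isCharacter
      (Cfsg.Agent.Lib.helper83.isCharacter_of_irr χ.2)
    have hle : (⨆ p ∈ π, Cfsg.pPrimeCore p G) ≤ K :=
      iSup₂_le (fun p hp n hn => (hK n).mpr ((hfong p hp χ).mp (hχ p hp) n hn))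
    rw [h] at hle
    have hconst : ∀ g, (χ : G → ℂ) g = (χ : G → ℂ) 1 :=
      fun g => (hK g).mp (hle (Subgroup.mem_top g))
    have h10 : (χ : G → ℂ) 1 ≠ 0 := Cfsg.Agent.Lib.helper83.irr_one_ne_zero χ
    have hcard : (Nat.card G : ℂ) ≠ 0 := by
      have : 0 < Nat.card G := Nat.card_pos
      exact_mod_cast this.ne'
    have horth := Cfsg.Agent.Lib.helper83.irr_orthogonality' χ (Cfsg.Agent.Lib.helper81.trivChar G)
    have hsum : ∑ g : G, (χ : G → ℂ) g
        * (starRingEnd ℂ) ((Cfsg.Agent.Lib.helper81.trivChar G : G → ℂ) g)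
        = (Nat.card G : ℂ) * (χ : G → ℂ) 1 := by
      rw [Finset.sum_congr rfl (fun g _ => by
        rw [hconst g, Cfsg.Agent.Lib.helper81.trivChar_apply, map_one, mul_one]),
        Finset.sum_const, Finset.card_univ, nsmul_eq_mul, Nat.card_eq_fintype_card]
    rw [hsum] at horth
    have heq : χ = Cfsg.Agent.Lib.helper81.trivChar G := by
      by_contra hne
      rw [if_neg hne] at horth
      exact (mul_ne_zero hcard h10) horth
    rw [heq]
    rfl

end Cfsg.Agent.S4611
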