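import Cfsg.Statements.S4620
import Cfsg.Agent.Lib.helper40.Cores
-- import your own Cfsg.Agent.* helpers here

set_option autoImplicit false
open scoped Pointwise
open Cfsg

namespace Cfsg.Agent.S4620

/-- The TI condition in elementwise form. -/
theorem ti_elt {H : Type*} [Group H] {p : ℕ} (P : Sylow p H)
    (hTI : ∀ g : H, g ∉ Subgroup.normalizer ((P : Subgroup H) : Set H) →
      (P : Subgroup H) ⊓ (MulAut.conj g • (P : Subgroup H)) = ⊥)
    {y k : H} (hy : y ∈ (P : Subgroup H)) (hy1 : y ≠ 1) (hk : k * y * k⁻¹ ∈ (P : Subgroup H)) :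
    k ∈ Subgroup.normalizer ((P : Subgroup H) : Set H) := by
  by_contra hk'
  have h := hTI k hk'
  have hmem : k * y * k⁻¹ ∈ (P : Subgroup H) ⊓ (MulAut.conj k • (P : Subgroup H)) := by
    refine Subgroup.mem_inf.mpr ⟨hk, ?_⟩
    rw [Subgroup.mem_pointwise_smul_iff_inv_smul_mem]
    have e : (MulAut.conj k)⁻¹ • (k * y * k⁻¹) = y := by
      rw [MulAut.smul_def, MulAut.conj_inv_apply]; group
    rw [e]; exact hy
  rw [h, Subgroup.mem_bot] at hmem
  apply hy1
  have : y = k⁻¹ * (k * y * k⁻¹) * k := by group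
  rw [this, hmem]; group

/-- An element commuting with a nontrivial element of the TI Sylow subgroup normalizes it. -/
theorem ti_commute {H : Type*} [Group H] {p : ℕ} (P : Sylow p H)
    (hTI : ∀ g : H, g ∉ Subgroup.normalizer ((P : Subgroup H) : Set H) →
      (P : Subgroup H) ⊓ (MulAut.conj g • (P : Subgroup H)) = ⊥)
    {y k : H} (hy : y ∈ (P : Subgroup H)) (hy1 : y ≠ 1) (hk : k * y = y * k) :
    k ∈ Subgroup.normalizer ((P : Subgroup H) : Set H) := by
  apply ti_elt P hTI hy hy1
  rw [hk, mul_inv_cancel_right]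
  exact hy

/-- A `p`-element normalizing a Sylow `p`-subgroup lies in it. -/
theorem mem_sylow_of_normalizes {H : Type*} [Group H] {p : ℕ} [Fact p.Prime] (P : Sylow p H) {z : H}
    {k : ℕ} (hz : orderOf z = p ^ k) (hzN : z ∈ Subgroup.normalizer ((P : Subgroup H) : Set H)) :
    z ∈ (P : Subgroup H) := by
  have hpz : IsPGroup p (Subgroup.zpowers z) := by
    apply IsPGroup.of_card (n := k)
    rw [Nat.card_zpowers, hz]
  have h1 := hpz.inf_normalizer_sylow P
  have h3 : z ∈ Subgroup.zpowers z ⊓ (P : Subgroup H) := by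
    rw [← h1]
    exact ⟨Subgroup.mem_zpowers _, hzN⟩
  exact h3.2

/-- A nontrivial normal subgroup meets `P` nontrivially when `O_{p'}(H) = 1`. -/
theorem exists_mem_sylow_inf {H : Type*} [Group H] [Finite H] {p : ℕ} [Fact p.Prime]
    (hOp' : Cfsg.pPrimeCore p H = ⊥) (P : Sylow p H) (K : Subgroup H) (hKn : K.Normal)
    (hK : K ≠ ⊥) : ∃ x, x ∈ (P : Subgroup H) ∧ x ∈ K ∧ x ≠ 1 := by
  have hp : p.Prime := Fact.out
  have hdvd : p ∣ Nat.card K := by
    by_contra h
    have hc : (Nat.card K).Coprime p := ((Nat.Prime.coprime_iff_not_dvd hp).mpr h).symm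
    have := Cfsg.Agent.Lib.helper40.le_pPrimeCore K hKn hc
    rw [hOp'] at this
    exact hK (le_bot_iff.mp this)
  obtain ⟨y, hy⟩ := exists_prime_orderOf_dvd_card' p hdvd
  have hy' : orderOf (y : H) = p := by rw [Subgroup.orderOf_coe]; exact hy
  have hyp : IsPGroup p (Subgroup.zpowers (y : H)) := by
    apply IsPGroup.of_card (n := 1)
    rw [Nat.card_zpowers, hy', pow_one]
  obtain ⟨P', hP'⟩ := hyp.exists_le_sylow
  obtain ⟨g, hg⟩ := MulAction.exists_smul_eq H P' P
  refine ⟨g * y * g⁻¹, ?_, hKn.conj_mem _ y.2 g, ?_⟩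
  · have h1 : (y : H) ∈ (P' : Subgroup H) := hP' (Subgroup.mem_zpowers _)
    have h2 : ((g • P' : Sylow p H) : Subgroup H) = MulAut.conj g • (P' : Subgroup H) :=
      Sylow.coe_subgroup_smul
    rw [← hg, h2]
    have := Subgroup.smul_mem_pointwise_smul (y : H) (MulAut.conj g) (P' : Subgroup H) h1
    simpa [MulAut.smul_def] using this
  · intro h
    have h1 : (y : H) = 1 := by
      have : (y : H) = g⁻¹ * (g * y * g⁻¹) * g := by group
      rw [this, h]; group
    rw [h1, orderOf_one] at hy'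
    exact hp.one_lt.ne hy'

/-- A nontrivial normal subgroup does not normalize `P` when `O_p(H) = O_{p'}(H) = 1`. -/
theorem not_le_normalizer {H : Type*} [Group H] [Finite H] {p : ℕ} [Fact p.Prime]
    (hOp : Cfsg.pCore p H = ⊥) (hOp' : Cfsg.pPrimeCore p H = ⊥) (P : Sylow p H) (K : Subgroup H)
    (hKn : K.Normal) (hK : K ≠ ⊥) : ¬ K ≤ Subgroup.normalizer ((P : Subgroup H) : Set H) := by
  intro hKN
  obtain ⟨x, hxP, hxK, hx1⟩ := exists_mem_sylow_inf hOp' P K hKn hK
  obtain ⟨k, hk⟩ := (IsPGroup.iff_orderOf.mp P.isPGroup') ⟨x, hxP⟩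
  have hk' : orderOf x = p ^ k := by rw [← hk, ← Subgroup.orderOf_coe]
  have hconj : ∀ g : H, g * x * g⁻¹ ∈ (P : Subgroup H) := by
    intro g
    have h1 : g * x * g⁻¹ ∈ K := hKn.conj_mem _ hxK g
    have hord : orderOf (g * x * g⁻¹) = p ^ k := by
      rw [← hk']; exact (MulAut.conj g).orderOf_eq x
    exact mem_sylow_of_normalizes P hord (hKN h1)
  have hle : Subgroup.normalClosure {x} ≤ (P : Subgroup H) := by
    rw [Subgroup.normalClosure, Subgroup.closure_le]
    intro z hz
    rw [Group.mem_conjugatesOfSet_iff] at hz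
    obtain ⟨b, hb, hbz⟩ := hz
    rw [Set.mem_singleton_iff] at hb; subst hb
    obtain ⟨c, rfl⟩ := isConj_iff.mp hbz
    exact hconj c
  have hpg : IsPGroup p (Subgroup.normalClosure {x}) := P.isPGroup'.to_le hle
  have := Cfsg.Agent.Lib.helper40.le_pCore _ (Subgroup.normalClosure_normal) hpg
  rw [hOp] at this
  have hx : x ∈ Subgroup.normalClosure {x} := Subgroup.subset_normalClosure (Set.mem_singleton x)
  exact hx1 (Subgroup.mem_bot.mp (this hx))

/-- The unique minimal normal subgroup, with trivial centralizer. -/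
theorem exists_min_normal {H : Type*} [Group H] [Finite H] {p : ℕ} [Fact p.Prime]
    (hOp : Cfsg.pCore p H = ⊥) (hOp' : Cfsg.pPrimeCore p H = ⊥) (P : Sylow p H)
    (hP1 : (P : Subgroup H) ≠ ⊥)
    (hTI : ∀ g : H, g ∉ Subgroup.normalizer ((P : Subgroup H) : Set H) →
      (P : Subgroup H) ⊓ (MulAut.conj g • (P : Subgroup H)) = ⊥) :
    ∃ N : Subgroup H, N.Normal ∧ N ≠ ⊥ ∧ (∀ K : Subgroup H, K.Normal → K ≠ ⊥ → N ≤ K) ∧
      Subgroup.centralizer (N : Set H) = ⊥ := by
  have htop : (⊤ : Subgroup H).Normal ∧ (⊤ : Subgroup H) ≠ ⊥ :=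
    ⟨inferInstance, fun h => hP1 (by rw [eq_bot_iff, ← h]; exact le_top)⟩
  obtain ⟨N, -, hNmin⟩ :=
    Finite.exists_le_minimal (p := fun K : Subgroup H => K.Normal ∧ K ≠ ⊥) htop
  have hNn : N.Normal := hNmin.prop.1
  have hN1 : N ≠ ⊥ := hNmin.prop.2
  have huniq : ∀ K : Subgroup H, K.Normal → K ≠ ⊥ → N ≤ K := by
    intro K hKn hK1
    by_contra hNK
    have hinf : N ⊓ K = ⊥ := by
      by_contra hne
      have hn : (N ⊓ K).Normal := Subgroup.normal_inf_normal N K
      have := hNmin.le_of_le ⟨hn, hne⟩ inf_le_left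
      exact hNK (this.trans inf_le_right)
    obtain ⟨x, hxP, hxK, hx1⟩ := exists_mem_sylow_inf hOp' P K hKn hK1
    apply not_le_normalizer hOp hOp' P N hNn hN1
    intro n hn
    apply ti_commute P hTI hxP hx1
    exact (Subgroup.commute_of_normal_of_disjoint N K hNn hKn (disjoint_iff.mpr hinf) n x hn hxK).eq
  refine ⟨N, hNn, hN1, huniq, ?_⟩
  by_contra hC
  have hCn : (Subgroup.centralizer (N : Set H)).Normal := inferInstance
  have hNC := huniq _ hCn hC
  obtain ⟨x, hxP, hxN, hx1⟩ := exists_mem_sylow_inf hOp' P N hNn hN1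
  apply not_le_normalizer hOp hOp' P N hNn hN1
  intro n hn
  apply ti_commute P hTI hxP hx1
  exact (Subgroup.mem_centralizer_iff.mp (hNC hn) x hxN).symm

/-- The unique minimal normal subgroup is simple. -/
theorem simple_of_min {H : Type*} [Group H] [Finite H] {p : ℕ} [Fact p.Prime]
    (hOp : Cfsg.pCore p H = ⊥) (hOp' : Cfsg.pPrimeCore p H = ⊥) (P : Sylow p H)
    (hTI : ∀ g : H, g ∉ Subgroup.normalizer ((P : Subgroup H) : Set H) →
      (P : Subgroup H) ⊓ (MulAut.conj g • (P : Subgroup H)) = ⊥)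
    (N : Subgroup H) [hNn : N.Normal] (hN1 : N ≠ ⊥)
    (huniq : ∀ K : Subgroup H, K.Normal → K ≠ ⊥ → N ≤ K) :
    ∀ S₀ : Subgroup N, S₀.Normal → S₀ = ⊥ ∨ S₀ = ⊤ := by
  have hp : p.Prime := Fact.out
  intro S₀ hS₀n
  by_contra hcon
  push Not at hcon
  obtain ⟨hS₀1, hS₀t⟩ := hcon
  obtain ⟨S, hSS₀, hSmin⟩ :=
    Finite.exists_le_minimal (p := fun K : Subgroup N => K.Normal ∧ K ≠ ⊥) ⟨hS₀n, hS₀1⟩
  have hSn : S.Normal := hSmin.prop.1
  have hS1 : S ≠ ⊥ := hSmin.prop.2
  have hSt : S ≠ ⊤ := fun h => hS₀t (top_le_iff.mp (h ▸ hSS₀))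
  let c : H → Subgroup N := fun h => S.map (MulAut.conjNormal h : MulAut N).toMonoidHom
  have hcn : ∀ h, (c h).Normal := fun h => Subgroup.Normal.map hSn _ (MulEquiv.surjective _)
  have hcard : ∀ h, Nat.card (c h) = Nat.card S := fun h =>
    Nat.card_congr (S.equivMapOfInjective _ (MulEquiv.injective _)).symm.toEquiv
  have hcmin : ∀ h (K : Subgroup N), K.Normal → K ≠ ⊥ → K ≤ c h → c h ≤ K := by
    intro h K hKn hK1 hKc
    let φ := (MulAut.conjNormal h : MulAut N).toMonoidHom
    have hφs : Function.Surjective φ := MulEquiv.surjective _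
    have hφi : Function.Injective φ := MulEquiv.injective _
    have h1 : (K.comap φ).Normal := Subgroup.Normal.comap hKn φ
    have h2 : K.comap φ ≠ ⊥ := by
      intro hh
      apply hK1
      rw [← Subgroup.map_comap_eq_self_of_surjective hφs K, hh, Subgroup.map_bot]
    have h3 : K.comap φ ≤ S := by
      have := Subgroup.comap_mono (f := φ) hKc
      rwa [Subgroup.comap_map_eq_self_of_injective hφi] at this
    have h4 : S ≤ K.comap φ := hSmin.le_of_le ⟨h1, h2⟩ h3
    exact Subgroup.map_le_iff_le_comap.mpr h4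
  have hcdisj : ∀ a b, c a ≠ c b → c a ⊓ c b = ⊥ := by
    intro a b hab
    by_contra hne
    have := hcn a
    have := hcn b
    have hn : (c a ⊓ c b).Normal := Subgroup.normal_inf_normal _ _
    have h1 := hcmin a _ hn hne inf_le_left
    have h2 := hcmin b _ hn hne inf_le_right
    exact hab (le_antisymm (h1.trans inf_le_right) (h2.trans inf_le_left))
  have hccomm : ∀ a b, c a ≠ c b → ∀ s ∈ c a, ∀ t ∈ c b, s * t = t * s := by
    intro a b hab s hs t ht
    exact (Subgroup.commute_of_normal_of_disjoint _ _ (hcn a) (hcn b)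
      (disjoint_iff.mpr (hcdisj a b hab)) s t hs ht).eq
  have hmem : ∀ (h : H) (s : N), s ∈ S → (MulAut.conjNormal h : MulAut N) s ∈ c h :=
    fun h s hs => Subgroup.mem_map_of_mem _ hs
  have hclos : ∀ X : Subgroup H, (∀ h, ∀ s ∈ c h, (s : H) ∈ X) → N ≤ X := by
    intro X hX
    have h1 : Subgroup.normalClosure ((S.map N.subtype : Subgroup H) : Set H) ≤ X := by
      rw [Subgroup.normalClosure, Subgroup.closure_le]
      intro z hz
      rw [Group.mem_conjugatesOfSet_iff] at hz
      obtain ⟨b, hb, hbz⟩ := hz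
      obtain ⟨s, hs, rfl⟩ := hb
      obtain ⟨g, rfl⟩ := isConj_iff.mp hbz
      have := hX g _ (hmem g s hs)
      rwa [MulAut.conjNormal_apply] at this
    have h2 : Subgroup.normalClosure ((S.map N.subtype : Subgroup H) : Set H) ≠ ⊥ := by
      intro hh
      apply hS1
      have h3 : S.map N.subtype ≤ ⊥ := hh ▸ Subgroup.le_normalClosure
      rw [le_bot_iff] at h3
      exact (Subgroup.map_eq_bot_iff_of_injective S (Subgroup.subtype_injective N)).mp h3
    exact (huniq _ Subgroup.normalClosure_normal h2).trans h1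
  obtain ⟨x, hxP, hxN, hx1⟩ := exists_mem_sylow_inf hOp' P N hNn hN1
  by_cases hpS : p ∣ Nat.card S
  · obtain ⟨y, hy⟩ := exists_prime_orderOf_dvd_card' p hpS
    have hyH : orderOf (((y : N) : H)) = p := by
      rw [Subgroup.orderOf_coe, Subgroup.orderOf_coe]; exact hy
    have hyp : IsPGroup p (Subgroup.zpowers (((y : N) : H))) := by
      apply IsPGroup.of_card (n := 1); rw [Nat.card_zpowers, hyH, pow_one]
    obtain ⟨P', hP'⟩ := hyp.exists_le_sylow
    obtain ⟨a, ha⟩ := MulAction.exists_smul_eq H P' P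
    let x₁ : N := (MulAut.conjNormal a : MulAut N) (y : N)
    have hx₁c : x₁ ∈ c a := hmem a _ y.2
    have hx₁v : (x₁ : H) = a * ((y : N) : H) * a⁻¹ := MulAut.conjNormal_apply a (y : N)
    have hx₁P : (x₁ : H) ∈ (P : Subgroup H) := by
      have h1 : ((y : N) : H) ∈ (P' : Subgroup H) := hP' (Subgroup.mem_zpowers _)
      have h2 : ((a • P' : Sylow p H) : Subgroup H) = MulAut.conj a • (P' : Subgroup H) :=
        Sylow.coe_subgroup_smul
      rw [← ha, h2, hx₁v]
      have := Subgroup.smul_mem_pointwise_smul ((y : N) : H) (MulAut.conj a) (P' : Subgroup H) h1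
      simpa [MulAut.smul_def] using this
    have hx₁1 : (x₁ : H) ≠ 1 := by
      intro h
      rw [hx₁v] at h
      have h1 : ((y : N) : H) = 1 := by
        have : ((y : N) : H) = a⁻¹ * (a * ((y : N) : H) * a⁻¹) * a := by group
        rw [this, h]; group
      rw [h1, orderOf_one] at hyH
      exact hp.one_lt.ne hyH
    have hb : ∀ h, c h ≠ c a → ∀ s ∈ c h,
        (s : H) ∈ Subgroup.normalizer ((P : Subgroup H) : Set H) := by
      intro h hne s hs
      apply ti_commute P hTI hx₁P hx₁1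
      have := hccomm h a hne s hs x₁ hx₁c
      exact congrArg Subtype.val this
    have hc : ∃ h₀, c h₀ ≠ c a := by
      by_contra hall
      push Not at hall
      have hc1 : c 1 = S := by
        show S.map (MulAut.conjNormal (1 : H) : MulAut N).toMonoidHom = S
        rw [map_one]
        exact Subgroup.map_id S
      have hall' : ∀ h, c h = S := by
        intro h; rw [hall h, ← hall 1, hc1]
      have hN : N ≤ S.map N.subtype := hclos _ (fun h s hs => ⟨s, hall' h ▸ hs, rfl⟩)
      apply hSt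
      rw [eq_top_iff]
      intro n _
      obtain ⟨s, hs, hsn⟩ := hN n.2
      have : s = n := Subtype.ext hsn
      rwa [← this]
    obtain ⟨h₀, hh₀⟩ := hc
    have hd : ∀ s ∈ c a, (s : H) ∈ Subgroup.normalizer ((P : Subgroup H) : Set H) := by
      have hcd : p ∣ Nat.card (c h₀) := by rw [hcard]; exact hpS
      obtain ⟨z, hz⟩ := exists_prime_orderOf_dvd_card' p hcd
      have hzH : orderOf (((z : N) : H)) = p ^ 1 := by
        rw [Subgroup.orderOf_coe, Subgroup.orderOf_coe, hz, pow_one]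
      have hzN : ((z : N) : H) ∈ Subgroup.normalizer ((P : Subgroup H) : Set H) :=
        hb h₀ hh₀ z z.2
      have hzP := mem_sylow_of_normalizes P hzH hzN
      have hz1 : ((z : N) : H) ≠ 1 := by
        intro h
        rw [h, orderOf_one, pow_one] at hzH
        exact hp.one_lt.ne hzH
      intro s hs
      apply ti_commute P hTI hzP hz1
      have := hccomm a h₀ (Ne.symm hh₀) s hs z z.2
      exact congrArg Subtype.val this
    apply not_le_normalizer hOp hOp' P N hNn hN1
    apply hclos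
    intro h s hs
    by_cases hh : c h = c a
    · exact hd s (hh ▸ hs)
    · exact hb h hh s hs
  · have hSc : ∀ h, (Nat.card (c h)).Coprime p := by
      intro h
      rw [hcard]; exact ((Nat.Prime.coprime_iff_not_dvd hp).mpr hpS).symm
    have hle : ∀ h, c h ≤ Cfsg.pPrimeCore p N := fun h =>
      Cfsg.Agent.Lib.helper40.le_pPrimeCore (c h) (hcn h) (hSc h)
    have hN : N ≤ (Cfsg.pPrimeCore p N).map N.subtype :=
      hclos _ (fun h s hs => ⟨s, hle h hs, rfl⟩)
    have hcop : (Nat.card N).Coprime p := by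
      have h1 : Nat.card N ∣ Nat.card ((Cfsg.pPrimeCore p N).map N.subtype) :=
        Subgroup.card_dvd_of_le hN
      have h2 : Nat.card ((Cfsg.pPrimeCore p N).map N.subtype) = Nat.card (Cfsg.pPrimeCore p N) :=
        Nat.card_congr (Subgroup.equivMapOfInjective _ _ (Subgroup.subtype_injective N)).symm.toEquiv
      rw [h2] at h1
      exact Nat.Coprime.coprime_dvd_left h1 (Cfsg.Agent.Lib.helper40.pPrimeCore_card_coprime p N)
    have hdvd : p ∣ Nat.card N := by
      have h1 : p ∣ orderOf (⟨x, hxP⟩ : (P : Subgroup H)) :=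
        IsPGroup.dvd_orderOf P.isPGroup' (fun h => hx1 (congrArg Subtype.val h))
      have h2 : orderOf x ∣ Nat.card N := by
        have := orderOf_dvd_natCard (⟨x, hxN⟩ : N)
        rwa [Subgroup.orderOf_mk] at this
      rw [Subgroup.orderOf_mk] at h1
      exact h1.trans h2
    exact (Nat.Prime.coprime_iff_not_dvd hp).mp hcop.symm hdvd

/-- A Sylow `p`-subgroup of any subgroup `N` inherits the TI property (for conjugation by `N`). -/
theorem sylow_ti_of_subgroup {H : Type*} [Group H] [Finite H] {p : ℕ} [Fact p.Prime]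
    (P : Sylow p H)
    (hTI : ∀ g : H, g ∉ Subgroup.normalizer ((P : Subgroup H) : Set H) →
      (P : Subgroup H) ⊓ (MulAut.conj g • (P : Subgroup H)) = ⊥)
    (N : Subgroup H) (Q : Sylow p N) (n : N)
    (hn : n ∉ Subgroup.normalizer ((Q : Subgroup N) : Set N)) :
    (Q : Subgroup N) ⊓ (MulAut.conj n • (Q : Subgroup N)) = ⊥ := by
  have hQp : IsPGroup p ((Q : Subgroup N).map N.subtype) := Q.isPGroup'.map _
  obtain ⟨P', hP'⟩ := hQp.exists_le_sylow
  obtain ⟨g, hg⟩ := MulAction.exists_smul_eq H P P'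
  have hgP : (P' : Subgroup H) = MulAut.conj g • (P : Subgroup H) := by
    rw [← hg]; exact Sylow.coe_subgroup_smul
  have hmemP' : ∀ m : H, m ∈ (P' : Subgroup H) ↔ g⁻¹ * m * g ∈ (P : Subgroup H) := by
    intro m
    rw [hgP, Subgroup.mem_pointwise_smul_iff_inv_smul_mem, MulAut.smul_def, MulAut.conj_inv_apply]
  have hQP : ∀ q : N, q ∈ (Q : Subgroup N) → g⁻¹ * (q : H) * g ∈ (P : Subgroup H) := by
    intro q hq
    exact (hmemP' _).mp (hP' ⟨q, hq, rfl⟩)
  have hQmax : ∀ m : N, g⁻¹ * (m : H) * g ∈ (P : Subgroup H) → m ∈ (Q : Subgroup N) := by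
    intro m hm
    have hR : IsPGroup p ((P' : Subgroup H).subgroupOf N) := P'.isPGroup'.comap_subtype
    have hQR : (Q : Subgroup N) ≤ (P' : Subgroup H).subgroupOf N := by
      intro q hq
      rw [Subgroup.mem_subgroupOf]; exact hP' ⟨q, hq, rfl⟩
    have := Q.is_maximal' hR hQR
    rw [← this, Subgroup.mem_subgroupOf, hmemP']
    exact hm
  by_contra hne
  apply hn
  obtain ⟨y, hy, hy1⟩ : ∃ y : N, y ∈ (Q : Subgroup N) ⊓ (MulAut.conj n • (Q : Subgroup N)) ∧ y ≠ 1 := by
    by_contra hh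
    push Not at hh
    apply hne
    rw [eq_bot_iff]
    intro y hy
    rw [Subgroup.mem_bot]; exact hh y hy
  obtain ⟨hyQ, hyQ'⟩ := Subgroup.mem_inf.mp hy
  rw [Subgroup.mem_pointwise_smul_iff_inv_smul_mem, MulAut.smul_def, MulAut.conj_inv_apply] at hyQ'
  have hy₀P : g⁻¹ * (y : H) * g ∈ (P : Subgroup H) := hQP y hyQ
  have hy₀1 : g⁻¹ * (y : H) * g ≠ 1 := by
    intro h
    apply hy1
    have h2 : (y : H) = g * (g⁻¹ * (y : H) * g) * g⁻¹ := by group
    rw [h] at h2
    apply Subtype.ext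
    rw [h2]; simp
  have hkN : g⁻¹ * (n : H)⁻¹ * g ∈ Subgroup.normalizer ((P : Subgroup H) : Set H) := by
    apply ti_elt P hTI hy₀P hy₀1
    have := hQP _ hyQ'
    convert this using 1
    push_cast
    group
  rw [Subgroup.mem_normalizer_iff]
  intro q
  constructor
  · intro hq
    apply hQmax
    have h1 := hQP q hq
    have h2 : (g⁻¹ * (n : H)⁻¹ * g)⁻¹ ∈ Subgroup.normalizer ((P : Subgroup H) : Set H) :=
      inv_mem hkN
    have h3 := (Subgroup.mem_normalizer_iff.mp h2 _).mp h1
    convert h3 using 1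
    push_cast
    group
  · intro hq
    apply hQmax
    have h1 := hQP _ hq
    have h3 := (Subgroup.mem_normalizer_iff.mp hkN _).mp h1
    convert h3 using 1
    push_cast
    group

/-- Let H be a finite group with no nontrivial normal p-subgroup and no nontrivial normal subgroup of order prime to p, whose Sylow p-subgroup P is nontrivial and a trivial-intersection set (P meets its conjugates by elements outside N_H(P) trivially). Then H has a unique minimal normal subgroup N; N is non-abelian simple with trivial centralizer in H (so H embeds in Aut(N)), and a Sylow p-subgroup of N is again a nontrivial trivial-intersection set in N. -/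
theorem result {H : Type*} [Group H] [Finite H] (p : ℕ) [Fact p.Prime] (hOp : Cfsg.pCore p H = ⊥) (hOp' : Cfsg.pPrimeCore p H = ⊥) (P : Sylow p H) (hP1 : (P : Subgroup H) ≠ ⊥)
    (hTI : ∀ g : H, g ∉ Subgroup.normalizer ((P : Subgroup H) : Set H) → (P : Subgroup H) ⊓ (MulAut.conj g • (P : Subgroup H)) = ⊥) :
    ∃ N : Subgroup H, N.Normal ∧ N ≠ ⊥ ∧ (∀ K : Subgroup H, K.Normal → K ≠ ⊥ → N ≤ K) ∧
      IsSimpleGroup N ∧ ¬ IsMulCommutative N ∧ Subgroup.centralizer (N : Set H) = ⊥ ∧
      ∀ Q : Sylow p N, (Q : Subgroup N) ≠ ⊥ ∧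
        ∀ n : N, n ∉ Subgroup.normalizer ((Q : Subgroup N) : Set N) → (Q : Subgroup N) ⊓ (MulAut.conj n • (Q : Subgroup N)) = ⊥ := by
  obtain ⟨N, hNn, hN1, huniq, hcent⟩ := exists_min_normal hOp hOp' P hP1 hTI
  obtain ⟨x, hxP, hxN, hx1⟩ := exists_mem_sylow_inf hOp' P N hNn hN1
  have hNnt : Nontrivial N := (Subgroup.nontrivial_iff_ne_bot N).mpr hN1
  refine ⟨N, hNn, hN1, huniq, ?_, ?_, hcent, ?_⟩
  · exact { exists_pair_ne := hNnt.exists_pair_ne
            eq_bot_or_eq_top_of_normal := simple_of_min hOp hOp' P hTI N hN1 huniq }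
  · intro hcomm
    apply hN1
    rw [eq_bot_iff, ← hcent]
    intro n hn
    rw [Subgroup.mem_centralizer_iff]
    intro m hm
    have := hcomm.is_comm.comm (⟨m, hm⟩ : N) ⟨n, hn⟩
    exact congrArg Subtype.val this
  · intro Q
    refine ⟨?_, fun n hn => sylow_ti_of_subgroup P hTI N Q n hn⟩
    apply Sylow.ne_bot_of_dvd_card
    have h1 : p ∣ orderOf (⟨x, hxP⟩ : (P : Subgroup H)) :=
      IsPGroup.dvd_orderOf P.isPGroup' (fun h => hx1 (congrArg Subtype.val h))
    have h2 : orderOf x ∣ Nat.card N := by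
      have := orderOf_dvd_natCard (⟨x, hxN⟩ : N)
      rwa [Subgroup.orderOf_mk] at this
    rw [Subgroup.orderOf_mk] at h1
    exact h1.trans h2

end Cfsg.Agent.S4620
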