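import Cfsg.Statements.S4632
import Cfsg.Agent.S0261
import Cfsg.Agent.Lib.helper46.SL2Sylow
import Cfsg.Agent.Lib.helper37.SqComm
import Cfsg.Agent.Lib.helper37.SpSylow
import Cfsg.Agent.Lib.helper37.SylowProd
import Cfsg.Agent.Lib.helper37.G2Sub
import Cfsg.Agent.Lib.helper37.G2Order

set_option autoImplicit false
open Cfsg

namespace Cfsg.Agent.S4632

/-- Let F be a finite field of odd order and G₂(F) the automorphism group of the split octonion algebra over F (realized on F⁸ with the Zorn vector-matrix multiplication). A Sylow 2-subgroup P of G₂(F) has P/P' elementary abelian: the square of every element of P lies in the derived subgroup of P. -/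
theorem result {F : Type*} [Field F] [Fintype F] (hF : Odd (Fintype.card F)) (P : Sylow 2 (Cfsg.Lie.G2 F)) : ∀ x : (P : Subgroup (Cfsg.Lie.G2 F)), x ^ 2 ∈ commutator (P : Subgroup (Cfsg.Lie.G2 F)) := by
  classical
  have hfact : Fact (Nat.Prime 2) := ⟨Nat.prime_two⟩
  have hq1 : 1 < Fintype.card F := Fintype.one_lt_card
  have hq2 : ¬ 2 ∣ Fintype.card F := by
    intro h; exact (Nat.not_even_iff_odd.mpr hF) (even_iff_two_dvd.mpr h)
  have hS : ∀ Q : Sylow 2 (Matrix.SpecialLinearGroup (Fin 2) F),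
      Cfsg.Agent.Lib.helper37.SqC (Q : Subgroup (Matrix.SpecialLinearGroup (Fin 2) F)) := by
    intro Q
    obtain ⟨k, hk, ⟨e⟩⟩ := Cfsg.Agent.S0261.result hF Q
    exact Cfsg.Agent.Lib.helper37.sqC_of_coe
      (Cfsg.Agent.Lib.helper37.sq_mem_commutator_of_mulEquiv e
        (Cfsg.Agent.Lib.helper37.quaternion_sq_mem_commutator k hk))
  have hcS : (Nat.card (Matrix.SpecialLinearGroup (Fin 2) F)).factorization 2
      = padicValNat 2 (Fintype.card F ^ 2 - 1) := by
    rw [Cfsg.Agent.Lib.helper46.card_SL2' (F := F) rfl,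
      Nat.factorization_def _ Nat.prime_two,
      Cfsg.Agent.Lib.helper37.v2_sl2_card _ hq1 hq2]
  have hchar : ringChar F ≠ 2 := by
    intro h
    have := FiniteField.even_card_of_char_two h
    exact hq2 (Nat.dvd_of_mod_eq_zero this)
  obtain ⟨n, hn⟩ := FiniteField.exists_nonsquare hchar
  have hν : (-n : F) ≠ 0 := by
    intro h
    apply hn
    have h0 : n = 0 := by simpa using h
    rw [h0]
    exact IsSquare.zero
  have hns : ¬ IsSquare (-(-n : F)) := by simpa using hn
  let t : Cfsg.Lie.G2 F := Cfsg.Agent.Lib.helper37.tG (-n) hν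
  have htinv : t⁻¹ = t := Cfsg.Agent.Lib.helper37.tG_inv (-n) hν
  let αh : Matrix.SpecialLinearGroup (Fin 2) F →* Cfsg.Lie.G2 F := Cfsg.Agent.Lib.helper37.alpHom
  let βh : Matrix.SpecialLinearGroup (Fin 2) F →* Cfsg.Lie.G2 F := Cfsg.Agent.Lib.helper37.betHom
  let H : Subgroup (Cfsg.Lie.G2 F) := αh.range ⊔ βh.range ⊔ Subgroup.zpowers t
  have hAH : αh.range ≤ H := le_sup_left.trans le_sup_left
  have hBH : βh.range ≤ H := le_sup_right.trans le_sup_left
  have htH : t ∈ H := (le_sup_right : Subgroup.zpowers t ≤ H) (Subgroup.mem_zpowers t)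
  have hcomm : ∀ R P' : Matrix.SpecialLinearGroup (Fin 2) F, αh R * βh P' = βh P' * αh R :=
    fun R P' => Cfsg.Agent.Lib.helper37.alpG_betG_comm R P'
  have hAn : H ≤ Subgroup.normalizer (αh.range : Set (Cfsg.Lie.G2 F)) := by
    refine sup_le (sup_le Subgroup.le_normalizer ?_) (Subgroup.zpowers_le.mpr ?_)
    · rintro _ ⟨P', rfl⟩
      rw [Subgroup.mem_normalizer_iff]
      intro h
      constructor
      · rintro ⟨R, rfl⟩
        refine ⟨R, ?_⟩
        rw [← hcomm R P', mul_inv_cancel_right]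
      · rintro ⟨R, hR⟩
        refine ⟨R, ?_⟩
        have : h = (βh P')⁻¹ * αh R * βh P' := by rw [hR]; group
        rw [this, mul_assoc, hcomm R P', inv_mul_cancel_left]
    · rw [Subgroup.mem_normalizer_iff]
      intro h
      rw [htinv]
      constructor
      · rintro ⟨R, rfl⟩
        exact ⟨Cfsg.Agent.Lib.helper37.conjA (-n) hν R,
          (Cfsg.Agent.Lib.helper37.tG_alpG (-n) hν R).symm⟩
      · rintro ⟨R, hR⟩
        refine ⟨Cfsg.Agent.Lib.helper37.conjA (-n) hν R, ?_⟩
        have h1 : h = t * αh R * t := by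
          rw [hR]
          have h2 : t * t = 1 := Cfsg.Agent.Lib.helper37.tG_mul_self (-n) hν
          calc h = (t * t) * h * (t * t) := by rw [h2, one_mul, mul_one]
            _ = t * (t * h * t) * t := by group
        rw [h1]
        exact (Cfsg.Agent.Lib.helper37.tG_alpG (-n) hν R).symm
  have hBn : H ≤ Subgroup.normalizer (βh.range : Set (Cfsg.Lie.G2 F)) := by
    refine sup_le (sup_le ?_ Subgroup.le_normalizer) (Subgroup.zpowers_le.mpr ?_)
    · rintro _ ⟨R, rfl⟩
      rw [Subgroup.mem_normalizer_iff]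
      intro h
      constructor
      · rintro ⟨P', rfl⟩
        refine ⟨P', ?_⟩
        rw [hcomm R P', mul_inv_cancel_right]
      · rintro ⟨P', hP'⟩
        refine ⟨P', ?_⟩
        have : h = (αh R)⁻¹ * βh P' * αh R := by rw [hP']; group
        rw [this, mul_assoc, ← hcomm R P', inv_mul_cancel_left]
    · rw [Subgroup.mem_normalizer_iff]
      intro h
      rw [htinv]
      constructor
      · rintro ⟨R, rfl⟩
        exact ⟨Cfsg.Agent.Lib.helper37.conjB (-n) hν R,
          (Cfsg.Agent.Lib.helper37.tG_betG (-n) hν R).symm⟩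
      · rintro ⟨R, hR⟩
        refine ⟨Cfsg.Agent.Lib.helper37.conjB (-n) hν R, ?_⟩
        have h1 : h = t * βh R * t := by
          rw [hR]
          have h2 : t * t = 1 := Cfsg.Agent.Lib.helper37.tG_mul_self (-n) hν
          calc h = (t * t) * h * (t * t) := by rw [h2, one_mul, mul_one]
            _ = t * (t * h * t) * t := by group
        rw [h1]
        exact (Cfsg.Agent.Lib.helper37.tG_betG (-n) hν R).symm
  let α' : Matrix.SpecialLinearGroup (Fin 2) F →* ↥H :=
    αh.codRestrict H (fun R => hAH ⟨R, rfl⟩)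
  let β' : Matrix.SpecialLinearGroup (Fin 2) F →* ↥H :=
    βh.codRestrict H (fun R => hBH ⟨R, rfl⟩)
  have hα' : Function.Injective α' := by
    intro R R' h
    exact Cfsg.Agent.Lib.helper37.alpHom_injective (congrArg Subtype.val h)
  have hβ' : Function.Injective β' := by
    intro R R' h
    exact Cfsg.Agent.Lib.helper37.betHom_injective (congrArg Subtype.val h)
  have hnA' : α'.range.Normal := by
    refine ⟨?_⟩
    rintro _ ⟨R, rfl⟩ g
    have hg := hAn g.2
    obtain ⟨R', hR'⟩ := ((Subgroup.mem_normalizer_iff.mp hg) (αh R)).mp ⟨R, rfl⟩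
    exact ⟨R', Subtype.ext hR'⟩
  have hnB' : β'.range.Normal := by
    refine ⟨?_⟩
    rintro _ ⟨R, rfl⟩ g
    have hg := hBn g.2
    obtain ⟨R', hR'⟩ := ((Subgroup.mem_normalizer_iff.mp hg) (βh R)).mp ⟨R, rfl⟩
    exact ⟨R', Subtype.ext hR'⟩
  obtain ⟨P₁, hP₁, hsq, hcard⟩ := Cfsg.Agent.Lib.helper37.sylow_prod_sqC hS
    (padicValNat 2 (Fintype.card F ^ 2 - 1)) hcS α' β' hα' hβ' hnA' hnB'
    (⟨t, htH⟩ : ↥H) (Subtype.ext (Cfsg.Agent.Lib.helper37.tG_mul_self (-n) hν))
    (fun a b h => Cfsg.Agent.Lib.helper37.tG_ne (-n) hν hns a b (congrArg Subtype.val h))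
    (β' Cfsg.Agent.Lib.helper37.negOneSL)
    (fun a b h => by
      rcases Cfsg.Agent.Lib.helper37.alpG_eq_betG a b (congrArg Subtype.val h) with h1 | h1
      · left; exact Subtype.ext h1
      · right; exact Subtype.ext h1)
  have hP₂ : IsPGroup 2 ↥(P₁.map H.subtype) := hP₁.map _
  have hsq₂ : Cfsg.Agent.Lib.helper37.SqC (P₁.map H.subtype) := hsq.map _
  have hcard₂ : Nat.card ↥(P₁.map H.subtype) = Nat.card ↥P₁ :=
    Subgroup.card_map_of_injective (Subgroup.subtype_injective H)
  have hidx : ¬ 2 ∣ (P₁.map H.subtype).index := by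
    apply Cfsg.Agent.Lib.helper37.odd_index_of_card_ge _ hP₂
    rw [hcard₂]
    calc 2 ^ padicValNat 2 (Nat.card (Cfsg.Lie.G2 F))
        ≤ 2 ^ (2 * padicValNat 2 (Fintype.card F ^ 2 - 1)) :=
          Nat.pow_le_pow_right (by norm_num) (Cfsg.Agent.Lib.helper37.v2_card_G2_le hF)
      _ ≤ Nat.card ↥P₁ := hcard
  exact (Cfsg.Agent.Lib.helper37.sqC_sylow_of_sub _ hP₂ hidx hsq₂ P).coe

end Cfsg.Agent.S4632
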