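import Cfsg.Statements.S4636
import Mathlib
-- import your own Cfsg.Agent.* helpers here

set_option autoImplicit false
open scoped Pointwise
open Cfsg

namespace Cfsg.Agent.S4636

/-- In a finite cyclic group, a subgroup is determined by its order. -/
theorem cyc_unique {C : Type*} [Group C] [Finite C] [IsCyclic C] (H K : Subgroup C)
    (h : Nat.card H = Nat.card K) : H = K := by
  classical
  haveI := Fintype.ofFinite C
  set n := Nat.card H with hn
  have hn0 : 0 < n := Nat.card_pos
  have hle := IsCyclic.card_pow_eq_one_le (α := C) hn0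
  have key : ∀ L : Subgroup C, Nat.card L = n →
      (Finset.univ.filter fun a : C => a ∈ L) = (Finset.univ.filter fun a : C => a ^ n = 1) := by
    intro L hL
    apply Finset.eq_of_subset_of_card_le
    · intro a ha
      simp only [Finset.mem_filter, Finset.mem_univ, true_and] at ha ⊢
      have := pow_card_eq_one' (G := L) (x := ⟨a, ha⟩)
      rw [hL] at this
      simpa using congrArg Subtype.val this
    · refine hle.trans ?_
      rw [← hL, Nat.card_eq_fintype_card, Fintype.card_subtype]
  have h1 := key H rfl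
  have h2 := key K h.symm
  ext a
  have := congrArg (fun s => a ∈ s) (h1.trans h2.symm)
  simpa using this

theorem cyc_unique' {G : Type*} [Group G] [Finite G] (P : Subgroup G) [IsCyclic P]
    (Z Z' : Subgroup G) (hZ : Z ≤ P) (hZ' : Z' ≤ P) (h : Nat.card Z = Nat.card Z') : Z = Z' := by
  have h1 : Nat.card (Z.subgroupOf P) = Nat.card (Z'.subgroupOf P) := by
    rw [Nat.card_congr (Subgroup.subgroupOfEquivOfLe hZ).toEquiv,
      Nat.card_congr (Subgroup.subgroupOfEquivOfLe hZ').toEquiv, h]
  have h2 := cyc_unique _ _ h1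
  rw [Subgroup.subgroupOf_inj] at h2
  rwa [inf_eq_left.mpr hZ, inf_eq_left.mpr hZ'] at h2

/-- Let P be a nontrivial cyclic p-subgroup of the finite group G and Z its subgroup of order p. For every x outside N_G(Z), P meets its conjugate xPx⁻¹ trivially; consequently N_G(Q) ≤ N_G(Z) for every nontrivial subgroup Q of P. -/
theorem result {G : Type*} [Group G] [Finite G] (p : ℕ) [Fact p.Prime] (P : Subgroup G) (hP : IsPGroup p P) (hP1 : P ≠ ⊥) (hcyc : IsCyclic P) (Z : Subgroup G) (hZ : Z ≤ P) (hZcard : Nat.card Z = p) : (∀ x : G, x ∉ Subgroup.normalizer (Z : Set G) → P ⊓ MulAut.conj x • P = ⊥) ∧ ∀ Q : Subgroup G, Q ≤ P → Q ≠ ⊥ → Subgroup.normalizer (Q : Set G) ≤ Subgroup.normalizer (Z : Set G) := by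
  have hp : p.Prime := Fact.out
  -- L: every nontrivial subgroup of P contains Z
  have L : ∀ Q : Subgroup G, Q ≤ P → Q ≠ ⊥ → Z ≤ Q := by
    intro Q hQP hQ1
    have hQp : IsPGroup p Q := hP.to_le hQP
    have hdvd : p ∣ Nat.card Q := by
      obtain ⟨k, hk⟩ := IsPGroup.iff_card.mp hQp
      rcases Nat.eq_zero_or_pos k with rfl | hk0
      · exfalso
        apply hQ1
        rw [pow_zero] at hk
        exact (Subgroup.card_eq_one).mp hk
      · rw [hk]; exact dvd_pow_self p hk0.ne'
    obtain ⟨x, hx⟩ := exists_prime_orderOf_dvd_card' p hdvd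
    have hx' : orderOf (x : G) = p := by rw [Subgroup.orderOf_coe]; exact hx
    have hzQ : Subgroup.zpowers (x : G) ≤ Q := by
      rw [Subgroup.zpowers_le]; exact x.2
    have : Subgroup.zpowers (x : G) = Z := by
      apply cyc_unique' P _ _ (hzQ.trans hQP) hZ
      rw [Nat.card_zpowers, hx', hZcard]
    rw [← this]; exact hzQ
  -- L3 : if conj g • Z ≤ P then g normalizes Z
  have L3 : ∀ g : G, MulAut.conj g • Z ≤ P → g ∈ Subgroup.normalizer (Z : Set G) := by
    intro g hg
    have heq : MulAut.conj g • Z = Z := by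
      apply cyc_unique' P _ _ hg hZ
      exact Nat.card_congr (Subgroup.equivSMul (MulAut.conj g) Z).symm.toEquiv
    rw [Subgroup.mem_normalizer_iff]
    intro h
    have := Subgroup.smul_mem_pointwise_smul_iff (a := MulAut.conj g) (S := Z) (x := h)
    rw [heq] at this
    simpa [MulAut.smul_def] using this.symm
  refine ⟨?_, ?_⟩
  · intro x hx
    by_contra hne
    apply hx
    apply L3
    -- R' = conj x⁻¹ • (P ⊓ conj x • P) ≤ P nontrivial
    have hR' : (MulAut.conj x)⁻¹ • (P ⊓ MulAut.conj x • P) ≤ P := by
      rw [Subgroup.pointwise_smul_subset_iff] 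
      simp only [inv_inv]
      exact inf_le_right
    have hR'1 : (MulAut.conj x)⁻¹ • (P ⊓ MulAut.conj x • P) ≠ ⊥ := by
      intro h
      apply hne
      have := congrArg (fun S => MulAut.conj x • S) h
      simpa using this
    have hZR := L _ hR' hR'1
    have : MulAut.conj x • Z ≤ P ⊓ MulAut.conj x • P := by
      rw [← Subgroup.pointwise_smul_le_pointwise_smul_iff (a := (MulAut.conj x)⁻¹)]
      simpa using hZR
    exact this.trans inf_le_left
  · intro Q hQP hQ1 g hg
    apply L3
    have hZQ := L Q hQP hQ1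
    have hgQ : MulAut.conj g • Q = Q := by
      ext h
      rw [Subgroup.mem_pointwise_smul_iff_inv_smul_mem]
      have := (Subgroup.mem_normalizer_iff''.mp hg h)
      simpa [MulAut.smul_def] using this.symm
    calc MulAut.conj g • Z ≤ MulAut.conj g • Q := by
          rw [Subgroup.pointwise_smul_le_pointwise_smul_iff]; exact hZQ
      _ = Q := hgQ
      _ ≤ P := hQP

end Cfsg.Agent.S4636
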