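import Cfsg.Statements.S4637
import Cfsg.Agent.Lib.helper78.KleinDefect
import Cfsg.Agent.Lib.helper78.KleinDefect2

set_option autoImplicit false
set_option linter.style.haveILetI false
open Cfsg

namespace Cfsg.Agent.S4637

open Cfsg.Agent.Lib.helper78 in
/-- Let B be a block of the finite group G relative to a maximal ideal M of the algebraic integers containing 2, with a Klein four defect group P. Let c be a block of C_G(P) inducing B, T the stabilizer of c in N_G(P) and e the index of C_G(P) in T (the inertial index). Then e is 1 or 3, B contains exactly four irreducible characters, and the 2-regular rank of B (its number of irreducible Brauer characters) equals e. -/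
theorem result {G : Type*} [Group G] [Finite G] (M : Ideal Cfsg.AlgInt) (hM : Cfsg.IsPModular 2 M) (B : Set (Cfsg.IrrCharacter G)) (hB : Cfsg.IsPBlock M B) (P : Subgroup G) (hPD : Cfsg.IsDefectGroup 2 M B P) (hV : IsKleinFour P) (c : Set (Cfsg.IrrCharacter (Subgroup.centralizer (P : Set G)))) (hc : Cfsg.IsInducedBlock M (Subgroup.centralizer (P : Set G)) c B) (T : Subgroup G) (hT : ∀ g : G, g ∈ T ↔ (g ∈ Subgroup.normalizer (P : Set G) ∧ Cfsg.StabilizesBlock (Subgroup.centralizer (P : Set G)) c g)) (e : ℕ) (he : (Subgroup.centralizer (P : Set G)).relIndex T = e) : (e = 1 ∨ e = 3) ∧ Nat.card B = 4 ∧ Cfsg.blockRank 2 B = e := by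
  classical
  haveI : Fintype G := Fintype.ofFinite G
  haveI : Fact (Nat.Prime 2) := ⟨Nat.prime_two⟩
  haveI : ∀ x : G, Fintype (Subgroup.centralizer ({x} : Set G)) := fun x => Fintype.ofFinite _
  have hMp := Cfsg.Agent.Lib.helper20.isPrime_of_isPModular hM
  -- the group `P`
  have hP4 : Nat.card P = 4 := hV.card_four
  have hsq : ∀ x ∈ P, x * x = 1 := by
    intro x hx
    haveI := hV
    exact congrArg Subtype.val (IsKleinFour.mul_self (⟨x, hx⟩ : P))
  have hab : ∀ x ∈ P, ∀ y ∈ P, x * y = y * x := by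
    intro x hx y hy
    have h1 := hsq x hx
    have h2 := hsq y hy
    have h3 := hsq (x * y) (P.mul_mem hx hy)
    have hx' : x⁻¹ = x := inv_eq_of_mul_eq_one_left h1
    have hy' : y⁻¹ = y := inv_eq_of_mul_eq_one_left h2
    have h4 : (x * y)⁻¹ = x * y := inv_eq_of_mul_eq_one_left h3
    rw [mul_inv_rev, hx', hy'] at h4
    exact h4.symm
  have hPgrp : IsPGroup 2 P := IsPGroup.of_card (n := 2) (by rw [hP4]; norm_num)
  have hPC : P ≤ Subgroup.centralizer (P : Set G) := by
    intro y hy
    rw [Subgroup.mem_centralizer_iff]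
    intro x hx
    exact hab x hx y hy
  -- the maximal pair
  have hpair : IsBrauerPairOf 2 M B P c := (isBrauerPairOf_iff_induced hM P hPgrp hPC c B).2 hc
  have hmax : IsMaximalBrauerPair 2 M B P c := isMaximalBrauerPair_of_defect hM hpair hPD
  have hPe : IsBrauerPair 2 M P c := hpair.1
  -- the defect
  have hd : blockDefect 2 B = 2 := by
    have h1 := Cfsg.Agent.Lib.helper79.card_eq_of_isDefectGroup hM hB hPD
    rw [hP4] at h1
    have h2 : (2 : ℕ) ^ 2 = 2 ^ blockDefect 2 B := by rw [← h1]; norm_num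
    exact (Nat.pow_right_injective (le_refl 2) h2).symm
  have hk : Nat.card B = 4 := card_eq_four_of_defect_two hM hB hd
  -- the inertial index
  have hTN : T ≤ Subgroup.normalizer (P : Set G) := fun t ht => ((hT t).mp ht).1
  have hdvd : e ∣ 24 := by
    rw [← he]
    exact relIndex_centralizer_dvd P T hP4 hTN
  have hodd : ¬ 2 ∣ e := by
    have h1 := Cfsg.Agent.Lib.helper80.not_dvd_index_of_maximal hM hmax T hT
    have h2 : (Subgroup.centralizer (P : Set G)).subgroupOf T ⊔ P.subgroupOf T
        = (Subgroup.centralizer (P : Set G)).subgroupOf T := by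
      apply sup_eq_left.mpr
      intro t ht
      rw [Subgroup.mem_subgroupOf] at ht ⊢
      exact hPC ht
    rw [h2] at h1
    rw [← he]
    exact h1
  have he13 : e = 1 ∨ e = 3 := by
    have hle : e ≤ 24 := Nat.le_of_dvd (by norm_num) hdvd
    interval_cases e <;> omega
  refine ⟨he13, hk, ?_⟩
  -- representatives of the classes of `2`-elements
  obtain ⟨X, hXdef⟩ : ∃ X : Finset G, X = (Set.toFinite {x : G | (∃ k : ℕ, orderOf x = 2 ^ k)
      ∧ Quotient.out (ConjClasses.mk x) = x}).toFinset := ⟨_, rfl⟩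
  have hmemX : ∀ x : G, x ∈ X ↔ (∃ k : ℕ, orderOf x = 2 ^ k)
      ∧ Quotient.out (ConjClasses.mk x) = x := by
    intro x
    rw [hXdef, Set.Finite.mem_toFinset]
    rfl
  have hX : ∀ x ∈ X, ∃ k : ℕ, orderOf x = 2 ^ k := fun x hx => ((hmemX x).mp hx).1
  have hXrep : ∀ g : G, (∃ k : ℕ, orderOf g = 2 ^ k) → ∃! x, x ∈ X ∧ IsConj g x := by
    intro g hg
    have hconj : IsConj (Quotient.out (ConjClasses.mk g)) g := isConj_out_mk g
    refine ⟨Quotient.out (ConjClasses.mk g), ⟨?_, hconj.symm⟩, ?_⟩
    · rw [hmemX]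
      refine ⟨?_, ?_⟩
      · obtain ⟨t, ht⟩ := isConj_iff.mp hconj.symm
        rw [← ht, orderOf_conj_kl]
        exact hg
      · rw [ConjClasses.mk_eq_mk_iff_isConj.mpr hconj]
    · rintro y ⟨hy, hgy⟩
      rw [← ((hmemX y).mp hy).2, ConjClasses.mk_eq_mk_iff_isConj.mpr hgy]
  -- nontrivial subsections sit at involutions and have `l(b) = 1`
  have hinv : ∀ x : G, (∃ k : ℕ, orderOf x = 2 ^ k) →
      ∀ b : Set (IrrCharacter (Subgroup.centralizer ({x} : Set G))),
      IsInducedBlock M (Subgroup.centralizer ({x} : Set G)) b B → x * x = 1 := by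
    intro x hx2 b hb
    obtain ⟨g, hg⟩ := exists_conj_pairOf_le hM hmax x hx2 hb
    have hv1 : (Cfsg.Agent.Lib.helper80.conjPair g (pairOf x b)).1
        = Subgroup.zpowers (g * x * g⁻¹) := conjPair_fst_zpowers g x _ rfl
    have hvP : g * x * g⁻¹ ∈ P := by
      have h1 := Cfsg.Agent.Lib.helper80.subpairLE_le _ _ hg
      rw [hv1] at h1
      exact h1 (Subgroup.mem_zpowers _)
    have h2 := hsq _ hvP
    have h3 : x * x = g⁻¹ * ((g * x * g⁻¹) * (g * x * g⁻¹)) * g := by group
    rw [h3, h2]
    group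
  have hone : ∀ x ∈ X, x ≠ 1 → ∀ b : Set (IrrCharacter (Subgroup.centralizer ({x} : Set G))),
      IsInducedBlock M (Subgroup.centralizer ({x} : Set G)) b B → blockRank 2 b = 1 := by
    intro x hx hx1 b hb
    have hxx := hinv x (hX x hx) b hb
    have hxC : x ∈ Subgroup.centralizer ({x} : Set G) :=
      Subgroup.mem_centralizer_singleton_iff.mpr rfl
    have hdb : blockDefect 2 b ≤ 2 := by
      have := blockDefect_le_of_induced hM x (hX x hx) hb
      rwa [hd] at this
    exact blockRank_eq_one_of_central_involution hM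
      (⟨x, hxC⟩ : Subgroup.centralizer ({x} : Set G))
      (fun h => hx1 (congrArg Subtype.val h)) (Subtype.ext hxx)
      (fun h => Subtype.ext (Subgroup.mem_centralizer_singleton_iff.mp h.2)) hb.1 hdb
  have hstar := card_block_eq_rank_add hM hB X hX hXrep hone
  rw [hk] at hstar
  -- the subsections attached to the nontrivial elements of `P`
  have hex : ∀ v : G, v ∈ P → v ≠ 1 → ∃ s : (Σ x : (X.erase 1 : Finset G),
      {b : Set (IrrCharacter (Subgroup.centralizer ({(x : G)} : Set G))) //
        IsInducedBlock M (Subgroup.centralizer ({(x : G)} : Set G)) b B}),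
      ∃ (g : G) (W : BrauerPairIdx G),
        Relation.ReflTransGen (NormalSubpairRel 2 M) W ⟨P, c⟩ ∧ W.1 = Subgroup.zpowers v ∧
        pairOf (s.1 : G) s.2.1 = Cfsg.Agent.Lib.helper80.conjPair g W := by
    intro v hv hv1
    obtain ⟨f, -, hle⟩ := Cfsg.Agent.Lib.helper80.exists_subpairLE hM _ P (Subgroup.zpowers v) c hPe
      (Subgroup.zpowers_le.mpr hv) rfl
    have hv2 : ∃ k : ℕ, orderOf v = 2 ^ k :=
      ⟨1, by rw [pow_one]; exact orderOf_eq_prime (by rw [pow_two]; exact hsq v hv) hv1⟩
    obtain ⟨x, ⟨hxX, hconj⟩, -⟩ := hXrep v hv2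
    obtain ⟨g, hg⟩ := isConj_iff.mp hconj
    have hx1 : x ≠ 1 := by
      intro h
      apply hv1
      have : v = g⁻¹ * (g * v * g⁻¹) * g := by group
      rw [this, hg, h]
      group
    obtain ⟨b, hbind, hbpair⟩ := exists_induced_of_le hM hpair
      (W := ⟨Subgroup.zpowers v, f⟩) hle v rfl hv2 g x hg
    exact ⟨⟨⟨x, Finset.mem_erase.mpr ⟨hx1, hxX⟩⟩, ⟨b, hbind⟩⟩, g, ⟨Subgroup.zpowers v, f⟩, hle,
      rfl, hbpair⟩
  rcases he13 with he1 | he3
  · -- `e = 1`: the block is nilpotent and there are three nontrivial subsections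
    rw [he1] at he
    have hTle : T ≤ Subgroup.centralizer (P : Set G) := Subgroup.relIndex_eq_one.mp he
    have hnil : IsNilpotentBlock 2 M B :=
      Cfsg.Agent.Lib.helper80.isNilpotentBlock_of_abelian hM hmax hab
        (fun x hxN hxS => hTle ((hT x).mpr ⟨hxN, hxS⟩))
    choose s g W hW hW1 hπ using fun v : {v : G // v ∈ P ∧ v ≠ 1} => hex v.1 v.2.1 v.2.2
    have hinj : Function.Injective s := by
      intro v v' hvv
      have h1 : Cfsg.Agent.Lib.helper80.conjPair (g v) (W v)
          = Cfsg.Agent.Lib.helper80.conjPair (g v') (W v') := by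
        rw [← hπ v, ← hπ v', hvv]
      have h2 : Cfsg.Agent.Lib.helper80.conjPair ((g v')⁻¹ * g v) (W v) = W v' := by
        rw [← Cfsg.Agent.Lib.helper80.conjPair_mul, h1,
          Cfsg.Agent.Lib.helper80.conjPair_inv_conjPair]
      have h3 := fusion_trivial_of_nilpotent hM hmax hnil hab (v : G) v.2.1 (hW1 v) (hW v)
        (hW v') _ h2
      rw [hW1 v'] at h3
      have h4 : (v' : G) ∈ Subgroup.zpowers (v : G) := by
        rw [← h3]
        exact Subgroup.mem_zpowers _
      obtain ⟨k, hk'⟩ := Subgroup.mem_zpowers_iff.mp h4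
      have ho : orderOf (v : G) = 2 :=
        orderOf_eq_prime (by rw [pow_two]; exact hsq _ v.2.1) v.2.2
      have h5 : (v : G) ^ (k % 2) = (v' : G) := by
        have := zpow_mod_orderOf (v : G) k
        rw [ho] at this
        rw [← hk']
        exact_mod_cast this
      apply Subtype.ext
      rcases Int.emod_two_eq_zero_or_one k with h6 | h6
      · rw [h6, zpow_zero] at h5
        exact absurd h5.symm v'.2.2
      · rw [h6, zpow_one] at h5
        exact h5
    have hcard := Nat.card_le_card_of_injective s hinj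
    rw [card_nontrivial_of_card_four P hP4] at hcard
    have hpos := blockRank_pos_of_isPBlock hMp 2 Nat.prime_two hB
    rw [he1]
    omega
  · -- `e = 3`: all nontrivial subsections are conjugate
    rw [he3] at he
    have hnorm := Cfsg.Agent.Lib.helper80.normal_centralizer_subgroupOf_stabilizer P T hT
    have htr := klein_transitive P T hP4 hTN hnorm he
    have htrans : ∀ v ∈ P, v ≠ 1 → ∀ v' ∈ P, v' ≠ 1 → ∃ t : G,
        t ∈ Subgroup.normalizer (P : Set G) ∧
        StabilizesBlock (Subgroup.centralizer (P : Set G)) c t ∧ t * v * t⁻¹ = v' := by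
      intro v hv hv1 v' hv' hv'1
      obtain ⟨t, htT, htv⟩ := htr v hv hv1 v' hv' hv'1
      exact ⟨t, ((hT t).mp htT).1, ((hT t).mp htT).2, htv⟩
    have hsub : Subsingleton (Σ x : (X.erase 1 : Finset G),
        {b : Set (IrrCharacter (Subgroup.centralizer ({(x : G)} : Set G))) //
          IsInducedBlock M (Subgroup.centralizer ({(x : G)} : Set G)) b B}) := by
      constructor
      rintro ⟨⟨x, hx⟩, ⟨b, hb⟩⟩ ⟨⟨x', hx'⟩, ⟨b', hb'⟩⟩
      have hxX : x ∈ X := Finset.mem_of_mem_erase hx
      have hx'X : x' ∈ X := Finset.mem_of_mem_erase hx'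
      have hx1 : x ≠ 1 := Finset.ne_of_mem_erase hx
      have hx'1 : x' ≠ 1 := Finset.ne_of_mem_erase hx'
      obtain ⟨h, hh, hpr⟩ := exists_conj_pairOf_eq hM hmax htrans x x' (hX x hxX) (hX x' hx'X)
        hx1 hx'1 hb hb'
      have hxx' : x = x' := by
        obtain ⟨y, -, huniq⟩ := hXrep x (hX x hxX)
        rw [huniq x ⟨hxX, IsConj.refl x⟩, huniq x' ⟨hx'X, isConj_iff.mpr ⟨h, hh⟩⟩]
      subst hxx'
      have hhC : h ∈ Subgroup.centralizer ({x} : Set G) := by
        rw [Subgroup.mem_centralizer_singleton_iff]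
        have : h * x = h * x * h⁻¹ * h := by group
        rw [this, hh]
      rw [conjPair_pairOf_of_mem_centralizer hMp x hb.1 hhC] at hpr
      have hbb' := pairOf_injective x hpr
      subst hbb'
      rfl
    have hne : Nonempty (Σ x : (X.erase 1 : Finset G),
        {b : Set (IrrCharacter (Subgroup.centralizer ({(x : G)} : Set G))) //
          IsInducedBlock M (Subgroup.centralizer ({(x : G)} : Set G)) b B}) := by
      have h3 := card_nontrivial_of_card_four P hP4
      have hpos : 0 < Nat.card {v : G // v ∈ P ∧ v ≠ 1} := by rw [h3]; norm_num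
      obtain ⟨v⟩ := (Nat.card_pos_iff.mp hpos).1
      obtain ⟨s, -⟩ := hex v.1 v.2.1 v.2.2
      exact ⟨s⟩
    have hcard1 := Nat.card_eq_one_iff_unique.mpr ⟨hsub, hne⟩
    rw [hcard1] at hstar
    rw [he3]
    omega

end Cfsg.Agent.S4637
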