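import Cfsg.Statements.S4642
import Cfsg.Agent.Lib.helper77.PrincTypeA
import Cfsg.Agent.Lib.helper77.PrincTypeB
import Cfsg.Agent.Lib.helper77.PrincTypeC
import Cfsg.Agent.Lib.helper77.FongHeightA
import Cfsg.Agent.Lib.helper77.FongReynolds
import Cfsg.Agent.Lib.helper80.DefectGroup
import Cfsg.Agent.Lib.helper38.PPrimeP
import Cfsg.Agent.Lib.helper40.Cores

set_option autoImplicit false
open Cfsg

namespace Cfsg.Agent.S4642

/-- Let G be a finite group, p a prime, M a maximal ideal of the algebraic integers containing p, K the largest normal subgroup of G of order prime to p, and L the preimage in G of the largest normal p-subgroup of G/K. Let Q be a Sylow p-subgroup of L and suppose C_G(Q) ≤ L. Let θ be an irreducible character of K invariant under conjugation by every element of G, and let B be the set of irreducible characters of G whose restriction to K contains θ. Then B is a block of G, every Sylow p-subgroup of G is a defect group of B, and B is of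 principal type: for every p-subgroup R of G exactly one block of C_G(R) induces B. -/
theorem result {G : Type*} [Group G] [Fintype G] (p : ℕ) [Fact p.Prime] (M : Ideal Cfsg.AlgInt) (hM : Cfsg.IsPModular p M) (K : Subgroup G) (hK : K = Cfsg.pPrimeCore p G) [Fintype K] (L : Subgroup G) (hL : L = Cfsg.pPrimePCore p G) (Q : Subgroup G) (hQL : Q ≤ L) (hQp : IsPGroup p Q) (hQS : ¬ p ∣ Q.relIndex L) (hCQ : Subgroup.centralizer (Q : Set G) ≤ L) (θ : Cfsg.IrrCharacter K) (hθ : ∀ g : G, Cfsg.IsConjCharOf K g (θ : K → ℂ) (θ : K → ℂ)) (B : Set (Cfsg.IrrCharacter G)) (hBdef : ∀ χ : Cfsg.IrrCharacter G, χ ∈ B ↔ Cfsg.classInner (fun k : K => (χ : G → ℂ) k) (θ : K → ℂ) ≠ 0) : Cfsg.IsPBlock M B ∧ (∀ S : Sylow p G, Cfsg.IsDefectGroup p M B S) ∧ ∀ R : Subgroup G, IsPGroup p R → ∃! f : Set (Cfsg.IrrCharacter (Subgroup.centralizer (R : Set G))), Cfsg.IsInducedBlock M (Subgroup.centralizer (R : Set G)) f B := by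
  classical
  subst hK hL
  have hMp : M.IsPrime := Cfsg.Agent.Lib.helper20.isPrime_of_isPModular hM
  have hKn : (Cfsg.pPrimeCore p G).Normal := Cfsg.Agent.Lib.helper40.pPrimeCore_normal' p G
  have hLn : (Cfsg.pPrimePCore p G).Normal := Cfsg.Agent.Lib.helper38.pPrimePCore_normal p G
  have hKL : Cfsg.pPrimeCore p G ≤ Cfsg.pPrimePCore p G :=
    Cfsg.Agent.Lib.helper77.pPrimeCore_le_pPrimePCore' p
  have hKcop : (Nat.card (Cfsg.pPrimeCore p G)).Coprime p :=
    Cfsg.Agent.Lib.helper40.pPrimeCore_card_coprime p G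
  have hLp : ∀ l ∈ Cfsg.pPrimePCore p G, ∃ j : ℕ, l ^ (p ^ j) ∈ Cfsg.pPrimeCore p G := by
    intro l hl
    have h1 : QuotientGroup.mk' (Cfsg.pPrimeCore p G) l
        ∈ Cfsg.pCore p (G ⧸ Cfsg.pPrimeCore p G) := hl
    obtain ⟨j, hj⟩ := (Cfsg.Agent.Lib.helper40.pCore_isPGroup p (G ⧸ Cfsg.pPrimeCore p G))
      ⟨_, h1⟩
    refine ⟨j, ?_⟩
    have hj' : (QuotientGroup.mk' (Cfsg.pPrimeCore p G) l) ^ (p ^ j) = 1 := by
      simpa using congrArg Subtype.val hj
    rw [← map_pow, QuotientGroup.mk'_apply, QuotientGroup.eq_one_iff] at hj'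
    exact hj'
  have hinv : ∀ g : G, Cfsg.Agent.Lib.helper77.cjIrr (Cfsg.pPrimeCore p G) g θ = θ := by
    intro g
    apply Subtype.ext
    rw [Cfsg.Agent.Lib.helper77.cjIrr_coe, Cfsg.Agent.Lib.helper82.cconj_eq_iff]
    intro n
    exact hθ g n ⟨g * n * g⁻¹, hKn.conj_mem n n.2 g⟩ rfl
  have hBeq : B = Cfsg.Agent.Lib.helper77.coverSet (Cfsg.pPrimeCore p G) {θ} := by
    ext χ
    rw [hBdef]
    constructor
    · intro h
      exact ⟨θ, rfl, h⟩
    · rintro ⟨θ', hθ', h⟩
      rw [Set.mem_singleton_iff] at hθ'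
      rw [hθ'] at h
      exact h
  have hBS : B = {χ : Cfsg.IrrCharacter G |
      Cfsg.classInner (fun n : Cfsg.pPrimeCore p G => (χ : G → ℂ) n)
        (θ : Cfsg.pPrimeCore p G → ℂ) ≠ 0} := by
    ext χ
    exact hBdef χ
  have hKC : ∀ (R : Subgroup G), IsPGroup p R → ∀ x : G,
      x ∈ Subgroup.centralizer (R : Set G) → (orderOf x).Coprime p →
      (∀ l ∈ Cfsg.pPrimePCore p G, l ∈ Subgroup.centralizer (R : Set G) →
        x * l * x⁻¹ * l⁻¹ ∈ Cfsg.pPrimeCore p G) → x ∈ Cfsg.pPrimeCore p G :=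
    fun R hR x hxR hx hxL => Cfsg.Agent.Lib.helper77.mem_of_coprime_of_section
      (Cfsg.pPrimeCore p G) (Cfsg.pPrimePCore p G) hKL hKcop hLp Q hQL hQp hCQ R hR x hxR hx hxL
  obtain ⟨hB, hDS⟩ := Cfsg.Agent.Lib.helper77.fong_cover_of_section hM (Cfsg.pPrimeCore p G)
    (Cfsg.pPrimePCore p G) hKL hKcop hLp
    (fun x hx h => hKC ⊥ IsPGroup.of_bot x
      (by
        rw [Subgroup.mem_centralizer_iff]
        intro y hy
        rw [Subgroup.mem_bot.mp hy, one_mul, mul_one])
      hx (fun l hl _ => h l hl)) θ hinv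
  rw [← hBS] at hB hDS
  refine ⟨hB, ?_, ?_⟩
  · intro S
    obtain ⟨D, hD⟩ := Cfsg.Agent.Lib.helper80.exists_isDefectGroup p hMp hB
    have hDp := Cfsg.Agent.Lib.helper80.IsDefectGroup.isPGroup hD
    have hDi := hDS D hD
    obtain ⟨g, hg⟩ := MulAction.exists_smul_eq G (hDp.toSylow hDi) S
    have h1 : (S : Subgroup G) = D.map (MulAut.conj g).toMonoidHom := by
      rw [← hg, Sylow.smul_def, Sylow.pointwise_smul_def, IsPGroup.toSylow_coe,
        Subgroup.pointwise_smul_def]
      rfl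
    rw [h1]
    exact Cfsg.Agent.Lib.helper80.IsDefectGroup.conj hD g
  · intro R hR
    have : Fintype (Subgroup.centralizer (R : Set G)) := Fintype.ofFinite _
    have : Fintype ((Cfsg.pPrimeCore p G).subgroupOf (Subgroup.centralizer (R : Set G))) :=
      Fintype.ofFinite _
    obtain ⟨η₀, hη₀⟩ := Cfsg.Agent.Lib.helper77.exists_glauberman_sub (Cfsg.pPrimeCore p G) R
      hKcop hR θ hinv
    have hη₀inv := Cfsg.Agent.Lib.helper77.glauberman_sub_invariant (Cfsg.pPrimeCore p G) R θ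
      hinv η₀ hη₀
    have hWcop : (Nat.card ((Cfsg.pPrimeCore p G).subgroupOf
        (Subgroup.centralizer (R : Set G)))).Coprime p :=
      Nat.Coprime.coprime_dvd_left (Subgroup.card_dvd_of_injective _
        (Cfsg.Agent.Lib.helper77.sgIncl_injective (Cfsg.pPrimeCore p G)
          (Subgroup.centralizer (R : Set G)))) hKcop
    obtain ⟨hf₀, -⟩ := Cfsg.Agent.Lib.helper77.fong_cover_of_section hM
      ((Cfsg.pPrimeCore p G).subgroupOf (Subgroup.centralizer (R : Set G)))
      ((Cfsg.pPrimePCore p G).subgroupOf (Subgroup.centralizer (R : Set G)))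
      (fun x hx => hKL hx) hWcop
      (fun l hl => by
        obtain ⟨j, hj⟩ := hLp (l : G) hl
        refine ⟨j, ?_⟩
        rw [Subgroup.mem_subgroupOf, Subgroup.coe_pow]
        exact hj)
      (fun x hx h => hKC R hR (x : G) x.2
        (by rw [Subgroup.orderOf_coe]; exact hx)
        (fun l hl hlC => h ⟨l, hlC⟩ hl))
      η₀ hη₀inv
    have hne : ∀ (ξ : Cfsg.IrrCharacter (Subgroup.centralizer (R : Set G)))
        (η : Cfsg.IrrCharacter ((Cfsg.pPrimeCore p G).subgroupOf
          (Subgroup.centralizer (R : Set G)))),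
        Cfsg.classInner (fun w : (Cfsg.pPrimeCore p G).subgroupOf
            (Subgroup.centralizer (R : Set G)) =>
              (ξ : Subgroup.centralizer (R : Set G) → ℂ) w)
          (η : (Cfsg.pPrimeCore p G).subgroupOf (Subgroup.centralizer (R : Set G)) → ℂ) ≠ 0 →
        (¬ Cfsg.MemLocalIdeal M (Cfsg.Agent.Lib.helper80.om
            (ξ : Subgroup.centralizer (R : Set G) → ℂ)
            (Cfsg.Agent.Lib.helper80.resFun (Subgroup.centralizer (R : Set G))
              (Cfsg.blockCoeff B))) ↔ η = η₀) := by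
      intro ξ η hξη
      rw [hBeq, Cfsg.Agent.Lib.helper77.not_memLocalIdeal_om_iff_grel (Cfsg.pPrimeCore p G)
        (Subgroup.centralizer (R : Set G)) hM hKcop θ hinv hξη]
      exact hη₀ η
    refine ⟨{χ : Cfsg.IrrCharacter (Subgroup.centralizer (R : Set G)) |
      Cfsg.classInner (fun n : (Cfsg.pPrimeCore p G).subgroupOf
          (Subgroup.centralizer (R : Set G)) => (χ : Subgroup.centralizer (R : Set G) → ℂ) n)
        (η₀ : (Cfsg.pPrimeCore p G).subgroupOf (Subgroup.centralizer (R : Set G)) → ℂ) ≠ 0},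
      ?_, ?_⟩
    · obtain ⟨ξ, hξ⟩ := Cfsg.Agent.Lib.helper80.isPBlock_nonempty hMp hf₀
      exact (Cfsg.Agent.Lib.helper77.isInducedBlock_centralizer_iff_om hM R hR hf₀ hB hξ).mpr
        ((hne ξ η₀ hξ).mpr rfl)
    · intro f hf
      obtain ⟨ξ, hξ⟩ := Cfsg.Agent.Lib.helper80.isPBlock_nonempty hMp hf.1
      have h1 := (Cfsg.Agent.Lib.helper77.isInducedBlock_centralizer_iff_om hM R hR hf.1 hB
        hξ).mp hf
      obtain ⟨η, hη⟩ := Cfsg.Agent.Lib.helper77.exists_constituent_restrict_top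
        ((Cfsg.pPrimeCore p G).subgroupOf (Subgroup.centralizer (R : Set G))) ξ
      have h2 := (hne ξ η hη).mp h1
      rw [h2] at hη
      exact Cfsg.Agent.Lib.helper80.isPBlock_eq_of_mem hMp hf.1 hf₀ hξ hη

end Cfsg.Agent.S4642
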