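import Cfsg.Statements.S4645
import Cfsg.Agent.Lib.helper78.InducedIn
import Cfsg.Agent.Lib.helper78.NilAbelian
import Cfsg.Agent.Lib.helper18.QuatSylow

set_option autoImplicit false
open Cfsg

namespace Cfsg.Agent.S4645

/-- Let B be a block of the finite group G relative to a maximal ideal M of the algebraic integers containing the prime p, with a nontrivial cyclic defect group P; let c be a block of C_G(P) inducing B and T the stabilizer of c in N_G(P). Let Q be a nontrivial subgroup of P (so C_G(P) ≤ C_G(Q)), f the block of C_G(Q) induced by c inside C_G(Q), and T' the stabilizer of f in N_G(Q). Then T' = T·C_G(Q), the index of C_G(Q) in T' equals the index of C_G(P) in T, f has p-regular rank 1, and f is a nilpotent block of C_G(Q). -/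
theorem result {G : Type*} [Group G] [Finite G] (p : ℕ) [Fact p.Prime] (M : Ideal Cfsg.AlgInt) (hM : Cfsg.IsPModular p M) (B : Set (Cfsg.IrrCharacter G)) (hB : Cfsg.IsPBlock M B) (P : Subgroup G) (hPD : Cfsg.IsDefectGroup p M B P) (hP1 : P ≠ ⊥) (hcyc : IsCyclic P) (c : Set (Cfsg.IrrCharacter (Subgroup.centralizer (P : Set G)))) (hc : Cfsg.IsInducedBlock M (Subgroup.centralizer (P : Set G)) c B) (T : Subgroup G) (hT : ∀ g : G, g ∈ T ↔ (g ∈ Subgroup.normalizer (P : Set G) ∧ Cfsg.StabilizesBlock (Subgroup.centralizer (P : Set G)) c g)) (Q : Subgroup G) (hQP : Q ≤ P) (hQ1 : Q ≠ ⊥) (f : Set (Cfsg.IrrCharacter (Subgroup.centralizer (Q : Set G)))) (hf : Cfsg.IsInducedBlockIn M (Subgroup.centralizer (Q : Set G)) (Subgroup.centralizer (P : Set G)) c f) (T' : Subgroup G) (hT' : ∀ g : G, g ∈ T' ↔ (g ∈ Subgroup.normalizer (Q : Set G) ∧ Cfsg.StabilizesBlock (Subgroup.centralizer (Q : Set G)) f g)) : T' = T ⊔ Subgroup.centralizer (Q : Set G) ∧ (Subgroup.centralizer (Q : Set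 G)).relIndex T' = (Subgroup.centralizer (P : Set G)).relIndex T ∧ Cfsg.blockRank p f = 1 ∧ Cfsg.IsNilpotentBlock p M f := by
  classical
  have : Fintype G := Fintype.ofFinite G
  have hMp := Cfsg.Agent.Lib.helper20.isPrime_of_isPModular hM
  have hcomm : ∀ a b : P, a * b = b * a := fun a b =>
    (IsCyclic.commGroup (α := P)).mul_comm a b
  have hab : ∀ x ∈ P, ∀ y ∈ P, x * y = y * x := fun x hx y hy =>
    congrArg Subtype.val (hcomm ⟨x, hx⟩ ⟨y, hy⟩)
  have hmax : IsMaximalBrauerPair p M B P c :=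
    Cfsg.Agent.Lib.helper80.isMaximal_of_induced_abelian hM hB hPD hab hc
  have hPe : IsBrauerPair p M P c := hmax.1.1
  have hP : IsPGroup p P := hPe.1
  have hns := (Cfsg.Agent.Lib.helper78.isInducedBlockIn_iff_normalSubpair hM hP hab hQP c f).mp hf
  have hfb : IsPBlock M f := hns.1.2
  have hle : SubpairLE p M Q f P c := Relation.ReflTransGen.single hns
  have hn := Cfsg.Agent.Lib.helper80.normal_centralizer_subgroupOf_stabilizer P T hT
  obtain ⟨-, -, hfree⟩ := Cfsg.Agent.Lib.helper80.cyclic_inertial hM hB hPD hP1 hcyc hc T hT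
  have hPC : P ≤ Subgroup.centralizer (Q : Set G) := by
    intro u hu
    rw [Subgroup.mem_centralizer_iff]
    intro q hq
    exact hab q (hQP hq) u hu
  have hCC : Subgroup.centralizer (P : Set G) ≤ Subgroup.centralizer (Q : Set G) :=
    Subgroup.centralizer_le (SetLike.coe_subset_coe.mpr hQP)
  have hfree' : ∀ g : G, g ∈ Subgroup.normalizer (P : Set G) →
      StabilizesBlock (Subgroup.centralizer (P : Set G)) c g →
      g ∈ Subgroup.centralizer (Q : Set G) → g ∈ Subgroup.centralizer (P : Set G) := by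
    intro g hgN hgS hgQ
    obtain ⟨⟨x, hxQ⟩, hx1'⟩ := Subgroup.ne_bot_iff_exists_ne_one.mp hQ1
    have hx1 : x ≠ 1 := fun h => hx1' (Subtype.ext h)
    refine hfree g ((hT g).mpr ⟨hgN, hgS⟩) x (hQP hxQ) hx1 ?_
    have h1 : x * g = g * x := Subgroup.mem_centralizer_iff.mp hgQ x hxQ
    rw [← h1]
    group
  have hnil : IsNilpotentBlock p M f :=
    Cfsg.Agent.Lib.helper78.isNilpotentBlock_local_of_free hM hmax hab hQP hns hfree'
  have hD := Cfsg.Agent.Lib.helper80.isDefectGroup_centralizer_of_le hM hmax hQP hfb hle hPC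
  have : Fintype (Subgroup.centralizer (Q : Set G)) := Fintype.ofFinite _
  have hrank : blockRank p f = 1 :=
    Cfsg.Agent.Lib.helper78.blockRank_eq_one_of_nilpotent_abelian hM _
      (Subgroup.centralizer (Q : Set G)) f _ rfl hnil hD
      (Cfsg.Agent.Lib.helper78.subgroupOf_comm _ hab)
  -- `T` normalizes `Q`
  have hTQ : ∀ y ∈ T, y ∈ Subgroup.normalizer (Q : Set G) := by
    intro y hy
    obtain ⟨hyN, -⟩ := (hT y).mp hy
    have hmapP : Q.map (MulAut.conj y).toMonoidHom ≤ P := by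
      rintro _ ⟨q, hq, rfl⟩
      exact (Subgroup.mem_normalizer_iff.mp hyN q).mp (hQP hq)
    have heq : Q.map (MulAut.conj y).toMonoidHom = Q :=
      Cfsg.Agent.Lib.helper18.eq_of_le_cyclic_of_card_eq P _ _ hmapP hQP
        (Subgroup.card_map_of_injective (MulAut.conj y).injective)
    apply Cfsg.Agent.Lib.helper80.mem_normalizer_of_forall_conj_mem
    intro u hu
    rw [← heq]
    exact ⟨u, hu, rfl⟩
  have hT'sub : ∀ x ∈ T', ∃ y ∈ T, ∃ c₁ ∈ Subgroup.centralizer (Q : Set G), x = y * c₁ := by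
    intro x hx
    obtain ⟨hxN, hxS⟩ := (hT' x).mp hx
    obtain ⟨y, hyN, hyS, c₁, hc₁, hxy⟩ :=
      Cfsg.Agent.Lib.helper80.exists_mul_of_abelian hM hmax hab hQP hfb hle hxN hxS
    exact ⟨y, (hT y).mpr ⟨hyN, hyS⟩, c₁, hc₁, hxy⟩
  have hTT' : T ≤ T' := by
    intro y hy
    obtain ⟨hyN, hyS⟩ := (hT y).mp hy
    exact (hT' y).mpr ⟨hTQ y hy,
      Cfsg.Agent.Lib.helper80.stabilizesBlock_of_normalSubpair hM hns hyN hyS (hTQ y hy)⟩
  have hCT' : Subgroup.centralizer (Q : Set G) ≤ T' := by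
    intro y hy
    exact (hT' y).mpr ⟨Subgroup.centralizer_le_normalizer _ hy,
      Cfsg.Agent.Lib.helper80.stabilizesBlock_of_mem_sup_centralizer Q f
        (Subgroup.mem_sup_right hy)⟩
  have hT'eq : T' = T ⊔ Subgroup.centralizer (Q : Set G) := by
    apply le_antisymm
    · intro x hx
      obtain ⟨y, hy, c₁, hc₁, rfl⟩ := hT'sub x hx
      exact Subgroup.mul_mem _ (Subgroup.mem_sup_left hy) (Subgroup.mem_sup_right hc₁)
    · exact sup_le hTT' hCT'
  refine ⟨hT'eq, ?_, hrank, hnil⟩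
  have hT'N : T' ≤ Subgroup.normalizer (Q : Set G) := fun y hy => ((hT' y).mp hy).1
  have hidx := Cfsg.Agent.Lib.helper80.index_centralizer_eq_of_mul Q T' T hCT' hT'N
    (inf_le_left.trans hTT') hT'sub
  have h1 : T ⊓ Subgroup.normalizer (Q : Set G) = T := inf_eq_left.mpr (fun y hy => hTQ y hy)
  have h2 : T ⊓ Subgroup.centralizer (Q : Set G) = Subgroup.centralizer (P : Set G) := by
    apply le_antisymm
    · rintro y ⟨hyT, hyQ⟩
      obtain ⟨hyN, hyS⟩ := (hT y).mp hyT
      exact hfree' y hyN hyS hyQ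
    · intro y hy
      exact ⟨(hT y).mpr ⟨Subgroup.centralizer_le_normalizer _ hy,
        Cfsg.Agent.Lib.helper80.stabilizesBlock_of_mem_sup_centralizer P c
          (Subgroup.mem_sup_right hy)⟩, hCC hy⟩
  have h3 : (Subgroup.centralizer (Q : Set G)).relIndex T'
      = (T ⊓ Subgroup.centralizer (Q : Set G)).relIndex (T ⊓ Subgroup.normalizer (Q : Set G)) :=
    hidx
  rw [h3, h1, h2]

end Cfsg.Agent.S4645
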