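import Cfsg.Statements.S4650
import Cfsg.Agent.Lib.helper78.InducedIn

set_option autoImplicit false
open Cfsg

namespace Cfsg.Agent.S4650

/-- Let B be a block of the finite group G relative to a maximal ideal M of the algebraic integers containing the prime p, with a nontrivial commutative defect group P; let c be a block of C_G(P) inducing B and T the stabilizer of c in N_G(P). Then T/C_G(P) acts freely on the non-identity elements of P (an element of T fixing a non-identity element of P under conjugation lies in C_G(P)) if and only if, for every nontrivial subgroup Q of P, the block of C_G(Q) induced by c inside C_G(Q) is a nilpotent block of C_G(Q). -/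
theorem result {G : Type*} [Group G] [Finite G] (p : ℕ) [Fact p.Prime] (M : Ideal Cfsg.AlgInt) (hM : Cfsg.IsPModular p M) (B : Set (Cfsg.IrrCharacter G)) (hB : Cfsg.IsPBlock M B) (P : Subgroup G) (hPD : Cfsg.IsDefectGroup p M B P) (hPab : ∀ x ∈ P, ∀ y ∈ P, x * y = y * x) (hP1 : P ≠ ⊥) (c : Set (Cfsg.IrrCharacter (Subgroup.centralizer (P : Set G)))) (hc : Cfsg.IsInducedBlock M (Subgroup.centralizer (P : Set G)) c B) (T : Subgroup G) (hT : ∀ g : G, g ∈ T ↔ (g ∈ Subgroup.normalizer (P : Set G) ∧ Cfsg.StabilizesBlock (Subgroup.centralizer (P : Set G)) c g)) : (∀ g ∈ T, ∀ x ∈ P, x ≠ 1 → g * x * g⁻¹ = x → g ∈ Subgroup.centralizer (P : Set G)) ↔ ∀ Q : Subgroup G, Q ≤ P → Q ≠ ⊥ → ∀ f : Set (Cfsg.IrrCharacter (Subgroup.centralizer (Q : Set G))), Cfsg.IsInducedBlockIn M (Subgroup.centralizer (Q : Set G)) (Subgroup.centralizer (P : Set G)) c f → Cfsg.IsNilpotentBlock p M f := by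
  classical
  have : Fintype G := Fintype.ofFinite G
  have hMp := Cfsg.Agent.Lib.helper20.isPrime_of_isPModular hM
  have hmax : IsMaximalBrauerPair p M B P c :=
    Cfsg.Agent.Lib.helper80.isMaximal_of_induced_abelian hM hB hPD hPab hc
  have hPe : IsBrauerPair p M P c := hmax.1.1
  have hP : IsPGroup p P := hPe.1
  constructor
  · intro hfree Q hQP hQ1 f hf
    have hns := (Cfsg.Agent.Lib.helper78.isInducedBlockIn_iff_normalSubpair hM hP hPab hQP c f).mp hf
    refine Cfsg.Agent.Lib.helper78.isNilpotentBlock_local_of_free hM hmax hPab hQP hns ?_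
    intro g hgN hgS hgQ
    obtain ⟨⟨x, hxQ⟩, hx1'⟩ := Subgroup.ne_bot_iff_exists_ne_one.mp hQ1
    have hx1 : x ≠ 1 := fun h => hx1' (Subtype.ext h)
    refine hfree g ((hT g).mpr ⟨hgN, hgS⟩) x (hQP hxQ) hx1 ?_
    have h1 : x * g = g * x := Subgroup.mem_centralizer_iff.mp hgQ x hxQ
    rw [← h1]
    group
  · intro hall g hgT x hxP hx1 hgx
    obtain ⟨hgN, hgS⟩ := (hT g).mp hgT
    have hQP : Subgroup.zpowers x ≤ P := Subgroup.zpowers_le.mpr hxP
    have hQ1 : Subgroup.zpowers x ≠ ⊥ := by
      intro h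
      exact hx1 (Subgroup.zpowers_eq_bot.mp h)
    obtain ⟨f, hf, hle⟩ := Cfsg.Agent.Lib.helper80.exists_subpairLE hM _ P (Subgroup.zpowers x) c hPe
      hQP rfl
    have hPC : P ≤ Subgroup.centralizer ((Subgroup.zpowers x : Subgroup G) : Set G) := by
      intro u hu
      rw [Subgroup.mem_centralizer_iff]
      intro q hq
      exact hPab q (hQP hq) u hu
    have hns : IsNormalSubpair p M (Subgroup.zpowers x) f P c :=
      Cfsg.Agent.Lib.helper80.normalSubpair_of_subpairLE hM ⟨Subgroup.zpowers x, f⟩ ⟨P, c⟩ hle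
        ⟨hP.to_le hQP, hf⟩ (hPC.trans (Subgroup.centralizer_le_normalizer _))
    have hfI := (Cfsg.Agent.Lib.helper78.isInducedBlockIn_iff_normalSubpair hM hP hPab hQP c f).mpr hns
    have hnil := hall _ hQP hQ1 f hfI
    have hgQ : g ∈ Subgroup.centralizer ((Subgroup.zpowers x : Subgroup G) : Set G) := by
      rw [← Cfsg.Agent.Lib.helper78.centralizer_singleton_eq_zpowers,
        Subgroup.mem_centralizer_singleton_iff]
      have : g * x = g * x * g⁻¹ * g := by group
      rw [this, hgx]
    exact Cfsg.Agent.Lib.helper78.mem_centralizer_of_local_nilpotent hM hmax hPab hQP hns hnil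
      hgN hgS hgQ

end Cfsg.Agent.S4650
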