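import Cfsg.Statements.S4651
import Cfsg.Agent.Lib.helper80.KRCount
import Cfsg.Agent.Lib.helper80.ChainInv

set_option autoImplicit false
open Cfsg

namespace Cfsg.Agent.S4651
open Cfsg.Agent.Lib.helper80 in

/-- An alternating-sum identity over chains of p-subgroups (the character-count form behind the chain reformulation of Alperin's weight conjecture, which holds unconditionally for the difference k − l). Let b be a block of the finite group G relative to a maximal ideal M of the algebraic integers containing the prime p. Consider the nonempty chains s = {Q_0 < Q_1 < ⋯ < Q_m} of nontrivial p-subgroups of G in which every member is normal in the largest member; let N_G(s) be the intersection of the normalizers of the members (the stabilizer of the chain), and let b_s be the set of irreducible characters of N_G(s) lying in blocks of N_G(s) that induce b. Then #G · (k(b) − l(b)) equals the sum over all such chains s of (−1)^m · #N_G(s) · (k(b_s) − l(b_s)), where k counts irreducible characters and l is the p-regular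 rank; equivalently, k(b) − l(b) is the alternating sum of k(b_s) − l(b_s) over representatives of the conjugacy classes of such chains. -/
theorem result {G : Type*} [Group G] [Finite G] (p : ℕ) [Fact p.Prime] (M : Ideal Cfsg.AlgInt) (hM : Cfsg.IsPModular p M) (b : Set (Cfsg.IrrCharacter G)) (hb : Cfsg.IsPBlock M b) : (Nat.card G : ℤ) * ((Nat.card b : ℤ) - (Cfsg.blockRank p b : ℤ)) = ∑ᶠ s ∈ {s : Finset (Subgroup G) | s.Nonempty ∧ (∀ Q ∈ s, ∀ R ∈ s, Q ≤ R ∨ R ≤ Q) ∧ (∀ Q ∈ s, Q ≠ ⊥ ∧ IsPGroup p Q) ∧ ∃ T ∈ s, ∀ Q ∈ s, Q ≤ T ∧ T ≤ Subgroup.normalizer ((Q : Subgroup G) : Set G)}, (-1 : ℤ) ^ (s.card - 1) * (Nat.card (((⨅ Q ∈ s, Subgroup.normalizer ((Q : Subgroup G) : Set G) : Subgroup G))) : ℤ) * ((Nat.card {ψ : Cfsg.IrrCharacter (((⨅ Q ∈ s, Subgroup.normalizer ((Q : Subgroup G) : Set G) : Subgroup G))) | ∃ β : Set (Cfsg.IrrCharacter (((⨅ Q ∈ s, Subgroup.normalizer ((Q : Subgroup G) : Set G) : Subgroup G)))), ψ ∈ β ∧ Cfsg.IsInducedBlock M (((⨅ Q ∈ s, Subgroup.normalizer ((Q : Subgroup G) : Set G) : Subgroup G))) β b}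 : ℤ) - (Cfsg.blockRank p {ψ : Cfsg.IrrCharacter (((⨅ Q ∈ s, Subgroup.normalizer ((Q : Subgroup G) : Set G) : Subgroup G))) | ∃ β : Set (Cfsg.IrrCharacter (((⨅ Q ∈ s, Subgroup.normalizer ((Q : Subgroup G) : Set G) : Subgroup G)))), ψ ∈ β ∧ Cfsg.IsInducedBlock M (((⨅ Q ∈ s, Subgroup.normalizer ((Q : Subgroup G) : Set G) : Subgroup G))) β b} : ℤ)) := by
  classical
  have hMp := Cfsg.Agent.Lib.helper20.isPrime_of_isPModular hM
  rw [card_mul_k_sub_l hM b hb]
  symm
  calc _ = ∑ᶠ s ∈ {s : Finset (Subgroup G) | IsNChain p s}, (-1 : ℤ) ^ (s.card - 1)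
        * ∑ᶠ x ∈ {x : G | x ∈ chainStab s ∧ x ≠ 1 ∧ ∃ k : ℕ, orderOf x = p ^ k},
          ((Nat.card ↥(Subgroup.centralizer ({x} : Set G) ⊓ chainStab s) : ℤ)
            * (indRank p M b (Subgroup.centralizer ({x} : Set G) ⊓ chainStab s) : ℤ)) := by
        apply finsum_mem_congr rfl
        intro s _
        rw [mul_assoc, card_mul_k_sub_l_subgroup hM b
          (⨅ Q ∈ s, Subgroup.normalizer ((Q : Subgroup G) : Set G))]
        rfl
    _ = ∑ x ∈ (Set.toFinite {x : G | x ≠ 1 ∧ ∃ k : ℕ, orderOf x = p ^ k}).toFinset,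
          (Nat.card (Subgroup.centralizer ({x} : Set G)) : ℤ)
            * (indRank p M b (Subgroup.centralizer ({x} : Set G)) : ℤ) := by
        rw [finsum_mem_eq_finite_toFinset_sum _ (Set.toFinite _)]
        have hinner : ∀ s : Finset (Subgroup G),
            ∑ᶠ x ∈ {x : G | x ∈ chainStab s ∧ x ≠ 1 ∧ ∃ k : ℕ, orderOf x = p ^ k},
              ((Nat.card ↥(Subgroup.centralizer ({x} : Set G) ⊓ chainStab s) : ℤ)
                * (indRank p M b (Subgroup.centralizer ({x} : Set G) ⊓ chainStab s) : ℤ))
            = ∑ x ∈ (Set.toFinite {x : G | x ≠ 1 ∧ ∃ k : ℕ, orderOf x = p ^ k}).toFinset,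
                if x ∈ chainStab s then
                  ((Nat.card ↥(Subgroup.centralizer ({x} : Set G) ⊓ chainStab s) : ℤ)
                    * (indRank p M b (Subgroup.centralizer ({x} : Set G) ⊓ chainStab s) : ℤ))
                else 0 := by
          intro s
          rw [finsum_mem_eq_finite_toFinset_sum _ (Set.toFinite _), ← Finset.sum_filter]
          apply Finset.sum_congr _ (fun _ _ => rfl)
          ext x
          simp only [Set.Finite.mem_toFinset, Set.mem_setOf_eq, Finset.mem_filter]
          tauto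
        simp_rw [hinner, Finset.mul_sum, mul_ite, mul_zero]
        rw [Finset.sum_comm]
        apply Finset.sum_congr rfl
        intro x hx
        rw [Set.Finite.mem_toFinset] at hx
        rw [← Finset.sum_filter]
        have hxp : IsPGroup p (Subgroup.zpowers x) := by
          obtain ⟨k, hk⟩ := hx.2
          exact IsPGroup.of_card (by rw [Nat.card_zpowers, hk])
        exact chain_sum_eq hx.1 hxp (fun K => (Nat.card K : ℤ) * (indRank p M b K : ℤ)) _ (by
          intro s
          rw [Finset.mem_filter, Set.Finite.mem_toFinset]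
          rfl)
    _ = _ := by
        rw [finsum_mem_eq_finite_toFinset_sum _ (Set.toFinite _)]

end Cfsg.Agent.S4651
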