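import Cfsg.Statements.S4652
-- import your own Cfsg.Agent.* helpers here
import Cfsg.Agent.Lib.helper81.Blocks
import Cfsg.Agent.Lib.helper80.LocalInt

set_option autoImplicit false
open Cfsg

namespace Cfsg.Agent.S4652

theorem index_centralizer_conj {G : Type*} [Group G] [Fintype G] (g x : G) :
    (Subgroup.centralizer ({x * g * x⁻¹} : Set G)).index
      = (Subgroup.centralizer ({g} : Set G)).index := by
  rw [Cfsg.Agent.Lib.helper81.index_centralizer_eq, Cfsg.Agent.Lib.helper81.index_centralizer_eq]
  apply Nat.card_congr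
  refine Equiv.subtypeEquivRight (fun y => ?_)
  constructor
  · intro h; exact (isConj_iff.mpr ⟨x, rfl⟩ : IsConj g (x * g * x⁻¹)).trans h
  · intro h; exact (isConj_iff.mpr ⟨x, rfl⟩ : IsConj g (x * g * x⁻¹)).symm.trans h

theorem isDefectClass_conj {G : Type*} [Group G] [Fintype G] (M : Ideal Cfsg.AlgInt)
    (B : Set (IrrCharacter G)) (g x : G) (h : IsDefectClass M B g) :
    IsDefectClass M B (x * g * x⁻¹) := by
  obtain ⟨h1, h2, h3⟩ := h
  refine ⟨?_, ?_, ?_⟩
  · rw [Cfsg.Agent.Lib.helper81.blockCoeff_conj]; exact h1
  · rw [Cfsg.Agent.Lib.helper81.blockCoeff_conj]; exact h2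
  · intro χ hχ
    have : centralChar (χ : G → ℂ) (x * g * x⁻¹) = centralChar (χ : G → ℂ) g := by
      unfold centralChar
      rw [index_centralizer_conj, Cfsg.Agent.Lib.helper81.irr_classFun χ g x]
    rw [this]
    exact h3 χ hχ

/-- Fix a prime p and a maximal ideal M of the algebraic integers containing p. The defect groups of the principal p-block of a finite group G are exactly the Sylow p-subgroups of G: a subgroup D is a defect group of the principal block if and only if D is a Sylow p-subgroup. -/
theorem result {G : Type*} [Group G] [Fintype G] (p : ℕ) [Fact p.Prime] (M : Ideal Cfsg.AlgInt) (hM : Cfsg.IsPModular p M) (D : Subgroup G) : Cfsg.IsDefectGroup p M (Cfsg.principalBlock M G) D ↔ ∃ S : Sylow p G, (S : Subgroup G) = D := by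
  have hMp : M.IsPrime := Cfsg.Agent.Lib.helper20.isPrime_of_isPModular hM
  have htriv : Cfsg.Agent.Lib.helper81.trivChar G ∈ principalBlock M G :=
    Cfsg.Agent.Lib.helper81.trivChar_mem_principalBlock hMp
  -- a defect class has class size prime to p
  have hkey : ∀ g : G, IsDefectClass M (principalBlock M G) g →
      ¬ p ∣ (Subgroup.centralizer ({g} : Set G)).index := by
    intro g hg hdvd
    have h1 := hg.2.2 _ htriv
    apply h1
    have h2 : centralChar ((Cfsg.Agent.Lib.helper81.trivChar G : IrrCharacter G) : G → ℂ) g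
        = ((Subgroup.centralizer ({g} : Set G)).index : ℂ) :=
      Cfsg.Agent.Lib.helper81.centralChar_const_one g
    rw [h2]
    exact Cfsg.Agent.Lib.helper80.memLocalIdeal_natCast hM hdvd
  constructor
  · rintro ⟨g, hg, P, rfl⟩
    have hnd := hkey g hg
    have hPG : IsPGroup p ((P : Subgroup (Subgroup.centralizer ({g} : Set G))).map
        (Subgroup.centralizer ({g} : Set G)).subtype) := P.isPGroup'.map _
    have hidx : ¬ p ∣ ((P : Subgroup (Subgroup.centralizer ({g} : Set G))).map
        (Subgroup.centralizer ({g} : Set G)).subtype).index := by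
      rw [Subgroup.index_map_subtype]
      intro hd
      rcases (Nat.Prime.dvd_mul Fact.out).mp hd with h | h
      · exact P.not_dvd_index h
      · exact hnd h
    exact ⟨hPG.toSylow hidx, rfl⟩
  · rintro ⟨S, rfl⟩
    obtain ⟨g, hg⟩ := Cfsg.Agent.Lib.helper81.exists_isDefectClass hMp
      (Cfsg.Agent.Lib.helper81.isPBlock_principalBlock (M := M) (G := G))
    have hnd := hkey g hg
    -- a Sylow subgroup of the centralizer of g, viewed in G, is Sylow in G
    obtain ⟨P₀⟩ : Nonempty (Sylow p (Subgroup.centralizer ({g} : Set G))) := inferInstance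
    have hPG : IsPGroup p ((P₀ : Subgroup (Subgroup.centralizer ({g} : Set G))).map
        (Subgroup.centralizer ({g} : Set G)).subtype) := P₀.isPGroup'.map _
    have hidx : ¬ p ∣ ((P₀ : Subgroup (Subgroup.centralizer ({g} : Set G))).map
        (Subgroup.centralizer ({g} : Set G)).subtype).index := by
      rw [Subgroup.index_map_subtype]
      intro hd
      rcases (Nat.Prime.dvd_mul Fact.out).mp hd with h | h
      · exact P₀.not_dvd_index h
      · exact hnd h
    obtain ⟨x, hx⟩ := MulAction.exists_smul_eq G (hPG.toSylow hidx) S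
    -- S centralizes x g x⁻¹
    have hle : (S : Subgroup G) ≤ Subgroup.centralizer ({x * g * x⁻¹} : Set G) := by
      intro d hd
      rw [← hx, Sylow.smul_def, Sylow.pointwise_smul_def, Subgroup.mem_pointwise_smul_iff_inv_smul_mem] at hd
      have hd' : x⁻¹ * d * x ∈ (P₀ : Subgroup (Subgroup.centralizer ({g} : Set G))).map
          (Subgroup.centralizer ({g} : Set G)).subtype := by
        have : (MulAut.conj x)⁻¹ • d = x⁻¹ * d * x := by
          simp [MulAut.smul_def]
        rw [this] at hd
        exact hd
      obtain ⟨c, _, hc⟩ := hd'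
      have hcg : g * (x⁻¹ * d * x) = (x⁻¹ * d * x) * g := by
        have := c.2
        rw [Subgroup.mem_centralizer_iff] at this
        have h2 := this g (Set.mem_singleton g)
        rw [← hc]
        exact h2
      rw [Subgroup.mem_centralizer_iff]
      intro y hy
      rw [Set.mem_singleton_iff] at hy
      subst hy
      calc x * g * x⁻¹ * d = x * (g * (x⁻¹ * d * x)) * x⁻¹ := by group
        _ = x * ((x⁻¹ * d * x) * g) * x⁻¹ := by rw [hcg]
        _ = d * (x * g * x⁻¹) := by group
    refine ⟨x * g * x⁻¹, isDefectClass_conj M _ g x hg, ?_⟩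
    have hP' : IsPGroup p ((S : Subgroup G).subgroupOf
        (Subgroup.centralizer ({x * g * x⁻¹} : Set G))) := S.isPGroup'.comap_subtype
    have hidx' : ¬ p ∣ ((S : Subgroup G).subgroupOf
        (Subgroup.centralizer ({x * g * x⁻¹} : Set G))).index := by
      intro hd
      have h1 : ((S : Subgroup G).subgroupOf (Subgroup.centralizer ({x * g * x⁻¹} : Set G))).index
          = (S : Subgroup G).relIndex (Subgroup.centralizer ({x * g * x⁻¹} : Set G)) := rfl
      rw [h1] at hd
      have h2 := Subgroup.relIndex_mul_index hle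
      exact S.not_dvd_index (h2 ▸ Dvd.dvd.mul_right hd _)
    exact ⟨hP'.toSylow hidx', (Subgroup.map_subgroupOf_eq_of_le hle).symm⟩

end Cfsg.Agent.S4652
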