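import Cfsg.Statements.S4663
import Cfsg.Agent.Lib.helper80.Principal

set_option autoImplicit false
open Cfsg

namespace Cfsg.Agent.S4663

open Cfsg.Agent.Lib.helper80 Cfsg.Agent.Lib.helper20 Cfsg.Agent.Lib.helper81

/-- Fix a prime p and a maximal ideal M of the algebraic integers containing p. Brauer's Third Main Theorem in the language of Brauer pairs: for the principal p-block B₀ of the finite group G and any p-subgroup Q, a p-block e of C_G(Q) makes (Q, e) a Brauer pair of B₀ if and only if e is the principal p-block of C_G(Q). Equivalently, modulo M the truncation to C_G(Q) of the idempotent of B₀ is the idempotent of the principal block of C_G(Q). -/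
theorem result {G : Type*} [Group G] [Fintype G] (p : ℕ) [Fact p.Prime] (M : Ideal Cfsg.AlgInt) (hM : Cfsg.IsPModular p M) (Q : Subgroup G) (hQ : IsPGroup p Q) (e : Set (Cfsg.IrrCharacter (Subgroup.centralizer (Q : Set G)))) (he : Cfsg.IsPBlock M e) : Cfsg.IsBrauerPairOf p M (Cfsg.principalBlock M G) Q e ↔ e = Cfsg.principalBlock M (Subgroup.centralizer (Q : Set G)) := by
  classical
  have hMp := isPrime_of_isPModular hM
  constructor
  · intro hpair
    obtain ⟨P, eP, hmax, hle⟩ := exists_maximal_above hM _ Q e rfl hpair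
    have hD := isDefectGroup_of_maximal hM hmax
    have : Fintype (Subgroup.normalizer (P : Set G)) := Fintype.ofFinite _
    have : Fintype (Subgroup.centralizer (P : Set G)) := Fintype.ofFinite _
    have hP : IsPGroup p P := hmax.1.1.1
    have hpr := isBrauerPairOf_principal hM P hP
    obtain ⟨ξ', hξ'⟩ := Cfsg.Agent.Lib.helper80.isPBlock_nonempty hMp hmax.1.1.2
    obtain ⟨χ', hχ', hbr'⟩ := exists_brInd_of_isBrauerPairOf hM P hmax.1 hξ'
    obtain ⟨χ, hχ, hbr⟩ := exists_brInd_of_isBrauerPairOf hM P hpr
      (trivChar_mem_principalBlock hMp)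
    have h1 := mem_orbSet_of_defect hM P isPBlock_principalBlock hD isPBlock_principalBlock
      (trivChar_mem_principalBlock hMp) hχ hχ' hbr hbr'
    obtain ⟨n, hn, -, hξ'n⟩ := h1
    rw [conjSet_principalBlock] at hξ'n
    have heP : eP = principalBlock M (Subgroup.centralizer (P : Set G)) :=
      Cfsg.Agent.Lib.helper80.isPBlock_eq_of_mem hMp hmax.1.1.2 isPBlock_principalBlock hξ' hξ'n
    exact principal_of_subpairLE hM ⟨Q, e⟩ ⟨P, eP⟩ hle heP
  · rintro rfl
    exact isBrauerPairOf_principal hM Q hQ

end Cfsg.Agent.S4663
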