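import Cfsg.Statements.S4664
import Cfsg.Agent.Lib.helper79.FiniteOrderTrace
import Cfsg.Agent.Lib.helper20.Osima
import Cfsg.Agent.Lib.helper81.Blocks
import Cfsg.Agent.Lib.helper82.CharSums

set_option autoImplicit false
open Cfsg

namespace Cfsg.Agent.S4664

open Cfsg.Agent.Lib
open scoped ComplexConjugate

/-- A root of unity of order dividing `m` lies in `ℚ(exp(2πi/m))`. -/
theorem root_mem_adjoin (m : ℕ) (hm : m ≠ 0) (μ : ℂ) (hμ : μ ^ m = 1) :
    μ ∈ IntermediateField.adjoin ℚ ({Complex.exp (2 * Real.pi * Complex.I / (m : ℂ))} : Set ℂ) := by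
  have hprim := Complex.isPrimitiveRoot_exp m hm
  have : NeZero m := ⟨hm⟩
  obtain ⟨i, -, hi⟩ := hprim.eq_pow_of_pow_eq_one hμ
  rw [← hi]
  exact pow_mem (IntermediateField.subset_adjoin ℚ _ (Set.mem_singleton _)) i

/-- The complex conjugate of a character value at an element of order dividing `m` lies in
`ℚ(exp(2πi/m))`. -/
theorem conj_char_mem_adjoin {G : Type*} [Group G] (χ : Cfsg.IrrCharacter G) (g : G) (m : ℕ)
    (hm : m ≠ 0) (hg : g ^ m = 1) :
    conj ((χ : G → ℂ) g) ∈
      IntermediateField.adjoin ℚ ({Complex.exp (2 * Real.pi * Complex.I / (m : ℂ))} : Set ℂ) := by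
  obtain ⟨n, ρ, -, hρ⟩ := χ.2
  obtain ⟨S, mult, hS, -, hsum, -⟩ := helper79.character_pow_eq_sum ρ g m hm hg
  have h1 := hsum 1
  rw [pow_one, hρ] at h1
  rw [h1, map_sum]
  apply sum_mem
  intro μ hμ
  rw [map_mul, Complex.conj_natCast, pow_one]
  apply mul_mem (natCast_mem _ _)
  have hnorm : ‖μ‖ = 1 := Complex.norm_eq_one_of_pow_eq_one (hS μ hμ) hm
  rw [← Complex.inv_eq_conj hnorm]
  exact inv_mem (root_mem_adjoin m hm μ (hS μ hμ))

/-- Fix a prime p and a maximal ideal M of the algebraic integers containing p, and let B be a p-block of the finite group G. Let m be the p'-part of the order of G and η = exp(2πi/m). Then every coefficient of the idempotent of B lies in the cyclotomic field ℚ(η). -/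
theorem result {G : Type*} [Group G] [Fintype G] (p : ℕ) [Fact p.Prime] (M : Ideal Cfsg.AlgInt) (hM : Cfsg.IsPModular p M) (B : Set (Cfsg.IrrCharacter G)) (hB : Cfsg.IsPBlock M B) (g : G) : Cfsg.blockCoeff B g ∈ IntermediateField.adjoin ℚ ({Complex.exp (2 * Real.pi * Complex.I / ((Nat.card G / p ^ (Nat.card G).factorization p : ℕ) : ℂ))} : Set ℂ) := by
  classical
  have hp : p.Prime := Fact.out
  by_cases hg : p ∣ orderOf g
  · rw [helper20.blockCoeff_eq_zero_of_singular hM hB g hg]
    exact zero_mem _
  · set m := Nat.card G / p ^ (Nat.card G).factorization p with hm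
    have hGc : p ^ (Nat.card G).factorization p * m = Nat.card G :=
      Nat.ordProj_mul_ordCompl_eq_self (Nat.card G) p
    have hm0 : m ≠ 0 := by
      rintro h0
      rw [h0, mul_zero] at hGc
      exact Nat.card_pos.ne' hGc.symm
    have hdvd : orderOf g ∣ m := by
      have h1 : orderOf g ∣ p ^ (Nat.card G).factorization p * m := by
        rw [hGc]; exact orderOf_dvd_natCard g
      have hcop : Nat.Coprime (orderOf g) (p ^ (Nat.card G).factorization p) :=
        Nat.Coprime.pow_right _ ((Nat.Prime.coprime_iff_not_dvd hp).mpr hg).symm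
      exact hcop.dvd_of_dvd_mul_left h1
    have hgm : g ^ m = 1 := orderOf_dvd_iff_pow_eq_one.mp hdvd
    rw [helper81.blockCoeff_eq_sum]
    apply mul_mem
    · exact inv_mem (natCast_mem _ _)
    · apply sum_mem
      intro χ _
      by_cases hχ : χ ∈ B
      · simp only [hχ, if_true]
        apply mul_mem
        · rw [helper82.irr_one_eq χ]
          exact natCast_mem _ _
        · exact conj_char_mem_adjoin χ g m hm0 hgm
      · simp only [hχ, if_false]
        exact zero_mem _

end Cfsg.Agent.S4664
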