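import Cfsg.Statements.S4665
import Cfsg.Agent.Lib.helper80.IrrBasic
-- import your own Cfsg.Agent.* helpers here

set_option autoImplicit false
open Cfsg

namespace Cfsg.Agent.S4665

/-- Fix a prime p, a maximal ideal M of the algebraic integers containing p, and a p-block B of the finite group G, and let p^a be the p-part of the order of G. Let χ be an integer combination of the irreducible characters in B. If the function that agrees with χ on p-regular elements and vanishes on p-singular elements is again an integer combination of the irreducible characters in B, then p^a divides χ(1). -/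
theorem result {G : Type*} [Group G] [Fintype G] (p : ℕ) [Fact p.Prime] (M : Ideal Cfsg.AlgInt) (hM : Cfsg.IsPModular p M) (B : Set (Cfsg.IrrCharacter G)) (hB : Cfsg.IsPBlock M B) (χ : G → ℂ) (hχ : (∃ n : Cfsg.IrrCharacter G → ℤ, ∀ g : G, χ g = ∑ᶠ ψ ∈ B, (n ψ : ℂ) * (ψ : G → ℂ) g)) (h0 : (∃ n : Cfsg.IrrCharacter G → ℤ, ∀ g : G, Cfsg.pRegularPart p χ g = ∑ᶠ ψ ∈ B, (n ψ : ℂ) * (ψ : G → ℂ) g)) : ∃ k : ℤ, χ 1 = (p ^ (Nat.card G).factorization p : ℂ) * k := by
  classical
  have hp : p.Prime := Fact.out
  obtain ⟨n, hn⟩ := h0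
  have : Finite (IrrCharacter G) := Cfsg.Agent.Lib.helper80.irr_finite G
  obtain ⟨P⟩ : Nonempty (Sylow p G) := inferInstance
  haveI : Fintype (P : Subgroup G) := Fintype.ofFinite _
  have hcard : Nat.card (P : Subgroup G) = p ^ (Nat.card G).factorization p :=
    Sylow.card_eq_multiplicity P
  -- sum over P of the p-regular part is χ 1
  have h1 : ∑ x : (P : Subgroup G), Cfsg.pRegularPart p χ (x : G) = χ 1 := by
    rw [Finset.sum_eq_single (1 : (P : Subgroup G))]
    · simp [Cfsg.pRegularPart, Cfsg.IsPRegular, Nat.Prime.not_dvd_one hp]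
    · intro x _ hx
      have hx' : ¬ Cfsg.IsPRegular p (x : G) := by
        unfold Cfsg.IsPRegular
        rw [not_not]
        rw [Subgroup.orderOf_coe]
        exact IsPGroup.dvd_orderOf P.isPGroup' hx
      simp [Cfsg.pRegularPart, hx']
    · intro h; exact absurd (Finset.mem_univ _) h
  -- each irreducible character sums over P to |P| times a natural number
  choose m hm using fun ψ : IrrCharacter G => Cfsg.Agent.Lib.helper80.sum_subgroup_irr (P : Subgroup G) ψ
  have hfin : (B : Set (IrrCharacter G)).Finite := Set.toFinite B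
  have h2 : ∑ x : (P : Subgroup G), Cfsg.pRegularPart p χ (x : G)
      = ∑ ψ ∈ hfin.toFinset, (n ψ : ℂ) * ((Nat.card (P : Subgroup G) : ℂ) * m ψ) := by
    simp only [hn]
    have : ∀ x : (P : Subgroup G), ∑ᶠ ψ ∈ B, (n ψ : ℂ) * (ψ : G → ℂ) (x : G)
        = ∑ ψ ∈ hfin.toFinset, (n ψ : ℂ) * (ψ : G → ℂ) (x : G) := by
      intro x
      rw [finsum_mem_eq_finite_toFinset_sum _ hfin]
    simp only [this]
    rw [Finset.sum_comm]
    refine Finset.sum_congr rfl fun ψ _ => ?_
    rw [← Finset.mul_sum, hm ψ]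
  refine ⟨∑ ψ ∈ hfin.toFinset, n ψ * (m ψ : ℤ), ?_⟩
  rw [← h1, h2, hcard]
  push_cast
  rw [Finset.mul_sum]
  refine Finset.sum_congr rfl fun ψ _ => ?_
  ring

end Cfsg.Agent.S4665
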