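import Cfsg.Statements.S4667
import Cfsg.Agent.Lib.helper84.BlockOrth

set_option autoImplicit false
open Cfsg

namespace Cfsg.Agent.S4667

open Cfsg.Agent.Lib.helper84 Cfsg.Agent.Lib.helper81 Cfsg.Agent.Lib.helper80
  Cfsg.Agent.Lib.helper20
open scoped ComplexConjugate

/-- Fix a prime p and a maximal ideal M of the algebraic integers containing p, and a p-block B of the finite group G. The p-regular rank of B (the number of irreducible Brauer characters in B) times the order of G equals the sum over the p-regular elements x of G of Σ_{χ ∈ B} χ(x) χ(x⁻¹) (written with the restriction of χ to p-regular elements, which vanishes at p-singular x). -/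
theorem result {G : Type*} [Group G] [Fintype G] (p : ℕ) [Fact p.Prime] (M : Ideal Cfsg.AlgInt) (hM : Cfsg.IsPModular p M) (B : Set (Cfsg.IrrCharacter G)) (hB : Cfsg.IsPBlock M B) : (Nat.card G : ℂ) * (Cfsg.blockRank p B : ℂ) = ∑ x : G, ∑ᶠ χ ∈ B, Cfsg.pRegularPart p (χ : G → ℂ) x * (χ : G → ℂ) x⁻¹ := by
  classical
  have hG0 : (Nat.card G : ℂ) ≠ 0 := by exact_mod_cast Nat.card_pos.ne'
  -- p-regular parts
  have hreg : ∀ (χ : G → ℂ) (x : G), ¬ p ∣ orderOf x → pRegularPart p χ x = χ x := by
    intro χ x hx
    unfold pRegularPart
    rw [if_pos]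
    exact hx
  have hsing : ∀ (χ : G → ℂ) (x : G), p ∣ orderOf x → pRegularPart p χ x = 0 := by
    intro χ x hx
    unfold pRegularPart
    rw [if_neg]
    unfold IsPRegular
    simpa using hx
  set K : Matrix G G ℂ := Matrix.of fun x y => (Nat.card G : ℂ)⁻¹ *
    ∑ χ : IrrCharacter G, if χ ∈ B then pRegularPart p (χ : G → ℂ) x * conj ((χ : G → ℂ) y) else 0
    with hK
  have hKapp : ∀ x y, K x y = (Nat.card G : ℂ)⁻¹ *
    ∑ χ : IrrCharacter G, if χ ∈ B then pRegularPart p (χ : G → ℂ) x * conj ((χ : G → ℂ) y) else 0 :=
    fun x y => rfl
  set V : Submodule ℂ (G → ℂ) :=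
    Submodule.span ℂ ((fun χ : IrrCharacter G => pRegularPart p (χ : G → ℂ)) '' B) with hV
  have hproj : LinearMap.IsProj V (Matrix.toLin' K) := by
    constructor
    · intro f
      have h1 : Matrix.toLin' K f = ∑ χ : IrrCharacter G, if χ ∈ B then
          ((Nat.card G : ℂ)⁻¹ * ∑ y : G, conj ((χ : G → ℂ) y) * f y) •
            pRegularPart p (χ : G → ℂ) else 0 := by
        ext x
        rw [Matrix.toLin'_apply, Matrix.mulVec, dotProduct, Finset.sum_apply]
        simp_rw [hKapp, Finset.mul_sum, Finset.sum_mul]
        rw [Finset.sum_comm]
        refine Finset.sum_congr rfl fun χ _ => ?_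
        by_cases hχ : χ ∈ B
        · simp only [hχ, if_true, Pi.smul_apply, smul_eq_mul, Finset.sum_mul]
          refine Finset.sum_congr rfl fun y _ => ?_
          ring
        · simp [hχ]
      rw [h1]
      apply Submodule.sum_mem
      intro χ _
      split_ifs with hχ
      · exact Submodule.smul_mem _ _ (Submodule.subset_span ⟨χ, hχ, rfl⟩)
      · exact Submodule.zero_mem _
    · intro v hv
      induction hv using Submodule.span_induction with
      | mem v hv =>
        obtain ⟨ψ, hψ, rfl⟩ := hv
        ext x
        rw [Matrix.toLin'_apply, Matrix.mulVec, dotProduct]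
        simp only
        by_cases hx : p ∣ orderOf x
        · rw [hsing _ x hx]
          apply Finset.sum_eq_zero
          intro y _
          rw [hKapp]
          have : ∑ χ : IrrCharacter G, (if χ ∈ B then
              pRegularPart p (χ : G → ℂ) x * conj ((χ : G → ℂ) y) else 0) = 0 := by
            apply Finset.sum_eq_zero
            intro χ _
            rw [hsing _ x hx]
            simp
          rw [this]
          simp
        · rw [hreg _ x hx]
          have h1 : ∀ y : G, K x y * pRegularPart p (ψ : G → ℂ) y =
              (Nat.card G : ℂ)⁻¹ * ∑ χ : IrrCharacter G, if χ ∈ B then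
                (χ : G → ℂ) x * ((ψ : G → ℂ) y * conj ((χ : G → ℂ) y)) else 0 := by
            intro y
            rw [hKapp]
            have h2 : ∑ χ : IrrCharacter G, (if χ ∈ B then
                pRegularPart p (χ : G → ℂ) x * conj ((χ : G → ℂ) y) else 0) =
                ∑ χ : IrrCharacter G, (if χ ∈ B then
                (χ : G → ℂ) x * conj ((χ : G → ℂ) y) else 0) := by
              refine Finset.sum_congr rfl fun χ _ => ?_
              rw [hreg _ x hx]
            rw [h2]
            by_cases hy : p ∣ orderOf y
            · rw [hsing _ y hy, mul_zero]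
              symm
              have h3 := block_orthogonality hM hB x y hx hy
              have h4 : ∑ χ : IrrCharacter G, (if χ ∈ B then
                  (χ : G → ℂ) x * ((ψ : G → ℂ) y * conj ((χ : G → ℂ) y)) else 0) =
                  (ψ : G → ℂ) y * ∑ χ : IrrCharacter G, (if χ ∈ B then
                  (χ : G → ℂ) x * conj ((χ : G → ℂ) y) else 0) := by
                rw [Finset.mul_sum]
                refine Finset.sum_congr rfl fun χ _ => ?_
                split_ifs
                · ring
                · simp
              rw [h4, h3, mul_zero, mul_zero]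
            · rw [hreg _ y hy, mul_assoc, Finset.sum_mul]
              congr 1
              refine Finset.sum_congr rfl fun χ _ => ?_
              split_ifs
              · ring
              · simp
          simp_rw [h1]
          rw [← Finset.mul_sum, Finset.sum_comm]
          have h5 : ∀ χ : IrrCharacter G, ∑ y : G, (if χ ∈ B then
              (χ : G → ℂ) x * ((ψ : G → ℂ) y * conj ((χ : G → ℂ) y)) else 0) =
              if χ = ψ then (Nat.card G : ℂ) * (ψ : G → ℂ) x else 0 := by
            intro χ
            by_cases hχ : χ ∈ B
            · simp only [hχ, if_true]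
              rw [← Finset.mul_sum, irr_sum_mul_conj ψ χ]
              by_cases hχψ : χ = ψ
              · rw [if_pos hχψ.symm, if_pos hχψ, hχψ]
                ring
              · rw [if_neg (Ne.symm hχψ), if_neg hχψ, mul_zero]
            · simp only [hχ, if_false, Finset.sum_const_zero]
              rw [if_neg]
              rintro rfl
              exact hχ hψ
          simp_rw [h5]
          rw [Finset.sum_ite_eq' Finset.univ ψ, if_pos (Finset.mem_univ _), ← mul_assoc,
            inv_mul_cancel₀ hG0, one_mul]
      | zero => simp
      | add u v _ _ hu hv => rw [map_add, hu, hv]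
      | smul c v _ hv => rw [map_smul, hv]
  have htr := hproj.trace
  rw [Matrix.trace_toLin'_eq] at htr
  have hrank : (blockRank p B : ℂ) = K.trace := by
    rw [htr]
    rfl
  rw [hrank, Matrix.trace, Finset.mul_sum]
  refine Finset.sum_congr rfl fun x _ => ?_
  rw [Matrix.diag_apply, hKapp, ← mul_assoc, mul_inv_cancel₀ hG0, one_mul,
    finsum_eq_sum_of_fintype]
  refine Finset.sum_congr rfl fun χ _ => ?_
  rw [irr_inv, finsum_eq_if]

end Cfsg.Agent.S4667
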