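import Mathlib
import Cfsg.Statements.S4668
import Cfsg.Agent.Lib.helper20.Osima
import Cfsg.Agent.Lib.helper80.FMT
import Cfsg.Agent.Lib.helper54.AxB

set_option autoImplicit false
open Cfsg

namespace Cfsg.Agent.S4668

open Cfsg.Agent.Lib

/-- Fix a prime p and a maximal ideal M of the algebraic integers containing p. Let Q₀ < Q₁ < ⋯ < Q_m be a strictly increasing chain of p-subgroups of the finite group G and N the intersection of their normalizers. Then every block idempotent of N is supported on C_G(Q_m): for every p-block E of N, the idempotent coefficient of E vanishes at every element of N outside C_G(Q_m). -/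
theorem result {G : Type*} [Group G] [Fintype G] (p : ℕ) [Fact p.Prime] (M : Ideal Cfsg.AlgInt) (hM : Cfsg.IsPModular p M) (m : ℕ) (Q : Fin (m + 1) → Subgroup G) (hQ : StrictMono Q) (hQp : ∀ i, IsPGroup p (Q i)) (N : Subgroup G) (hN : ∀ g : G, g ∈ N ↔ ∀ i, g ∈ Subgroup.normalizer (Q i : Set G)) (E : Set (Cfsg.IrrCharacter N)) (hE : Cfsg.IsPBlock M E) (n : N) (hn : (n : G) ∉ Subgroup.centralizer (Q (Fin.last m) : Set G)) : Cfsg.blockCoeff E n = 0 := by
  classical
  haveI : Fintype N := Fintype.ofFinite N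
  have hp : p.Prime := Fact.out
  by_cases hsing : p ∣ orderOf n
  · exact helper20.blockCoeff_eq_zero_of_singular hM hE n hsing
  by_contra hne
  have hRp : IsPGroup p (Q (Fin.last m) ⊓ N : Subgroup G) := (hQp (Fin.last m)).to_le inf_le_left
  have hNR : N ≤ Subgroup.normalizer ((Q (Fin.last m) ⊓ N : Subgroup G) : Set G) := by
    intro g hg
    rw [Subgroup.mem_normalizer_iff]
    intro h
    have h1 := Subgroup.mem_normalizer_iff.1 ((hN g).1 hg (Fin.last m)) h
    have h2 : h ∈ N ↔ g * h * g⁻¹ ∈ N :=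
      ⟨fun hh => N.mul_mem (N.mul_mem hg hh) (N.inv_mem hg), fun hh => by
        have := N.mul_mem (N.mul_mem (N.inv_mem hg) hh) hg
        simpa [mul_assoc] using this⟩
    rw [Subgroup.mem_inf, Subgroup.mem_inf, h1, h2]
  have hcR : (n : G) ∈ Subgroup.centralizer ((Q (Fin.last m) ⊓ N : Subgroup G) : Set G) := by
    by_contra hc
    exact hne (helper80.blockCoeff_eq_zero_of_not_mem_centralizer hM _ N hRp inf_le_right hNR hE
      n hc)
  have hcR' : ∀ q ∈ (Q (Fin.last m) ⊓ N : Subgroup G), (n : G) * q = q * n := fun q hq =>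
    (Subgroup.mem_centralizer_iff.1 hcR q hq).symm
  have hcop : (orderOf (n : G)).Coprime p := by
    rw [Subgroup.orderOf_coe]
    exact ((Nat.Prime.coprime_iff_not_dvd hp).2 hsing).symm
  have hmono : Monotone Q := hQ.monotone
  have key : ∀ k : ℕ, ∀ hk : k < m + 1, ∀ q ∈ Q ⟨k, hk⟩, (n : G) * q = q * n := by
    intro k
    induction k with
    | zero =>
      intro hk q hq
      apply hcR' q
      refine ⟨hmono (Fin.le_last _) hq, (hN q).2 (fun i => ?_)⟩
      exact Subgroup.le_normalizer (hmono (Fin.mk_le_of_le_val (Nat.zero_le _)) hq)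
    | succ k ih =>
      intro hk
      have hk' : k < m + 1 := by omega
      apply helper54.thompson_AxB (Q ⟨k, hk'⟩) (hQp _) (n : G) hcop (ih hk') (Q ⟨k + 1, hk⟩)
        (hQp _)
      · exact (hmono (Fin.mk_le_mk.2 (Nat.le_succ k)) : Q ⟨k, hk'⟩ ≤ Q ⟨k + 1, hk⟩).trans
          Subgroup.le_normalizer
      · exact (hN n).1 n.2 _
      · intro q hq hcq
        apply hcR' q
        refine ⟨hmono (Fin.le_last _) hq, (hN q).2 (fun i => ?_)⟩
        by_cases hi : (i : ℕ) ≤ k
        · have hsub : Q i ≤ Q ⟨k, hk'⟩ := hmono (Fin.le_def.2 hi)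
          apply Subgroup.centralizer_le_normalizer
          rw [Subgroup.mem_centralizer_iff]
          intro h hh
          exact hcq h (hsub hh)
        · have hsub : Q ⟨k + 1, hk⟩ ≤ Q i := hmono (Fin.le_def.2 (by simp only; omega))
          exact Subgroup.le_normalizer (hsub hq)
  apply hn
  rw [Subgroup.mem_centralizer_iff]
  intro q hq
  exact (key m (Nat.lt_succ_self m) q hq).symm

end Cfsg.Agent.S4668
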