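import Cfsg.Statements.S4670
import Cfsg.Agent.Lib.helper80.FMTOver

set_option autoImplicit false
open Cfsg

namespace Cfsg.Agent.S4670

open Cfsg.Agent.Lib.helper80 Cfsg.Agent.Lib.helper20

/-- Fix a prime p and a maximal ideal M of the algebraic integers containing p. Let P be a p-subgroup of the finite group G and H a subgroup containing N_G(P). For every p-block B of G with defect group P there is exactly one p-block c of H with defect group P whose idempotent agrees with that of B, modulo the local ideal at M, at every element of C_G(P) (their Brauer-map images at P coincide); and every p-block c of H with defect group P arises in this way from exactly one such B. This is the Brauer correspondence over H. -/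
theorem result {G : Type*} [Group G] [Fintype G] (p : ℕ) [Fact p.Prime] (M : Ideal Cfsg.AlgInt) (hM : Cfsg.IsPModular p M) (P H : Subgroup G) (hP : IsPGroup p P) (hH : Subgroup.normalizer (P : Set G) ≤ H) : (∀ B : Set (Cfsg.IrrCharacter G), Cfsg.IsPBlock M B → Cfsg.IsDefectGroup p M B P → ∃! c : Set (Cfsg.IrrCharacter H), Cfsg.IsPBlock M c ∧ Cfsg.IsDefectGroup p M c (P.subgroupOf H) ∧ ∀ x : G, x ∈ Subgroup.centralizer (P : Set G) → Cfsg.MemLocalIdeal M (Cfsg.blockCoeff B x - Cfsg.subgroupBlockCoeff H c x)) ∧ (∀ c : Set (Cfsg.IrrCharacter H), Cfsg.IsPBlock M c → Cfsg.IsDefectGroup p M c (P.subgroupOf H) → ∃! B : Set (Cfsg.IrrCharacter G), Cfsg.IsPBlock M B ∧ Cfsg.IsDefectGroup p M B P ∧ ∀ x : G, x ∈ Subgroup.centralizer (P : Set G) → Cfsg.MemLocalIdeal M (Cfsg.blockCoeff B x - Cfsg.subgroupBlockCoeff H c x)) := by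
  classical
  have : Fintype H := Fintype.ofFinite H
  have hCH : Subgroup.centralizer (P : Set G) ≤ H :=
    le_trans (Subgroup.centralizer_le_normalizer _) hH
  constructor
  · intro B hB hDB
    obtain ⟨c, hc, hDc, hcong, huniq⟩ := fmt_over_down hM P H hP hH hB hDB
    refine ⟨c, ⟨hc, hDc, ?_⟩, ?_⟩
    · intro x hx
      rw [subgroupBlockCoeff_of_mem H c (hCH hx)]
      exact hcong x hx (hCH hx)
    · rintro c' ⟨hc', -, hcong'⟩
      apply huniq c' hc'
      intro x hx hxH
      have := hcong' x hx
      rwa [subgroupBlockCoeff_of_mem H c' hxH] at this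
  · intro c hc hDc
    obtain ⟨B, hB, hDB, hcong, huniq⟩ := fmt_over_up hM P H hP hH hc hDc
    refine ⟨B, ⟨hB, hDB, ?_⟩, ?_⟩
    · intro x hx
      rw [subgroupBlockCoeff_of_mem H c (hCH hx)]
      exact hcong x hx (hCH hx)
    · rintro B' ⟨hB', -, hcong'⟩
      apply huniq B' hB'
      intro x hx hxH
      have := hcong' x hx
      rwa [subgroupBlockCoeff_of_mem H c hxH] at this

end Cfsg.Agent.S4670
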