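-- Statement S4673: the stabilizer of a covered block meets a p-power overgroup in N.
import Cfsg.Statements.S4673
import Cfsg.Agent.Lib.helper81.PQuotStab
import Cfsg.Agent.Lib.helper77.Knorr

set_option autoImplicit false
open Cfsg

namespace Cfsg.Agent.S4673

open Cfsg.Agent.Lib

/-- Fix a prime p and a maximal ideal M of the algebraic integers containing p. Let N ≤ L be normal subgroups of the finite group G with L/N a p-group, let B be a p-block of G covering the p-block c of N (some member of B has a constituent in c on restriction to N), and suppose that N contains a defect group of B. Then the stabilizer T of c in G satisfies T ∩ L = N. -/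
theorem result {G : Type*} [Group G] [Fintype G] (p : ℕ) [Fact p.Prime] (M : Ideal Cfsg.AlgInt) (hM : Cfsg.IsPModular p M) (N L : Subgroup G) [N.Normal] [L.Normal] [Fintype N] (hNL : N ≤ L) (hLN : ∃ k : ℕ, (N.subgroupOf L).index = p ^ k) (B : Set (Cfsg.IrrCharacter G)) (hB : Cfsg.IsPBlock M B) (c : Set (Cfsg.IrrCharacter N)) (hc : Cfsg.IsPBlock M c) (hcov : (∃ χ ∈ B, ∃ θ ∈ c, Cfsg.classInner (fun n : N => (χ : G → ℂ) n) (θ : N → ℂ) ≠ 0)) (hD : ∃ D : Subgroup G, Cfsg.IsDefectGroup p M B D ∧ D ≤ N) (T : Subgroup G) (hT : ∀ x : G, x ∈ T ↔ Cfsg.StabilizesBlock N c x) : T ⊓ L = N := by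
  classical
  have : Fintype L := Fintype.ofFinite L
  have : Fintype (IrrCharacter L) := Fintype.ofFinite _
  have hMp := helper20.isPrime_of_isPModular hM
  obtain ⟨χ, hχ, θ, hθ, hχθ⟩ := hcov
  have hχcf := helper4.isClassFunction_of_isIrrCharacter χ.2
  have h3 := helper82.classInner_restrict_trans N L hNL hχcf (θ : N → ℂ)
  rw [h3] at hχθ
  obtain ⟨ψ, -, hψ⟩ := Finset.exists_ne_zero_of_sum_ne_zero hχθ
  have hψ1 : classInner (fun t : L => (χ : G → ℂ) t) (ψ : L → ℂ) ≠ 0 := left_ne_zero_of_mul hψ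
  have hψ2 : classInner (fun n : N => (ψ : L → ℂ) ⟨n, hNL n.2⟩) (θ : N → ℂ) ≠ 0 :=
    right_ne_zero_of_mul hψ
  obtain ⟨b, hbdef⟩ : ∃ b : Set (IrrCharacter L), b = blockOf M (ψ : L → ℂ) := ⟨_, rfl⟩
  have hb : IsPBlock M b := by
    rw [hbdef]
    exact helper80.isPBlock_blockOf M ψ
  have hψb : ψ ∈ b := by
    rw [hbdef]
    exact helper80.mem_blockOf_self hMp ψ
  obtain ⟨Q₀, hQ₀⟩ := helper80.exists_isDefectGroup p hMp hb
  have hQ' : IsDefectGroup p M b ((Q₀.map L.subtype).subgroupOf L) := by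
    have e1 : (Q₀.map L.subtype).subgroupOf L = Q₀ :=
      Subgroup.comap_map_eq_self_of_injective (Subgroup.subtype_injective L) Q₀
    rw [e1]
    exact hQ₀
  obtain ⟨P, hP, hPL⟩ := helper77.knorr L hM hb (Q₀.map L.subtype)
    (by
      rintro _ ⟨q, -, rfl⟩
      exact q.2) hQ' hB ⟨χ, hχ, ψ, hψb, hψ1⟩
  obtain ⟨D, hD, hDN⟩ := hD
  have hPN : P ≤ N := by
    have hPp := helper80.IsDefectGroup.isPGroup hP
    obtain ⟨g, hg, Ps, hPs⟩ := hP
    have hgc : g ∈ Subgroup.centralizer (P : Set G) := by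
      rw [Subgroup.mem_centralizer_iff]
      intro h hh
      rw [hPs] at hh
      obtain ⟨z, -, rfl⟩ := hh
      have hz := z.2
      rw [Subgroup.mem_centralizer_singleton_iff] at hz
      exact hz
    obtain ⟨x, hx⟩ := helper80.IsDefectGroup.exists_conj_mem hM hB hD P hPp g hgc hg.2.1
    intro q hq
    have h1 : x⁻¹ * q * x ∈ N := hDN (hx q hq)
    have h2 := (inferInstance : N.Normal).conj_mem _ h1 x
    have e : x * (x⁻¹ * q * x) * x⁻¹ = q := by group
    rwa [e] at h2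
  have hQN : Q₀ ≤ N.subgroupOf L := by
    intro q hq
    rw [Subgroup.mem_subgroupOf]
    have h1 : (q : G) ∈ P ⊓ L := by
      rw [hPL]
      exact ⟨q, hq, rfl⟩
    exact hPN h1.1
  have hS : ∀ s ∈ T, ∀ θ ∈ c, helper77.cjIrr N s θ ∈ c := by
    intro s hs θ' hθ'
    obtain ⟨hg, h⟩ := (hT s).mp hs
    obtain ⟨θ'', hθ'', hconj⟩ := h θ' hθ'
    have h1 := helper80.eq_conjIrr_of_isConjCharOf N s hg hconj
    rw [helper77.cjIrr_eq_conjIrr, ← h1]
    exact hθ''
  have hle := helper81.le_of_stab_of_defect_le N L hM hNL hLN hb hc ⟨ψ, hψb, θ, hθ, hψ2⟩ hQ₀ hQN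
    T hS
  apply le_antisymm hle
  intro n hn
  refine ⟨(hT n).mpr ⟨helper77.mem_normalizer_of_normal N n, ?_⟩, hNL hn⟩
  intro θ' hθ'
  refine ⟨θ', hθ', ?_⟩
  intro k k' hk
  have h1 := helper4.isClassFunction_of_isIrrCharacter θ'.2 k ⟨n, hn⟩
  rw [← h1]
  exact congrArg (θ' : N → ℂ) (Subtype.ext hk)

end Cfsg.Agent.S4673
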