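import Cfsg.Statements.S4675
import Cfsg.Agent.Lib.helper79.Contrib
import Cfsg.Agent.Lib.helper79.DefectDeg
import Cfsg.Agent.Lib.helper78.KLCount
-- import your own Cfsg.Agent.* helpers here

set_option autoImplicit false
open Cfsg

namespace Cfsg.Agent.S4675

open Cfsg.Agent.Lib.helper79 in
/-- Fix a prime p and a maximal ideal M of the algebraic integers containing p. Let B be a p-block of the finite group G with defect group P and p-regular rank one (a single irreducible Brauer character). Then there are a function φ on G that is, on the p-regular elements, an integer combination of the members of B, and natural numbers d_χ (χ ∈ B), such that every χ ∈ B agrees with d_χ·φ on the p-regular elements and Σ_{χ ∈ B} d_χ² equals the order of P (the single Cartan invariant of B is the order of P). -/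
theorem result {G : Type*} [Group G] [Fintype G] (p : ℕ) [Fact p.Prime] (M : Ideal Cfsg.AlgInt) (hM : Cfsg.IsPModular p M) (B : Set (Cfsg.IrrCharacter G)) (hB : Cfsg.IsPBlock M B) (P : Subgroup G) (hP : Cfsg.IsDefectGroup p M B P) (hl : Cfsg.blockRank p B = 1) : ∃ φ : G → ℂ, ∃ d : Cfsg.IrrCharacter G → ℕ, (∃ n : Cfsg.IrrCharacter G → ℤ, ∀ x : G, Cfsg.IsPRegular p x → φ x = ∑ᶠ ψ ∈ B, (n ψ : ℂ) * (ψ : G → ℂ) x) ∧ (∀ χ ∈ B, ∀ x : G, Cfsg.IsPRegular p x → (χ : G → ℂ) x = (d χ : ℂ) * φ x) ∧ ∑ᶠ χ ∈ B, d χ ^ 2 = Nat.card P := by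
  classical
  have hp : p.Prime := Fact.out
  have hcard := card_eq_of_isDefectGroup hM hB hP
  obtain ⟨χ₀, hχ₀, h0⟩ := exists_height_zero (p := p) hM hB
  have hG0 : (Nat.card G : ℂ) ≠ 0 := Nat.cast_ne_zero.mpr Nat.card_pos.ne'
  have hdeg : ∀ χ : IrrCharacter G, (χ : G → ℂ) 1 = (charDegree (χ : G → ℂ) : ℂ) :=
    fun χ => Cfsg.Agent.Lib.helper82.irr_one_eq χ
  have hdegpos : ∀ χ : IrrCharacter G, 0 < charDegree (χ : G → ℂ) :=
    fun χ => Cfsg.Agent.Lib.helper82.irr_charDegree_pos χ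
  have hχ₀1 : (χ₀ : G → ℂ) 1 ≠ 0 := by
    rw [hdeg]; exact Nat.cast_ne_zero.mpr (hdegpos χ₀).ne'
  have hreg1 : ¬ p ∣ orderOf (1 : G) := by
    rw [orderOf_one]; exact hp.one_lt.ne' ∘ Nat.dvd_one.mp
  -- rank one: all `χ°` are proportional to `χ₀°`
  have hrank : ∀ χ ∈ B, ∀ x : G, ¬ p ∣ orderOf x →
      (χ : G → ℂ) x * (χ₀ : G → ℂ) 1 = (χ : G → ℂ) 1 * (χ₀ : G → ℂ) x := by
    intro χ hχ x hx
    have hfin : Module.finrank ℂ (Cfsg.Agent.Lib.helper78.regSpan p B) = 1 := hl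
    let v₀ : Cfsg.Agent.Lib.helper78.regSpan p B :=
      ⟨pRegularPart p (χ₀ : G → ℂ), Cfsg.Agent.Lib.helper78.pRegularPart_mem_regSpan p hχ₀⟩
    have hv₀ : v₀ ≠ 0 := by
      intro h
      have h1 := congrArg (fun v : Cfsg.Agent.Lib.helper78.regSpan p B => (v : G → ℂ) 1) h
      simp only [v₀, ZeroMemClass.coe_zero, Pi.zero_apply] at h1
      rw [Cfsg.Agent.Lib.helper78.pRegularPart_apply_of_reg p _ hreg1] at h1
      exact hχ₀1 h1
    obtain ⟨c, hc⟩ := (finrank_eq_one_iff_of_nonzero' v₀ hv₀).mp hfin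
      ⟨pRegularPart p (χ : G → ℂ), Cfsg.Agent.Lib.helper78.pRegularPart_mem_regSpan p hχ⟩
    have hc' : ∀ y : G, c * pRegularPart p (χ₀ : G → ℂ) y = pRegularPart p (χ : G → ℂ) y := by
      intro y
      have := congrArg (fun v : Cfsg.Agent.Lib.helper78.regSpan p B => (v : G → ℂ) y) hc
      simpa [v₀] using this
    have h1 := hc' 1
    have hx' := hc' x
    rw [Cfsg.Agent.Lib.helper78.pRegularPart_apply_of_reg p _ hreg1,
      Cfsg.Agent.Lib.helper78.pRegularPart_apply_of_reg p _ hreg1] at h1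
    rw [Cfsg.Agent.Lib.helper78.pRegularPart_apply_of_reg p _ hx,
      Cfsg.Agent.Lib.helper78.pRegularPart_apply_of_reg p _ hx] at hx'
    rw [← h1, ← hx']
    ring
  -- the gcd of the degrees
  obtain ⟨n, hn⟩ := Finset.gcd_eq_sum_mul B.toFinset
    (fun χ : IrrCharacter G => (charDegree (χ : G → ℂ) : ℤ))
  set γ : ℤ := B.toFinset.gcd (fun χ : IrrCharacter G => (charDegree (χ : G → ℂ) : ℤ)) with hγ
  have hγdvd : ∀ χ ∈ B, γ ∣ (charDegree (χ : G → ℂ) : ℤ) := fun χ hχ =>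
    Finset.gcd_dvd (Set.mem_toFinset.mpr hχ)
  have hγ0 : γ ≠ 0 := by
    intro h
    have := hγdvd χ₀ hχ₀
    rw [h, zero_dvd_iff] at this
    exact (hdegpos χ₀).ne' (by exact_mod_cast this)
  have hg0 : γ.natAbs ≠ 0 := Int.natAbs_ne_zero.mpr hγ0
  have hgdvd : ∀ χ ∈ B, γ.natAbs ∣ charDegree (χ : G → ℂ) := by
    intro χ hχ
    have := Int.natAbs_dvd_natAbs.mpr (hγdvd χ hχ)
    simpa using this
  -- Bezout with the natural generator
  obtain ⟨n', hn'⟩ : ∃ n' : IrrCharacter G → ℤ, (γ.natAbs : ℤ) =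
      ∑ χ ∈ B.toFinset, (charDegree (χ : G → ℂ) : ℤ) * n' χ := by
    rcases Int.natAbs_eq γ with h | h
    · exact ⟨n, by rw [← h]; exact hn⟩
    · refine ⟨fun χ => - n χ, ?_⟩
      have : (γ.natAbs : ℤ) = -γ := by omega
      rw [this, hn, ← Finset.sum_neg_distrib]
      exact Finset.sum_congr rfl (fun χ _ => by ring)
  set g : ℕ := γ.natAbs with hgdef
  have hgc : (g : ℂ) ≠ 0 := Nat.cast_ne_zero.mpr hg0
  have hn'c : (g : ℂ) = ∑ χ ∈ B.toFinset, (χ : G → ℂ) 1 * (n' χ : ℂ) := by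
    have := congrArg (fun z : ℤ => (z : ℂ)) hn'
    simp only [Int.cast_natCast, Int.cast_sum, Int.cast_mul] at this
    rw [this]
    exact Finset.sum_congr rfl (fun χ _ => by rw [hdeg])
  -- the numbers `d χ`
  let d : IrrCharacter G → ℕ := fun χ => charDegree (χ : G → ℂ) / g
  have hd : ∀ χ ∈ B, charDegree (χ : G → ℂ) = g * d χ := fun χ hχ =>
    (Nat.mul_div_cancel' (hgdvd χ hχ)).symm
  have hdc : ∀ χ ∈ B, (χ : G → ℂ) 1 = (g : ℂ) * (d χ : ℂ) := by
    intro χ hχ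
    rw [hdeg, hd χ hχ]; push_cast; ring
  have hd0 : ∀ χ ∈ B, d χ ≠ 0 := by
    intro χ hχ h
    have := hd χ hχ
    rw [h, mul_zero] at this
    exact (hdegpos χ).ne' this
  refine ⟨fun x => (g : ℂ) / (χ₀ : G → ℂ) 1 * (χ₀ : G → ℂ) x, d, ⟨n', ?_⟩, ?_, ?_⟩
  · intro x hx
    rw [finsum_mem_eq_toFinset_sum]
    have h1 : ∀ ψ ∈ B.toFinset, (n' ψ : ℂ) * (ψ : G → ℂ) x =
        (ψ : G → ℂ) 1 * (n' ψ : ℂ) * ((χ₀ : G → ℂ) x / (χ₀ : G → ℂ) 1) := by
      intro ψ hψ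
      have := hrank ψ (Set.mem_toFinset.mp hψ) x hx
      field_simp
      linear_combination (n' ψ : ℂ) * this
    rw [Finset.sum_congr rfl h1, ← Finset.sum_mul, ← hn'c]
    ring
  · intro χ hχ x hx
    have := hrank χ hχ x hx
    rw [hdc χ hχ] at this
    show (χ : G → ℂ) x = (d χ : ℂ) * ((g : ℂ) / (χ₀ : G → ℂ) 1 * (χ₀ : G → ℂ) x)
    field_simp
    linear_combination this
  · rw [finsum_mem_eq_toFinset_sum, hcard]
    set D := blockDefect p B with hD
    set m₀ : ℤ := contrib p B χ₀ χ₀ with hm₀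
    have hm₀pos : 0 < m₀ := contrib_self_pos hM hB hχ₀
    -- contributions are proportional to `d χ * d ψ`
    have hprop : ∀ χ ∈ B, ∀ ψ ∈ B,
        contrib p B χ ψ * (d χ₀ : ℤ) ^ 2 = (d χ : ℤ) * (d ψ : ℤ) * m₀ := by
      intro χ hχ ψ hψ
      have h1 := contrib_spec hM hB hχ ψ
      have h2 := contrib_spec hM hB hχ₀ χ₀
      have h3 : regInner p (χ : G → ℂ) (ψ : G → ℂ) * (χ₀ : G → ℂ) 1 ^ 2 =
          (χ : G → ℂ) 1 * (ψ : G → ℂ) 1 * regInner p (χ₀ : G → ℂ) (χ₀ : G → ℂ) := by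
        unfold regInner
        rw [Finset.sum_mul, Finset.mul_sum]
        apply Finset.sum_congr rfl
        intro x _
        by_cases hx : p ∣ orderOf x
        · rw [Cfsg.Agent.Lib.helper78.pRegularPart_apply_of_sing p _ hx,
            Cfsg.Agent.Lib.helper78.pRegularPart_apply_of_sing p _ hx]
          ring
        · rw [Cfsg.Agent.Lib.helper78.pRegularPart_apply_of_reg p _ hx,
            Cfsg.Agent.Lib.helper78.pRegularPart_apply_of_reg p _ hx]
          have e1 := hrank χ hχ x hx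
          have e2 := congrArg (starRingEnd ℂ) (hrank ψ hψ x hx)
          rw [map_mul, map_mul, hdeg χ₀, hdeg ψ, Complex.conj_natCast, Complex.conj_natCast] at e2
          rw [hdeg χ₀] at e1 ⊢
          rw [hdeg ψ]
          linear_combination (starRingEnd ℂ) ((ψ : G → ℂ) x) * (charDegree (χ₀ : G → ℂ) : ℂ) * e1 +
            (χ : G → ℂ) 1 * (χ₀ : G → ℂ) x * e2
      have h4 : ((contrib p B χ ψ * (d χ₀ : ℤ) ^ 2 : ℤ) : ℂ) * ((g : ℂ) ^ 2 * (Nat.card G : ℂ)) =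
          (((d χ : ℤ) * (d ψ : ℤ) * m₀ : ℤ) : ℂ) * ((g : ℂ) ^ 2 * (Nat.card G : ℂ)) := by
        have hA : (contrib p B χ ψ : ℂ) * (Nat.card G : ℂ) * (χ₀ : G → ℂ) 1 ^ 2 =
            (χ : G → ℂ) 1 * (ψ : G → ℂ) 1 * ((m₀ : ℂ) * (Nat.card G : ℂ)) := by
          rw [h1, h2, mul_assoc, h3]
          ring
        rw [hdc χ₀ hχ₀, hdc χ hχ, hdc ψ hψ] at hA
        push_cast
        linear_combination hA
      have h5 := mul_right_cancel₀ (mul_ne_zero (pow_ne_zero 2 hgc) hG0) h4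
      exact_mod_cast h5
    set c : ℕ := ∑ χ ∈ B.toFinset, d χ ^ 2 with hc
    -- `c * m₀ = d₀² p^D`
    have hsq := contrib_sum_sq hM hB hχ₀
    have hsub : ∑ ψ ∈ B.toFinset, contrib p B χ₀ ψ ^ 2 =
        ∑ ψ : IrrCharacter G, contrib p B χ₀ ψ ^ 2 := by
      apply Finset.sum_subset (Finset.subset_univ _)
      intro ψ _ hψ
      have hψ' : ψ ∉ B := fun h => hψ (Set.mem_toFinset.mpr h)
      rw [contrib_eq_zero hM hB hχ₀ hψ']
      simp
    rw [← hsub] at hsq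
    have hd₀ : (d χ₀ : ℤ) ≠ 0 := by exact_mod_cast hd0 χ₀ hχ₀
    have hcm : (c : ℤ) * m₀ = (d χ₀ : ℤ) ^ 2 * (p : ℤ) ^ D := by
      have h1 : ∀ ψ ∈ B.toFinset, contrib p B χ₀ ψ ^ 2 * (d χ₀ : ℤ) ^ 2 = (d ψ : ℤ) ^ 2 * m₀ ^ 2 := by
        intro ψ hψ
        have e := hprop χ₀ hχ₀ ψ (Set.mem_toFinset.mp hψ)
        have e' : contrib p B χ₀ ψ * (d χ₀ : ℤ) = (d ψ : ℤ) * m₀ := by
          apply mul_right_cancel₀ hd₀
          linear_combination e
        rw [← mul_pow, e', mul_pow]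
      have h2 : (c : ℤ) * m₀ ^ 2 = (p : ℤ) ^ D * m₀ * (d χ₀ : ℤ) ^ 2 := by
        rw [← hsq, Finset.sum_mul, Finset.sum_congr rfl h1, ← Finset.sum_mul, hc]
        push_cast
        ring
      apply mul_right_cancel₀ hm₀pos.ne'
      linear_combination h2
    -- `c * contrib χ ψ = p^D d_χ d_ψ`
    have hcc : ∀ χ ∈ B, ∀ ψ ∈ B, (c : ℤ) * contrib p B χ ψ = (p : ℤ) ^ D * (d χ : ℤ) * (d ψ : ℤ) := by
      intro χ hχ ψ hψ
      apply mul_right_cancel₀ (pow_ne_zero 2 hd₀)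
      have e := hprop χ hχ ψ hψ
      linear_combination (c : ℤ) * e + (d χ : ℤ) * (d ψ : ℤ) * hcm
    -- Bezout for the `d χ`
    have hbez : ∑ χ ∈ B.toFinset, (d χ : ℤ) * n' χ = 1 := by
      have h1 : (g : ℤ) * ∑ χ ∈ B.toFinset, (d χ : ℤ) * n' χ = (g : ℤ) * 1 := by
        have h2 : (g : ℤ) * ∑ χ ∈ B.toFinset, (d χ : ℤ) * n' χ =
            ∑ χ ∈ B.toFinset, (charDegree (χ : G → ℂ) : ℤ) * n' χ := by
          rw [Finset.mul_sum]
          apply Finset.sum_congr rfl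
          intro χ hχ
          have e : (charDegree (χ : G → ℂ) : ℤ) = (g : ℤ) * (d χ : ℤ) := by
            exact_mod_cast hd χ (Set.mem_toFinset.mp hχ)
          rw [e]
          ring
        rw [h2, ← hn', mul_one]
      exact mul_left_cancel₀ (by exact_mod_cast hg0) h1
    have hdvd : (c : ℤ) ∣ (p : ℤ) ^ D := by
      have h1 : (c : ℤ) * ∑ χ ∈ B.toFinset, ∑ ψ ∈ B.toFinset, n' χ * n' ψ * contrib p B χ ψ =
          (p : ℤ) ^ D := by
        have h2 : ∀ χ ∈ B.toFinset, ∀ ψ ∈ B.toFinset,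
            (c : ℤ) * (n' χ * n' ψ * contrib p B χ ψ) =
              (p : ℤ) ^ D * ((d χ : ℤ) * n' χ) * ((d ψ : ℤ) * n' ψ) := by
          intro χ hχ ψ hψ
          have e := hcc χ (Set.mem_toFinset.mp hχ) ψ (Set.mem_toFinset.mp hψ)
          linear_combination n' χ * n' ψ * e
        rw [Finset.mul_sum]
        have h3 : ∀ χ ∈ B.toFinset, (c : ℤ) * ∑ ψ ∈ B.toFinset, n' χ * n' ψ * contrib p B χ ψ =
            (p : ℤ) ^ D * ((d χ : ℤ) * n' χ) * ∑ ψ ∈ B.toFinset, (d ψ : ℤ) * n' ψ := by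
          intro χ hχ
          rw [Finset.mul_sum, Finset.mul_sum]
          exact Finset.sum_congr rfl (fun ψ hψ => h2 χ hχ ψ hψ)
        rw [Finset.sum_congr rfl h3, hbez]
        simp only [mul_one]
        rw [← Finset.mul_sum, hbez, mul_one]
      exact Dvd.intro _ h1
    have hdvdN : c ∣ p ^ D := by exact_mod_cast hdvd
    have hndvd : ¬ (p : ℤ) ∣ m₀ := by
      have := not_dvd_of_height_zero hM hB hχ₀ h0 hχ₀
      rw [h0] at this
      simpa using this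
    have hdvd2 : (p : ℤ) ^ D ∣ (c : ℤ) := by
      have hcop : IsCoprime ((p : ℤ) ^ D) m₀ :=
        IsCoprime.pow_left ((Nat.prime_iff_prime_int.mp hp).coprime_iff_not_dvd.mpr hndvd)
      exact hcop.dvd_of_dvd_mul_right (Dvd.intro_left _ hcm.symm)
    have hdvd2N : p ^ D ∣ c := by exact_mod_cast hdvd2
    exact Nat.dvd_antisymm hdvdN hdvd2N

end Cfsg.Agent.S4675
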