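import Cfsg.Statements.S4676
import Cfsg.Agent.Lib.helper79.Contrib
import Cfsg.Agent.Lib.helper79.DefectDeg
-- import your own Cfsg.Agent.* helpers here

set_option autoImplicit false
open Cfsg

namespace Cfsg.Agent.S4676

/-- An integer divisible by `p ^ h` and nonzero has square at least `p ^ (2 h)`. -/
theorem sq_ge_of_dvd (p h : ℕ) (m : ℤ) (hdvd : ((p ^ h : ℕ) : ℤ) ∣ m) (hm : m ≠ 0) :
    ((p ^ (2 * h) : ℕ) : ℤ) ≤ m ^ 2 := by
  have h1 : p ^ h ∣ m.natAbs := by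
    have := Int.natAbs_dvd_natAbs.mpr hdvd
    simpa using this
  have h2 : p ^ h ≤ m.natAbs := Nat.le_of_dvd (Int.natAbs_pos.mpr hm) h1
  have h3 : (p ^ h) ^ 2 ≤ m.natAbs ^ 2 := Nat.pow_le_pow_left h2 2
  have h4 : ((m.natAbs ^ 2 : ℕ) : ℤ) = m ^ 2 := by
    rw [Nat.cast_pow]
    exact Int.natAbs_sq m
  rw [← h4, mul_comm, pow_mul]
  exact_mod_cast h3

/-- Fix a prime p and a maximal ideal M of the algebraic integers containing p. Let B be a p-block of the finite group G with defect group P. For χ in B, let the height of χ be the exponent of p in the degree of χ minus the least such exponent over the members of B. Then the sum over χ in B of p raised to twice the height of χ is at most the integer part of (order of P)²/4, plus 1; in particular B has at most that many irreducible characters. -/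
theorem result {G : Type*} [Group G] [Fintype G] (p : ℕ) [Fact p.Prime] (M : Ideal Cfsg.AlgInt) (hM : Cfsg.IsPModular p M) (B : Set (Cfsg.IrrCharacter G)) (hB : Cfsg.IsPBlock M B) (P : Subgroup G) (hP : Cfsg.IsDefectGroup p M B P) : ∑ᶠ χ ∈ B, p ^ (2 * Cfsg.blockHeight p B (χ : G → ℂ)) ≤ Nat.card P ^ 2 / 4 + 1 := by
  classical
  have hcard := Cfsg.Agent.Lib.helper79.card_eq_of_isDefectGroup hM hB hP
  rw [hcard]
  obtain ⟨χ₀, hχ₀, h0⟩ := Cfsg.Agent.Lib.helper79.exists_height_zero (p := p) hM hB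
  rw [finsum_mem_eq_toFinset_sum]
  have hmem : χ₀ ∈ B.toFinset := Set.mem_toFinset.mpr hχ₀
  rw [← Finset.add_sum_erase _ _ hmem, h0]
  -- the contributions of the row of `χ₀`
  have hsq := Cfsg.Agent.Lib.helper79.contrib_sum_sq hM hB hχ₀
  have hpos := Cfsg.Agent.Lib.helper79.contrib_self_pos hM hB hχ₀
  have hle := Cfsg.Agent.Lib.helper79.contrib_self_le hM hB hχ₀
  -- restrict the sum of squares to the block
  have hsub : ∑ ψ ∈ B.toFinset, Cfsg.Agent.Lib.helper79.contrib p B χ₀ ψ ^ 2 =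
      ∑ ψ : IrrCharacter G, Cfsg.Agent.Lib.helper79.contrib p B χ₀ ψ ^ 2 := by
    apply Finset.sum_subset (Finset.subset_univ _)
    intro ψ _ hψ
    have hψ' : ψ ∉ B := fun h => hψ (Set.mem_toFinset.mpr h)
    rw [Cfsg.Agent.Lib.helper79.contrib_eq_zero hM hB hχ₀ hψ']
    simp
  rw [← hsub, ← Finset.add_sum_erase _ _ hmem] at hsq
  have hterm : ∀ ψ ∈ B.toFinset.erase χ₀,
      ((p ^ (2 * blockHeight p B (ψ : G → ℂ)) : ℕ) : ℤ) ≤
        Cfsg.Agent.Lib.helper79.contrib p B χ₀ ψ ^ 2 := by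
    intro ψ hψ
    have hψB : ψ ∈ B := Set.mem_toFinset.mp (Finset.mem_of_mem_erase hψ)
    exact sq_ge_of_dvd p _ _
      (Cfsg.Agent.Lib.helper79.pow_height_dvd_contrib hM hB hχ₀ hψB)
      (Cfsg.Agent.Lib.helper79.contrib_ne_zero_of_height_zero hM hB hχ₀ h0 hψB)
  have hsum : ((∑ ψ ∈ B.toFinset.erase χ₀, p ^ (2 * blockHeight p B (ψ : G → ℂ)) : ℕ) : ℤ) ≤
      ∑ ψ ∈ B.toFinset.erase χ₀, Cfsg.Agent.Lib.helper79.contrib p B χ₀ ψ ^ 2 := by
    rw [Nat.cast_sum]
    exact Finset.sum_le_sum hterm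
  have h4 : 4 * (∑ ψ ∈ B.toFinset.erase χ₀, p ^ (2 * blockHeight p B (ψ : G → ℂ))) ≤
      (p ^ blockDefect p B) ^ 2 := by
    have : (4 : ℤ) * ((∑ ψ ∈ B.toFinset.erase χ₀, p ^ (2 * blockHeight p B (ψ : G → ℂ)) : ℕ) : ℤ) ≤
        ((p : ℤ) ^ blockDefect p B) ^ 2 := by
      nlinarith [sq_nonneg ((p : ℤ) ^ blockDefect p B -
        2 * Cfsg.Agent.Lib.helper79.contrib p B χ₀ χ₀)]
    exact_mod_cast this
  have h5 : (∑ ψ ∈ B.toFinset.erase χ₀, p ^ (2 * blockHeight p B (ψ : G → ℂ))) ≤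
      (p ^ blockDefect p B) ^ 2 / 4 := by
    rw [Nat.le_div_iff_mul_le (by norm_num)]
    omega
  simp only [Nat.mul_zero, pow_zero]
  omega

end Cfsg.Agent.S4676
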