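import Cfsg.Statements.S4682
import Cfsg.Agent.Lib.helper80.AbelFusion

set_option autoImplicit false
open Cfsg

namespace Cfsg.Agent.S4682

/-- Fix a prime p and a maximal ideal M of the algebraic integers containing p, a p-block B of the finite group G with maximal Brauer pair (P, e), P abelian, and a Brauer pair (Q, f) ≤ (P, e). Let T_Q be the stabilizer of f in N_G(Q) and T_P the stabilizer of e in N_G(P). Then every element of T_Q is a product of an element of T_P and an element of C_G(Q); and the index of C_G(Q) in T_Q equals the index of T_P ∩ C_G(Q) in T_P ∩ N_G(Q). -/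
theorem result {G : Type*} [Group G] [Fintype G] (p : ℕ) [Fact p.Prime] (M : Ideal Cfsg.AlgInt) (hM : Cfsg.IsPModular p M) (B : Set (Cfsg.IrrCharacter G)) (P : Subgroup G) (e : Set (Cfsg.IrrCharacter (Subgroup.centralizer (P : Set G)))) (hmax : Cfsg.IsMaximalBrauerPair p M B P e) (hab : ∀ x ∈ P, ∀ y ∈ P, x * y = y * x) (Q : Subgroup G) (f : Set (Cfsg.IrrCharacter (Subgroup.centralizer (Q : Set G)))) (hQP : Q ≤ P) (hf : Cfsg.IsPBlock M f) (hle : Cfsg.SubpairLE p M Q f P e) (TQ : Subgroup G) (hTQ : ∀ y : G, y ∈ TQ ↔ y ∈ Subgroup.normalizer (Q : Set G) ∧ Cfsg.StabilizesBlock (Subgroup.centralizer (Q : Set G)) f y) (TP : Subgroup G) (hTP : ∀ y : G, y ∈ TP ↔ y ∈ Subgroup.normalizer (P : Set G) ∧ Cfsg.StabilizesBlock (Subgroup.centralizer (P : Set G)) e y) : (∀ x ∈ TQ, ∃ y ∈ TP, ∃ c ∈ Subgroup.centralizer (Q : Set G), x = y * c) ∧ ((Subgroup.centralizer (Q : Set G)).subgroupOf TQ).index = ((TP ⊓ Subgroup.centralizer (Q : Set G)).subgroupOf (TP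 ⊓ Subgroup.normalizer (Q : Set G))).index := by
  classical
  have hPe : IsBrauerPair p M P e := hmax.1.1
  have hQ : IsPGroup p Q := hPe.1.to_le hQP
  have hPC : P ≤ Subgroup.centralizer (Q : Set G) := by
    intro u hu
    rw [Subgroup.mem_centralizer_iff]
    intro q hq
    exact hab q (hQP hq) u hu
  have hPN : P ≤ Subgroup.normalizer (Q : Set G) :=
    hPC.trans (Subgroup.centralizer_le_normalizer _)
  have hns := Cfsg.Agent.Lib.helper80.normalSubpair_of_subpairLE hM ⟨Q, f⟩ ⟨P, e⟩ hle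
    ⟨hQ, hf⟩ hPN
  have h1 : ∀ x ∈ TQ, ∃ y ∈ TP, ∃ c ∈ Subgroup.centralizer (Q : Set G), x = y * c := by
    intro x hx
    obtain ⟨y, hyN, hyS, c, hc, hxy⟩ := Cfsg.Agent.Lib.helper80.exists_mul_of_abelian hM hmax
      hab hQP hf hle ((hTQ x).mp hx).1 ((hTQ x).mp hx).2
    exact ⟨y, (hTP y).mpr ⟨hyN, hyS⟩, c, hc, hxy⟩
  refine ⟨h1, ?_⟩
  apply Cfsg.Agent.Lib.helper80.index_centralizer_eq_of_mul Q TQ TP
  · intro y hy
    exact (hTQ y).mpr ⟨Subgroup.centralizer_le_normalizer _ hy,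
      Cfsg.Agent.Lib.helper80.stabilizesBlock_of_mem_sup_centralizer Q f
        (Subgroup.mem_sup_right hy)⟩
  · intro y hy
    exact ((hTQ y).mp hy).1
  · intro y hy
    have hyTP := (hTP y).mp hy.1
    exact (hTQ y).mpr ⟨hy.2,
      Cfsg.Agent.Lib.helper80.stabilizesBlock_of_normalSubpair hM hns hyTP.1 hyTP.2 hy.2⟩
  · exact h1

end Cfsg.Agent.S4682
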