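import Cfsg.Statements.S4683
import Cfsg.Agent.Lib.helper79.Subsection
import Cfsg.Agent.Lib.helper80.InducedBr
import Cfsg.Agent.Lib.helper80.Cover
-- import your own Cfsg.Agent.* helpers here

set_option autoImplicit false
open Cfsg
open scoped ComplexConjugate

namespace Cfsg.Agent.S4683

open Cfsg.Agent.Lib

/-- A Brauer pair `(⟨u⟩, e)` of `B` gives `e^G = B`. -/
theorem isInducedBlock_of_isBrauerPairOf {G : Type*} [Group G] [Fintype G] (p : ℕ) [Fact p.Prime]
    (M : Ideal AlgInt) (hM : IsPModular p M) (B : Set (IrrCharacter G)) (u : G)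
    (e : Set (IrrCharacter (Subgroup.centralizer (Subgroup.zpowers u : Set G))))
    (hBe : IsBrauerPairOf p M B (Subgroup.zpowers u) e) :
    IsInducedBlock M (Subgroup.centralizer (Subgroup.zpowers u : Set G)) e B := by
  classical
  have hprime : M.IsPrime := helper20.isPrime_of_isPModular hM
  have : Fintype (Subgroup.centralizer (Subgroup.zpowers u : Set G)) := Fintype.ofFinite _
  have hPH : Subgroup.zpowers u ≤ Subgroup.centralizer (Subgroup.zpowers u : Set G) := by
    intro x hx
    rw [Subgroup.mem_centralizer_iff]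
    intro y hy
    obtain ⟨i, rfl⟩ := Subgroup.mem_zpowers_iff.mp hx
    obtain ⟨j, rfl⟩ := Subgroup.mem_zpowers_iff.mp hy
    exact (Commute.zpow_zpow_self u j i).eq
  rw [helper80.isInducedBlock_iff_brInd hM (Subgroup.zpowers u) _ hBe.1.1 hPH le_rfl
    (Subgroup.centralizer_le_normalizer _) hBe.1.2 hBe.2.1]
  intro ξ hξ χ hχ
  obtain ⟨χ₁, hχ₁, hbr⟩ := helper80.exists_brInd_of_isBrauerPairOf hM (Subgroup.zpowers u) hBe hξ
  exact helper80.BrInd.congr_right hprime hbr (helper81.sameBlock_of_mem hprime hBe.2.1 hχ₁ hχ)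

/-- Fix a prime p and a maximal ideal M of the algebraic integers containing p, a p-block B of the finite group G, a p-element u and a p-block e of C = C_G(u) such that (⟨u⟩, e) is a Brauer pair of B (a Brauer element of B). For χ ∈ B let χ_u be the e-part of the class function c ↦ χ(u c) on C and χ_u' the e-part of c ↦ χ(u⁻¹ c). Then the sum over χ ∈ B and over the p-regular elements s of C of χ_u(s)·χ_u'(s⁻¹) equals the order of C times the p-regular rank of e (the number of irreducible Brauer characters of e). -/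
theorem result {G : Type*} [Group G] [Fintype G] (p : ℕ) [Fact p.Prime] (M : Ideal Cfsg.AlgInt) (hM : Cfsg.IsPModular p M) (B : Set (Cfsg.IrrCharacter G)) (u : G) (hu : ∃ k : ℕ, orderOf u = p ^ k) (e : Set (Cfsg.IrrCharacter (Subgroup.centralizer (Subgroup.zpowers u : Set G)))) (hBe : Cfsg.IsBrauerPairOf p M B (Subgroup.zpowers u) e) : ∑ᶠ χ ∈ B, ∑ᶠ s : Subgroup.centralizer (Subgroup.zpowers u : Set G), Cfsg.pRegularPart p (Cfsg.blockPart e (fun c : Subgroup.centralizer (Subgroup.zpowers u : Set G) => (χ : G → ℂ) (u * c))) s * Cfsg.blockPart e (fun c : Subgroup.centralizer (Subgroup.zpowers u : Set G) => (χ : G → ℂ) (u⁻¹ * c)) s⁻¹ = (Nat.card (Subgroup.centralizer (Subgroup.zpowers u : Set G)) : ℂ) * (Cfsg.blockRank p e : ℂ) := by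
  classical
  have hind := isInducedBlock_of_isBrauerPairOf p M hM B u e hBe
  have hCeq : Subgroup.centralizer (Subgroup.zpowers u : Set G) =
      Subgroup.centralizer ({u} : Set G) := by
    rw [Subgroup.zpowers_eq_closure, Subgroup.centralizer_closure]
  have hH : ∀ g : G, g ∈ Subgroup.centralizer (Subgroup.zpowers u : Set G) ↔ g * u = u * g := by
    intro g
    rw [hCeq]
    exact Subgroup.mem_centralizer_singleton_iff
  exact helper79.sum_blockPart_mul hM _ hBe.1.2 B hind u hH hu

end Cfsg.Agent.S4683
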