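import Cfsg.Statements.S4691
import Cfsg.Agent.S0071
import Cfsg.Agent.Lib.helper81.Blocks
import Cfsg.Agent.Lib.helper80.ConjIrr
import Cfsg.Agent.Lib.helper80.BrauerOmega
import Cfsg.Agent.Lib.helper80.Brauer
import Cfsg.Agent.Lib.helper80.BlockIdem

set_option autoImplicit false
open Cfsg

namespace Cfsg.Agent.S4691

open Cfsg.Agent.Lib.helper81 Cfsg.Agent.Lib.helper20 Cfsg.Agent.Lib.helper80

universe u

/-- The principal block of `C_G(Q)` is a Brauer pair component of the principal block of `G`
(a fragment of Brauer's third main theorem). -/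
theorem principal_pair {G : Type u} [Group G] [Fintype G] (p : ℕ) [Fact p.Prime]
    (M : Ideal Cfsg.AlgInt) (hM : Cfsg.IsPModular p M) (Q : Subgroup G) (hQ : IsPGroup p Q) :
    IsBrauerPairOf p M (principalBlock M G) Q
      (principalBlock M (Subgroup.centralizer (Q : Set G))) := by
  classical
  have hMp : M.IsPrime := isPrime_of_isPModular hM
  refine ⟨⟨hQ, Cfsg.Agent.Lib.helper81.isPBlock_principalBlock⟩,
    Cfsg.Agent.Lib.helper81.isPBlock_principalBlock, ?_⟩
  intro ξ hξ
  set β : G → ℂ := blockCoeff (principalBlock M G) with hβ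
  have hβconj : ∀ u : G, ∀ x : G, β (u * x * u⁻¹) = β x := fun u x =>
    Cfsg.Agent.Lib.helper81.blockCoeff_conj _ x u
  have hβloc : ∀ x, MemLocalRing M (β x) := fun x =>
    Cfsg.Agent.Lib.helper81.memLocalRing_blockCoeff hMp
      Cfsg.Agent.Lib.helper81.isPBlock_principalBlock x
  -- the trivial character of the centralizer
  set τ : IrrCharacter (Subgroup.centralizer (Q : Set G)) :=
    trivChar (Subgroup.centralizer (Q : Set G)) with hτ
  have h1 : MemLocalIdeal M
      (brauerOmega Q β (ξ : Subgroup.centralizer (Q : Set G) → ℂ)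
        - brauerOmega Q β (τ : Subgroup.centralizer (Q : Set G) → ℂ)) := by
    apply memLocalIdeal_brauerOmega_sub hMp Q β (fun u _ x => hβconj u x) hβloc ξ τ
    exact Cfsg.Agent.Lib.helper81.sameBlock_symm hξ
  have h2 : MemLocalIdeal M
      (brauerOmega Q β (τ : Subgroup.centralizer (Q : Set G) → ℂ) - 1) := by
    have hsum : ∑ g : G, β g = 1 := by
      have := sum_blockCoeff_mul_irr (principalBlock M G) (trivChar G)
      rw [if_pos (trivChar_mem_principalBlock hMp)] at this
      simpa using this
    have hout := sum_not_centralizer_memLocalIdeal hM Q hQ β (fun u _ x => hβconj u x) hβloc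
    have hin : brauerOmega Q β (τ : Subgroup.centralizer (Q : Set G) → ℂ)
        = ∑ x ∈ Finset.univ.filter (fun x : G => x ∈ Subgroup.centralizer (Q : Set G)), β x := by
      unfold brauerOmega
      rw [finsum_eq_sum_of_fintype]
      simp only [hτ, trivChar_apply, mul_one, div_one]
      rw [← Finset.sum_subtype (Finset.univ.filter
        (fun x : G => x ∈ Subgroup.centralizer (Q : Set G))) (by simp) β]
    have hsplit := Finset.sum_filter_add_sum_filter_not Finset.univ
      (fun x : G => x ∈ Subgroup.centralizer (Q : Set G)) β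
    rw [hsum] at hsplit
    have : brauerOmega Q β (τ : Subgroup.centralizer (Q : Set G) → ℂ) - 1
        = - ∑ x ∈ Finset.univ.filter (fun x : G => x ∉ Subgroup.centralizer (Q : Set G)), β x := by
      rw [hin, ← hsplit]; ring
    rw [this]
    exact memLocalIdeal_neg hout
  have := memLocalIdeal_add hMp h1 h2
  rwa [sub_add_sub_cancel] at this

/-- The principal block of a subgroup is stable under every normalizing element. -/
theorem stabilizes_principal {G : Type u} [Group G] [Finite G] (M : Ideal Cfsg.AlgInt)
    (hMp : M.IsPrime) (K : Subgroup G) (n : G) (hn : n ∈ Subgroup.normalizer (K : Set G)) :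
    StabilizesBlock K (principalBlock M K) n := by
  rw [stabilizesBlock_iff K n hn]
  intro χ hχ
  have h1 : conjIrr K n hn (trivChar K) = trivChar K := by
    symm
    apply eq_conjIrr_of_isConjCharOf
    intro k k' _
    rfl
  have h2 := sameBlock_conjIrr (M := M) K n hn (χ := trivChar K) (ψ := χ) hχ
  rw [h1] at h2
  exact h2

/-- Fix a prime p and a maximal ideal M of the algebraic integers containing p. A finite group G has a normal p-complement if and only if its principal p-block is nilpotent. -/
theorem result {G : Type*} [Group G] [Fintype G] (p : ℕ) [Fact p.Prime] (M : Ideal Cfsg.AlgInt) (hM : Cfsg.IsPModular p M) : Cfsg.HasNormalPComplement p G ↔ Cfsg.IsNilpotentBlock p M (Cfsg.principalBlock M G) := by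
  classical
  have hMp : M.IsPrime := isPrime_of_isPModular hM
  have hp : p.Prime := Fact.out
  constructor
  · rintro ⟨P, N, hN, hc⟩
    refine ⟨Cfsg.Agent.Lib.helper81.isPBlock_principalBlock, ?_⟩
    intro Q e hQe x hx _ hreg
    have hQ : IsPGroup p Q := hQe.1.1
    -- card N is prime to p
    have hNcard : Nat.card N = (P : Subgroup G).index := hc.index_eq_card.symm
    have hNcop : ¬ p ∣ Nat.card N := by
      rw [hNcard]; exact P.not_dvd_index
    -- x lies in N
    have hxN : x ∈ N := by
      have hidx : N.index = Nat.card (P : Subgroup G) := hc.symm.index_eq_card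
      obtain ⟨k, hk⟩ := (IsPGroup.iff_card.mp P.isPGroup')
      have h1 : orderOf (QuotientGroup.mk x : G ⧸ N) ∣ orderOf x :=
        orderOf_map_dvd (QuotientGroup.mk' N) x
      have h2 : orderOf (QuotientGroup.mk x : G ⧸ N) ∣ p ^ k := by
        have := orderOf_dvd_natCard (QuotientGroup.mk x : G ⧸ N)
        rwa [← Subgroup.index_eq_card, hidx, hk] at this
      have hcop : Nat.Coprime (orderOf x) (p ^ k) :=
        Nat.Coprime.pow_right k ((Nat.Prime.coprime_iff_not_dvd hp).mpr hreg).symm
      have h3 : orderOf (QuotientGroup.mk x : G ⧸ N) = 1 :=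
        Nat.eq_one_of_dvd_coprimes hcop h1 h2
      rw [orderOf_eq_one_iff] at h3
      exact (QuotientGroup.eq_one_iff x).mp h3
    rw [Subgroup.mem_centralizer_iff]
    intro q hq
    -- the commutator lies in N ∩ Q
    have hcQ : x * q * x⁻¹ * q⁻¹ ∈ Q :=
      Q.mul_mem ((Subgroup.mem_normalizer_iff.mp hx q).mp hq) (Q.inv_mem hq)
    have hcN : x * q * x⁻¹ * q⁻¹ ∈ N := by
      have : x * q * x⁻¹ * q⁻¹ = x * (q * x⁻¹ * q⁻¹) := by group
      rw [this]
      exact N.mul_mem hxN (hN.conj_mem _ (N.inv_mem hxN) q)
    have hone : x * q * x⁻¹ * q⁻¹ = 1 := by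
      set c := x * q * x⁻¹ * q⁻¹ with hcdef
      obtain ⟨k, hk⟩ := hQ ⟨c, hcQ⟩
      have hk' : c ^ p ^ k = 1 := by
        have := congrArg Subtype.val hk
        simpa using this
      have h1 : orderOf c ∣ p ^ k := orderOf_dvd_of_pow_eq_one hk'
      have h2 : orderOf c ∣ Nat.card N := by
        have := orderOf_dvd_natCard (⟨c, hcN⟩ : N)
        rwa [Subgroup.orderOf_mk] at this
      have hcop : Nat.Coprime (p ^ k) (Nat.card N) :=
        Nat.Coprime.pow_left k ((Nat.Prime.coprime_iff_not_dvd hp).mpr hNcop)
      have h3 : orderOf c = 1 := Nat.eq_one_of_dvd_coprimes hcop h1 h2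
      exact orderOf_eq_one_iff.mp h3
    calc q * x = (x * q * x⁻¹ * q⁻¹)⁻¹ * (x * q) := by group
      _ = x * q := by rw [hone]; simp
  · rintro ⟨_, h⟩
    obtain ⟨P⟩ : Nonempty (Sylow p G) := inferInstance
    have key := (Cfsg.Agent.S0071.result (p := p) P).mpr (by
      intro Q hQP g hg hcop
      have hQ : IsPGroup p Q := P.isPGroup'.to_le hQP
      apply h Q (principalBlock M (Subgroup.centralizer (Q : Set G)))
        (principal_pair p M hM Q hQ) g hg
      · exact stabilizes_principal M hMp _ g (normalizer_le_normalizer_centralizer Q hg)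
      · exact (Nat.Prime.coprime_iff_not_dvd hp).mp hcop.symm)
    obtain ⟨N, hN, hc⟩ := key
    exact ⟨P, N, hN, hc⟩

end Cfsg.Agent.S4691
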