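import Cfsg.Statements.S4692
import Cfsg.Agent.Lib.helper80.PIdxPair

set_option autoImplicit false
open Cfsg

namespace Cfsg.Agent.S4692
open Cfsg.Agent.Lib.helper80 in

/-- Fix a prime p and a maximal ideal M of the algebraic integers containing p. Let N be a normal subgroup of p-power index in the finite group G and c a p-block of N stable under conjugation by G, and let B be the p-block of G whose idempotent is that of c (it exists and is unique). Then c is nilpotent as a block of N if and only if B is nilpotent as a block of G. -/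
theorem result {G : Type*} [Group G] [Fintype G] (p : ℕ) [Fact p.Prime] (M : Ideal Cfsg.AlgInt) (hM : Cfsg.IsPModular p M) (N : Subgroup G) [N.Normal] (hN : ∃ k : ℕ, N.index = p ^ k) (c : Set (Cfsg.IrrCharacter N)) (hc : Cfsg.IsPBlock M c) (hst : ∀ x : G, Cfsg.StabilizesBlock N c x) (B : Set (Cfsg.IrrCharacter G)) (hB : Cfsg.IsPBlock M B) (hBc : ∀ g : G, Cfsg.blockCoeff B g = Cfsg.subgroupBlockCoeff N c g) : Cfsg.IsNilpotentBlock p M c ↔ Cfsg.IsNilpotentBlock p M B := by
  classical
  have hMp := Cfsg.Agent.Lib.helper20.isPrime_of_isPModular hM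
  have hp : p.Prime := Fact.out
  have hz : IsClassFunction G (blockCoeff B) := blockCoeff_classFun B
  have hzN : ∀ y, y ∉ N → blockCoeff B y = 0 := by
    intro y hy
    rw [hBc, ← extFun_blockCoeff, extFun_of_not_mem _ _ hy]
  have hβ : ∀ n : N, blockCoeff B (n : G) = blockCoeff c n := by
    intro n
    rw [hBc, ← extFun_blockCoeff, extFun_coe]
  have hzR : ∀ y, MemLocalRing M (blockCoeff B y) :=
    fun y => Cfsg.Agent.Lib.helper81.memLocalRing_blockCoeff hMp hB y
  have hNn : N.Normal := inferInstance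
  constructor
  · intro hnilc
    refine ⟨hB, ?_⟩
    intro R g hpair x hxR hstab hreg
    have hxN : x ∈ N := Cfsg.Agent.Lib.helper81.mem_of_pRegular_of_pow_index N hN hreg
    have hR : IsPGroup p R := hpair.1.1
    obtain ⟨Q', hQ'⟩ : ∃ Q' : Subgroup N, Q' = R.subgroupOf N := ⟨_, rfl⟩
    have hmemQ : ∀ y, y ∈ Q'.map N.subtype ↔ y ∈ R ∧ y ∈ N := by
      intro y
      rw [hQ']
      constructor
      · rintro ⟨q, hq, rfl⟩
        exact ⟨Subgroup.mem_subgroupOf.mp hq, q.2⟩
      · rintro ⟨h1, h2⟩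
        exact ⟨⟨y, h2⟩, Subgroup.mem_subgroupOf.mpr h1, rfl⟩
    have hQR : Q'.map N.subtype ≤ R := fun y hy => ((hmemQ y).mp hy).1
    have hnorm : ∀ r, r ∈ Subgroup.normalizer (R : Set G) →
        r ∈ Subgroup.normalizer ((Q'.map N.subtype : Subgroup G) : Set G) := by
      intro r hr
      rw [Subgroup.mem_normalizer_iff]
      intro y
      rw [hmemQ, hmemQ, ← (Subgroup.mem_normalizer_iff.mp hr y)]
      constructor
      · rintro ⟨h1, h2⟩
        exact ⟨h1, hNn.conj_mem y h2 r⟩
      · rintro ⟨h1, h2⟩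
        refine ⟨h1, ?_⟩
        have h3 := hNn.conj_mem _ h2 r⁻¹
        have e : r⁻¹ * (r * y * r⁻¹) * r⁻¹⁻¹ = y := by group
        rwa [e] at h3
    have hRN : R ≤ Subgroup.normalizer ((Q'.map N.subtype : Subgroup G) : Set G) :=
      fun r hr => hnorm r (Subgroup.le_normalizer hr)
    have : Fintype ↥(Subgroup.centralizer ((Q'.map N.subtype : Subgroup G) : Set G)) :=
      Fintype.ofFinite _
    obtain ⟨χ, hns, huniq, -⟩ :=
      exists_irr_normalSubpair hM R (Q'.map N.subtype) g hpair.1 hQR hRN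
    have hpair₀ : IsBrauerPairOf p M B (Q'.map N.subtype)
        (blockOf M (χ : Subgroup.centralizer ((Q'.map N.subtype : Subgroup G) : Set G) → ℂ)) :=
      (Cfsg.Agent.S4658.result p M hM R _ g _ hpair.1 hns.1
        (Relation.ReflTransGen.single hns) B hB).mp hpair
    have hxQ := hnorm x hxR
    have hstab₀ := stabilizes_normalSubpair hMp hns huniq hxR hxQ hstab
    obtain ⟨e', he', hcov⟩ := exists_covOrb_psi_down hM N hN Q' hpair₀.1.2
    obtain ⟨ξ, hξ⟩ := Cfsg.Agent.Lib.helper80.isPBlock_nonempty hMp hpair₀.1.2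
    have hpairc : IsBrauerPairOf p M c Q' e' := by
      refine ⟨⟨?_, he'⟩, hc, brauerOmega_down hMp N Q' he' hcov (blockCoeff B) hz hzN hzR
        (blockCoeff c) hβ hξ (hpair₀.2.2 ξ hξ)⟩
      rw [hQ']
      exact hR.comap_subtype
    have hx' : (⟨x, hxN⟩ : N) ∈ Subgroup.normalizer (Q' : Set N) := by
      rw [hQ', Subgroup.mem_normalizer_iff]
      intro n
      rw [Subgroup.mem_subgroupOf, Subgroup.mem_subgroupOf]
      exact Subgroup.mem_normalizer_iff.mp hxR (n : G)
    have hreg' : IsPRegular p (⟨x, hxN⟩ : N) := by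
      unfold IsPRegular
      rw [← Subgroup.orderOf_coe]
      exact hreg
    have hstab' := stabilizes_down hM N hN Q' he' hpair₀.1.2 hcov hx' hreg' hstab₀
    have hcen := hnilc.2 Q' e' hpairc ⟨x, hxN⟩ hx' hstab' hreg'
    apply mem_centralizer_of_centralizes_inf N hR hxN hxR hreg
    intro y hyR hyN
    have h1 := Subgroup.mem_centralizer_iff.mp hcen ⟨y, hyN⟩
      (by rw [hQ']; exact Subgroup.mem_subgroupOf.mpr hyR)
    exact congrArg Subtype.val h1
  · intro hnilB
    refine ⟨hc, ?_⟩
    intro Q' e' hpair x hxQ' hstab hreg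
    obtain ⟨g, hg, hcov⟩ := exists_covOrb_psi hM N hN Q' hpair.1.2
    have hpairB : IsBrauerPairOf p M B (Q'.map N.subtype) g :=
      ⟨⟨hpair.1.1.map _, hg⟩, hB, brauerOmega_up hMp N Q' hpair.1.2 hcov (blockCoeff B) hz hzN
        (blockCoeff c) hβ hpair.2.2⟩
    have hstabG := stabilizes_up hMp N Q' hpair.1.2 hg hcov hxQ' hstab
    have hregG : IsPRegular p (x : G) := by
      unfold IsPRegular
      rw [Subgroup.orderOf_coe]
      exact hreg
    have h1 := hnilB.2 _ g hpairB (x : G) (coe_mem_normalizer_map N Q' hxQ') hstabG hregG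
    exact (coe_mem_centralizer_map_iff N Q' x).mp h1

end Cfsg.Agent.S4692
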