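import Cfsg.Statements.S4694
import Cfsg.Agent.Lib.helper84.Weight

set_option autoImplicit false
open Cfsg

namespace Cfsg.Agent.S4694

/-- Fix a prime p and a maximal ideal M of the algebraic integers containing p, a p-block B of the finite group G and a Brauer pair (Q, e) of B. Let T be the stabilizer of e in N_G(Q) and suppose that (Q, e) carries a weight: the block of T whose idempotent is that of e contains an irreducible character χ that is constant on the cosets of Q and whose degree has p-part equal to the p-part of the index of Q in T. Then Z(Q) is a defect group of e as a block of C_G(Q), and Q is the largest normal p-subgroup of T: every p-subgroup of T normalized by T lies in Q. -/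
theorem result {G : Type*} [Group G] [Fintype G] (p : ℕ) [Fact p.Prime] (M : Ideal Cfsg.AlgInt) (hM : Cfsg.IsPModular p M) (B : Set (Cfsg.IrrCharacter G)) (Q : Subgroup G) (e : Set (Cfsg.IrrCharacter (Subgroup.centralizer (Q : Set G)))) (hQe : Cfsg.IsBrauerPairOf p M B Q e) (T : Subgroup G) (hT : ∀ y : G, y ∈ T ↔ y ∈ Subgroup.normalizer (Q : Set G) ∧ Cfsg.StabilizesBlock (Subgroup.centralizer (Q : Set G)) e y) (F' : Set (Cfsg.IrrCharacter T)) (hF' : Cfsg.IsPBlock M F') (hF'e : ∀ t : T, Cfsg.blockCoeff F' t = Cfsg.subgroupBlockCoeff (Subgroup.centralizer (Q : Set G)) e (t : G)) (χ : Cfsg.IrrCharacter T) (hχ : χ ∈ F') (hχQ : ∀ q : G, q ∈ Q → ∀ t : T, ∀ t' : T, (t' : G) = q * (t : G) → (χ : T → ℂ) t' = (χ : T → ℂ) t) (hdeg : (Cfsg.charDegree (χ : T → ℂ)).factorization p + (Nat.card Q).factorization p = (Nat.card T).factorization p) : Cfsg.IsDefectGroup p M e ((Q ⊓ Subgroup.centralizer (Q : Set G)).subgroupOf (Subgroup.centralizer (Q : Set G))) ∧ ∀ R : Subgroup G, R ≤ T → IsPGroup p R → (∀ t ∈ T, t ∈ Subgroup.normalizer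 (R : Set G)) → R ≤ Q := by
  classical
  obtain ⟨⟨hQp, he⟩, -, -⟩ := hQe
  have hQT : Q ≤ T := fun y hy => (hT y).mpr ⟨Subgroup.le_normalizer hy,
    Cfsg.Agent.Lib.helper80.stabilizesBlock_of_mem_sup_centralizer Q e (Subgroup.mem_sup_left hy)⟩
  have hCT : Subgroup.centralizer (Q : Set G) ≤ T := fun y hy =>
    (hT y).mpr ⟨Subgroup.centralizer_le_normalizer _ hy,
      Cfsg.Agent.Lib.helper80.stabilizesBlock_of_mem_sup_centralizer Q e
        (Subgroup.mem_sup_right hy)⟩
  have hTN : T ≤ Subgroup.normalizer (Q : Set G) := fun y hy => ((hT y).mp hy).1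
  haveI hQn : (Q.subgroupOf T).Normal := Subgroup.normal_subgroupOf_of_le_normalizer hTN
  haveI hCn : ((Subgroup.centralizer (Q : Set G)).subgroupOf T).Normal :=
    Cfsg.Agent.Lib.helper80.normal_centralizer_subgroupOf_stabilizer Q T hT
  have hχQ' : ∀ x ∈ Q.subgroupOf T, (χ : T → ℂ) x = (χ : T → ℂ) 1 := by
    intro x hx
    refine hχQ (x : G) hx 1 x ?_
    rw [OneMemClass.coe_one, mul_one]
  have hdeg' : (Cfsg.charDegree (χ : T → ℂ)).factorization p
      + (Nat.card (Q.subgroupOf T)).factorization p = (Nat.card T).factorization p := by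
    rw [Cfsg.Agent.Lib.helper80.card_subgroupOf_of_le hQT]
    exact hdeg
  have hQ'p : IsPGroup p (Q.subgroupOf T) := hQp.comap_subtype
  constructor
  · have hrange : (Subgroup.inclusion hCT).range.Normal := by
      have h1 : (Subgroup.inclusion hCT).range
          = (Subgroup.centralizer (Q : Set G)).subgroupOf T := by
        ext t
        constructor
        · rintro ⟨c, rfl⟩
          exact c.2
        · intro ht
          exact ⟨⟨t, ht⟩, rfl⟩
      rw [h1]
      exact hCn
    obtain ⟨θ, hθ1, hθ2, hθ3⟩ :=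
      Cfsg.Agent.Lib.helper84.exists_constituent_of_quotient_defect_zero p (Q.subgroupOf T) χ
        hχQ' hdeg' (Subgroup.inclusion hCT) hrange
    have hθe : θ ∈ e :=
      Cfsg.Agent.Lib.helper84.mem_of_constituent_of_blockCoeff
        (Subgroup.centralizer (Q : Set G)) T hCT e F' hF'e χ hχ θ hθ1
    have hZeq : (Q.subgroupOf T).comap (Subgroup.inclusion hCT)
        = (Q ⊓ Subgroup.centralizer (Q : Set G)).subgroupOf (Subgroup.centralizer (Q : Set G)) := by
      ext z
      rw [Subgroup.mem_comap, Subgroup.mem_subgroupOf, Subgroup.mem_subgroupOf, Subgroup.mem_inf]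
      constructor
      · intro hz
        exact ⟨hz, z.2⟩
      · intro hz
        exact hz.1
    rw [hZeq] at hθ3
    refine Cfsg.Agent.Lib.helper80.isDefectGroup_of_central_of_degree hM _ ?_ ?_ he hθe ?_ hθ3
    · exact (hQp.to_le inf_le_left).comap_subtype
    · intro z hz
      rw [Subgroup.mem_subgroupOf, Subgroup.mem_inf] at hz
      rw [Subgroup.mem_center_iff]
      intro c
      apply Subtype.ext
      rw [Subgroup.coe_mul, Subgroup.coe_mul]
      exact (Subgroup.mem_centralizer_iff.mp c.2 (z : G) hz.1).symm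
    · intro z hz
      rw [Subgroup.mem_subgroupOf, Subgroup.mem_inf] at hz
      exact hθ2 z hz.1
  · intro R hRT hRp hRn
    haveI : (R.subgroupOf T).Normal :=
      Subgroup.normal_subgroupOf_of_le_normalizer (fun t ht => hRn t ht)
    have hle := Cfsg.Agent.Lib.helper84.le_of_quotient_defect_zero p (Q.subgroupOf T) hQ'p χ
      hχQ' hdeg' (R.subgroupOf T) hRp.comap_subtype
    intro r hr
    exact hle (show (⟨r, hRT hr⟩ : T) ∈ R.subgroupOf T from hr)

end Cfsg.Agent.S4694
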