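import Cfsg.Statements.S4707
import Cfsg.Agent.Lib.helper68.ItoBridge
import Cfsg.Agent.Lib.helper6.ItoM1
import Cfsg.Agent.Lib.helper6.ItoM2
import Cfsg.Agent.Lib.helper6.ItoL
import Cfsg.Agent.Lib.helper6.ItoAR1
import Cfsg.Agent.Lib.helper6.ItoAR2
import Cfsg.Agent.Lib.helper43.ItoM3
import Cfsg.Agent.Lib.helper43.ItoYI
import Cfsg.Agent.Lib.helper43.ItoPE
import Cfsg.Agent.Lib.helper43.ItoF3
import Cfsg.Agent.Lib.helper53.ItoINT
import Cfsg.Agent.Lib.helper53.ItoPO
import Cfsg.Agent.Lib.helper53.ItoK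
import Cfsg.Agent.Lib.helper64.ItoFP
import Cfsg.Agent.Lib.helper64.ItoPC
import Cfsg.Agent.Lib.helper64.ItoCN
import Cfsg.Agent.Lib.helper11.ItoA5

set_option autoImplicit false
open Cfsg

namespace Cfsg.Agent.S4707

open Finset

theorem core {α : Type*} [Fintype α] [DecidableEq α] {p : ℕ} [Fact p.Prime] (hp : 3 < p) (hα : Fintype.card α = 2 * p) (G : Subgroup (Equiv.Perm α)) [Fintype G] (hprim : MulAction.IsPreprimitive G α) (hnot2 : ¬ MulAction.IsMultiplyPretransitive G α 2) (P : Sylow p G) (hN : Nat.card (Subgroup.normalizer ((P : Subgroup G) : Set G)) = 2 * p) : p = 5 ∧ Nonempty (G ≃* alternatingGroup (Fin 5)) := by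
  have hpp : p.Prime := Fact.out
  obtain ⟨s, E, hs, hps, hsym, hinv, hidem, hrow, hd, hval, hcnt, hR3, ⟨g₀, hg₀, hfpf₀⟩, hdvd⟩ :=
    Cfsg.Agent.Lib.helper68.W2P.ito_bridge hα G hprim hnot2
  have htrans : MulAction.IsPretransitive G α := hprim.toIsPretransitive
  have hpQ : (p : ℚ) = 2 * (s : ℚ) ^ 2 + 2 * s + 1 := by exact_mod_cast hps
  have hsQ : (0 : ℚ) < s := by exact_mod_cast hs
  have hp0 : (0 : ℚ) < p := by exact_mod_cast hpp.pos
  have hpm : (0 : ℚ) < (p : ℚ) * (2 * s + 1) := by positivity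
  -- the trace of `E`
  have htr : ∑ a, E a a = (p : ℚ) - 1 := by
    simp_rw [hd]
    rw [Finset.sum_const, Finset.card_univ, hα, nsmul_eq_mul]
    push_cast
    rw [hpQ]
    field_simp
    ring
  have htr_ne : ∑ a, E a a ≠ 0 := by
    rw [htr]
    have : (3 : ℚ) < p := by exact_mod_cast hp
    linarith
  -- the diagonal is the only place where `E` takes its diagonal value
  have hdiag : ∀ a b, E a b = E a a → a = b := by
    intro a b hab
    by_contra hne
    rw [hd a] at hab
    have he0 : (s * (s + 1) : ℚ) / p = (s * (s + 1) * (2 * s + 1) : ℚ) / (p * (2 * s + 1)) := by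
      field_simp
    rcases hval a b hne with h | h
    · have h1 : -((s : ℚ) + 1) ^ 2 / (p * (2 * s + 1)) < 0 :=
        div_neg_of_neg_of_pos (neg_neg_of_pos (by positivity)) hpm
      have h2 : 0 < (s * (s + 1) : ℚ) / p := div_pos (by positivity) hp0
      rw [h] at hab
      linarith
    · rw [h, he0] at hab
      have h3 : (s : ℚ) ^ 2 / (p * (2 * s + 1)) < (s * (s + 1) * (2 * s + 1) : ℚ) / (p * (2 * s + 1)) := by
        apply div_lt_div_of_pos_right _ hpm
        nlinarith [hsQ]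
      linarith
  -- the order of `P`
  have hPc : Nat.card P = p :=
    Cfsg.Agent.Lib.helper64.Ito.ito_card_sylow (by omega) P hN g₀ hg₀
  -- integrality of `Y`
  have hint : ∀ g : G, ∃ z : ℤ, (z : ℚ) = ∑ a, E a (g • a) := by
    intro g
    obtain ⟨z, hz⟩ := Cfsg.Agent.Lib.helper43.Ito.ito_Y_int
      (fun M k hk hM => Cfsg.Agent.Lib.helper53.Ito.ito_trace_int M k hk hM) E hinv hidem g
    refine ⟨z - p - 1, ?_⟩
    push_cast
    rw [hz, htr, hα]
    push_cast
    ring
  choose Y hY using hint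
  have hY1 : Y 1 = (p : ℤ) - 1 := by
    have h1 := hY 1
    simp only [one_smul] at h1
    rw [htr] at h1
    exact_mod_cast h1
  have hYlt : ∀ g : G, g ≠ 1 → Y g < (p : ℤ) - 1 := by
    intro g hg
    have h1 := Cfsg.Agent.Lib.helper53.Ito.ito_Y_lt E hsym hinv hidem hdiag g hg
    rw [htr, ← hY g] at h1
    exact_mod_cast h1
  -- the three moments
  have hs1 : ∑ g, Y g = 0 := by
    have h1 := Cfsg.Agent.Lib.helper6.Ito.ito_sum_one (G := G) E hrow
    have h2 : ((∑ g, Y g : ℤ) : ℚ) = 0 := by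
      push_cast
      simp_rw [hY]
      exact h1
    exact_mod_cast h2
  have hs2 : ∑ g, Y g ^ 2 = (Fintype.card G : ℤ) := by
    have h1 := Cfsg.Agent.Lib.helper6.Ito.ito_sum_sq (G := G) E hsym hinv hidem hrow htr_ne hR3
    have h2 : ((∑ g, Y g ^ 2 : ℤ) : ℚ) = ((Fintype.card G : ℤ) : ℚ) := by
      push_cast
      simp_rw [hY]
      exact h1
    exact_mod_cast h2
  obtain ⟨a₀⟩ : Nonempty α := by
    apply Fintype.card_pos_iff.mp
    rw [hα]
    have := hpp.pos
    omega
  have hs3 : (Fintype.card G : ℤ) ≤ ∑ g, Y g ^ 3 := by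
    have hL : ∀ (E' : α × α × α → α × α × α → ℚ),
        (∀ x y, E' x y = E' y x) →
        (∀ (g : G) (x y : α × α × α), E' (g • x) (g • y) = E' x y) →
        (∀ x y, ∑ z, E' x z * E' z y = E' x y) →
        ∀ F : α × α × α → ℚ, (∀ (g : G) (x : α × α × α), F (g • x) = F x) →
        (∀ x, ∑ y, E' x y * F y = F x) → F ≠ 0 →
        (Fintype.card G : ℚ) ≤ ∑ g : G, ∑ x, E' x (g • x) := by
      intro E' h1 h2 h3 F h4 h5 h6
      exact Cfsg.Agent.Lib.helper6.Ito.ito_fixed_trace (G := G) (X := α × α × α) E' h1 h2 h3 F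
        h4 h5 h6
    have hF3 := Cfsg.Agent.Lib.helper43.Ito.ito_cube_ne s p hs hps hα E hsym hd hval hcnt a₀
    have h1 := Cfsg.Agent.Lib.helper43.Ito.ito_sum_cube (G := G) hL E hsym hinv hidem a₀ hF3
    have h2 : (((Fintype.card G : ℤ)) : ℚ) ≤ ((∑ g, Y g ^ 3 : ℤ) : ℚ) := by
      push_cast
      simp_rw [hY]
      exact h1
    exact_mod_cast h2
  -- the elements of order `p`
  have hS : ∀ g ∈ univ.filter (fun g : G => orderOf g = p), Y g = -1 := by
    intro x hx
    have hxo : orderOf x = p := (mem_filter.mp hx).2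
    have hxf := Cfsg.Agent.Lib.helper64.Ito.ito_fpf P hPc g₀ hg₀ hfpf₀ x hxo
    have h3 := Cfsg.Agent.Lib.helper43.Ito.ito_Y_pelt hα E hinv _ _ hval x hxo hxf
    have h4 := Cfsg.Agent.Lib.helper6.Ito.ito_arith_val s p hs hps (Y x) _ (hY x) h3
    have h5 : ((Y x : ℤ) : ℚ) = ((-1 : ℤ) : ℚ) := by
      rw [hY x, h4]
      norm_num
    exact_mod_cast h5
  have h1S : (1 : G) ∉ univ.filter (fun g : G => orderOf g = p) := by
    simp only [mem_filter, mem_univ, true_and, orderOf_one]
    exact fun h => hpp.one_lt.ne h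
  have hcard : (univ.filter (fun g : G => orderOf g = p)).card * (2 * p) =
      (p - 1) * Fintype.card G := by
    have h1 := Cfsg.Agent.Lib.helper64.Ito.ito_count P hPc
    rw [hN] at h1
    exact h1
  have hG : Fintype.card G = p * (p - 1) * (p - 2) :=
    Cfsg.Agent.Lib.helper53.Ito.ito_poly p (by omega) Y hY1 hYlt hs1 hs2 hs3 _ h1S hS hcard
  -- the stabilizer
  obtain ⟨t, ht⟩ := hdvd a₀
  have hidx : (MulAction.stabilizer G a₀).index = 2 * p := by
    rw [MulAction.index_stabilizer_of_transitive, Nat.card_eq_fintype_card, hα]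
  have hmul := Subgroup.card_mul_index (MulAction.stabilizer G a₀)
  rw [hidx, ht, Nat.card_eq_fintype_card, hG] at hmul
  have hs1' : s = 1 := Cfsg.Agent.Lib.helper6.Ito.ito_arith s p t hs hps hmul
  have hp5 : p = 5 := by
    rw [hps, hs1']
    norm_num
  subst hp5
  refine ⟨rfl, ?_⟩
  have hG60 : Nat.card G = 60 := by
    rw [Nat.card_eq_fintype_card, hG]
  exact Cfsg.Agent.Lib.helper11.Ito.ito_a5 hG60 P (by rw [hN])


/-- Let p > 3 be a prime and G a primitive permutation group of degree 2p that is not doubly transitive. If a Sylow p-subgroup of G has normalizer of order 2p, then p = 5 and G is isomorphic to the alternating group of degree 5. -/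
theorem result {α : Type*} [Fintype α] [DecidableEq α] {p : ℕ} [Fact p.Prime] (hp : 3 < p) (hα : Fintype.card α = 2 * p) (G : Subgroup (Equiv.Perm α)) (hprim : MulAction.IsPreprimitive G α) (hnot2 : ¬ MulAction.IsMultiplyPretransitive G α 2) (P : Sylow p G) (hN : Nat.card (Subgroup.normalizer ((P : Subgroup G) : Set G)) = 2 * p) : p = 5 ∧ Nonempty (G ≃* alternatingGroup (Fin 5)) := by
  exact @core α _ _ p _ hp hα G (Fintype.ofFinite G) hprim hnot2 P hN

end Cfsg.Agent.S4707
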