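import Cfsg.Statements.S4708
import Cfsg.Agent.Lib.helper77.BlockCover
import Cfsg.Agent.Lib.helper84.ThirdMain
import Cfsg.Agent.Lib.helper4.Induction
import Cfsg.Agent.Lib.helper4.CharDecomp
import Cfsg.Agent.Lib.helper81.Blocks
-- import your own Cfsg.Agent.* helpers here

set_option autoImplicit false
open Cfsg

namespace Cfsg.Agent.S4708

open Cfsg.Agent.Lib Cfsg.Agent.Lib.helper81 Cfsg.Agent.Lib.helper20
open scoped ComplexConjugate

/-- Let p be a prime, M a maximal ideal of the algebraic integers containing p, G a finite group and H a normal subgroup. Write λ(X) for the sum of the squares of the degrees of the irreducible characters in the principal p-block of a group X. Then λ(H) ≤ λ(G) ≤ [G : H]·λ(H). -/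
theorem result {G : Type*} [Group G] [Finite G] (p : ℕ) [Fact p.Prime] (M : Ideal Cfsg.AlgInt) (hM : Cfsg.IsPModular p M) (H : Subgroup G) [H.Normal] : (∑ᶠ θ ∈ Cfsg.principalBlock M H, Cfsg.charDegree (θ : H → ℂ) ^ 2) ≤ (∑ᶠ χ ∈ Cfsg.principalBlock M G, Cfsg.charDegree (χ : G → ℂ) ^ 2) ∧ (∑ᶠ χ ∈ Cfsg.principalBlock M G, Cfsg.charDegree (χ : G → ℂ) ^ 2) ≤ H.index * ∑ᶠ θ ∈ Cfsg.principalBlock M H, Cfsg.charDegree (θ : H → ℂ) ^ 2 := by
  classical
  have := Fintype.ofFinite G
  have : Fintype H := Fintype.ofFinite H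
  have hMp := isPrime_of_isPModular hM
  have hp : p.Prime := Fact.out
  -- multiplicities
  have hnex : ∀ (χ : IrrCharacter G) (θ : IrrCharacter H), ∃ n : ℕ,
      classInner (fun h : H => (χ : G → ℂ) h) (θ : H → ℂ) = n :=
    fun χ θ => helper4.exists_nat_classInner_irr
      (helper4.isCharacter_restrict H (irr_isCharacter χ)) θ.2
  choose n hn using hnex
  obtain ⟨dG, hdG⟩ : ∃ dG : IrrCharacter G → ℕ,
      dG = fun (χ : IrrCharacter G) => charDegree (χ : G → ℂ) := ⟨_, rfl⟩
  obtain ⟨dH, hdH⟩ : ∃ dH : IrrCharacter H → ℕ,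
      dH = fun (θ : IrrCharacter H) => charDegree (θ : H → ℂ) := ⟨_, rfl⟩
  have hdG1 : ∀ χ : IrrCharacter G, (χ : G → ℂ) 1 = (dG χ : ℂ) := fun χ => by
    rw [hdG]; exact irr_one_eq_charDegree χ
  have hdH1 : ∀ θ : IrrCharacter H, (θ : H → ℂ) 1 = (dH θ : ℂ) := fun θ => by
    rw [hdH]; exact irr_one_eq_charDegree θ
  -- (R1)
  have hR1 : ∀ χ : IrrCharacter G, dG χ = ∑ θ : IrrCharacter H, n χ θ * dH θ := by
    intro χ
    have h1 := helper4.classFunction_eq_sum_irr (G := H) (ψ := fun h : H => (χ : G → ℂ) h)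
      (helper4.isClassFunction_restrict H (irr_classFun χ))
    have h2 := congrFun h1 1
    rw [Finset.sum_apply] at h2
    have h3 : ((dG χ : ℕ) : ℂ) = ((∑ θ : IrrCharacter H, n χ θ * dH θ : ℕ) : ℂ) := by
      rw [← hdG1 χ]
      have e : (χ : G → ℂ) 1 = (χ : G → ℂ) ((1 : H) : G) := by rw [Subgroup.coe_one]
      rw [e, h2, Nat.cast_sum]
      refine Finset.sum_congr rfl (fun θ _ => ?_)
      rw [Pi.smul_apply, smul_eq_mul, hn, hdH1, Nat.cast_mul]
    exact_mod_cast h3
  -- (R2)
  have hind : ∀ (θ : IrrCharacter H) (χ : IrrCharacter G),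
      classInner (indFun H (θ : H → ℂ)) (χ : G → ℂ) = (n χ θ : ℂ) := by
    intro θ χ
    rw [helper4.frobenius_reciprocity H (θ : H → ℂ) (irr_classFun χ),
      ← helper4.classInner_conj_symm, hn, Complex.conj_natCast]
  have hR2 : ∀ θ : IrrCharacter H, ∑ χ : IrrCharacter G, n χ θ * dG χ = H.index * dH θ := by
    intro θ
    have h1 := helper4.classFunction_eq_sum_irr (helper4.isClassFunction_indFun H (θ : H → ℂ))
    have h2 := congrFun h1 1
    rw [Finset.sum_apply, helper4.indFun_one] at h2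
    have h3 : ((∑ χ : IrrCharacter G, n χ θ * dG χ : ℕ) : ℂ) = ((H.index * dH θ : ℕ) : ℂ) := by
      rw [Nat.cast_mul, ← hdH1, h2, Nat.cast_sum]
      refine Finset.sum_congr rfl (fun χ _ => ?_)
      rw [Pi.smul_apply, smul_eq_mul, hind, hdG1, Nat.cast_mul]
    exact_mod_cast h3
  -- (C1)
  have htriv : ∀ g : G, helper77.cjIrr H g (trivChar H) = trivChar H := by
    intro g
    apply Subtype.ext
    funext m
    rw [helper77.cjIrr_coe, helper82.cconj_def]
    rfl
  have hstab : ∀ (g : G) (θ : IrrCharacter H), θ ∈ principalBlock M H →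
      helper77.cjIrr H g θ ∈ principalBlock M H := by
    intro g θ hθ
    rw [principalBlock_eq_blockOf, mem_blockOf] at hθ ⊢
    have := helper77.sameBlock_cjIrr H g hθ
    rwa [htriv g] at this
  have hC1 : ∀ χ ∈ principalBlock M G, ∀ θ : IrrCharacter H, n χ θ ≠ 0 →
      θ ∈ principalBlock M H := by
    intro χ hχ θ hnθ
    have h₀ : classInner (fun m : H => (trivChar G : G → ℂ) m) (trivChar H : H → ℂ) ≠ 0 := by
      have e : (fun m : H => (trivChar G : G → ℂ) m) = (trivChar H : H → ℂ) := rfl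
      rw [e, irr_classInner_self]
      exact one_ne_zero
    have h : classInner (fun m : H => (χ : G → ℂ) m) (θ : H → ℂ) ≠ 0 := by
      rw [hn]
      exact_mod_cast hnθ
    obtain ⟨g, hg⟩ := helper77.mem_orbitUnion_of_cover H hMp (isPBlock_principalBlock (M := M))
      (isPBlock_principalBlock (M := M)) (trivChar_mem_principalBlock hMp)
      (trivChar_mem_principalBlock hMp) h₀ hχ h
    have := hstab g⁻¹ _ hg
    rwa [helper77.cjIrr_inv_cjIrr] at this
  -- (C2)
  have hC2 : ∀ θ ∈ principalBlock M H, ∃ χ ∈ principalBlock M G, n χ θ ≠ 0 := by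
    intro θ hθ
    by_contra hcon
    push Not at hcon
    obtain ⟨f, hf⟩ : ∃ f : G → ℂ, f = fun x => if ¬ p ∣ orderOf x then (1 : ℂ) else 0 :=
      ⟨_, rfl⟩
    have hfcf : IsClassFunction G f := by
      rw [hf]
      intro x g
      show (if ¬ p ∣ orderOf (g * x * g⁻¹) then (1 : ℂ) else 0)
        = if ¬ p ∣ orderOf x then (1 : ℂ) else 0
      have e : orderOf (g * x * g⁻¹) = orderOf x :=
        orderOf_injective (MulAut.conj g).toMonoidHom (MulAut.conj g).injective x
      rw [e]
    have hfr := helper4.frobenius_reciprocity H (θ : H → ℂ) hfcf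
    have hL : classInner (indFun H (θ : H → ℂ)) f = 0 := by
      have h1 := helper4.classFunction_eq_sum_irr (helper4.isClassFunction_indFun H (θ : H → ℂ))
      rw [h1, helper4.classInner_sum_left]
      refine Finset.sum_eq_zero (fun χ _ => ?_)
      rw [helper4.classInner_smul_left, hind]
      by_cases hχ : χ ∈ principalBlock M G
      · rw [hcon χ hχ, Nat.cast_zero, zero_mul]
      · have h2 := helper84.pRegSum_eq_zero_of_not_mem hM χ hχ
        have h3 : classInner (χ : G → ℂ) f = 0 := by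
          unfold classInner
          have : ∑ g : G, (χ : G → ℂ) g * conj (f g)
              = ∑ x : G, (if ¬ p ∣ orderOf x then (χ : G → ℂ) x else 0) := by
            refine Finset.sum_congr rfl (fun x _ => ?_)
            rw [hf]
            show (χ : G → ℂ) x * conj (if ¬ p ∣ orderOf x then (1 : ℂ) else 0) = _
            split_ifs <;> simp
          rw [this, h2, mul_zero]
        rw [h3, mul_zero]
    rw [hL] at hfr
    have hS : ∑ x : H, (if ¬ p ∣ orderOf x then (θ : H → ℂ) x else 0) = 0 := by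
      unfold classInner at hfr
      have : ∑ g : H, (θ : H → ℂ) g * conj (f g)
          = ∑ x : H, (if ¬ p ∣ orderOf x then (θ : H → ℂ) x else 0) := by
        refine Finset.sum_congr rfl (fun x _ => ?_)
        rw [hf]
        show (θ : H → ℂ) x * conj (if ¬ p ∣ orderOf (x : G) then (1 : ℂ) else 0) = _
        rw [Subgroup.orderOf_coe]
        split_ifs <;> simp
      rw [this] at hfr
      have hH0 : (Nat.card H : ℂ)⁻¹ ≠ 0 := inv_ne_zero card_ne_zero_complex
      exact (mul_eq_zero.mp hfr.symm).resolve_left hH0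
    apply helper84.not_memLocalIdeal_pRegSum_of_mem hM θ hθ
    rw [hS, zero_div]
    exact memLocalIdeal_zero hMp
  -- the three comparisons
  have hΔ1 : ∀ χ : IrrCharacter G, (if χ ∈ principalBlock M G then dG χ ^ 2 else 0)
      = ∑ θ : IrrCharacter H, (if χ ∈ principalBlock M G ∧ θ ∈ principalBlock M H
          then dG χ * n χ θ * dH θ else 0) := by
    intro χ
    by_cases hχ : χ ∈ principalBlock M G
    · rw [if_pos hχ, pow_two]
      nth_rewrite 2 [hR1 χ]
      rw [Finset.mul_sum]
      refine Finset.sum_congr rfl (fun θ _ => ?_)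
      by_cases hθ : θ ∈ principalBlock M H
      · rw [if_pos ⟨hχ, hθ⟩, mul_assoc]
      · have h0 : n χ θ = 0 := by
          by_contra h
          exact hθ (hC1 χ hχ θ h)
        rw [if_neg (fun h => hθ h.2), h0, zero_mul, mul_zero]
    · rw [if_neg hχ]
      symm
      refine Finset.sum_eq_zero (fun θ _ => ?_)
      rw [if_neg (fun h => hχ h.1)]
  have hΔ2 : ∀ θ : IrrCharacter H, ∑ χ : IrrCharacter G,
      (if χ ∈ principalBlock M G ∧ θ ∈ principalBlock M H then dG χ * n χ θ * dH θ else 0)
        ≤ if θ ∈ principalBlock M H then H.index * dH θ ^ 2 else 0 := by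
    intro θ
    by_cases hθ : θ ∈ principalBlock M H
    · rw [if_pos hθ]
      calc ∑ χ : IrrCharacter G, (if χ ∈ principalBlock M G ∧ θ ∈ principalBlock M H
              then dG χ * n χ θ * dH θ else 0)
          ≤ ∑ χ : IrrCharacter G, (n χ θ * dG χ) * dH θ := by
            refine Finset.sum_le_sum (fun χ _ => ?_)
            split_ifs
            · exact le_of_eq (by ring)
            · exact Nat.zero_le _
        _ = H.index * dH θ ^ 2 := by
            rw [← Finset.sum_mul, hR2 θ]; ring
    · rw [if_neg hθ]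
      apply le_of_eq
      refine Finset.sum_eq_zero (fun χ _ => ?_)
      rw [if_neg (fun h => hθ h.2)]
  have hΔ3 : ∀ θ : IrrCharacter H, (if θ ∈ principalBlock M H then dH θ ^ 2 else 0)
      ≤ ∑ χ : IrrCharacter G,
        (if χ ∈ principalBlock M G ∧ θ ∈ principalBlock M H then dG χ * n χ θ * dH θ else 0) := by
    intro θ
    by_cases hθ : θ ∈ principalBlock M H
    · rw [if_pos hθ]
      obtain ⟨χ₀, hχ₀, hn0⟩ := hC2 θ hθ
      have h1 : n χ₀ θ * dH θ ≤ dG χ₀ := by
        rw [hR1 χ₀]
        exact Finset.single_le_sum (f := fun θ' => n χ₀ θ' * dH θ') (fun _ _ => Nat.zero_le _)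
          (Finset.mem_univ θ)
      have h2 : 1 ≤ n χ₀ θ := Nat.one_le_iff_ne_zero.mpr hn0
      have h3 : dH θ ≤ dG χ₀ := le_trans (Nat.le_mul_of_pos_left _ h2) h1
      have h4 : dH θ ^ 2 ≤ dG χ₀ * n χ₀ θ * dH θ := by
        rw [pow_two]
        exact Nat.mul_le_mul (le_trans h3 (Nat.le_mul_of_pos_right _ h2)) le_rfl
      refine le_trans h4 ?_
      have h5 : (if χ₀ ∈ principalBlock M G ∧ θ ∈ principalBlock M H
            then dG χ₀ * n χ₀ θ * dH θ else 0)
          ≤ ∑ χ : IrrCharacter G, (if χ ∈ principalBlock M G ∧ θ ∈ principalBlock M H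
            then dG χ * n χ θ * dH θ else 0) :=
        Finset.single_le_sum (f := fun χ : IrrCharacter G =>
          (if χ ∈ principalBlock M G ∧ θ ∈ principalBlock M H then dG χ * n χ θ * dH θ else 0))
          (fun _ _ => Nat.zero_le _) (Finset.mem_univ χ₀)
      rw [if_pos ⟨hχ₀, hθ⟩] at h5
      exact h5
    · rw [if_neg hθ]
      exact Nat.zero_le _
  -- rewrite the finsums
  have hG : (∑ᶠ χ ∈ principalBlock M G, charDegree (χ : G → ℂ) ^ 2)
      = ∑ χ : IrrCharacter G, (if χ ∈ principalBlock M G then dG χ ^ 2 else 0) := by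
    rw [finsum_mem_def, finsum_eq_sum_of_fintype]
    refine Finset.sum_congr rfl (fun χ _ => ?_)
    rw [Set.indicator_apply, hdG]
  have hH : (∑ᶠ θ ∈ principalBlock M H, charDegree (θ : H → ℂ) ^ 2)
      = ∑ θ : IrrCharacter H, (if θ ∈ principalBlock M H then dH θ ^ 2 else 0) := by
    rw [finsum_mem_def, finsum_eq_sum_of_fintype]
    refine Finset.sum_congr rfl (fun θ _ => ?_)
    rw [Set.indicator_apply, hdH]
  rw [hG, hH]
  constructor
  · calc ∑ θ : IrrCharacter H, (if θ ∈ principalBlock M H then dH θ ^ 2 else 0)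
        ≤ ∑ θ : IrrCharacter H, ∑ χ : IrrCharacter G,
          (if χ ∈ principalBlock M G ∧ θ ∈ principalBlock M H
            then dG χ * n χ θ * dH θ else 0) := Finset.sum_le_sum (fun θ _ => hΔ3 θ)
      _ = ∑ χ : IrrCharacter G, (if χ ∈ principalBlock M G then dG χ ^ 2 else 0) := by
          rw [Finset.sum_comm]
          exact Finset.sum_congr rfl (fun χ _ => (hΔ1 χ).symm)
  · calc ∑ χ : IrrCharacter G, (if χ ∈ principalBlock M G then dG χ ^ 2 else 0)
        = ∑ θ : IrrCharacter H, ∑ χ : IrrCharacter G,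
          (if χ ∈ principalBlock M G ∧ θ ∈ principalBlock M H
            then dG χ * n χ θ * dH θ else 0) := by
          rw [Finset.sum_comm]
          exact Finset.sum_congr rfl (fun χ _ => hΔ1 χ)
      _ ≤ ∑ θ : IrrCharacter H, (if θ ∈ principalBlock M H then H.index * dH θ ^ 2 else 0) :=
          Finset.sum_le_sum (fun θ _ => hΔ2 θ)
      _ = H.index * ∑ θ : IrrCharacter H, (if θ ∈ principalBlock M H then dH θ ^ 2 else 0) := by
          rw [Finset.mul_sum]
          refine Finset.sum_congr rfl (fun θ _ => ?_)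
          split_ifs <;> simp

end Cfsg.Agent.S4708
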