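import Cfsg.Statements.S4709
import Cfsg.Agent.Lib.helper81.BlRel
import Cfsg.Agent.Lib.helper81.BlComb2

set_option autoImplicit false
open Cfsg

namespace Cfsg.Agent.S4709

/-- Let p be a prime, M a maximal ideal of the algebraic integers containing p, and G a finite group with a nontrivial abelian Sylow p-subgroup P; put N = N_G(P), C = C_G(P). Suppose N/C is cyclic of order m with 1 < m < #P − 1 (C has index m in N and N is generated by C and one element), and C_G(y) ∩ N = C for every non-identity y ∈ P. Put r = (#P − 1)/m. Then there is s ≤ m such that the principal p-block is the disjoint union of a set X of s characters containing the principal character and a set Y of r characters, with integers a_χ ≠ 0 (χ ∈ X), d and a sign δ = ±1, such that: every χ ∈ X takes the value a_χ at every element whose p-part is a non-identity element of P; there is a map ζ from the non-principal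 linear characters ψ of P onto Y, constant on N-conjugacy classes, with ζ_ψ(z) = d + δ·Σ ψ'(y) for every z whose p-part y is a non-identity element of P, the sum running over the N-conjugates ψ' of ψ; (d − δ)^2 + (r − 1) d^2 + Σ_{χ ∈ X} a_χ^2 = m + 1; all members of Y agree on p-regular elements; and (r d − δ) η(g) + Σ_{χ ∈ X} a_χ χ(g) = 0 for every η ∈ Y and every p-regular g. -/
theorem result {G : Type*} [Group G] [Finite G] (p : ℕ) [Fact p.Prime] (M : Ideal Cfsg.AlgInt) (hM : Cfsg.IsPModular p M) (P : Sylow p G) (hab : IsMulCommutative P) (hP1 : Nat.card P ≠ 1) (m : ℕ) (hm1 : 1 < m) (hm2 : m + 1 < Nat.card P) (hCN : (Subgroup.centralizer ((P : Subgroup G) : Set G)).relIndex (Subgroup.normalizer ((P : Subgroup G) : Set G)) = m) (hcyc : ∃ g : G, g ∈ Subgroup.normalizer ((P : Subgroup G) : Set G) ∧ Subgroup.centralizer ((P : Subgroup G) : Set G) ⊔ Subgroup.zpowers g = Subgroup.normalizer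 ((P : Subgroup G) : Set G)) (hfrob : ∀ y : G, y ∈ (P : Subgroup G) → y ≠ 1 → Subgroup.centralizer ({y} : Set G) ⊓ Subgroup.normalizer ((P : Subgroup G) : Set G) = Subgroup.centralizer ((P : Subgroup G) : Set G)) : ∃ (s : ℕ) (X Y : Set (Cfsg.IrrCharacter G)), s ≤ m ∧ Cfsg.principalBlock M G = X ∪ Y ∧ Disjoint X Y ∧ Nat.card X = s ∧ Nat.card Y = (Nat.card P - 1) / m ∧ (∃ χ₁ ∈ X, (χ₁ : G → ℂ) = fun _ => 1) ∧ ∃ (a : Cfsg.IrrCharacter G → ℤ) (d δ : ℤ) (ζ : (↥(P : Subgroup G) →* ℂˣ) → Cfsg.IrrCharacter G), (δ = 1 ∨ δ = -1) ∧ (∀ χ ∈ X, a χ ≠ 0 ∧ ∀ z y : G, Cfsg.IsPPart p z y → y ∈ (P : Subgroup G) → y ≠ 1 → (χ : G → ℂ) z = (a χ : ℂ)) ∧ (∀ ψ : ↥(P : Subgroup G) →* ℂˣ, ψ ≠ 1 → ζ ψ ∈ Y) ∧ (∀ η ∈ Y, ∃ ψ : ↥(P : Subgroup G) →* ℂˣ, ψ ≠ 1 ∧ ζ ψ = η) ∧ (∀ ψ ψ' : ↥(P : Subgroup G) →* ℂˣ, ψ ≠ 1 → (∃ n : G, n ∈ Subgroup.normalizer ((P : Subgroup G) : Set G) ∧ ∀ w w' : ↥(P : Subgroup G), (w' :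 G) = n * w * n⁻¹ → ψ' w' = ψ w) → ζ ψ' = ζ ψ) ∧ (∀ ψ : ↥(P : Subgroup G) →* ℂˣ, ψ ≠ 1 → ∀ (z : G) (y : ↥(P : Subgroup G)), Cfsg.IsPPart p z (y : G) → (y : G) ≠ 1 → (ζ ψ : G → ℂ) z = (d : ℂ) + (δ : ℂ) * ∑ᶠ ψ' ∈ {ψ' : ↥(P : Subgroup G) →* ℂˣ | ∃ n : G, n ∈ Subgroup.normalizer ((P : Subgroup G) : Set G) ∧ ∀ w w' : ↥(P : Subgroup G), (w' : G) = n * w * n⁻¹ → ψ' w' = ψ w}, ((ψ' y : ℂˣ) : ℂ)) ∧ ((d - δ) ^ 2 + ((Nat.card P - 1) / m - 1 : ℤ) * d ^ 2 + ∑ᶠ χ ∈ X, a χ ^ 2 = (m : ℤ) + 1) ∧ (∀ η ∈ Y, ∀ η' ∈ Y, ∀ g : G, ¬ p ∣ orderOf g → (η : G → ℂ) g = (η' : G → ℂ) g) ∧ (∀ η ∈ Y, ∀ g : G, ¬ p ∣ orderOf g → ((((Nat.card P - 1) / m : ℕ) : ℂ) * d - δ) * (η : G → ℂ) g + ∑ᶠ χ ∈ X, (a χ : ℂ) * (χ : G → ℂ) g = 0) := by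
  classical
  have hp : p.Prime := Fact.out
  have hMp := Cfsg.Agent.Lib.helper20.isPrime_of_isPModular hM
  have hab' : ∀ a b : (P : Subgroup G), a * b = b * a := fun a b => hab.is_comm.comm a b
  haveI : Finite ((P : Subgroup G) →* ℂˣ) := Cfsg.Agent.Lib.helper81.bl_finite_hom
  have : Fintype (P : Subgroup G) := Fintype.ofFinite _
  have : Fintype ((P : Subgroup G) →* ℂˣ) := Fintype.ofFinite _
  obtain ⟨I, hI⟩ : ∃ I : Finset (IrrCharacter G), ∀ χ, χ ∈ I ↔ χ ∈ principalBlock M G :=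
    ⟨(Set.toFinite (principalBlock M G)).toFinset, fun χ => Set.Finite.mem_toFinset _⟩
  have hB : principalBlock M G = (I : Set (IrrCharacter G)) :=
    Set.ext (fun χ => by rw [Finset.mem_coe, hI])
  obtain ⟨ψ₀, ψ₁, h0, h1, h01⟩ :=
    Cfsg.Agent.Lib.helper81.bl_exists_two (P : Subgroup G) hab' m hm2 hCN hfrob
  obtain ⟨d, ε, ζ, Y, a, hε, hYI, hζY, hsurj, hiff, hX, hYv, hnorm, hcard2, htriv, hXcard, hF⟩ :=
    Cfsg.Agent.Lib.helper81.bl_comb2 I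
      (fun χ ψ => ((Cfsg.Agent.Lib.helper81.blMult (P : Subgroup G) χ ψ : ℕ) : ℤ))
      (Cfsg.Agent.Lib.helper81.blRel (P : Subgroup G)) 1 (m : ℤ)
      (fun χ _ ψ => Int.natCast_nonneg _)
      (fun ψ₁ ψ₂ ψ₃ => Cfsg.Agent.Lib.helper81.bl_rel hM P hab hP1 m hCN hfrob I hI ψ₁ ψ₂ ψ₃)
      (Cfsg.Agent.Lib.helper81.blRel_refl _)
      (fun ψ ψ' h => Cfsg.Agent.Lib.helper81.blRel_symm _ h)
      (fun ψ ψ' ψ'' h h' => Cfsg.Agent.Lib.helper81.blRel_trans _ h h')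
      (fun ψ h => Cfsg.Agent.Lib.helper81.blRel_one_left _ h) ψ₀ ψ₁ h0 h1 h01
  have hsd : @sdiff (Finset (IrrCharacter G))
      (@Finset.instSDiff (IrrCharacter G) fun a b => Classical.propDecidable (a = b)) I Y
      = I \ Y := by
    ext χ
    exact (@Finset.mem_sdiff (IrrCharacter G) (fun a b => Classical.propDecidable (a = b)) I Y
      χ).trans Finset.mem_sdiff.symm
  simp only [hsd] at hnorm hXcard hF
  obtain ⟨y₀, hy₀⟩ : ∃ y : (P : Subgroup G), y ≠ 1 := by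
    by_contra h
    push Not at h
    apply hP1
    rw [Nat.card_eq_one_iff_unique]
    exact ⟨⟨fun a b => (h a).trans (h b).symm⟩, ⟨1⟩⟩
  have hYcard : Y.card = (Nat.card (P : Subgroup G) - 1) / m :=
    Cfsg.Agent.Lib.helper81.bl_card_Y (P : Subgroup G) hab' m (by omega) hCN hfrob Y ζ hζY hsurj
      hiff
  have hXval : ∀ χ ∈ I, χ ∉ Y → ∀ y : (P : Subgroup G), y ≠ 1 →
      (χ : G → ℂ) (y : G) = (a χ : ℂ) :=
    fun χ hχ hχY y hy => Cfsg.Agent.Lib.helper81.bl_value_const (P : Subgroup G) hab' χ (a χ)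
      (fun ψ hψ => hX χ hχ hχY ψ hψ) y hy
  have hane : ∀ χ ∈ I \ Y, a χ ≠ 0 := by
    intro χ hχ
    obtain ⟨hχI, hχY⟩ := Finset.mem_sdiff.mp hχ
    intro h0'
    have h1' := hXval χ hχI hχY y₀ hy₀
    rw [h0', Int.cast_zero] at h1'
    exact Cfsg.Agent.Lib.helper81.bl_ne_zero hM P hab' χ ((hI χ).mp hχI) (y₀ : G) y₀.2 h1'
  have hsm := hXcard hane
  refine ⟨(I \ Y).card, ((I \ Y : Finset (IrrCharacter G)) : Set (IrrCharacter G)),
    (Y : Set (IrrCharacter G)), by exact_mod_cast hsm, ?_, ?_, ?_, ?_, ?_, a, d, ε, ζ, hε,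
    ?_, ?_, ?_, ?_, ?_, ?_, ?_, ?_⟩
  · rw [hB, ← Finset.coe_union, Finset.sdiff_union_of_subset hYI]
  · exact Finset.disjoint_coe.mpr Finset.sdiff_disjoint
  · rw [Nat.card_coe_set_eq, Set.ncard_coe_finset]
  · rw [Nat.card_coe_set_eq, Set.ncard_coe_finset, hYcard]
  · have htI : Cfsg.Agent.Lib.helper81.trivChar G ∈ I :=
      (hI _).mpr (Cfsg.Agent.Lib.helper81.trivChar_mem_principalBlock hMp)
    refine ⟨Cfsg.Agent.Lib.helper81.trivChar G,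
      Finset.mem_coe.mpr (Finset.mem_sdiff.mpr ⟨htI, htriv _ htI ?_⟩), rfl⟩
    intro ψ ψ' hψ hψ'
    show ((Cfsg.Agent.Lib.helper81.blMult (P : Subgroup G)
        (Cfsg.Agent.Lib.helper81.trivChar G) ψ : ℕ) : ℤ)
      = ((Cfsg.Agent.Lib.helper81.blMult (P : Subgroup G)
        (Cfsg.Agent.Lib.helper81.trivChar G) ψ' : ℕ) : ℤ)
    rw [Cfsg.Agent.Lib.helper81.blMult_triv _ ψ hψ, Cfsg.Agent.Lib.helper81.blMult_triv _ ψ' hψ']
  · intro χ hχ
    have hχ' := Finset.mem_sdiff.mp (Finset.mem_coe.mp hχ)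
    refine ⟨hane χ (Finset.mem_coe.mp hχ), ?_⟩
    intro z y hzy hy hy1
    rw [Cfsg.Agent.Lib.helper81.bl_section_const hM P hab' hfrob χ ((hI χ).mp hχ'.1) z y hzy hy
      hy1]
    exact hXval χ hχ'.1 hχ'.2 ⟨y, hy⟩ (fun h => hy1 (congrArg Subtype.val h))
  · exact fun ψ hψ => Finset.mem_coe.mpr (hζY ψ hψ)
  · exact fun η hη => hsurj η (Finset.mem_coe.mp hη)
  · intro ψ ψ' hψ hr
    have hr' : Cfsg.Agent.Lib.helper81.blRel (P : Subgroup G) ψ ψ' := hr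
    have hψ' : ψ' ≠ 1 := by
      intro h
      rw [h] at hr'
      exact hψ (Cfsg.Agent.Lib.helper81.blRel_one_right _ hr')
    exact ((hiff ψ ψ' hψ hψ').mpr hr').symm
  · intro ψ hψ z y hzy hy1
    have hζI := hYI (hζY ψ hψ)
    rw [Cfsg.Agent.Lib.helper81.bl_section_const hM P hab' hfrob (ζ ψ) ((hI _).mp hζI) z (y : G)
      hzy y.2 hy1]
    exact Cfsg.Agent.Lib.helper81.bl_value_exc (P : Subgroup G) hab' (ζ ψ) d ε ψ hψ
      (fun ψ' hψ' => hYv ψ ψ' hψ hψ') y (fun h => hy1 (by rw [h]; rfl))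
  · rw [finsum_mem_coe_finset]
    have hc : ((Nat.card (P : Subgroup G) : ℤ) - 1) / (m : ℤ) = (Y.card : ℤ) := by
      rw [hYcard]
      have h1P : 1 ≤ Nat.card (P : Subgroup G) := Nat.card_pos
      rw [Int.natCast_div, Nat.cast_sub h1P]
      norm_num
    rw [hc]
    exact hnorm
  · intro η hη η' hη' g hg
    exact (hF (fun χ => (χ : G → ℂ) g)
      (fun ψ₁ ψ₂ => Cfsg.Agent.Lib.helper81.bl_T_const hM P I hI g hg ψ₁ ψ₂)).1 η
      (Finset.mem_coe.mp hη) η' (Finset.mem_coe.mp hη')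
  · intro η hη g hg
    rw [finsum_mem_coe_finset, ← hYcard]
    exact (hF (fun χ => (χ : G → ℂ) g)
      (fun ψ₁ ψ₂ => Cfsg.Agent.Lib.helper81.bl_T_const hM P I hI g hg ψ₁ ψ₂)).2 η
      (Finset.mem_coe.mp hη)

end Cfsg.Agent.S4709
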