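import Cfsg.Statements.S4711
import Cfsg.Agent.Lib.helper78.PLenGroup
import Cfsg.Agent.Lib.helper78.PLenBlock
import Cfsg.Agent.Lib.helper29.PLen
import Cfsg.Agent.Lib.helper66.PLength
import Cfsg.Agent.Lib.helper81.PrincipalInfl
import Cfsg.Agent.Lib.helper40.Cores
import Cfsg.Agent.Lib.helper38.HallHigman2

set_option autoImplicit false
open Cfsg

namespace Cfsg.Agent.S4711

/-- Let p be a prime, M a maximal ideal of the algebraic integers containing p, G a finite group, P a Sylow p-subgroup and N = N_G(P). Then G has p-length 1 (G = O_{p',p,p'}(G)) if and only if every irreducible character in the principal p-block of G restricts to an irreducible character of N. -/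
theorem result {G : Type*} [Group G] [Finite G] (p : ℕ) [Fact p.Prime] (M : Ideal Cfsg.AlgInt) (hM : Cfsg.IsPModular p M) (P : Sylow p G) : Cfsg.PLengthLE p 1 G ↔ ∀ χ ∈ Cfsg.principalBlock M G, Cfsg.IsIrrCharacter ↥(Subgroup.normalizer ((P : Subgroup G) : Set G)) (fun n : ↥(Subgroup.normalizer ((P : Subgroup G) : Set G)) => (χ : G → ℂ) n) := by
  classical
  have : Fintype G := Fintype.ofFinite G
  have hPN : (P : Subgroup G) ≤ Subgroup.normalizer ((P : Subgroup G) : Set G) :=
    Subgroup.le_normalizer
  constructor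
  · -- `p`-length one: the principal block lives on `G / O_{p'}(G)`, onto which `N` maps
    intro hpl χ hχ
    have hKn : (pPrimeCore p G).Normal := Cfsg.Agent.Lib.helper40.pPrimeCore_normal' p G
    obtain ⟨ψ, hψ⟩ := Cfsg.Agent.Lib.helper81.exists_infl_eq_of_mem_principalBlock hM hχ
    have hQ : PLengthLE p 1 (G ⧸ pPrimeCore p G) :=
      Cfsg.Agent.Lib.helper66.PLengthLE.quotient (pPrimeCore p G) hpl
    have h0 : pPrimeCore p (G ⧸ pPrimeCore p G) = ⊥ :=
      Cfsg.Agent.Lib.helper38.pPrimeCore_quotient_pPrimeCore p G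
    have hmk : Function.Surjective (QuotientGroup.mk' (pPrimeCore p G)) :=
      QuotientGroup.mk'_surjective _
    have hOn : (pCore p (G ⧸ pPrimeCore p G)).Normal :=
      Cfsg.Agent.Lib.helper40.pCore_normal' p _
    have hOp : IsPGroup p (pCore p (G ⧸ pPrimeCore p G)) :=
      Cfsg.Agent.Lib.helper40.pCore_isPGroup p _
    have hPO : ∀ u ∈ (P : Subgroup G),
        QuotientGroup.mk' (pPrimeCore p G) u ∈ pCore p (G ⧸ pPrimeCore p G) := by
      intro u hu
      obtain ⟨k, hk⟩ := P.2 ⟨u, hu⟩
      have hk' : u ^ p ^ k = 1 := congrArg Subtype.val hk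
      apply Cfsg.Agent.Lib.helper29.mem_pCore_of_pLength_one h0 hQ _ k
      rw [← map_pow, hk', map_one]
    have hOeq : pCore p (G ⧸ pPrimeCore p G) = ((P.mapSurjective hmk : Sylow p _) : Subgroup _) := by
      apply (P.mapSurjective hmk).3 hOp
      rintro a ⟨u, hu, rfl⟩
      exact hPO u hu
    set L : Subgroup G :=
      (pCore p (G ⧸ pPrimeCore p G)).comap (QuotientGroup.mk' (pPrimeCore p G)) with hL
    have hLn : L.Normal := Subgroup.Normal.comap hOn _
    have hPL : (P : Subgroup G) ≤ L := fun u hu => hPO u hu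
    have hfr : Subgroup.normalizer ((P : Subgroup G) : Set G) ⊔ L = ⊤ :=
      Sylow.normalizer_sup_eq_top' P hPL
    let φ : ↥(Subgroup.normalizer ((P : Subgroup G) : Set G)) →* G ⧸ pPrimeCore p G :=
      (QuotientGroup.mk' (pPrimeCore p G)).comp (Subgroup.normalizer ((P : Subgroup G) : Set G)).subtype
    have hsurj : Function.Surjective φ := by
      intro q
      obtain ⟨g, rfl⟩ := hmk q
      have hg : g ∈ Subgroup.normalizer ((P : Subgroup G) : Set G) ⊔ L := by rw [hfr]; trivial
      obtain ⟨n, hn, l, hl, rfl⟩ := Subgroup.mem_sup_of_normal_right.mp hg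
      have hl' : QuotientGroup.mk' (pPrimeCore p G) l ∈ pCore p (G ⧸ pPrimeCore p G) := hl
      rw [hOeq] at hl'
      obtain ⟨v, hv, hvl⟩ := hl'
      refine ⟨⟨n * v, Subgroup.mul_mem _ hn (hPN hv)⟩, ?_⟩
      show QuotientGroup.mk' (pPrimeCore p G) (n * v) = QuotientGroup.mk' (pPrimeCore p G) (n * l)
      rw [map_mul, map_mul, hvl]
    obtain ⟨n, ρ, hirr, hρ⟩ := ψ.2
    refine ⟨n, Cfsg.Agent.Lib.helper82.compRep φ ρ,
      (Cfsg.Agent.Lib.helper82.isIrreducible_comp_iff φ hsurj ρ).mpr hirr, ?_⟩
    funext x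
    rw [Cfsg.Agent.Lib.helper82.character_comp, hρ, ← hψ]
    rfl
  · -- irreducible restrictions: extend the characters of `N`, then Burnside and Tate
    intro hirr
    apply Cfsg.Agent.Lib.helper78.pLengthLE_one_of_normalClosure P
    apply Cfsg.Agent.Lib.helper78.hasNormalPComplement_normalClosure_of_extend P
    intro θ hdeg hA
    have hPNn : ((P : Subgroup G).subgroupOf
        (Subgroup.normalizer ((P : Subgroup G) : Set G))).Normal := Subgroup.normal_in_normalizer
    have hPNp : IsPGroup p ((P : Subgroup G).subgroupOf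
        (Subgroup.normalizer ((P : Subgroup G) : Set G))) := (P.subtype hPN).2
    have hθB : θ ∈ principalBlock M ↥(Subgroup.normalizer ((P : Subgroup G) : Set G)) := by
      apply Cfsg.Agent.Lib.helper78.mem_principalBlock_of_trivial_on_regular hM
        ((P : Subgroup G).subgroupOf (Subgroup.normalizer ((P : Subgroup G) : Set G))) hPNp θ hdeg
      intro c hc hreg
      apply hA c _ hreg
      intro u hu
      have h1 := (Subgroup.mem_centralizer_iff.mp hc) ⟨u, hPN hu⟩ (Subgroup.mem_subgroupOf.mpr hu)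
      exact (congrArg Subtype.val h1).symm
    have hCN : Subgroup.centralizer ((P : Subgroup G) : Set G)
        ≤ Subgroup.normalizer ((P : Subgroup G) : Set G) := by
      intro c hc
      rw [Subgroup.mem_centralizer_iff] at hc
      apply Cfsg.Agent.Lib.helper13.mem_normalizer_of_forall_conj_mem
      intro x hx
      have h1 : c * x * c⁻¹ = x := by rw [← hc x hx, mul_inv_cancel_right]
      rw [h1]; exact hx
    obtain ⟨χ, hχ, hne⟩ := Cfsg.Agent.Lib.helper78.exists_principal_classInner_ne_zero hM
      (P : Subgroup G) (Subgroup.normalizer ((P : Subgroup G) : Set G)) P.2 hPN hCN θ hθB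
    refine ⟨χ, ?_⟩
    have h1 := hirr χ hχ
    have hfun : (θ : ↥(Subgroup.normalizer ((P : Subgroup G) : Set G)) → ℂ)
        = (fun n : ↥(Subgroup.normalizer ((P : Subgroup G) : Set G)) => (χ : G → ℂ) n) := by
      by_contra hneq
      exact hne (Cfsg.Agent.Lib.helper4.classInner_irr_ne θ.2 h1 hneq)
    intro x
    exact (congrFun hfun x).symm

end Cfsg.Agent.S4711
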