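import Mathlib
import Cfsg.Statements.S4713
import Cfsg.Agent.S4493
import Cfsg.Agent.Lib.helper38.HallHigman2
import Cfsg.Agent.Lib.helper5.NormalDeg

set_option autoImplicit false
open Cfsg

namespace Cfsg.Agent.S4713

set_option linter.style.haveILetI false

open Cfsg.Agent.Lib

universe u

/-- In a nontrivial `p`-solvable group there is a proper normal subgroup whose index is a power
of `p` or prime to `p` (the last proper term of a `p`-series). -/
theorem exists_top_step {G : Type*} [Group G] [Nontrivial G] (p : ℕ)
    (h : Cfsg.IsPSolvable p G) :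
    ∃ M : Subgroup G, M.Normal ∧ M ≠ ⊤ ∧
      ((∃ a : ℕ, M.index = p ^ a) ∨ M.index.Coprime p) := by
  obtain ⟨n, H, h0, hlast, -, hnorm, hstep⟩ := h
  have key : ∀ i : Fin (n + 1), H i = ⊤ → ∃ M : Subgroup G, M.Normal ∧ M ≠ ⊤ ∧
      ((∃ a : ℕ, M.index = p ^ a) ∨ M.index.Coprime p) := by
    intro i
    induction i using Fin.induction with
    | zero =>
      intro h
      rw [h0] at h
      exact absurd h bot_ne_top
    | succ i ih =>
      intro h
      by_cases hi : H i.castSucc = ⊤
      · exact ih hi
      · refine ⟨H i.castSucc, hnorm _, hi, ?_⟩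
        have h1 := hstep i
        rw [h, Subgroup.relIndex_top_right] at h1
        exact h1
  exact key (Fin.last n) hlast

/-- A finite `p`-solvable group all of whose irreducible character degrees are prime to `p` has
a normal Sylow `p`-subgroup. -/
theorem normal_sylow_aux (p : ℕ) [hp : Fact p.Prime] :
    ∀ (n : ℕ) (G : Type u) [Group G] [Finite G], Nat.card G ≤ n → Cfsg.IsPSolvable p G →
      (∀ χ : Cfsg.IrrCharacter G, ¬ p ∣ Cfsg.charDegree (χ : G → ℂ)) →
      ∃ P : Sylow p G, (P : Subgroup G).Normal := by
  intro n
  induction n with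
  | zero =>
    intro G _ _ hc
    have := Nat.card_pos (α := G)
    omega
  | succ n ih =>
    intro G _ _ hcard hsolv hdeg
    classical
    have : Fintype G := Fintype.ofFinite G
    by_cases hO : ∃ O : Subgroup G, O.Normal ∧ IsPGroup p O ∧ O ≠ ⊥
    · obtain ⟨O, hOn, hOp, hOne⟩ := hO
      have := hOn
      have hlt : Nat.card (G ⧸ O) < Nat.card G := by
        have h1 : Nat.card G = Nat.card (G ⧸ O) * Nat.card O :=
          Subgroup.card_eq_card_quotient_mul_card_subgroup O
        have h2 : 1 < Nat.card O := (Subgroup.one_lt_card_iff_ne_bot O).mpr hOne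
        have h3 : 0 < Nat.card (G ⧸ O) := Nat.card_pos
        nlinarith
      have hdeg' : ∀ χ : Cfsg.IrrCharacter (G ⧸ O), ¬ p ∣ Cfsg.charDegree (χ : G ⧸ O → ℂ) := by
        intro χ
        exact hdeg ⟨_, helper82.isIrrCharacter_inflation O χ.2⟩
      obtain ⟨Pbar, hPbar⟩ := ih (G ⧸ O) (by omega) (helper38.isPSolvable_quotient O hsolv) hdeg'
      let P : Subgroup G := (Pbar : Subgroup (G ⧸ O)).comap (QuotientGroup.mk' O)
      have hPp : IsPGroup p P :=
        Pbar.2.comap_of_ker_isPGroup (QuotientGroup.mk' O)
          (by rw [QuotientGroup.ker_mk']; exact hOp)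
      have hPi : ¬ p ∣ P.index := by
        show ¬ p ∣ ((Pbar : Subgroup (G ⧸ O)).comap (QuotientGroup.mk' O)).index
        rw [Subgroup.index_comap_of_surjective _ (QuotientGroup.mk'_surjective O)]
        exact Pbar.not_dvd_index
      have hPn : P.Normal := hPbar.comap _
      exact ⟨hPp.toSylow hPi, hPn⟩
    · push Not at hO
      obtain ⟨P⟩ : Nonempty (Sylow p G) := inferInstance
      refine ⟨P, ?_⟩
      by_cases hnt : Nontrivial G
      swap
      · rw [not_nontrivial_iff_subsingleton] at hnt
        exact ⟨fun n hn g => by rwa [Subsingleton.elim (g * n * g⁻¹) n]⟩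
      have hB1 : ∀ N : Subgroup G, N.Normal → N ≠ ⊤ → ¬ p ∣ Nat.card N := by
        intro N hNn hNtop
        have := hNn
        have hlt : Nat.card N < Nat.card G := by
          have h1 : Nat.card N * N.index = Nat.card G := Subgroup.card_mul_index N
          have h2 : N.index ≠ 1 := fun h => hNtop (Subgroup.index_eq_one.mp h)
          have h3 : N.index ≠ 0 := Subgroup.index_ne_zero_of_finite
          have h4 : 0 < Nat.card N := Nat.card_pos
          have h5 : 2 ≤ N.index := by omega
          nlinarith
        obtain ⟨Q, hQ⟩ := ih N (by omega) (helper38.isPSolvable_subgroup N hsolv)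
          (S4493.not_dvd_degree_normal p N hdeg)
        have : (Q : Subgroup N).Characteristic := Sylow.characteristic_of_normal Q hQ
        have hn : ((Q : Subgroup N).map N.subtype).Normal :=
          ConjAct.normal_of_characteristic_of_normal
        have hbot := hO _ hn (Q.2.map N.subtype)
        have hQbot : (Q : Subgroup N) = ⊥ :=
          (Subgroup.map_eq_bot_iff_of_injective _ N.subtype_injective).mp hbot
        intro hdvd
        have := Q.not_dvd_index
        rw [hQbot, Subgroup.index_bot] at this
        exact this hdvd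
      have hPbot : ¬ p ∣ Nat.card P → (P : Subgroup G).Normal := by
        intro h2
        have h3 : (P : Subgroup G) = ⊥ := by
          obtain ⟨k, hk⟩ := IsPGroup.iff_card.mp P.2
          rcases Nat.eq_zero_or_pos k with rfl | hk0
          · rw [pow_zero] at hk
            exact Subgroup.card_eq_one.mp hk
          · exact absurd (hk ▸ dvd_pow_self p hk0.ne') h2
        rw [h3]; infer_instance
      obtain ⟨M, hMn, hMtop, hM⟩ := exists_top_step p hsolv
      haveI := hMn
      have hpM : ¬ p ∣ Nat.card M := hB1 M hMn hMtop
      rcases hM with ⟨a, ha⟩ | hcop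
      · have hin := fun θ => S4493.inertia_eq_top p M a ha hdeg θ
        have hcl := S4493.conj_isConj_of_inertia M hin
        have hcent := S4493.centralizes_of_classes p M P P.2 hpM hcl
        have hH : M ⊔ (P : Subgroup G) = ⊤ := by
          have h1 : (M ⊔ (P : Subgroup G)).index ∣ p ^ a :=
            ha ▸ Subgroup.index_dvd_of_le le_sup_left
          have h2 : (M ⊔ (P : Subgroup G)).index ∣ (P : Subgroup G).index :=
            Subgroup.index_dvd_of_le le_sup_right
          obtain ⟨j, -, hj⟩ := (Nat.dvd_prime_pow hp.out).mp h1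
          rcases Nat.eq_zero_or_pos j with rfl | hj0
          · rw [pow_zero] at hj
            exact Subgroup.index_eq_one.mp hj
          · exact absurd ((hj ▸ dvd_pow_self p hj0.ne').trans h2) P.not_dvd_index
        have hnorm : M ⊔ (P : Subgroup G) ≤ Subgroup.normalizer ((P : Subgroup G) : Set G) := by
          apply sup_le
          · intro m hm
            rw [Subgroup.mem_normalizer_iff]
            intro x
            constructor
            · intro hx
              have h1 := hcent m hm x hx
              have h2 : m * x * m⁻¹ = x := by rw [← h1]; group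
              rwa [h2]
            · intro hx
              have h1 := hcent m hm _ hx
              have h2 : m * x = m * (m * x * m⁻¹) := by rw [← h1]; group
              have h3 : x = m * x * m⁻¹ := mul_left_cancel h2
              rw [h3]; exact hx
          · exact Subgroup.le_normalizer
        rw [hH] at hnorm
        exact Subgroup.normalizer_eq_top_iff.mp (top_le_iff.mp hnorm)
      · apply hPbot
        intro hd
        have h3 : p ∣ Nat.card G := hd.trans (Subgroup.card_subgroup_dvd_card _)
        rw [← M.card_mul_index] at h3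
        rcases (Nat.Prime.dvd_mul hp.out).1 h3 with h | h
        · exact hpM h
        · exact (Nat.Prime.coprime_iff_not_dvd hp.out).1 hcop.symm h

/-- Let p be a prime and G a finite p-solvable group. Then G has a normal abelian Sylow p-subgroup if and only if the degree of every irreducible character of G is prime to p. -/
theorem result {G : Type*} [Group G] [Finite G] (p : ℕ) [Fact p.Prime] (hsolv : Cfsg.IsPSolvable p G) (P : Sylow p G) : ((P : Subgroup G).Normal ∧ IsMulCommutative P) ↔ ∀ χ : Cfsg.IrrCharacter G, ¬ p ∣ Cfsg.charDegree (χ : G → ℂ) := by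
  have hp : p.Prime := Fact.out
  constructor
  · rintro ⟨hPn, hPab⟩ χ hd
    have := hPn
    have hab : ∀ a ∈ (P : Subgroup G), ∀ b ∈ (P : Subgroup G), a * b = b * a := by
      intro a ha b hb
      have h := hPab.is_comm.comm (⟨a, ha⟩ : P) ⟨b, hb⟩
      exact congrArg Subtype.val h
    obtain ⟨d, hd1, hd2⟩ := helper82.ito_char (P : Subgroup G) hab χ.2
    rw [helper82.irr_one_eq χ] at hd1
    have hd3 : Cfsg.charDegree (χ : G → ℂ) = d := by exact_mod_cast hd1
    exact P.not_dvd_index ((hd3 ▸ hd).trans hd2)
  · intro h
    have : Fintype G := Fintype.ofFinite G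
    obtain ⟨P₀, hP₀n⟩ := normal_sylow_aux p (Nat.card G) G le_rfl hsolv h
    have hPP : P = P₀ := by
      haveI := Sylow.unique_of_normal P₀ hP₀n
      exact Subsingleton.elim _ _
    subst hPP
    refine ⟨hP₀n, ?_⟩
    have := hP₀n
    have hlin : ∀ θ : Cfsg.IrrCharacter P, (θ : P → ℂ) 1 = 1 := by
      intro θ
      have h1 := S4493.not_dvd_degree_normal p (P : Subgroup G) h θ
      have h2 := helper82.irr_degree_dvd_card θ
      obtain ⟨k, hk⟩ := IsPGroup.iff_card.mp P.2
      rw [hk] at h2
      obtain ⟨j, -, hj⟩ := (Nat.dvd_prime_pow hp).mp h2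
      rcases Nat.eq_zero_or_pos j with rfl | hj0
      · rw [helper82.irr_one_eq θ, hj]; simp
      · exact absurd (hj ▸ dvd_pow_self p hj0.ne') h1
    have hcomm := helper5.comm_of_all_linear hlin
    exact ⟨⟨fun a b => hcomm a b⟩⟩

end Cfsg.Agent.S4713
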