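import Cfsg.Statements.S4714
import Cfsg.Agent.Lib.helper84.CentralDefect

set_option autoImplicit false
open Cfsg

namespace Cfsg.Agent.S4714
open Cfsg.Agent.Lib.helper80 Cfsg.Agent.Lib.helper84 Cfsg.Agent.Lib.helper20 Cfsg.Agent.Lib.helper81 in

/-- Let p be a prime, M a maximal ideal of the algebraic integers containing p, D a p-subgroup of the finite group G with G = D·C_G(D), and B a p-block with defect group D. Let χ be a member of B having D in its kernel (there is exactly one, the canonical character of B). Then the irreducible characters in B are exactly the functions θ on G for which there is an irreducible character ζ of D such that θ(yx) = ζ(y)χ(x) whenever y ∈ D, x has order prime to p and x commutes with y, and θ(z) = 0 whenever the p-part of z does not lie in D. -/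
theorem result {G : Type*} [Group G] [Finite G] (p : ℕ) [Fact p.Prime] (M : Ideal Cfsg.AlgInt) (hM : Cfsg.IsPModular p M) (D : Subgroup G) (hD : IsPGroup p D) (hG : D ⊔ Subgroup.centralizer (D : Set G) = ⊤) (B : Set (Cfsg.IrrCharacter G)) (hB : Cfsg.IsPBlock M B) (hBD : Cfsg.IsDefectGroup p M B D) (χ : Cfsg.IrrCharacter G) (hχ : χ ∈ B) (hχD : ∀ y ∈ D, (χ : G → ℂ) y = (χ : G → ℂ) 1) : (∀ θ : Cfsg.IrrCharacter G, θ ∈ B ↔ ∃ ζ : Cfsg.IrrCharacter D, (∀ (y : D) (x : G), ¬ p ∣ orderOf x → Commute (y : G) x → (θ : G → ℂ) ((y : G) * x) = (ζ : D → ℂ) y * (χ : G → ℂ) x) ∧ (∀ z : G, (∀ y : G, Cfsg.IsPPart p z y → y ∉ D) → (θ : G → ℂ) z = 0)) ∧ ∀ ζ : Cfsg.IrrCharacter D, ∃ θ ∈ B, (∀ (y : D) (x : G), ¬ p ∣ orderOf x → Commute (y : G) x → (θ : G → ℂ) ((y : G) * x) = (ζ : D → ℂ) y * (χ : G → ℂ) x) ∧ (∀ z : G, (∀ y : G, Cfsg.IsPPart p z y → y ∉ D) → (θ : G → ℂ) z = 0) := by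
  classical
  have hp := (Fact.out : p.Prime)
  have : Fintype G := Fintype.ofFinite G
  have : Fintype D := Fintype.ofFinite D
  have hMp := isPrime_of_isPModular hM
  -- members of `B` have the stated shape, with `ζ` the character of `D` under them
  have hA : ∀ θ : Cfsg.IrrCharacter G, θ ∈ B → ∀ (μ : Cfsg.IrrCharacter D) (e : ℕ), e ≠ 0 →
      (∀ u : D, (θ : G → ℂ) u = e * (μ : D → ℂ) u) →
      (∀ (y : D) (x : G), ¬ p ∣ orderOf x → Commute (y : G) x →
        (θ : G → ℂ) ((y : G) * x) = (μ : D → ℂ) y * (χ : G → ℂ) x) ∧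
      (∀ z : G, (∀ y : G, Cfsg.IsPPart p z y → y ∉ D) → (θ : G → ℂ) z = 0) := by
    intro θ hθ μ e he hμ
    constructor
    · intro y x hx _
      have h1 := irr_mul_pRegular hD hG θ μ e he hμ y x hx
      have h2 := irr_pRegular_eq_mul hM hB hBD hG hχ hχD hθ μ e he hμ x hx
      have hμ1 := irr_one_ne_zero μ
      rw [h1, h2]
      field_simp
    · intro z hz
      obtain ⟨a, ha⟩ := exists_isPPart_zpow hp z
      exact irr_eq_zero_of_pPart_not_mem hM hB hBD hG hθ z _ ha (hz _ ha)
  constructor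
  · intro θ
    constructor
    · intro hθ
      obtain ⟨μ, e, he, hμ⟩ := exists_irr_restrict_left hG θ
      exact ⟨μ, hA θ hθ μ e he hμ⟩
    · rintro ⟨ζ, h1, -⟩
      have hζ1 := irr_one_ne_zero ζ
      have hχ1 := irr_one_ne_zero χ
      have hreg1 : ¬ p ∣ orderOf (1 : G) := by
        rw [orderOf_one]
        exact hp.not_dvd_one
      have hval : ∀ x : G, ¬ p ∣ orderOf x →
          (θ : G → ℂ) x = (ζ : D → ℂ) 1 * (χ : G → ℂ) x := by
        intro x hx
        have h2 := h1 1 x hx (by rw [Subgroup.coe_one]; exact Commute.one_left x)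
        rw [Subgroup.coe_one, one_mul] at h2
        exact h2
      have hsame : Cfsg.SameBlock M (χ : G → ℂ) (θ : G → ℂ) := by
        apply sameBlock_of_pRegular hM χ θ
        intro g hg
        have h3 : Cfsg.centralChar (θ : G → ℂ) g = Cfsg.centralChar (χ : G → ℂ) g := by
          unfold Cfsg.centralChar
          rw [hval g hg, hval 1 hreg1]
          field_simp
        rw [h3, sub_self]
        exact memLocalIdeal_zero hMp
      rw [eq_blockOf_of_mem hMp hB hχ]
      exact hsame
  · intro ζ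
    choose mu ep hep hmu using fun χ' : Cfsg.IrrCharacter G => exists_irr_restrict_left hG χ'
    have hD' := hBD
    obtain ⟨y₀, hy₀, -⟩ := hD'
    have hreg := not_dvd_orderOf_of_isDefectClass hM hB hy₀
    have key := sum_block_fiber hM hB hD hG mu ep hmu ζ y₀ hreg
    have hne : (∑ χ' : Cfsg.IrrCharacter G,
        if χ' ∈ B ∧ mu χ' = ζ then (ep χ' : ℂ) * (χ' : G → ℂ) y₀ else 0) ≠ 0 := by
      intro h0
      rw [h0, zero_mul] at key
      have h1 : Cfsg.blockCoeff B y₀ = 0 := by
        rcases mul_eq_zero.mp key.symm with h | h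
        · exact absurd h (irr_one_ne_zero ζ)
        · rcases mul_eq_zero.mp h with h | h
          · exact absurd h (by exact_mod_cast Nat.card_pos.ne')
          · simpa using h
      apply hy₀.2.1
      rw [h1]
      exact memLocalIdeal_zero hMp
    obtain ⟨θ, -, hθne⟩ := Finset.exists_ne_zero_of_sum_ne_zero hne
    have hθc : θ ∈ B ∧ mu θ = ζ := by
      by_contra h
      exact hθne (if_neg h)
    have h2 := hA θ hθc.1 (mu θ) (ep θ) (hep θ) (hmu θ)
    rw [hθc.2] at h2
    exact ⟨θ, hθc.1, h2⟩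

end Cfsg.Agent.S4714
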