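import Cfsg.Statements.S4715
import Cfsg.Agent.Lib.helper81.HtGram
import Cfsg.Agent.Lib.helper81.HtFusion
import Cfsg.Agent.Lib.helper81.HtCover
import Cfsg.Agent.Lib.helper81.HtLower
import Cfsg.Agent.Lib.helper81.HtUpper
import Cfsg.Agent.Lib.helper79.Contrib
import Cfsg.Agent.Lib.helper83.CharBasic2

set_option autoImplicit false
open Cfsg

namespace Cfsg.Agent.S4715

open Cfsg.Agent.Lib

theorem sum_subgroup_eq {G : Type*} [Group G] [Fintype G] (Z : Subgroup G) [Fintype Z]
    [DecidablePred (· ∈ Z)] (F : G → ℝ) :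
    ∑ z : Z, F z = ∑ z : G, if z ∈ Z then F z else 0 := by
  rw [← Finset.sum_filter]
  exact (Finset.sum_subtype (Finset.univ.filter (· ∈ Z)) (by simp) F).symm

/-- Let p be a prime, M a maximal ideal of the algebraic integers containing p, B a p-block of the finite group G with defect group D of order p^d, H = D·C_G(D), b a block of H inducing B, T the stabilizer of b in N_G(D) and e = [T : H] the inertial index of B; let n be the integer with p^n ≤ e < p^(n+1) and p^c the order of the centre of D. Then every irreducible character in B has height h with h + c ≤ n + d. -/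
theorem result {G : Type*} [Group G] [Finite G] (p : ℕ) [Fact p.Prime] (M : Ideal Cfsg.AlgInt) (hM : Cfsg.IsPModular p M) (B : Set (Cfsg.IrrCharacter G)) (hB : Cfsg.IsPBlock M B) (D : Subgroup G) (hBD : Cfsg.IsDefectGroup p M B D) (d : ℕ) (hDd : Nat.card D = p ^ d) (H : Subgroup G) (hH : H = D ⊔ Subgroup.centralizer (D : Set G)) (b : Set (Cfsg.IrrCharacter H)) (hind : Cfsg.IsInducedBlock M H b B) (T : Subgroup G) (hT : ∀ g : G, g ∈ T ↔ (g ∈ Subgroup.normalizer (D : Set G) ∧ ∀ θ ∈ b, ∀ θ' : Cfsg.IrrCharacter H, (∀ h h' : H, (h' : G) = g * h * g⁻¹ → (θ' : H → ℂ) h' = (θ : H → ℂ) h) → θ' ∈ b)) (e : ℕ) (he : H.relIndex T = e) (n : ℕ) (hn : p ^ n ≤ e ∧ e < p ^ (n + 1)) (c : ℕ) (hc : Nat.card (Subgroup.center D) = p ^ c) : ∀ χ ∈ B, Cfsg.blockHeight p B (χ : G → ℂ) + c ≤ n + d := by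
  classical
  have : Fintype G := Fintype.ofFinite G
  have hp : p.Prime := Fact.out
  have hMp := helper20.isPrime_of_isPModular hM
  intro χ hχ
  obtain ⟨eD, hmax, hstab⟩ := helper81.cover_pair hM hB hBD H hH hind
  have hPe : IsBrauerPair p M D eD := hmax.1.1
  obtain ⟨Z, hZdef⟩ : ∃ Z : Subgroup G, Z = (Subgroup.center D).map D.subtype := ⟨_, rfl⟩
  have hZD : Z ≤ D := by
    rw [hZdef]
    exact Subgroup.map_subtype_le _
  have hZc : D ≤ Subgroup.centralizer (Z : Set G) := by
    intro x hx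
    rw [Subgroup.mem_centralizer_iff]
    intro z hz
    rw [hZdef] at hz
    obtain ⟨z', hz', rfl⟩ := hz
    have h1 := Subgroup.mem_center_iff.mp hz' ⟨x, hx⟩
    have h2 := congrArg Subtype.val h1
    simpa using h2.symm
  have hZcard : Nat.card Z = p ^ c := by
    rw [hZdef, Subgroup.card_map_of_injective D.subtype_injective]
    exact hc
  have : ∀ Q : Subgroup G, Fintype (Subgroup.centralizer (Q : Set G)) :=
    fun Q => Fintype.ofFinite _
  have : Fintype Z := Fintype.ofFinite _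
  have hex : ∀ Q : Subgroup G, ∃ f : Set (IrrCharacter (Subgroup.centralizer (Q : Set G))),
      Q ≤ D → SubpairLE p M Q f D eD := by
    intro Q
    by_cases hQ : Q ≤ D
    · obtain ⟨f, -, hf⟩ := helper80.exists_subpairLE hM _ D Q eD hPe hQ rfl
      exact ⟨f, fun _ => hf⟩
    · exact ⟨∅, fun h => absurd h hQ⟩
  choose fb hfb' using hex
  have hfb : ∀ z ∈ Z, SubpairLE p M (Subgroup.zpowers z) (fb (Subgroup.zpowers z)) D eD :=
    fun z hz => hfb' _ (Subgroup.zpowers_le.mpr (hZD hz))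
  obtain ⟨ψ₀, hψ₀, h0⟩ := helper79.exists_height_zero (p := p) hM hB
  have hlow := helper81.lower_bound hM hB hmax fb Z hZD hZc hfb hχ hψ₀ h0
  have hTsub : ∀ g : G, g ∈ Subgroup.normalizer (D : Set G) →
      StabilizesBlock (Subgroup.centralizer (D : Set G)) eD g → g ∈ T :=
    fun g hgN hgS => (hT g).mpr ⟨hgN, hstab g hgN hgS⟩
  have hHZ : ∀ h ∈ H, ∀ z ∈ Z, h * z = z * h := by
    intro h hh z hz
    have hle : H ≤ Subgroup.centralizer (Z : Set G) := by
      rw [hH]
      exact sup_le hZc (Subgroup.centralizer_le hZD)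
    exact ((Subgroup.mem_centralizer_iff.mp (hle hh)) z hz).symm
  have hup : ∀ φ : IrrCharacter G, ∑ z : G, (if z ∈ Z then
      helper81.gnorm p (Subgroup.centralizer ((Subgroup.zpowers z : Subgroup G) : Set G))
        (fb (Subgroup.zpowers z)) z (φ : G → ℂ) else 0) ≤ (H.relIndex T : ℝ) :=
    fun φ => helper81.upper_bound hM hmax fb Z hZD hZc hfb T H hTsub hHZ φ
      (helper83.isClassFunction_irr φ) (le_of_eq (helper79.sum_norm_sq_irr φ))
  -- Cauchy–Schwarz
  have hup' : ∀ φ : IrrCharacter G, ∑ z : Z,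
      helper81.gnorm p (Subgroup.centralizer ((Subgroup.zpowers (z : G) : Subgroup G) : Set G))
        (fb (Subgroup.zpowers (z : G))) (z : G) (φ : G → ℂ) ≤ (e : ℝ) := by
    intro φ
    rw [← he]
    refine le_trans (le_of_eq ?_) (hup φ)
    exact sum_subgroup_eq Z (fun z => helper81.gnorm p
      (Subgroup.centralizer ((Subgroup.zpowers z : Subgroup G) : Set G))
      (fb (Subgroup.zpowers z)) z (φ : G → ℂ))
  have hCS : ∑ z : Z, ‖helper79.gram p
        (Subgroup.centralizer ((Subgroup.zpowers (z : G) : Subgroup G) : Set G))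
        (fb (Subgroup.zpowers (z : G))) (z : G) (χ : G → ℂ) (ψ₀ : G → ℂ)‖ ≤ (e : ℝ) := by
    calc ∑ z : Z, ‖helper79.gram p
          (Subgroup.centralizer ((Subgroup.zpowers (z : G) : Subgroup G) : Set G))
          (fb (Subgroup.zpowers (z : G))) (z : G) (χ : G → ℂ) (ψ₀ : G → ℂ)‖
        ≤ ∑ z : Z, √(helper81.gnorm p
            (Subgroup.centralizer ((Subgroup.zpowers (z : G) : Subgroup G) : Set G))
            (fb (Subgroup.zpowers (z : G))) (z : G) (χ : G → ℂ)) *
          √(helper81.gnorm p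
            (Subgroup.centralizer ((Subgroup.zpowers (z : G) : Subgroup G) : Set G))
            (fb (Subgroup.zpowers (z : G))) (z : G) (ψ₀ : G → ℂ)) :=
          Finset.sum_le_sum (fun z _ => helper81.norm_gram_le p _ _ _ _ _)
      _ ≤ √(∑ z : Z, helper81.gnorm p
            (Subgroup.centralizer ((Subgroup.zpowers (z : G) : Subgroup G) : Set G))
            (fb (Subgroup.zpowers (z : G))) (z : G) (χ : G → ℂ)) *
          √(∑ z : Z, helper81.gnorm p
            (Subgroup.centralizer ((Subgroup.zpowers (z : G) : Subgroup G) : Set G))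
            (fb (Subgroup.zpowers (z : G))) (z : G) (ψ₀ : G → ℂ)) :=
          Real.sum_sqrt_mul_sqrt_le Finset.univ
            (fun z => helper81.gnorm_nonneg p _ _ _ _) (fun z => helper81.gnorm_nonneg p _ _ _ _)
      _ ≤ √(e : ℝ) * √(e : ℝ) :=
          mul_le_mul (Real.sqrt_le_sqrt (hup' χ)) (Real.sqrt_le_sqrt (hup' ψ₀))
            (Real.sqrt_nonneg _) (Real.sqrt_nonneg _)
      _ = (e : ℝ) := Real.mul_self_sqrt (Nat.cast_nonneg _)
  have hDd' := helper79.card_eq_of_isDefectGroup hM hB hBD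
  have hdB : blockDefect p B = d := by
    rw [hDd] at hDd'
    exact (Nat.pow_right_injective hp.two_le hDd').symm
  rw [hZcard, hdB] at hlow
  have hpr : (0 : ℝ) < (p : ℝ) := by exact_mod_cast hp.pos
  have h1 : ((p ^ c : ℕ) : ℝ) * (p : ℝ) ^ blockHeight p B (χ : G → ℂ) ≤ (p : ℝ) ^ d * (e : ℝ) :=
    hlow.trans (mul_le_mul_of_nonneg_left hCS (by positivity))
  have h2 : p ^ c * p ^ blockHeight p B (χ : G → ℂ) ≤ p ^ d * e := by exact_mod_cast h1
  have h3 : p ^ (c + blockHeight p B (χ : G → ℂ)) < p ^ (d + (n + 1)) := by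
    rw [pow_add, pow_add]
    exact lt_of_le_of_lt h2 (Nat.mul_lt_mul_of_pos_left hn.2 (pow_pos hp.pos d))
  have h4 := (Nat.pow_lt_pow_iff_right hp.one_lt).mp h3
  omega

end Cfsg.Agent.S4715
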