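import Cfsg.Statements.S4717
import Cfsg.Agent.Lib.helper81.BrauerCorr
import Cfsg.Agent.Lib.helper79.DefectDeg
import Cfsg.Agent.S0936
import Cfsg.Agent.S0917
import Cfsg.Agent.S0919
-- import your own Cfsg.Agent.* helpers here

set_option autoImplicit false
open Cfsg

namespace Cfsg.Agent.S4717

open Cfsg.Agent.Lib.helper81 Cfsg.Agent.Lib.helper20

/-- The cyclic subgroup of a `p`-element `y` and its centralizer: the standing inclusions. -/
theorem zpowers_setup {G : Type*} [Group G] [Finite G] (p : ℕ) [Fact p.Prime] (y : G)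
    (hy : ∃ k : ℕ, orderOf y = p ^ k) :
    IsPGroup p (Subgroup.zpowers y) ∧
    Subgroup.zpowers y ≤ Subgroup.centralizer ({y} : Set G) ∧
    Subgroup.centralizer ((Subgroup.zpowers y : Subgroup G) : Set G)
      ≤ Subgroup.centralizer ({y} : Set G) ∧
    Subgroup.centralizer ({y} : Set G)
      ≤ Subgroup.normalizer ((Subgroup.zpowers y : Subgroup G) : Set G) := by
  obtain ⟨k, hk⟩ := hy
  have h1 : IsPGroup p (Subgroup.zpowers y) := by
    apply IsPGroup.of_card (n := k)
    rw [Nat.card_zpowers, hk]
  have h2 : Subgroup.zpowers y ≤ Subgroup.centralizer ({y} : Set G) := by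
    rw [Subgroup.zpowers_le, Subgroup.mem_centralizer_iff]
    intro g hg
    rw [Set.mem_singleton_iff] at hg
    rw [hg]
  have h3 : Subgroup.centralizer ((Subgroup.zpowers y : Subgroup G) : Set G)
      ≤ Subgroup.centralizer ({y} : Set G) := by
    apply Subgroup.centralizer_le
    intro g hg
    rw [Set.mem_singleton_iff] at hg
    rw [hg]
    exact Subgroup.mem_zpowers y
  have h4 : Subgroup.centralizer ({y} : Set G)
      ≤ Subgroup.centralizer ((Subgroup.zpowers y : Subgroup G) : Set G) := by
    intro z hz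
    rw [Subgroup.mem_centralizer_iff] at hz ⊢
    intro m hm
    obtain ⟨j, rfl⟩ := Subgroup.mem_zpowers_iff.mp hm
    have h5 : Commute y z := hz y (Set.mem_singleton y)
    exact (h5.zpow_left j).eq
  exact ⟨h1, h2, h3, h4.trans (Subgroup.centralizer_le_normalizer _)⟩

/-- Let p be a prime, M a maximal ideal of the algebraic integers containing p, and r a natural number; say that a finite group X has deficiency class r when X has no non-principal p-block of defect ≥ r. If G has deficiency class r then so does the centralizer of every p-element of G; conversely, if r > 0 and the centralizer of every element of order p has deficiency class r, then G has deficiency class r. -/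
theorem result {G : Type*} [Group G] [Finite G] (p : ℕ) [Fact p.Prime] (M : Ideal Cfsg.AlgInt) (hM : Cfsg.IsPModular p M) (r : ℕ) : ((∀ B' : Set (Cfsg.IrrCharacter G), Cfsg.IsPBlock M B' → B' ≠ Cfsg.principalBlock M G → Cfsg.blockDefect p B' < r) → ∀ y : G, (∃ k : ℕ, orderOf y = p ^ k) → (∀ B' : Set (Cfsg.IrrCharacter ↥(Subgroup.centralizer ({y} : Set G))), Cfsg.IsPBlock M B' → B' ≠ Cfsg.principalBlock M ↥(Subgroup.centralizer ({y} : Set G)) → Cfsg.blockDefect p B' < r)) ∧ (0 < r → (∀ y : G, orderOf y = p → (∀ B' : Set (Cfsg.IrrCharacter ↥(Subgroup.centralizer ({y} : Set G))), Cfsg.IsPBlock M B' → B' ≠ Cfsg.principalBlock M ↥(Subgroup.centralizer ({y} : Set G)) → Cfsg.blockDefect p B' < r)) → (∀ B' : Set (Cfsg.IrrCharacter G), Cfsg.IsPBlock M B' → B' ≠ Cfsg.principalBlock M G → Cfsg.blockDefect p B' < r)) := by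
  classical
  have := Fintype.ofFinite G
  have hp : p.Prime := Fact.out
  have hMp := isPrime_of_isPModular hM
  constructor
  · intro h y hy b hb hbne
    obtain ⟨hP, hPH, hCH, hHN⟩ := zpowers_setup p y hy
    have hdef := Cfsg.Agent.S0919.result p M hM (Subgroup.zpowers y)
      (Subgroup.centralizer ({y} : Set G)) hP hPH hCH hHN b hb
    obtain ⟨B, hind⟩ := hdef
    have hB : IsPBlock M B := hind.2.1
    have hBne : B ≠ principalBlock M G := by
      intro hBeq
      rw [hBeq] at hind
      exact hbne ((Cfsg.Agent.S0936.result p M hM _ b ⟨_, hind⟩).1 hind)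
    have h1 := h B hB hBne
    have : Fintype (Subgroup.centralizer ({y} : Set G)) := Fintype.ofFinite _
    obtain ⟨Db, hDb⟩ := Cfsg.Agent.Lib.helper80.exists_isDefectGroup p hMp hb
    obtain ⟨E, hE, hle⟩ := Cfsg.Agent.S0917.result p M hM _ b hb B hB hind Db hDb
    have hc1 := Cfsg.Agent.Lib.helper79.card_eq_of_isDefectGroup hM hb hDb
    have hc2 := Cfsg.Agent.Lib.helper79.card_eq_of_isDefectGroup hM hB hE
    have hc3 : Nat.card (Db.map (Subgroup.centralizer ({y} : Set G)).subtype) = Nat.card Db :=
      Subgroup.card_map_of_injective (Subgroup.subtype_injective _)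
    have hc4 := Subgroup.card_le_of_le hle
    rw [hc3, hc1, hc2] at hc4
    have hc5 := (Nat.pow_le_pow_iff_right hp.one_lt).1 hc4
    omega
  · intro hr h B hB hBne
    by_contra hcon
    rw [not_lt] at hcon
    obtain ⟨D, hD⟩ := Cfsg.Agent.Lib.helper80.exists_isDefectGroup p hMp hB
    have hcard := Cfsg.Agent.Lib.helper79.card_eq_of_isDefectGroup hM hB hD
    have hDp : IsPGroup p D := Cfsg.Agent.Lib.helper80.IsDefectGroup.isPGroup hD
    have hDnt : Nontrivial D := by
      rw [← Finite.one_lt_card_iff_nontrivial, hcard]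
      exact Nat.one_lt_pow (by omega) hp.one_lt
    have hZnt : Nontrivial (Subgroup.center D) := hDp.center_nontrivial
    have hZp : IsPGroup p (Subgroup.center D) := hDp.to_subgroup _
    have hZdvd : p ∣ Nat.card (Subgroup.center D) := by
      obtain ⟨n, hn⟩ := IsPGroup.iff_card.mp hZp
      rw [hn]
      have hn0 : n ≠ 0 := by
        rintro rfl
        rw [pow_zero] at hn
        have := Finite.one_lt_card_iff_nontrivial.mpr hZnt
        omega
      exact dvd_pow_self p hn0
    obtain ⟨z, hz⟩ := exists_prime_orderOf_dvd_card' p hZdvd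
    obtain ⟨y, hydef⟩ : ∃ y : G, y = ((z : D) : G) := ⟨_, rfl⟩
    have hyord : orderOf y = p := by
      rw [hydef, Subgroup.orderOf_coe, Subgroup.orderOf_coe, hz]
    have hyD : y ∈ D := by
      rw [hydef]
      exact (z : D).2
    have hycomm : ∀ d ∈ D, d * y = y * d := by
      intro d hd
      have h1 := Subgroup.mem_center_iff.mp z.2 ⟨d, hd⟩
      have h2 := congrArg Subtype.val h1
      rw [hydef]
      exact h2
    obtain ⟨hP, hPH, hCH, hHN⟩ := zpowers_setup p y ⟨1, by rw [hyord, pow_one]⟩
    obtain ⟨g, hg, hsyl⟩ := (Cfsg.Agent.Lib.helper80.isDefectGroup_iff p M B D).mp hD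
    have hDg : D ≤ Subgroup.centralizer ({g} : Set G) := hsyl.le
    have hgy : g * y = y * g :=
      Cfsg.Agent.Lib.helper80.mem_centralizer_singleton.mp (hDg hyD)
    have hgC : g ∈ Subgroup.centralizer ((Subgroup.zpowers y : Subgroup G) : Set G) := by
      rw [Subgroup.mem_centralizer_iff]
      intro m hm
      obtain ⟨j, rfl⟩ := Subgroup.mem_zpowers_iff.mp hm
      have h5 : Commute y g := hgy.symm
      exact (h5.zpow_left j).eq
    have : Fintype (Subgroup.centralizer ({y} : Set G)) := Fintype.ofFinite _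
    obtain ⟨b, hb, ⟨θ, hθ, χ, hχ, hbr⟩, hnot⟩ := exists_block_brInd_of_blockCoeff hM
      (Subgroup.zpowers y) (Subgroup.centralizer ({y} : Set G)) hP hCH hHN hB g hgC hg.2.1
    have hind : IsInducedBlock M (Subgroup.centralizer ({y} : Set G)) b B := by
      rw [Cfsg.Agent.Lib.helper80.isInducedBlock_iff_brInd hM (Subgroup.zpowers y)
        (Subgroup.centralizer ({y} : Set G)) hP hPH hCH hHN hb hB]
      intro ξ hξ χ' hχ'
      exact Cfsg.Agent.Lib.helper80.BrInd.congr_right hMp
        (Cfsg.Agent.Lib.helper80.BrInd.congr_left hMp hHN hbr (sameBlock_of_mem hMp hb hθ hξ))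
        (sameBlock_of_mem hMp hB hχ hχ')
    have hbne : b ≠ principalBlock M (Subgroup.centralizer ({y} : Set G)) := by
      intro hbeq
      have h1 := (Cfsg.Agent.S0936.result p M hM _ b ⟨_, hind⟩).2 hbeq
      rw [Cfsg.Agent.Lib.helper80.isInducedBlock_iff_brInd hM (Subgroup.zpowers y)
        (Subgroup.centralizer ({y} : Set G)) hP hPH hCH hHN hb isPBlock_principalBlock] at h1
      have h2 := h1 θ hθ (trivChar G) (trivChar_mem_principalBlock hMp)
      have h3 := Cfsg.Agent.Lib.helper80.BrInd.sameBlock hMp h2 hbr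
      have h4 : χ ∈ principalBlock M G :=
        mem_of_sameBlock hMp isPBlock_principalBlock (trivChar_mem_principalBlock hMp) h3
      exact hBne (isPBlock_eq_of_mem hMp hB isPBlock_principalBlock hχ h4)
    have h1 := h y hyord b hb hbne
    have h2 := Cfsg.Agent.Lib.helper79.factorization_card_centralizer_le_blockDefect hM hb _ hnot
    -- `D` sits in the centralizer of `g` inside `C_G(y)`
    have hDH : D ≤ Subgroup.centralizer ({y} : Set G) := by
      intro d hd
      exact Cfsg.Agent.Lib.helper80.mem_centralizer_singleton.mpr (hycomm d hd).symm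
    have hle : D.subgroupOf (Subgroup.centralizer ({y} : Set G)) ≤
        Subgroup.centralizer ({(⟨g, hCH hgC⟩ : Subgroup.centralizer ({y} : Set G))} : Set _) := by
      intro d hd
      rw [Subgroup.mem_subgroupOf] at hd
      rw [Cfsg.Agent.Lib.helper80.mem_centralizer_singleton]
      apply Subtype.ext
      exact Cfsg.Agent.Lib.helper80.mem_centralizer_singleton.mp (hDg hd)
    have hc1 : Nat.card (D.subgroupOf (Subgroup.centralizer ({y} : Set G))) = Nat.card D :=
      Nat.card_congr (Subgroup.subgroupOfEquivOfLe hDH).toEquiv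
    have hc2 := Subgroup.card_dvd_of_le hle
    rw [hc1, hcard] at hc2
    have hc3 := (Nat.Prime.pow_dvd_iff_le_factorization hp Nat.card_pos.ne').1 hc2
    omega

end Cfsg.Agent.S4717
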