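import Cfsg.Statements.S4718
import Cfsg.Agent.Lib.helper81.Landau
import Cfsg.Agent.Lib.helper81.Blocks
import Cfsg.Agent.Lib.helper79.BrauerFeit
import Cfsg.Agent.Lib.helper83.CharBasic2
-- import your own Cfsg.Agent.* helpers here

set_option autoImplicit false
universe u
open Cfsg

namespace Cfsg.Agent.S4718

/-- Let p be a prime and a a natural number. There is a bound N such that every finite group whose Sylow p-subgroups have order p^a and whose only p-block (relative to a maximal ideal of the algebraic integers containing p) is the principal block has order at most N. -/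
theorem result (p : ℕ) [Fact p.Prime] (a : ℕ) : ∃ N : ℕ, ∀ (G : Type u) [Group G] [Finite G] (M : Ideal Cfsg.AlgInt), Cfsg.IsPModular p M → (Nat.card G).factorization p = a → (∀ B : Set (Cfsg.IrrCharacter G), Cfsg.IsPBlock M B → B = Cfsg.principalBlock M G) → Nat.card G ≤ N := by
  classical
  have hp : p.Prime := Fact.out
  obtain ⟨N, hN⟩ := Cfsg.Agent.Lib.helper81.exists_card_bound_of_card_conjClasses.{u}
    ((p ^ (2 * a) + 4) / 4)
  refine ⟨N, fun G _ _ M hM ha hB => hN G ?_⟩
  have hMp := Cfsg.Agent.Lib.helper20.isPrime_of_isPModular hM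
  rw [← Cfsg.Agent.Lib.helper83.card_irr_eq_card_conjClasses]
  have hall : ∀ χ : Cfsg.IrrCharacter G, χ ∈ Cfsg.principalBlock M G := by
    intro χ
    have h1 := hB (Cfsg.blockOf M (χ : G → ℂ)) (Cfsg.Agent.Lib.helper81.isPBlock_blockOf χ)
    rw [← h1]
    exact Cfsg.Agent.Lib.helper81.mem_blockOf_self hMp χ
  have huniv : Cfsg.principalBlock M G = Set.univ := Set.eq_univ_of_forall hall
  have hcard : Nat.card (Cfsg.IrrCharacter G) = Nat.card (Cfsg.principalBlock M G) := by
    rw [huniv]
    exact (Nat.card_congr (Equiv.Set.univ _)).symm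
  have hbf := Cfsg.Agent.Lib.helper79.brauer_feit hM
    (Cfsg.Agent.Lib.helper81.isPBlock_principalBlock (M := M) (G := G))
  have hd : Cfsg.blockDefect p (Cfsg.principalBlock M G) ≤ a := by
    unfold Cfsg.blockDefect
    rw [ha]
    exact Nat.sub_le _ _
  have hpow : p ^ (2 * Cfsg.blockDefect p (Cfsg.principalBlock M G)) ≤ p ^ (2 * a) :=
    Nat.pow_le_pow_right hp.pos (by omega)
  rw [hcard]
  omega

end Cfsg.Agent.S4718
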