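import Cfsg.Statements.S4719
import Cfsg.Agent.Lib.helper81.DcStep
import Cfsg.Agent.Lib.helper81.DcComp
import Cfsg.Agent.Lib.helper81.Landau
import Cfsg.Agent.Lib.helper79.BrauerFeit
import Cfsg.Agent.Lib.helper83.CharBasic2

set_option autoImplicit false
universe u
open Cfsg

namespace Cfsg.Agent.S4719

/-- For every natural number a there is a bound N with the following property. Let G be a finite group with Sylow 2-subgroups of order 2^a and r ≥ 0 such that G has no non-principal 2-block (relative to a maximal ideal of the algebraic integers containing 2) of defect ≥ r, and suppose a Sylow 2-subgroup of G contains an elementary abelian subgroup of order 2^(r+1). Then the order of G is at most N. -/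
theorem result (a : ℕ) : ∃ N : ℕ, ∀ (G : Type u) [Group G] [Finite G] (M : Ideal Cfsg.AlgInt) (r : ℕ) (P : Sylow 2 G), Cfsg.IsPModular 2 M → Nat.card P = 2 ^ a → (∀ B : Set (Cfsg.IrrCharacter G), Cfsg.IsPBlock M B → B ≠ Cfsg.principalBlock M G → Cfsg.blockDefect 2 B < r) → (∃ E : Subgroup G, E ≤ (P : Subgroup G) ∧ IsMulCommutative E ∧ (∀ x ∈ E, x * x = 1) ∧ Nat.card E = 2 ^ (r + 1)) → Nat.card G ≤ N := by
  induction a using Nat.strong_induction_on with
  | _ a ih =>
    choose f hf using ih
    obtain ⟨g, hg⟩ : ∃ g : ℕ → ℕ, ∀ m (hm : m < a), g m = f m hm :=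
      ⟨fun m => if h : m < a then f m h else 0, fun m hm => dif_pos hm⟩
    obtain ⟨c, hc⟩ : ∃ c : ℕ, ∀ m < a, 2 * g m ≤ c :=
      ⟨2 * ∑ m ∈ Finset.range a, g m, fun m hm => Nat.mul_le_mul_left 2
        (Finset.single_le_sum (f := g) (fun _ _ => Nat.zero_le _) (Finset.mem_range.mpr hm))⟩
    obtain ⟨N₁, hN₁⟩ :=
      Cfsg.Agent.Lib.helper81.exists_card_bound_of_card_conjClasses.{u} (2 ^ (2 * a) + 4)
    obtain ⟨N₂, hN₂⟩ := Cfsg.Agent.Lib.helper81.dc_card_le_of_involutions.{u} a c
    refine ⟨max N₁ N₂, ?_⟩
    intro G _ _ M r P hM hP hblocks hE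
    obtain ⟨E, hEP, hEc, hEe, hEcard⟩ := hE
    classical
    have hF2 : Fact (Nat.Prime 2) := ⟨Nat.prime_two⟩
    have hMp := Cfsg.Agent.Lib.helper20.isPrime_of_isPModular hM
    rcases Nat.eq_zero_or_pos r with hr | hr
    · refine le_trans (hN₁ G ?_) (le_max_left _ _)
      have hall : principalBlock M G = Set.univ := by
        rw [Set.eq_univ_iff_forall]
        intro χ
        by_contra hχ
        have hB : IsPBlock M (blockOf M (χ : G → ℂ)) :=
          Cfsg.Agent.Lib.helper81.isPBlock_blockOf χ
        have hne : blockOf M (χ : G → ℂ) ≠ principalBlock M G := by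
          intro h
          exact hχ (h ▸ Cfsg.Agent.Lib.helper81.mem_blockOf_self hMp χ)
        have h1 := hblocks _ hB hne
        rw [hr] at h1
        exact absurd h1 (Nat.not_lt_zero _)
      have hbf := Cfsg.Agent.Lib.helper79.brauer_feit hM
        (Cfsg.Agent.Lib.helper81.isPBlock_principalBlock (M := M) (G := G))
      have hk : Nat.card (principalBlock M G) = Nat.card (ConjClasses G) := by
        rw [hall, ← Cfsg.Agent.Lib.helper83.card_irr_eq_card_conjClasses]
        exact Nat.card_congr (Equiv.Set.univ _)
      have hfac : (Nat.card G).factorization 2 = a := by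
        have h4 := P.card_eq_multiplicity
        rw [hP] at h4
        exact (Nat.pow_right_injective (le_refl 2) h4).symm
      have hd : blockDefect 2 (principalBlock M G) ≤ a := by
        unfold blockDefect
        rw [hfac]
        exact Nat.sub_le _ _
      rw [hk] at hbf
      have h5 : 2 ^ (2 * blockDefect 2 (principalBlock M G)) ≤ 2 ^ (2 * a) :=
        Nat.pow_le_pow_right (by norm_num) (by omega)
      omega
    · refine le_trans ?_ (le_max_right _ _)
      have hEc' : ∀ x ∈ E, ∀ y ∈ E, x * y = y * x := by
        intro x hx y hy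
        exact congrArg Subtype.val (hEc.is_comm.comm (⟨x, hx⟩ : E) ⟨y, hy⟩)
      have hcent : ∀ z ∈ E, z ≠ 1 → Nat.card (Subgroup.centralizer ({z} : Set G)) ≤ c := by
        intro z hzE hz1
        obtain ⟨m, hm, hle⟩ := Cfsg.Agent.Lib.helper81.dc_cent_le hM P hP r hr hblocks E hEP hEc'
          hEe hEcard g (fun m hm => by rw [hg m hm]; exact hf m hm) z hzE hz1
        exact hle.trans (hc m hm)
      have hE4 : 2 < Nat.card E := by
        rw [hEcard]
        calc 2 < 2 ^ 2 := by norm_num
          _ ≤ 2 ^ (r + 1) := Nat.pow_le_pow_right (by norm_num) (by omega)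
      have hfin : Fintype E := Fintype.ofFinite E
      obtain ⟨x, hx1⟩ : ∃ x : E, x ≠ 1 := by
        by_contra hcon
        push Not at hcon
        have h1 : Nat.card E ≤ 1 := by
          rw [Nat.card_eq_fintype_card, ← Finset.card_univ]
          calc (Finset.univ : Finset E).card ≤ ({1} : Finset E).card :=
                Finset.card_le_card (fun y _ => by rw [Finset.mem_singleton]; exact hcon y)
            _ = 1 := Finset.card_singleton _
        omega
      obtain ⟨y, hy1, hyx⟩ : ∃ y : E, y ≠ 1 ∧ y ≠ x := by
        by_contra hcon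
        push Not at hcon
        have h1 : Nat.card E ≤ 2 := by
          rw [Nat.card_eq_fintype_card, ← Finset.card_univ]
          calc (Finset.univ : Finset E).card ≤ ({1, x} : Finset E).card :=
                Finset.card_le_card (fun y _ => by
                  rw [Finset.mem_insert, Finset.mem_singleton]
                  by_cases h : y = 1
                  · exact Or.inl h
                  · exact Or.inr (hcon y h))
            _ ≤ 2 := Finset.card_le_two
        omega
      have hx1' : (x : G) ≠ 1 := fun h => hx1 (Subtype.ext h)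
      have hy1' : (y : G) ≠ 1 := fun h => hy1 (Subtype.ext h)
      have hxy1 : (x : G) * (y : G) ≠ 1 := by
        intro h
        apply hyx
        apply Subtype.ext
        have h2 : (x : G) * (x : G) = 1 := hEe x x.2
        exact mul_left_cancel (h.trans h2.symm)
      exact hN₂ G P (x : G) (y : G) hP (hEe x x.2) (hEe y y.2) (hEc' x x.2 y y.2)
        (hcent x x.2 hx1') (hcent y y.2 hy1') (hcent _ (E.mul_mem x.2 y.2) hxy1)

end Cfsg.Agent.S4719
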