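import Cfsg.Statements.S4721
import Cfsg.Agent.Lib.helper81.BlRel
import Cfsg.Agent.Lib.helper81.BlComb2
import Cfsg.Agent.Lib.helper20.BL3Two

set_option autoImplicit false
open Cfsg

namespace Cfsg.Agent.S4721

open Cfsg.Agent.Lib.helper81 Cfsg.Agent.Lib.helper20

/-- Let p be a prime, M a maximal ideal of the algebraic integers containing p, and G a finite group with a nontrivial abelian Sylow p-subgroup P, N = N_G(P), C = C_G(P), such that N/C is cyclic of order 3, #P > 4, and C_G(y) ∩ N = C for every non-identity y ∈ P. Then the principal p-block is the disjoint union of a set X of exactly 3 characters containing the principal character and a set Y of (#P − 1)/3 characters, with signs a_χ = ±1 (χ ∈ X, a = 1 at the principal character) and δ = ±1 such that every χ ∈ X takes the value a_χ at every element whose p-part is a non-identity element of P, and there is a map ζ from the non-principal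 linear characters of P onto Y, constant on N-conjugacy classes, with ζ_ψ(z) = δ·Σ ψ'(y) over the N-orbit of ψ, for z with p-part y ≠ 1 in P. If moreover G has an involution lying in no proper normal subgroup of G, then exactly two of the three numbers −δ and a_χ (χ ∈ X non-principal) equal −1, and the product of the degrees of the two non-principal members of X and of any member of Y is a perfect square. -/
theorem result {G : Type*} [Group G] [Finite G] (p : ℕ) [Fact p.Prime] (M : Ideal Cfsg.AlgInt) (hM : Cfsg.IsPModular p M) (P : Sylow p G) (hab : IsMulCommutative P) (hP1 : Nat.card P ≠ 1) (hCN : (Subgroup.centralizer ((P : Subgroup G) : Set G)).relIndex (Subgroup.normalizer ((P : Subgroup G) : Set G)) = 3) (hcyc : ∃ g : G, g ∈ Subgroup.normalizer ((P : Subgroup G) : Set G) ∧ Subgroup.centralizer ((P : Subgroup G) : Set G) ⊔ Subgroup.zpowers g = Subgroup.normalizer ((P : Subgroup G) :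 Set G)) (hm2 : 3 + 1 < Nat.card P) (hfrob : ∀ y : G, y ∈ (P : Subgroup G) → y ≠ 1 → Subgroup.centralizer ({y} : Set G) ⊓ Subgroup.normalizer ((P : Subgroup G) : Set G) = Subgroup.centralizer ((P : Subgroup G) : Set G)) : ∃ (X Y : Set (Cfsg.IrrCharacter G)), Cfsg.principalBlock M G = X ∪ Y ∧ Disjoint X Y ∧ Nat.card X = 3 ∧ Nat.card Y = (Nat.card P - 1) / 3 ∧ (∃ χ₁ ∈ X, (χ₁ : G → ℂ) = fun _ => 1) ∧ ∃ (a : Cfsg.IrrCharacter G → ℤ) (δ : ℤ) (ζ : (↥(P : Subgroup G) →* ℂˣ) → Cfsg.IrrCharacter G), (δ = 1 ∨ δ = -1) ∧ (∀ χ ∈ X, (a χ = 1 ∨ a χ = -1) ∧ ∀ z y : G, Cfsg.IsPPart p z y → y ∈ (P : Subgroup G) → y ≠ 1 → (χ : G → ℂ) z = (a χ : ℂ)) ∧ (∀ ψ : ↥(P : Subgroup G) →* ℂˣ, ψ ≠ 1 → ζ ψ ∈ Y) ∧ (∀ η ∈ Y, ∃ ψ : ↥(P : Subgroup G) →* ℂˣ, ψ ≠ 1 ∧ ζ ψ = η) ∧ (∀ ψ ψ' : ↥(P : Subgroup G) →* ℂˣ, ψ ≠ 1 → (∃ n : G, n ∈ Subgroup.normalizer ((P : Subgroup G) : Set G) ∧ ∀ w w' : ↥(P : Subgroup G), (w' : G) = n * w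 * n⁻¹ → ψ' w' = ψ w) → ζ ψ' = ζ ψ) ∧ (∀ ψ : ↥(P : Subgroup G) →* ℂˣ, ψ ≠ 1 → ∀ (z : G) (y : ↥(P : Subgroup G)), Cfsg.IsPPart p z (y : G) → (y : G) ≠ 1 → (ζ ψ : G → ℂ) z = (δ : ℂ) * ∑ᶠ ψ' ∈ {ψ' : ↥(P : Subgroup G) →* ℂˣ | ∃ n : G, n ∈ Subgroup.normalizer ((P : Subgroup G) : Set G) ∧ ∀ w w' : ↥(P : Subgroup G), (w' : G) = n * w * n⁻¹ → ψ' w' = ψ w}, ((ψ' y : ℂˣ) : ℂ)) ∧ ((∃ t : G, orderOf t = 2 ∧ ∀ K : Subgroup G, K.Normal → t ∈ K → K = ⊤) → Nat.card {χ : Cfsg.IrrCharacter G // χ ∈ X ∧ (χ : G → ℂ) ≠ (fun _ => 1) ∧ a χ = -1} + (if δ = 1 then 1 else 0) = 2 ∧ ∀ η ∈ Y, IsSquare (Cfsg.charDegree (η : G → ℂ) * ∏ᶠ χ ∈ {χ : Cfsg.IrrCharacter G | χ ∈ X ∧ (χ : G → ℂ) ≠ fun _ => 1}, Cfsg.charDegree (χ : G → ℂ))) := by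
  classical
  have hp : p.Prime := Fact.out
  have hMp := Cfsg.Agent.Lib.helper20.isPrime_of_isPModular hM
  have hab' : ∀ a b : (P : Subgroup G), a * b = b * a := fun a b => hab.is_comm.comm a b
  haveI : Finite (↥(P : Subgroup G) →* ℂˣ) := bl_finite_hom
  have : Fintype (P : Subgroup G) := Fintype.ofFinite _
  have : Fintype (↥(P : Subgroup G) →* ℂˣ) := Fintype.ofFinite _
  obtain ⟨I, hI⟩ : ∃ I : Finset (IrrCharacter G), ∀ χ, χ ∈ I ↔ χ ∈ principalBlock M G :=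
    ⟨(Set.toFinite (principalBlock M G)).toFinset, fun χ => Set.Finite.mem_toFinset _⟩
  have hB : principalBlock M G = (I : Set (IrrCharacter G)) :=
    Set.ext (fun χ => by rw [Finset.mem_coe, hI])
  obtain ⟨ψ₀, ψ₁, h0, h1, h01⟩ := bl_exists_two (P : Subgroup G) hab' 3 hm2 hCN hfrob
  obtain ⟨d, ε, ζ, Y, a, hε, hYI, hζY, hsurj, hiff, hX, hYv, hnorm, hcard2, htriv, hXcard, hF⟩ :=
    bl_comb2 I (fun χ ψ => ((blMult (P : Subgroup G) χ ψ : ℕ) : ℤ)) (blRel (P : Subgroup G)) 1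
      ((3 : ℕ) : ℤ) (fun χ _ ψ => Int.natCast_nonneg _)
      (fun ψ₁ ψ₂ ψ₃ => bl_rel hM P hab hP1 3 hCN hfrob I hI ψ₁ ψ₂ ψ₃)
      (blRel_refl _) (fun ψ ψ' h => blRel_symm _ h) (fun ψ ψ' ψ'' h h' => blRel_trans _ h h')
      (fun ψ h => blRel_one_left _ h) ψ₀ ψ₁ h0 h1 h01
  have hsd : @sdiff (Finset (IrrCharacter G))
      (@Finset.instSDiff (IrrCharacter G) fun a b => Classical.propDecidable (a = b)) I Y
      = I \ Y := by
    ext χ
    exact (@Finset.mem_sdiff (IrrCharacter G) (fun a b => Classical.propDecidable (a = b)) I Y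
      χ).trans Finset.mem_sdiff.symm
  simp only [hsd] at hnorm hXcard hF
  obtain ⟨y₀, hy₀⟩ : ∃ y : (P : Subgroup G), y ≠ 1 := by
    by_contra h
    push Not at h
    apply hP1
    rw [Nat.card_eq_one_iff_unique]
    exact ⟨⟨fun a b => (h a).trans (h b).symm⟩, ⟨1⟩⟩
  have hYcard : Y.card = (Nat.card (P : Subgroup G) - 1) / 3 :=
    bl_card_Y (P : Subgroup G) hab' 3 (by norm_num) hCN hfrob Y ζ hζY hsurj hiff
  have hYcard3 : Nat.card (P : Subgroup G) - 1 = 3 * Y.card :=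
    bl3_card_Y3 (P : Subgroup G) hab' hCN hfrob Y ζ hζY hsurj hiff
  have hXval : ∀ χ ∈ I, χ ∉ Y → ∀ y : (P : Subgroup G), y ≠ 1 →
      (χ : G → ℂ) (y : G) = (a χ : ℂ) :=
    fun χ hχ hχY y hy => bl_value_const (P : Subgroup G) hab' χ (a χ)
      (fun ψ hψ => hX χ hχ hχY ψ hψ) y hy
  have hane : ∀ χ ∈ I \ Y, a χ ≠ 0 := by
    intro χ hχ
    obtain ⟨hχI, hχY⟩ := Finset.mem_sdiff.mp hχ
    intro h0'
    have h1' := hXval χ hχI hχY y₀ hy₀
    rw [h0', Int.cast_zero] at h1'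
    exact bl_ne_zero hM P hab' χ ((hI χ).mp hχI) (y₀ : G) y₀.2 h1'
  have htI : trivChar G ∈ I := (hI _).mpr (trivChar_mem_principalBlock hMp)
  have htX : trivChar G ∈ I \ Y := by
    refine Finset.mem_sdiff.mpr ⟨htI, htriv _ htI ?_⟩
    intro ψ ψ' hψ hψ'
    show ((blMult (P : Subgroup G) (trivChar G) ψ : ℕ) : ℤ)
      = ((blMult (P : Subgroup G) (trivChar G) ψ' : ℕ) : ℤ)
    rw [blMult_triv _ ψ hψ, blMult_triv _ ψ' hψ']
  have ha1 : a (trivChar G) = 1 := by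
    have h := hXval (trivChar G) htI (Finset.mem_sdiff.mp htX).2 y₀ hy₀
    rw [trivChar_apply] at h
    exact_mod_cast h.symm
  -- the norm equation
  obtain ⟨S, hS⟩ : ∃ S : ℤ, S = ∑ χ ∈ I \ Y, a χ ^ 2 := ⟨_, rfl⟩
  rw [← hS] at hnorm
  have hSge : (1 : ℤ) ≤ S := by
    have h1' : a (trivChar G) ^ 2 ≤ S := by
      rw [hS]
      exact Finset.single_le_sum (fun i _ => sq_nonneg (a i)) htX
    rw [ha1] at h1'
    linarith
  have hY2 : (2 : ℤ) ≤ (Y.card : ℤ) := by exact_mod_cast hcard2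
  have hnorm' : (d - ε) ^ 2 + ((Y.card : ℤ) - 1) * d ^ 2 + S = 4 := by
    rw [hnorm]; norm_num
  have hreg1 : ¬ p ∣ orderOf (1 : G) := by rw [orderOf_one]; exact hp.not_dvd_one
  have hSle : S ≤ 3 := by
    rcases bl3_norm_cases d ε (Y.card : ℤ) S hε hY2 hSge hnorm' with ⟨_, h3⟩ | ⟨_, h3⟩
    · linarith
    · linarith
  obtain ⟨hapm, hcS⟩ := bl3_sum_sq_le_three (I \ Y) a hane (by rw [← hS]; exact hSle)
  rw [← hS] at hcS
  have hdX : (d = 0 ∨ (d = ε ∧ Y.card = 2)) ∧ (I \ Y).card = 3 := by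
    rcases bl3_norm_cases d ε (Y.card : ℤ) S hε hY2 hSge hnorm' with ⟨hd0, h3⟩ | ⟨hdε, h3⟩
    · exact ⟨Or.inl hd0, by omega⟩
    · have hle : Y.card ≤ 4 := by omega
      have hge : 2 ≤ Y.card := hcard2
      interval_cases hYc : Y.card
      · exact ⟨Or.inr ⟨hdε, rfl⟩, by omega⟩
      · exfalso
        obtain ⟨k, hk⟩ := IsPGroup.exists_card_eq P.isPGroup'
        have hk' : Nat.card (P : Subgroup G) = p ^ k := hk
        have h10 : Nat.card (P : Subgroup G) = 10 := by omega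
        rw [h10] at hk'
        exact bl3_prime_pow_ne_ten p k hp hk'.symm
      · exfalso
        have hc1 : (I \ Y).card = 1 := by omega
        obtain ⟨x, hx⟩ := Finset.card_eq_one.mp hc1
        have hxt : x = trivChar G := by
          have h5 := htX
          rw [hx, Finset.mem_singleton] at h5
          exact h5.symm
        obtain ⟨η, hη⟩ : ∃ η, η ∈ Y := Finset.card_pos.mp (by omega)
        have hrel := (hF (fun χ => (χ : G → ℂ) 1)
          (fun ψ₁ ψ₂ => bl_T_const hM P I hI 1 hreg1 ψ₁ ψ₂)).2 η hη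
        rw [hx, Finset.sum_singleton, hxt, ha1, trivChar_apply, hdε,
          irr_one_eq_charDegree] at hrel
        have hrel' : (4 * ε - ε) * (charDegree (η : G → ℂ) : ℤ) + 1 = 0 := by
          have h6 : (((4 * ε - ε) * (charDegree (η : G → ℂ) : ℤ) + 1 : ℤ) : ℂ) = 0 := by
            push_cast
            push_cast at hrel
            linear_combination hrel
          exact_mod_cast h6
        rcases hε with h | h <;> rw [h] at hrel' <;> omega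
  obtain ⟨hd, hXc⟩ := hdX
  -- the normalized data
  have hmain : ∃ (δ : ℤ) (ζ' : (↥(P : Subgroup G) →* ℂˣ) → IrrCharacter G), (δ = 1 ∨ δ = -1)
      ∧ (∀ ψ : ↥(P : Subgroup G) →* ℂˣ, ψ ≠ 1 → ζ' ψ ∈ Y)
      ∧ (∀ η ∈ Y, ∃ ψ : ↥(P : Subgroup G) →* ℂˣ, ψ ≠ 1 ∧ ζ' ψ = η)
      ∧ (∀ ψ ψ' : ↥(P : Subgroup G) →* ℂˣ, ψ ≠ 1 → blRel (P : Subgroup G) ψ ψ' →
          ζ' ψ' = ζ' ψ)
      ∧ (∀ ψ : ↥(P : Subgroup G) →* ℂˣ, ψ ≠ 1 → ∀ y : (P : Subgroup G), y ≠ 1 →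
          (ζ' ψ : G → ℂ) (y : G) = (δ : ℂ) * ∑ᶠ ψ' ∈ {ψ' : ↥(P : Subgroup G) →* ℂˣ |
            blRel (P : Subgroup G) ψ ψ'}, ((ψ' y : ℂˣ) : ℂ))
      ∧ (∀ F : IrrCharacter G → ℂ,
          (∀ ψ₁ ψ₂ : ↥(P : Subgroup G) →* ℂˣ,
            ∑ χ ∈ I, ((((blMult (P : Subgroup G) χ ψ₁ : ℕ) : ℤ) : ℂ)
              - (((blMult (P : Subgroup G) χ ψ₂ : ℕ) : ℤ) : ℂ)) * F χ = 0) →
          ∀ η ∈ Y, -(δ : ℂ) * F η + ∑ χ ∈ I \ Y, (a χ : ℂ) * F χ = 0) := by
    rcases hd with hd0 | ⟨hdε, hY2c⟩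
    · refine ⟨ε, ζ, hε, hζY, hsurj, ?_, ?_, ?_⟩
      · intro ψ ψ' hψ hr
        have hψ' : ψ' ≠ 1 := by
          rintro rfl
          exact hψ (blRel_one_right _ hr)
        exact ((hiff ψ ψ' hψ hψ').mpr hr).symm
      · intro ψ hψ y hy
        have h := bl_value_exc (P : Subgroup G) hab' (ζ ψ) d ε ψ hψ
          (fun ψ' hψ' => hYv ψ ψ' hψ hψ') y hy
        rw [h, hd0, Int.cast_zero, zero_add]
      · intro F hFhyp η hη
        have h := (hF F hFhyp).2 η hη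
        rw [hd0, Int.cast_zero, mul_zero, zero_sub] at h
        exact h
    · have h7 : Nat.card (P : Subgroup G) = 7 := by omega
      refine ⟨-ε, fun ψ => ζ ψ⁻¹, ?_, ?_, ?_, ?_, ?_, ?_⟩
      · rcases hε with h | h <;> rw [h] <;> norm_num
      · intro ψ hψ
        exact hζY ψ⁻¹ (bl3_inv_ne_one ψ hψ)
      · intro η hη
        obtain ⟨ψ, hψ, h⟩ := hsurj η hη
        refine ⟨ψ⁻¹, bl3_inv_ne_one ψ hψ, ?_⟩
        show ζ ψ⁻¹⁻¹ = η
        rw [bl3_inv_inv_hom, h]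
      · intro ψ ψ' hψ hr
        have hψ' : ψ' ≠ 1 := by
          rintro rfl
          exact hψ (blRel_one_right _ hr)
        have hr' : blRel (P : Subgroup G) ψ⁻¹ ψ'⁻¹ := by
          obtain ⟨n, hn, h⟩ := hr
          refine ⟨n, hn, fun w w' hw => ?_⟩
          rw [MonoidHom.inv_apply, MonoidHom.inv_apply, h w w' hw]
        exact ((hiff ψ⁻¹ ψ'⁻¹ (bl3_inv_ne_one ψ hψ) (bl3_inv_ne_one ψ' hψ')).mpr hr').symm
      · intro ψ hψ y hy
        have h := bl_value_exc (P : Subgroup G) hab' (ζ ψ⁻¹) d ε ψ⁻¹ (bl3_inv_ne_one ψ hψ)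
          (fun ψ' hψ' => hYv ψ⁻¹ ψ' (bl3_inv_ne_one ψ hψ) hψ') y hy
        have h2 := bl3_relabel_sum (P : Subgroup G) hab' hCN hfrob h7 ψ hψ y hy
        show (ζ ψ⁻¹ : G → ℂ) (y : G) = _
        rw [h, hdε]
        push_cast
        linear_combination (ε : ℂ) * h2
      · intro F hFhyp η hη
        have h := (hF F hFhyp).2 η hη
        rw [hY2c, hdε] at h
        push_cast at h ⊢
        linear_combination h
  obtain ⟨δ, ζ', hδ, hζ'Y, hζ'surj, hζ'const, hζ'val, hFrel⟩ := hmain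
  refine ⟨((I \ Y : Finset (IrrCharacter G)) : Set (IrrCharacter G)),
    (Y : Set (IrrCharacter G)), ?_, ?_, ?_, ?_, ?_, a, δ, ζ', hδ, ?_, ?_, ?_, ?_, ?_, ?_⟩
  · rw [hB, ← Finset.coe_union, Finset.sdiff_union_of_subset hYI]
  · exact Finset.disjoint_coe.mpr Finset.sdiff_disjoint
  · rw [Nat.card_coe_set_eq, Set.ncard_coe_finset]
    exact hXc
  · rw [Nat.card_coe_set_eq, Set.ncard_coe_finset, hYcard]
  · exact ⟨trivChar G, Finset.mem_coe.mpr htX, rfl⟩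
  · intro χ hχ
    have hχ' := Finset.mem_sdiff.mp (Finset.mem_coe.mp hχ)
    refine ⟨hapm χ (Finset.mem_coe.mp hχ), ?_⟩
    intro z y hzy hy hy1
    rw [bl_section_const hM P hab' hfrob χ ((hI χ).mp hχ'.1) z y hzy hy hy1]
    exact hXval χ hχ'.1 hχ'.2 ⟨y, hy⟩ (fun h => hy1 (congrArg Subtype.val h))
  · exact fun ψ hψ => Finset.mem_coe.mpr (hζ'Y ψ hψ)
  · exact fun η hη => hζ'surj η (Finset.mem_coe.mp hη)
  · intro ψ ψ' hψ hr
    exact hζ'const ψ ψ' hψ hr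
  · intro ψ hψ z y hzy hy1
    have hζI := hYI (hζ'Y ψ hψ)
    rw [bl_section_const hM P hab' hfrob (ζ' ψ) ((hI _).mp hζI) z (y : G) hzy y.2 hy1]
    exact hζ'val ψ hψ y (fun h => hy1 (by rw [h]; rfl))
  · rintro ⟨t, ht, htK⟩
    have ht2 : t * t = 1 := by rw [← pow_two, ← ht]; exact pow_orderOf_eq_one t
    obtain ⟨η₀, hη₀⟩ : ∃ η₀, η₀ ∈ Y := Finset.card_pos.mp (by omega)
    by_cases hp2 : p = 2
    · exfalso
      subst hp2
      have hd0 : d = 0 := by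
        rcases hd with h | ⟨_, hY2c⟩
        · exact h
        · exfalso
          have h7 : Nat.card (P : Subgroup G) = 7 := by omega
          obtain ⟨k, hk⟩ := IsPGroup.exists_card_eq P.isPGroup'
          have hk' : Nat.card (P : Subgroup G) = 2 ^ k := hk
          rw [h7] at hk'
          exact bl3_two_pow_ne_seven k hk'.symm
      exact bl3_two_contra hM P hab hCN hfrob hm2 I hI Y (I \ Y) hYI
        (fun χ => Finset.mem_sdiff) a ε hε ζ hζY hsurj hiff hX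
        (fun ψ ψ' hψ hψ' => by
          have h := hYv ψ ψ' hψ hψ'
          rw [hd0] at h
          exact h) hXc htX ha1 hapm hYcard3
        (fun η hη => by
          have h := (hF (fun χ => (χ : G → ℂ) 1)
            (fun ψ₁ ψ₂ => bl_T_const hM P I hI 1 hreg1 ψ₁ ψ₂)).2 η hη
          rw [hd0, Int.cast_zero, mul_zero, zero_sub] at h
          exact h) t ht htK
    · have hregt : ¬ p ∣ orderOf t := by
        rw [ht]
        intro h
        exact hp2 ((Nat.prime_dvd_prime_iff_eq hp Nat.prime_two).mp h)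
      have E1 : ∀ η ∈ Y, -(δ : ℂ) * (η : G → ℂ) 1
          + ∑ χ ∈ I \ Y, (a χ : ℂ) * (χ : G → ℂ) 1 = 0 := fun η hη =>
        hFrel (fun χ => (χ : G → ℂ) 1)
          (fun ψ₁ ψ₂ => bl_T_const hM P I hI 1 hreg1 ψ₁ ψ₂) η hη
      have E2 : ∀ η ∈ Y, -(δ : ℂ) * (η : G → ℂ) t
          + ∑ χ ∈ I \ Y, (a χ : ℂ) * (χ : G → ℂ) t = 0 := fun η hη =>
        hFrel (fun χ => (χ : G → ℂ) t)
          (fun ψ₁ ψ₂ => bl_T_const hM P I hI t hregt ψ₁ ψ₂) η hη
      have E3 : ∀ η ∈ Y, -(δ : ℂ) * ((η : G → ℂ) t * (η : G → ℂ) t / (η : G → ℂ) 1)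
          + ∑ χ ∈ I \ Y, (a χ : ℂ)
            * ((χ : G → ℂ) t * (χ : G → ℂ) t / (χ : G → ℂ) 1) = 0 := fun η hη =>
        hFrel (fun χ => (χ : G → ℂ) t * (χ : G → ℂ) t / (χ : G → ℂ) 1)
          (fun ψ₁ ψ₂ => bl3_F_odd hp2 hM P hab hCN hfrob I hI t ht2 ψ₁ ψ₂) η hη
      refine ⟨(bl3_endgame (I \ Y) a δ hδ hXc htX ha1 hapm η₀ t ht htK (E1 η₀ hη₀) (E2 η₀ hη₀)
        (E3 η₀ hη₀)).1, ?_⟩
      intro η hη
      have hη' : η ∈ Y := Finset.mem_coe.mp hη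
      exact (bl3_endgame (I \ Y) a δ hδ hXc htX ha1 hapm η t ht htK (E1 η hη') (E2 η hη')
        (E3 η hη')).2

end Cfsg.Agent.S4721
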