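import Cfsg.Statements.S4723
import Cfsg.Agent.Lib.helper77.StabFong
import Cfsg.Agent.Lib.helper82.Clifford

set_option autoImplicit false
open Cfsg

namespace Cfsg.Agent.S4723

/-- Let p be a prime, M a maximal ideal of the algebraic integers containing p, H a normal subgroup of the finite group G and b a p-block of H. Let T be the stabilizer of b in G. Then b contains a character θ of height zero whose own stabilizer in G (the elements g with θ(g h g⁻¹) = θ(h) for all h ∈ H) has index prime to p in T, i.e. contains a Sylow p-subgroup of T. -/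
theorem result {G : Type*} [Group G] [Finite G] (p : ℕ) [Fact p.Prime] (M : Ideal Cfsg.AlgInt) (hM : Cfsg.IsPModular p M) (H : Subgroup G) [H.Normal] (b : Set (Cfsg.IrrCharacter ↥H)) (hb : Cfsg.IsPBlock M b) (T : Subgroup G) (hT : (∀ g : G, g ∈ T ↔ ∀ θ ∈ b, ∀ θ' : Cfsg.IrrCharacter ↥H, (∀ h h' : ↥H, (h' : G) = g * h * g⁻¹ → (θ' : ↥H → ℂ) h' = (θ : ↥H → ℂ) h) → θ' ∈ b)) : ∃ θ ∈ b, Cfsg.blockHeight p b (θ : ↥H → ℂ) = 0 ∧ ∃ S : Subgroup G, S ≤ T ∧ (∀ g : G, g ∈ S ↔ (g ∈ T ∧ ∀ h h' : ↥H, (h' : G) = g * h * g⁻¹ → (θ : ↥H → ℂ) h' = (θ : ↥H → ℂ) h)) ∧ ¬ p ∣ S.relIndex T := by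
  classical
  have : Fintype G := Fintype.ofFinite G
  have : Fintype H := Fintype.ofFinite H
  have : Fintype T := Fintype.ofFinite T
  have hMp : M.IsPrime := Cfsg.Agent.Lib.helper20.isPrime_of_isPModular hM
  have hpp : p.Prime := Fact.out
  have hHn : H.Normal := inferInstance
  -- the stabilizer in terms of conjugate characters
  have hrel : ∀ (g : G) (θ : Cfsg.IrrCharacter H) (h h' : H), (h' : G) = g * h * g⁻¹ →
      (Cfsg.Agent.Lib.helper77.cjIrr H g θ : H → ℂ) h' = (θ : H → ℂ) h := by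
    intro g θ h h' hh
    rw [← Cfsg.Agent.Lib.helper77.cjIrr_apply_conj H g θ h]
    exact congrArg _ (Subtype.ext hh)
  have huniq : ∀ (g : G) (θ θ'' : Cfsg.IrrCharacter H),
      (∀ h h' : H, (h' : G) = g * h * g⁻¹ → (θ'' : H → ℂ) h' = (θ : H → ℂ) h) →
      θ'' = Cfsg.Agent.Lib.helper77.cjIrr H g θ := by
    intro g θ θ'' h''
    apply Subtype.ext
    funext h'
    have hmem : g⁻¹ * (h' : G) * g ∈ H := by
      have h1 := hHn.conj_mem h' h'.2 g⁻¹
      rwa [inv_inv] at h1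
    have hc : (h' : G) = g * ((⟨_, hmem⟩ : H) : G) * g⁻¹ := by
      show (h' : G) = g * (g⁻¹ * (h' : G) * g) * g⁻¹
      group
    rw [h'' ⟨_, hmem⟩ h' hc, hrel g θ ⟨_, hmem⟩ h' hc]
  have hTs : ∀ t ∈ T, ∀ θ ∈ b, Cfsg.Agent.Lib.helper77.cjIrr H t θ ∈ b :=
    fun t ht θ hθ => ((hT t).mp ht) θ hθ _ (hrel t θ)
  have hTc : ∀ g : G, ∀ θ ∈ b, Cfsg.Agent.Lib.helper77.cjIrr H g θ ∈ b → g ∈ T := by
    intro g θ₁ hθ₁ hg
    rw [hT]
    intro θ hθ θ'' h''
    rw [huniq g θ θ'' h'']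
    exact Cfsg.Agent.Lib.helper81.mem_of_sameBlock hMp hb hg
      (Cfsg.Agent.Lib.helper77.sameBlock_cjIrr H g
        (Cfsg.Agent.Lib.helper80.sameBlock_of_mem hMp hb hθ₁ hθ))
  have hHT : H ≤ T := by
    intro k hk
    obtain ⟨θ₀, hθ₀⟩ := Cfsg.Agent.Lib.helper80.isPBlock_nonempty hMp hb
    apply hTc k θ₀ hθ₀
    have h1 : Cfsg.Agent.Lib.helper77.cjIrr H k θ₀ = θ₀ :=
      Subtype.ext (Cfsg.Agent.Lib.helper82.cconj_of_mem H
        (Cfsg.Agent.Lib.helper4.isClassFunction_of_isIrrCharacter θ₀.2) hk)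
    rw [h1]
    exact hθ₀
  -- transport of `b` to `H.subgroupOf T`
  have hNTn : (H.subgroupOf T).Normal := hHn.subgroupOf T
  have : Fintype (H.subgroupOf T) := Fintype.ofFinite _
  obtain ⟨e, he⟩ : ∃ e : H ≃* H.subgroupOf T, e = (Subgroup.subgroupOfEquivOfLe hHT).symm :=
    ⟨_, rfl⟩
  have hesymm : ∀ k : H.subgroupOf T, ((e.symm k : H) : G) = ((k : T) : G) := by
    intro k
    rw [he]
    rfl
  obtain ⟨bT, hbT⟩ : ∃ bT : Set (Cfsg.IrrCharacter (H.subgroupOf T)),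
      bT = Cfsg.Agent.Lib.helper80.blockMap e b := ⟨_, rfl⟩
  have hbTblk : Cfsg.IsPBlock M bT := by
    rw [hbT]
    exact Cfsg.Agent.Lib.helper80.isPBlock_blockMap e hb
  have hmemT : ∀ θ : Cfsg.IrrCharacter H, Cfsg.Agent.Lib.helper80.irrMap e θ ∈ bT ↔ θ ∈ b := by
    intro θ
    rw [hbT]
    exact Cfsg.Agent.Lib.helper80.irrMap_mem_blockMap e b θ
  have hsurj : ∀ θT : Cfsg.IrrCharacter (H.subgroupOf T), ∃ θ : Cfsg.IrrCharacter H,
      Cfsg.Agent.Lib.helper80.irrMap e θ = θT :=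
    fun θT => ⟨_, Cfsg.Agent.Lib.helper80.irrMap_irrMap_symm e θT⟩
  have hcj : ∀ (t : T) (θ : Cfsg.IrrCharacter H),
      Cfsg.Agent.Lib.helper77.cjIrr (H.subgroupOf T) t (Cfsg.Agent.Lib.helper80.irrMap e θ)
        = Cfsg.Agent.Lib.helper80.irrMap e (Cfsg.Agent.Lib.helper77.cjIrr H (t : G) θ) := by
    intro t θ
    apply Subtype.ext
    funext k
    rw [Cfsg.Agent.Lib.helper77.cjIrr_coe, Cfsg.Agent.Lib.helper82.cconj_apply,
      Cfsg.Agent.Lib.helper80.irrMap_apply, Cfsg.Agent.Lib.helper80.irrMap_apply,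
      Cfsg.Agent.Lib.helper77.cjIrr_coe, Cfsg.Agent.Lib.helper82.cconj_apply]
    refine congrArg _ (Subtype.ext ?_)
    rw [hesymm]
    show _ = (t : G)⁻¹ * ((e.symm k : H) : G) * (t : G)
    rw [hesymm]
    rfl
  have hstT : ∀ t : T, ∀ θT ∈ bT, Cfsg.Agent.Lib.helper77.cjIrr (H.subgroupOf T) t θT ∈ bT := by
    intro t θT hθT
    obtain ⟨θ, rfl⟩ := hsurj θT
    rw [hcj, hmemT]
    exact hTs t t.2 θ ((hmemT θ).mp hθT)
  have hdegmap : ∀ θ : Cfsg.IrrCharacter H,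
      Cfsg.charDegree (Cfsg.Agent.Lib.helper80.irrMap e θ : H.subgroupOf T → ℂ)
        = Cfsg.charDegree (θ : H → ℂ) := by
    intro θ
    unfold Cfsg.charDegree
    rw [Cfsg.Agent.Lib.helper80.irrMap_apply, map_one]
  have hsets : (fun χ : Cfsg.IrrCharacter (H.subgroupOf T) =>
        (Cfsg.charDegree (χ : H.subgroupOf T → ℂ)).factorization p) '' bT
      = (fun χ : Cfsg.IrrCharacter H => (Cfsg.charDegree (χ : H → ℂ)).factorization p) '' b := by
    ext n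
    constructor
    · rintro ⟨θT, hθT, rfl⟩
      obtain ⟨θ, rfl⟩ := hsurj θT
      refine ⟨θ, (hmemT θ).mp hθT, ?_⟩
      show (Cfsg.charDegree (θ : H → ℂ)).factorization p = (Cfsg.charDegree
        (Cfsg.Agent.Lib.helper80.irrMap e θ : H.subgroupOf T → ℂ)).factorization p
      rw [hdegmap]
    · rintro ⟨θ, hθ, rfl⟩
      refine ⟨Cfsg.Agent.Lib.helper80.irrMap e θ, (hmemT θ).mpr hθ, ?_⟩
      show (Cfsg.charDegree (Cfsg.Agent.Lib.helper80.irrMap e θ :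
        H.subgroupOf T → ℂ)).factorization p = (Cfsg.charDegree (θ : H → ℂ)).factorization p
      rw [hdegmap]
  -- a covering block of `T` of maximal defect
  have hex : ∃ B₁ : Set (Cfsg.IrrCharacter T), Cfsg.IsPBlock M B₁ ∧
      (∃ χ ∈ B₁, ∃ θ ∈ bT, Cfsg.classInner (fun n : H.subgroupOf T => (χ : T → ℂ) n)
        (θ : H.subgroupOf T → ℂ) ≠ 0) := by
    obtain ⟨θ₀, hθ₀⟩ := Cfsg.Agent.Lib.helper80.isPBlock_nonempty hMp hbTblk
    obtain ⟨χ₀, hχ₀⟩ := Cfsg.Agent.Lib.helper77.exists_irr_over (H.subgroupOf T) θ₀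
    exact ⟨Cfsg.blockOf M (χ₀ : T → ℂ), Cfsg.Agent.Lib.helper80.isPBlock_blockOf M χ₀, χ₀,
      Cfsg.Agent.Lib.helper80.mem_blockOf_self hMp χ₀, θ₀, hθ₀, hχ₀⟩
  obtain ⟨B', hB', hcovT, hmax⟩ : ∃ B' : Set (Cfsg.IrrCharacter T), Cfsg.IsPBlock M B' ∧
      (∃ χ ∈ B', ∃ θ ∈ bT, Cfsg.classInner (fun n : H.subgroupOf T => (χ : T → ℂ) n)
        (θ : H.subgroupOf T → ℂ) ≠ 0) ∧
      ∀ B'' : Set (Cfsg.IrrCharacter T), Cfsg.IsPBlock M B'' →
        (∃ χ ∈ B'', ∃ θ ∈ bT, Cfsg.classInner (fun n : H.subgroupOf T => (χ : T → ℂ) n)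
          (θ : H.subgroupOf T → ℂ) ≠ 0) → Cfsg.blockDefect p B'' ≤ Cfsg.blockDefect p B' := by
    obtain ⟨S, hS⟩ : ∃ S : Set ℕ, S = {n | ∃ B₁ : Set (Cfsg.IrrCharacter T), Cfsg.IsPBlock M B₁ ∧
        (∃ χ ∈ B₁, ∃ θ ∈ bT, Cfsg.classInner (fun n : H.subgroupOf T => (χ : T → ℂ) n)
          (θ : H.subgroupOf T → ℂ) ≠ 0) ∧ Cfsg.blockDefect p B₁ = n} := ⟨_, rfl⟩
    have hne : S.Nonempty := by
      obtain ⟨B₁, h1, h2⟩ := hex
      exact ⟨Cfsg.blockDefect p B₁, by rw [hS]; exact ⟨B₁, h1, h2, rfl⟩⟩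
    have hbdd : BddAbove S := by
      refine ⟨(Nat.card T).factorization p, ?_⟩
      intro n hn
      rw [hS] at hn
      obtain ⟨B₁, -, -, rfl⟩ := hn
      unfold Cfsg.blockDefect
      exact Nat.sub_le _ _
    have hmem : sSup S ∈ S := Nat.sSup_mem hne hbdd
    have hmem' : ∃ B₁ : Set (Cfsg.IrrCharacter T), Cfsg.IsPBlock M B₁ ∧
        (∃ χ ∈ B₁, ∃ θ ∈ bT, Cfsg.classInner (fun n : H.subgroupOf T => (χ : T → ℂ) n)
          (θ : H.subgroupOf T → ℂ) ≠ 0) ∧ Cfsg.blockDefect p B₁ = sSup S := by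
      have h := hmem
      rw [hS] at h
      rw [hS]
      exact h
    obtain ⟨B', hB', hcov', hdef⟩ := hmem'
    refine ⟨B', hB', hcov', fun B'' hB'' hcov'' => ?_⟩
    rw [hdef]
    apply le_csSup hbdd
    rw [hS]
    exact ⟨B'', hB'', hcov'', rfl⟩
  obtain ⟨P', hP'⟩ := Cfsg.Agent.Lib.helper80.exists_isDefectGroup p hMp hB'
  have hfong := (Cfsg.Agent.Lib.helper77.fong_main (H.subgroupOf T) hM hbTblk hstT hB' hcovT hmax
    hP').2.2
  -- a character of height zero in `B'`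
  obtain ⟨χ₁, hχ₁, θ₁, hθ₁, hχθ₁⟩ := hcovT
  have hneB : ((fun χ : Cfsg.IrrCharacter T => (Cfsg.charDegree (χ : T → ℂ)).factorization p)
      '' B').Nonempty := ⟨_, χ₁, hχ₁, rfl⟩
  obtain ⟨χ, hχ, hχmin⟩ := Nat.sInf_mem hneB
  have hχmin' : (Cfsg.charDegree (χ : T → ℂ)).factorization p = sInf
      ((fun χ : Cfsg.IrrCharacter T => (Cfsg.charDegree (χ : T → ℂ)).factorization p) '' B') :=
    hχmin
  -- `χ` lies over a member of `bT`
  have hχcov : χ ∈ Cfsg.Agent.Lib.helper77.coverSet (H.subgroupOf T) bT := by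
    have h1 : χ₁ ∈ Cfsg.Agent.Lib.helper77.coverSet (H.subgroupOf T) bT := ⟨θ₁, hθ₁, hχθ₁⟩
    exact Cfsg.Agent.Lib.helper77.coverSet_union_blocks (H.subgroupOf T) hMp hbTblk hstT χ₁ h1
      (Cfsg.Agent.Lib.helper80.sameBlock_of_mem hMp hB' hχ₁ hχ)
  obtain ⟨θT, hθT, hχθ⟩ := hχcov
  obtain ⟨θ, rfl⟩ := hsurj θT
  have hθ : θ ∈ b := (hmemT θ).mp hθT
  -- Clifford's degree formula
  obtain ⟨m, hm⟩ := Cfsg.Agent.Lib.helper4.exists_nat_classInner_irr
    (Cfsg.Agent.Lib.helper4.isCharacter_restrict (H.subgroupOf T)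
      (Cfsg.Agent.Lib.helper4.isCharacter_of_isIrrCharacter χ.2))
    (Cfsg.Agent.Lib.helper80.irrMap e θ).2
  have hm0 : m ≠ 0 := by
    rintro rfl
    rw [Nat.cast_zero] at hm
    exact hχθ hm
  have hdeg := Cfsg.Agent.Lib.helper82.clifford_degree (H.subgroupOf T) χ.2
    (Cfsg.Agent.Lib.helper80.irrMap e θ).2 m hm hm0
  obtain ⟨I, hI⟩ : ∃ I : Subgroup T, I = Cfsg.Agent.Lib.helper82.inertia (H.subgroupOf T)
      (Cfsg.Agent.Lib.helper80.irrMap e θ : H.subgroupOf T → ℂ) := ⟨_, rfl⟩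
  rw [← hI] at hdeg
  have hdegN : Cfsg.charDegree (χ : T → ℂ) = m * I.index * Cfsg.charDegree (θ : H → ℂ) := by
    rw [Cfsg.Agent.Lib.helper82.irr_one_eq χ,
      Cfsg.Agent.Lib.helper82.irr_one_eq (Cfsg.Agent.Lib.helper80.irrMap e θ), hdegmap] at hdeg
    exact_mod_cast hdeg
  have hχ0 : Cfsg.charDegree (χ : T → ℂ) ≠ 0 := by
    intro h0
    have h1 := Cfsg.Agent.Lib.helper82.irr_one_eq χ
    rw [h0, Nat.cast_zero] at h1
    exact Cfsg.Agent.Lib.helper81.irr_one_ne_zero χ h1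
  have hθ0 : Cfsg.charDegree (θ : H → ℂ) ≠ 0 := by
    intro h0
    rw [h0, mul_zero] at hdegN
    exact hχ0 hdegN
  have hI0 : I.index ≠ 0 := Subgroup.index_ne_zero_of_finite
  have hval : (Cfsg.charDegree (χ : T → ℂ)).factorization p = m.factorization p
      + I.index.factorization p + (Cfsg.charDegree (θ : H → ℂ)).factorization p := by
    rw [hdegN, Nat.factorization_mul (Nat.mul_ne_zero hm0 hI0) hθ0,
      Nat.factorization_mul hm0 hI0]
    rfl
  -- numerics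
  have hcardT : Nat.card T = (H.subgroupOf T).index * Nat.card (H.subgroupOf T) :=
    (Subgroup.index_mul_card (H.subgroupOf T)).symm
  have hidx0 : (H.subgroupOf T).index ≠ 0 := Subgroup.index_ne_zero_of_finite
  have haT : (Nat.card T).factorization p = (H.subgroupOf T).index.factorization p
      + (Nat.card (H.subgroupOf T)).factorization p := by
    rw [hcardT, Nat.factorization_mul hidx0 Nat.card_pos.ne']
    rfl
  have hle1 : (Cfsg.charDegree (χ : T → ℂ)).factorization p ≤ (Nat.card T).factorization p :=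
    (Nat.factorization_le_iff_dvd hχ0 Nat.card_pos.ne').mpr
      (Cfsg.Agent.Lib.helper82.irr_degree_dvd_card χ) p
  have hle2 : (Cfsg.charDegree (θ : H → ℂ)).factorization p
      ≤ (Nat.card (H.subgroupOf T)).factorization p := by
    have h1 := (Nat.factorization_le_iff_dvd hθ0 Nat.card_pos.ne').mpr
      (Cfsg.Agent.Lib.helper82.irr_degree_dvd_card θ) p
    rwa [Nat.card_congr e.toEquiv] at h1
  have hle3 : sInf ((fun χ : Cfsg.IrrCharacter H =>
      (Cfsg.charDegree (χ : H → ℂ)).factorization p) '' b)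
      ≤ (Cfsg.charDegree (θ : H → ℂ)).factorization p := Nat.sInf_le ⟨θ, hθ, rfl⟩
  unfold Cfsg.blockDefect at hfong
  rw [hsets, ← hχmin'] at hfong
  have hkey1 : I.index.factorization p = 0 := by omega
  have hkey2 : (Cfsg.charDegree (θ : H → ℂ)).factorization p = sInf ((fun χ : Cfsg.IrrCharacter H =>
      (Cfsg.charDegree (χ : H → ℂ)).factorization p) '' b) := by omega
  have hIp : ¬ p ∣ I.index := by
    intro hdvd
    rcases (Nat.factorization_eq_zero_iff _ _).mp hkey1 with h4 | h4 | h4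
    · exact h4 hpp
    · exact h4 hdvd
    · exact hI0 h4
  -- conclusion
  refine ⟨θ, hθ, ?_, Cfsg.Agent.Lib.helper82.inertia H (θ : H → ℂ) ⊓ T, inf_le_right, ?_, ?_⟩
  · unfold Cfsg.blockHeight
    rw [hkey2]
    exact Nat.sub_self _
  · intro g
    rw [Subgroup.mem_inf, Cfsg.Agent.Lib.helper82.mem_inertia_iff]
    constructor
    · rintro ⟨h1, h2⟩
      refine ⟨h2, fun h h' hh => ?_⟩
      rw [← h1 h]
      exact congrArg _ (Subtype.ext hh)
    · rintro ⟨h1, h2⟩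
      exact ⟨fun n => h2 n ⟨g * n * g⁻¹, hHn.conj_mem n n.2 g⟩ rfl, h1⟩
  · have hS : (Cfsg.Agent.Lib.helper82.inertia H (θ : H → ℂ) ⊓ T).subgroupOf T = I := by
      ext t
      rw [Subgroup.mem_subgroupOf, Subgroup.mem_inf, hI, Cfsg.Agent.Lib.helper82.mem_inertia,
        Cfsg.Agent.Lib.helper82.mem_inertia]
      have h1 : Cfsg.Agent.Lib.helper82.cconj (H.subgroupOf T) t
          (Cfsg.Agent.Lib.helper80.irrMap e θ : H.subgroupOf T → ℂ)
          = (Cfsg.Agent.Lib.helper80.irrMap e (Cfsg.Agent.Lib.helper77.cjIrr H (t : G) θ) :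
            H.subgroupOf T → ℂ) := congrArg Subtype.val (hcj t θ)
      rw [h1]
      constructor
      · rintro ⟨h2, -⟩
        have h3 : Cfsg.Agent.Lib.helper77.cjIrr H (t : G) θ = θ := Subtype.ext h2
        rw [h3]
      · intro h2
        refine ⟨?_, t.2⟩
        have h3 : Cfsg.Agent.Lib.helper80.irrMap e (Cfsg.Agent.Lib.helper77.cjIrr H (t : G) θ)
            = Cfsg.Agent.Lib.helper80.irrMap e θ := Subtype.ext h2
        have h4 := congrArg (Cfsg.Agent.Lib.helper80.irrMap e.symm) h3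
        rw [Cfsg.Agent.Lib.helper80.irrMap_symm_irrMap,
          Cfsg.Agent.Lib.helper80.irrMap_symm_irrMap] at h4
        exact congrArg Subtype.val h4
    show ¬ p ∣ ((Cfsg.Agent.Lib.helper82.inertia H (θ : H → ℂ) ⊓ T).subgroupOf T).index
    rw [hS]
    exact hIp

end Cfsg.Agent.S4723
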