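import Cfsg.Statements.S4725
import Cfsg.Agent.Lib.helper81.InducedBlock
-- import your own Cfsg.Agent.* helpers here

set_option autoImplicit false
open Cfsg

namespace Cfsg.Agent.S4725

open Cfsg.Agent.Lib.helper81 Cfsg.Agent.Lib.helper20

/-- Let p be a prime, M a maximal ideal of the algebraic integers containing p, H a subgroup of the finite group G, and b a p-block of H inducing the p-block B of G, with b and B of the same defect. Then for every height-zero ζ ∈ b there is a height-zero χ ∈ B whose multiplicity in the character induced from ζ is not divisible by p. -/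
theorem result {G : Type*} [Group G] [Fintype G] (p : ℕ) [Fact p.Prime] (M : Ideal Cfsg.AlgInt) (hM : Cfsg.IsPModular p M) (H : Subgroup G) (b : Set (Cfsg.IrrCharacter ↥H)) (B : Set (Cfsg.IrrCharacter G)) (hind : Cfsg.IsInducedBlock M H b B) (hdef : Cfsg.blockDefect p b = Cfsg.blockDefect p B) (ζ : Cfsg.IrrCharacter ↥H) (hζ : ζ ∈ b) (hζ0 : Cfsg.blockHeight p b (ζ : ↥H → ℂ) = 0) : ∃ χ ∈ B, Cfsg.blockHeight p B (χ : G → ℂ) = 0 ∧ ∃ a : ℕ, Cfsg.classInner (Cfsg.indFun H (ζ : ↥H → ℂ)) (χ : G → ℂ) = (a : ℂ) ∧ ¬ p ∣ a := by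
  classical
  have hp := (Fact.out : p.Prime)
  have hMp : M.IsPrime := isPrime_of_isPModular hM
  have hB : IsPBlock M B := hind.2.1
  obtain ⟨χ₀, hχ₀⟩ := isPBlock_nonempty hMp hB
  set F : G → ℂ := indFun H (ζ : ↥H → ℂ) with hFdef
  have hFchar : IsCharacter G F :=
    Cfsg.Agent.Lib.helper4.isCharacter_indFun H
      (Cfsg.Agent.Lib.helper20.isCharacter_of_isIrrCharacter ζ.2)
  -- multiplicities are natural numbers
  have hnat : ∀ χ : IrrCharacter G, ∃ n : ℕ, classInner F (χ : G → ℂ) = n := fun χ =>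
    Cfsg.Agent.Lib.helper4.exists_nat_classInner_irr hFchar χ.2
  choose a ha using hnat
  -- degrees
  set N : ℕ := H.index * charDegree (ζ : ↥H → ℂ) with hNdef
  have hF1 : F 1 = (N : ℂ) := by
    rw [hFdef, Cfsg.Agent.Lib.helper4.indFun_one, irr_one_eq_charDegree ζ, hNdef]
    push_cast
    ring
  have hidx0 : H.index ≠ 0 := Subgroup.index_ne_zero_of_finite
  have hζpos : 0 < charDegree (ζ : ↥H → ℂ) := irr_charDegree_pos ζ
  have hN0 : N ≠ 0 := Nat.mul_ne_zero hidx0 hζpos.ne'
  have h1 := induced_block_sum hMp H hind hζ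
  rw [← hFdef, hF1] at h1
  have h2 : (∑ χ : IrrCharacter G,
      if χ ∈ B then classInner F (χ : G → ℂ) * (χ : G → ℂ) 1 else 0)
      = ((∑ χ : IrrCharacter G, (if χ ∈ B then a χ * charDegree (χ : G → ℂ) else 0) : ℕ) : ℂ) := by
    rw [Nat.cast_sum]
    refine Finset.sum_congr rfl (fun χ _ => ?_)
    split_ifs
    · rw [ha χ, irr_one_eq_charDegree χ]
      push_cast
      rfl
    · simp
  rw [h2] at h1
  obtain ⟨χ, hχ⟩ := exists_not_dvd_of_sum_div hM
    (fun χ : IrrCharacter G => if χ ∈ B then a χ * charDegree (χ : G → ℂ) else 0) N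
    (N.factorization p) hN0 rfl h1
  have hχB : χ ∈ B := by
    by_contra hne
    simp only [if_neg hne] at hχ
    exact hχ (dvd_zero _)
  simp only [if_pos hχB] at hχ
  -- the exponent of `p` in `N` is the minimal exponent over `B`
  set SB : Set ℕ := (fun ψ : IrrCharacter G => (charDegree (ψ : G → ℂ)).factorization p) '' B
    with hSB
  set Sb : Set ℕ := (fun ψ : IrrCharacter ↥H => (charDegree (ψ : ↥H → ℂ)).factorization p) '' b
    with hSb
  have hζmem : (charDegree (ζ : ↥H → ℂ)).factorization p ∈ Sb := ⟨ζ, hζ, rfl⟩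
  have hinfb : sInf Sb = (charDegree (ζ : ↥H → ℂ)).factorization p := by
    apply le_antisymm (Nat.sInf_le hζmem)
    unfold blockHeight at hζ0
    exact Nat.sub_eq_zero_iff_le.mp hζ0
  have hχ₀mem : (charDegree (χ₀ : G → ℂ)).factorization p ∈ SB := ⟨χ₀, hχ₀, rfl⟩
  have hχmem : (charDegree (χ : G → ℂ)).factorization p ∈ SB := ⟨χ, hχB, rfl⟩
  have hdvdH : (charDegree (ζ : ↥H → ℂ)).factorization p ≤ (Nat.card ↥H).factorization p := by
    have := Fintype.ofFinite ↥H
    exact (Nat.factorization_le_iff_dvd hζpos.ne' Nat.card_pos.ne').mpr (irr_degree_dvd_card ζ) p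
  have hdvdG : sInf SB ≤ (Nat.card G).factorization p := by
    refine (Nat.sInf_le hχ₀mem).trans ?_
    exact (Nat.factorization_le_iff_dvd (irr_charDegree_pos χ₀).ne' Nat.card_pos.ne').mpr
      (irr_degree_dvd_card χ₀) p
  have hcardG : (Nat.card G).factorization p
      = H.index.factorization p + (Nat.card ↥H).factorization p := by
    rw [← Subgroup.index_mul_card H, Nat.factorization_mul hidx0 Nat.card_pos.ne']
    rfl
  have hNfac : N.factorization p
      = H.index.factorization p + (charDegree (ζ : ↥H → ℂ)).factorization p := by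
    rw [hNdef, Nat.factorization_mul hidx0 hζpos.ne']
    rfl
  have hdef' : (Nat.card ↥H).factorization p - sInf Sb = (Nat.card G).factorization p - sInf SB :=
    hdef
  have he : N.factorization p = sInf SB := by
    rw [hinfb] at hdef'
    omega
  -- conclude
  have hle : N.factorization p ≤ (charDegree (χ : G → ℂ)).factorization p := by
    rw [he]
    exact Nat.sInf_le hχmem
  have hpe : p ^ N.factorization p ∣ charDegree (χ : G → ℂ) :=
    (hp.pow_dvd_iff_le_factorization (irr_charDegree_pos χ).ne').mpr hle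
  refine ⟨χ, hχB, ?_, a χ, ha χ, ?_⟩
  · unfold blockHeight
    rw [← hSB, ← he]
    apply Nat.sub_eq_zero_iff_le.mpr
    by_contra hlt
    push Not at hlt
    apply hχ
    have : p ^ (N.factorization p + 1) ∣ charDegree (χ : G → ℂ) :=
      (hp.pow_dvd_iff_le_factorization (irr_charDegree_pos χ).ne').mpr hlt
    exact Dvd.dvd.mul_left this _
  · intro hpa
    apply hχ
    rw [pow_succ, mul_comm]
    exact mul_dvd_mul hpa hpe

end Cfsg.Agent.S4725
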