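import Cfsg.Statements.S4726
import Cfsg.Agent.Lib.helper80.MaxPairChar
import Cfsg.Agent.Lib.helper80.CyclicInertial
import Cfsg.Agent.Lib.helper80.RelPair
import Cfsg.Agent.Lib.helper80.AbelFusion
import Cfsg.Agent.Lib.helper77.FongReynolds

set_option autoImplicit false
open Cfsg

namespace Cfsg.Agent.S4726

open Cfsg.Agent.Lib.helper80 Cfsg.Agent.Lib.helper20 in
/-- Let p be a prime, M a maximal ideal of the algebraic integers containing p, H a subgroup of the finite group G and b a p-block of H with defect group D₀ such that C_G(D₀) ≤ H. Then b induces a block of G, and for every block B of G induced by b there is a defect group D of B with Z(D) ≤ Z(D₀) ≤ D₀ ≤ D (as subgroups of G). In particular, if the defect groups of B are abelian then D₀ is a defect group of B. -/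
theorem result {G : Type*} [Group G] [Finite G] (p : ℕ) [Fact p.Prime] (M : Ideal Cfsg.AlgInt) (hM : Cfsg.IsPModular p M) (H : Subgroup G) (b : Set (Cfsg.IrrCharacter ↥H)) (hb : Cfsg.IsPBlock M b) (D₀ : Subgroup ↥H) (hD₀ : Cfsg.IsDefectGroup p M b D₀) (hC : Subgroup.centralizer ((D₀.map H.subtype : Subgroup G) : Set G) ≤ H) : Cfsg.InducedBlockDefined M H b ∧ ∀ B : Set (Cfsg.IrrCharacter G), Cfsg.IsInducedBlock M H b B → (∃ D : Subgroup G, Cfsg.IsDefectGroup p M B D ∧ (Subgroup.center ↥D).map D.subtype ≤ ((Subgroup.center ↥D₀).map D₀.subtype).map H.subtype ∧ ((Subgroup.center ↥D₀).map D₀.subtype).map H.subtype ≤ D₀.map H.subtype ∧ D₀.map H.subtype ≤ D) ∧ (∀ D : Subgroup G, Cfsg.IsDefectGroup p M B D → IsMulCommutative ↥D → Cfsg.IsDefectGroup p M B (D₀.map H.subtype)) := by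
  classical
  have : Fintype G := Fintype.ofFinite G
  have hMp : M.IsPrime := isPrime_of_isPModular hM
  have hP₀ : IsPGroup p D₀ := IsDefectGroup.isPGroup hD₀
  -- a maximal `b`-pair `(D₀, f')` in `H`
  have hD₀' := hD₀
  obtain ⟨g₀, hg₀, S, hS⟩ := hD₀'
  have hg₀c : g₀ ∈ Subgroup.centralizer (D₀ : Set ↥H) := by
    rw [Subgroup.mem_centralizer_iff]
    intro d hd
    rw [hS] at hd
    obtain ⟨s, -, rfl⟩ := hd
    exact Subgroup.mem_centralizer_singleton_iff.mp s.2
  obtain ⟨ξ', θ, hθ, hbr'⟩ := exists_brInd_of_blockCoeff hM D₀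
    (Subgroup.centralizer (D₀ : Set ↥H)) hP₀ le_rfl (Subgroup.centralizer_le_normalizer _) hb g₀
    hg₀c hg₀.2.1
  have hpair' : IsBrauerPairOf p M b D₀
      (blockOf M (ξ' : Subgroup.centralizer (D₀ : Set ↥H) → ℂ)) :=
    isBrauerPairOf_of_brInd hM D₀ hP₀ hb hθ hbr'
  have hmax' := isMaximal_of_isDefectGroup hM hpair' hD₀
  have hZ' := center_isDefectGroup_of_maximal hM hmax'
  -- transfer to `G`
  have hrel : CentRel H D₀ (D₀.map H.subtype) := centRel_map H D₀ hC
  have hP' : IsPGroup p (D₀.map H.subtype) := hP₀.map _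
  obtain ⟨χ, hbr⟩ := exists_brInd hM (D₀.map H.subtype)
    (Subgroup.centralizer ((D₀.map H.subtype : Subgroup G) : Set G)) hP' le_rfl
    (Subgroup.centralizer_le_normalizer _) (irrMap (relCent H D₀ (D₀.map H.subtype) hrel) ξ')
  have key : ∀ θ₁ ∈ b, ∀ g : G, MemLocalIdeal M
      (inducedCentralChar H (θ₁ : ↥H → ℂ) g - centralChar (χ : G → ℂ) g) := by
    intro θ₁ hθ₁ g
    rw [Cfsg.Agent.Lib.helper77.inducedCentralChar_eq_om]
    have hw : classAlg M (Cfsg.Agent.Lib.helper77.resClassInd H g) :=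
      ⟨Cfsg.Agent.Lib.helper77.isClassFunction_resClassInd H g,
        fun h => Cfsg.Agent.Lib.helper77.memLocalRing_resClassInd H hMp g h⟩
    have h1 := memLocalIdeal_om_sub hMp θ₁ θ (sameBlock_of_mem hMp hb hθ₁ hθ) _ hw.1 hw.2
    have h2 := hbr' _ hw
    have h3 := hbr _ (classAlg_classInd hMp g)
    rw [om_classInd] at h3
    have h4 : om (ξ' : Subgroup.centralizer (D₀ : Set ↥H) → ℂ)
          (brH D₀ (Subgroup.centralizer (D₀ : Set ↥H)) (Cfsg.Agent.Lib.helper77.resClassInd H g))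
        = om (irrMap (relCent H D₀ (D₀.map H.subtype) hrel) ξ' :
            Subgroup.centralizer ((D₀.map H.subtype : Subgroup G) : Set G) → ℂ)
          (brH (D₀.map H.subtype) (Subgroup.centralizer ((D₀.map H.subtype : Subgroup G) : Set G))
            (classInd g)) := by
      unfold om
      rw [irrMap_apply, map_one]
      congr 1
      refine Fintype.sum_equiv (relCent H D₀ (D₀.map H.subtype) hrel).toEquiv _ _ (fun c' => ?_)
      rw [brH_of_mem _ _ _ c'.2]
      have hmem : (((relCent H D₀ (D₀.map H.subtype) hrel).toEquiv c' :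
          Subgroup.centralizer ((D₀.map H.subtype : Subgroup G) : Set G)) : G)
          ∈ Subgroup.centralizer ((D₀.map H.subtype : Subgroup G) : Set G) :=
        ((relCent H D₀ (D₀.map H.subtype) hrel).toEquiv c').2
      rw [brH_of_mem _ _ _ hmem]
      have h5 := irrMap_apply' (relCent H D₀ (D₀.map H.subtype) hrel) ξ' c'
      simp only [MulEquiv.toEquiv_eq_coe, MulEquiv.coe_toEquiv]
      rw [h5]
      rfl
    rw [h4] at h2
    have := memLocalIdeal_add hMp (memLocalIdeal_sub hMp h1 h2) h3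
    convert this using 1
    ring
  refine ⟨⟨blockOf M (χ : G → ℂ), hb, isPBlock_blockOf M χ, ?_⟩, ?_⟩
  · intro θ₁ hθ₁ χ₁ hχ₁ g
    have h1 := key θ₁ hθ₁ g
    have h2 : MemLocalIdeal M (centralChar (χ : G → ℂ) g - centralChar (χ₁ : G → ℂ) g) := hχ₁ g
    have := memLocalIdeal_add hMp h1 h2
    convert this using 1
    ring
  · intro B hind
    obtain ⟨χ₁, hχ₁⟩ := isPBlock_nonempty hMp hind.2.1
    have hχB : χ ∈ B := by
      rw [eq_blockOf_of_mem hMp hind.2.1 hχ₁]
      intro g
      have h1 := hind.2.2 θ hθ χ₁ hχ₁ g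
      have h2 := key θ hθ g
      have h3 := memLocalIdeal_sub hMp h2 h1
      convert h3 using 1
      ring
    have hpair : IsBrauerPairOf p M B (D₀.map H.subtype)
        (blockOf M (irrMap (relCent H D₀ (D₀.map H.subtype) hrel) ξ' :
          Subgroup.centralizer ((D₀.map H.subtype : Subgroup G) : Set G) → ℂ)) :=
      isBrauerPairOf_of_brInd hM (D₀.map H.subtype) hP' hind.2.1 hχB hbr
    obtain ⟨P, e, hmaxP, hle⟩ := exists_maximal_above hM _ (D₀.map H.subtype) _ rfl hpair
    have hPD : IsDefectGroup p M B P := isDefectGroup_of_maximal hM hmaxP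
    have hD₀P : D₀.map H.subtype ≤ P := subpairLE_le ⟨_, _⟩ ⟨_, _⟩ hle
    obtain ⟨𝔇, h𝔇, h𝔇le⟩ := exists_defectGroup_centralizer_le hM hmaxP.1.1 hD₀P
      (isPBlock_blockOf M _) hle
    have hZmap := isDefectGroup_blockMap (relCent H D₀ (D₀.map H.subtype) hrel) hZ'
    rw [blockMap_blockOf] at hZmap
    have hcard := IsDefectGroup.card_eq hM (isPBlock_blockOf M _) h𝔇 hZmap
    have hZle : ((D₀ ⊓ Subgroup.centralizer (D₀ : Set ↥H)).subgroupOf
        (Subgroup.centralizer (D₀ : Set ↥H))).map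
          (relCent H D₀ (D₀.map H.subtype) hrel).toMonoidHom ≤ 𝔇 := by
      refine le_trans ?_ h𝔇le
      rintro _ ⟨c', hc', rfl⟩
      rw [SetLike.mem_coe, Subgroup.mem_subgroupOf] at hc'
      rw [Subgroup.mem_subgroupOf]
      exact ⟨hD₀P ⟨(c' : ↥H), hc'.1, rfl⟩,
        ((relCent H D₀ (D₀.map H.subtype) hrel) c').2⟩
    have heq := Subgroup.eq_of_le_of_card_ge hZle (le_of_eq hcard.symm)
    have hcen : ∀ z ∈ P, (∀ u ∈ P, u * z = z * u) →
        z ∈ ((Subgroup.center ↥D₀).map D₀.subtype).map H.subtype := by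
      intro z hzP hzc
      have hzC : z ∈ Subgroup.centralizer ((D₀.map H.subtype : Subgroup G) : Set G) := by
        rw [Subgroup.mem_centralizer_iff]
        intro u hu
        exact hzc u (hD₀P hu)
      have h1 : (⟨z, hzC⟩ : Subgroup.centralizer ((D₀.map H.subtype : Subgroup G) : Set G)) ∈ 𝔇 :=
        h𝔇le (Subgroup.mem_subgroupOf.mpr ⟨hzP, hzC⟩)
      rw [← heq] at h1
      obtain ⟨c', hc', hc'z⟩ := h1
      rw [SetLike.mem_coe, Subgroup.mem_subgroupOf] at hc'
      have hz' : ((c' : ↥H) : G) = z := congrArg Subtype.val hc'z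
      refine ⟨(c' : ↥H), ⟨⟨(c' : ↥H), hc'.1⟩, ?_, rfl⟩, hz'⟩
      rw [SetLike.mem_coe, Subgroup.mem_center_iff]
      intro d
      apply Subtype.ext
      exact (Subgroup.mem_centralizer_iff.mp hc'.2) d d.2
    refine ⟨⟨P, hPD, ?_, Subgroup.map_mono (Subgroup.map_subtype_le _), hD₀P⟩, ?_⟩
    · rintro _ ⟨zz, hzz, rfl⟩
      apply hcen _ zz.2
      intro u hu
      rw [SetLike.mem_coe] at hzz
      have := (Subgroup.mem_center_iff.mp hzz) ⟨u, hu⟩
      exact congrArg Subtype.val this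
    · intro D hD hab
      obtain ⟨x, hx⟩ := IsDefectGroup.exists_conj_eq hM hind.2.1 hD hPD
      have hPab : ∀ u ∈ P, ∀ v ∈ P, u * v = v * u := by
        intro u hu v hv
        rw [hx] at hu hv
        obtain ⟨a, ha, rfl⟩ := hu
        obtain ⟨c, hc, rfl⟩ := hv
        have h1 : (⟨a, ha⟩ : ↥D) * ⟨c, hc⟩ = ⟨c, hc⟩ * ⟨a, ha⟩ := hab.is_comm.comm _ _
        have h2 : a * c = c * a := congrArg Subtype.val h1
        simp only [MulEquiv.coe_toMonoidHom, MulAut.conj_apply]
        calc x * a * x⁻¹ * (x * c * x⁻¹) = x * (a * c) * x⁻¹ := by group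
          _ = x * (c * a) * x⁻¹ := by rw [h2]
          _ = x * c * x⁻¹ * (x * a * x⁻¹) := by group
      have hPle : P ≤ D₀.map H.subtype := fun z hz =>
        (Subgroup.map_mono (Subgroup.map_subtype_le _))
          (hcen z hz (fun u hu => hPab u hu z hz))
      have hPeq : P = D₀.map H.subtype := le_antisymm hPle hD₀P
      rw [← hPeq]
      exact hPD

end Cfsg.Agent.S4726
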