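import Mathlib
import Cfsg.Statements.S4728
import Cfsg.Agent.Lib.helper20.PiKer5

set_option autoImplicit false
open Cfsg

namespace Cfsg.Agent.S4728

open Cfsg.Agent.Lib.helper20

/-- Let p be a prime, π a set of primes containing p, M a maximal ideal of the algebraic integers containing p, B a p-block of the finite group G with defect group D, and B₁ the block of N_G(D) with defect group D inducing B. Let D₀ be a p-subgroup, H₀ = D₀·C_G(D₀), and b a block of H₀ inducing B. Write O_π'(X) for the largest normal subgroup of X whose order has no prime divisor in π. Suppose that O_π'(C_G(D₀)) is a normal Hall π'-subgroup of C_G(D₀) (it contains every element of C_G(D₀) whose order has no prime divisor in π) and that every element of it lies in the kernel of every member of b. Then every element of O_π'(N_G(D)) lies in the kernel of every member of B₁. -/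
theorem result {G : Type*} [Group G] [Finite G] (p : ℕ) [Fact p.Prime] (M : Ideal Cfsg.AlgInt) (hM : Cfsg.IsPModular p M) (π : Set ℕ) (hpπ : p ∈ π) (B : Set (Cfsg.IrrCharacter G)) (hB : Cfsg.IsPBlock M B) (D : Subgroup G) (hBD : Cfsg.IsDefectGroup p M B D) (B₁ : Set (Cfsg.IrrCharacter ↥(Subgroup.normalizer (D : Set G)))) (hB₁ : Cfsg.IsInducedBlock M (Subgroup.normalizer (D : Set G)) B₁ B) (hB₁D : Cfsg.IsDefectGroup p M B₁ (D.subgroupOf (Subgroup.normalizer (D : Set G)))) (D₀ : Subgroup G) (hD₀ : IsPGroup p D₀) (H₀ : Subgroup G) (hH₀ : H₀ = D₀ ⊔ Subgroup.centralizer (D₀ : Set G)) (b : Set (Cfsg.IrrCharacter ↥H₀)) (hb : Cfsg.IsInducedBlock M H₀ b B) (hcompl : ∀ x : ↥(Subgroup.centralizer (D₀ : Set G)), (∀ q : ℕ, q.Prime → q ∣ orderOf x → q ∉ π) → x ∈ Cfsg.piCore {q | q ∉ π} ↥(Subgroup.centralizer (D₀ : Set G))) (hkerb : ∀ x : ↥(Subgroup.centralizer (D₀ : Set G)), x ∈ Cfsg.piCore {q | q ∉ π} ↥(Subgroup.centralizer (D₀ : Set G)) → ∀ θ ∈ b, ∀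 h : ↥H₀, (h : G) = (x : G) → (θ : ↥H₀ → ℂ) h = (θ : ↥H₀ → ℂ) 1) : ∀ n : ↥(Subgroup.normalizer (D : Set G)), n ∈ Cfsg.piCore {q | q ∉ π} ↥(Subgroup.normalizer (D : Set G)) → n ∈ Cfsg.blockKer B₁ := by
  classical
  have : Fintype G := Fintype.ofFinite G
  have : Fintype (Subgroup.normalizer (D : Set G)) := Fintype.ofFinite _
  have : Fintype (Subgroup.centralizer (D : Set G)) := Fintype.ofFinite _
  have : Fintype H₀ := Fintype.ofFinite _
  have : Fintype (Subgroup.centralizer (D₀ : Set G)) := Fintype.ofFinite _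
  have hPH : D₀ ≤ H₀ := by rw [hH₀]; exact le_sup_left
  have hCH : Subgroup.centralizer (D₀ : Set G) ≤ H₀ := by rw [hH₀]; exact le_sup_right
  have hHN : H₀ ≤ Subgroup.normalizer (D₀ : Set G) := by
    rw [hH₀]; exact sup_le Subgroup.le_normalizer (Subgroup.centralizer_le_normalizer _)
  -- the pair at `D₀`
  obtain ⟨e₀, he₀, hcov₀⟩ := Cfsg.Agent.Lib.helper80.exists_covers hM D₀ H₀ hD₀ hPH hCH hHN hb.1
  have hpair₀ := isBrauerPairOf_of_covers hM D₀ H₀ hD₀ hPH hCH hHN hb.1 he₀ hcov₀ hB hb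
  have hK₀ : KerProp π D₀ e₀ := by
    apply (covers_trivOnG_iff hM D₀ H₀ hD₀ hPH hCH hb.1 he₀ hcov₀ (opiC π D₀) (opiOf_le π _)
      (fun h hh k hk => opiC_conj_of_mem_normalizer π D₀ (hHN hh) hk) (opiOf_coprime hpπ _)).1
    intro θ hθ c hc
    have hcC : (c : G) ∈ Subgroup.centralizer (D₀ : Set G) := opiOf_le π _ hc
    exact hkerb ⟨(c : G), hcC⟩ ((mem_opiOf_iff π _ ⟨(c : G), hcC⟩).1 hc) θ hθ c rfl
  have hHall₀ : HallProp π D₀ := by
    intro x hx hxπ
    apply (mem_opiOf_iff π _ ⟨x, hx⟩).2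
    apply hcompl
    intro q hq hdvd
    apply hxπ q hq
    rwa [Subgroup.orderOf_mk] at hdvd
  -- the top pair
  obtain ⟨e, he, hcov, hmax⟩ := exists_top_pair hM hBD hB₁
  obtain ⟨x, hle⟩ := Cfsg.Agent.Lib.helper80.exists_conj_le_maximal hM hmax hpair₀
  have h1 := kerProp_hall_of_le hM hpπ hle
    ⟨(kerProp_conj_iff π D₀ x e₀).2 hK₀, hallProp_conj π D₀ x hHall₀⟩
  exact (kerProp_top_iff hM hpπ (Cfsg.Agent.Lib.helper80.IsDefectGroup.isPGroup hBD) hB₁.1 he
    hcov).2 h1.1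

end Cfsg.Agent.S4728
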