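-- Statement S4729: perfect group, faithful principal-block character of degree < 2p.
import Cfsg.Statements.S4729
import Cfsg.Agent.Lib.helper81.EigenDet
import Cfsg.Agent.Lib.helper81.Blocks
import Cfsg.Agent.Lib.helper81.CharOrtho
import Cfsg.Agent.Lib.helper80.LocalInt
import Cfsg.Agent.Lib.helper80.Nilpotent
import Cfsg.Agent.Lib.helper20.Basic

set_option autoImplicit false
open Cfsg

namespace Cfsg.Agent.S4729

open Cfsg.Agent.Lib

/-- Let p be a prime, M a maximal ideal of the algebraic integers containing p, G a finite perfect group and P a Sylow p-subgroup. If the principal p-block of G contains a faithful irreducible character of degree less than 2p, then the centralizer of P is a p-group. -/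
theorem result {G : Type*} [Group G] [Finite G] (p : ℕ) [Fact p.Prime] (M : Ideal Cfsg.AlgInt) (hM : Cfsg.IsPModular p M) (hperf : commutator G = ⊤) (P : Sylow p G) (χ : Cfsg.IrrCharacter G) (hχ : χ ∈ Cfsg.principalBlock M G) (hfaith : ∀ g : G, (χ : G → ℂ) g = (χ : G → ℂ) 1 → g = 1) (hdeg : Cfsg.charDegree (χ : G → ℂ) < 2 * p) : IsPGroup p ↥(Subgroup.centralizer ((P : Subgroup G) : Set G)) := by
  classical
  have : Fintype G := Fintype.ofFinite G
  have hMp := helper20.isPrime_of_isPModular hM
  have hp : p.Prime := Fact.out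
  obtain ⟨m, ρ, hirr, hχρ⟩ := χ.2
  have hχ1 : (χ : G → ℂ) 1 = (m : ℂ) := by
    rw [← hχρ]
    simp [Representation.character]
  have hm : charDegree (χ : G → ℂ) = m := by
    have h1 := helper81.irr_one_eq_charDegree χ
    rw [hχ1] at h1
    exact_mod_cast h1.symm
  rw [hm] at hdeg
  have hmpos : 0 < m := by
    rw [← hm]
    exact helper81.irr_charDegree_pos χ
  have hm0 : (m : ℂ) ≠ 0 := by exact_mod_cast hmpos.ne'
  intro z
  obtain ⟨a, ha⟩ := helper80.exists_pRegular_pow (p := p) (z : G)
  refine ⟨a, Subtype.ext ?_⟩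
  rw [Subgroup.coe_pow, Subgroup.coe_one]
  by_contra hx1
  obtain ⟨x, hxdef⟩ : ∃ x : G, x = (z : G) ^ p ^ a := ⟨_, rfl⟩
  rw [← hxdef] at hx1 ha
  have hxC : x ∈ Subgroup.centralizer ((P : Subgroup G) : Set G) := by
    rw [hxdef]
    exact Subgroup.pow_mem _ z.2 _
  have hreg : ¬ p ∣ orderOf x := ha
  obtain ⟨o, ho⟩ : ∃ o : ℕ, o = orderOf x := ⟨_, rfl⟩
  have hopos : 0 < o := by
    rw [ho]
    exact orderOf_pos x
  have hxo : x ^ o = 1 := by
    rw [ho]
    exact pow_orderOf_eq_one x
  have hopreg : ¬ p ∣ o := by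
    rw [ho]
    exact hreg
  obtain ⟨ι, hι, μ, hμ, hchar, hdet, hcard⟩ := helper81.exists_eigen_data ρ x o hopos hxo
  rw [helper81.det_eq_one_of_perfect hperf ρ x] at hdet
  rw [Module.finrank_fin_fun] at hcard
  have hchar' : ∀ k : ℕ, (χ : G → ℂ) (x ^ k) = ∑ i, μ i ^ k := by
    intro k
    rw [← hχρ]
    exact hchar k
  -- congruences from the principal block
  have ht : ∀ k : ℕ, MemLocalIdeal M ((χ : G → ℂ) (x ^ k) / (m : ℂ) - 1) := by
    intro k
    have h1 := (helper81.mem_principalBlock_iff.mp hχ) (x ^ k)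
    have hPle : (P : Subgroup G) ≤ Subgroup.centralizer ({x ^ k} : Set G) := by
      intro u hu
      rw [Subgroup.mem_centralizer_singleton_iff]
      have hxk : x ^ k ∈ Subgroup.centralizer ((P : Subgroup G) : Set G) :=
        Subgroup.pow_mem _ hxC k
      rw [Subgroup.mem_centralizer_iff] at hxk
      exact hxk u hu
    have hidx : ¬ p ∣ (Subgroup.centralizer ({x ^ k} : Set G)).index := by
      intro hdvd
      exact P.not_dvd_index (dvd_trans hdvd (Subgroup.index_dvd_of_le hPle))
    obtain ⟨u, hu⟩ : ∃ u : ℕ, u = (Subgroup.centralizer ({x ^ k} : Set G)).index := ⟨_, rfl⟩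
    have hcc : centralChar (χ : G → ℂ) (x ^ k) = (u : ℂ) * (χ : G → ℂ) (x ^ k) / (m : ℂ) := by
      unfold centralChar
      rw [← hu, hχ1]
    rw [← hu, hcc] at h1
    rw [← hu] at hidx
    have hu0 : (u : ℂ) ≠ 0 := by
      intro h0
      apply hidx
      have h2 : u = 0 := by exact_mod_cast h0
      rw [h2]
      exact dvd_zero p
    have hinv : MemLocalRing M ((u : ℂ)⁻¹) :=
      helper81.memLocalRing_inv (helper20.memLocalRing_natCast hMp u)
        (helper80.not_memLocalIdeal_natCast hM hidx)
    have h2 := helper20.memLocalIdeal_neg (helper20.memLocalIdeal_mul_left hMp hinv h1)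
    have e : -((u : ℂ)⁻¹ * ((u : ℂ) - (u : ℂ) * (χ : G → ℂ) (x ^ k) / (m : ℂ)))
        = (χ : G → ℂ) (x ^ k) / (m : ℂ) - 1 := by
      field_simp
      ring
    rwa [e] at h2
  -- multiplicities
  have hkey : ∀ ε : ℂ, ε ^ o = 1 → ε ≠ 1 → ∃ j : ℂ, MemLocalIdeal M j ∧
      (((Finset.univ.filter (fun i => μ i = ε)).card : ℕ) : ℂ) = (m : ℂ) * j := by
    intro ε hε hε1
    have hε0 : ε ≠ 0 := by
      rintro rfl
      rw [zero_pow hopos.ne'] at hε
      exact zero_ne_one hε
    have hS1 : ∑ k ∈ Finset.range o, (χ : G → ℂ) (x ^ k) * (ε⁻¹) ^ k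
        = (o : ℂ) * (((Finset.univ.filter (fun i => μ i = ε)).card : ℕ) : ℂ) := by
      simp only [hchar', Finset.sum_mul]
      rw [Finset.sum_comm]
      have hterm : ∀ i, ∑ k ∈ Finset.range o, μ i ^ k * (ε⁻¹) ^ k
          = if μ i = ε then (o : ℂ) else 0 := by
        intro i
        by_cases hi : μ i = ε
        · rw [if_pos hi, hi]
          have h1 : ∀ k ∈ Finset.range o, ε ^ k * (ε⁻¹) ^ k = 1 := by
            intro k _
            rw [← mul_pow, mul_inv_cancel₀ hε0, one_pow]
          rw [Finset.sum_congr rfl h1]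
          simp
        · rw [if_neg hi]
          have hne : μ i * ε⁻¹ ≠ 1 := by
            intro h
            apply hi
            have h2 := congrArg (fun t => t * ε) h
            simp only [mul_assoc, inv_mul_cancel₀ hε0, mul_one, one_mul] at h2
            exact h2
          simp only [← mul_pow]
          rw [geom_sum_eq hne, mul_pow, hμ i, inv_pow, hε]
          simp
      rw [Finset.sum_congr rfl (fun i _ => hterm i), Finset.sum_ite, Finset.sum_const_zero,
        add_zero, Finset.sum_const, nsmul_eq_mul]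
      ring
    have hgeom : ∑ k ∈ Finset.range o, (ε⁻¹) ^ k = 0 := by
      have hne : ε⁻¹ ≠ 1 := by
        intro h
        apply hε1
        exact inv_eq_one.mp h
      rw [geom_sum_eq hne, inv_pow, hε]
      simp
    obtain ⟨s, hs⟩ : ∃ s : ℂ, s = ∑ k ∈ Finset.range o,
        ((χ : G → ℂ) (x ^ k) / (m : ℂ) - 1) * (ε⁻¹) ^ k := ⟨_, rfl⟩
    have hsJ : MemLocalIdeal M s := by
      rw [hs]
      apply helper20.memLocalIdeal_sum hMp
      intro k _
      apply helper20.memLocalIdeal_mul_right hMp (ht k)
      have hint : IsIntegral ℤ ((ε⁻¹) ^ k) := by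
        apply IsIntegral.pow
        apply IsIntegral.of_pow hopos
        rw [inv_pow, hε, inv_one]
        exact isIntegral_one
      exact helper20.memLocalRing_of_algInt hMp ⟨_, hint⟩
    have hS2 : ∑ k ∈ Finset.range o, (χ : G → ℂ) (x ^ k) * (ε⁻¹) ^ k = (m : ℂ) * s := by
      rw [hs, Finset.mul_sum]
      have h1 : ∀ k ∈ Finset.range o, (χ : G → ℂ) (x ^ k) * (ε⁻¹) ^ k
          = (m : ℂ) * (((χ : G → ℂ) (x ^ k) / (m : ℂ) - 1) * (ε⁻¹) ^ k)
            + (m : ℂ) * (ε⁻¹) ^ k := by
        intro k _
        field_simp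
        ring
      rw [Finset.sum_congr rfl h1, Finset.sum_add_distrib, ← Finset.mul_sum, ← Finset.mul_sum,
        hgeom, mul_zero, add_zero, Finset.mul_sum]
    have ho0 : ¬ MemLocalIdeal M (o : ℂ) := helper80.not_memLocalIdeal_natCast hM hopreg
    have hoinv := helper81.memLocalRing_inv (helper20.memLocalRing_natCast hMp o) ho0
    refine ⟨(o : ℂ)⁻¹ * s, helper20.memLocalIdeal_mul_left hMp hoinv hsJ, ?_⟩
    have ho0' : (o : ℂ) ≠ 0 := by exact_mod_cast hopos.ne'
    have h3 := hS1.symm.trans hS2
    field_simp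
    linear_combination h3
  have hN_le : ∀ ε : ℂ, (Finset.univ.filter (fun i => μ i = ε)).card ≤ m := by
    intro ε
    rw [← hcard]
    exact Finset.card_le_univ _
  have hex : ∃ i₀, μ i₀ ≠ 1 := by
    by_contra hall
    push Not at hall
    apply hx1
    apply hfaith
    have h1 := hchar' 1
    rw [pow_one] at h1
    rw [h1, hχ1]
    simp [hall, hcard]
  obtain ⟨i₀, hi₀⟩ := hex
  obtain ⟨j₀, hj₀J, hj₀⟩ := hkey (μ i₀) (hμ i₀) hi₀
  have hN0pos : 0 < (Finset.univ.filter (fun i => μ i = μ i₀)).card :=
    Finset.card_pos.mpr ⟨i₀, by simp⟩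
  have hNJ : MemLocalIdeal M
      ((((Finset.univ.filter (fun i => μ i = μ i₀)).card : ℕ) : ℂ)) := by
    rw [hj₀]
    exact helper20.memLocalIdeal_mul_left hMp (helper20.memLocalRing_natCast hMp m) hj₀J
  have hpN : p ∣ (Finset.univ.filter (fun i => μ i = μ i₀)).card := by
    by_contra hnd
    exact helper80.not_memLocalIdeal_natCast hM hnd hNJ
  by_cases hpm : p ∣ m
  · -- `m = p`
    have hmp : m = p := by
      obtain ⟨c, hc⟩ := hpm
      have hc1 : c = 1 := by
        have h1 : 0 < c := by
          rcases Nat.eq_zero_or_pos c with h | h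
          · rw [h, mul_zero] at hc
            omega
          · exact h
        have h2 : c < 2 := by
          by_contra h3
          push Not at h3
          have : p * 2 ≤ p * c := Nat.mul_le_mul_left p h3
          omega
        omega
      rw [hc, hc1, mul_one]
    obtain ⟨n', hn'⟩ := hpN
    have hn'J : MemLocalIdeal M (n' : ℂ) := by
      have hp0 : (p : ℂ) ≠ 0 := by exact_mod_cast hp.ne_zero
      have h1 : (n' : ℂ) = j₀ := by
        rw [hn', hmp] at hj₀
        push_cast at hj₀
        exact mul_left_cancel₀ hp0 hj₀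
      rw [h1]
      exact hj₀J
    have hpn' : p ∣ n' := by
      by_contra hnd
      exact helper80.not_memLocalIdeal_natCast hM hnd hn'J
    have hn'pos : 0 < n' := by
      rcases Nat.eq_zero_or_pos n' with h | h
      · rw [h, mul_zero] at hn'
        omega
      · exact h
    have h1 : p ≤ n' := Nat.le_of_dvd hn'pos hpn'
    have h2 := hN_le (μ i₀)
    have h3 : p * p ≤ p * n' := Nat.mul_le_mul_left p h1
    have h4 : 2 ≤ p := hp.two_le
    have h5 : p * 2 ≤ p * p := Nat.mul_le_mul_left p h4
    omega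
  · have hdvd : ∀ ε : ℂ, ε ^ o = 1 → ε ≠ 1 →
        p ∣ (Finset.univ.filter (fun i => μ i = ε)).card := by
      intro ε hε hε1
      obtain ⟨j, hjJ, hj⟩ := hkey ε hε hε1
      by_contra hnd
      apply helper80.not_memLocalIdeal_natCast hM hnd
      rw [hj]
      exact helper20.memLocalIdeal_mul_left hMp (helper20.memLocalRing_natCast hMp m) hjJ
    have hN0 : p ≤ (Finset.univ.filter (fun i => μ i = μ i₀)).card :=
      Nat.le_of_dvd hN0pos hpN
    have hall : ∀ i, μ i = 1 ∨ μ i = μ i₀ := by
      intro i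
      by_contra hcon
      push Not at hcon
      have h1 : p ≤ (Finset.univ.filter (fun k => μ k = μ i)).card :=
        Nat.le_of_dvd (Finset.card_pos.mpr ⟨i, by simp⟩) (hdvd _ (hμ i) hcon.1)
      have hdisj : Disjoint (Finset.univ.filter (fun k => μ k = μ i₀))
          (Finset.univ.filter (fun k => μ k = μ i)) := by
        rw [Finset.disjoint_filter]
        intro k _ h2 h3
        exact hcon.2 (h3.symm.trans h2)
      have h2 := Finset.card_union_of_disjoint hdisj
      have h3 : ((Finset.univ.filter (fun k => μ k = μ i₀))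
          ∪ (Finset.univ.filter (fun k => μ k = μ i))).card ≤ m := by
        rw [← hcard]
        exact Finset.card_le_univ _
      omega
    have hNp : (Finset.univ.filter (fun i => μ i = μ i₀)).card = p := by
      obtain ⟨c, hc⟩ := hpN
      have h2 := hN_le (μ i₀)
      have hc1 : c = 1 := by
        have h1 : 0 < c := by
          rcases Nat.eq_zero_or_pos c with h | h
          · rw [h, mul_zero] at hc
            omega
          · exact h
        have h3 : c < 2 := by
          by_contra h4
          push Not at h4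
          have : p * 2 ≤ p * c := Nat.mul_le_mul_left p h4
          omega
        omega
      rw [hc, hc1, mul_one]
    have hprod : ∏ i, μ i = (μ i₀) ^ (Finset.univ.filter (fun i => μ i = μ i₀)).card := by
      rw [← Finset.prod_filter_mul_prod_filter_not Finset.univ (fun i => μ i = μ i₀)]
      rw [Finset.prod_congr rfl (fun i hi => (Finset.mem_filter.mp hi).2), Finset.prod_const]
      have h1 : ∏ i ∈ Finset.univ.filter (fun i => ¬ μ i = μ i₀), μ i = 1 := by
        apply Finset.prod_eq_one
        intro i hi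
        rcases hall i with h | h
        · exact h
        · exact absurd h (Finset.mem_filter.mp hi).2
      rw [h1, mul_one]
    rw [hprod, hNp] at hdet
    have h1 : (μ i₀) ^ (Nat.gcd p o) = 1 := pow_gcd_eq_one.mpr ⟨hdet.symm, hμ i₀⟩
    have hcop : Nat.gcd p o = 1 := (Nat.Prime.coprime_iff_not_dvd hp).mpr hopreg
    rw [hcop, pow_one] at h1
    exact hi₀ h1

end Cfsg.Agent.S4729
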