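import Cfsg.Statements.S4730
import Cfsg.Agent.Lib.helper81.Faithful
-- import your own Cfsg.Agent.* helpers here

set_option autoImplicit false
open Cfsg

namespace Cfsg.Agent.S4730

open Cfsg.Agent.Lib.helper81 Cfsg.Agent.Lib.helper20

/-- Let p be a prime, M a maximal ideal of the algebraic integers containing p, and G a finite group with trivial centre, Sylow p-subgroup P of order p^a and centre Z(P) of order p^b. If χ is a faithful irreducible character of G whose degree is a power of p, then the p-block of χ has defect at most a − b; in particular, if P is abelian then χ lies in a block of defect zero. -/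
theorem result {G : Type*} [Group G] [Finite G] (p : ℕ) [Fact p.Prime] (M : Ideal Cfsg.AlgInt) (hM : Cfsg.IsPModular p M) (hZ : Subgroup.center G = ⊥) (P : Sylow p G) (a b : ℕ) (ha : Nat.card P = p ^ a) (hb : Nat.card (Subgroup.center ↥(P : Subgroup G)) = p ^ b) (χ : Cfsg.IrrCharacter G) (hfaith : ∀ g : G, (χ : G → ℂ) g = (χ : G → ℂ) 1 → g = 1) (n : ℕ) (hdeg : Cfsg.charDegree (χ : G → ℂ) = p ^ n) : Cfsg.blockDefect p (Cfsg.blockOf M (χ : G → ℂ)) ≤ a - b ∧ (IsMulCommutative ↥(P : Subgroup G) → Cfsg.blockDefect p (Cfsg.blockOf M (χ : G → ℂ)) = 0) := by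
  classical
  have := Fintype.ofFinite G
  have hp := (Fact.out : p.Prime)
  have hMp : M.IsPrime := isPrime_of_isPModular hM
  set Z : Subgroup G :=
    (Subgroup.center ↥(P : Subgroup G)).map (P : Subgroup G).subtype with hZdef
  have hZcard : Nat.card Z = p ^ b := by
    rw [hZdef, Subgroup.card_map_of_injective (Subgroup.subtype_injective _)]
    exact hb
  have hZmem : ∀ z ∈ Z, z ∈ (P : Subgroup G) ∧ ∀ y ∈ (P : Subgroup G), y * z = z * y := by
    intro z hz
    obtain ⟨w, hw, rfl⟩ := Subgroup.mem_map.mp hz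
    refine ⟨w.2, fun y hy => ?_⟩
    have := Subgroup.mem_center_iff.mp hw ⟨y, hy⟩
    exact congrArg Subtype.val this
  -- `χ` vanishes on `Z(P) \ 1`
  have hvanχ : ∀ z ∈ Z, z ≠ 1 → (χ : G → ℂ) z = 0 ∧
      ¬ p ∣ (Subgroup.centralizer ({z} : Set G)).index := by
    intro z hz hz1
    obtain ⟨hzP, hzc⟩ := hZmem z hz
    have hle : (P : Subgroup G) ≤ Subgroup.centralizer ({z} : Set G) := by
      intro y hy
      rw [Subgroup.mem_centralizer_iff]
      intro w hw
      rw [Set.mem_singleton_iff] at hw
      subst hw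
      exact (hzc y hy).symm
    have hidx : ¬ p ∣ (Subgroup.centralizer ({z} : Set G)).index := by
      intro h
      exact P.not_dvd_index (h.trans (Subgroup.index_dvd_of_le hle))
    refine ⟨irr_vanish_of_coprime_of_faithful hZ χ hfaith z hz1 ?_, hidx⟩
    rw [hdeg]
    exact Nat.Coprime.pow_left n ((Nat.Prime.coprime_iff_not_dvd hp).mpr hidx)
  have key : ∀ ψ ∈ blockOf M (χ : G → ℂ), p ^ b ∣ charDegree (ψ : G → ℂ) := by
    intro ψ hψ
    apply pow_dvd_degree_of_vanish_mod p hM ψ Z b hZcard
    intro z hz hz1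
    obtain ⟨h0, hidx⟩ := hvanχ z hz hz1
    have h1 : MemLocalIdeal M (centralChar (χ : G → ℂ) z - centralChar (ψ : G → ℂ) z) := hψ z
    have h2 : centralChar (χ : G → ℂ) z = 0 := by
      unfold centralChar
      rw [h0, mul_zero, zero_div]
    rw [h2, zero_sub] at h1
    have h3 := memLocalIdeal_neg h1
    rw [neg_neg] at h3
    have hidx0 : ((Subgroup.centralizer ({z} : Set G)).index : ℂ) ≠ 0 := by
      have : (Subgroup.centralizer ({z} : Set G)).index ≠ 0 := by
        intro h
        rw [h] at hidx
        exact hidx (dvd_zero p)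
      exact_mod_cast this
    have h4 : MemLocalRing M (((Subgroup.centralizer ({z} : Set G)).index : ℂ)⁻¹) :=
      ⟨1, ((Subgroup.centralizer ({z} : Set G)).index : AlgInt),
        Cfsg.Agent.Lib.helper80.natCast_not_mem hM hidx, by simp⟩
    have h5 := memLocalIdeal_mul_left hMp h4 h3
    convert h5 using 1
    unfold centralChar
    field_simp
  have hfact : (Nat.card G).factorization p = a := by
    have h1 := Sylow.card_eq_multiplicity P
    rw [ha] at h1
    exact (Nat.pow_right_injective hp.two_le h1).symm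
  have hχB : χ ∈ blockOf M (χ : G → ℂ) := mem_blockOf_self hMp χ
  have hbound : blockDefect p (blockOf M (χ : G → ℂ)) ≤ a - b := by
    unfold blockDefect
    rw [hfact]
    apply Nat.sub_le_sub_left
    apply le_csInf
    · exact ⟨_, χ, hχB, rfl⟩
    · rintro _ ⟨ψ, hψ, rfl⟩
      exact (hp.pow_dvd_iff_le_factorization (irr_charDegree_pos ψ).ne').mp (key ψ hψ)
  refine ⟨hbound, fun hab => ?_⟩
  have hba : b = a := by
    have h1 : Nat.card (Subgroup.center ↥(P : Subgroup G)) = Nat.card ↥(P : Subgroup G) := by
      have : Subgroup.center ↥(P : Subgroup G) = ⊤ := by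
        rw [eq_top_iff]
        intro y _
        rw [Subgroup.mem_center_iff]
        intro g
        exact hab.is_comm.comm g y
      rw [this, Subgroup.card_top]
    rw [hb] at h1
    have h2 : Nat.card ↥(P : Subgroup G) = p ^ a := ha
    rw [h2] at h1
    exact Nat.pow_right_injective hp.two_le h1
  rw [hba, Nat.sub_self] at hbound
  exact Nat.le_zero.mp hbound

end Cfsg.Agent.S4730
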