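import Cfsg.Statements.S4731
import Cfsg.Agent.Lib.helper81.WBO2

set_option autoImplicit false
open Cfsg

namespace Cfsg.Agent.S4731

open Cfsg.Agent.Lib.helper81 Cfsg.Agent.Lib.helper20
open scoped ComplexConjugate

/-- Let p ≠ q be primes, M_p and M_q maximal ideals of the algebraic integers containing p and q respectively, and G a finite group with no element of order pq; let q^b be the q-part of the order of G. For a p-block B_p (relative to M_p), a q-block B_q (relative to M_q) and a p-singular element y, the sum of χ(1)χ(y) over the irreducible characters χ lying in both B_p and B_q is q^b times an algebraic integer. -/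
theorem result {G : Type*} [Group G] [Finite G] (p q : ℕ) [Fact p.Prime] [Fact q.Prime] (hpq : p ≠ q) (Mp Mq : Ideal Cfsg.AlgInt) (hMp : Cfsg.IsPModular p Mp) (hMq : Cfsg.IsPModular q Mq) (hno : ∀ g : G, orderOf g ≠ p * q) (b : ℕ) (hb : (Nat.card G).factorization q = b) (Bp : Set (Cfsg.IrrCharacter G)) (hBp : Cfsg.IsPBlock Mp Bp) (Bq : Set (Cfsg.IrrCharacter G)) (hBq : Cfsg.IsPBlock Mq Bq) (y : G) (hy : p ∣ orderOf y) : ∃ ω : Cfsg.AlgInt, ∑ᶠ χ ∈ Bp ∩ Bq, (Cfsg.charDegree (χ : G → ℂ) : ℂ) * (χ : G → ℂ) y = (q : ℂ) ^ b * (ω : ℂ) := by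
  classical
  have := Fintype.ofFinite G
  have hp : p.Prime := Fact.out
  have hq : q.Prime := Fact.out
  have hlocp : ∀ g, MemLocalRing Mp (blockCoeff Bp g) :=
    fun g => memLocalRing_blockCoeff (isPrime_of_isPModular hMp) hBp g
  have hlocq : ∀ g, MemLocalRing Mq (blockCoeff Bq g) :=
    fun g => memLocalRing_blockCoeff (isPrime_of_isPModular hMq) hBq g
  -- (1) no element of order divisible by both `p` and `q`
  have hnopq : ∀ x : G, p ∣ orderOf x → q ∣ orderOf x → False := by
    intro x hpx hqx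
    have hpq' : p * q ∣ orderOf x :=
      Nat.Coprime.mul_dvd_of_dvd_of_dvd ((Nat.coprime_primes hp hq).mpr hpq) hpx hqx
    obtain ⟨k, hk⟩ := hpq'
    have hpos : 0 < orderOf x := orderOf_pos x
    have hkpos : 0 < k := by
      rcases Nat.eq_zero_or_pos k with h0 | h0
      · rw [h0, mul_zero] at hk; omega
      · exact h0
    apply hno (x ^ k)
    rw [orderOf_pow_of_dvd hkpos.ne' ⟨p * q, by rw [hk]; ring⟩, hk]
    exact Nat.mul_div_cancel _ hkpos
  -- (2) vanishing at `q`-singular elements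
  have hPhi : ∀ g : G, q ∣ orderOf g →
      ∑ χ : IrrCharacter G,
        (if χ ∈ Bp ∩ Bq then (χ : G → ℂ) y * conj ((χ : G → ℂ) g) else 0) = 0 := by
    intro g hg
    have h := sum_mul_sum_irr (G := G) (fun ψ => if ψ ∈ Bp then (ψ : G → ℂ) y else 0)
      (fun χ => if χ ∈ Bq then conj ((χ : G → ℂ) g) else 0)
    have hzero : ∀ x : G,
        (∑ ψ : IrrCharacter G, (if ψ ∈ Bp then (ψ : G → ℂ) y else 0) * conj ((ψ : G → ℂ) x))
          * (∑ χ : IrrCharacter G,
              (if χ ∈ Bq then conj ((χ : G → ℂ) g) else 0) * (χ : G → ℂ) x) = 0 := by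
      intro x
      by_cases hx : p ∣ orderOf x
      · have hqx : ¬ q ∣ orderOf x := fun h => hnopq x hx h
        have h1 := wbo hMq hlocq hqx hg
        rw [mul_eq_zero]; right
        refine Eq.trans (Finset.sum_congr rfl (fun χ _ => ?_)) h1
        split_ifs
        · ring
        · ring
      · have h1 := wbo_symm hMp hlocp hy hx
        rw [mul_eq_zero]; left
        refine Eq.trans (Finset.sum_congr rfl (fun χ _ => ?_)) h1
        split_ifs
        · rfl
        · ring
    rw [Finset.sum_eq_zero (fun x _ => hzero x)] at h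
    have hG : (Nat.card G : ℂ) ≠ 0 := card_ne_zero_complex
    have h2 := (mul_eq_zero.mp h.symm).resolve_left hG
    refine Eq.trans (Finset.sum_congr rfl (fun χ _ => ?_)) h2
    by_cases h1 : χ ∈ Bp <;> by_cases h2 : χ ∈ Bq <;> simp [h1, h2]
  -- (3) sum over a Sylow `q`-subgroup
  obtain ⟨Q⟩ : Nonempty (Sylow q G) := inferInstance
  have : Fintype (Q : Subgroup G) := Fintype.ofFinite _
  have hm : ∀ χ : IrrCharacter G, ∃ m : ℕ,
      ∑ u : (Q : Subgroup G), (χ : G → ℂ) (u : G) = (Nat.card (Q : Subgroup G) : ℂ) * m :=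
    fun χ => sum_subgroup_char (irr_isCharacter χ) Q
  choose m hm using hm
  have hQcard : Nat.card (Q : Subgroup G) = q ^ b := by
    rw [Sylow.card_eq_multiplicity, hb]
  have hsumQ : ∑ u : (Q : Subgroup G), ∑ χ : IrrCharacter G,
        (if χ ∈ Bp ∩ Bq then (χ : G → ℂ) y * conj ((χ : G → ℂ) (u : G)) else 0)
      = ∑ χ : IrrCharacter G,
        (if χ ∈ Bp ∩ Bq then (χ : G → ℂ) y * conj ((χ : G → ℂ) 1) else 0) := by
    rw [Finset.sum_eq_single (1 : (Q : Subgroup G))]
    · rfl
    · intro u _ hu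
      apply hPhi
      obtain ⟨k, hk⟩ := Q.isPGroup' u
      have hdvd : orderOf u ∣ q ^ k := orderOf_dvd_of_pow_eq_one hk
      obtain ⟨j, _, hj⟩ := (Nat.dvd_prime_pow hq).mp hdvd
      rw [Subgroup.orderOf_coe, hj]
      have hj0 : j ≠ 0 := by
        rintro rfl
        rw [pow_zero, orderOf_eq_one_iff] at hj
        exact hu hj
      exact dvd_pow_self q hj0
    · intro h; exact absurd (Finset.mem_univ _) h
  rw [Finset.sum_comm] at hsumQ
  have hleft : ∀ χ : IrrCharacter G, ∑ u : (Q : Subgroup G),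
        (if χ ∈ Bp ∩ Bq then (χ : G → ℂ) y * conj ((χ : G → ℂ) (u : G)) else 0)
      = (q : ℂ) ^ b * (if χ ∈ Bp ∩ Bq then (m χ : ℂ) * (χ : G → ℂ) y else 0) := by
    intro χ
    by_cases hχ : χ ∈ Bp ∩ Bq
    · simp only [if_pos hχ]
      rw [← Finset.mul_sum, ← map_sum, hm χ, hQcard]
      simp only [map_mul, map_natCast, Nat.cast_pow, map_pow]
      ring
    · simp only [if_neg hχ]
      simp
  rw [Finset.sum_congr rfl (fun χ _ => hleft χ), ← Finset.mul_sum] at hsumQ
  have hint : IsIntegral ℤ (∑ χ : IrrCharacter G,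
      (if χ ∈ Bp ∩ Bq then (m χ : ℂ) * (χ : G → ℂ) y else 0)) := by
    apply IsIntegral.sum
    intro χ _
    split_ifs
    · exact (isIntegral_natCast (m χ)).mul (irr_isIntegral χ y)
    · exact isIntegral_zero
  refine ⟨⟨_, hint⟩, ?_⟩
  rw [finsum_mem_def, finsum_eq_sum_of_fintype]
  simp only [Set.indicator_apply]
  rw [hsumQ]
  refine Finset.sum_congr rfl (fun χ _ => ?_)
  by_cases hχ : χ ∈ Bp ∩ Bq
  · rw [if_pos hχ, if_pos hχ, irr_one_eq_charDegree]
    simp only [map_natCast]
    ring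
  · rw [if_neg hχ, if_neg hχ]

end Cfsg.Agent.S4731
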