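import Cfsg.Statements.S4733
import Cfsg.Agent.S0909
import Cfsg.Agent.Lib.helper81.WBO

set_option autoImplicit false
open Cfsg

namespace Cfsg.Agent.S4733

open Cfsg.Agent.Lib.helper81 Cfsg.Agent.Lib.helper20
open scoped ComplexConjugate

/-- Let p be a prime, M a maximal ideal of the algebraic integers containing p, and B a p-block of the finite group G with k irreducible characters and p-regular rank l (the number of irreducible Brauer characters). Then l ≤ k, and the following are equivalent: B has defect 0; k = l = 1; k = l. -/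
theorem result {G : Type*} [Group G] [Finite G] (p : ℕ) [Fact p.Prime] (M : Ideal Cfsg.AlgInt) (hM : Cfsg.IsPModular p M) (B : Set (Cfsg.IrrCharacter G)) (hB : Cfsg.IsPBlock M B) : Cfsg.blockRank p B ≤ Nat.card B ∧ (Cfsg.blockDefect p B = 0 ↔ (Nat.card B = 1 ∧ Cfsg.blockRank p B = 1)) ∧ (Cfsg.blockDefect p B = 0 ↔ Nat.card B = Cfsg.blockRank p B) := by
  classical
  have := Fintype.ofFinite G
  have hMp : M.IsPrime := isPrime_of_isPModular hM
  have hp : p.Prime := Fact.out
  set f : IrrCharacter G → (G → ℂ) := fun χ => pRegularPart p (χ : G → ℂ) with hf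
  set a := (Nat.card G).factorization p with ha
  have hrk : blockRank p B = Set.finrank ℂ (f '' B) := rfl
  have hne : B.Nonempty := isPBlock_nonempty hMp hB
  have hdeg_le : ∀ χ : IrrCharacter G, (charDegree (χ : G → ℂ)).factorization p ≤ a := by
    intro χ
    exact (Nat.factorization_le_iff_dvd (irr_charDegree_pos χ).ne' Nat.card_pos.ne').mpr
      (irr_degree_dvd_card χ) p
  -- rank ≤ card
  have hrank_le : blockRank p B ≤ Nat.card B := by
    rw [hrk]
    have h1 : (f '' B) = ((B.toFinset.image f : Finset (G → ℂ)) : Set (G → ℂ)) := by simp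
    rw [h1]
    refine le_trans (finrank_span_finset_le_card _) ?_
    refine le_trans Finset.card_image_le ?_
    rw [Set.toFinset_card, Nat.card_eq_fintype_card]
  -- singleton blocks
  have hsing : ∀ χ₀ : IrrCharacter G, B = {χ₀} → Nat.card B = 1 ∧ blockRank p B = 1 := by
    intro χ₀ hB0
    constructor
    · rw [hB0]; simp
    · rw [hrk, hB0, Set.image_singleton]
      apply finrank_span_singleton
      intro h0
      have h1 := congrFun h0 1
      have hreg : IsPRegular p (1 : G) := by
        unfold IsPRegular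
        rw [orderOf_one]
        exact fun h => hp.one_lt.ne' (Nat.dvd_one.mp h)
      simp only [hf, pRegularPart, if_pos hreg, Pi.zero_apply] at h1
      have h2 : (χ₀ : G → ℂ) 1 ≠ 0 := by
        rw [irr_one_eq_charDegree]
        exact_mod_cast (irr_charDegree_pos χ₀).ne'
      exact h2 h1
  -- defect zero gives a singleton
  have hA : blockDefect p B = 0 → ∃ χ₀ : IrrCharacter G, B = {χ₀} := by
    intro hd
    unfold blockDefect at hd
    set S : Set ℕ := (fun χ : IrrCharacter G => (charDegree (χ : G → ℂ)).factorization p) '' B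
      with hS
    have hSne : S.Nonempty := hne.image _
    obtain ⟨χ₀, hχ₀, hχ₀eq⟩ := Nat.sInf_mem hSne
    have hle : a ≤ sInf S := Nat.sub_eq_zero_iff_le.mp hd
    have hχ₀eq' : (charDegree (χ₀ : G → ℂ)).factorization p = sInf S := hχ₀eq
    have hχ₀a : (charDegree (χ₀ : G → ℂ)).factorization p = a :=
      le_antisymm (hdeg_le χ₀) (by rw [hχ₀eq']; exact hle)
    refine ⟨χ₀, ?_⟩
    obtain ⟨c, hc⟩ := irr_degree_dvd_card χ₀
    have hc0 : c ≠ 0 := by
      rintro rfl
      rw [mul_zero] at hc
      exact Nat.card_pos.ne' hc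
    have hpc : ¬ p ∣ c := by
      intro hpc
      have h1 : (Nat.card G).factorization p
          = (charDegree (χ₀ : G → ℂ)).factorization p + c.factorization p := by
        rw [hc, Nat.factorization_mul (irr_charDegree_pos χ₀).ne' hc0]
        rfl
      have h2 : 0 < c.factorization p := hp.factorization_pos_of_dvd hc0 hpc
      omega
    have hloc : ∀ g : G, MemLocalRing M (blockCoeff ({χ₀} : Set (IrrCharacter G)) g) := by
      intro g
      unfold blockCoeff
      rw [finsum_mem_singleton, irr_one_eq_charDegree, hc]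
      have hint : IsIntegral ℤ (conj ((χ₀ : G → ℂ) g)) := by
        rw [← irr_inv]; exact irr_isIntegral χ₀ _
      have h2 : ((charDegree (χ₀ : G → ℂ) * c : ℕ) : ℂ)⁻¹
          * ((charDegree (χ₀ : G → ℂ) : ℂ) * conj ((χ₀ : G → ℂ) g))
          = (((⟨conj ((χ₀ : G → ℂ) g), hint⟩ : AlgInt) : ℂ)) / (c : ℂ) := by
        have hd0 : (charDegree (χ₀ : G → ℂ) : ℂ) ≠ 0 := by
          exact_mod_cast (irr_charDegree_pos χ₀).ne'
        have hc0' : (c : ℂ) ≠ 0 := by exact_mod_cast hc0
        push_cast
        field_simp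
      rw [h2]
      exact Cfsg.Agent.Lib.helper80.memLocalRing_div_natCast hM _ hpc
    have hsub := Cfsg.Agent.S0909.result p M hM {χ₀} hloc χ₀ rfl
    rw [← isPBlock_eq_blockOf hMp hB hχ₀] at hsub
    exact Set.Subset.antisymm hsub (Set.singleton_subset_iff.mpr hχ₀)
  -- k = l gives defect zero
  have hBdir : Nat.card B = blockRank p B → blockDefect p B = 0 := by
    intro hkl
    have hli : LinearIndependent ℂ (fun χ : B => f χ) := by
      rw [linearIndependent_iff_card_eq_finrank_span]
      have h1 : Set.range (fun χ : B => f χ) = f '' B := by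
        rw [Set.image_eq_range]
      rw [h1, ← hrk, ← hkl, Nat.card_eq_fintype_card]
    have hvan : ∀ χ₁ ∈ B, ∀ y : G, p ∣ orderOf y → (χ₁ : G → ℂ) y = 0 := by
      intro χ₁ hχ₁ y hy
      have hsum : ∑ χ : B, conj ((χ : IrrCharacter G) : G → ℂ) y • f χ = 0 := by
        funext x
        rw [Finset.sum_apply]
        simp only [Pi.smul_apply, smul_eq_mul, Pi.zero_apply, hf, pRegularPart]
        by_cases hx : IsPRegular p x
        · simp only [if_pos hx]
          have hw := wbo hM (fun g => memLocalRing_blockCoeff hMp hB g) hx hy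
          have e1 : ∑ χ : IrrCharacter G,
                (if χ ∈ B then (χ : G → ℂ) x * conj ((χ : G → ℂ) y) else 0)
              = ∑ χ ∈ B.toFinset, (χ : G → ℂ) x * conj ((χ : G → ℂ) y) := by
            rw [← Finset.sum_filter]
            congr 1
            ext χ; simp
          rw [e1, Finset.sum_subtype (p := (· ∈ B)) B.toFinset (fun χ => Set.mem_toFinset)
            (fun χ : IrrCharacter G => (χ : G → ℂ) x * conj ((χ : G → ℂ) y))] at hw
          rw [← hw]
          exact Finset.sum_congr rfl (fun χ _ => mul_comm _ _)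
        · simp only [if_neg hx, mul_zero, Finset.sum_const_zero]
      have h0 := Fintype.linearIndependent_iff.mp hli
        (fun χ : B => conj (((χ : IrrCharacter G) : G → ℂ) y)) hsum ⟨χ₁, hχ₁⟩
      simpa using h0
    unfold blockDefect
    apply Nat.sub_eq_zero_of_le
    apply le_csInf (hne.image _)
    rintro b ⟨χ, hχ, rfl⟩
    have hdvd := pow_dvd_charDegree_of_vanish_singular p χ (hvan χ hχ)
    exact (hp.pow_dvd_iff_le_factorization (irr_charDegree_pos χ).ne').mp hdvd
  refine ⟨hrank_le, ⟨fun h => ?_, fun h => hBdir (by rw [h.1, h.2])⟩, ⟨fun h => ?_, hBdir⟩⟩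
  · obtain ⟨χ₀, hχ₀⟩ := hA h
    exact hsing χ₀ hχ₀
  · obtain ⟨χ₀, hχ₀⟩ := hA h
    obtain ⟨h1, h2⟩ := hsing χ₀ hχ₀
    rw [h1, h2]

end Cfsg.Agent.S4733
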