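import Cfsg.Statements.S4735
import Cfsg.Agent.Lib.helper81.PrincipalInfl
import Cfsg.Agent.Lib.helper79.GaloisChar
import Cfsg.Agent.Lib.helper32.CyclicTIGalois
import Cfsg.Agent.Lib.helper83.CharBasic2
-- import your own Cfsg.Agent.* helpers here

set_option autoImplicit false
open Cfsg

namespace Cfsg.Agent.S4735

open Cfsg.Agent.Lib Cfsg.Agent.Lib.helper81 Cfsg.Agent.Lib.helper20
open scoped ComplexConjugate

/-- Let p be a prime, M a maximal ideal of the algebraic integers containing p, G a finite group, H = O_p'(G) and Ḡ = G/H. For x ∈ G write λ(G, x) for the sum of |χ(x)|^2 over the irreducible characters χ in the principal p-block of G. Then λ(G, x) is a positive integer, λ(G, x) = λ(Ḡ, x̄) where x̄ is the image of x, and λ(G, x) ≤ #C_Ḡ(x̄). Moreover λ(G, 1) = [G : H] if and only if the principal block is the only p-block of Ḡ. -/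
theorem result {G : Type*} [Group G] [Finite G] (p : ℕ) [Fact p.Prime] (M : Ideal Cfsg.AlgInt) (hM : Cfsg.IsPModular p M) (x : G) : (∃ n : ℕ, 0 < n ∧ ∑ᶠ χ ∈ Cfsg.principalBlock M G, Complex.normSq ((χ : G → ℂ) x) = n) ∧ ∑ᶠ χ ∈ Cfsg.principalBlock M G, Complex.normSq ((χ : G → ℂ) x) = ∑ᶠ ψ ∈ Cfsg.principalBlock M (G ⧸ Cfsg.pPrimeCore p G), Complex.normSq ((ψ : G ⧸ Cfsg.pPrimeCore p G → ℂ) (QuotientGroup.mk x)) ∧ ∑ᶠ χ ∈ Cfsg.principalBlock M G, Complex.normSq ((χ : G → ℂ) x) ≤ (Nat.card ↥(Subgroup.centralizer ({(QuotientGroup.mk x : G ⧸ Cfsg.pPrimeCore p G)} : Set (G ⧸ Cfsg.pPrimeCore p G))) : ℝ) ∧ ((∑ᶠ χ ∈ Cfsg.principalBlock M G, Cfsg.charDegree (χ : G → ℂ) ^ 2) = (Cfsg.pPrimeCore p G).index ↔ ∀ B : Set (Cfsg.IrrCharacter (G ⧸ Cfsg.pPrimeCore p G)), Cfsg.IsPBlock M B → B = Cfsg.principalBlock M (G ⧸ Cfsg.pPrimeCore p G)) := by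
  classical
  have := Fintype.ofFinite G
  have hMp := isPrime_of_isPModular hM
  have hp : p.Prime := Fact.out
  have hNcop : (Nat.card (pPrimeCore p G)).Coprime p := helper40.pPrimeCore_card_coprime p G
  have : Fintype (G ⧸ pPrimeCore p G) := Fintype.ofFinite _
  -- the bijection between the principal blocks
  have hbij : Set.BijOn (infl (pPrimeCore p G)) (principalBlock M (G ⧸ pPrimeCore p G))
      (principalBlock M G) := by
    refine ⟨fun ψ hψ => (infl_mem_principalBlock_iff hM _ hNcop ψ).mpr hψ,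
      (infl_injective _).injOn, ?_⟩
    intro χ hχ
    obtain ⟨ψ, rfl⟩ := exists_infl_eq_of_mem_principalBlock hM hχ
    exact ⟨ψ, (infl_mem_principalBlock_iff hM _ hNcop ψ).mp hχ, rfl⟩
  have h2 : ∑ᶠ χ ∈ principalBlock M G, Complex.normSq ((χ : G → ℂ) x)
      = ∑ᶠ ψ ∈ principalBlock M (G ⧸ pPrimeCore p G),
          Complex.normSq ((ψ : G ⧸ pPrimeCore p G → ℂ) (QuotientGroup.mk x)) := by
    symm
    exact finsum_mem_eq_of_bijOn (infl (pPrimeCore p G)) hbij (fun ψ _ => rfl)
  -- finsums as sums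
  have hfs : ∀ (K : Type _) [Group K] [Fintype K] (y : K),
      ∑ᶠ χ ∈ principalBlock M K, Complex.normSq ((χ : K → ℂ) y)
        = ∑ χ : IrrCharacter K, (if χ ∈ principalBlock M K
            then Complex.normSq ((χ : K → ℂ) y) else 0) := by
    intro K _ _ y
    rw [finsum_mem_def, finsum_eq_sum_of_fintype]
    refine Finset.sum_congr rfl (fun χ _ => ?_)
    rw [Set.indicator_apply]
  -- (3)
  have h3 : ∑ᶠ ψ ∈ principalBlock M (G ⧸ pPrimeCore p G),
      Complex.normSq ((ψ : G ⧸ pPrimeCore p G → ℂ) (QuotientGroup.mk x))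
        ≤ (Nat.card ↥(Subgroup.centralizer
          ({(QuotientGroup.mk x : G ⧸ pPrimeCore p G)} : Set (G ⧸ pPrimeCore p G))) : ℝ) := by
    rw [hfs]
    have hall : ∑ ψ : IrrCharacter (G ⧸ pPrimeCore p G),
        Complex.normSq ((ψ : G ⧸ pPrimeCore p G → ℂ) (QuotientGroup.mk x))
          = (Nat.card ↥(Subgroup.centralizer
          ({(QuotientGroup.mk x : G ⧸ pPrimeCore p G)} : Set (G ⧸ pPrimeCore p G))) : ℝ) := by
      apply Complex.ofReal_injective
      rw [Complex.ofReal_sum]
      have := irr_col_orth (QuotientGroup.mk x : G ⧸ pPrimeCore p G) (QuotientGroup.mk x)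
      rw [if_pos (IsConj.refl _)] at this
      rw [Complex.ofReal_natCast, ← this]
      refine Finset.sum_congr rfl (fun ψ _ => ?_)
      rw [Complex.mul_conj]
    rw [← hall]
    refine Finset.sum_le_sum (fun ψ _ => ?_)
    split_ifs
    · exact le_rfl
    · exact Complex.normSq_nonneg _
  -- (1)
  have h1 : ∃ n : ℕ, 0 < n ∧ ∑ᶠ χ ∈ principalBlock M G, Complex.normSq ((χ : G → ℂ) x) = n := by
    rw [hfs]
    obtain ⟨L, hL⟩ : ∃ L : ℂ, L = ∑ χ : IrrCharacter G, (if χ ∈ principalBlock M G
        then (χ : G → ℂ) x * conj ((χ : G → ℂ) x) else 0) := ⟨_, rfl⟩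
    have hLreal : ((∑ χ : IrrCharacter G, (if χ ∈ principalBlock M G
        then Complex.normSq ((χ : G → ℂ) x) else 0) : ℝ) : ℂ) = L := by
      rw [hL, Complex.ofReal_sum]
      refine Finset.sum_congr rfl (fun χ _ => ?_)
      split_ifs
      · rw [Complex.mul_conj]
      · simp
    have hLint : IsIntegral ℤ L := by
      rw [hL]
      refine IsIntegral.sum _ (fun χ _ => ?_)
      split_ifs
      · refine (irr_isIntegral χ x).mul ?_
        rw [← irr_inv]
        exact irr_isIntegral χ x⁻¹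
      · exact isIntegral_zero
    have hLfix : ∀ τ : ℂ ≃+* ℂ, τ L = L := by
      intro τ
      obtain ⟨m, hm, hτ⟩ := helper79.exists_pow_of_ringHom (G := G) (τ : ℂ →+* ℂ)
      have hτ' : ∀ (χ : IrrCharacter G) (g : G), τ ((χ : G → ℂ) g) = (χ : G → ℂ) (g ^ m) :=
        fun χ g => hτ (χ : G → ℂ) (irr_isCharacter χ) g
      rw [hL, map_sum]
      rw [← Equiv.sum_comp (Equiv.ofBijective _ (helper79.irrPow_bijective (G := G) m hm))
        (fun χ : IrrCharacter G => if χ ∈ principalBlock M G
          then (χ : G → ℂ) x * conj ((χ : G → ℂ) x) else 0)]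
      refine Finset.sum_congr rfl (fun χ _ => ?_)
      rw [Equiv.ofBijective_apply]
      by_cases hχ : χ ∈ principalBlock M G
      · rw [if_pos hχ, if_pos ((irrPow_mem_principalBlock_iff hM m hm χ).mpr hχ), map_mul,
          hτ', ← irr_inv, hτ', helper79.irrPow_apply, inv_pow, irr_inv]
      · rw [if_neg hχ, if_neg (fun h => hχ ((irrPow_mem_principalBlock_iff hM m hm χ).mp h)),
          map_zero]
    obtain ⟨n, hn⟩ := helper32.int_of_fixed_by_aut L hLint hLfix
    have hge : (1 : ℝ) ≤ ∑ χ : IrrCharacter G, (if χ ∈ principalBlock M G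
        then Complex.normSq ((χ : G → ℂ) x) else 0) := by
      have h5 : (if trivChar G ∈ principalBlock M G
            then Complex.normSq ((trivChar G : G → ℂ) x) else 0)
          ≤ ∑ χ : IrrCharacter G, (if χ ∈ principalBlock M G
            then Complex.normSq ((χ : G → ℂ) x) else 0) :=
        Finset.single_le_sum (f := fun χ : IrrCharacter G => (if χ ∈ principalBlock M G
            then Complex.normSq ((χ : G → ℂ) x) else 0))
          (fun χ _ => by
            show 0 ≤ (if χ ∈ principalBlock M G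
              then Complex.normSq ((χ : G → ℂ) x) else 0)
            split_ifs
            · exact Complex.normSq_nonneg _
            · exact le_rfl) (Finset.mem_univ (trivChar G))
      rw [if_pos (trivChar_mem_principalBlock hMp), trivChar_apply, Complex.normSq_one] at h5
      exact h5
    have hreal : (∑ χ : IrrCharacter G, (if χ ∈ principalBlock M G
        then Complex.normSq ((χ : G → ℂ) x) else 0) : ℝ) = (n : ℝ) := by
      apply Complex.ofReal_injective
      rw [hLreal, hn, Complex.ofReal_intCast]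
    rw [hreal] at hge ⊢
    have hn1 : 1 ≤ n := by exact_mod_cast hge
    refine ⟨n.toNat, by omega, ?_⟩
    have : ((n.toNat : ℕ) : ℤ) = n := Int.toNat_of_nonneg (by omega)
    have h6 : ((n.toNat : ℕ) : ℝ) = (n : ℝ) := by exact_mod_cast this
    rw [h6]
  refine ⟨h1, h2, ?_, ?_⟩
  · rw [h2]; exact h3
  · -- (4)
    have hdeg : ∑ᶠ χ ∈ principalBlock M G, charDegree (χ : G → ℂ) ^ 2
        = ∑ᶠ ψ ∈ principalBlock M (G ⧸ pPrimeCore p G),
            charDegree (ψ : G ⧸ pPrimeCore p G → ℂ) ^ 2 := by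
      symm
      exact finsum_mem_eq_of_bijOn (infl (pPrimeCore p G)) hbij (fun ψ _ => rfl)
    have htot := helper83.sum_charDegree_sq (G := G ⧸ pPrimeCore p G)
    rw [finsum_eq_sum_of_fintype] at htot
    have hidx : (pPrimeCore p G).index = Nat.card (G ⧸ pPrimeCore p G) := rfl
    rw [hdeg, hidx, ← htot, finsum_mem_def, finsum_eq_sum_of_fintype]
    constructor
    · intro heq B hB
      have hle : ∀ ψ ∈ (Finset.univ : Finset (IrrCharacter (G ⧸ pPrimeCore p G))),
          (principalBlock M (G ⧸ pPrimeCore p G)).indicator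
            (fun ψ => charDegree (ψ : G ⧸ pPrimeCore p G → ℂ) ^ 2) ψ
            ≤ charDegree (ψ : G ⧸ pPrimeCore p G → ℂ) ^ 2 := by
        intro ψ _
        rw [Set.indicator_apply]
        split_ifs
        · exact le_rfl
        · exact Nat.zero_le _
      have hall := (Finset.sum_eq_sum_iff_of_le hle).mp heq
      have hmem : ∀ ψ : IrrCharacter (G ⧸ pPrimeCore p G),
          ψ ∈ principalBlock M (G ⧸ pPrimeCore p G) := by
        intro ψ
        by_contra hψ
        have h7 := hall ψ (Finset.mem_univ ψ)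
        rw [Set.indicator_apply, if_neg hψ] at h7
        have h8 := irr_charDegree_pos ψ
        have h9 : 0 < charDegree (ψ : G ⧸ pPrimeCore p G → ℂ) ^ 2 := pow_pos h8 2
        omega
      obtain ⟨ψ₀, hψ₀⟩ := isPBlock_nonempty hMp hB
      exact isPBlock_eq_of_mem hMp hB isPBlock_principalBlock hψ₀ (hmem ψ₀)
    · intro hall
      refine Finset.sum_congr rfl (fun ψ _ => ?_)
      have hψ : ψ ∈ principalBlock M (G ⧸ pPrimeCore p G) := by
        rw [← hall _ (isPBlock_blockOf ψ)]
        exact mem_blockOf_self hMp ψ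
      rw [Set.indicator_apply, if_pos hψ]

end Cfsg.Agent.S4735
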