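import Cfsg.Statements.S4736
import Cfsg.Agent.Lib.helper81.PrincipalQuot
import Cfsg.Agent.Lib.helper81.CharOrtho
import Cfsg.Agent.Lib.helper38.HallHigman
import Cfsg.Agent.Lib.helper55.Basic
import Cfsg.Agent.S4713
-- import your own Cfsg.Agent.* helpers here

set_option autoImplicit false
open Cfsg

namespace Cfsg.Agent.S4736

open Cfsg.Agent.Lib.helper81 Cfsg.Agent.Lib.helper20

/-- In the principal block the height is the `p`-part exponent of the degree. -/
theorem blockHeight_principal {G : Type*} [Group G] [Finite G] (p : ℕ) [Fact p.Prime]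
    (M : Ideal Cfsg.AlgInt) (hM : Cfsg.IsPModular p M) (χ : G → ℂ) :
    Cfsg.blockHeight p (Cfsg.principalBlock M G) χ = (Cfsg.charDegree χ).factorization p := by
  have hMp := isPrime_of_isPModular hM
  unfold Cfsg.blockHeight
  have h0 : sInf ((fun ψ : IrrCharacter G => (charDegree (ψ : G → ℂ)).factorization p) ''
      (Cfsg.principalBlock M G)) = 0 := by
    rw [Nat.sInf_eq_zero]
    left
    refine ⟨trivChar G, trivChar_mem_principalBlock hMp, ?_⟩
    have h1 : charDegree ((trivChar G : IrrCharacter G) : G → ℂ) = 1 := by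
      show ⌊((1 : ℂ)).re⌋₊ = 1
      simp
    show (charDegree ((trivChar G : IrrCharacter G) : G → ℂ)).factorization p = 0
    rw [h1]
    simp
  rw [h0, Nat.sub_zero]

/-- A Sylow `p`-subgroup of a `p`-solvable group is abelian iff its image modulo `O_{p'}(G)` is
normal and abelian. -/
theorem sylow_comm_iff {G : Type*} [Group G] [Finite G] (p : ℕ) [Fact p.Prime]
    (hsolv : Cfsg.IsPSolvable p G) (P : Sylow p G) [hN : (Cfsg.pPrimeCore p G).Normal] :
    IsMulCommutative P ↔
      (((P.mapSurjective (QuotientGroup.mk'_surjective (Cfsg.pPrimeCore p G)) :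
          Sylow p (G ⧸ Cfsg.pPrimeCore p G)) : Subgroup (G ⧸ Cfsg.pPrimeCore p G)).Normal ∧
        IsMulCommutative (P.mapSurjective (QuotientGroup.mk'_surjective (Cfsg.pPrimeCore p G)) :
          Sylow p (G ⧸ Cfsg.pPrimeCore p G))) := by
  have hp : p.Prime := Fact.out
  obtain ⟨PQ, hPQ⟩ : ∃ PQ : Sylow p (G ⧸ Cfsg.pPrimeCore p G),
      PQ = P.mapSurjective (QuotientGroup.mk'_surjective (Cfsg.pPrimeCore p G)) := ⟨_, rfl⟩
  rw [← hPQ]
  have hcoe : (PQ : Subgroup (G ⧸ Cfsg.pPrimeCore p G)) =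
      (P : Subgroup G).map (QuotientGroup.mk' (Cfsg.pPrimeCore p G)) := by
    rw [hPQ, Sylow.coe_mapSurjective]
  have hsolvQ := Cfsg.Agent.Lib.helper80.isPSolvable_quotient p (Cfsg.pPrimeCore p G) hsolv
  have hcoreQ := Cfsg.Agent.Lib.helper38.pPrimeCore_quotient_pPrimeCore p G
  constructor
  · intro hPab
    have hab : ∀ a ∈ (P : Subgroup G), ∀ b ∈ (P : Subgroup G), a * b = b * a := by
      intro a ha b hb
      have h := hPab.is_comm.comm (⟨a, ha⟩ : P) ⟨b, hb⟩
      exact congrArg Subtype.val h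
    have habQ : ∀ a ∈ (PQ : Subgroup (G ⧸ Cfsg.pPrimeCore p G)),
        ∀ b ∈ (PQ : Subgroup (G ⧸ Cfsg.pPrimeCore p G)), a * b = b * a := by
      intro a ha b hb
      rw [hcoe] at ha hb
      obtain ⟨x, hx, rfl⟩ := ha
      obtain ⟨y, hy, rfl⟩ := hb
      rw [← map_mul, ← map_mul, hab x hx y hy]
    refine ⟨?_, ⟨⟨fun a b => Subtype.ext (habQ a a.2 b b.2)⟩⟩⟩
    have h1 := Cfsg.Agent.Lib.helper55.pCore_le_sylow PQ
    have h2 := Cfsg.Agent.Lib.helper38.centralizer_pCore_le_of_isPSolvable hsolvQ hcoreQ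
    have h3 : (PQ : Subgroup (G ⧸ Cfsg.pPrimeCore p G)) ≤
        Subgroup.centralizer (Cfsg.pCore p (G ⧸ Cfsg.pPrimeCore p G) : Set _) := by
      intro a ha
      rw [Subgroup.mem_centralizer_iff]
      intro b hb
      exact habQ b (h1 hb) a ha
    have h4 : (PQ : Subgroup (G ⧸ Cfsg.pPrimeCore p G)) = Cfsg.pCore p (G ⧸ Cfsg.pPrimeCore p G) :=
      le_antisymm (h3.trans h2) h1
    rw [h4]
    exact Cfsg.Agent.Lib.helper55.pCore_normal' p _
  · rintro ⟨-, hPab⟩
    have habQ : ∀ a ∈ (PQ : Subgroup (G ⧸ Cfsg.pPrimeCore p G)),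
        ∀ b ∈ (PQ : Subgroup (G ⧸ Cfsg.pPrimeCore p G)), a * b = b * a := by
      intro a ha b hb
      have h := hPab.is_comm.comm (⟨a, ha⟩ : PQ) ⟨b, hb⟩
      exact congrArg Subtype.val h
    have hcop := Cfsg.Agent.Lib.helper40.pPrimeCore_card_coprime p G
    have hab : ∀ a ∈ (P : Subgroup G), ∀ b ∈ (P : Subgroup G), a * b = b * a := by
      intro a ha b hb
      have h1 : (QuotientGroup.mk' (Cfsg.pPrimeCore p G)) a *
          (QuotientGroup.mk' (Cfsg.pPrimeCore p G)) b =
          (QuotientGroup.mk' (Cfsg.pPrimeCore p G)) b *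
          (QuotientGroup.mk' (Cfsg.pPrimeCore p G)) a := by
        apply habQ
        · rw [hcoe]; exact ⟨a, ha, rfl⟩
        · rw [hcoe]; exact ⟨b, hb, rfl⟩
      have h2 : a * b * a⁻¹ * b⁻¹ ∈ Cfsg.pPrimeCore p G := by
        rw [← QuotientGroup.eq_one_iff]
        have : ((a * b * a⁻¹ * b⁻¹ : G) : G ⧸ Cfsg.pPrimeCore p G) =
            (QuotientGroup.mk' (Cfsg.pPrimeCore p G)) a *
            (QuotientGroup.mk' (Cfsg.pPrimeCore p G)) b *
            ((QuotientGroup.mk' (Cfsg.pPrimeCore p G)) a)⁻¹ *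
            ((QuotientGroup.mk' (Cfsg.pPrimeCore p G)) b)⁻¹ := rfl
        rw [this, h1]
        group
      have h3 : a * b * a⁻¹ * b⁻¹ ∈ (P : Subgroup G) :=
        Subgroup.mul_mem _ (Subgroup.mul_mem _ (Subgroup.mul_mem _ ha hb)
          (Subgroup.inv_mem _ ha)) (Subgroup.inv_mem _ hb)
      have h4 : orderOf (a * b * a⁻¹ * b⁻¹) ∣ Nat.card (Cfsg.pPrimeCore p G) :=
        Subgroup.orderOf_dvd_natCard _ h2
      obtain ⟨k, hk⟩ := P.2 ⟨_, h3⟩
      have h5 : orderOf (a * b * a⁻¹ * b⁻¹) ∣ p ^ k := by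
        apply orderOf_dvd_of_pow_eq_one
        exact congrArg Subtype.val hk
      have h6 : orderOf (a * b * a⁻¹ * b⁻¹) = 1 :=
        Nat.Coprime.eq_one_of_dvd (Nat.Coprime.coprime_dvd_left h4 (Nat.Coprime.pow_right k hcop)) h5
      rw [orderOf_eq_one_iff] at h6
      calc a * b = (a * b * a⁻¹ * b⁻¹) * (b * a) := by group
        _ = b * a := by rw [h6, one_mul]
    exact ⟨⟨fun a b => Subtype.ext (hab a a.2 b b.2)⟩⟩

/-- Let p be a prime, M a maximal ideal of the algebraic integers containing p, and G a finite p-solvable group with Sylow p-subgroup P. Then P is abelian if and only if every irreducible character in the principal p-block of G has height zero. -/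
theorem result {G : Type*} [Group G] [Finite G] (p : ℕ) [Fact p.Prime] (M : Ideal Cfsg.AlgInt) (hM : Cfsg.IsPModular p M) (hsolv : Cfsg.IsPSolvable p G) (P : Sylow p G) : IsMulCommutative P ↔ ∀ χ ∈ Cfsg.principalBlock M G, Cfsg.blockHeight p (Cfsg.principalBlock M G) (χ : G → ℂ) = 0 := by
  classical
  have hp : p.Prime := Fact.out
  have hNn : (Cfsg.pPrimeCore p G).Normal := Cfsg.Agent.Lib.helper40.pPrimeCore_normal' p G
  have hsolvQ := Cfsg.Agent.Lib.helper80.isPSolvable_quotient p (Cfsg.pPrimeCore p G) hsolv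
  rw [sylow_comm_iff p hsolv P, Cfsg.Agent.S4713.result p hsolvQ]
  have hheight : ∀ χ : IrrCharacter G,
      Cfsg.blockHeight p (Cfsg.principalBlock M G) (χ : G → ℂ) = 0 ↔
        ¬ p ∣ Cfsg.charDegree (χ : G → ℂ) := by
    intro χ
    rw [blockHeight_principal p M hM, Nat.factorization_eq_zero_iff]
    have := irr_charDegree_pos χ
    constructor
    · rintro (h | h | h)
      · exact absurd hp h
      · exact h
      · omega
    · intro h
      exact Or.inr (Or.inl h)
  constructor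
  · intro h χ hχ
    rw [hheight]
    have hker := (mem_principalBlock_iff_of_isPSolvable hM hsolv χ).1 hχ
    obtain ⟨ψ, hψirr, hψ⟩ :=
      Cfsg.Agent.Lib.helper82.isIrrCharacter_deflation (Cfsg.pPrimeCore p G) χ.2 hker
    have h1 := h ⟨ψ, hψirr⟩
    have h2 : Cfsg.charDegree ψ = Cfsg.charDegree (χ : G → ℂ) := by
      unfold Cfsg.charDegree
      rw [← hψ 1]
      rfl
    rw [← h2]
    exact h1
  · intro h ψ
    have hχirr := Cfsg.Agent.Lib.helper82.isIrrCharacter_inflation (Cfsg.pPrimeCore p G) ψ.2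
    have hmem : (⟨_, hχirr⟩ : IrrCharacter G) ∈ Cfsg.principalBlock M G := by
      rw [mem_principalBlock_iff_of_isPSolvable hM hsolv]
      intro n hn
      show (ψ : _ → ℂ) ((n : G) : G ⧸ Cfsg.pPrimeCore p G) =
        (ψ : _ → ℂ) ((1 : G) : G ⧸ Cfsg.pPrimeCore p G)
      rw [(QuotientGroup.eq_one_iff n).2 hn]
      rfl
    have h1 := (hheight _).1 (h _ hmem)
    exact h1

end Cfsg.Agent.S4736
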