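import Cfsg.Statements.S4741
import Cfsg.Agent.Lib.helper81.DetLocal
import Cfsg.Agent.Lib.helper81.SepClasses
import Cfsg.Agent.Lib.helper79.DefectDeg
import Cfsg.Agent.Lib.helper79.Contrib
import Cfsg.Agent.Lib.helper80.DefectGroup
import Cfsg.Agent.Lib.helper80.BlockIdem
import Cfsg.Agent.Lib.helper80.LocalInt
-- import your own Cfsg.Agent.* helpers here

set_option autoImplicit false
open Cfsg

namespace Cfsg.Agent.S4741

open Cfsg.Agent.Lib Cfsg.Agent.Lib.helper81

/-- If `χ g` is not in the local ideal, then the defect of the class of `g` is at most the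
defect of the block of `χ`. -/
theorem factorization_card_centralizer_le_of_apply {G : Type*} [Group G] [Finite G] {p : ℕ}
    [Fact p.Prime] {M : Ideal AlgInt} (hM : IsPModular p M) {B : Set (IrrCharacter G)}
    {χ : IrrCharacter G} (hχ : χ ∈ B) (g : G) (h : ¬ MemLocalIdeal M ((χ : G → ℂ) g)) :
    (Nat.card (Subgroup.centralizer ({g} : Set G))).factorization p ≤ blockDefect p B := by
  classical
  have := Fintype.ofFinite G
  have hp : p.Prime := Fact.out
  obtain ⟨n, hn⟩ : ∃ n : ℕ, n = (Subgroup.centralizer ({g} : Set G)).index := ⟨_, rfl⟩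
  obtain ⟨f, hf⟩ : ∃ f : ℕ, f = charDegree (χ : G → ℂ) := ⟨_, rfl⟩
  have hn0 : n ≠ 0 := by rw [hn]; exact Subgroup.index_ne_zero_of_finite
  have hf0 : f ≠ 0 := by rw [hf]; exact (irr_charDegree_pos χ).ne'
  have hle : f.factorization p ≤ n.factorization p := by
    by_contra hlt
    rw [not_le] at hlt
    apply h
    have hω : IsIntegral ℤ (centralChar (χ : G → ℂ) g) := irr_centralChar_isIntegral χ g
    have hn' := Nat.ordProj_mul_ordCompl_eq_self n p
    have hf' := Nat.ordProj_mul_ordCompl_eq_self f p
    refine helper79.memLocalIdeal_of_mul_eq hM (n / p ^ n.factorization p)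
      (Nat.not_dvd_ordCompl hp hn0)
      (centralChar (χ : G → ℂ) g * (p : ℂ) ^ (f.factorization p - n.factorization p - 1)
        * ((f / p ^ f.factorization p : ℕ) : ℂ)) ?_ ?_
    · exact (hω.mul ((isIntegral_natCast p).pow _)).mul (isIntegral_natCast _)
    · have h1 : centralChar (χ : G → ℂ) g * (f : ℂ) = (n : ℂ) * (χ : G → ℂ) g := by
        unfold centralChar
        rw [irr_one_eq_charDegree, ← hf, ← hn]
        have : (f : ℂ) ≠ 0 := by exact_mod_cast hf0
        field_simp
      have e1 : (n : ℂ) = (p : ℂ) ^ (n.factorization p) * ((n / p ^ n.factorization p : ℕ) : ℂ) := by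
        exact_mod_cast hn'.symm
      have e2 : (f : ℂ) = (p : ℂ) ^ (n.factorization p) * (p : ℂ) *
          (p : ℂ) ^ (f.factorization p - n.factorization p - 1)
            * ((f / p ^ f.factorization p : ℕ) : ℂ) := by
        have e3 : f.factorization p = n.factorization p + 1 +
            (f.factorization p - n.factorization p - 1) := by omega
        have e4 : (f : ℂ) = (p : ℂ) ^ (f.factorization p) * ((f / p ^ f.factorization p : ℕ) : ℂ) := by
          exact_mod_cast hf'.symm
        rw [← pow_succ, ← pow_add, ← e3]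
        exact e4
      have hP0 : (p : ℂ) ^ (n.factorization p) ≠ 0 := by
        have : (p : ℂ) ≠ 0 := by exact_mod_cast hp.ne_zero
        exact pow_ne_zero _ this
      apply mul_left_cancel₀ hP0
      calc (p : ℂ) ^ (n.factorization p) * ((χ : G → ℂ) g * ((n / p ^ n.factorization p : ℕ) : ℂ))
          = (n : ℂ) * (χ : G → ℂ) g := by rw [e1]; ring
        _ = centralChar (χ : G → ℂ) g * (f : ℂ) := h1.symm
        _ = _ := by rw [e2]; ring
  have hadd := helper79.factorization_add_defect (p := p) (B := B) hχ
  have hidx : n * Nat.card (Subgroup.centralizer ({g} : Set G)) = Nat.card G := by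
    rw [hn]; exact Subgroup.index_mul_card _
  have ha : (Nat.card G).factorization p = n.factorization p +
      (Nat.card (Subgroup.centralizer ({g} : Set G))).factorization p := by
    rw [← hidx, Nat.factorization_mul hn0 Nat.card_pos.ne']
    rfl
  rw [← hf] at hadd
  omega

theorem centralizer_inv_eq {G : Type*} [Group G] (g : G) :
    Subgroup.centralizer ({g⁻¹} : Set G) = Subgroup.centralizer ({g} : Set G) := by
  ext a
  rw [Subgroup.mem_centralizer_singleton_iff, Subgroup.mem_centralizer_singleton_iff]
  constructor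
  · intro h
    calc a * g = g * (g⁻¹ * a) * g := by group
      _ = g * (a * g⁻¹) * g := by rw [h]
      _ = g * a := by group
  · intro h
    calc a * g⁻¹ = g⁻¹ * (g * a) * g⁻¹ := by group
      _ = g⁻¹ * (a * g) * g⁻¹ := by rw [h]
      _ = g⁻¹ * a := by group

/-- Let p be a prime, M a maximal ideal of the algebraic integers containing p, and D a subgroup of the finite group G. Let x₁, …, x_r be pairwise non-conjugate elements of G such that D is a Sylow p-subgroup of the centralizer of each xᵢ, and such that for any conjugates g of some xᵢ and h of some xⱼ the element g h⁻¹ is never a non-identity p-element. Then there are r distinct p-blocks B₁, …, B_r of G, each having D as a defect group, such that for every choice of characters χᵢ ∈ Bᵢ of height zero the determinant of the r × r matrix (χᵢ(xⱼ)) does not lie in the local ideal at M. -/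
theorem result {G : Type*} [Group G] [Finite G] (p : ℕ) [Fact p.Prime] (M : Ideal Cfsg.AlgInt) (hM : Cfsg.IsPModular p M) (D : Subgroup G) {r : ℕ} (x : Fin r → G) (hx : ∀ i j : Fin r, IsConj (x i) (x j) → i = j) (hD : ∀ i : Fin r, ∃ S : Sylow p ↥(Subgroup.centralizer ({x i} : Set G)), (S : Subgroup ↥(Subgroup.centralizer ({x i} : Set G))).map (Subgroup.centralizer ({x i} : Set G)).subtype = D) (hsep : ∀ i j : Fin r, ∀ g h : G, IsConj (x i) g → IsConj (x j) h → ∀ k : ℕ, 0 < k → orderOf (g * h⁻¹) ≠ p ^ k) : ∃ B : Fin r → Set (Cfsg.IrrCharacter G), Function.Injective B ∧ (∀ i : Fin r, Cfsg.IsPBlock M (B i) ∧ Cfsg.IsDefectGroup p M (B i) D) ∧ ∀ χ : Fin r → Cfsg.IrrCharacter G, (∀ i : Fin r, χ i ∈ B i ∧ Cfsg.blockHeight p (B i) (χ i : G → ℂ) = 0) → ¬ Cfsg.MemLocalIdeal M (Matrix.det (Matrix.of fun i j : Fin r => (χ i : G → ℂ) (x j))) := by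
  classical
  have := Fintype.ofFinite G
  have hMp : M.IsPrime := helper20.isPrime_of_isPModular hM
  have hp : p.Prime := Fact.out
  obtain ⟨P⟩ : Nonempty (Sylow p G) := inferInstance
  choose m hm using fun χ : IrrCharacter G =>
    sum_subgroup_char (irr_isCharacter χ) (P : Subgroup G)
  -- separation, in the form needed
  have hsep' : ∀ i j : Fin r, ∀ t : G, ∀ k : ℕ,
      orderOf ((t * x i * t⁻¹)⁻¹ * x j) = p ^ k → t * x i * t⁻¹ = x j := by
    intro i j t k hk
    have h1 : orderOf (x j * (t * x i * t⁻¹)⁻¹) = p ^ k := by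
      rw [← hk, ← orderOf_conj_eq' (t * x i * t⁻¹) ((t * x i * t⁻¹)⁻¹ * x j)]
      congr 1
      group
    rcases Nat.eq_zero_or_pos k with h0 | hpos
    · subst h0
      rw [pow_zero, orderOf_eq_one_iff] at hk
      exact inv_mul_eq_one.mp hk
    · exact absurd h1 (hsep j i (x j) (t * x i * t⁻¹) (IsConj.refl _)
        (isConj_iff.mpr ⟨t, rfl⟩) k hpos)
  have hkey : ∀ i j : Fin r, ∑ χ : IrrCharacter G,
      (m χ : ℂ) * (χ : G → ℂ) (x i)⁻¹ * centralChar (χ : G → ℂ) (x j)
        = if i = j then ((P : Subgroup G).index : ℂ) else 0 := by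
    intro i j
    rw [sep_sum p P m hm (x i) (x j) (hsep' i j)]
    by_cases hij : i = j
    · subst hij
      rw [if_pos (IsConj.refl _), if_pos rfl]
    · rw [if_neg hij, if_neg (fun hc => hij (hx i j hc))]
  -- the two matrices
  obtain ⟨A, hA⟩ : ∃ A : Matrix (Fin r) (IrrCharacter G) ℂ,
      A = Matrix.of fun i χ => (m χ : ℂ) * (χ : G → ℂ) (x i)⁻¹ := ⟨_, rfl⟩
  obtain ⟨Bm, hBm⟩ : ∃ Bm : Matrix (IrrCharacter G) (Fin r) ℂ,
      Bm = Matrix.of fun (χ : IrrCharacter G) j => centralChar (χ : G → ℂ) (x j) := ⟨_, rfl⟩
  have hAB : A * Bm = Matrix.diagonal (fun _ : Fin r => ((P : Subgroup G).index : ℂ)) := by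
    ext i j
    rw [Matrix.mul_apply, Matrix.diagonal_apply, hA, hBm]
    exact hkey i j
  have hdet : (A * Bm).det = (((P : Subgroup G).index ^ r : ℕ) : ℂ) := by
    rw [hAB, Matrix.det_diagonal]
    simp
  rw [det_mul_eq_sum_maps] at hdet
  have hndvd : ¬ p ∣ (P : Subgroup G).index ^ r := fun h =>
    P.not_dvd_index (hp.dvd_of_dvd_pow h)
  have hnJ : ¬ MemLocalIdeal M (∑ k : Fin r → IrrCharacter G,
      (∏ i, A i (k i)) * (Bm.submatrix k id).det) := by
    rw [hdet]
    exact helper80.not_memLocalIdeal_natCast hM hndvd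
  obtain ⟨k, hk⟩ : ∃ k : Fin r → IrrCharacter G,
      ¬ MemLocalIdeal M ((∏ i, A i (k i)) * (Bm.submatrix k id).det) := by
    by_contra hcon
    push Not at hcon
    exact hnJ (helper20.memLocalIdeal_sum hMp _ _ (fun k _ => hcon k))
  have hAR : ∀ i χ, MemLocalRing M (A i χ) := by
    intro i χ
    rw [hA]
    exact helper20.memLocalRing_mul hMp (helper20.memLocalRing_natCast hMp _)
      (helper20.memLocalRing_of_algInt hMp ⟨_, irr_isIntegral χ _⟩)
  have hΩR : ∀ i j, MemLocalRing M ((Bm.submatrix k id) i j) := by
    intro i j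
    rw [hBm]
    exact helper80.memLocalRing_centralChar hMp (k i) (x j)
  have hΩ : ¬ MemLocalIdeal M (Bm.submatrix k id).det := fun h =>
    hk (helper20.memLocalIdeal_mul_left hMp
      (helper20.memLocalRing_prod hMp _ _ (fun i _ => hAR i (k i))) h)
  have hPr : ¬ MemLocalIdeal M (∏ i, A i (k i)) := fun h =>
    hk (helper20.memLocalIdeal_mul_right hMp h (memLocalRing_det hMp _ hΩR))
  have hval : ∀ i, ¬ MemLocalIdeal M ((k i : G → ℂ) (x i)⁻¹) := by
    intro i h
    apply hPr
    rw [← Finset.mul_prod_erase Finset.univ (fun i => A i (k i)) (Finset.mem_univ i)]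
    refine helper20.memLocalIdeal_mul_right hMp ?_
      (helper20.memLocalRing_prod hMp _ _ (fun i _ => hAR i (k i)))
    rw [hA]
    exact helper20.memLocalIdeal_mul_left hMp (helper20.memLocalRing_natCast hMp _) h
  have hΩapp : ∀ i j, (Bm.submatrix k id) i j = centralChar (k i : G → ℂ) (x j) := by
    intro i j
    rw [hBm]
    rfl
  -- numerical data
  have hsyl : ∀ j, helper80.IsSylowCent p (x j) D := fun j => by
    obtain ⟨S, hS⟩ := hD j
    exact ⟨S, hS.symm⟩
  have he : ∀ i j, (Nat.card (Subgroup.centralizer ({x i} : Set G))).factorization p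
      = (Nat.card (Subgroup.centralizer ({x j} : Set G))).factorization p := by
    intro i j
    have h1 := (hsyl i).card
    have h2 := (hsyl j).card
    rw [h1] at h2
    exact Nat.pow_right_injective hp.two_le h2
  have hrow : ∀ i, ∃ j, ¬ MemLocalIdeal M (centralChar (k i : G → ℂ) (x j)) := by
    intro i
    by_contra hcon
    push Not at hcon
    exact hΩ (memLocalIdeal_det_of_row hMp _ hΩR i (fun j => by rw [hΩapp]; exact hcon j))
  have hdef : ∀ i, blockDefect p (blockOf M (k i : G → ℂ))
      = (Nat.card (Subgroup.centralizer ({x i} : Set G))).factorization p := by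
    intro i
    obtain ⟨j, hj⟩ := hrow i
    have h1 := helper79.blockDefect_le_of_centralChar hM (isPBlock_blockOf (k i))
      (mem_blockOf_self hMp (k i)) (x j) hj
    have h2 := factorization_card_centralizer_le_of_apply hM (mem_blockOf_self hMp (k i))
      (x i)⁻¹ (hval i)
    rw [centralizer_inv_eq] at h2
    rw [← he i j] at h1
    exact le_antisymm h1 h2
  refine ⟨fun i => blockOf M (k i : G → ℂ), ?_, ?_, ?_⟩
  · -- injectivity
    intro i₁ i₂ h12
    by_contra hne
    apply hΩ
    refine memLocalIdeal_det_of_rows hMp _ hΩR hne (fun j => ?_)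
    rw [hΩapp, hΩapp]
    have hmem : k i₂ ∈ blockOf M (k i₁ : G → ℂ) := by
      have h12' : blockOf M (k i₁ : G → ℂ) = blockOf M (k i₂ : G → ℂ) := h12
      rw [h12']
      exact mem_blockOf_self hMp (k i₂)
    exact hmem (x j)
  · -- blocks with defect group D
    intro i
    refine ⟨isPBlock_blockOf (k i), ?_⟩
    have hB := isPBlock_blockOf (M := M) (k i)
    obtain ⟨j, hj⟩ := hrow i
    obtain ⟨D', hD'⟩ := helper80.exists_isDefectGroup p hMp hB
    have hcard' := helper79.card_eq_of_isDefectGroup hM hB hD'
    obtain ⟨y, hy⟩ := helper80.IsDefectGroup.exists_conj_mem_centralizer hM hB hD'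
      (mem_blockOf_self hMp (k i)) (x j) hj
    have hD'' := helper80.IsDefectGroup.conj hD' y
    have hle'' : D'.map (MulAut.conj y).toMonoidHom ≤ Subgroup.centralizer ({x j} : Set G) := by
      intro z hz
      rw [helper80.mem_map_conj] at hz
      have := hy _ hz
      have e : y * (y⁻¹ * z * y) * y⁻¹ = z := by group
      rwa [e] at this
    have hcard'' : Nat.card (D'.map (MulAut.conj y).toMonoidHom)
        = p ^ (Nat.card (Subgroup.centralizer ({x j} : Set G))).factorization p := by
      rw [Subgroup.card_map_of_injective (MulAut.conj y).injective, hcard', hdef i, he i j]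
    obtain ⟨c, _, hc⟩ := (hsyl j).exists_conj_mem (D'.map (MulAut.conj y).toMonoidHom)
      (helper80.IsDefectGroup.isPGroup hD'') hle''
    have hD3 := helper80.IsDefectGroup.conj hD'' c⁻¹
    have hle3 : (D'.map (MulAut.conj y).toMonoidHom).map (MulAut.conj c⁻¹).toMonoidHom ≤ D := by
      intro z hz
      rw [helper80.mem_map_conj] at hz
      have := hc _ hz
      have e : c⁻¹ * (c⁻¹⁻¹ * z * c⁻¹) * c = z := by group
      rwa [e] at this
    have hcard3 : Nat.card D ≤ Nat.card
        ((D'.map (MulAut.conj y).toMonoidHom).map (MulAut.conj c⁻¹).toMonoidHom) := by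
      rw [Subgroup.card_map_of_injective (MulAut.conj c⁻¹).injective, hcard'', (hsyl j).card]
    have heq := Subgroup.eq_of_le_of_card_ge hle3 hcard3
    rw [← heq]
    exact hD3
  · -- the determinant
    intro χ hχ hdetX
    obtain ⟨Ω', hΩ'⟩ : ∃ Ω' : Matrix (Fin r) (Fin r) ℂ,
        Ω' = Matrix.of fun i j => centralChar (χ i : G → ℂ) (x j) := ⟨_, rfl⟩
    have hΩ'R : ∀ i j, MemLocalRing M (Ω' i j) := by
      intro i j
      rw [hΩ']
      exact helper80.memLocalRing_centralChar hMp (χ i) (x j)
    have hcong := memLocalIdeal_det_sub hMp (Bm.submatrix k id) Ω' hΩR hΩ'R (fun i j => by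
      rw [hΩapp, hΩ']
      exact (hχ i).1 (x j))
    apply hΩ
    have hΩ'det : MemLocalIdeal M Ω'.det := by
      -- the p-parts
      have hn : ∀ j : Fin r, ∃ n' : ℕ, ¬ p ∣ n' ∧
          (Subgroup.centralizer ({x j} : Set G)).index
            = p ^ ((Subgroup.centralizer ({x j} : Set G)).index.factorization p) * n' :=
        fun j => ⟨_, Nat.not_dvd_ordCompl hp Subgroup.index_ne_zero_of_finite,
          (Nat.ordProj_mul_ordCompl_eq_self _ p).symm⟩
      have hf : ∀ i : Fin r, ∃ f' : ℕ, ¬ p ∣ f' ∧
          charDegree (χ i : G → ℂ)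
            = p ^ ((charDegree (χ i : G → ℂ)).factorization p) * f' :=
        fun i => ⟨_, Nat.not_dvd_ordCompl hp (irr_charDegree_pos (χ i)).ne',
          (Nat.ordProj_mul_ordCompl_eq_self _ p).symm⟩
      choose n' hn'1 hn'2 using hn
      choose f' hf'1 hf'2 using hf
      have hnfac : ∀ j : Fin r, (Subgroup.centralizer ({x j} : Set G)).index.factorization p
          + (Nat.card (Subgroup.centralizer ({x j} : Set G))).factorization p
            = (Nat.card G).factorization p := by
        intro j
        rw [← Subgroup.index_mul_card (Subgroup.centralizer ({x j} : Set G)),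
          Nat.factorization_mul Subgroup.index_ne_zero_of_finite Nat.card_pos.ne']
        rfl
      have hffac : ∀ i : Fin r, (charDegree (χ i : G → ℂ)).factorization p
          + (Nat.card (Subgroup.centralizer ({x i} : Set G))).factorization p
            = (Nat.card G).factorization p := by
        intro i
        have h1 := helper79.factorization_add_defect (p := p) (hχ i).1
        rw [(hχ i).2, hdef i] at h1
        exact h1
      obtain ⟨q, hq1, hq2⟩ : ∃ q : ℕ,
          (∀ j : Fin r, (Subgroup.centralizer ({x j} : Set G)).index.factorization p = q) ∧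
          (∀ i : Fin r, (charDegree (χ i : G → ℂ)).factorization p = q) := by
        rcases isEmpty_or_nonempty (Fin r) with hemp | ⟨⟨i₀⟩⟩
        · exact ⟨0, fun j => isEmptyElim j, fun i => isEmptyElim i⟩
        · refine ⟨(Subgroup.centralizer ({x i₀} : Set G)).index.factorization p, ?_, ?_⟩
          · intro j
            have h1 := hnfac j
            have h2 := hnfac i₀
            have h3 := he j i₀
            omega
          · intro i
            have h1 := hffac i
            have h2 := hnfac i₀
            have h3 := he i i₀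
            omega
      have hq0 : ((p : ℂ) ^ q) ≠ 0 := by
        have : (p : ℂ) ≠ 0 := by exact_mod_cast hp.ne_zero
        exact pow_ne_zero _ this
      have hf'0 : ∀ i, (f' i : ℂ) ≠ 0 := by
        intro i h0
        have : f' i = 0 := by exact_mod_cast h0
        exact hf'1 i (this ▸ dvd_zero p)
      have hΩ'eq : Ω' = Matrix.diagonal (fun i => ((f' i : ℂ))⁻¹)
          * (Matrix.of fun i j : Fin r => (χ i : G → ℂ) (x j))
          * Matrix.diagonal (fun j => (n' j : ℂ)) := by
        ext i j
        rw [Matrix.mul_diagonal, Matrix.diagonal_mul, hΩ']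
        show centralChar (χ i : G → ℂ) (x j) = (f' i : ℂ)⁻¹ * (χ i : G → ℂ) (x j) * (n' j : ℂ)
        unfold centralChar
        rw [irr_one_eq_charDegree]
        have e1 : ((Subgroup.centralizer ({x j} : Set G)).index : ℂ)
            = (p : ℂ) ^ q * (n' j : ℂ) := by
          have := hn'2 j
          rw [hq1 j] at this
          rw [this]
          push_cast
          ring
        have e2 : (charDegree (χ i : G → ℂ) : ℂ) = (p : ℂ) ^ q * (f' i : ℂ) := by
          have := hf'2 i
          rw [hq2 i] at this
          rw [this]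
          push_cast
          ring
        rw [e1, e2]
        have := hf'0 i
        field_simp
      rw [hΩ'eq, Matrix.det_mul, Matrix.det_mul, Matrix.det_diagonal, Matrix.det_diagonal]
      refine helper20.memLocalIdeal_mul_right hMp (helper20.memLocalIdeal_mul_left hMp ?_ hdetX)
        (helper20.memLocalRing_prod hMp _ _ (fun j _ => helper20.memLocalRing_natCast hMp _))
      exact helper20.memLocalRing_prod hMp _ _ (fun i _ =>
        memLocalRing_inv (helper20.memLocalRing_natCast hMp _)
          (helper80.not_memLocalIdeal_natCast hM (hf'1 i)))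
    have := helper20.memLocalIdeal_add hMp hcong hΩ'det
    rwa [sub_add_cancel] at this

end Cfsg.Agent.S4741
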