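import Cfsg.Statements.S4743
import Cfsg.Agent.S4742
import Cfsg.Agent.Lib.helper81.PSolvPQ
-- import your own Cfsg.Agent.* helpers here

set_option autoImplicit false
open Cfsg

namespace Cfsg.Agent.S4743

open Cfsg.Agent.Lib.helper81

/-- Let p ≠ q be primes dividing the order of the finite group G, suppose the centralizer of every non-identity p-element has order prime to q, and suppose G is p-solvable or q-solvable. Then G has an irreducible character of p-defect zero or an irreducible character of q-defect zero. -/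
theorem result {G : Type*} [Group G] [Finite G] (p q : ℕ) [Fact p.Prime] [Fact q.Prime] (hppq : p ≠ q) (hpG : p ∣ Nat.card G) (hqG : q ∣ Nat.card G) (hC : ∀ g : G, g ≠ 1 → (∃ k : ℕ, orderOf g = p ^ k) → ¬ q ∣ Nat.card ↥(Subgroup.centralizer ({g} : Set G))) (hsolv : Cfsg.IsPSolvable p G ∨ Cfsg.IsPSolvable q G) : (∃ χ : Cfsg.IrrCharacter G, (Cfsg.charDegree (χ : G → ℂ)).factorization p = (Nat.card G).factorization p) ∨ (∃ χ : Cfsg.IrrCharacter G, (Cfsg.charDegree (χ : G → ℂ)).factorization q = (Nat.card G).factorization q) := by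
  classical
  have hp := (Fact.out : p.Prime)
  have hq := (Fact.out : q.Prime)
  -- the centralizer hypothesis is symmetric in `p` and `q`
  have hC' : ∀ z : G, z ≠ 1 → (∃ k : ℕ, orderOf z = q ^ k) →
      ¬ p ∣ Nat.card ↥(Subgroup.centralizer ({z} : Set G)) := by
    intro z hz ⟨k, hk⟩ hdvd
    obtain ⟨u, hu⟩ := exists_prime_orderOf_dvd_card' p hdvd
    have hu' : orderOf (u : G) = p := by rw [Subgroup.orderOf_coe]; exact hu
    have hu1 : (u : G) ≠ 1 := by
      intro h
      rw [h, orderOf_one] at hu'
      exact hp.one_lt.ne hu'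
    apply hC (u : G) hu1 ⟨1, by rw [hu', pow_one]⟩
    have hzmem : z ∈ Subgroup.centralizer ({(u : G)} : Set G) := by
      rw [Subgroup.mem_centralizer_iff]
      intro h hh
      rw [Set.mem_singleton_iff] at hh
      subst hh
      have := Subgroup.mem_centralizer_iff.mp u.2 z (Set.mem_singleton z)
      exact this.symm
    have hk0 : k ≠ 0 := by
      rintro rfl
      rw [pow_zero] at hk
      exact hz (orderOf_eq_one_iff.mp hk)
    have h1 := orderOf_dvd_natCard (⟨z, hzmem⟩ : ↥(Subgroup.centralizer ({(u : G)} : Set G)))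
    rw [Subgroup.orderOf_mk, hk] at h1
    exact (dvd_pow_self q hk0).trans h1
  -- a normal subgroup whose order is divisible by exactly one of `p`, `q`
  have hK : ∃ K : Subgroup G, K.Normal ∧ ((p ∣ Nat.card K ∧ ¬ q ∣ Nat.card K) ∨
      (q ∣ Nat.card K ∧ ¬ p ∣ Nat.card K)) := by
    rcases hsolv with hs | hs
    · exact exists_normal_one_prime p q hppq hpG hs
    · obtain ⟨K, hKn, h⟩ := exists_normal_one_prime q p hppq.symm hqG hs
      exact ⟨K, hKn, h.symm⟩
  obtain ⟨K, hKn, hK | hK⟩ := hK
  · right
    rcases Cfsg.Agent.S4742.result q p hppq.symm hqG hpG hC' with h | h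
    · exact h
    · exfalso
      obtain ⟨u, hu⟩ := exists_prime_orderOf_dvd_card' p hK.1
      have hu' : orderOf (u : G) = p := by rw [Subgroup.orderOf_coe]; exact hu
      have hu1 : (u : G) ≠ 1 := by
        intro h0
        rw [h0, orderOf_one] at hu'
        exact hp.one_lt.ne hu'
      obtain ⟨g, h', hg, hh, hne, k, hk⟩ := h (u : G) hu1 ⟨1, by rw [hu', pow_one]⟩
      exact not_q_element_of_normal q K hK.2 (u : G) u.2 g h' hg hh hne k hk
  · left
    rcases Cfsg.Agent.S4742.result p q hppq hpG hqG hC with h | h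
    · exact h
    · exfalso
      obtain ⟨u, hu⟩ := exists_prime_orderOf_dvd_card' q hK.1
      have hu' : orderOf (u : G) = q := by rw [Subgroup.orderOf_coe]; exact hu
      have hu1 : (u : G) ≠ 1 := by
        intro h0
        rw [h0, orderOf_one] at hu'
        exact hq.one_lt.ne hu'
      obtain ⟨g, h', hg, hh, hne, k, hk⟩ := h (u : G) hu1 ⟨1, by rw [hu', pow_one]⟩
      exact not_q_element_of_normal p K hK.2 (u : G) u.2 g h' hg hh hne k hk

end Cfsg.Agent.S4743
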