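import Cfsg.Statements.S4744
import Cfsg.Agent.S4742
import Cfsg.Agent.Lib.helper81.InvSylow
-- import your own Cfsg.Agent.* helpers here

set_option autoImplicit false
open Cfsg

namespace Cfsg.Agent.S4744

open Cfsg.Agent.Lib.helper81

/-- Let p be an odd prime and G a finite group of even order divisible by p in which the centralizer of every non-identity p-element has odd order. Then either G has an irreducible character of p-defect zero, or the normalizer of every Sylow p-subgroup P of G has even order and P is abelian. -/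
theorem result {G : Type*} [Group G] [Finite G] (p : ℕ) [Fact p.Prime] (hp2 : p ≠ 2) (hpG : p ∣ Nat.card G) (h2G : 2 ∣ Nat.card G) (hC : ∀ g : G, g ≠ 1 → (∃ k : ℕ, orderOf g = p ^ k) → Odd (Nat.card ↥(Subgroup.centralizer ({g} : Set G)))) : (∃ χ : Cfsg.IrrCharacter G, (Cfsg.charDegree (χ : G → ℂ)).factorization p = (Nat.card G).factorization p) ∨ ∀ P : Sylow p G, Even (Nat.card ↥(Subgroup.normalizer ((P : Subgroup G) : Set G))) ∧ IsMulCommutative ↥(P : Subgroup G) := by
  classical
  have : Fact (Nat.Prime 2) := ⟨Nat.prime_two⟩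
  have hC' : ∀ g : G, g ≠ 1 → (∃ k : ℕ, orderOf g = p ^ k) →
      ¬ 2 ∣ Nat.card ↥(Subgroup.centralizer ({g} : Set G)) := by
    intro g hg hk h2
    exact (Nat.not_even_iff_odd.mpr (hC g hg hk)) (even_iff_two_dvd.mpr h2)
  rcases Cfsg.Agent.S4742.result p 2 hp2 hpG h2G hC' with h | h
  · exact Or.inl h
  · right
    intro P
    obtain ⟨z, hz⟩ := exists_prime_orderOf_dvd_card' 2 h2G
    have hz1 : z ≠ 1 := by
      intro h0
      rw [h0, orderOf_one] at hz
      norm_num at hz
    have hzz : z * z = 1 := by
      have := pow_orderOf_eq_one z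
      rwa [hz, pow_two] at this
    obtain ⟨g, h', hzg, hzh, hne, hk⟩ := h z hz1 ⟨1, by rw [hz, pow_one]⟩
    obtain ⟨c, hc⟩ := isConj_iff.mp hzg
    obtain ⟨d, hd⟩ := isConj_iff.mp hzh
    have hg2 : g * g = 1 := by
      rw [← hc]
      calc c * z * c⁻¹ * (c * z * c⁻¹) = c * (z * z) * c⁻¹ := by group
        _ = 1 := by rw [hzz]; group
    have hh2 : h' * h' = 1 := by
      rw [← hd]
      calc d * z * d⁻¹ * (d * z * d⁻¹) = d * (z * z) * d⁻¹ := by group
        _ = 1 := by rw [hzz]; group
    have hg1 : g ≠ 1 := by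
      intro h0
      apply hz1
      rw [h0] at hc
      have : z = c⁻¹ * (c * z * c⁻¹) * c := by group
      rw [this, hc]; group
    have hginv : g⁻¹ = g := inv_eq_of_mul_eq_one_left hg2
    have hhinv : h'⁻¹ = h' := inv_eq_of_mul_eq_one_left hh2
    have hinv : g * (g * h'⁻¹) * g⁻¹ = (g * h'⁻¹)⁻¹ := by
      rw [mul_inv_rev, inv_inv, ← mul_assoc, hg2, one_mul, hhinv]
    obtain ⟨s, -, hs1, hs2, hs⟩ :=
      involution_inverts_every_sylow p hC g (g * h'⁻¹) hg1 hg2 hne hk hinv P
    have hsinv : s⁻¹ = s := inv_eq_of_mul_eq_one_left hs2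
    constructor
    · have hsN : s ∈ Subgroup.normalizer ((P : Subgroup G) : Set G) := by
        rw [Subgroup.mem_set_normalizer_iff]
        intro x
        constructor
        · intro hx
          have hx' : x ∈ P := hx
          have : s * x * s⁻¹ ∈ P := by rw [hs x hx']; exact inv_mem hx'
          exact this
        · intro hx
          have hx' : s * x * s⁻¹ ∈ P := hx
          have h3 := hs _ hx'
          have h4 : s * (s * x * s⁻¹) * s⁻¹ = x := by
            rw [hsinv]
            calc s * (s * x * s) * s = (s * s) * x * (s * s) := by group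
              _ = x := by rw [hs2, one_mul, mul_one]
          rw [h4] at h3
          have : x ∈ P := by rw [h3]; exact inv_mem hx'
          exact this
      have hs2' : orderOf s = 2 := orderOf_eq_prime (by rw [pow_two]; exact hs2) hs1
      have h5 := orderOf_dvd_natCard
        (⟨s, hsN⟩ : ↥(Subgroup.normalizer ((P : Subgroup G) : Set G)))
      rw [Subgroup.orderOf_mk, hs2'] at h5
      exact even_iff_two_dvd.mpr h5
    · refine ⟨⟨fun a b => ?_⟩⟩
      ext
      exact commute_of_inverted (P : Subgroup G) s hs a b a.2 b.2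

end Cfsg.Agent.S4744
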