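import Mathlib
import Cfsg.Statements.S4748
import Cfsg.Agent.Lib.helper21.TIGroup
import Cfsg.Agent.Lib.helper21.TISolv
import Cfsg.Agent.Lib.helper21.TIChar

set_option autoImplicit false
open scoped Pointwise
open Cfsg

namespace Cfsg.Agent.S4748

open Cfsg.Agent.Lib.helper21 in
/-- Let G be a finite p-solvable group whose Sylow p-subgroup P meets each conjugate g P g⁻¹ with g outside N_G(P) trivially, and let χ be a faithful character of G (χ g = χ 1 only for g = 1) whose degree d satisfies d² ≤ |P|. Then P is normal in G. -/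
theorem result {G : Type*} [Group G] [Finite G] (p : ℕ) [Fact p.Prime] (hsolv : Cfsg.IsPSolvable p G) (P : Sylow p G) (hTI : ∀ g : G, g ∉ Subgroup.normalizer ((P : Subgroup G) : Set G) → (P : Subgroup G) ⊓ (MulAut.conj g • (P : Subgroup G)) = ⊥) (χ : G → ℂ) (hχ : Cfsg.IsCharacter G χ) (hfaith : ∀ g : G, χ g = χ 1 → g = 1) (hdeg : Cfsg.charDegree χ ^ 2 ≤ Nat.card ↥(P : Subgroup G)) : (P : Subgroup G).Normal := by
  classical
  by_contra hn
  have hp : p.Prime := Fact.out
  haveI : Fintype G := Fintype.ofFinite G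
  obtain ⟨K, hKn, hKc, hKnc⟩ := exists_normal_pprime_not_centralized p hsolv P hTI hn
  have hPp : IsPGroup p (P : Subgroup G) := P.isPGroup'
  have hPK : (P : Subgroup G) ≤ Subgroup.normalizer (K : Set G) := by
    rw [Subgroup.normalizer_eq_top_iff.mpr hKn]; exact le_top
  obtain ⟨q, S, hq, hSK, hSq, hPS, hSnc⟩ :=
    exists_invariant_qgroup_not_centralized p (P : Subgroup G) K hPp hKc hPK hKnc
  haveI : Fact q.Prime := ⟨hq⟩
  obtain ⟨Q, hQS, hPQ, hQnc, hmin⟩ :=
    exists_minimal_invariant_not_centralized (P : Subgroup G) S hPS hSnc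
  have hQc : (Nat.card Q).Coprime p :=
    Nat.Coprime.coprime_dvd_left (Subgroup.card_dvd_of_le (hQS.trans hSK)) hKc
  have hQq : IsPGroup q Q := hSq.to_le hQS
  have hlt := ti_card_mul_card_lt (P : Subgroup G) Q hPp hQc hPQ hTI hQnc
  have hχQ : IsCharacter Q (fun h : Q => χ h) :=
    Cfsg.Agent.Lib.helper4.isCharacter_restrict Q hχ
  obtain ⟨d, hd⟩ := Cfsg.Agent.Lib.helper4.exists_nat_degree hχ
  have hdeg' : charDegree χ = d := charDegree_of_one_eq hd
  have hdegQ : charDegree (fun h : Q => χ h) = d := charDegree_of_one_eq (by simpa using hd)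
  rw [hdeg'] at hdeg
  have hcf : IsClassFunction G χ := Cfsg.Agent.Lib.helper4.isClassFunction_of_isCharacter hχ
  by_cases hab : ∀ a ∈ Q, ∀ b ∈ Q, a * b = b * a
  · -- abelian case
    obtain ⟨k, hk⟩ := (IsPGroup.iff_card).mp hPp
    have hcop : (Nat.card (P : Subgroup G)).Coprime (Nat.card Q) := by
      rw [hk]; exact Nat.Coprime.pow_left k hQc.symm
    have hC1 : ∀ g ∈ Q, g ∈ Subgroup.centralizer ((P : Subgroup G) : Set G) → g = 1 :=
      fun g hg hgc =>
        abelian_inf_centralizer_eq_one (P : Subgroup G) Q hPQ hcop hab hmin hQnc hg hgc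
    obtain ⟨z₀, hz₀Q, hz₀⟩ : ∃ z ∈ Q, z ≠ 1 := by
      by_contra hcon
      apply hQnc
      intro g hg
      have : g = 1 := by
        by_contra hg1
        exact hcon ⟨g, hg, hg1⟩
      rw [this]; exact Subgroup.one_mem _
    let σ : ↥(P : Subgroup G) → (↥Q ≃* ↥Q) := fun y => conjEquivOfMem Q y (hPQ y.2)
    have key := card_le_degree_of_free_abelian (H := ↥Q)
      (fun x y => Subtype.ext (hab x x.2 y y.2)) (fun h : Q => χ h) hχQ σ
      (by
        intro y g
        show χ ((y : G) * g * (y : G)⁻¹) = χ g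
        exact hcf g y)
      (by
        intro i j hij u hu
        have hu' : (i : G) * u * (i : G)⁻¹ = (j : G) * u * (j : G)⁻¹ := congrArg Subtype.val hu
        have hx : (j : G)⁻¹ * (i : G) ∈ (P : Subgroup G) :=
          Subgroup.mul_mem _ (Subgroup.inv_mem _ j.2) i.2
        have hx1 : (j : G)⁻¹ * (i : G) ≠ 1 := by
          intro h
          apply hij
          apply Subtype.ext
          have : (i : G) = (j : G) := by
            calc (i : G) = (j : G) * ((j : G)⁻¹ * (i : G)) := by group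
              _ = (j : G) := by rw [h, mul_one]
          exact this
        have hcomm : (u : G) * ((j : G)⁻¹ * (i : G)) = ((j : G)⁻¹ * (i : G)) * (u : G) := by
          calc (u : G) * ((j : G)⁻¹ * (i : G))
              = (j : G)⁻¹ * ((j : G) * u * (j : G)⁻¹) * (i : G) := by group
            _ = (j : G)⁻¹ * ((i : G) * u * (i : G)⁻¹) * (i : G) := by rw [hu']
            _ = ((j : G)⁻¹ * (i : G)) * (u : G) := by group
        have huc := ti_mem_centralizer_of_commute (P : Subgroup G) Q hPp hQc hPQ hTI hx hx1 u.2 hcomm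
        exact Subtype.ext (hC1 u u.2 huc))
      (z := ⟨z₀, hz₀Q⟩)
      (by
        show χ z₀ ≠ χ ((1 : ↥Q) : G)
        intro h
        exact hz₀ (hfaith z₀ (by simpa using h)))
    rw [hdegQ] at key
    have hPpos : 0 < Nat.card (P : Subgroup G) := Nat.card_pos
    have hd1 : d ≤ 1 := by nlinarith
    have hP1 : Nat.card (P : Subgroup G) = 1 := by omega
    apply hn
    rw [Subgroup.card_eq_one.mp hP1]
    infer_instance
  · -- nonabelian case
    have hab' : ∃ a ∈ Q, ∃ b ∈ Q, a * b ≠ b * a := by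
      by_contra hcon
      apply hab
      intro a ha b hb
      by_contra hne
      exact hcon ⟨a, ha, b, hb, hne⟩
    obtain ⟨a, ha, b, hb, hne⟩ := hab'
    obtain ⟨hDP, hDQ⟩ := derived_le_of_minimal (P : Subgroup G) Q hPp hQc hQq hPQ hmin hQnc
    have hcomm_mem : ∀ h g : ↥Q, ((h * g * h⁻¹ * g⁻¹ : ↥Q) : G) ∈ ⁅Q, Q⁆ := by
      intro h g
      have := Subgroup.commutator_mem_commutator h.2 g.2
      rw [commutatorElement_def] at this
      exact this
    have hc : ∀ h g : ↥Q, h * g * h⁻¹ * g⁻¹ ∈ Subgroup.center ↥Q := by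
      intro h g
      rw [Subgroup.mem_center_iff]
      intro x
      apply Subtype.ext
      have h1 := Subgroup.mem_centralizer_iff.mp (hDQ (hcomm_mem h g)) x x.2
      exact h1
    obtain ⟨φ, R, hR, hbR, hcard⟩ := exists_ramified_constituent (H := ↥Q) (fun h : Q => χ h) hχQ hc
      (a := ⟨a, ha⟩) (b := ⟨b, hb⟩) (by
        show χ (a * b * a⁻¹ * b⁻¹) ≠ χ ((1 : ↥Q) : G)
        intro h
        have h1 : a * b * a⁻¹ * b⁻¹ = 1 := hfaith _ (by simpa using h)
        apply hne
        calc a * b = a * b * a⁻¹ * b⁻¹ * (b * a) := by group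
          _ = b * a := by rw [h1, one_mul])
    rw [hdegQ] at hcard
    -- R is P-invariant
    have hRQ : R.map Q.subtype ≤ Q := Subgroup.map_subtype_le R
    have hRinv : (P : Subgroup G) ≤ Subgroup.normalizer ((R.map Q.subtype : Subgroup G) : Set G) := by
      rw [Subgroup.le_normalizer_iff]
      rintro y hy _ ⟨g, hg, rfl⟩
      have hgQ : y * (g : G) * y⁻¹ ∈ Q := (Subgroup.mem_normalizer_iff.mp (hPQ hy) g).mp g.2
      refine ⟨⟨y * (g : G) * y⁻¹, hgQ⟩, ?_, rfl⟩
      rw [SetLike.mem_coe, hR]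
      intro h
      have hh' : y⁻¹ * (h : G) * y ∈ Q := by
        have := (Subgroup.mem_normalizer_iff.mp (Subgroup.inv_mem _ (hPQ hy)) h).mp h.2
        simpa using this
      have h1 := (hR g).mp hg ⟨y⁻¹ * (h : G) * y, hh'⟩
      have h2 : (h * ⟨y * (g : G) * y⁻¹, hgQ⟩ * h⁻¹ * (⟨y * (g : G) * y⁻¹, hgQ⟩ : ↥Q)⁻¹ : ↥Q)
          = (⟨y⁻¹ * (h : G) * y, hh'⟩ * g * (⟨y⁻¹ * (h : G) * y, hh'⟩ : ↥Q)⁻¹ * g⁻¹ : ↥Q) := by
        apply Subtype.ext
        have h3 := hcomm_mem ⟨y⁻¹ * (h : G) * y, hh'⟩ g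
        have h4 := Subgroup.mem_centralizer_iff.mp (hDP h3) y hy
        have h5 : ((⟨y⁻¹ * (h : G) * y, hh'⟩ * g * (⟨y⁻¹ * (h : G) * y, hh'⟩ : ↥Q)⁻¹ * g⁻¹ : ↥Q) : G)
            = y⁻¹ * (h : G) * y * (g : G) * (y⁻¹ * (h : G) * y)⁻¹ * (g : G)⁻¹ := rfl
        rw [h5] at h4 ⊢
        show (h : G) * (y * (g : G) * y⁻¹) * (h : G)⁻¹ * (y * (g : G) * y⁻¹)⁻¹ = _
        calc (h : G) * (y * (g : G) * y⁻¹) * (h : G)⁻¹ * (y * (g : G) * y⁻¹)⁻¹
            = y * (y⁻¹ * (h : G) * y * (g : G) * (y⁻¹ * (h : G) * y)⁻¹ * (g : G)⁻¹) * y⁻¹ := by group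
          _ = (y⁻¹ * (h : G) * y * (g : G) * (y⁻¹ * (h : G) * y)⁻¹ * (g : G)⁻¹) * y * y⁻¹ := by
              rw [h4]
          _ = y⁻¹ * (h : G) * y * (g : G) * (y⁻¹ * (h : G) * y)⁻¹ * (g : G)⁻¹ := by group
      rw [h2]
      exact h1
    have hRne : R.map Q.subtype ≠ Q := by
      intro h
      apply hbR
      have h1 : b ∈ R.map Q.subtype := by rw [h]; exact hb
      obtain ⟨b', hb', hbb⟩ := h1
      have h2 : b' = ⟨b, hb⟩ := Subtype.ext hbb
      exact h2 ▸ hb'
    have hRC := hmin _ hRQ hRinv hRne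
    have hRle : Nat.card R ≤ Nat.card (Q ⊓ Subgroup.centralizer ((P : Subgroup G) : Set G) : Subgroup G) := by
      rw [← Subgroup.card_map_of_injective Q.subtype_injective]
      exact Subgroup.card_le_of_le (le_inf hRQ hRC)
    have h1 : Nat.card Q ≤ Nat.card (Q ⊓ Subgroup.centralizer ((P : Subgroup G) : Set G) : Subgroup G)
        * Nat.card (P : Subgroup G) :=
      hcard.trans (Nat.mul_le_mul hRle hdeg)
    rw [mul_comm] at h1
    omega

end Cfsg.Agent.S4748
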