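import Cfsg.Statements.S4754
import Cfsg.Agent.Lib.helper82.CharMore

set_option autoImplicit false
open Cfsg

namespace Cfsg.Agent.S4754

open Cfsg.Agent.Lib.helper82 Cfsg.Agent.Lib.helper83

/-- For elements x, y of a finite group G, the conjugacy class of x y equals the set of all products of a conjugate of x with a conjugate of y if and only if χ(1) χ(a x a⁻¹ b y b⁻¹) = χ(x) χ(y) for all a, b ∈ G and every irreducible character χ. -/
theorem result {G : Type*} [Group G] [Finite G] (x y : G) : (∀ z : G, IsConj (x * y) z ↔ ∃ a b : G, z = a * x * a⁻¹ * (b * y * b⁻¹)) ↔ ∀ (a b : G) (χ : Cfsg.IrrCharacter G), (χ : G → ℂ) 1 * (χ : G → ℂ) (a * x * a⁻¹ * (b * y * b⁻¹)) = (χ : G → ℂ) x * (χ : G → ℂ) y := by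
  classical
  have := Fintype.ofFinite G
  have hN0 : (Nat.card G : ℂ) ≠ 0 := by exact_mod_cast Nat.card_pos.ne'
  constructor
  · intro hcl a b χ
    have hd : (charDegree (χ : G → ℂ) : ℂ) ≠ 0 := by
      exact_mod_cast (irr_charDegree_pos χ).ne'
    -- all products are conjugate to x * y, so χ is constant on them
    have hconst : ∀ c d : G, (χ : G → ℂ) (c * x * c⁻¹ * (d * y * d⁻¹)) = (χ : G → ℂ) (x * y) := by
      intro c d
      have hc : IsConj (x * y) (c * x * c⁻¹ * (d * y * d⁻¹)) := (hcl _).mpr ⟨c, d, rfl⟩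
      exact ((isConj_iff_forall_irr_eq.mp hc) χ).symm
    have hsum := irr_sum_mul_conj χ (a * x * a⁻¹) y
    simp only [hconst] at hsum
    rw [Finset.sum_const, Finset.card_univ, nsmul_eq_mul, irr_conj χ x a,
      ← Nat.card_eq_fintype_card] at hsum
    rw [hconst a b, irr_one_eq χ]
    have h2 : (χ : G → ℂ) (x * y) = (χ : G → ℂ) x * (χ : G → ℂ) y /
        (charDegree (χ : G → ℂ) : ℂ) := by
      have h3 : (Nat.card G : ℂ) * (χ : G → ℂ) (x * y) = (Nat.card G : ℂ) *
          ((χ : G → ℂ) x * (χ : G → ℂ) y / (charDegree (χ : G → ℂ) : ℂ)) := by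
        rw [hsum]; ring
      exact mul_left_cancel₀ hN0 h3
    rw [h2]
    field_simp
  · intro hχ z
    constructor
    · intro hc
      obtain ⟨c, hc⟩ := isConj_iff.mp hc
      refine ⟨c, c, ?_⟩
      rw [← hc]; group
    · rintro ⟨a, b, rfl⟩
      apply isConj_of_forall_irr_eq
      intro χ
      have h1 := hχ a b χ
      have h2 := hχ 1 1 χ
      simp only [one_mul, inv_one, mul_one] at h2
      have hd : (χ : G → ℂ) 1 ≠ 0 := irr_one_ne_zero χ
      exact mul_left_cancel₀ hd (h2.trans h1.symm)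

end Cfsg.Agent.S4754
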