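import Cfsg.Statements.S4755
import Cfsg.Agent.S4754

set_option autoImplicit false
open Cfsg

namespace Cfsg.Agent.S4755

open Cfsg.Agent.Lib.helper82 Cfsg.Agent.Lib.helper83
open scoped ComplexConjugate commutatorElement

/-- Let x, y be non-identity elements of the finite group G such that χ(x' y') = χ(x') χ(y') for all conjugates x' of x, y' of y and every irreducible character χ. Then the conjugacy class of x y is the set of all products of a conjugate of x with a conjugate of y; every irreducible character of degree greater than 1 vanishes at x y; and the conjugacy class of x y is the coset of the commutator subgroup containing x y. -/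
theorem result {G : Type*} [Group G] [Finite G] (x y : G) (hx : x ≠ 1) (hy : y ≠ 1) (h : ∀ (a b : G) (χ : Cfsg.IrrCharacter G), (χ : G → ℂ) (a * x * a⁻¹ * (b * y * b⁻¹)) = (χ : G → ℂ) (a * x * a⁻¹) * (χ : G → ℂ) (b * y * b⁻¹)) : (∀ z : G, IsConj (x * y) z ↔ ∃ a b : G, z = a * x * a⁻¹ * (b * y * b⁻¹)) ∧ (∀ χ : Cfsg.IrrCharacter G, (χ : G → ℂ) 1 ≠ 1 → (χ : G → ℂ) (x * y) = 0) ∧ (∀ z : G, IsConj (x * y) z ↔ (x * y)⁻¹ * z ∈ commutator G) := by
  classical
  have := Fintype.ofFinite G
  have : Fintype (IrrCharacter G) := Fintype.ofFinite _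
  have hN0 : (Nat.card G : ℂ) ≠ 0 := by exact_mod_cast Nat.card_pos.ne'
  have hprod : ∀ (a b : G) (χ : IrrCharacter G),
      (χ : G → ℂ) (a * x * a⁻¹ * (b * y * b⁻¹)) = (χ : G → ℂ) x * (χ : G → ℂ) y := by
    intro a b χ
    rw [h a b χ, irr_conj χ x a, irr_conj χ y b]
  have hxy : ∀ χ : IrrCharacter G, (χ : G → ℂ) (x * y) = (χ : G → ℂ) x * (χ : G → ℂ) y := by
    intro χ
    have := hprod 1 1 χ
    simpa using this
  have hkey : ∀ χ : IrrCharacter G, (χ : G → ℂ) 1 ≠ 1 → (χ : G → ℂ) x * (χ : G → ℂ) y = 0 := by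
    intro χ hχ
    have hsum := irr_sum_mul_conj χ x y
    have h1 : ∀ b : G, (χ : G → ℂ) (x * (b * y * b⁻¹)) = (χ : G → ℂ) x * (χ : G → ℂ) y := by
      intro b
      have := hprod 1 b χ
      simpa using this
    simp only [h1] at hsum
    rw [Finset.sum_const, Finset.card_univ, nsmul_eq_mul, ← Nat.card_eq_fintype_card] at hsum
    have hd : (charDegree (χ : G → ℂ) : ℂ) ≠ 0 := by
      exact_mod_cast (irr_charDegree_pos χ).ne'
    have hd1 : (charDegree (χ : G → ℂ) : ℂ) ≠ 1 := by rw [← irr_one_eq χ]; exact hχ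
    by_contra hne
    apply hd1
    have h2 : (Nat.card G : ℂ) * ((χ : G → ℂ) x * (χ : G → ℂ) y) * (charDegree (χ : G → ℂ) : ℂ) =
        (Nat.card G : ℂ) * ((χ : G → ℂ) x * (χ : G → ℂ) y) * 1 := by
      rw [mul_one]
      calc (Nat.card G : ℂ) * ((χ : G → ℂ) x * (χ : G → ℂ) y) * (charDegree (χ : G → ℂ) : ℂ)
          = ((Nat.card G : ℂ) * (χ : G → ℂ) x * (χ : G → ℂ) y / (charDegree (χ : G → ℂ) : ℂ)) *
            (charDegree (χ : G → ℂ) : ℂ) := by rw [← hsum]
        _ = (Nat.card G : ℂ) * ((χ : G → ℂ) x * (χ : G → ℂ) y) := by field_simp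
    exact mul_left_cancel₀ (mul_ne_zero hN0 hne) h2
  have hvan : ∀ χ : Cfsg.IrrCharacter G, (χ : G → ℂ) 1 ≠ 1 → (χ : G → ℂ) (x * y) = 0 := by
    intro χ hχ
    rw [hxy χ, hkey χ hχ]
  refine ⟨?_, hvan, ?_⟩
  · rw [Cfsg.Agent.S4754.result x y]
    intro a b χ
    by_cases hχ : (χ : G → ℂ) 1 = 1
    · rw [hχ, one_mul, hprod a b χ]
    · rw [hprod a b χ, hkey χ hχ, mul_zero]
  · intro z
    constructor
    · intro hc
      obtain ⟨c, hc⟩ := isConj_iff.mp hc
      rw [← hc]
      have : (x * y)⁻¹ * (c * (x * y) * c⁻¹) = ⁅(x * y)⁻¹, c⁆ := by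
        rw [commutatorElement_def]; group
      rw [this]
      exact Subgroup.commutator_mem_commutator (Subgroup.mem_top _) (Subgroup.mem_top _)
    · intro hz
      by_contra hnc
      have hso := second_orthogonality_of_not_isConj (G := G) hnc
      have hterm : ∀ χ : IrrCharacter G, (χ : G → ℂ) (x * y) * conj ((χ : G → ℂ) z) =
          if (χ : G → ℂ) 1 = 1 then 1 else 0 := by
        intro χ
        by_cases hχ : (χ : G → ℂ) 1 = 1
        · rw [if_pos hχ]
          obtain ⟨f, hf⟩ := exists_hom_of_linear (isCharacter_of_irr χ.2) hχ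
          have hker : (x * y)⁻¹ * z ∈ f.ker := Abelianization.commutator_subset_ker f hz
          have hfz : f z = f (x * y) := by
            have := MonoidHom.mem_ker.mp hker
            rw [map_mul, map_inv, inv_mul_eq_one] at this
            exact this.symm
          rw [hf z, hfz, ← hf (x * y), ← irr_inv χ (x * y), hf, hf, ← Units.val_mul, ← map_mul,
            mul_inv_cancel, map_one, Units.val_one]
        · rw [if_neg hχ, hvan χ hχ, zero_mul]
      simp only [hterm] at hso
      rw [Finset.sum_ite, Finset.sum_const_zero, add_zero, Finset.sum_const, nsmul_eq_mul,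
        mul_one] at hso
      have hpos : 0 < (Finset.univ.filter fun χ : IrrCharacter G => (χ : G → ℂ) 1 = 1).card := by
        apply Finset.card_pos.mpr
        exact ⟨trivIrr G, by simp⟩
      have : ((Finset.univ.filter fun χ : IrrCharacter G => (χ : G → ℂ) 1 = 1).card : ℂ) ≠ 0 := by
        exact_mod_cast hpos.ne'
      exact this hso

end Cfsg.Agent.S4755
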