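import Mathlib
import Cfsg.Statements.S4756
import Cfsg.Agent.Lib.helper21.MultChar
import Cfsg.Agent.Lib.helper21.MultCharGrp

set_option autoImplicit false
open Cfsg

namespace Cfsg.Agent.S4756

open Cfsg.Agent.Lib.helper21 in
/-- For a finite group G the following are equivalent. (1) χ(x y) = χ(x) χ(y) for every irreducible character χ and all non-identity elements x, y of prime power orders for two different primes. (2) G is a p-group for some prime p, or G is abelian, or for some prime p: G = A P with P a normal Sylow p-subgroup and A a nontrivial cyclic subgroup of order prime to p such that, with C = C_P(A) and D = [A, P], one has P = C D, C abelian, D normal in G, C ∩ D = 1, and A acts fixed-point-freely on D (no non-identity element of A centralizes a non-identity element of D). -/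
theorem result {G : Type*} [Group G] [Finite G] : (∀ (x y : G) (χ : Cfsg.IrrCharacter G), x ≠ 1 → y ≠ 1 → (∃ p q a b : ℕ, p.Prime ∧ q.Prime ∧ p ≠ q ∧ orderOf x = p ^ a ∧ orderOf y = q ^ b) → (χ : G → ℂ) (x * y) = (χ : G → ℂ) x * (χ : G → ℂ) y) ↔ ((∃ p : ℕ, p.Prime ∧ IsPGroup p G) ∨ IsMulCommutative G ∨ ∃ (p : ℕ) (_ : Fact p.Prime) (P : Sylow p G) (A : Subgroup G), (P : Subgroup G).Normal ∧ IsCyclic ↥A ∧ A ≠ ⊥ ∧ (Nat.card ↥A).Coprime p ∧ A ⊔ (P : Subgroup G) = ⊤ ∧ IsMulCommutative ↥((P : Subgroup G) ⊓ Subgroup.centralizer (A : Set G)) ∧ (⁅A, (P : Subgroup G)⁆).Normal ∧ ((P : Subgroup G) ⊓ Subgroup.centralizer (A : Set G)) ⊔ ⁅A, (P : Subgroup G)⁆ = (P : Subgroup G) ∧ ((P : Subgroup G) ⊓ Subgroup.centralizer (A : Set G)) ⊓ ⁅A, (P : Subgroup G)⁆ = ⊥ ∧ ∀ a ∈ A, a ≠ 1 → ∀ d ∈ ⁅A, (P : Subgroup G)⁆, a * d = d * a → d = 1) := by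
  constructor
  · intro H
    by_cases hnp : ∃ p : ℕ, p.Prime ∧ IsPGroup p G
    · exact Or.inl hnp
    · by_cases hnc : ∀ a b : G, a * b = b * a
      · exact Or.inr (Or.inl ⟨⟨hnc⟩⟩)
      · exact Or.inr (Or.inr (mc_structure_of_H H hnp hnc))
  · rintro (⟨p, hp, hG⟩ | hc | ⟨p, hpF, P, A, hPn, hAcyc, hA0, hAcop, hAP, hCc, hDn, hCD, hCD0, hfpf⟩)
    · intro x y χ hx hy hxy
      exact (mc_false_of_pgroup hp hG hx hy hxy).elim
    · intro x y χ hx hy hxy
      exact mc_mul_of_comm (fun a b => hc.is_comm.comm a b) χ x y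
    · intro x y χ hx hy hxy
      haveI := hPn
      haveI := hDn
      have hcopP : (Nat.card A).Coprime (Nat.card (P : Subgroup G)) := by
        obtain ⟨n, hn⟩ := IsPGroup.iff_card.mp P.isPGroup'
        rw [hn]; exact Nat.Coprime.pow_right n hAcop
      have hAc : ∀ a ∈ A, ∀ b ∈ A, a * b = b * a := by
        intro a ha b hb
        obtain ⟨g, hg⟩ := hAcyc.exists_generator
        have h1 : (⟨a, ha⟩ : A) * ⟨b, hb⟩ = ⟨b, hb⟩ * ⟨a, ha⟩ := by
          obtain ⟨i, hi⟩ := Subgroup.mem_zpowers_iff.mp (hg ⟨a, ha⟩)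
          obtain ⟨j, hj⟩ := Subgroup.mem_zpowers_iff.mp (hg ⟨b, hb⟩)
          rw [← hi, ← hj, ← zpow_add, ← zpow_add, add_comm]
        exact congrArg Subtype.val h1
      have hCc' : ∀ a ∈ (P : Subgroup G) ⊓ Subgroup.centralizer (A : Set G),
          ∀ b ∈ (P : Subgroup G) ⊓ Subgroup.centralizer (A : Set G), a * b = b * a := by
        intro a ha b hb
        exact congrArg Subtype.val (hCc.is_comm.comm ⟨a, ha⟩ ⟨b, hb⟩)
      exact mc_mul_of_structure hpF.out (P : Subgroup G) A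
        ((P : Subgroup G) ⊓ Subgroup.centralizer (A : Set G)) ⁅A, (P : Subgroup G)⁆
        P.isPGroup' hAP hCD inf_le_right hAc hCc' hcopP hfpf x y χ hx hy hxy

end Cfsg.Agent.S4756
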