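import Cfsg.Statements.S4757
import Cfsg.Agent.Lib.helper82.CharNormal
import Cfsg.Agent.Lib.helper40.Cores

set_option autoImplicit false
open Cfsg

namespace Cfsg.Agent.S4757

open Cfsg.Agent.Lib.helper82 Cfsg.Agent.Lib.helper83
open scoped ComplexConjugate

section aux

variable {G : Type*} [Group G]

/-- The irreducible character attached to a homomorphism into `ℂˣ`. -/
noncomputable def linIrr (f : G →* ℂˣ) : IrrCharacter G :=
  ⟨fun g => (f g : ℂ), isIrrCharacter_of_hom f⟩

theorem linIrr_apply (f : G →* ℂˣ) (g : G) : (linIrr f : G → ℂ) g = (f g : ℂ) := rfl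

theorem linIrr_ne_triv (f : G →* ℂˣ) {g : G} (hg : f g ≠ 1) :
    (linIrr f : G → ℂ) ≠ (fun _ => (1 : ℂ)) := by
  intro h
  have := congrFun h g
  rw [linIrr_apply] at this
  exact hg (Units.ext this)

/-- Under the hypothesis, a nontrivial homomorphism to `ℂˣ` takes the value `1 - c` at `u`. -/
theorem hom_val (u : G) (c : ℂ)
    (hyp : ∀ χ : Cfsg.IrrCharacter G, (χ : G → ℂ) ≠ (fun _ => (1 : ℂ)) →
      ((χ : G → ℂ) 1 - (χ : G → ℂ) u = c ∨ (χ : G → ℂ) u = 0))
    (f : G →* ℂˣ) {g : G} (hg : f g ≠ 1) : (f u : ℂ) = 1 - c := by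
  rcases hyp (linIrr f) (linIrr_ne_triv f hg) with h | h
  · rw [linIrr_apply, linIrr_apply, map_one, Units.val_one] at h
    rw [← h]; ring
  · rw [linIrr_apply] at h
    exact absurd h (Units.ne_zero _)

variable [Finite G]

/-- The column orthogonality relation between `u ≠ 1` and `1`. -/
theorem col_orth [Fintype (IrrCharacter G)] (u : G) (hu : u ≠ 1) :
    ∑ χ : IrrCharacter G, (χ : G → ℂ) u * (charDegree (χ : G → ℂ) : ℂ) = 0 := by
  classical
  have := Fintype.ofFinite G
  have hnc : ¬ IsConj u 1 := by
    intro h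
    exact hu (isConj_one_left.mp h)
  have h := second_orthogonality_of_not_isConj (G := G) hnc
  rw [← h]
  refine Finset.sum_congr rfl fun χ _ => ?_
  rw [irr_one_eq χ]
  simp

/-- If `c = 0` the hypothesis is contradictory. More generally: if every nontrivial irreducible
character contributes a nonnegative real number to the column orthogonality sum, we get a
contradiction. -/
theorem col_orth_contra [Fintype (IrrCharacter G)] (u : G) (hu : u ≠ 1)
    (h : ∀ χ : IrrCharacter G, (χ : G → ℂ) ≠ (fun _ => (1 : ℂ)) →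
      ∃ r : ℝ, 0 ≤ r ∧ (χ : G → ℂ) u * (charDegree (χ : G → ℂ) : ℂ) = (r : ℂ)) : False := by
  classical
  have hsum := col_orth u hu
  choose! r hr0 hr using h
  let t : IrrCharacter G → ℝ := fun χ => if (χ : G → ℂ) = (fun _ => (1 : ℂ)) then 1 else r χ
  have ht : ∀ χ : IrrCharacter G, (χ : G → ℂ) u * (charDegree (χ : G → ℂ) : ℂ) = (t χ : ℂ) := by
    intro χ
    by_cases hχ : (χ : G → ℂ) = (fun _ => (1 : ℂ))
    · simp only [t, if_pos hχ]
      have h1 : (χ : G → ℂ) 1 = 1 := by rw [hχ]
      rw [← irr_one_eq χ, h1, hχ]; simp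
    · simp only [t, if_neg hχ]
      exact hr χ hχ
  simp only [ht] at hsum
  have hsum' : ∑ χ : IrrCharacter G, t χ = 0 := by exact_mod_cast hsum
  have ht0 : ∀ χ ∈ (Finset.univ : Finset (IrrCharacter G)), 0 ≤ t χ := by
    intro χ _
    by_cases hχ : (χ : G → ℂ) = (fun _ => (1 : ℂ))
    · simp only [t, if_pos hχ]; exact zero_le_one
    · simp only [t, if_neg hχ]; exact hr0 χ hχ
  have := (Finset.sum_eq_zero_iff_of_nonneg ht0).mp hsum' (trivIrr G) (Finset.mem_univ _)
  have h1 : t (trivIrr G) = 1 := by
    simp only [t]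
    rw [if_pos]
    rfl
  rw [h1] at this
  exact one_ne_zero this

end aux

/-- Let u ≠ 1 be an element of the finite group G and c a complex number such that every non-principal irreducible character χ satisfies χ(1) − χ(u) = c or χ(u) = 0. Then the following are equivalent: (a) u has order 2, G is generated by u together with O(G), the largest normal subgroup of G of odd order, and the centralizer of u is {1, u}; (b) G is not perfect; (c) c = 2. -/
theorem result {G : Type*} [Group G] [Finite G] (u : G) (hu : u ≠ 1) (c : ℂ) (hyp : ∀ χ : Cfsg.IrrCharacter G, (χ : G → ℂ) ≠ (fun _ => (1 : ℂ)) → ((χ : G → ℂ) 1 - (χ : G → ℂ) u = c ∨ (χ : G → ℂ) u = 0)) : ((orderOf u = 2 ∧ Subgroup.zpowers u ⊔ Cfsg.oddCore G = ⊤ ∧ Subgroup.centralizer ({u} : Set G) = Subgroup.zpowers u) ↔ commutator G ≠ ⊤) ∧ (commutator G ≠ ⊤ ↔ c = 2) := by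
  classical
  have := Fintype.ofFinite G
  have : Fintype (IrrCharacter G) := Fintype.ofFinite _
  -- (b) → (c)
  have hbc : commutator G ≠ ⊤ → c = 2 := by
    intro hb
    obtain ⟨f, hf⟩ := exists_hom_ker_prime_index hb
    have hfnt : ∃ g, f g ≠ 1 := by
      by_contra hcon
      push Not at hcon
      have : f.ker = ⊤ := by
        rw [eq_top_iff]; intro g _; exact MonoidHom.mem_ker.mpr (hcon g)
      rw [this, Subgroup.index_top] at hf
      exact Nat.not_prime_one hf
    obtain ⟨g, hg⟩ := hfnt
    have h1 := hom_val u c hyp f hg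
    have hg' : f⁻¹ g ≠ 1 := by
      intro h
      apply hg
      have : (f g)⁻¹ = 1 := h
      exact inv_eq_one.mp this
    have h2 := hom_val u c hyp f⁻¹ hg'
    have h3 : ((f u)⁻¹ : ℂˣ) = f u := by
      apply Units.ext
      have : (f⁻¹ u : ℂˣ) = (f u)⁻¹ := rfl
      rw [← this, h2, h1]
    have h4 : (f u : ℂ) * (f u : ℂ) = 1 := by
      rw [← Units.val_mul]
      nth_rewrite 1 [← h3]
      simp
    have h5 : (f u : ℂ) = 1 ∨ (f u : ℂ) = -1 := by
      have : ((f u : ℂ) - 1) * ((f u : ℂ) + 1) = 0 := by ring_nf; rw [sq, h4]; ring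
      rcases mul_eq_zero.mp this with h | h
      · left; exact sub_eq_zero.mp h
      · right; exact eq_neg_of_add_eq_zero_left h
    rcases h5 with h5 | h5
    · exfalso
      have hc0 : c = 0 := by rw [h5] at h1; linear_combination h1
      apply col_orth_contra u hu
      intro χ hχ
      rcases hyp χ hχ with h | h
      · refine ⟨(charDegree (χ : G → ℂ) : ℝ) * (charDegree (χ : G → ℂ) : ℝ),
          mul_nonneg (Nat.cast_nonneg _) (Nat.cast_nonneg _), ?_⟩
        rw [hc0, irr_one_eq χ] at h
        have : (χ : G → ℂ) u = (charDegree (χ : G → ℂ) : ℂ) := by linear_combination -h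
        rw [this]; push_cast; ring
      · exact ⟨0, le_refl _, by rw [h]; simp⟩
    · rw [h5] at h1; linear_combination h1
  -- (c) → (b)
  have hcb : c = 2 → commutator G ≠ ⊤ := by
    intro hc hcomm
    apply col_orth_contra u hu
    intro χ hχ
    have hd1 : charDegree (χ : G → ℂ) ≠ 1 := by
      intro hd
      apply hχ
      have h1 : (χ : G → ℂ) 1 = 1 := by rw [irr_one_eq χ, hd]; simp
      funext x
      have := linear_commutator (isCharacter_of_irr χ.2) h1 x (by rw [hcomm]; trivial)
      rw [this, h1]
    have hd2 : 2 ≤ charDegree (χ : G → ℂ) := by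
      have := irr_charDegree_pos χ
      omega
    rcases hyp χ hχ with h | h
    · refine ⟨((charDegree (χ : G → ℂ) : ℝ) - 2) * (charDegree (χ : G → ℂ) : ℝ),
          mul_nonneg ?_ (Nat.cast_nonneg _), ?_⟩
      · have : (2 : ℝ) ≤ (charDegree (χ : G → ℂ) : ℝ) := by exact_mod_cast hd2
        linarith
      · rw [hc, irr_one_eq χ] at h
        have : (χ : G → ℂ) u = (charDegree (χ : G → ℂ) : ℂ) - 2 := by linear_combination -h
        rw [this]; push_cast; ring
    · exact ⟨0, le_refl _, by rw [h]; simp⟩
  refine ⟨⟨?_, ?_⟩, hbc, hcb⟩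
  · -- (a) → (b)
    rintro ⟨ho, hsup, -⟩ hcomm
    have hOn : (Cfsg.oddCore G).Normal := Cfsg.Agent.Lib.helper40.pPrimeCore_normal' 2 G
    have hOc : (Nat.card (Cfsg.oddCore G)).Coprime 2 :=
      Cfsg.Agent.Lib.helper40.pPrimeCore_card_coprime 2 G
    have hab : IsMulCommutative (Subgroup.zpowers u) := inferInstance
    have hle : commutator G ≤ Cfsg.oddCore G := by
      rw [sup_comm] at hsup
      exact Subgroup.Normal.commutator_le_of_self_sup_commutative_eq_top hsup hab
    rw [hcomm, top_le_iff] at hle
    have h2 : 2 ∣ Nat.card G := by rw [← ho]; exact orderOf_dvd_natCard u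
    have h3 : Nat.card (Cfsg.oddCore G) = Nat.card G := by rw [hle, Subgroup.card_top]
    rw [h3] at hOc
    exact Nat.not_coprime_of_dvd_of_dvd (by norm_num) h2 (dvd_refl 2) hOc
  · -- (b) → (a)
    intro hb
    have hc := hbc hb
    obtain ⟨f, hf⟩ := exists_hom_ker_prime_index hb
    have hfnt : ∃ g, f g ≠ 1 := by
      by_contra hcon
      push Not at hcon
      have : f.ker = ⊤ := by
        rw [eq_top_iff]; intro g _; exact MonoidHom.mem_ker.mpr (hcon g)
      rw [this, Subgroup.index_top] at hf
      exact Nat.not_prime_one hf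
    obtain ⟨g₀, hg₀⟩ := hfnt
    -- every nontrivial hom takes the value -1 at u
    have hval : ∀ (f' : G →* ℂˣ) (g : G), f' g ≠ 1 → f' u = -1 := by
      intro f' g hg
      apply Units.ext
      rw [hom_val u c hyp f' hg, hc]; norm_num
    have hfu : f u = -1 := hval f g₀ hg₀
    -- uniqueness of the nontrivial hom
    have huniq : ∀ f' : G →* ℂˣ, (∃ g, f' g ≠ 1) → f' = f := by
      rintro f' ⟨g, hg⟩
      by_contra hne
      have hne' : ∃ x, (f' * f⁻¹) x ≠ 1 := by
        by_contra hcon
        push Not at hcon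
        apply hne
        ext x
        have := hcon x
        have h1 : f' x * (f x)⁻¹ = 1 := this
        rw [mul_inv_eq_one] at h1
        rw [h1]
      obtain ⟨x, hx⟩ := hne'
      have h1 := hval (f' * f⁻¹) x hx
      have h2 : (f' * f⁻¹) u = f' u * (f u)⁻¹ := rfl
      rw [h2, hval f' g hg, hfu] at h1
      norm_num at h1
    have hff : ∀ x : G, f x = 1 ∨ f x = -1 := by
      intro x
      by_cases hx : f x = 1
      · exact Or.inl hx
      · right
        by_contra hx'
        have hne : ∃ y, (f * f) y ≠ 1 := by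
          refine ⟨x, fun h => ?_⟩
          have h1 : f x * f x = 1 := h
          have h2 : ((f x : ℂ) - 1) * ((f x : ℂ) + 1) = 0 := by
            have : (f x : ℂ) * (f x : ℂ) = 1 := by rw [← Units.val_mul, h1]; rfl
            ring_nf; rw [sq, this]; ring
          rcases mul_eq_zero.mp h2 with h | h
          · exact hx (Units.ext (sub_eq_zero.mp h))
          · exact hx' (Units.ext (by simpa using eq_neg_of_add_eq_zero_left h))
        obtain ⟨y, hy⟩ := hne
        have h1 := hval (f * f) y hy
        have h2 : (f * f) u = f u * f u := rfl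
        rw [h2, hfu] at h1
        norm_num at h1
    -- every irreducible character other than the trivial one and `linIrr f` vanishes at u
    have hlin : ∀ χ : IrrCharacter G, (χ : G → ℂ) ≠ (fun _ => (1 : ℂ)) → χ ≠ linIrr f →
        2 ≤ charDegree (χ : G → ℂ) := by
      intro χ hχ hχf
      have hd1 : charDegree (χ : G → ℂ) ≠ 1 := by
        intro hd
        have h1 : (χ : G → ℂ) 1 = 1 := by rw [irr_one_eq χ, hd]; simp
        obtain ⟨f', hf'⟩ := exists_hom_of_linear (isCharacter_of_irr χ.2) h1
        have hnt : ∃ g, f' g ≠ 1 := by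
          by_contra hcon
          push Not at hcon
          apply hχ
          funext x
          rw [hf' x, hcon x]; rfl
        have := huniq f' hnt
        apply hχf
        apply Subtype.ext
        funext x
        rw [hf' x, this]; rfl
      have := irr_charDegree_pos χ
      omega
    have hvan : ∀ χ : IrrCharacter G, (χ : G → ℂ) ≠ (fun _ => (1 : ℂ)) → χ ≠ linIrr f →
        (χ : G → ℂ) u = 0 := by
      have hsum := col_orth u hu
      have hftriv : linIrr f ≠ trivIrr G := by
        intro h
        have := congrArg (fun χ : IrrCharacter G => (χ : G → ℂ) g₀) h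
        simp only [linIrr_apply, trivIrr_apply] at this
        exact hg₀ (Units.ext this)
      rw [← Finset.add_sum_erase Finset.univ _ (Finset.mem_univ (trivIrr G)),
        ← Finset.add_sum_erase _ _ (Finset.mem_erase.mpr ⟨hftriv, Finset.mem_univ _⟩)] at hsum
      have h1 : (trivIrr G : G → ℂ) u * (charDegree (trivIrr G : G → ℂ) : ℂ) = 1 := by
        rw [← irr_one_eq]; simp
      have h2 : (linIrr f : G → ℂ) u * (charDegree (linIrr f : G → ℂ) : ℂ) = -1 := by
        rw [← irr_one_eq, linIrr_apply, linIrr_apply, hfu, map_one]; simp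
      rw [h1, h2] at hsum
      have hsum0 : ∑ χ ∈ (Finset.univ.erase (trivIrr G)).erase (linIrr f),
          (χ : G → ℂ) u * (charDegree (χ : G → ℂ) : ℂ) = 0 := by
        linear_combination hsum
      -- each term is a nonnegative real
      have hterm : ∀ χ ∈ (Finset.univ.erase (trivIrr G)).erase (linIrr f),
          ∃ r : ℝ, 0 ≤ r ∧ (χ : G → ℂ) u * (charDegree (χ : G → ℂ) : ℂ) = (r : ℂ) := by
        intro χ hχ
        have hχf : χ ≠ linIrr f := (Finset.mem_erase.mp hχ).1
        have hχt : χ ≠ trivIrr G := (Finset.mem_erase.mp (Finset.mem_erase.mp hχ).2).1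
        have hχ1 : (χ : G → ℂ) ≠ (fun _ => (1 : ℂ)) := fun h => hχt (Subtype.ext h)
        have hd2 := hlin χ hχ1 hχf
        rcases hyp χ hχ1 with h | h
        · refine ⟨((charDegree (χ : G → ℂ) : ℝ) - 2) * (charDegree (χ : G → ℂ) : ℝ),
            mul_nonneg ?_ (Nat.cast_nonneg _), ?_⟩
          · have : (2 : ℝ) ≤ (charDegree (χ : G → ℂ) : ℝ) := by exact_mod_cast hd2
            linarith
          · rw [hc, irr_one_eq χ] at h
            have : (χ : G → ℂ) u = (charDegree (χ : G → ℂ) : ℂ) - 2 := by linear_combination -h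
            rw [this]; push_cast; ring
        · exact ⟨0, le_refl _, by rw [h]; simp⟩
      choose! r hr0 hr using hterm
      rw [Finset.sum_congr rfl hr] at hsum0
      have hsum' : ∑ χ ∈ (Finset.univ.erase (trivIrr G)).erase (linIrr f), r χ = 0 := by
        exact_mod_cast hsum0
      have hz := (Finset.sum_eq_zero_iff_of_nonneg hr0).mp hsum'
      intro χ hχ1 hχf
      have hχmem : χ ∈ (Finset.univ.erase (trivIrr G)).erase (linIrr f) := by
        refine Finset.mem_erase.mpr ⟨hχf, Finset.mem_erase.mpr ⟨?_, Finset.mem_univ _⟩⟩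
        intro h
        apply hχ1
        rw [h]; rfl
      have h3 := hr χ hχmem
      rw [hz χ hχmem] at h3
      have hd : (charDegree (χ : G → ℂ) : ℂ) ≠ 0 := by
        exact_mod_cast (irr_charDegree_pos χ).ne'
      simpa [hd] using h3
    -- the centralizer of u has order 2
    have hcent : Nat.card (Subgroup.centralizer ({u} : Set G)) = 2 := by
      have hso := second_orthogonality_of_isConj (G := G) (IsConj.refl u)
      have hftriv : linIrr f ≠ trivIrr G := by
        intro h
        have := congrArg (fun χ : IrrCharacter G => (χ : G → ℂ) g₀) h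
        simp only [linIrr_apply, trivIrr_apply] at this
        exact hg₀ (Units.ext this)
      rw [← Finset.add_sum_erase Finset.univ _ (Finset.mem_univ (trivIrr G)),
        ← Finset.add_sum_erase _ _ (Finset.mem_erase.mpr ⟨hftriv, Finset.mem_univ _⟩)] at hso
      have h0 : ∑ χ ∈ (Finset.univ.erase (trivIrr G)).erase (linIrr f),
          (χ : G → ℂ) u * conj ((χ : G → ℂ) u) = 0 := by
        apply Finset.sum_eq_zero
        intro χ hχ
        have hχf : χ ≠ linIrr f := (Finset.mem_erase.mp hχ).1
        have hχt : χ ≠ trivIrr G := (Finset.mem_erase.mp (Finset.mem_erase.mp hχ).2).1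
        have hχ1 : (χ : G → ℂ) ≠ (fun _ => (1 : ℂ)) := fun h => hχt (Subtype.ext h)
        rw [hvan χ hχ1 hχf, zero_mul]
      rw [h0, linIrr_apply, hfu] at hso
      simp only [trivIrr_apply, map_one, mul_one, Units.val_neg, Units.val_one, map_neg,
        add_zero] at hso
      have : ((2 : ℕ) : ℂ) = (Nat.card (Subgroup.centralizer ({u} : Set G)) : ℂ) := by
        rw [← hso]; norm_num
      exact_mod_cast this.symm
    have hzle : Subgroup.zpowers u ≤ Subgroup.centralizer ({u} : Set G) := by
      rw [Subgroup.zpowers_le]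
      exact Subgroup.mem_centralizer_iff.mpr (fun h hh => by rw [Set.mem_singleton_iff.mp hh])
    have hord : orderOf u = 2 := by
      have h1 : orderOf u ≤ 2 := by
        rw [← Nat.card_zpowers, ← hcent]
        exact Subgroup.card_le_of_le hzle
      have h2 : orderOf u ≠ 1 := fun h => hu (orderOf_eq_one_iff.mp h)
      have h3 : 0 < orderOf u := orderOf_pos u
      omega
    have hceq : Subgroup.centralizer ({u} : Set G) = Subgroup.zpowers u := by
      symm
      apply Subgroup.eq_of_le_of_card_ge hzle
      rw [hcent, Nat.card_zpowers, hord]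
    refine ⟨hord, ?_, hceq⟩
    -- the kernel of f has odd order
    have hidx : f.ker.index = 2 := by
      rw [Subgroup.index_eq_two_iff]
      refine ⟨u, fun b => ?_⟩
      rcases hff b with hb1 | hb1
      · refine Or.inr ⟨MonoidHom.mem_ker.mpr hb1, ?_⟩
        rw [MonoidHom.mem_ker, map_mul, hb1, hfu]; norm_num
      · refine Or.inl ⟨?_, ?_⟩
        · rw [MonoidHom.mem_ker, map_mul, hb1, hfu]; norm_num
        · rw [MonoidHom.mem_ker, hb1]; norm_num
    have hcardG : Nat.card G = 2 * Nat.card f.ker := by
      rw [← hidx, mul_comm]; exact (Subgroup.card_mul_index f.ker).symm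
    have : Fact (Nat.Prime 2) := ⟨Nat.prime_two⟩
    have hzp : IsPGroup 2 (Subgroup.zpowers u) := by
      apply IsPGroup.of_card (n := 1)
      rw [Nat.card_zpowers, hord]; norm_num
    obtain ⟨S, hS⟩ := hzp.exists_le_sylow
    have huS : u ∈ (S : Subgroup G) := hS (Subgroup.mem_zpowers u)
    have hSnt : Nontrivial (S : Subgroup G) := ⟨⟨⟨u, huS⟩, 1, fun h => hu (congrArg Subtype.val h)⟩⟩
    have hScent : (S : Subgroup G) ≤ Subgroup.centralizer ({u} : Set G) := by
      have hcn := IsPGroup.center_nontrivial (p := 2) (G := (S : Subgroup G)) S.isPGroup'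
      obtain ⟨z, hz1⟩ := exists_ne (1 : Subgroup.center (S : Subgroup G))
      have hzu : ((z : (S : Subgroup G)) : G) * u = u * ((z : (S : Subgroup G)) : G) := by
        have h1 := Subgroup.mem_center_iff.mp z.2 ⟨u, huS⟩
        have h2 := congrArg Subtype.val h1
        simpa using h2.symm
      have hzmem : ((z : (S : Subgroup G)) : G) ∈ Subgroup.zpowers u := by
        rw [← hceq]
        exact Subgroup.mem_centralizer_iff.mpr
          (fun h hh => by rw [Set.mem_singleton_iff.mp hh]; exact hzu.symm)
      have hz_eq : ((z : (S : Subgroup G)) : G) = u := by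
        obtain ⟨k, hk⟩ := Subgroup.mem_zpowers_iff.mp hzmem
        rw [← zpow_mod_orderOf, hord] at hk
        simp only [Nat.cast_ofNat] at hk
        rcases Int.emod_two_eq_zero_or_one k with h | h
        · exfalso
          apply hz1
          apply Subtype.ext
          apply Subtype.ext
          rw [← hk, h]; simp
        · rw [← hk, h]; simp
      intro s hs
      rw [Subgroup.mem_centralizer_iff]
      intro h hh
      rw [Set.mem_singleton_iff.mp hh]
      have h1 := Subgroup.mem_center_iff.mp z.2 ⟨s, hs⟩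
      have h2 := congrArg Subtype.val h1
      simp only [Subgroup.coe_mul] at h2
      rw [hz_eq] at h2
      exact h2.symm
    have hScard : Nat.card (S : Subgroup G) ≤ 2 :=
      (Subgroup.card_le_of_le hScent).trans hcent.le
    have hodd : (Nat.card f.ker).Coprime 2 := by
      rw [Nat.coprime_comm, Nat.Prime.coprime_iff_not_dvd Nat.prime_two]
      intro h2
      have h4 : 2 ^ 2 ∣ Nat.card G := by
        rw [hcardG]; exact Nat.mul_dvd_mul_left 2 h2
      have hfac : 2 ≤ (Nat.card G).factorization 2 :=
        (Nat.Prime.pow_dvd_iff_le_factorization Nat.prime_two (Nat.card_pos.ne')).mp h4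
      have hSc := S.card_eq_multiplicity
      have : 2 ^ 2 ≤ Nat.card (S : Subgroup G) := by
        rw [hSc]; exact Nat.pow_le_pow_right (by norm_num) hfac
      omega
    have hKle : f.ker ≤ Cfsg.oddCore G :=
      Cfsg.Agent.Lib.helper40.le_pPrimeCore f.ker inferInstance hodd
    rw [eq_top_iff]
    intro g _
    rcases hff g with hg1 | hg1
    · exact Subgroup.mem_sup_right (hKle (MonoidHom.mem_ker.mpr hg1))
    · have : g = u * (u⁻¹ * g) := by group
      rw [this]
      refine Subgroup.mul_mem_sup (Subgroup.mem_zpowers u) (hKle ?_)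
      rw [MonoidHom.mem_ker, map_mul, map_inv, hfu, hg1]; norm_num

end Cfsg.Agent.S4757
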