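import Mathlib
import Cfsg.Statements.S4762
import Cfsg.Agent.Lib.helper83.CharBasic2
import Cfsg.Agent.Lib.helper82.CharQuot
import Cfsg.Agent.Lib.helper82.Ito
import Cfsg.Agent.Lib.helper84.LinTwist
import Cfsg.Agent.Lib.helper19.Extraspecial
import Cfsg.Agent.Lib.helper12.HallTools
import Cfsg.Agent.Lib.helper3.PGroupFrattini
import Cfsg.Agent.Lib.helper3.PGroupNormal

set_option autoImplicit false
set_option linter.unusedSectionVars false
open Cfsg

namespace Cfsg.Agent.S4762

open Cfsg.Agent.Lib.helper83 Cfsg.Agent.Lib.helper82 Cfsg.Agent.Lib.helper84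
open scoped ComplexConjugate commutatorElement

variable {G : Type*} [Group G] [Finite G]

/-- In a `p`-group, the degree of an irreducible character is divisible by `p` iff it is not `1`. -/
theorem dvd_deg_iff (p : ℕ) [Fact p.Prime] (hG : IsPGroup p G) (χ : IrrCharacter G) :
    p ∣ charDegree (χ : G → ℂ) ↔ ¬ charDegree (χ : G → ℂ) = 1 := by
  have hp : p.Prime := Fact.out
  obtain ⟨n, hn⟩ := IsPGroup.iff_card.mp hG
  have hd := irr_degree_dvd_card χ
  rw [hn] at hd
  obtain ⟨m, -, hm⟩ := (Nat.dvd_prime_pow hp).mp hd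
  rw [hm]
  constructor
  · intro h h1
    rw [h1] at h
    exact hp.one_lt.ne' (Nat.dvd_one.mp h)
  · intro h
    rcases Nat.eq_zero_or_pos m with h0 | h0
    · exact absurd (by rw [h0, pow_zero]) h
    · exact dvd_pow_self p h0.ne'

theorem card_linear :
    Nat.card {χ : IrrCharacter G // charDegree (χ : G → ℂ) = 1} = (commutator G).index := by
  rw [← card_linear_irr]
  apply Nat.card_congr
  apply Equiv.subtypeEquivRight
  intro χ
  rw [irr_one_eq_charDegree]
  exact Nat.cast_eq_one.symm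

theorem sum_split [Fintype (IrrCharacter G)] :
    (commutator G).index + ∑ χ ∈ Finset.univ.filter
      (fun χ : IrrCharacter G => ¬ charDegree (χ : G → ℂ) = 1), (charDegree (χ : G → ℂ)) ^ 2
      = Nat.card G := by
  have h := sum_charDegree_sq (G := G)
  rw [finsum_eq_sum_of_fintype] at h
  rw [← Finset.sum_filter_add_sum_filter_not Finset.univ
    (fun χ : IrrCharacter G => charDegree (χ : G → ℂ) = 1)] at h
  rw [← h, ← card_linear, Nat.card_eq_fintype_card, Fintype.card_subtype]
  congr 1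
  rw [Finset.card_eq_sum_ones]
  apply Finset.sum_congr rfl
  intro χ hχ
  rw [(Finset.mem_filter.mp hχ).2, one_pow]

/-- A non-linear irreducible character of an extraspecial `p`-group `P` has `p χ(1)² = |P|`
(adapted from `helper19.extraspecial_degree`). -/
theorem extraspecial_sq {P : Type*} [Group P] [Finite P] (p : ℕ) [Fact p.Prime]
    (hP : Cfsg.IsExtraspecial p P) (χ : Cfsg.IrrCharacter P) (hχ1 : (χ : P → ℂ) 1 ≠ 1) :
    p * (charDegree (χ : P → ℂ) * charDegree (χ : P → ℂ)) = Nat.card P := by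
  classical
  have : Fintype P := Fintype.ofFinite P
  have hp : p.Prime := Fact.out
  obtain ⟨⟨hpg, hfr, hcomm⟩, hZ⟩ := hP
  have h10 : (χ : P → ℂ) 1 ≠ 0 := irr_one_ne_zero χ
  let Kz : Subgroup P :=
    { carrier := {z | z ∈ Subgroup.center P ∧ ∀ g : P, (χ : P → ℂ) (g * z) = (χ : P → ℂ) g}
      one_mem' := ⟨Subgroup.one_mem _, fun g => by rw [mul_one]⟩
      mul_mem' := by
        rintro a b ⟨ha, ha'⟩ ⟨hb, hb'⟩
        exact ⟨Subgroup.mul_mem _ ha hb, fun g => by rw [← mul_assoc, hb', ha']⟩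
      inv_mem' := by
        rintro a ⟨ha, ha'⟩
        refine ⟨Subgroup.inv_mem _ ha, fun g => ?_⟩
        have := ha' (g * a⁻¹)
        rw [inv_mul_cancel_right] at this
        exact this.symm }
  have hKz_le : Kz ≤ Subgroup.center P := fun z hz => hz.1
  have hKz_bot : Kz = ⊥ := by
    have hdvd : Nat.card Kz ∣ p := by
      rw [← hZ]; exact Subgroup.card_dvd_of_le hKz_le
    rcases (Nat.dvd_prime hp).mp hdvd with h1 | h1
    · exact Subgroup.card_eq_one.mp h1
    · exfalso
      have hKz_eq : Kz = Subgroup.center P :=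
        Subgroup.eq_of_le_of_card_ge hKz_le (by rw [h1, hZ])
      apply hχ1
      rw [irr_linear_iff χ.2]
      intro x hx
      rw [hcomm, ← hKz_eq] at hx
      have := hx.2 1
      rw [one_mul] at this
      exact this
  have hscal : ∀ z ∈ Subgroup.center P, z ≠ 1 →
      ∃ c : ℂ, c ≠ 1 ∧ ∀ g : P, (χ : P → ℂ) (g * z) = c * (χ : P → ℂ) g := by
    intro z hz hz1
    obtain ⟨c, hc⟩ := Cfsg.Agent.Lib.helper19.irr_mul_center χ z hz
    refine ⟨c, ?_, hc⟩
    intro hc1
    apply hz1
    have : z ∈ Kz := ⟨hz, fun g => by rw [hc g, hc1, one_mul]⟩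
    rw [hKz_bot] at this
    exact Subgroup.mem_bot.mp this
  have hvan : ∀ x : P, x ∉ Subgroup.center P → (χ : P → ℂ) x = 0 := by
    intro x hx
    rw [Subgroup.mem_center_iff] at hx
    push Not at hx
    obtain ⟨y, hy⟩ := hx
    set z := x⁻¹ * y⁻¹ * x * y with hzdef
    have hzc : z ∈ Subgroup.center P := by
      rw [← hcomm]
      have := Subgroup.commutator_mem_commutator (Subgroup.mem_top x⁻¹) (Subgroup.mem_top y⁻¹)
      rw [commutatorElement_def] at this
      simpa [hzdef, commutator] using this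
    have hz1 : z ≠ 1 := by
      intro h
      apply hy
      have : y * x = x * y := by
        have h2 : x * y = y * x * z := by rw [hzdef]; group
        rw [h2, h, mul_one]
      exact this
    obtain ⟨c, hc1, hc⟩ := hscal z hzc hz1
    have h1 := hc x
    have h2 : x * z = y⁻¹ * x * y⁻¹⁻¹ := by rw [hzdef]; group
    rw [h2, irr_conj] at h1
    have h3 : (1 - c) * (χ : P → ℂ) x = 0 := by rw [sub_mul, one_mul, ← h1, sub_self]
    rcases mul_eq_zero.mp h3 with h4 | h4
    · exact absurd (sub_eq_zero.mp h4).symm hc1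
    · exact h4
  have hcen : ∀ z ∈ Subgroup.center P,
      (χ : P → ℂ) z * (χ : P → ℂ) z⁻¹ = (χ : P → ℂ) 1 * (χ : P → ℂ) 1 := by
    intro z hz
    obtain ⟨c, hc⟩ := Cfsg.Agent.Lib.helper19.irr_mul_center χ z hz
    obtain ⟨c', hc'⟩ := Cfsg.Agent.Lib.helper19.irr_mul_center χ z⁻¹ (Subgroup.inv_mem _ hz)
    have h1 := hc 1
    rw [one_mul] at h1
    have h2 := hc' 1
    rw [one_mul] at h2
    have h3 := hc' z
    rw [mul_inv_cancel, h1] at h3
    have h4 : c' * c = 1 := by
      have : (c' * c) * (χ : P → ℂ) 1 = 1 * (χ : P → ℂ) 1 := by rw [one_mul, mul_assoc, ← h3]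
      exact mul_right_cancel₀ h10 this
    rw [h1, h2]
    calc c * (χ : P → ℂ) 1 * (c' * (χ : P → ℂ) 1) = (c' * c) * ((χ : P → ℂ) 1 * (χ : P → ℂ) 1) := by
          ring
      _ = (χ : P → ℂ) 1 * (χ : P → ℂ) 1 := by rw [h4, one_mul]
  have horth := irr_orthogonality χ χ
  rw [if_pos rfl] at horth
  have hsum : ∑ g : P, (χ : P → ℂ) g * (χ : P → ℂ) g⁻¹
      = (p : ℂ) * ((χ : P → ℂ) 1 * (χ : P → ℂ) 1) := by
    have hterm : ∀ g : P, (χ : P → ℂ) g * (χ : P → ℂ) g⁻¹
        = if g ∈ Subgroup.center P then (χ : P → ℂ) 1 * (χ : P → ℂ) 1 else 0 := by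
      intro g
      by_cases hg : g ∈ Subgroup.center P
      · rw [if_pos hg, hcen g hg]
      · rw [if_neg hg, hvan g hg, zero_mul]
    rw [Finset.sum_congr rfl (fun g _ => hterm g), Finset.sum_ite, Finset.sum_const_zero, add_zero,
      Finset.sum_const, nsmul_eq_mul]
    congr 2
    rw [← hZ, Nat.card_eq_fintype_card, Fintype.card_subtype]
  rw [hsum] at horth
  have hcP : (Nat.card P : ℂ) ≠ 0 := by exact_mod_cast Nat.card_pos.ne'
  have h5 : (p : ℂ) * ((χ : P → ℂ) 1 * (χ : P → ℂ) 1) = (Nat.card P : ℂ) := by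
    field_simp at horth
    rw [← horth]; ring
  rw [irr_one_eq_charDegree] at h5
  exact_mod_cast h5

/-- A nonabelian `p`-group has an irreducible character of degree divisible by `p`. -/
theorem exists_dvd_deg_of_nonabelian {Q : Type*} [Group Q] [Finite Q] (p : ℕ) [Fact p.Prime]
    (hQ : IsPGroup p Q) (hnab : ¬ ∀ a b : Q, a * b = b * a) :
    ∃ ψ : IrrCharacter Q, p ∣ charDegree (ψ : Q → ℂ) := by
  by_contra hcon
  push Not at hcon
  have : Fintype (IrrCharacter Q) := Fintype.ofFinite _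
  have hsplit := sum_split (G := Q)
  have hempty : Finset.univ.filter
      (fun χ : IrrCharacter Q => ¬ charDegree (χ : Q → ℂ) = 1) = ∅ := by
    apply Finset.filter_eq_empty_iff.mpr
    intro χ _ hχ
    exact hcon χ ((dvd_deg_iff p hQ χ).mpr hχ)
  rw [hempty, Finset.sum_empty, add_zero] at hsplit
  have h1 : Nat.card (commutator Q) = 1 := by
    have h2 := Subgroup.index_mul_card (commutator Q)
    rw [hsplit] at h2
    have hpos : 0 < Nat.card Q := Nat.card_pos
    exact Nat.eq_of_mul_eq_mul_left hpos (by rw [h2, mul_one])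
  have hbot : commutator Q = ⊥ := Subgroup.card_eq_one.mp h1
  apply hnab
  intro a b
  have h3 : ⁅a, b⁆ ∈ commutator Q := by
    rw [commutator_def]
    exact Subgroup.commutator_mem_commutator (Subgroup.mem_top a) (Subgroup.mem_top b)
  rw [hbot, Subgroup.mem_bot] at h3
  exact commutatorElement_eq_one_iff_mul_comm.mp h3

/-- If `χ₀` is the only irreducible character of degree divisible by `p`, it is fixed by
multiplication with every linear character. -/
theorem twist_invariant (p : ℕ) (χ₀ : IrrCharacter G)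
    (huniq : ∀ χ : IrrCharacter G, p ∣ charDegree (χ : G → ℂ) → χ = χ₀)
    (hχ₀ : p ∣ charDegree (χ₀ : G → ℂ)) (lam : G →* ℂˣ) (g : G) :
    ((lam g : ℂˣ) : ℂ) * (χ₀ : G → ℂ) g = (χ₀ : G → ℂ) g := by
  have hdeg : charDegree ((lam • χ₀ : IrrCharacter G) : G → ℂ) = charDegree (χ₀ : G → ℂ) := by
    unfold charDegree
    rw [linChar_smul_apply, map_one, Units.val_one, one_mul]
  have h1 : lam • χ₀ = χ₀ := huniq _ (by rw [hdeg]; exact hχ₀)
  have h2 := linChar_smul_apply lam χ₀ g
  rw [h1] at h2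
  exact h2.symm

/-- Step 1: the group is a `p`-group. -/
theorem isPGroup_of_unique [Group.IsNilpotent G] (p : ℕ) [Fact p.Prime] (χ₀ : IrrCharacter G)
    (hχ₀ : p ∣ charDegree (χ₀ : G → ℂ))
    (huniq : ∀ χ : IrrCharacter G, p ∣ charDegree (χ : G → ℂ) → χ = χ₀) : IsPGroup p G := by
  have hp : p.Prime := Fact.out
  obtain ⟨P⟩ : Nonempty (Sylow p G) := inferInstance
  have hPcop : (Nat.card (P : Subgroup G)).Coprime (P : Subgroup G).index := P.card_coprime_index
  have hPn : (P : Subgroup G).Normal :=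
    Cfsg.Agent.Lib.helper12.normal_of_coprime_of_isNilpotent _ hPcop
  by_contra hnot
  have hPtop : (P : Subgroup G) ≠ ⊤ := by
    intro htop
    apply hnot
    intro g
    have hg : g ∈ (P : Subgroup G) := by rw [htop]; exact Subgroup.mem_top g
    obtain ⟨k, hk⟩ := P.isPGroup' ⟨g, hg⟩
    exact ⟨k, by simpa using congrArg (fun x : (P : Subgroup G) => (x : G)) hk⟩
  have hpidx : ¬ p ∣ (P : Subgroup G).index := P.not_dvd_index
  -- (a) P is nonabelian
  have hPnab : ¬ ∀ a ∈ (P : Subgroup G), ∀ b ∈ (P : Subgroup G), a * b = b * a := by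
    intro hab
    obtain ⟨d, hd1, hd2⟩ := ito_char (P : Subgroup G) hab χ₀.2
    rw [irr_one_eq_charDegree] at hd1
    have hd3 : charDegree (χ₀ : G → ℂ) = d := by exact_mod_cast hd1
    rw [← hd3] at hd2
    exact hpidx (hχ₀.trans hd2)
  -- (b) the normal complement
  obtain ⟨H, hH⟩ := Subgroup.exists_right_complement'_of_coprime hPcop
  have hHidx : H.index = Nat.card (P : Subgroup G) := hH.index_eq_card
  have hHcard : Nat.card H = (P : Subgroup G).index := (hH.symm.index_eq_card).symm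
  have hHn : H.Normal := by
    apply Cfsg.Agent.Lib.helper12.normal_of_coprime_of_isNilpotent
    rw [hHidx, hHcard]
    exact hPcop.symm
  have hQp : IsPGroup p (G ⧸ H) := by
    obtain ⟨n, hn⟩ := IsPGroup.iff_card.mp P.isPGroup'
    apply IsPGroup.of_card (n := n)
    rw [← Subgroup.index_eq_card, hHidx, hn]
  have hQnab : ¬ ∀ a b : G ⧸ H, a * b = b * a := by
    intro hab
    apply hPnab
    intro a ha b hb
    have h1 : QuotientGroup.mk' H (a * b * a⁻¹ * b⁻¹) = 1 := by
      rw [map_mul, map_mul, map_mul, map_inv, map_inv,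
        hab (QuotientGroup.mk' H a) (QuotientGroup.mk' H b)]
      group
    have h1' : a * b * a⁻¹ * b⁻¹ ∈ H := (QuotientGroup.eq_one_iff _).mp h1
    have h2 : a * b * a⁻¹ * b⁻¹ ∈ (P : Subgroup G) :=
      mul_mem (mul_mem (mul_mem ha hb) (inv_mem ha)) (inv_mem hb)
    have h3 : a * b * a⁻¹ * b⁻¹ = 1 := Subgroup.disjoint_def.mp hH.disjoint h2 h1'
    calc a * b = (a * b * a⁻¹ * b⁻¹) * (b * a) := by group
      _ = b * a := by rw [h3, one_mul]
  obtain ⟨ψ, hψ⟩ := exists_dvd_deg_of_nonabelian p hQp hQnab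
  obtain ⟨χ₁, hχ₁def⟩ : ∃ χ₁ : IrrCharacter G,
      ∀ g : G, (χ₁ : G → ℂ) g = (ψ : G ⧸ H → ℂ) (g : G ⧸ H) :=
    ⟨⟨_, isIrrCharacter_inflation H ψ.2⟩, fun g => rfl⟩
  have hd1 : charDegree (χ₁ : G → ℂ) = charDegree (ψ : G ⧸ H → ℂ) := by
    unfold charDegree
    rw [hχ₁def]
    rfl
  have hχ₁ : χ₁ = χ₀ := huniq χ₁ (by rw [hd1]; exact hψ)
  have hker : ∀ x ∈ H, (χ₀ : G → ℂ) x = (χ₀ : G → ℂ) 1 := by
    intro x hx
    rw [← hχ₁, hχ₁def, hχ₁def, (QuotientGroup.eq_one_iff x).mpr hx]
    rfl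
  -- (c) a linear character nontrivial on H
  have hnt : Nontrivial (G ⧸ (P : Subgroup G)) := by
    rw [← Finite.one_lt_card_iff_nontrivial, ← Subgroup.index_eq_card]
    have h0 : (P : Subgroup G).index ≠ 0 := Subgroup.index_ne_zero_of_finite
    have h1 : (P : Subgroup G).index ≠ 1 := fun h => hPtop (Subgroup.index_eq_one.mp h)
    omega
  have hcomm : commutator (G ⧸ (P : Subgroup G)) ≠ ⊤ :=
    (Group.IsSolvable.commutator_lt_top_of_nontrivial (G ⧸ (P : Subgroup G))).ne
  obtain ⟨f, hf⟩ := exists_hom_ker_prime_index hcomm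
  have hfker : f.ker ≠ ⊤ := by
    intro h
    rw [h, Subgroup.index_top] at hf
    exact Nat.not_prime_one hf
  obtain ⟨y, hy⟩ : ∃ y : G ⧸ (P : Subgroup G), f y ≠ 1 := by
    by_contra hcon
    push Not at hcon
    apply hfker
    rw [eq_top_iff]
    intro y _
    exact MonoidHom.mem_ker.mpr (hcon y)
  obtain ⟨g, rfl⟩ := QuotientGroup.mk_surjective y
  obtain ⟨⟨a, b⟩, hab⟩ := hH.2 g
  have hab' : (a : G) * (b : G) = g := hab
  obtain ⟨lam, hlam⟩ : ∃ lam : G →* ℂˣ, ∀ x : G, lam x = f (x : G ⧸ (P : Subgroup G)) :=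
    ⟨f.comp (QuotientGroup.mk' (P : Subgroup G)), fun x => rfl⟩
  have hlamb : lam (b : G) ≠ 1 := by
    intro h
    apply hy
    have ha1 : lam (a : G) = 1 := by
      rw [hlam, (QuotientGroup.eq_one_iff (a : G)).mpr a.2, map_one]
    rw [← hlam, ← hab', map_mul, ha1, one_mul, h]
  have hT := twist_invariant p χ₀ huniq hχ₀ lam (b : G)
  rw [hker _ b.2] at hT
  have h10 := irr_one_ne_zero χ₀
  have h11 : ((lam (b : G) : ℂˣ) : ℂ) = 1 := by
    have : ((lam (b : G) : ℂˣ) : ℂ) * (χ₀ : G → ℂ) 1 = 1 * (χ₀ : G → ℂ) 1 := by rw [hT, one_mul]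
    exact mul_right_cancel₀ h10 this
  exact hlamb (Units.val_eq_one.mp h11)

theorem arith (p I C N d : ℕ) (hp : p.Prime) (hIC : I * C = N) (hsum : I + d ^ 2 = N)
    (hN : ∃ n, N = p ^ n) (hdN : d ∣ N) (hpd : p ∣ d) : p = 2 ∧ C = 2 := by
  obtain ⟨n, rfl⟩ := hN
  have hCdvd : C ∣ p ^ n := Dvd.intro_left I hIC
  obtain ⟨c, -, rfl⟩ := (Nat.dvd_prime_pow hp).mp hCdvd
  obtain ⟨k, -, rfl⟩ := (Nat.dvd_prime_pow hp).mp hdN
  have hDpos : 0 < (p ^ k) ^ 2 := pow_pos (pow_pos hp.pos k) 2
  have hc : c ≠ 0 := by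
    rintro rfl
    rw [pow_zero, mul_one] at hIC
    rw [hIC] at hsum
    exact absurd (Nat.add_eq_left.mp hsum) hDpos.ne'
  obtain ⟨X, hX⟩ : ∃ X, p ^ c = X + 1 :=
    ⟨p ^ c - 1, (Nat.sub_add_cancel (Nat.one_le_pow _ _ hp.pos)).symm⟩
  have h1 : I * X = (p ^ k) ^ 2 := by
    have h2 : I * X + I = I + (p ^ k) ^ 2 := by
      rw [hsum, ← hIC, hX]; ring
    rw [add_comm] at h2
    exact Nat.add_left_cancel h2
  have h3 : X ∣ p ^ (k * 2) := by
    rw [pow_mul]
    exact Dvd.intro_left I h1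
  obtain ⟨j, -, hj⟩ := (Nat.dvd_prime_pow hp).mp h3
  have hj0 : j = 0 := by
    by_contra hj0
    have h4 : p ∣ X := by rw [hj]; exact dvd_pow_self p hj0
    have h5 : p ∣ X + 1 := by rw [← hX]; exact dvd_pow_self p hc
    have h6 : p ∣ 1 := (Nat.dvd_add_right h4).mp h5
    exact hp.one_lt.ne' (Nat.dvd_one.mp h6)
  rw [hj0, pow_zero] at hj
  have hC2 : p ^ c = 2 := by rw [hX, hj]
  refine ⟨?_, hC2⟩
  have h7 : p ∣ 2 := by rw [← hC2]; exact dvd_pow_self p hc
  exact (Nat.prime_dvd_prime_iff_eq hp Nat.prime_two).mp h7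

theorem forward [Group.IsNilpotent G] (p : ℕ) [Fact p.Prime]
    (h : Nat.card {χ : IrrCharacter G // p ∣ charDegree (χ : G → ℂ)} = 1) :
    p = 2 ∧ IsExtraspecial 2 G := by
  have hp : p.Prime := Fact.out
  obtain ⟨hsub, ⟨⟨χ₀, hχ₀⟩⟩⟩ := Nat.card_eq_one_iff_unique.mp h
  have huniq : ∀ χ : IrrCharacter G, p ∣ charDegree (χ : G → ℂ) → χ = χ₀ := by
    intro χ hχ
    exact congrArg Subtype.val (hsub.elim ⟨χ, hχ⟩ ⟨χ₀, hχ₀⟩)
  have hpg : IsPGroup p G := isPGroup_of_unique p χ₀ hχ₀ huniq
  have : Fintype (IrrCharacter G) := Fintype.ofFinite _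
  have hsplit := sum_split (G := G)
  have hfilter : Finset.univ.filter
      (fun χ : IrrCharacter G => ¬ charDegree (χ : G → ℂ) = 1) = {χ₀} := by
    ext χ
    rw [Finset.mem_filter, Finset.mem_singleton]
    constructor
    · rintro ⟨-, hχ⟩
      exact huniq χ ((dvd_deg_iff p hpg χ).mpr hχ)
    · intro hχ
      rw [hχ]
      exact ⟨Finset.mem_univ _, (dvd_deg_iff p hpg χ₀).mp hχ₀⟩
  rw [hfilter, Finset.sum_singleton] at hsplit
  have hIC : (commutator G).index * Nat.card (commutator G) = Nat.card G :=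
    Subgroup.index_mul_card _
  obtain ⟨hp2, hC2⟩ := arith p _ _ _ _ hp hIC hsplit (IsPGroup.iff_card.mp hpg)
    (irr_degree_dvd_card χ₀) hχ₀
  subst hp2
  have hle : commutator G ≤ Subgroup.center G := by
    intro z hz
    rw [Subgroup.mem_center_iff]
    intro g
    by_cases hz1 : z = 1
    · rw [hz1, mul_one, one_mul]
    · have hconj : g * z * g⁻¹ ∈ commutator G :=
        (inferInstance : (commutator G).Normal).conj_mem z hz g
      have hne : g * z * g⁻¹ ≠ 1 := by
        intro h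
        apply hz1
        calc z = g⁻¹ * (g * z * g⁻¹) * g := by group
          _ = 1 := by rw [h]; group
      have huq := ((Nat.card_eq_two_iff' (1 : commutator G)).mp hC2).unique
        (y₁ := ⟨g * z * g⁻¹, hconj⟩) (y₂ := ⟨z, hz⟩)
        (fun h => hne (congrArg Subtype.val h)) (fun h => hz1 (congrArg Subtype.val h))
      have h5 : g * z * g⁻¹ = z := congrArg Subtype.val huq
      calc g * z = (g * z * g⁻¹) * g := by group
        _ = z * g := by rw [h5]
  have hge : Subgroup.center G ≤ commutator G := by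
    intro z hz
    by_contra hzn
    have hz1 : (QuotientGroup.mk' (commutator G) z) ≠ 1 :=
      fun h => hzn ((QuotientGroup.eq_one_iff z).mp h)
    obtain ⟨φ, hφ⟩ := exists_hom_apply_ne_one (G := G ⧸ commutator G) quot_commutator_comm hz1
    have hT := twist_invariant 2 χ₀ huniq hχ₀ (φ.comp (QuotientGroup.mk' (commutator G))) z
    obtain ⟨c, hc⟩ := Cfsg.Agent.Lib.helper19.irr_mul_center χ₀ z hz
    have h10 := irr_one_ne_zero χ₀
    have hc0 : c ≠ 0 := by
      intro h0
      have := hc z⁻¹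
      rw [inv_mul_cancel, h0, zero_mul] at this
      exact h10 this
    have hz0 : (χ₀ : G → ℂ) z ≠ 0 := by
      have := hc 1
      rw [one_mul] at this
      rw [this]
      exact mul_ne_zero hc0 h10
    have h11 : (((φ.comp (QuotientGroup.mk' (commutator G))) z : ℂˣ) : ℂ) = 1 := by
      have : (((φ.comp (QuotientGroup.mk' (commutator G))) z : ℂˣ) : ℂ) * (χ₀ : G → ℂ) z
          = 1 * (χ₀ : G → ℂ) z := by rw [hT, one_mul]
      exact mul_right_cancel₀ hz0 this
    exact hφ (Units.val_eq_one.mp h11)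
  have hceq : commutator G = Subgroup.center G := le_antisymm hle hge
  have hZ2 : Nat.card (Subgroup.center G) = 2 := by rw [← hceq]; exact hC2
  have hfr : frattini G = Subgroup.center G := by
    apply le_antisymm
    · apply Cfsg.Agent.Lib.helper3.frattini_le_of_pow_mem_of_commutator_le (p := 2)
        (Subgroup.center G) _ hle
      intro x
      rw [Subgroup.mem_center_iff]
      intro g
      obtain ⟨c, hcdef⟩ : ∃ c, c = x * g * x⁻¹ * g⁻¹ := ⟨_, rfl⟩
      have hcmem : c ∈ commutator G := by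
        rw [hcdef, commutator_def, ← commutatorElement_def]
        exact Subgroup.commutator_mem_commutator (Subgroup.mem_top x) (Subgroup.mem_top g)
      have hcc : ∀ y : G, y * c = c * y := Subgroup.mem_center_iff.mp (hle hcmem)
      have hc2 : c * c = 1 := by
        have h := pow_card_eq_one' (G := commutator G) (x := ⟨c, hcmem⟩)
        rw [hC2] at h
        have h' := congrArg (fun x : commutator G => (x : G)) h
        simpa [pow_two] using h'
      have hxg : x * g = c * g * x := by rw [hcdef]; group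
      calc g * x ^ 2 = (c * c) * g * x * x := by rw [hc2, one_mul, pow_two, ← mul_assoc]
        _ = c * (c * g * x) * x := by group
        _ = c * (x * g) * x := by rw [← hxg]
        _ = (c * x) * g * x := by group
        _ = (x * c) * g * x := by rw [hcc x]
        _ = x * (c * g * x) := by group
        _ = x * (x * g) := by rw [← hxg]
        _ = x ^ 2 * g := by rw [pow_two, mul_assoc]
    · rw [← hceq]
      exact Cfsg.Agent.Lib.helper3.commutator_le_frattini hpg
  have hfinal : (IsPGroup 2 G ∧ frattini G = Subgroup.center G ∧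
      commutator G = Subgroup.center G) ∧ Nat.card (Subgroup.center G) = 2 :=
    ⟨⟨hpg, hfr, hceq⟩, hZ2⟩
  exact ⟨rfl, hfinal⟩

theorem backward (hG : IsExtraspecial 2 G) :
    Nat.card {χ : IrrCharacter G // 2 ∣ charDegree (χ : G → ℂ)} = 1 := by
  have : Fintype (IrrCharacter G) := Fintype.ofFinite _
  have h2 : Fact (Nat.Prime 2) := ⟨Nat.prime_two⟩
  have hpg : IsPGroup 2 G := hG.1.1
  have hcomm : commutator G = Subgroup.center G := hG.1.2.2
  have hZ : Nat.card (Subgroup.center G) = 2 := hG.2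
  have hequiv : Nat.card {χ : IrrCharacter G // 2 ∣ charDegree (χ : G → ℂ)}
      = Nat.card {χ : IrrCharacter G // ¬ charDegree (χ : G → ℂ) = 1} :=
    Nat.card_congr (Equiv.subtypeEquivRight (fun χ => dvd_deg_iff 2 hpg χ))
  rw [hequiv, Nat.card_eq_fintype_card, Fintype.card_subtype]
  have hsplit := sum_split (G := G)
  have hidx : (commutator G).index * 2 = Nat.card G := by
    rw [← hZ, ← hcomm]; exact Subgroup.index_mul_card _
  have hM : 0 < (commutator G).index := Nat.pos_of_ne_zero Subgroup.index_ne_zero_of_finite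
  have hterm : ∀ χ ∈ Finset.univ.filter
      (fun χ : IrrCharacter G => ¬ charDegree (χ : G → ℂ) = 1),
      (charDegree (χ : G → ℂ)) ^ 2 = (commutator G).index := by
    intro χ hχ
    have h1 : (χ : G → ℂ) 1 ≠ 1 := by
      rw [irr_one_eq_charDegree]
      intro h
      exact (Finset.mem_filter.mp hχ).2 (Nat.cast_eq_one.mp h)
    have h3 := extraspecial_sq 2 hG χ h1
    have h4 : 2 * (charDegree (χ : G → ℂ)) ^ 2 = 2 * (commutator G).index := by
      rw [pow_two, h3, ← hidx, mul_comm]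
    exact Nat.eq_of_mul_eq_mul_left (by norm_num) h4
  rw [Finset.sum_const_nat hterm, ← hidx] at hsplit
  have h9 : (Finset.univ.filter
      (fun χ : IrrCharacter G => ¬ charDegree (χ : G → ℂ) = 1)).card * (commutator G).index
      = 1 * (commutator G).index := by linarith
  exact Nat.eq_of_mul_eq_mul_right hM h9

/-- Let p be a prime and G a finite nilpotent group. Then G has exactly one irreducible complex character of degree divisible by p if and only if p = 2 and G is an extraspecial 2-group. -/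
theorem result {G : Type*} [Group G] [Finite G] [Group.IsNilpotent G] (p : ℕ) [Fact p.Prime] : Nat.card {χ : Cfsg.IrrCharacter G // p ∣ Cfsg.charDegree (χ : G → ℂ)} = 1 ↔ (p = 2 ∧ Cfsg.IsExtraspecial 2 G) := by
  constructor
  · exact forward p
  · rintro ⟨rfl, hG⟩
    exact backward hG

end Cfsg.Agent.S4762
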