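import Mathlib
import Cfsg.Statements.S4763
import Cfsg.Agent.S4762
import Cfsg.Agent.Lib.helper83.CharBasic2
import Cfsg.Agent.Lib.helper83.Gagola
import Cfsg.Agent.Lib.helper82.CharQuot
import Cfsg.Agent.Lib.helper82.Ito
import Cfsg.Agent.Lib.helper82.CoprimeCount
import Cfsg.Agent.Lib.helper19.Gallagher

set_option autoImplicit false
set_option linter.unusedSectionVars false
open Cfsg

namespace Cfsg.Agent.S4763

open Cfsg.Agent.Lib.helper83 Cfsg.Agent.Lib.helper82
open scoped ComplexConjugate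

universe u
variable {G : Type u} [Group G] [Finite G]

/-- If `G = N P` with `N ⊴ G`, `N ∩ P = 1` and `P` abelian, then `N_G(P) ≤ C_G(P)`. -/
theorem normalizer_le_centralizer (N P : Subgroup G) [N.Normal] (hdisj : N ⊓ P = ⊥)
    (hsup : N ⊔ P = ⊤) (hab : ∀ a ∈ P, ∀ b ∈ P, a * b = b * a) :
    Subgroup.normalizer (P : Set G) ≤ Subgroup.centralizer (P : Set G) := by
  intro g hg
  rw [Subgroup.mem_centralizer_iff]
  intro y hy
  have hy' : y ∈ P := hy
  have hg' : g ∈ ((N ⊔ P : Subgroup G) : Set G) := by rw [hsup]; exact Set.mem_univ g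
  rw [Subgroup.normal_mul] at hg'
  obtain ⟨n, hn, x, hx, h⟩ := Set.mem_mul.mp hg'
  have hn' : n ∈ N := hn
  have hx' : x ∈ P := hx
  subst h
  have hxy : x * y = y * x := hab x hx' y hy'
  have hny : n * y * n⁻¹ ∈ P := by
    have h1 := (Subgroup.mem_normalizer_iff.mp hg (x⁻¹ * y * x)).mp
      (P.mul_mem (P.mul_mem (P.inv_mem hx') hy') hx')
    have h2 : n * x * (x⁻¹ * y * x) * (n * x)⁻¹ = n * y * n⁻¹ := by group
    rwa [h2] at h1
  have hc1 : n * y * n⁻¹ * y⁻¹ ∈ P := P.mul_mem hny (P.inv_mem hy')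
  have hc2 : n * y * n⁻¹ * y⁻¹ ∈ N := by
    have h3 : y * n⁻¹ * y⁻¹ ∈ N := (inferInstance : N.Normal).conj_mem n⁻¹ (N.inv_mem hn') y
    have h4 : n * y * n⁻¹ * y⁻¹ = n * (y * n⁻¹ * y⁻¹) := by group
    rw [h4]; exact N.mul_mem hn' h3
  have hc : n * y * n⁻¹ * y⁻¹ = 1 := by
    have : n * y * n⁻¹ * y⁻¹ ∈ N ⊓ P := ⟨hc2, hc1⟩
    rw [hdisj] at this
    exact Subgroup.mem_bot.mp this
  have hny' : n * y = y * n := by
    calc n * y = (n * y * n⁻¹ * y⁻¹) * (y * n) := by group
      _ = y * n := by rw [hc, one_mul]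
  calc y * (n * x) = (y * n) * x := by group
    _ = (n * y) * x := by rw [hny']
    _ = n * (y * x) := by group
    _ = n * (x * y) := by rw [hxy]
    _ = n * x * y := by group

theorem card_carrier_mk (h : G) :
    Nat.card (ConjClasses.mk h).carrier = Nat.card {x : G // IsConj x h} := by
  apply Nat.card_congr
  apply Equiv.subtypeEquivRight
  intro x
  rw [ConjClasses.mem_carrier_iff_mk_eq, ConjClasses.mk_eq_mk_iff_isConj]

/-- Elements centralized by a Sylow `p`-subgroup have class size prime to `p`. -/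
theorem not_dvd_card_of_centralizer (p : ℕ) [Fact p.Prime] (P : Sylow p G) (m : G)
    (hm : m ∈ Subgroup.centralizer ((P : Subgroup G) : Set G)) :
    ¬ p ∣ Nat.card (ConjClasses.mk m).carrier := by
  rw [card_carrier_mk]
  intro hdvd
  have h1 := card_conj_mul_card_centralizer m
  have hPle : (P : Subgroup G) ≤ Subgroup.centralizer ({m} : Set G) := by
    intro y hy
    rw [Subgroup.mem_centralizer_singleton_iff]
    exact Subgroup.mem_centralizer_iff.mp hm y hy
  have h2 : Nat.card (P : Subgroup G) ∣ Nat.card (Subgroup.centralizer ({m} : Set G)) :=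
    Subgroup.card_dvd_of_le hPle
  have h3 : (P : Subgroup G).index * Nat.card (P : Subgroup G) = Nat.card G :=
    Subgroup.index_mul_card _
  obtain ⟨c', hc'⟩ := hdvd
  obtain ⟨z', hz'⟩ := h2
  rw [hc', hz', ← h3] at h1
  have hPpos : 0 < Nat.card (P : Subgroup G) := Nat.card_pos
  have h4 : (P : Subgroup G).index = p * (c' * z') := by
    have : (P : Subgroup G).index * Nat.card (P : Subgroup G)
        = (p * (c' * z')) * Nat.card (P : Subgroup G) := by rw [← h1]; ring
    exact Nat.eq_of_mul_eq_mul_right hPpos this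
  exact P.not_dvd_index ⟨_, h4⟩

/-- The conjugation action of a subgroup on a conjugacy class. -/
def conjAction (P : Subgroup G) (g : G) : MulAction P {x : G // IsConj x g} where
  smul y x := ⟨(y : G) * x.1 * (y : G)⁻¹,
    ((isConj_iff.mpr ⟨(y : G), rfl⟩ : IsConj x.1 ((y : G) * x.1 * (y : G)⁻¹)).symm).trans x.2⟩
  one_smul x := by
    apply Subtype.ext
    show ((1 : P) : G) * x.1 * ((1 : P) : G)⁻¹ = x.1
    simp
  mul_smul a b x := by
    apply Subtype.ext
    show ((a * b : P) : G) * x.1 * ((a * b : P) : G)⁻¹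
      = (a : G) * ((b : G) * x.1 * (b : G)⁻¹) * (a : G)⁻¹
    rw [Subgroup.coe_mul]
    group

/-- A class of size prime to `p` meets the centralizer of a Sylow `p`-subgroup. -/
theorem exists_conj_mem_centralizer (p : ℕ) [Fact p.Prime] (P : Sylow p G) (g : G)
    (hg : ¬ p ∣ Nat.card (ConjClasses.mk g).carrier) :
    ∃ x ∈ Subgroup.centralizer ((P : Subgroup G) : Set G), IsConj x g := by
  rw [card_carrier_mk] at hg
  letI := conjAction (P : Subgroup G) g
  obtain ⟨x, hx⟩ :=
    P.isPGroup'.nonempty_fixed_point_of_prime_not_dvd_card {x : G // IsConj x g} hg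
  refine ⟨x.1, ?_, x.2⟩
  rw [Subgroup.mem_centralizer_iff]
  intro y hy
  have h1 := MulAction.mem_fixedPoints.mp hx ⟨y, hy⟩
  have h2 : y * x.1 * y⁻¹ = x.1 := congrArg Subtype.val h1
  calc y * x.1 = (y * x.1 * y⁻¹) * y := by group
    _ = x.1 * y := by rw [h2]

/-- Burnside fusion: if `N_G(P) ≤ M ≤ C_G(P)`, the classes of `M` are in bijection with the
classes of `G` of size prime to `p`. -/
theorem card_conjClasses_eq (p : ℕ) [Fact p.Prime] (P : Sylow p G) (M : Subgroup G)
    (hM1 : M ≤ Subgroup.centralizer ((P : Subgroup G) : Set G))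
    (hM2 : Subgroup.normalizer ((P : Subgroup G) : Set G) ≤ M) :
    Nat.card (ConjClasses M) = Nat.card {C : ConjClasses G // ¬ p ∣ Nat.card C.carrier} := by
  have hf : ∀ c : ConjClasses M, ¬ p ∣ Nat.card (ConjClasses.map M.subtype c).carrier := by
    intro c
    obtain ⟨m, rfl⟩ := ConjClasses.mk_surjective c
    show ¬ p ∣ Nat.card (ConjClasses.mk (m : G)).carrier
    exact not_dvd_card_of_centralizer p P m (hM1 m.2)
  apply Nat.card_congr
  refine Equiv.ofBijective (fun c => ⟨ConjClasses.map M.subtype c, hf c⟩) ⟨?_, ?_⟩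
  · intro c₁ c₂ h
    obtain ⟨m₁, rfl⟩ := ConjClasses.mk_surjective c₁
    obtain ⟨m₂, rfl⟩ := ConjClasses.mk_surjective c₂
    have h1 : ConjClasses.mk (m₁ : G) = ConjClasses.mk (m₂ : G) := congrArg Subtype.val h
    rw [ConjClasses.mk_eq_mk_iff_isConj, isConj_iff] at h1
    obtain ⟨g, hg⟩ := h1
    have hm₁ : (m₁ : G) ∈ Subgroup.centralizer ((P : Subgroup G) : Set G) := hM1 m₁.2
    have hm₂ : (m₂ : G) ∈ Subgroup.centralizer ((P : Subgroup G) : Set G) := hM1 m₂.2
    have hy : g⁻¹⁻¹ * (m₁ : G) * g⁻¹ ∈ Subgroup.centralizer ((P : Subgroup G) : Set G) := by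
      rw [inv_inv, hg]; exact hm₂
    obtain ⟨n, hn, hn'⟩ := P.conj_eq_normalizer_conj_of_mem_centralizer (m₁ : G) g⁻¹ hm₁ hy
    rw [inv_inv, hg] at hn'
    rw [ConjClasses.mk_eq_mk_iff_isConj, isConj_iff]
    refine ⟨⟨n⁻¹, hM2 (Subgroup.inv_mem _ hn)⟩, ?_⟩
    apply Subtype.ext
    show n⁻¹ * (m₁ : G) * (n⁻¹)⁻¹ = (m₂ : G)
    rw [inv_inv]
    exact hn'.symm
  · rintro ⟨C, hC⟩
    obtain ⟨g, rfl⟩ := ConjClasses.mk_surjective C
    obtain ⟨x, hx, hxg⟩ := exists_conj_mem_centralizer p P g hC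
    have hxM : x ∈ M := hM2 (Subgroup.centralizer_le_normalizer _ hx)
    refine ⟨ConjClasses.mk ⟨x, hxM⟩, ?_⟩
    apply Subtype.ext
    show ConjClasses.mk x = ConjClasses.mk g
    exact ConjClasses.mk_eq_mk_iff_isConj.mpr hxg

/-- Let p be a prime and G a finite group that is not nilpotent and has a normal p-complement (a normal subgroup of order prime to p and index a power of p). If G has exactly one irreducible complex character of degree divisible by p, then G has exactly one conjugacy class whose size is divisible by p. -/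
theorem result {G : Type*} [Group G] [Finite G] (p : ℕ) [Fact p.Prime] (hnil : ¬ Group.IsNilpotent G) (N : Subgroup G) [N.Normal] (hN : (Nat.card N).Coprime p) (hidx : ∃ k : ℕ, N.index = p ^ k) (hone : Nat.card {χ : Cfsg.IrrCharacter G // p ∣ Cfsg.charDegree (χ : G → ℂ)} = 1) : Nat.card {C : ConjClasses G // p ∣ Nat.card C.carrier} = 1 := by
  classical
  have hp : p.Prime := Fact.out
  have : Fintype G := Fintype.ofFinite G
  obtain ⟨k, hk⟩ := hidx
  obtain ⟨hsub, ⟨⟨χ₀, hχ₀⟩⟩⟩ := Nat.card_eq_one_iff_unique.mp hone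
  have huniq : ∀ χ : IrrCharacter G, p ∣ charDegree (χ : G → ℂ) → χ = χ₀ := fun χ hχ =>
    congrArg Subtype.val (hsub.elim ⟨χ, hχ⟩ ⟨χ₀, hχ₀⟩)
  obtain ⟨P⟩ : Nonempty (Sylow p G) := inferInstance
  obtain ⟨m, hm⟩ := IsPGroup.iff_card.mp P.isPGroup'
  have hGcard : p ^ k * Nat.card N = Nat.card G := by
    rw [← hk]; exact Subgroup.index_mul_card N
  have hPcard : (P : Subgroup G).index * p ^ m = Nat.card G := by
    rw [← hm]; exact Subgroup.index_mul_card _
  have hmk : p ^ m = p ^ k := by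
    apply Nat.dvd_antisymm
    · have h1 : p ^ m ∣ p ^ k * Nat.card N := by
        rw [hGcard, ← hPcard]; exact dvd_mul_left _ _
      exact (Nat.Coprime.pow_left m hN.symm).dvd_of_dvd_mul_right h1
    · have h1 : p ^ k ∣ (P : Subgroup G).index * p ^ m := by
        rw [hPcard, ← hGcard]; exact dvd_mul_right _ _
      have hcop : (p ^ k).Coprime (P : Subgroup G).index :=
        Nat.Coprime.pow_left k ((Nat.Prime.coprime_iff_not_dvd hp).mpr P.not_dvd_index)
      exact hcop.dvd_of_dvd_mul_left h1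
  have hPk : Nat.card (P : Subgroup G) = p ^ k := by rw [hm, hmk]
  have hk0 : k ≠ 0 := by
    rintro rfl
    have h1 : p ∣ Nat.card G := hχ₀.trans (irr_degree_dvd_card χ₀)
    rw [← hGcard, pow_zero, one_mul] at h1
    exact (Nat.Prime.coprime_iff_not_dvd hp).mp hN.symm h1
  have hcopNP : (Nat.card N).Coprime (Nat.card (P : Subgroup G)) := by
    rw [hPk]; exact Nat.Coprime.pow_right k hN
  have hdisj : N ⊓ (P : Subgroup G) = ⊥ :=
    disjoint_iff.mp (Subgroup.disjoint_of_coprime_natCard hcopNP)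
  have hsup : N ⊔ (P : Subgroup G) = ⊤ := by
    apply Subgroup.eq_top_of_le_card
    have h1 : Nat.card N ∣ Nat.card (N ⊔ (P : Subgroup G) : Subgroup G) :=
      Subgroup.card_dvd_of_le le_sup_left
    have h2 : Nat.card (P : Subgroup G) ∣ Nat.card (N ⊔ (P : Subgroup G) : Subgroup G) :=
      Subgroup.card_dvd_of_le le_sup_right
    have h3 : Nat.card N * Nat.card (P : Subgroup G)
        ∣ Nat.card (N ⊔ (P : Subgroup G) : Subgroup G) :=
      hcopNP.mul_dvd_of_dvd_of_dvd h1 h2
    rw [← hGcard, ← hPk, mul_comm]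
    exact Nat.le_of_dvd Nat.card_pos h3
  -- Step (i): P is abelian
  have hab : ∀ a ∈ (P : Subgroup G), ∀ b ∈ (P : Subgroup G), a * b = b * a := by
    by_contra hPnab
    have hQp : IsPGroup p (G ⧸ N) := by
      apply IsPGroup.of_card (n := k)
      rw [← Subgroup.index_eq_card, hk]
    have hQnab : ¬ ∀ a b : G ⧸ N, a * b = b * a := by
      intro habQ
      apply hPnab
      intro a ha b hb
      have h1 : QuotientGroup.mk' N (a * b * a⁻¹ * b⁻¹) = 1 := by
        rw [map_mul, map_mul, map_mul, map_inv, map_inv,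
          habQ (QuotientGroup.mk' N a) (QuotientGroup.mk' N b)]
        group
      have h1' : a * b * a⁻¹ * b⁻¹ ∈ N := (QuotientGroup.eq_one_iff _).mp h1
      have h2 : a * b * a⁻¹ * b⁻¹ ∈ (P : Subgroup G) :=
        mul_mem (mul_mem (mul_mem ha hb) (inv_mem ha)) (inv_mem hb)
      have h3 : a * b * a⁻¹ * b⁻¹ = 1 := by
        have : a * b * a⁻¹ * b⁻¹ ∈ N ⊓ (P : Subgroup G) := ⟨h1', h2⟩
        rw [hdisj] at this
        exact Subgroup.mem_bot.mp this
      calc a * b = (a * b * a⁻¹ * b⁻¹) * (b * a) := by group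
        _ = b * a := by rw [h3, one_mul]
    obtain ⟨ψ, hψ⟩ := Cfsg.Agent.S4762.exists_dvd_deg_of_nonabelian p hQp hQnab
    obtain ⟨χ₁, hχ₁def⟩ : ∃ χ₁ : IrrCharacter G,
        ∀ g : G, (χ₁ : G → ℂ) g = (ψ : G ⧸ N → ℂ) (g : G ⧸ N) :=
      ⟨⟨_, isIrrCharacter_inflation N ψ.2⟩, fun g => rfl⟩
    have hd1 : charDegree (χ₁ : G → ℂ) = charDegree (ψ : G ⧸ N → ℂ) := by
      unfold charDegree
      rw [hχ₁def]
      rfl
    have hχ₁ : χ₁ = χ₀ := huniq χ₁ (by rw [hd1]; exact hψ)
    have hker : ∀ x ∈ N, (χ₀ : G → ℂ) x = (χ₀ : G → ℂ) 1 := by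
      intro x hx
      rw [← hχ₁, hχ₁def, hχ₁def, (QuotientGroup.eq_one_iff x).mpr hx]
      rfl
    have h10 := irr_one_ne_zero χ₀
    have hall : ∀ χ : IrrCharacter G, ∀ x ∈ N, (χ : G → ℂ) x = (χ : G → ℂ) 1 := by
      intro χ x hx
      by_cases hχ : χ = χ₀
      · rw [hχ]; exact hker x hx
      · have hnd : ¬ p ∣ charDegree (χ : G → ℂ) := fun h => hχ (huniq χ h)
        have hcop : (charDegree (χ : G → ℂ)).Coprime N.index := by
          rw [hk]
          exact Nat.Coprime.pow_right k ((Nat.Prime.coprime_iff_not_dvd hp).mpr hnd).symm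
        have hχN : IsIrrCharacter N (fun n : N => (χ : G → ℂ) n) :=
          restrict_irr_of_coprime_degree N χ.2 hcop
        have hprod : IsIrrCharacter G ((χ : G → ℂ) * (χ₀ : G → ℂ)) :=
          Cfsg.Agent.Lib.helper19.isIrr_mul_of_trivial N (χ : G → ℂ) χ.2 hχN
            (χ₀ : G → ℂ) χ₀.2 hker
        have hdeg : charDegree ((χ : G → ℂ) * (χ₀ : G → ℂ))
            = charDegree (χ : G → ℂ) * charDegree (χ₀ : G → ℂ) := by
          have h1 := irr_one_eq_charDegree (⟨_, hprod⟩ : IrrCharacter G)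
          have h2 : ((χ : G → ℂ) * (χ₀ : G → ℂ)) 1
              = ((charDegree (χ : G → ℂ) * charDegree (χ₀ : G → ℂ) : ℕ) : ℂ) := by
            rw [Pi.mul_apply, irr_one_eq_charDegree χ, irr_one_eq_charDegree χ₀]
            push_cast
            rfl
          have h3 : ((charDegree ((χ : G → ℂ) * (χ₀ : G → ℂ)) : ℕ) : ℂ)
              = ((charDegree (χ : G → ℂ) * charDegree (χ₀ : G → ℂ) : ℕ) : ℂ) := by
            rw [← h2]; exact h1.symm
          exact_mod_cast h3
        have heq : (⟨_, hprod⟩ : IrrCharacter G) = χ₀ := huniq _ (by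
          show p ∣ charDegree ((χ : G → ℂ) * (χ₀ : G → ℂ))
          rw [hdeg]; exact Dvd.dvd.mul_left hχ₀ _)
        have hval : ∀ y : G, (χ : G → ℂ) y * (χ₀ : G → ℂ) y = (χ₀ : G → ℂ) y := by
          intro y
          exact congrFun (congrArg Subtype.val heq) y
        have hone' : ∀ y ∈ N, (χ : G → ℂ) y = 1 := by
          intro y hy
          have h5 := hval y
          rw [hker y hy] at h5
          have : (χ : G → ℂ) y * (χ₀ : G → ℂ) 1 = 1 * (χ₀ : G → ℂ) 1 := by rw [h5, one_mul]
          exact mul_right_cancel₀ h10 this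
        rw [hone' x hx, hone' 1 N.one_mem]
    have hNbot : N = ⊥ := by
      rw [eq_bot_iff]
      intro x hx
      have hconj : IsConj x 1 :=
        Cfsg.Agent.Lib.helper83.isConj_of_forall_irr_eq (fun χ => hall χ x hx)
      rw [Subgroup.mem_bot]
      exact isConj_one_left.mp hconj
    apply hnil
    have hGp : IsPGroup p G := by
      apply IsPGroup.of_card (n := k)
      rw [← hGcard, hNbot, Subgroup.card_bot, mul_one]
    exact hGp.isNilpotent
  -- Step (ii)-(v): counting
  have hNC : Subgroup.normalizer ((P : Subgroup G) : Set G)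
      ≤ Subgroup.centralizer ((P : Subgroup G) : Set G) :=
    normalizer_le_centralizer N (P : Subgroup G) hdisj hsup hab
  have hsolv : Group.IsSolvable (P : Subgroup G) := by
    apply Group.isSolvable_of_comm
    intro a b
    exact Subtype.ext (hab a a.2 b b.2)
  have hcount := card_irr_coprime_normalizer N (P : Subgroup G) hsup hcopNP hsolv
  have hcop_iff : ∀ d : ℕ, d.Coprime (Nat.card (P : Subgroup G)) ↔ ¬ p ∣ d := by
    intro d
    rw [hPk, Nat.coprime_pow_right_iff (Nat.pos_of_ne_zero hk0), Nat.coprime_comm,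
      Nat.Prime.coprime_iff_not_dvd hp]
  have hL : Nat.card {χ : IrrCharacter G //
        (charDegree (χ : G → ℂ)).Coprime (Nat.card (P : Subgroup G))}
      = Nat.card {χ : IrrCharacter G // ¬ p ∣ charDegree (χ : G → ℂ)} :=
    Nat.card_congr (Equiv.subtypeEquivRight (fun χ => hcop_iff _))
  have hR : Nat.card {η : IrrCharacter (Subgroup.normalizer ((P : Subgroup G) : Set G)) //
        (charDegree (η : Subgroup.normalizer ((P : Subgroup G) : Set G) → ℂ)).Coprime
          (Nat.card (P : Subgroup G))}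
      = Nat.card (IrrCharacter (Subgroup.normalizer ((P : Subgroup G) : Set G))) := by
    apply Nat.card_congr
    apply Equiv.subtypeUnivEquiv
    intro η
    rw [hcop_iff]
    intro hdvd
    have hAn : ((P : Subgroup G).subgroupOf
        (Subgroup.normalizer ((P : Subgroup G) : Set G))).Normal :=
      Subgroup.normal_in_normalizer
    obtain ⟨d, hd1, hd2⟩ := ito_char ((P : Subgroup G).subgroupOf
        (Subgroup.normalizer ((P : Subgroup G) : Set G))) (by
      intro a ha b hb
      apply Subtype.ext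
      exact hab a (Subgroup.mem_subgroupOf.mp ha) b (Subgroup.mem_subgroupOf.mp hb)) η.2
    rw [irr_one_eq_charDegree] at hd1
    have hd3 : charDegree (η : Subgroup.normalizer ((P : Subgroup G) : Set G) → ℂ) = d := by
      exact_mod_cast hd1
    rw [← hd3] at hd2
    have h4 : ((P : Subgroup G).subgroupOf
        (Subgroup.normalizer ((P : Subgroup G) : Set G))).index ∣ (P : Subgroup G).index :=
      Dvd.intro _ (Subgroup.relIndex_mul_index
        (Subgroup.le_normalizer : (P : Subgroup G)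
          ≤ Subgroup.normalizer ((P : Subgroup G) : Set G)))
    exact P.not_dvd_index ((hdvd.trans hd2).trans h4)
  have hM := card_conjClasses_eq p P (Subgroup.normalizer ((P : Subgroup G) : Set G)) hNC le_rfl
  have hIrrM := card_irr_eq_card_conjClasses
    (G := Subgroup.normalizer ((P : Subgroup G) : Set G))
  have hIrrG := card_irr_eq_card_conjClasses (G := G)
  have hsplit1 : Nat.card {χ : IrrCharacter G // p ∣ charDegree (χ : G → ℂ)}
      + Nat.card {χ : IrrCharacter G // ¬ p ∣ charDegree (χ : G → ℂ)}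
      = Nat.card (IrrCharacter G) := by
    rw [← Nat.card_sum]
    exact Nat.card_congr (Equiv.sumCompl _)
  have hsplit2 : Nat.card {C : ConjClasses G // p ∣ Nat.card C.carrier}
      + Nat.card {C : ConjClasses G // ¬ p ∣ Nat.card C.carrier}
      = Nat.card (ConjClasses G) := by
    rw [← Nat.card_sum]
    exact Nat.card_congr (Equiv.sumCompl _)
  rw [hone, ← hL, hcount, hR, hIrrM, hM, hIrrG] at hsplit1
  omega

end Cfsg.Agent.S4763
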