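import Mathlib
import Cfsg.Statements.S4768
import Cfsg.Agent.Lib.helper83.CharBasic2
import Cfsg.Agent.Lib.helper82.Clifford
import Cfsg.Agent.Lib.helper82.CharQuot
import Cfsg.Agent.Lib.helper82.CharMore
import Cfsg.Agent.Lib.helper82.Ito
import Cfsg.Agent.Lib.helper82.Ramification
import Cfsg.Agent.Lib.helper5.NormalDeg
import Cfsg.Agent.Lib.helper38.PSolvable
import Cfsg.Agent.Lib.helper66.DualHH

set_option autoImplicit false
set_option linter.unusedSectionVars false
set_option linter.style.haveILetI false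
open Cfsg

namespace Cfsg.Agent.S4768

open Cfsg.Agent.Lib Cfsg.Agent.Lib.helper83 Cfsg.Agent.Lib.helper82
open scoped ComplexConjugate

universe u

/-! ### The derived series of a subgroup, inside the ambient group -/

section DSer

variable {G : Type*} [Group G]

/-- The derived series of the subgroup `H`, as subgroups of the ambient group. -/
def dser (H : Subgroup G) : ℕ → Subgroup G
  | 0 => H
  | (k + 1) => ⁅dser H k, dser H k⁆

theorem dser_zero (H : Subgroup G) : dser H 0 = H := rfl

theorem dser_succ (H : Subgroup G) (k : ℕ) : dser H (k + 1) = ⁅dser H k, dser H k⁆ := rfl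

theorem comm_self_le (H : Subgroup G) : ⁅H, H⁆ ≤ H := by
  rw [Subgroup.commutator_le]
  intro a ha b hb
  rw [commutatorElement_def]
  exact H.mul_mem (H.mul_mem (H.mul_mem ha hb) (H.inv_mem ha)) (H.inv_mem hb)

theorem dser_succ_le (H : Subgroup G) (k : ℕ) : dser H (k + 1) ≤ dser H k := comm_self_le _

theorem dser_antitone (H : Subgroup G) {m n : ℕ} (h : m ≤ n) : dser H n ≤ dser H m := by
  induction h with
  | refl => exact le_rfl
  | step _ ih => exact (dser_succ_le H _).trans ih

theorem dser_le (H : Subgroup G) (k : ℕ) : dser H k ≤ H := dser_antitone H (Nat.zero_le k)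

theorem dser_eq_bot_of_le (H : Subgroup G) {m n : ℕ} (h : m ≤ n) (hm : dser H m = ⊥) :
    dser H n = ⊥ :=
  eq_bot_iff.mpr (hm ▸ dser_antitone H h)

theorem dser_map {G' : Type*} [Group G'] (f : G →* G') (H : Subgroup G) (k : ℕ) :
    (dser H k).map f = dser (H.map f) k := by
  induction k with
  | zero => rfl
  | succ k ih => rw [dser_succ, dser_succ, Subgroup.map_commutator, ih]

theorem dser_subtype (H : Subgroup G) (k : ℕ) :
    (derivedSeries ↥H k).map H.subtype = dser H k := by
  induction k with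
  | zero => rw [derivedSeries_zero, dser_zero, ← MonoidHom.range_eq_map, Subgroup.range_subtype]
  | succ k ih => rw [derivedSeries_succ, dser_succ, Subgroup.map_commutator, ih]

theorem derivedSeries_eq_bot_of_dser (H : Subgroup G) (k : ℕ) (h : dser H k = ⊥) :
    derivedSeries ↥H k = ⊥ := by
  rw [← dser_subtype] at h
  exact (Subgroup.map_eq_bot_iff_of_injective _ H.subtype_injective).mp h

theorem dser_normal (H : Subgroup G) [hH : H.Normal] (k : ℕ) : (dser H k).Normal := by
  induction k with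
  | zero => exact hH
  | succ k ih =>
    rw [dser_succ]
    haveI := ih
    exact Subgroup.commutator_normal _ _

end DSer

/-! ### Sylow subgroups and quotients -/

section SylQ

variable {G : Type u} [Group G] [Finite G] (p : ℕ) [Fact p.Prime]

theorem dser_of_quot_coprime (N : Subgroup G) [N.Normal] (hN : (Nat.card N).Coprime p)
    (P : Sylow p G) (k : ℕ)
    (h : dser ((P : Subgroup G).map (QuotientGroup.mk' N)) k = ⊥) :
    dser (P : Subgroup G) k = ⊥ := by
  rw [← dser_map, Subgroup.map_eq_bot_iff, QuotientGroup.ker_mk'] at h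
  have h2 : dser (P : Subgroup G) k ≤ (P : Subgroup G) ⊓ N := le_inf (dser_le _ k) h
  have h3 : (P : Subgroup G) ⊓ N = ⊥ := by
    have hp : IsPGroup p ↥((P : Subgroup G) ⊓ N) := P.isPGroup'.to_le inf_le_left
    obtain ⟨n, hn⟩ := IsPGroup.iff_card.mp hp
    have hd : Nat.card ↥((P : Subgroup G) ⊓ N) ∣ Nat.card N :=
      Subgroup.card_dvd_of_le inf_le_right
    have h1 : Nat.card ↥((P : Subgroup G) ⊓ N) = 1 := by
      rw [hn] at hd ⊢
      exact Nat.Coprime.eq_one_of_dvd (hN.symm.pow_left n) hd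
    exact Subgroup.eq_bot_of_card_eq _ h1
  rw [h3] at h2
  exact eq_bot_iff.mpr h2

theorem dser_of_quot_abelian (A : Subgroup G) [A.Normal] (hA : ⁅A, A⁆ = ⊥) (P : Subgroup G)
    (k : ℕ) (h : dser (P.map (QuotientGroup.mk' A)) k = ⊥) : dser P (k + 1) = ⊥ := by
  rw [← dser_map, Subgroup.map_eq_bot_iff, QuotientGroup.ker_mk'] at h
  rw [dser_succ, eq_bot_iff, ← hA]
  exact Subgroup.commutator_mono h h

end SylQ

/-! ### Counting the characters of degree divisible by `p` -/

section Count

variable {G : Type u} [Group G] [Finite G] (p : ℕ)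

/-- The number of irreducible characters of degree divisible by `p`. -/
noncomputable def npc (p : ℕ) (G : Type u) [Group G] : ℕ :=
  Nat.card {χ : IrrCharacter G // p ∣ charDegree (χ : G → ℂ)}

theorem infl_deg (N : Subgroup G) [N.Normal] (ψ : IrrCharacter (G ⧸ N)) :
    charDegree ((((irrQuotEquiv N).symm ψ).1 : IrrCharacter G) : G → ℂ) =
      charDegree (ψ : G ⧸ N → ℂ) := by
  have h1 := irr_one_eq_charDegree (((irrQuotEquiv N).symm ψ).1)
  have h2 := irr_one_eq_charDegree ψ
  have h3 : ((((irrQuotEquiv N).symm ψ).1 : IrrCharacter G) : G → ℂ) 1 = (ψ : G ⧸ N → ℂ) 1 :=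
    irrQuotEquiv_symm_apply N ψ 1
  have h4 : ((charDegree ((((irrQuotEquiv N).symm ψ).1 : IrrCharacter G) : G → ℂ) : ℕ) : ℂ) =
      (charDegree (ψ : G ⧸ N → ℂ) : ℂ) := by
    rw [← h1, ← h2, h3]
  exact_mod_cast h4

/-- Inflation, on the characters of degree divisible by `p`. -/
noncomputable def inflMap (N : Subgroup G) [N.Normal] :
    {ψ : IrrCharacter (G ⧸ N) // p ∣ charDegree (ψ : G ⧸ N → ℂ)} →
      {χ : IrrCharacter G // p ∣ charDegree (χ : G → ℂ)} :=
  fun ψ => ⟨((irrQuotEquiv N).symm ψ.1).1, by rw [infl_deg]; exact ψ.2⟩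

theorem inflMap_injective (N : Subgroup G) [N.Normal] : Function.Injective (inflMap p N) := by
  intro a b hab
  have h1 : ((irrQuotEquiv N).symm a.1).1 = ((irrQuotEquiv N).symm b.1).1 :=
    congrArg (fun t : {χ : IrrCharacter G // p ∣ charDegree (χ : G → ℂ)} => t.1) hab
  exact Subtype.ext ((irrQuotEquiv N).symm.injective (Subtype.ext h1))

theorem npc_quot_le (N : Subgroup G) [N.Normal] : npc p (G ⧸ N) ≤ npc p G :=
  Nat.card_le_card_of_injective _ (inflMap_injective p N)

theorem npc_quot_lt (N : Subgroup G) [N.Normal] (χ : IrrCharacter G)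
    (hχ : p ∣ charDegree (χ : G → ℂ))
    (hx : ∃ x ∈ N, (χ : G → ℂ) x ≠ (χ : G → ℂ) 1) : npc p (G ⧸ N) + 1 ≤ npc p G := by
  classical
  haveI : Fintype {ψ : IrrCharacter (G ⧸ N) // p ∣ charDegree (ψ : G ⧸ N → ℂ)} :=
    Fintype.ofFinite _
  haveI : Fintype {χ : IrrCharacter G // p ∣ charDegree (χ : G → ℂ)} := Fintype.ofFinite _
  have hnot : (⟨χ, hχ⟩ : {χ : IrrCharacter G // p ∣ charDegree (χ : G → ℂ)}) ∉
      Set.range (inflMap p N) := by
    rintro ⟨ψ, hψ⟩
    obtain ⟨x, hxN, hx⟩ := hx
    have h1 : ((irrQuotEquiv N).symm ψ.1).1 = χ :=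
      congrArg (fun t : {χ : IrrCharacter G // p ∣ charDegree (χ : G → ℂ)} => t.1) hψ
    exact hx (h1 ▸ ((irrQuotEquiv N).symm ψ.1).2 x hxN)
  have := Fintype.card_lt_of_injective_of_notMem (inflMap p N) (inflMap_injective p N) hnot
  unfold npc
  rw [Nat.card_eq_fintype_card, Nat.card_eq_fintype_card]
  exact this

theorem exists_irr_ne {a : G} (ha : a ≠ 1) :
    ∃ χ : IrrCharacter G, (χ : G → ℂ) a ≠ (χ : G → ℂ) 1 := by
  by_contra hcon
  push Not at hcon
  have := Cfsg.Agent.Lib.helper82.isConj_of_forall_irr_eq hcon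
  exact ha (isConj_one_left.mp this)

end Count

/-! ### A non-abelian normal `p`-subgroup -/

section NonAb

variable {G : Type u} [Group G] [Finite G] (p : ℕ) [Fact p.Prime]

theorem dvd_deg_of_comm (V : Subgroup G) [hV : V.Normal] (hVp : IsPGroup p V)
    (a : G) (ha : a ∈ ⁅V, V⁆) (χ : IrrCharacter G)
    (hχ : (χ : G → ℂ) a ≠ (χ : G → ℂ) 1) : p ∣ charDegree (χ : G → ℂ) := by
  classical
  haveI : Fintype G := Fintype.ofFinite G
  haveI : Fintype V := Fintype.ofFinite V
  haveI : Fintype (IrrCharacter V) := Fintype.ofFinite _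
  have haV : a ∈ V := comm_self_le V ha
  have hac : (⟨a, haV⟩ : V) ∈ commutator ↥V := by
    have h1 : (commutator ↥V).map V.subtype = ⁅V, V⁆ := by
      rw [commutator_def, Subgroup.map_commutator, ← MonoidHom.range_eq_map,
        Subgroup.range_subtype]
    rw [← h1] at ha
    obtain ⟨v, hv, hva⟩ := ha
    have : v = ⟨a, haV⟩ := Subtype.ext hva
    rwa [← this]
  obtain ⟨θ, hθ, e, he, he0⟩ := exists_constituent_restrict V χ.2
  have hdec := clifford_decomp V χ.2 hθ e he he0
  have hex : ∃ φ ∈ conjOrbit V θ, (φ : V → ℂ) ⟨a, haV⟩ ≠ (φ : V → ℂ) 1 := by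
    by_contra hcon
    push Not at hcon
    apply hχ
    have h1 : (χ : G → ℂ) a = _ := hdec ⟨a, haV⟩
    have h2 : (χ : G → ℂ) 1 = _ := hdec 1
    rw [h1, h2]
    congr 1
    exact Finset.sum_congr rfl (fun φ hφ => hcon φ hφ)
  obtain ⟨φ, hφ, hφa⟩ := hex
  obtain ⟨x, hx⟩ := (mem_conjOrbit V θ φ).mp hφ
  have hφ1 : (φ : V → ℂ) 1 ≠ 1 := by
    intro h1
    exact hφa (linear_commutator (isCharacter_of_irr φ.2) h1 _ hac)
  have hφdeg : p ∣ charDegree (φ : V → ℂ) := by
    have h1 := irr_degree_dvd_card φ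
    obtain ⟨m, hm⟩ := IsPGroup.iff_card.mp hVp
    rw [hm] at h1
    obtain ⟨i, _, hi⟩ := (Nat.dvd_prime_pow (Fact.out : p.Prime)).mp h1
    have hi0 : i ≠ 0 := by
      intro h0
      apply hφ1
      rw [irr_one_eq_charDegree φ, hi, h0, pow_zero, Nat.cast_one]
    rw [hi]
    exact dvd_pow_self p hi0
  have hcon : classInner (fun n : V => (χ : G → ℂ) n) θ ≠ 0 := by
    rw [he]
    exact_mod_cast he0
  obtain ⟨k, -, hk⟩ := degree_quot_dvd_index V χ.2 hθ hcon
  have hθφ : θ 1 = (φ : V → ℂ) 1 := by rw [hx, cconj_apply_one]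
  have h3 : ((charDegree (χ : G → ℂ) : ℕ) : ℂ) = ((k * charDegree (φ : V → ℂ) : ℕ) : ℂ) := by
    push_cast
    rw [← irr_one_eq_charDegree χ, ← irr_one_eq_charDegree φ, hk, hθφ]
  have h4 : charDegree (χ : G → ℂ) = k * charDegree (φ : V → ℂ) := by exact_mod_cast h3
  rw [h4]
  exact Dvd.dvd.mul_left hφdeg k

theorem exists_abelian_in_comm (V : Subgroup G) [V.Normal] (hVp : IsPGroup p V)
    (hna : ⁅V, V⁆ ≠ ⊥) :
    ∃ A : Subgroup G, A.Normal ∧ A ≠ ⊥ ∧ A ≤ ⁅V, V⁆ ∧ ⁅A, A⁆ = ⊥ := by
  classical
  have hsol : ∃ k, dser V k = ⊥ := by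
    haveI : Group.IsNilpotent ↥V := hVp.isNilpotent
    obtain ⟨k, hk⟩ := (inferInstance : Group.IsSolvable ↥V).solvable
    exact ⟨k, by rw [← dser_subtype, hk, Subgroup.map_bot]⟩
  obtain ⟨k, hk, hmin⟩ : ∃ k, dser V k = ⊥ ∧ ∀ m < k, dser V m ≠ ⊥ :=
    ⟨Nat.find hsol, Nat.find_spec hsol, fun m hm => Nat.find_min hsol hm⟩
  have hk2 : 2 ≤ k := by
    by_contra hlt
    push Not at hlt
    have h1 : dser V 1 = ⊥ := dser_eq_bot_of_le V (by omega) hk
    exact hna h1
  refine ⟨dser V (k - 1), dser_normal V (k - 1), hmin (k - 1) (by omega), ?_, ?_⟩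
  · have h1 : dser V (k - 1) ≤ dser V 1 := dser_antitone V (by omega)
    exact h1
  · have h1 : dser V (k - 1 + 1) = ⊥ := by
      rw [Nat.sub_add_cancel (by omega)]
      exact hk
    exact h1

end NonAb

/-! ### Jordan's lemma and class-preserving automorphisms of coprime order -/

section Jordan

theorem jordan {H : Type*} [Group H] [Finite H] (C : Subgroup H)
    (h : ∀ x : H, ∃ m : H, m * x * m⁻¹ ∈ C) : C = ⊤ := by
  classical
  haveI : Fintype H := Fintype.ofFinite H
  haveI : Fintype (H ⧸ C) := Fintype.ofFinite _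
  haveI : Fintype (Quotient (MulAction.orbitRel H (H ⧸ C))) := Fintype.ofFinite _
  have hB := MulAction.sum_card_fixedBy_eq_card_orbits_mul_card_group H (H ⧸ C)
  have hsub : Subsingleton (Quotient (MulAction.orbitRel H (H ⧸ C))) :=
    (MulAction.pretransitive_iff_subsingleton_quotient H (H ⧸ C)).mp inferInstance
  have hle : Fintype.card (Quotient (MulAction.orbitRel H (H ⧸ C))) ≤ 1 :=
    Fintype.card_le_one_iff_subsingleton.mpr hsub
  have h1 : ∀ g : H, 1 ≤ Fintype.card (MulAction.fixedBy (H ⧸ C) g) := by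
    intro g
    obtain ⟨m, hm⟩ := h g
    refine Fintype.card_pos_iff.mpr ⟨⟨((m⁻¹ : H) : H ⧸ C), ?_⟩⟩
    rw [MulAction.mem_fixedBy]
    show ((g * m⁻¹ : H) : H ⧸ C) = ((m⁻¹ : H) : H ⧸ C)
    rw [QuotientGroup.eq]
    have h2 : (g * m⁻¹)⁻¹ * m⁻¹ = (m * g * m⁻¹)⁻¹ := by group
    rw [h2]
    exact C.inv_mem hm
  have h2 : Fintype.card (MulAction.fixedBy (H ⧸ C) (1 : H)) = Fintype.card (H ⧸ C) :=
    Fintype.card_congr (Equiv.subtypeUnivEquiv (fun q => by
      rw [MulAction.mem_fixedBy, one_smul]))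
  have h3 : Fintype.card (H ⧸ C) + (Fintype.card H - 1) ≤
      ∑ g : H, Fintype.card (MulAction.fixedBy (H ⧸ C) g) := by
    rw [← Finset.add_sum_erase Finset.univ _ (Finset.mem_univ (1 : H)), h2]
    apply Nat.add_le_add_left
    calc Fintype.card H - 1 = (Finset.univ.erase (1 : H)).card := by
          rw [Finset.card_erase_of_mem (Finset.mem_univ _), Finset.card_univ]
      _ = ∑ g ∈ Finset.univ.erase (1 : H), 1 := by rw [Finset.sum_const, smul_eq_mul, mul_one]
      _ ≤ _ := Finset.sum_le_sum (fun g _ => h1 g)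
  rw [hB] at h3
  have hH : 0 < Fintype.card H := Fintype.card_pos
  have h3' : Fintype.card (H ⧸ C) + (Fintype.card H - 1) ≤ Fintype.card H :=
    h3.trans (by
      calc _ ≤ 1 * Fintype.card H := Nat.mul_le_mul_right _ hle
        _ = _ := one_mul _)
  rw [← Subgroup.index_eq_one]
  have h5 : C.index = Fintype.card (H ⧸ C) := by rw [Subgroup.index, Nat.card_eq_fintype_card]
  have h6 : C.index ≠ 0 := Subgroup.index_ne_zero_of_finite
  omega

/-- The fixed points of an automorphism. -/
def fixSub {H : Type*} [Group H] (σ : MulAut H) : Subgroup H where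
  carrier := {y | σ y = y}
  mul_mem' := fun {a b} ha hb => by
    have ha' : σ a = a := ha
    have hb' : σ b = b := hb
    show σ (a * b) = a * b
    rw [map_mul, ha', hb']
  one_mem' := map_one σ
  inv_mem' := fun {a} ha => by
    have ha' : σ a = a := ha
    show σ a⁻¹ = a⁻¹
    rw [map_inv, ha']

theorem aut_trivial_of_class_preserving {H : Type*} [Group H] [Finite H] (p : ℕ) [Fact p.Prime]
    (hp : ¬ p ∣ Nat.card H) (σ : MulAut H) (j : ℕ) (hσ : σ ^ (p ^ j) = 1)
    (hcl : ∀ y : H, IsConj (σ y) y) : ∀ y : H, σ y = y := by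
  classical
  have hC : fixSub σ = ⊤ := by
    apply jordan
    intro x
    haveI : Fintype {y : H // IsConj y x} := Fintype.ofFinite _
    let f : Function.End {y : H // IsConj y x} := fun y => ⟨σ y.1, (hcl y.1).trans y.2⟩
    have hf : ∀ (k : ℕ) (y : {y : H // IsConj y x}), ((f ^ k) y).1 = (σ ^ k) y.1 := by
      intro k
      induction k with
      | zero =>
        intro y
        rw [pow_zero, pow_zero]
        rfl
      | succ k ih =>
        intro y
        rw [pow_succ, pow_succ, MulAut.mul_apply]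
        exact ih (f y)
    have hfp : f ^ p ^ j = 1 := by
      funext y
      apply Subtype.ext
      rw [hf, hσ]
      rfl
    have hmod := Equiv.Perm.card_fixedPoints_modEq hfp
    have hcard : ¬ p ∣ Fintype.card {y : H // IsConj y x} := by
      have h1 := card_conj_mul_card_centralizer x
      intro hdvd
      apply hp
      rw [← h1, Nat.card_eq_fintype_card]
      exact Dvd.dvd.mul_right hdvd _
    have hne : Fintype.card (Function.fixedPoints f) ≠ 0 := by
      intro h0
      rw [h0] at hmod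
      exact hcard ((Nat.modEq_zero_iff_dvd).mp hmod)
    obtain ⟨⟨y, hy⟩⟩ := Fintype.card_pos_iff.mp (Nat.pos_of_ne_zero hne)
    obtain ⟨m, hm⟩ := isConj_iff.mp y.2.symm
    refine ⟨m, ?_⟩
    rw [hm]
    show σ y.1 = y.1
    exact congrArg Subtype.val hy
  intro y
  have h1 : y ∈ fixSub σ := hC ▸ Subgroup.mem_top y
  exact h1

end Jordan

/-! ### The key lemma -/

section Key

variable {G : Type u} [Group G] [Finite G] (p : ℕ) [Fact p.Prime]

theorem relIndex_dvd_index_of_normal' (I R : Subgroup G) [R.Normal] :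
    I.relIndex R ∣ I.index := by
  have h1 : (I ⊓ R).relIndex R * R.index = (I ⊓ R).index :=
    Subgroup.relIndex_mul_index inf_le_right
  have h2 : (R ⊓ I).relIndex I * I.index = (R ⊓ I).index :=
    Subgroup.relIndex_mul_index inf_le_right
  rw [Subgroup.inf_relIndex_right] at h1
  rw [Subgroup.inf_relIndex_right] at h2
  rw [inf_comm] at h2
  obtain ⟨m, hm⟩ := Subgroup.relIndex_dvd_index_of_normal R I
  have hd : R.relIndex I ≠ 0 := Subgroup.index_ne_zero_of_finite
  refine ⟨m, ?_⟩
  have h3 : R.relIndex I * (I.relIndex R * m) = R.relIndex I * I.index := by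
    rw [h2, ← h1, hm]
    ring
  exact (Nat.eq_of_mul_eq_mul_left (Nat.pos_of_ne_zero hd) h3).symm

theorem pCore_quot_eq_bot (N : Subgroup G) [hN : N.Normal] (hNp : (Nat.card N).Coprime p)
    (hdeg : ∀ χ : IrrCharacter G, (∃ x ∈ N, (χ : G → ℂ) x ≠ (χ : G → ℂ) 1) →
      ¬ p ∣ charDegree (χ : G → ℂ))
    (hcore : pCore p G = ⊥) : pCore p (G ⧸ N) = ⊥ := by
  classical
  haveI : Fintype G := Fintype.ofFinite G
  haveI : Fintype N := Fintype.ofFinite N
  by_contra hne
  obtain ⟨R, hR⟩ : ∃ R : Subgroup G, R = (pCore p (G ⧸ N)).comap (QuotientGroup.mk' N) :=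
    ⟨_, rfl⟩
  haveI hRn : R.Normal := by
    rw [hR]
    exact (helper40.pCore_normal' p (G ⧸ N)).comap _
  have hmap : R.map (QuotientGroup.mk' N) = pCore p (G ⧸ N) := by
    rw [hR]
    exact Subgroup.map_comap_eq_self_of_surjective (QuotientGroup.mk'_surjective N) _
  obtain ⟨k, hk⟩ := IsPGroup.iff_card.mp (helper40.pCore_isPGroup p (G ⧸ N))
  have hrel : N.relIndex R = p ^ k := by
    have h1 := Subgroup.relIndex_comap (⊥ : Subgroup (G ⧸ N)) (QuotientGroup.mk' N) R
    rw [MonoidHom.comap_bot, QuotientGroup.ker_mk', hmap, Subgroup.relIndex_bot_left, hk] at h1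
    exact h1
  have hK1 : ∀ θ : IrrCharacter N, R ≤ inertia N (θ : N → ℂ) := by
    intro θ
    by_cases htriv : θ = trivIrr N
    · subst htriv
      intro r _
      rw [mem_inertia_iff]
      intro n
      rw [trivIrr_apply, trivIrr_apply]
    · obtain ⟨χ, hχ, e, he0, he, hdegχ⟩ := Cfsg.Agent.Lib.helper5.exists_irr_over N θ.2
      have hnt : ∃ x ∈ N, χ x ≠ χ 1 := by
        by_contra hcon
        push Not at hcon
        have h1 : classInner (fun n : N => χ n) (θ : N → ℂ) = 0 := by
          rw [classInner_def]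
          have h2 : ∑ n : N, χ n * conj ((θ : N → ℂ) n) =
              χ 1 * conj (∑ n : N, (θ : N → ℂ) n) := by
            rw [map_sum, Finset.mul_sum]
            exact Finset.sum_congr rfl (fun n _ => by rw [hcon n n.2])
          rw [h2, irr_sum_eq_zero θ htriv, map_zero, mul_zero, mul_zero]
        rw [h1] at he
        exact he0 (by exact_mod_cast he.symm)
      have hpd : ¬ p ∣ charDegree χ := hdeg ⟨χ, hχ⟩ hnt
      have hidx : (inertia N (θ : N → ℂ)).index ∣ charDegree χ := by
        have h1 : χ 1 = (charDegree χ : ℂ) := irr_one_eq_charDegree (⟨χ, hχ⟩ : IrrCharacter G)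
        have h2 := irr_one_eq_charDegree θ
        have h3 : ((charDegree χ : ℕ) : ℂ) =
            ((e * (inertia N (θ : N → ℂ)).index * charDegree (θ : N → ℂ) : ℕ) : ℂ) := by
          push_cast
          rw [← h1, ← h2]
          exact hdegχ
        have h4 : charDegree χ = e * (inertia N (θ : N → ℂ)).index * charDegree (θ : N → ℂ) := by
          exact_mod_cast h3
        rw [h4]
        exact (Dvd.intro_left e rfl).mul_right _
      have hpi : ¬ p ∣ (inertia N (θ : N → ℂ)).index := fun h => hpd (h.trans hidx)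
      have h5 : (inertia N (θ : N → ℂ)).relIndex R ∣ (inertia N (θ : N → ℂ)).index :=
        relIndex_dvd_index_of_normal' _ R
      have h6 : (inertia N (θ : N → ℂ)).relIndex R ∣ N.relIndex R :=
        Subgroup.relIndex_dvd_of_le_left R (le_inertia N (isClassFunction_irr θ))
      rw [hrel] at h6
      obtain ⟨i, -, hi2⟩ := (Nat.dvd_prime_pow (Fact.out : p.Prime)).mp h6
      have hi0 : i = 0 := by
        by_contra hi0
        apply hpi
        refine dvd_trans ?_ h5
        rw [hi2]
        exact dvd_pow_self p hi0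
      rw [hi0, pow_zero] at hi2
      exact Subgroup.relIndex_eq_one.mp hi2
  have hK2 : ∀ r ∈ R, ∀ y : N, IsConj (MulAut.conjNormal r y : N) y := by
    intro r hr y
    apply Cfsg.Agent.Lib.helper82.isConj_of_forall_irr_eq
    intro θ
    have h1 := (mem_inertia_iff N (θ : N → ℂ) r).mp (hK1 θ hr) y
    have h2 : (MulAut.conjNormal r y : N) = ⟨r * y * r⁻¹, hN.conj_mem y y.2 r⟩ :=
      Subtype.ext (MulAut.conjNormal_apply r y)
    rw [h2]
    exact h1
  have hpN : ¬ p ∣ Nat.card N := (Nat.Prime.coprime_iff_not_dvd Fact.out).mp hNp.symm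
  have hK3 : ∀ r ∈ R, ∀ j : ℕ, r ^ (p ^ j) = 1 → ∀ y ∈ N, r * y = y * r := by
    intro r hr j hrj y hy
    have hσ : (MulAut.conjNormal r : MulAut N) ^ (p ^ j) = 1 := by
      rw [← map_pow, hrj, map_one]
    have h1 := aut_trivial_of_class_preserving p hpN (MulAut.conjNormal r : MulAut N) j hσ
      (hK2 r hr) ⟨y, hy⟩
    have h2 : r * y * r⁻¹ = y := by
      have h3 := congrArg (fun t : N => (t : G)) h1
      simpa [MulAut.conjNormal_apply] using h3
    calc r * y = r * y * r⁻¹ * r := by group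
      _ = y * r := by rw [h2]
  obtain ⟨S⟩ : Nonempty (Sylow p ↥R) := inferInstance
  have hcent : ∀ s ∈ (S : Subgroup R), ∀ n : R, (n : G) ∈ N → s * n = n * s := by
    intro s hs n hn
    obtain ⟨j, hj⟩ := S.isPGroup' ⟨s, hs⟩
    have hsj : (s : G) ^ (p ^ j) = 1 := by
      have h1 := congrArg (fun t : (S : Subgroup R) => ((t : R) : G)) hj
      simpa using h1
    exact Subtype.ext (hK3 (s : G) s.2 j hsj (n : G) hn)
  have hSn : (S : Subgroup R).Normal := by
    have h1 : (S : Subgroup R) ⊔ N.subgroupOf R ≤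
        Subgroup.normalizer ((S : Subgroup R) : Set R) := by
      apply sup_le Subgroup.le_normalizer
      intro n hn
      rw [Subgroup.mem_normalizer_iff]
      intro s
      have hn' : (n : G) ∈ N := Subgroup.mem_subgroupOf.mp hn
      constructor
      · intro hs
        have h2 := hcent s hs n hn'
        have h3 : n * s * n⁻¹ = s := by
          rw [← h2]
          group
        rw [h3]
        exact hs
      · intro hs
        have h2 := hcent _ hs n hn'
        have h3 : n * s = n * (n * s * n⁻¹) := by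
          rw [← h2]
          group
        have h4 : s = n * s * n⁻¹ := mul_left_cancel h3
        rw [h4]
        exact hs
    have h2 : (S : Subgroup R) ⊔ N.subgroupOf R = ⊤ := by
      rw [← Subgroup.index_eq_one]
      have ha : ((S : Subgroup R) ⊔ N.subgroupOf R).index ∣ (S : Subgroup R).index :=
        Subgroup.index_dvd_of_le le_sup_left
      have hb : ((S : Subgroup R) ⊔ N.subgroupOf R).index ∣ (N.subgroupOf R).index :=
        Subgroup.index_dvd_of_le le_sup_right
      have hb' : (N.subgroupOf R).index = p ^ k := hrel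
      rw [hb'] at hb
      obtain ⟨i, -, hi2⟩ := (Nat.dvd_prime_pow (Fact.out : p.Prime)).mp hb
      have hi0 : i = 0 := by
        by_contra hi0
        apply S.not_dvd_index
        refine dvd_trans ?_ ha
        rw [hi2]
        exact dvd_pow_self p hi0
      rw [hi2, hi0, pow_zero]
    rw [h2] at h1
    exact Subgroup.normalizer_eq_top_iff.mp (top_le_iff.mp h1)
  haveI : (S : Subgroup R).Characteristic := Sylow.characteristic_of_normal S hSn
  have hSG : ((S : Subgroup R).map R.subtype).Normal :=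
    ConjAct.normal_of_characteristic_of_normal
  have hle : (S : Subgroup R).map R.subtype ≤ pCore p G :=
    helper40.le_pCore _ hSG (S.isPGroup'.map _)
  rw [hcore] at hle
  have hSbot : (S : Subgroup R) = ⊥ :=
    (Subgroup.map_eq_bot_iff_of_injective _ R.subtype_injective).mp (le_bot_iff.mp hle)
  have hpR : p ∣ Nat.card R := by
    have h1 : Nat.card ↥(R.map (QuotientGroup.mk' N)) ∣ Nat.card ↥R := Subgroup.card_map_dvd R _
    rw [hmap, hk] at h1
    have hk0 : k ≠ 0 := by
      intro h0
      rw [h0, pow_zero] at hk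
      exact hne (Subgroup.eq_bot_of_card_eq _ hk)
    exact (dvd_pow_self p hk0).trans h1
  exact S.ne_bot_of_dvd_card hpR hSbot

end Key

/-! ### The induction -/

theorem main_aux (p : ℕ) [Fact p.Prime] : ∀ (n : ℕ) (G : Type u) [Group G] [Finite G],
    Nat.card G ≤ n → IsPSolvable p G → ∀ P : Sylow p G,
      dser (P : Subgroup G) (npc p G + 1) = ⊥ ∧
        (pCore p G = ⊥ → dser (P : Subgroup G) (npc p G) = ⊥) := by
  intro n
  induction n with
  | zero =>
    intro G _ _ hcard
    have := Nat.card_pos (α := G)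
    omega
  | succ n ih =>
    intro G _ _ hcard hsol P
    by_cases hnt : Nontrivial G
    swap
    · haveI : Subsingleton G := not_nontrivial_iff_subsingleton.mp hnt
      have hb : ∀ H : Subgroup G, H = ⊥ := fun H =>
        eq_bot_iff.mpr (fun x _ => by rw [Subgroup.mem_bot]; exact Subsingleton.elim x 1)
      exact ⟨hb _, fun _ => hb _⟩
    have hquot : ∀ (M : Subgroup G) [M.Normal], M ≠ ⊥ → Nat.card (G ⧸ M) ≤ n := by
      intro M _ hM
      have h1 : Nat.card M * M.index = Nat.card G := Subgroup.card_mul_index M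
      have h2 : 1 < Nat.card M := (Subgroup.one_lt_card_iff_ne_bot M).mpr hM
      have h3 : Nat.card (G ⧸ M) = M.index := rfl
      have h4 : 0 < M.index := Nat.pos_of_ne_zero Subgroup.index_ne_zero_of_finite
      rw [h3]
      nlinarith
    have hIH : ∀ (M : Subgroup G) [M.Normal], M ≠ ⊥ →
        dser ((P : Subgroup G).map (QuotientGroup.mk' M)) (npc p (G ⧸ M) + 1) = ⊥ ∧
        (pCore p (G ⧸ M) = ⊥ →
          dser ((P : Subgroup G).map (QuotientGroup.mk' M)) (npc p (G ⧸ M)) = ⊥) := by
      intro M _ hM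
      exact ih (G ⧸ M) (hquot M hM) (helper38.isPSolvable_quotient M hsol)
        (P.mapSurjective (QuotientGroup.mk'_surjective M))
    haveI := hnt
    obtain ⟨M, hMn, hM, hMcase⟩ := helper38.exists_normal_ne_bot_pgroup_or_pprime hsol
    haveI := hMn
    have partB : pCore p G = ⊥ → dser (P : Subgroup G) (npc p G) = ⊥ := by
      intro hcore
      rcases hMcase with hMp | hMp
      · have h := helper40.le_pCore M hMn hMp
        rw [hcore] at h
        exact absurd (le_bot_iff.mp h) hM
      · obtain ⟨ha, hb⟩ := hIH M hM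
        by_cases hex : ∃ χ : IrrCharacter G, p ∣ charDegree (χ : G → ℂ) ∧
            ∃ x ∈ M, (χ : G → ℂ) x ≠ (χ : G → ℂ) 1
        · obtain ⟨χ, hχ, hx⟩ := hex
          have h1 := npc_quot_lt p M χ hχ hx
          exact dser_eq_bot_of_le _ h1 (dser_of_quot_coprime p M hMp P _ ha)
        · have hq : pCore p (G ⧸ M) = ⊥ :=
            pCore_quot_eq_bot p M hMp (fun χ hx hd => hex ⟨χ, hd, hx⟩) hcore
          exact dser_eq_bot_of_le _ (npc_quot_le p M)
            (dser_of_quot_coprime p M hMp P _ (hb hq))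
    refine ⟨?_, partB⟩
    rcases hMcase with hMp | hMp
    · have hVp : IsPGroup p (pCore p G) := helper40.pCore_isPGroup p G
      have hVne : pCore p G ≠ ⊥ := by
        intro h0
        have h := helper40.le_pCore M hMn hMp
        rw [h0] at h
        exact hM (le_bot_iff.mp h)
      by_cases hab : ⁅pCore p G, pCore p G⁆ = ⊥
      · obtain ⟨_, hb⟩ := hIH (pCore p G) hVne
        have hq : pCore p (G ⧸ pCore p G) = ⊥ := helper66.pCore_quotient_pCore p
        have h1 := dser_of_quot_abelian (pCore p G) hab (P : Subgroup G) _ (hb hq)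
        exact dser_eq_bot_of_le _ (Nat.add_le_add_right (npc_quot_le p (pCore p G)) 1) h1
      · obtain ⟨A, hAn, hA, hAle, hAab⟩ := exists_abelian_in_comm p (pCore p G) hVp hab
        haveI := hAn
        obtain ⟨⟨a, haA⟩, ha1⟩ := Subgroup.ne_bot_iff_exists_ne_one.mp hA
        have ha1' : a ≠ 1 := fun h => ha1 (Subtype.ext h)
        obtain ⟨χ, hχ⟩ := exists_irr_ne ha1'
        have hpχ := dvd_deg_of_comm p (pCore p G) hVp a (hAle haA) χ hχ
        have h1 := npc_quot_lt p A χ hpχ ⟨a, haA, hχ⟩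
        obtain ⟨ha', _⟩ := hIH A hA
        have h2 := dser_of_quot_abelian A hAab (P : Subgroup G) _ ha'
        exact dser_eq_bot_of_le _ (by omega) h2
    · obtain ⟨ha, _⟩ := hIH M hM
      exact dser_eq_bot_of_le _ (Nat.add_le_add_right (npc_quot_le p M) 1)
        (dser_of_quot_coprime p M hMp P _ ha)

/-- Let p be a prime, G a finite p-solvable group and P a Sylow p-subgroup of G. If n is the number of irreducible complex characters of G whose degree is divisible by p, then the (n+1)-st term of the derived series of P is trivial. (The p-solvable case has a direct inductive proof.) -/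
theorem result {G : Type*} [Group G] [Finite G] (p : ℕ) [Fact p.Prime] (hG : Cfsg.IsPSolvable p G) (P : Sylow p G) : derivedSeries ↥(P : Subgroup G) (Nat.card {χ : Cfsg.IrrCharacter G // p ∣ Cfsg.charDegree (χ : G → ℂ)} + 1) = ⊥ := by
  exact derivedSeries_eq_bot_of_dser _ _ (main_aux p (Nat.card G) G le_rfl hG P).1

end Cfsg.Agent.S4768
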