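import Cfsg.Statements.S4784
import Cfsg.Agent.Lib.helper82.FSInd

set_option autoImplicit false
open Cfsg

namespace Cfsg.Agent.S4784

open Cfsg.Agent.Lib Cfsg.Agent.Lib.helper82 Cfsg.Agent.Lib.helper83
open scoped ComplexConjugate

/-- Let H be a subgroup of the finite group G and consider the permutation character of G on the cosets of H (the function induced from the principal character of H). Then exactly one irreducible constituent of it is real-valued with Frobenius–Schur indicator +1 (namely the principal character) if and only if the normal core of H has odd index in G. -/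
theorem result {G : Type*} [Group G] [Fintype G] (H : Subgroup G) : Nat.card {χ : Cfsg.IrrCharacter G // Cfsg.classInner (Cfsg.indFun H (fun _ : H => (1 : ℂ))) (χ : G → ℂ) ≠ 0 ∧ (∀ g : G, (starRingEnd ℂ) ((χ : G → ℂ) g) = (χ : G → ℂ) g) ∧ (Nat.card G : ℂ)⁻¹ * ∑ g : G, (χ : G → ℂ) (g * g) = 1} = 1 ↔ Odd H.normalCore.index := by
  classical
  have : Fintype (IrrCharacter G) := Fintype.ofFinite _
  have : Fintype H := Fintype.ofFinite _
  have hG0 : (Nat.card G : ℂ) ≠ 0 := by exact_mod_cast Nat.card_pos.ne'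
  have hH0 : (Nat.card H : ℂ) ≠ 0 := by exact_mod_cast Nat.card_pos.ne'
  have hπc : IsCharacter G (indFun H (fun _ : H => (1 : ℂ))) :=
    helper4.isCharacter_indFun H helper4.isCharacter_one
  obtain ⟨N, hN, -, -⟩ := exists_nat_decomp hπc
  -- the sum of χ over H
  have hsumH : ∀ χ : IrrCharacter G,
      ∑ h : H, (χ : G → ℂ) h = (Nat.card H : ℂ) * (N χ : ℂ) := by
    intro χ
    have h1 := helper4.frobenius_reciprocity H (fun _ : H => (1 : ℂ))
      (helper4.isClassFunction_of_isIrrCharacter χ.2)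
    rw [hN χ] at h1
    unfold classInner at h1
    have h2 : ∑ h : H, conj ((χ : G → ℂ) h) = (Nat.card H : ℂ) * (N χ : ℂ) := by
      rw [h1]
      simp only [one_mul]
      field_simp
    have h3 := congrArg conj h2
    simpa [map_sum] using h3
  have htrivN : N (trivIrr G) = 1 := by
    have h1 := hsumH (trivIrr G)
    simp only [trivIrr_apply, Finset.sum_const, Finset.card_univ, nsmul_eq_mul, mul_one] at h1
    rw [← Nat.card_eq_fintype_card] at h1
    have h2 : (Nat.card H : ℂ) * 1 = (Nat.card H : ℂ) * (N (trivIrr G) : ℂ) := by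
      rw [mul_one]; exact h1
    have h3 := mul_left_cancel₀ hH0 h2
    exact_mod_cast h3.symm
  have htrivν : (Nat.card G : ℂ)⁻¹ * ∑ g : G, (trivIrr G : G → ℂ) (g * g) = 1 := by
    simp only [trivIrr_apply, Finset.sum_const, Finset.card_univ, nsmul_eq_mul, mul_one]
    rw [← Nat.card_eq_fintype_card]
    exact inv_mul_cancel₀ hG0
  have key : Nat.card {χ : Cfsg.IrrCharacter G // Cfsg.classInner (Cfsg.indFun H
      (fun _ : H => (1 : ℂ))) (χ : G → ℂ) ≠ 0 ∧ (∀ g : G, (starRingEnd ℂ) ((χ : G → ℂ) g) =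
      (χ : G → ℂ) g) ∧ (Nat.card G : ℂ)⁻¹ * ∑ g : G, (χ : G → ℂ) (g * g) = 1} = 1 ↔
      ∀ χ : IrrCharacter G, N χ ≠ 0 → (∀ g : G, conj ((χ : G → ℂ) g) = (χ : G → ℂ) g) →
        (Nat.card G : ℂ)⁻¹ * ∑ g : G, (χ : G → ℂ) (g * g) = 1 → χ = trivIrr G := by
    have htmem : Cfsg.classInner (Cfsg.indFun H (fun _ : H => (1 : ℂ))) (trivIrr G : G → ℂ) ≠ 0 ∧
        (∀ g : G, (starRingEnd ℂ) ((trivIrr G : G → ℂ) g) = (trivIrr G : G → ℂ) g) ∧
        (Nat.card G : ℂ)⁻¹ * ∑ g : G, (trivIrr G : G → ℂ) (g * g) = 1 := by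
      refine ⟨?_, fun g => by simp, htrivν⟩
      rw [hN, htrivN]; simp
    rw [Nat.card_eq_one_iff_unique]
    constructor
    · rintro ⟨hss, -⟩ χ h1 h2 h3
      have hmem : Cfsg.classInner (Cfsg.indFun H (fun _ : H => (1 : ℂ))) (χ : G → ℂ) ≠ 0 := by
        rw [hN χ]; exact_mod_cast h1
      have := @Subsingleton.elim _ hss ⟨χ, ⟨hmem, h2, h3⟩⟩ ⟨trivIrr G, htmem⟩
      exact congrArg Subtype.val this
    · intro h
      refine ⟨⟨fun a b => Subtype.ext ?_⟩, ⟨⟨trivIrr G, htmem⟩⟩⟩
      have ha : N a.1 ≠ 0 := by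
        intro h0
        apply a.2.1
        rw [hN, h0]; simp
      have hb : N b.1 ≠ 0 := by
        intro h0
        apply b.2.1
        rw [hN, h0]; simp
      rw [h a.1 ha a.2.2.1 a.2.2.2, h b.1 hb b.2.2.1 b.2.2.2]
  rw [key]
  set K := H.normalCore with hK
  have hKH : K ≤ H := H.normalCore_le
  have : Fintype K := Fintype.ofFinite _
  have : Fintype (G ⧸ K) := Fintype.ofFinite _
  constructor
  · -- exactly one such constituent implies odd index
    intro huniq
    -- indicator of a nontrivial constituent is 0 or -1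
    have hterm : ∀ χ : IrrCharacter G, χ ≠ trivIrr G → ∃ r : ℝ, r ≤ 0 ∧
        ((Nat.card G : ℂ)⁻¹ * ∑ u : G, conj ((χ : G → ℂ) (u * u))) * (N χ : ℂ) = (r : ℂ) := by
      intro χ hχ
      have hconj : (Nat.card G : ℂ)⁻¹ * ∑ u : G, conj ((χ : G → ℂ) (u * u)) =
          conj ((Nat.card G : ℂ)⁻¹ * ∑ u : G, (χ : G → ℂ) (u * u)) := by
        rw [map_mul, map_inv₀, Complex.conj_natCast, map_sum]
      rw [hconj]
      by_cases hN0 : N χ = 0
      · exact ⟨0, le_refl _, by rw [hN0]; simp⟩
      rcases irr_fs_values χ with h | h | h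
      · exact ⟨0, le_refl _, by rw [h]; simp⟩
      · exfalso
        apply hχ
        exact huniq χ hN0 (irr_fs_real χ (by rw [h]; exact one_ne_zero)) h
      · refine ⟨-(N χ : ℝ), by simp, ?_⟩
        rw [h]; simp
    -- count the elements whose square lies in H
    have hcount : ((Finset.univ.filter (fun u : G => u * u ∈ H)).card : ℂ) =
        ∑ h : H, (Nat.card {u : G // u * u = (h : G)} : ℂ) := by
      have h1 : ∀ h : H, (Nat.card {u : G // u * u = (h : G)} : ℂ) =
          ∑ u : G, if u * u = (h : G) then (1 : ℂ) else 0 := by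
        intro h
        rw [Nat.card_eq_fintype_card, Fintype.card_subtype, Finset.sum_boole]
      simp_rw [h1]
      rw [Finset.sum_comm, Finset.card_filter]
      push_cast
      refine Finset.sum_congr rfl fun u _ => ?_
      by_cases hu : u * u ∈ H
      · rw [if_pos hu, Finset.sum_eq_single (⟨u * u, hu⟩ : H)]
        · simp
        · intro b _ hb
          rw [if_neg]
          intro h2
          exact hb (Subtype.ext h2.symm)
        · intro h2; exact absurd (Finset.mem_univ _) h2
      · rw [if_neg hu]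
        symm
        apply Finset.sum_eq_zero
        intro b _
        rw [if_neg]
        intro h2
        exact hu (h2 ▸ b.2)
    have hexp : ∑ h : H, (Nat.card {u : G // u * u = (h : G)} : ℂ) =
        (Nat.card H : ℂ) * ∑ χ : IrrCharacter G,
          ((Nat.card G : ℂ)⁻¹ * ∑ u : G, conj ((χ : G → ℂ) (u * u))) * (N χ : ℂ) := by
      simp_rw [card_sqrt_eq_sum]
      rw [Finset.sum_comm, Finset.mul_sum]
      refine Finset.sum_congr rfl fun χ _ => ?_
      rw [← Finset.mul_sum, hsumH χ]
      ring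
    choose! r hr0 hr using hterm
    have htriv1 : ((Nat.card G : ℂ)⁻¹ * ∑ u : G, conj ((trivIrr G : G → ℂ) (u * u))) *
        (N (trivIrr G) : ℂ) = 1 := by
      rw [htrivN]
      simp only [trivIrr_apply, map_one, Finset.sum_const, Finset.card_univ, nsmul_eq_mul,
        mul_one, Nat.cast_one]
      rw [← Nat.card_eq_fintype_card]
      exact inv_mul_cancel₀ hG0
    rw [← Finset.add_sum_erase _ _ (Finset.mem_univ (trivIrr G)), htriv1] at hexp
    rw [Finset.sum_congr rfl (fun χ hχ => hr χ (Finset.ne_of_mem_erase hχ))] at hexp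
    rw [hexp] at hcount
    have hcountR : ((Finset.univ.filter (fun u : G => u * u ∈ H)).card : ℝ) =
        (Nat.card H : ℝ) * (1 + ∑ χ ∈ Finset.univ.erase (trivIrr G), r χ) := by
      exact_mod_cast hcount
    have hle : ((Finset.univ.filter (fun u : G => u * u ∈ H)).card : ℝ) ≤ (Nat.card H : ℝ) := by
      rw [hcountR]
      have h1 : ∑ χ ∈ Finset.univ.erase (trivIrr G), r χ ≤ 0 :=
        Finset.sum_nonpos (fun χ hχ => hr0 χ (Finset.ne_of_mem_erase hχ))
      have h2 : (0 : ℝ) ≤ (Nat.card H : ℝ) := Nat.cast_nonneg _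
      nlinarith
    have hle' : (Finset.univ.filter (fun u : G => u * u ∈ H)).card ≤
        (Finset.univ.filter (fun u : G => u ∈ H)).card := by
      have h1 : (Finset.univ.filter (fun u : G => u ∈ H)).card = Nat.card H := by
        rw [Nat.card_eq_fintype_card, Fintype.card_subtype]
      rw [h1]
      exact_mod_cast hle
    have hsub : Finset.univ.filter (fun u : G => u ∈ H) ⊆
        Finset.univ.filter (fun u : G => u * u ∈ H) := by
      intro u hu
      simp only [Finset.mem_filter, Finset.mem_univ, true_and] at hu ⊢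
      exact H.mul_mem hu hu
    have heq := Finset.eq_of_subset_of_card_le hsub hle'
    have hsq : ∀ u : G, u * u ∈ H → u ∈ H := by
      intro u hu
      have : u ∈ Finset.univ.filter (fun u : G => u ∈ H) := by
        rw [heq]; simp [hu]
      simpa using this
    have hsqK : ∀ u : G, u * u ∈ K → u ∈ K := by
      intro u hu b
      apply hsq
      have h1 : b * u * b⁻¹ * (b * u * b⁻¹) = b * (u * u) * b⁻¹ := by group
      rw [h1]
      exact hu b
    rw [← Nat.not_even_iff_odd, even_iff_two_dvd]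
    intro h2
    have : Fact (Nat.Prime 2) := ⟨Nat.prime_two⟩
    obtain ⟨q, hq⟩ := exists_prime_orderOf_dvd_card' (G := G ⧸ K) 2 h2
    obtain ⟨u, rfl⟩ := QuotientGroup.mk_surjective q
    have h3 : ((u * u : G) : G ⧸ K) = 1 := by
      rw [QuotientGroup.mk_mul, ← pow_two, ← hq, pow_orderOf_eq_one]
    have h4 : u ∈ K := hsqK u ((QuotientGroup.eq_one_iff _).mp h3)
    have h5 : ((u : G) : G ⧸ K) = 1 := (QuotientGroup.eq_one_iff _).mpr h4
    rw [h5, orderOf_one] at hq
    norm_num at hq
  · -- odd index implies uniqueness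
    intro hodd χ hN0 hreal hν
    -- K is in the kernel of χ
    have hker : ∀ x ∈ K, (χ : G → ℂ) x = (χ : G → ℂ) 1 := by
      by_contra hcon
      push Not at hcon
      have hz := irr_sum_mul_normal χ K hcon
      have h1 : ∀ k : K, ∑ h : H, (χ : G → ℂ) ((h : G) * (k : G)) = ∑ h : H, (χ : G → ℂ) h := by
        intro k
        exact Fintype.sum_equiv (Equiv.mulRight (⟨k, hKH k.2⟩ : H)) _ _ (fun h => rfl)
      have h2 : ∑ k : K, ∑ h : H, (χ : G → ℂ) ((h : G) * (k : G)) = 0 := by
        rw [Finset.sum_comm]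
        exact Finset.sum_eq_zero (fun h _ => hz h)
      simp only [h1, Finset.sum_const, Finset.card_univ, nsmul_eq_mul] at h2
      rw [hsumH χ] at h2
      have hK0 : (Fintype.card K : ℂ) ≠ 0 := by exact_mod_cast Fintype.card_ne_zero
      rcases mul_eq_zero.mp h2 with h | h
      · exact hK0 h
      · rcases mul_eq_zero.mp h with h | h
        · exact hH0 h
        · exact hN0 (by exact_mod_cast h)
    obtain ⟨ψ, -, hψχ⟩ := isIrrCharacter_deflation K χ.2 hker
    have hsum : ∑ g : G, (χ : G → ℂ) (g * g) = ∑ g : G, (χ : G → ℂ) g := by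
      have h1 : ∀ g : G, (χ : G → ℂ) (g * g) = ψ ((g : G ⧸ K) * (g : G ⧸ K)) := by
        intro g; rw [← hψχ]; rfl
      have h2 : ∀ g : G, (χ : G → ℂ) g = ψ (g : G ⧸ K) := fun g => (hψχ g).symm
      simp_rw [h1, h2]
      rw [sum_comp_quot K (fun q => ψ (q * q)), sum_comp_quot K ψ]
      congr 1
      apply sum_sq_eq_sum_of_odd
      rw [← Subgroup.index]; exact hodd
    by_contra hne
    rw [hsum, irr_sum_eq_zero χ hne, mul_zero] at hν
    exact zero_ne_one hν

end Cfsg.Agent.S4784
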