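import Cfsg.Statements.S4796
import Cfsg.Agent.Lib.helper82.CharInt
import Cfsg.Agent.Lib.helper82.PrimeCod

set_option autoImplicit false
open Cfsg

namespace Cfsg.Agent.S4796

open Cfsg.Agent.Lib.helper82 Module

/-- Let G be a finite group with a faithful irreducible complex character χ whose codegree #G / χ(1) is a prime p (for a faithful character the kernel is trivial, so the codegree is #G / χ(1)). Then either G is cyclic of order p, or G is a Frobenius group whose Frobenius kernel has order p: some proper non-trivial subgroup H satisfies H ∩ gHg⁻¹ = 1 for every element g outside H, and the set of elements lying in no conjugate of H, together with the identity, has exactly p elements. -/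
theorem result {G : Type*} [Group G] [Finite G] (χ : Cfsg.IrrCharacter G) (hfaith : ∀ g : G, (χ : G → ℂ) g = (χ : G → ℂ) 1 → g = 1) (p : ℕ) (hp : p.Prime) (hcod : Nat.card G = p * Cfsg.charDegree (χ : G → ℂ)) : (IsCyclic G ∧ Nat.card G = p) ∨ ∃ H : Subgroup G, Cfsg.IsFrobeniusComplement H ∧ Nat.card ↥(Cfsg.frobeniusKernel H) = p := by
  obtain ⟨χf, n, ρ, hirr, hχ⟩ := χ
  have : ρ.IsIrreducible := hirr
  have : Fact p.Prime := ⟨hp⟩
  have hfin : finrank ℂ (Fin n → ℂ) = n := by simp
  have hdeg : Cfsg.charDegree χf = n := by
    rw [← hχ, charDegree_char, hfin]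
  simp only at hcod
  rw [hdeg] at hcod
  have hn0 : 0 < n := hfin ▸ finrank_pos_of_irreducible ρ
  have hsq : n ^ 2 ≤ p * n := by
    have := finrank_sq_le_card ρ
    rwa [hfin, hcod] at this
  have hnp : n ≤ p := by nlinarith
  have hab : ∀ B : Subgroup G, (∀ a ∈ B, ∀ b ∈ B, a * b = b * a) → n ≤ B.index := by
    intro B hB
    have := finrank_le_index_of_abelian ρ B hB
    rwa [hfin] at this
  have hne : n ≠ p := by
    intro h
    have hc2 : Nat.card G = p ^ 2 := by rw [hcod, h]; ring
    have hcomm := IsPGroup.isMulCommutative_of_card_eq_prime_sq hc2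
    have h1 := hab ⊤ (fun a _ b _ => hcomm.is_comm.comm a b)
    rw [Subgroup.index_top] at h1
    have : n = 1 := by omega
    rw [this] at h
    exact hp.one_lt.ne h
  have hlt : n < p := lt_of_le_of_ne hnp hne
  by_cases hn1 : n = 1
  · left
    rw [hn1, mul_one] at hcod
    exact ⟨isCyclic_of_prime_card hcod, hcod⟩
  · right
    obtain ⟨P, hPn, hP, hPidx⟩ := exists_normal_of_card_eq_prime_mul hp hlt hcod
    have hcent := mem_of_commute_of_abelian_bound hp hcod hab P hP
    have hcop : Nat.Coprime (Nat.card P) P.index := by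
      rw [hP, hPidx]
      exact (Nat.Prime.coprime_iff_not_dvd hp).mpr (fun h => absurd (Nat.le_of_dvd hn0 h) (by omega))
    obtain ⟨K, hK⟩ := Subgroup.exists_right_complement'_of_coprime hcop
    have hKcard : Nat.card K = n := by
      have := hK.card_mul_card
      rw [hP, hcod] at this
      exact Nat.eq_of_mul_eq_mul_left hp.pos this
    have hK1 : K ≠ ⊥ := by
      rintro rfl
      rw [Subgroup.card_bot] at hKcard
      exact hn1 hKcard.symm
    obtain ⟨hfrob, hker⟩ := frobenius_of_complement hp P K hP hcent hK hK1
    refine ⟨K, hfrob, ?_⟩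
    rw [hker]
    exact hP

end Cfsg.Agent.S4796
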