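import Cfsg.Statements.S4797
import Cfsg.Agent.Lib.helper82.CharInt
import Cfsg.Agent.Lib.helper82.CharQuot
import Cfsg.Agent.Lib.helper82.PrimeCod

set_option autoImplicit false
open Cfsg

namespace Cfsg.Agent.S4797

open Cfsg.Agent.Lib.helper82 Module

/-- The codegree of an irreducible complex character χ of a finite group G is [G : ker χ] / χ(1), where ker χ is the set of elements at which χ takes the value χ(1). A non-trivial finite group is perfect if and only if no irreducible complex character of it has prime codegree. -/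
theorem result {G : Type*} [Group G] [Finite G] [Nontrivial G] : commutator G = ⊤ ↔ ∀ χ : Cfsg.IrrCharacter G, ¬ ((Nat.card G / (Nat.card {g : G // (χ : G → ℂ) g = (χ : G → ℂ) 1} * Cfsg.charDegree (χ : G → ℂ)))).Prime := by
  constructor
  · intro hperf χ hprime
    obtain ⟨χf, n, ρ, hirr, rfl⟩ := χ
    have : ρ.IsIrreducible := hirr
    simp only at hprime
    rw [card_char_eq_one_eq, charDegree_char] at hprime
    obtain ⟨c, hc⟩ := finrank_dvd_index_repKer ρ
    have hKpos : 0 < Nat.card (repKer ρ) := Nat.card_pos
    have hnpos : 0 < finrank ℂ (Fin n → ℂ) := finrank_pos_of_irreducible ρ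
    have hdiv : Nat.card G / (Nat.card (repKer ρ) * finrank ℂ (Fin n → ℂ)) = c := by
      rw [← (repKer ρ).card_mul_index, hc, ← mul_assoc]
      exact Nat.mul_div_cancel_left c (Nat.mul_pos hKpos hnpos)
    rw [hdiv] at hprime
    have hcardQ : Nat.card (G ⧸ repKer ρ) = c * finrank ℂ (Fin n → ℂ) := by
      rw [← Subgroup.index, hc, mul_comm]
    have hirrQ := quotRep_isIrreducible (repKer ρ) ρ le_rfl
    have hne := commutator_ne_top_of_card_eq_prime_mul hprime hcardQ
      (by rw [← hcardQ]; exact finrank_sq_le_card (quotRep (repKer ρ) ρ le_rfl))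
      (fun B hB => finrank_le_index_of_abelian (quotRep (repKer ρ) ρ le_rfl) B hB)
    apply hne
    rw [commutator_def, ← Subgroup.map_top_of_surjective (QuotientGroup.mk' (repKer ρ))
      (QuotientGroup.mk'_surjective _), ← Subgroup.map_commutator, ← commutator_def, hperf]
  · intro h
    by_contra hne
    obtain ⟨f, hf⟩ := exists_hom_ker_prime_index hne
    apply h ⟨fun g => (f g : ℂ), isIrrCharacter_of_hom f⟩
    have h1 : Nat.card {g : G // (f g : ℂ) = (f 1 : ℂ)} = Nat.card f.ker := by
      apply Nat.card_congr
      apply Equiv.subtypeEquivRight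
      intro g
      rw [MonoidHom.mem_ker, map_one, Units.val_one, Units.val_eq_one]
    have h2 : Cfsg.charDegree (fun g => (f g : ℂ)) = 1 := by
      simp [Cfsg.charDegree]
    show (Nat.card G / (Nat.card {g : G // (f g : ℂ) = (f 1 : ℂ)} *
      Cfsg.charDegree (fun g => (f g : ℂ)))).Prime
    rw [h1, h2, mul_one, ← f.ker.card_mul_index, Nat.mul_div_cancel_left _ Nat.card_pos]
    exact hf

end Cfsg.Agent.S4797
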