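import Cfsg.Statements.S4798
import Cfsg.Agent.Lib.helper82.CharDeg

set_option autoImplicit false
open Cfsg

namespace Cfsg.Agent.S4798

open Cfsg.Agent.Lib Cfsg.Agent.Lib.helper82 Cfsg.Agent.Lib.helper83

/-- Let p be a prime and χ a faithful irreducible complex character of the finite group G (χ(g) = χ(1) only for g = 1), so that its codegree is #G / χ(1). Then #G / χ(1) is a power of p if and only if χ is induced from a character of a Sylow p-subgroup of G. -/
theorem result {G : Type*} [Group G] [Fintype G] (p : ℕ) [Fact p.Prime] (χ : Cfsg.IrrCharacter G) (hfaith : ∀ g : G, (χ : G → ℂ) g = (χ : G → ℂ) 1 → g = 1) : (∃ k : ℕ, Nat.card G = p ^ k * Cfsg.charDegree (χ : G → ℂ)) ↔ ∃ (P : Sylow p G) (θ : ↥(P : Subgroup G) → ℂ), Cfsg.IsCharacter ↥(P : Subgroup G) θ ∧ (χ : G → ℂ) = Cfsg.indFun (P : Subgroup G) θ := by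
  classical
  have : Fintype (IrrCharacter G) := Fintype.ofFinite _
  have hp := (Fact.out : p.Prime)
  set d := charDegree (χ : G → ℂ) with hd
  have hdpos : 0 < d := irr_charDegree_pos χ
  constructor
  · rintro ⟨k, hk⟩
    obtain P : Sylow p G := default
    have : Fintype (P : Subgroup G) := Fintype.ofFinite _
    have : Fintype (IrrCharacter (P : Subgroup G)) := Fintype.ofFinite _
    have hres : IsCharacter (P : Subgroup G) (fun h : (P : Subgroup G) => (χ : G → ℂ) h) :=
      helper4.isCharacter_restrict _ (isCharacter_of_irr χ.2)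
    obtain ⟨n, hn, -, hn1⟩ := exists_nat_decomp hres
    have hd1 : d = ∑ θ : IrrCharacter (P : Subgroup G),
        n θ * charDegree (θ : ↥(P : Subgroup G) → ℂ) := by
      have h1 : (χ : G → ℂ) 1 = (d : ℂ) := irr_one_eq χ
      have h2 : (d : ℂ) = ((∑ θ : IrrCharacter (P : Subgroup G),
          n θ * charDegree (θ : ↥(P : Subgroup G) → ℂ) : ℕ) : ℂ) := by
        rw [← h1]; exact hn1
      exact_mod_cast h2
    set a := (Nat.card G).factorization p with ha
    have hPcard : Nat.card (P : Subgroup G) = p ^ a := P.card_eq_multiplicity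
    set m := (P : Subgroup G).index with hm
    have hGm : Nat.card G = m * p ^ a := by
      rw [← hPcard, mul_comm]; exact ((P : Subgroup G).card_mul_index).symm
    have hmp : ¬ p ∣ m := P.not_dvd_index
    have hka : k ≤ a :=
      (Nat.Prime.pow_dvd_iff_le_factorization hp Nat.card_pos.ne').mp ⟨d, hk⟩
    have hdm : d = m * p ^ (a - k) := by
      have h1 : p ^ k * d = p ^ k * (m * p ^ (a - k)) := by
        rw [← hk, hGm]
        have h2 : p ^ a = p ^ k * p ^ (a - k) := by rw [← pow_add]; congr 1; omega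
        rw [h2]; ring
      exact Nat.eq_of_mul_eq_mul_left (pow_pos hp.pos k) h1
    have hex : ∃ θ : IrrCharacter (P : Subgroup G), n θ ≠ 0 ∧
        ¬ p ^ (a - k + 1) ∣ charDegree (θ : ↥(P : Subgroup G) → ℂ) := by
      by_contra hcon
      push Not at hcon
      have h1 : p ^ (a - k + 1) ∣ d := by
        rw [hd1]
        apply Finset.dvd_sum
        intro θ _
        by_cases h0 : n θ = 0
        · rw [h0, zero_mul]; exact dvd_zero _
        · exact Dvd.dvd.mul_left (hcon θ h0) _
      rw [hdm, pow_succ, mul_comm m] at h1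
      exact hmp (Nat.dvd_of_mul_dvd_mul_left (pow_pos hp.pos _) h1)
    obtain ⟨θ, hθn, hθp⟩ := hex
    have hθdvd : charDegree (θ : ↥(P : Subgroup G) → ℂ) ∣ p ^ a := by
      rw [← hPcard]; exact irr_degree_dvd_card θ
    obtain ⟨c, hca, hc⟩ := (Nat.dvd_prime_pow hp).mp hθdvd
    have hcle : c ≤ a - k := by
      by_contra hcon
      push Not at hcon
      apply hθp
      rw [hc]
      exact pow_dvd_pow p hcon
    have hΘ : IsCharacter G (indFun (P : Subgroup G) (θ : ↥(P : Subgroup G) → ℂ)) :=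
      helper4.isCharacter_indFun _ (isCharacter_of_irr θ.2)
    obtain ⟨N, hN, hNg, hN1⟩ := exists_nat_decomp hΘ
    have hNχ : N χ = n θ := by
      have h1 := helper4.frobenius_reciprocity (P : Subgroup G) (θ : ↥(P : Subgroup G) → ℂ)
        (helper4.isClassFunction_of_isIrrCharacter χ.2)
      rw [hN χ, classInner_irr_char_comm θ (hn θ)] at h1
      exact_mod_cast h1
    have hdeg : m * p ^ c = ∑ ψ : IrrCharacter G, N ψ * charDegree (ψ : G → ℂ) := by
      have h1 := helper4.indFun_one (P : Subgroup G) (θ : ↥(P : Subgroup G) → ℂ)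
      rw [hN1, irr_one_eq θ, hc] at h1
      exact_mod_cast h1.symm
    have hle : m * p ^ c ≤ d := by
      rw [hdm]; exact Nat.mul_le_mul_left m (Nat.pow_le_pow_right hp.pos hcle)
    rw [hdeg, ← Finset.add_sum_erase _ _ (Finset.mem_univ χ)] at hle
    have hNχ1 : N χ = 1 := by
      have h1 : N χ * d ≤ d := le_trans (Nat.le_add_right _ _) hle
      have h2 : 1 ≤ N χ := by rw [hNχ]; exact Nat.one_le_iff_ne_zero.mpr hθn
      nlinarith
    have hrest : ∀ ψ ∈ Finset.univ.erase χ, N ψ = 0 := by
      rw [hNχ1, one_mul] at hle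
      have h0 : ∑ ψ ∈ Finset.univ.erase χ, N ψ * charDegree (ψ : G → ℂ) = 0 := by omega
      intro ψ hψ
      have h1 := (Finset.sum_eq_zero_iff.mp h0) ψ hψ
      rcases Nat.mul_eq_zero.mp h1 with h | h
      · exact h
      · exact absurd h (irr_charDegree_pos ψ).ne'
    refine ⟨P, θ, isCharacter_of_irr θ.2, ?_⟩
    funext g
    rw [hNg g, ← Finset.add_sum_erase _ _ (Finset.mem_univ χ), hNχ1]
    rw [Finset.sum_eq_zero (fun ψ hψ => by rw [hrest ψ hψ]; simp)]
    simp
  · rintro ⟨P, θ, hθ, hχθ⟩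
    have : Fintype (P : Subgroup G) := Fintype.ofFinite _
    have : Fintype (IrrCharacter (P : Subgroup G)) := Fintype.ofFinite _
    obtain ⟨n, hn, hng, hn1⟩ := exists_nat_decomp hθ
    have h1 : classInner θ (fun h : (P : Subgroup G) => (χ : G → ℂ) h) = 1 := by
      rw [← helper4.frobenius_reciprocity (P : Subgroup G) θ
        (helper4.isClassFunction_of_isIrrCharacter χ.2), ← hχθ]
      exact helper4.classInner_irr_self χ.2
    have hres : IsCharacter (P : Subgroup G) (fun h : (P : Subgroup G) => (χ : G → ℂ) h) :=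
      helper4.isCharacter_restrict _ (isCharacter_of_irr χ.2)
    obtain ⟨mm, hmm, -, -⟩ := exists_nat_decomp hres
    have h2 : (1 : ℂ) = ((∑ η : IrrCharacter (P : Subgroup G), n η * mm η : ℕ) : ℂ) := by
      rw [← h1]
      have hθeq : θ = ∑ η : IrrCharacter (P : Subgroup G),
          (n η : ℂ) • (η : ↥(P : Subgroup G) → ℂ) := by
        funext g; rw [hng g, Finset.sum_apply]; simp
      rw [hθeq, helper4.classInner_sum_left]
      push_cast
      refine Finset.sum_congr rfl fun η _ => ?_
      rw [helper4.classInner_smul_left, classInner_irr_char_comm η (hmm η)]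
    have h3 : ∑ η : IrrCharacter (P : Subgroup G), n η * mm η = 1 := by exact_mod_cast h2.symm
    obtain ⟨η₀, -, hη₀⟩ : ∃ η ∈ Finset.univ, n η * mm η ≠ 0 :=
      Finset.exists_ne_zero_of_sum_ne_zero (by rw [h3]; exact one_ne_zero)
    have hnη : n η₀ ≠ 0 := left_ne_zero_of_mul hη₀
    have hmη : mm η₀ ≠ 0 := right_ne_zero_of_mul hη₀
    have hΘ : IsCharacter G (indFun (P : Subgroup G) (η₀ : ↥(P : Subgroup G) → ℂ)) :=
      helper4.isCharacter_indFun _ (isCharacter_of_irr η₀.2)
    obtain ⟨N, hN, -, hN1⟩ := exists_nat_decomp hΘ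
    have hNχ : N χ = mm η₀ := by
      have h1 := helper4.frobenius_reciprocity (P : Subgroup G) (η₀ : ↥(P : Subgroup G) → ℂ)
        (helper4.isClassFunction_of_isIrrCharacter χ.2)
      rw [hN χ, classInner_irr_char_comm η₀ (hmm η₀)] at h1
      exact_mod_cast h1
    set m := (P : Subgroup G).index with hm
    have hdeg : m * charDegree (η₀ : ↥(P : Subgroup G) → ℂ) =
        ∑ ψ : IrrCharacter G, N ψ * charDegree (ψ : G → ℂ) := by
      have h1 := helper4.indFun_one (P : Subgroup G) (η₀ : ↥(P : Subgroup G) → ℂ)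
      rw [hN1, irr_one_eq η₀] at h1
      exact_mod_cast h1.symm
    have hge : d ≤ m * charDegree (η₀ : ↥(P : Subgroup G) → ℂ) := by
      rw [hdeg, ← Finset.add_sum_erase _ _ (Finset.mem_univ χ), hNχ]
      have h4 : 1 ≤ mm η₀ := Nat.one_le_iff_ne_zero.mpr hmη
      nlinarith [Nat.zero_le (∑ ψ ∈ Finset.univ.erase χ, N ψ * charDegree (ψ : G → ℂ))]
    have hdθ : d = m * ∑ η : IrrCharacter (P : Subgroup G),
        n η * charDegree (η : ↥(P : Subgroup G) → ℂ) := by
      have h1 := helper4.indFun_one (P : Subgroup G) θ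
      rw [← hχθ, irr_one_eq χ, hn1] at h1
      exact_mod_cast h1
    have hsum_ge : charDegree (η₀ : ↥(P : Subgroup G) → ℂ) ≤
        ∑ η : IrrCharacter (P : Subgroup G), n η * charDegree (η : ↥(P : Subgroup G) → ℂ) := by
      rw [← Finset.add_sum_erase _ _ (Finset.mem_univ η₀)]
      have h4 : 1 ≤ n η₀ := Nat.one_le_iff_ne_zero.mpr hnη
      nlinarith [Nat.zero_le (∑ η ∈ Finset.univ.erase η₀,
        n η * charDegree (η : ↥(P : Subgroup G) → ℂ))]
    have hdeq : d = m * charDegree (η₀ : ↥(P : Subgroup G) → ℂ) := by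
      apply le_antisymm hge
      rw [hdθ]; exact Nat.mul_le_mul_left m hsum_ge
    obtain ⟨e, he⟩ := irr_degree_dvd_card η₀
    have hPcard : Nat.card (P : Subgroup G) = p ^ (Nat.card G).factorization p :=
      P.card_eq_multiplicity
    have hedvd : e ∣ p ^ (Nat.card G).factorization p := by
      rw [← hPcard, he]; exact Dvd.intro_left _ rfl
    obtain ⟨k, -, hk⟩ := (Nat.dvd_prime_pow hp).mp hedvd
    refine ⟨k, ?_⟩
    rw [← (P : Subgroup G).card_mul_index, he, hdeq, ← hk]; ring

end Cfsg.Agent.S4798
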