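import Cfsg.Statements.S4801
import Cfsg.Agent.Lib.helper82.CharInt
import Cfsg.Agent.Lib.helper82.CharQuot
import Cfsg.Agent.Lib.helper83.CharBasic
import Cfsg.Agent.Lib.helper83.CharBasic2

set_option autoImplicit false
open Cfsg

namespace Cfsg.Agent.S4801

open Cfsg.Agent.Lib.helper82 Cfsg.Agent.Lib.helper83 Module

/-- In a finite group, for a prime `p` dividing the order there is a nontrivial irreducible
character of degree prime to `p`. -/
theorem exists_irr_not_dvd {S : Type*} [Group S] [Finite S] (p : ℕ) (hp : p.Prime)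
    (hpS : p ∣ Nat.card S) :
    ∃ χ : IrrCharacter S, χ ≠ trivIrr S ∧ ¬ p ∣ charDegree (χ : S → ℂ) := by
  classical
  by_contra hcon
  push Not at hcon
  have := Fintype.ofFinite (IrrCharacter S)
  have hsum := sum_charDegree_sq (G := S)
  rw [finsum_eq_sum_of_fintype] at hsum
  rw [← Finset.add_sum_erase _ _ (Finset.mem_univ (trivIrr S))] at hsum
  have h1 : charDegree (trivIrr S : S → ℂ) = 1 := by simp [charDegree]
  have h2 : p ∣ ∑ χ ∈ Finset.univ.erase (trivIrr S), charDegree (χ : S → ℂ) ^ 2 :=
    Finset.dvd_sum (fun χ hχ => dvd_pow (hcon χ (Finset.ne_of_mem_erase hχ)) two_ne_zero)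
  rw [h1, one_pow] at hsum
  rw [← hsum] at hpS
  have h3 : p ∣ 1 := (Nat.dvd_add_left h2).mp hpS
  exact hp.one_lt.ne' (Nat.dvd_one.mp h3)

/-- The codegree of an irreducible complex character χ of a finite group G is [G : ker χ] / χ(1), where ker χ is the set of elements at which χ takes the value χ(1). Let S be a finite simple group and G a finite group such that every codegree of an irreducible character of S is a codegree of an irreducible character of G. Then the order of S divides the order of G. -/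
theorem result {S : Type*} [Group S] [Finite S] (hS : IsSimpleGroup S) {G : Type*} [Group G] [Finite G] (hsub : ∀ χ : Cfsg.IrrCharacter S, ∃ ψ : Cfsg.IrrCharacter G, (Nat.card S / (Nat.card {g : S // (χ : S → ℂ) g = (χ : S → ℂ) 1} * Cfsg.charDegree (χ : S → ℂ))) = (Nat.card G / (Nat.card {g : G // (ψ : G → ℂ) g = (ψ : G → ℂ) 1} * Cfsg.charDegree (ψ : G → ℂ)))) : Nat.card S ∣ Nat.card G := by
  classical
  rw [Nat.dvd_iff_prime_pow_dvd_dvd]
  intro p k hp hpk
  rcases Nat.eq_zero_or_pos k with rfl | hk
  · simp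
  have hpS : p ∣ Nat.card S := dvd_trans (dvd_pow_self p hk.ne') hpk
  obtain ⟨χ, hχne, hχp⟩ := exists_irr_not_dvd p hp hpS
  obtain ⟨ψ, hψ⟩ := hsub χ
  -- the kernel of χ is trivial
  obtain ⟨K, hKn, hK⟩ := exists_ker_of_isCharacter (isCharacter_of_irr χ.2)
  have hKbot : K = ⊥ := by
    rcases hKn.eq_bot_or_eq_top with h | h
    · exact h
    · exfalso
      apply hχne
      have := Fintype.ofFinite S
      have horth := irr_orthogonality' χ (trivIrr S)
      by_contra hne
      rw [if_neg hne] at horth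
      have hall : ∀ g : S, (χ : S → ℂ) g = (χ : S → ℂ) 1 := fun g =>
        (hK g).mp (h ▸ Subgroup.mem_top g)
      simp only [hall, trivIrr_apply, map_one, mul_one, Finset.sum_const, Finset.card_univ,
        nsmul_eq_mul, mul_eq_zero] at horth
      rcases horth with h0 | h0
      · have : Fintype.card S ≠ 0 := Fintype.card_ne_zero
        exact this (by exact_mod_cast h0)
      · exact irr_one_ne_zero χ h0
  have hker : Nat.card {g : S // (χ : S → ℂ) g = (χ : S → ℂ) 1} = 1 := by
    rw [← Nat.card_congr (Equiv.subtypeEquivRight hK), hKbot, Subgroup.card_bot]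
  rw [hker, one_mul] at hψ
  obtain ⟨c, hc⟩ := irr_degree_dvd_card χ
  have hdpos : 0 < charDegree (χ : S → ℂ) := charDegree_pos χ
  rw [hc, Nat.mul_div_cancel_left c hdpos] at hψ
  have hcop : Nat.Coprime (p ^ k) (charDegree (χ : S → ℂ)) :=
    Nat.Coprime.pow_left k ((Nat.Prime.coprime_iff_not_dvd hp).mpr hχp)
  have hpc : p ^ k ∣ c := by
    rw [hc] at hpk
    exact hcop.dvd_of_dvd_mul_left hpk
  rw [hψ] at hpc
  exact dvd_trans hpc (Nat.div_dvd_of_dvd (irr_card_ker_mul_degree_dvd ψ))

end Cfsg.Agent.S4801
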