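import Cfsg.Statements.S4802
import Cfsg.Agent.Lib.helper82.CharNormal

set_option autoImplicit false
open Cfsg

namespace Cfsg.Agent.S4802

open Cfsg.Agent.Lib.helper82 Cfsg.Agent.Lib.helper83
open scoped ComplexConjugate

/-- Let N < M be normal subgroups of the finite group G and g ∈ M ∖ N. Then the conjugacy class of g is exactly M ∖ N if and only if every irreducible complex character of G whose kernel contains N takes the same value at all elements of M ∖ N, and every irreducible complex character of G whose kernel does not contain N vanishes at g. -/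
theorem result {G : Type*} [Group G] [Finite G] (N M : Subgroup G) [N.Normal] [M.Normal] (hNM : N < M) (g : G) (hgM : g ∈ M) (hgN : g ∉ N) : {h : G | IsConj g h} = (M : Set G) \ (N : Set G) ↔ ((∀ χ : Cfsg.IrrCharacter G, (∀ x ∈ N, (χ : G → ℂ) x = (χ : G → ℂ) 1) → ∀ x ∈ M, x ∉ N → ∀ y ∈ M, y ∉ N → (χ : G → ℂ) x = (χ : G → ℂ) y) ∧ (∀ χ : Cfsg.IrrCharacter G, (∃ x ∈ N, (χ : G → ℂ) x ≠ (χ : G → ℂ) 1) → (χ : G → ℂ) g = 0)) := by
  classical
  have := Fintype.ofFinite G
  have : Fintype (IrrCharacter G) := Fintype.ofFinite _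
  constructor
  · intro hcl
    have hconj : ∀ x ∈ M, x ∉ N → IsConj g x := by
      intro x hxM hxN
      have : x ∈ {h : G | IsConj g h} := by rw [hcl]; exact ⟨hxM, hxN⟩
      exact this
    refine ⟨?_, ?_⟩
    · intro χ _ x hxM hxN y hyM hyN
      rw [← (isConj_iff_forall_irr_eq.mp (hconj x hxM hxN)) χ,
        ← (isConj_iff_forall_irr_eq.mp (hconj y hyM hyN)) χ]
    · intro χ hχ
      have hsum := irr_sum_mul_normal χ N hχ g
      have h1 : ∀ n : N, (χ : G → ℂ) (g * (n : G)) = (χ : G → ℂ) g := by
        intro n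
        have hgn : IsConj g (g * (n : G)) := by
          refine hconj _ (M.mul_mem hgM (hNM.le n.2)) (fun hc => hgN ?_)
          have := N.mul_mem hc (N.inv_mem n.2)
          simpa using this
        exact ((isConj_iff_forall_irr_eq.mp hgn) χ).symm
      simp only [h1] at hsum
      rw [Finset.sum_const, Finset.card_univ, nsmul_eq_mul] at hsum
      have : (Fintype.card N : ℂ) ≠ 0 := by exact_mod_cast Fintype.card_ne_zero
      exact (mul_eq_zero.mp hsum).resolve_left this
  · rintro ⟨hA, hB⟩
    ext z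
    simp only [Set.mem_ofPred_eq, Set.mem_sdiff, SetLike.mem_coe]
    constructor
    · intro hc
      obtain ⟨c, rfl⟩ := isConj_iff.mp hc
      refine ⟨‹M.Normal›.conj_mem g hgM c, fun hz => hgN ?_⟩
      have := ‹N.Normal›.conj_mem _ hz c⁻¹
      simpa [mul_assoc] using this
    · rintro ⟨hzM, hzN⟩
      by_contra hnc
      have hso := second_orthogonality_of_not_isConj (G := G) hnc
      have hterm : ∀ χ : IrrCharacter G, (χ : G → ℂ) g * conj ((χ : G → ℂ) z) =
          ((‖(χ : G → ℂ) g‖ ^ 2 : ℝ) : ℂ) := by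
        intro χ
        by_cases hχ : ∀ x ∈ N, (χ : G → ℂ) x = (χ : G → ℂ) 1
        · rw [← hA χ hχ g hgM hgN z hzM hzN, Complex.mul_conj, Complex.normSq_eq_norm_sq]
        · push Not at hχ
          rw [hB χ hχ]; simp
      simp only [hterm] at hso
      have hso' : ∑ χ : IrrCharacter G, ‖(χ : G → ℂ) g‖ ^ 2 = 0 := by exact_mod_cast hso
      have := (Finset.sum_eq_zero_iff_of_nonneg (fun χ _ => sq_nonneg _)).mp hso' (trivIrr G)
        (Finset.mem_univ _)
      simp at this

end Cfsg.Agent.S4802
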