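import Cfsg.Statements.S4808
import Cfsg.Agent.Lib.helper82.CharNormal

set_option autoImplicit false
open Cfsg

namespace Cfsg.Agent.S4808

open Cfsg.Agent.Lib.helper82 Cfsg.Agent.Lib.helper83

universe u

section aux

variable {G : Type u} [Group G] [Finite G]

/-- The codegree expressed through the index of the kernel. -/
theorem cod_eq_index_div (χ : IrrCharacter G) (K : Subgroup G)
    (hK : ∀ g, g ∈ K ↔ (χ : G → ℂ) g = (χ : G → ℂ) 1) :
    Nat.card G / (Nat.card {g : G // (χ : G → ℂ) g = (χ : G → ℂ) 1} * charDegree (χ : G → ℂ)) =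
      K.index / charDegree (χ : G → ℂ) := by
  rw [← Nat.card_congr (Equiv.subtypeEquivRight hK), ← K.card_mul_index]
  exact Nat.mul_div_mul_left _ _ Nat.card_pos

/-- The sum of the squares of the degrees of the irreducible characters with `N` in their
kernel is the index of `N`. -/
theorem sum_sq_degree_quot (N : Subgroup G) [N.Normal] [Fintype (IrrCharacter G)]
    [DecidablePred fun χ : IrrCharacter G => ∀ x ∈ N, (χ : G → ℂ) x = (χ : G → ℂ) 1] :
    ∑ χ ∈ Finset.univ.filter (fun χ : IrrCharacter G => ∀ x ∈ N, (χ : G → ℂ) x = (χ : G → ℂ) 1),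
      charDegree (χ : G → ℂ) ^ 2 = N.index := by
  classical
  have : Fintype (IrrCharacter (G ⧸ N)) := Fintype.ofFinite _
  have h1 := sum_charDegree_sq (G := G ⧸ N)
  rw [finsum_eq_sum_of_fintype] at h1
  rw [Subgroup.index, ← h1]
  rw [Finset.sum_subtype (p := fun χ : IrrCharacter G => ∀ x ∈ N, (χ : G → ℂ) x = (χ : G → ℂ) 1)
    _ (fun χ => by simp)]
  refine Fintype.sum_equiv (irrQuotEquiv N) _ _ (fun χ => ?_)
  have h2 := irrQuotEquiv_apply N χ 1
  simp only [charDegree]
  rw [← h2]
  rfl

/-- Existence of a codegree divisible by `p`, by induction on the group order. -/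
theorem exists_cod_dvd (p : ℕ) (hp : p.Prime) :
    ∀ (n : ℕ) (G : Type u) [Group G] [Finite G], Nat.card G = n → p ∣ n →
      ∃ χ : IrrCharacter G, p ∣ Nat.card G /
        (Nat.card {g : G // (χ : G → ℂ) g = (χ : G → ℂ) 1} * charDegree (χ : G → ℂ)) := by
  intro n
  induction n using Nat.strong_induction_on with
  | _ n ih =>
    intro G _ _ hn hpn
    classical
    by_contra hcon
    push Not at hcon
    have : Fintype (IrrCharacter G) := Fintype.ofFinite _
    have : Fact p.Prime := ⟨hp⟩
    have hker : ∀ χ : IrrCharacter G, ∃ K : Subgroup G, K.Normal ∧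
        ∀ g, g ∈ K ↔ (χ : G → ℂ) g = (χ : G → ℂ) 1 :=
      fun χ => exists_ker_of_isCharacter (isCharacter_of_irr χ.2)
    choose K hKn hK using hker
    -- a nontrivial kernel has index prime to p (else use induction)
    have hA : ∀ χ : IrrCharacter G, K χ ≠ ⊥ → ¬ p ∣ (K χ).index := by
      intro χ hne hdvd
      have := hKn χ
      have hlt : Nat.card (G ⧸ K χ) < n := by
        rw [← hn, ← Subgroup.index, ← (K χ).card_mul_index]
        have h1 : 1 < Nat.card (K χ) := (Subgroup.one_lt_card_iff_ne_bot _).mpr hne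
        have h2 : 0 < (K χ).index := Nat.pos_of_ne_zero (Subgroup.index_ne_zero_of_finite)
        nlinarith
      obtain ⟨ψ, hψ⟩ := ih _ hlt (G ⧸ K χ) rfl (by rw [← Subgroup.index]; exact hdvd)
      obtain ⟨L, hLn, hL⟩ := exists_ker_of_isCharacter (isCharacter_of_irr ψ.2)
      apply hcon (irrInfl (K χ) ψ).1
      have hK' : ∀ g, g ∈ L.comap (QuotientGroup.mk' (K χ)) ↔
          ((irrInfl (K χ) ψ).1 : G → ℂ) g = ((irrInfl (K χ) ψ).1 : G → ℂ) 1 := by
        intro g
        rw [Subgroup.mem_comap, hL]
        rfl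
      rw [cod_eq_index_div _ _ hK',
        Subgroup.index_comap_of_surjective _ (QuotientGroup.mk'_surjective _)]
      rw [cod_eq_index_div ψ L hL] at hψ
      exact hψ
    obtain P : Sylow p G := default
    have hPne : (P : Subgroup G) ≠ ⊥ := by
      intro h
      have h1 := P.not_dvd_index
      rw [h, Subgroup.index_bot, hn] at h1
      exact h1 hpn
    have hPK : ∀ χ : IrrCharacter G, K χ ≠ ⊥ → (P : Subgroup G) ≤ K χ := by
      intro χ hne
      have := hKn χ
      have h1 : IsPGroup p ((P : Subgroup G).map (QuotientGroup.mk' (K χ))) := P.isPGroup'.map _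
      have h2 : Nat.card ((P : Subgroup G).map (QuotientGroup.mk' (K χ))) ∣ (K χ).index := by
        rw [Subgroup.index]; exact Subgroup.card_subgroup_dvd_card _
      obtain ⟨k, hk⟩ := IsPGroup.iff_card.mp h1
      have hk0 : k = 0 := by
        by_contra hk0
        apply hA χ hne
        exact dvd_trans (dvd_pow_self p hk0) (hk ▸ h2)
      rw [hk0, pow_zero] at hk
      have h3 : (P : Subgroup G).map (QuotientGroup.mk' (K χ)) = ⊥ := Subgroup.eq_bot_of_card_eq _ hk
      intro x hx
      have hx' : (QuotientGroup.mk' (K χ)) x ∈ (P : Subgroup G).map (QuotientGroup.mk' (K χ)) :=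
        Subgroup.mem_map_of_mem _ hx
      rw [h3, Subgroup.mem_bot] at hx'
      exact (QuotientGroup.eq_one_iff x).mp hx'
    have hfaith : ∀ χ : IrrCharacter G, K χ = ⊥ → p ∣ charDegree (χ : G → ℂ) := by
      intro χ hbot
      have h1 := hcon χ
      rw [cod_eq_index_div χ (K χ) (hK χ), hbot, Subgroup.index_bot] at h1
      obtain ⟨c, hc⟩ := irr_degree_dvd_card χ
      rw [hc, Nat.mul_div_cancel_left c (irr_charDegree_pos χ)] at h1
      have h2 : p ∣ charDegree (χ : G → ℂ) * c := by rw [← hc, hn]; exact hpn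
      exact (hp.dvd_mul.mp h2).resolve_right h1
    let N : Subgroup G := Subgroup.normalClosure (P : Set G)
    have hPN : (P : Subgroup G) ≤ N := Subgroup.le_normalClosure
    have hNK : ∀ χ : IrrCharacter G,
        (∀ x ∈ N, (χ : G → ℂ) x = (χ : G → ℂ) 1) ↔ K χ ≠ ⊥ := by
      intro χ
      constructor
      · intro h hbot
        apply hPne
        rw [eq_bot_iff, ← hbot]
        intro x hx
        exact (hK χ x).mpr (h x (hPN hx))
      · intro hne x hx
        have := hKn χ
        have hle : N ≤ K χ := Subgroup.normalClosure_le_normal (hPK χ hne)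
        exact (hK χ x).mp (hle hx)
    have hsq := sum_charDegree_sq (G := G)
    rw [finsum_eq_sum_of_fintype] at hsq
    rw [← Finset.sum_filter_add_sum_filter_not Finset.univ
      (fun χ : IrrCharacter G => ∀ x ∈ N, (χ : G → ℂ) x = (χ : G → ℂ) 1),
      sum_sq_degree_quot N] at hsq
    have h2 : p ∣ ∑ χ ∈ Finset.univ.filter
        (fun χ : IrrCharacter G => ¬ ∀ x ∈ N, (χ : G → ℂ) x = (χ : G → ℂ) 1),
        charDegree (χ : G → ℂ) ^ 2 := by
      apply Finset.dvd_sum
      intro χ hχ
      have hχ' := (Finset.mem_filter.mp hχ).2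
      rw [hNK] at hχ'
      push Not at hχ'
      exact dvd_pow (hfaith χ hχ') two_ne_zero
    have h3 : p ∣ N.index := by
      have h4 : p ∣ N.index + ∑ χ ∈ Finset.univ.filter
          (fun χ : IrrCharacter G => ¬ ∀ x ∈ N, (χ : G → ℂ) x = (χ : G → ℂ) 1),
          charDegree (χ : G → ℂ) ^ 2 := by rw [hsq, hn]; exact hpn
      exact (Nat.dvd_add_left h2).mp h4
    exact P.not_dvd_index (dvd_trans h3 (Subgroup.index_dvd_of_le hPN))

end aux

/-- The codegree of an irreducible complex character χ of a finite group G is [G : ker χ] / χ(1), where ker χ is the set of elements at which χ takes the value χ(1). A prime divides the order of G if and only if it divides the codegree of some irreducible complex character of G. -/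
theorem result {G : Type*} [Group G] [Finite G] (p : ℕ) (hp : p.Prime) : p ∣ Nat.card G ↔ ∃ χ : Cfsg.IrrCharacter G, p ∣ (Nat.card G / (Nat.card {g : G // (χ : G → ℂ) g = (χ : G → ℂ) 1} * Cfsg.charDegree (χ : G → ℂ))) := by
  constructor
  · intro h
    exact exists_cod_dvd p hp _ G rfl h
  · rintro ⟨χ, hχ⟩
    exact dvd_trans hχ (Nat.div_dvd_of_dvd (irr_card_ker_mul_degree_dvd χ))

end Cfsg.Agent.S4808
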