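import Cfsg.Statements.S4814
import Cfsg.Agent.Lib.helper82.CharInt
import Cfsg.Agent.Lib.helper82.CharSums
import Cfsg.Agent.Lib.helper83.CharBasic
import Cfsg.Agent.Lib.helper83.CharBasic2

set_option autoImplicit false
open Cfsg

namespace Cfsg.Agent.S4814

open Cfsg.Agent.Lib.helper82 Cfsg.Agent.Lib.helper83
open scoped ComplexConjugate

/-- Let G be a finite group such that the sum, over the irreducible complex characters χ of G, of 1/χ(1)² is less than 2. Then every element of G is a product of two commutators. -/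
theorem result {G : Type*} [Group G] [Finite G]
    (h : ∑ᶠ χ : Cfsg.IrrCharacter G, 1 / ‖(χ : G → ℂ) 1‖ ^ 2 < (2 : ℝ)) (g : G) :
    ∃ a b c d : G, (a * b * a⁻¹ * b⁻¹) * (c * d * c⁻¹ * d⁻¹) = g := by
  classical
  have := Fintype.ofFinite G
  have := Fintype.ofFinite (IrrCharacter G)
  by_contra hcon
  push Not at hcon
  have hNpos : (0 : ℝ) < (Nat.card G : ℝ) := by exact_mod_cast Nat.card_pos
  have hN0 : (Nat.card G : ℂ) ≠ 0 := by exact_mod_cast Nat.card_pos.ne'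
  -- column orthogonality against the identity
  have hzero : ∀ a b c d : G, ∑ χ : IrrCharacter G,
      (χ : G → ℂ) (g⁻¹ * (a * b * a⁻¹ * b⁻¹) * (c * d * c⁻¹ * d⁻¹)) * (χ : G → ℂ) 1 = 0 := by
    intro a b c d
    have hne : ¬ IsConj (g⁻¹ * (a * b * a⁻¹ * b⁻¹) * (c * d * c⁻¹ * d⁻¹)) 1 := by
      rw [isConj_one_left]
      intro h1
      apply hcon a b c d
      have := congrArg (fun t => g * t) h1
      simpa [mul_assoc] using this
    have h2 := second_orthogonality_of_not_isConj hne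
    rw [← h2]
    refine Finset.sum_congr rfl (fun χ _ => ?_)
    rw [irr_one_eq χ]; simp
  have hsum : ∑ χ : IrrCharacter G, (χ : G → ℂ) 1 *
      ∑ a : G, ∑ b : G, ∑ c : G, ∑ d : G,
        (χ : G → ℂ) (g⁻¹ * (a * b * a⁻¹ * b⁻¹) * (c * d * c⁻¹ * d⁻¹)) = 0 := by
    simp only [Finset.mul_sum]
    rw [Finset.sum_comm]
    apply Finset.sum_eq_zero; intro a _
    rw [Finset.sum_comm]
    apply Finset.sum_eq_zero; intro b _
    rw [Finset.sum_comm]
    apply Finset.sum_eq_zero; intro c _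
    rw [Finset.sum_comm]
    apply Finset.sum_eq_zero; intro d _
    rw [← hzero a b c d]
    refine Finset.sum_congr rfl (fun χ _ => ?_)
    ring
  -- hence ∑ χ(g⁻¹) / χ(1)^3 = 0
  have hs : ∑ χ : IrrCharacter G,
      (χ : G → ℂ) g⁻¹ / ((charDegree (χ : G → ℂ) : ℂ)) ^ 3 = 0 := by
    have h3 : ∑ χ : IrrCharacter G, (χ : G → ℂ) 1 *
        ∑ a : G, ∑ b : G, ∑ c : G, ∑ d : G,
          (χ : G → ℂ) (g⁻¹ * (a * b * a⁻¹ * b⁻¹) * (c * d * c⁻¹ * d⁻¹)) =
        (Nat.card G : ℂ) ^ 4 * ∑ χ : IrrCharacter G,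
          (χ : G → ℂ) g⁻¹ / ((charDegree (χ : G → ℂ) : ℂ)) ^ 3 := by
      rw [Finset.mul_sum]
      refine Finset.sum_congr rfl (fun χ _ => ?_)
      rw [irr_sum_two_commutators χ g⁻¹, irr_one_eq χ]
      have hd : (charDegree (χ : G → ℂ) : ℂ) ≠ 0 := by
        exact_mod_cast (irr_charDegree_pos χ).ne'
      field_simp
    rw [hsum] at h3
    have h4 := mul_eq_zero.mp h3.symm
    rcases h4 with h4 | h4
    · exact absurd (pow_eq_zero_iff (by norm_num) |>.mp h4) hN0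
    · exact h4
  -- real parts
  have hre : ∑ χ : IrrCharacter G,
      ((χ : G → ℂ) g⁻¹ / ((charDegree (χ : G → ℂ) : ℂ)) ^ 3).re = 0 := by
    rw [← Complex.re_sum, hs]; rfl
  rw [finsum_eq_sum_of_fintype] at h
  have hterm : ∀ χ : IrrCharacter G, (0 : ℝ) ≤
      ((χ : G → ℂ) g⁻¹ / ((charDegree (χ : G → ℂ) : ℂ)) ^ 3).re +
        1 / ‖(χ : G → ℂ) 1‖ ^ 2 := by
    intro χ
    have hd : (0 : ℝ) < (charDegree (χ : G → ℂ) : ℝ) := by
      exact_mod_cast irr_charDegree_pos χ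
    have h1 : ‖(χ : G → ℂ) 1‖ = (charDegree (χ : G → ℂ) : ℝ) := by
      rw [irr_one_eq χ]; simp
    rw [h1]
    have h2 : ((χ : G → ℂ) g⁻¹ / ((charDegree (χ : G → ℂ) : ℂ)) ^ 3).re =
        ((χ : G → ℂ) g⁻¹).re / (charDegree (χ : G → ℂ) : ℝ) ^ 3 := by
      have : ((charDegree (χ : G → ℂ) : ℂ)) ^ 3 = (((charDegree (χ : G → ℂ) : ℝ) ^ 3 : ℝ) : ℂ) := by
        push_cast; rfl
      rw [this, Complex.div_ofReal_re]
    rw [h2]
    have h3 : -(charDegree (χ : G → ℂ) : ℝ) ≤ ((χ : G → ℂ) g⁻¹).re := by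
      have := irr_norm_le χ g⁻¹
      have h4 := Complex.abs_re_le_norm ((χ : G → ℂ) g⁻¹)
      have h5 := neg_abs_le ((χ : G → ℂ) g⁻¹).re
      linarith
    have h6 : -(1 / (charDegree (χ : G → ℂ) : ℝ) ^ 2) ≤
        ((χ : G → ℂ) g⁻¹).re / (charDegree (χ : G → ℂ) : ℝ) ^ 3 := by
      rw [le_div_iff₀ (by positivity)]
      have : -(1 / (charDegree (χ : G → ℂ) : ℝ) ^ 2) * (charDegree (χ : G → ℂ) : ℝ) ^ 3 =
          -(charDegree (χ : G → ℂ) : ℝ) := by
        field_simp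
      rw [this]; exact h3
    linarith
  have htriv : ((trivIrr G : G → ℂ) g⁻¹ / ((charDegree (trivIrr G : G → ℂ) : ℂ)) ^ 3).re +
      1 / ‖(trivIrr G : G → ℂ) 1‖ ^ 2 = 2 := by
    have : charDegree (trivIrr G : G → ℂ) = 1 := by simp [charDegree]
    rw [this]
    simp
    norm_num
  have hge : (2 : ℝ) ≤ ∑ χ : IrrCharacter G,
      (((χ : G → ℂ) g⁻¹ / ((charDegree (χ : G → ℂ) : ℂ)) ^ 3).re +
        1 / ‖(χ : G → ℂ) 1‖ ^ 2) := by
    rw [← htriv]
    exact Finset.single_le_sum (f := fun χ : IrrCharacter G =>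
      ((χ : G → ℂ) g⁻¹ / ((charDegree (χ : G → ℂ) : ℂ)) ^ 3).re + 1 / ‖(χ : G → ℂ) 1‖ ^ 2)
      (fun χ _ => hterm χ) (Finset.mem_univ (trivIrr G))
  rw [Finset.sum_add_distrib, hre, zero_add] at hge
  linarith

end Cfsg.Agent.S4814
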