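import Cfsg.Statements.S4825
import Cfsg.Agent.Lib.helper80.OverTheta

set_option autoImplicit false
open Cfsg

namespace Cfsg.Agent.S4825
open Cfsg.Agent.Lib.helper80 in

/-- Let p be a prime, G a finite group with Sylow p-subgroup P, M a maximal ideal of the algebraic integers containing p, and B a p-block of G with defect group P. Let N be a normal subgroup of G not containing P and θ an irreducible character of N. Then the number of irreducible characters in B of degree prime to p lying over θ (having θ as a constituent on restriction to N) is either 0 or at least 2, and when p ≤ 3 it is divisible by p. -/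
theorem result {G : Type*} [Group G] [Fintype G] (p : ℕ) [Fact p.Prime] (P : Sylow p G) (M : Ideal Cfsg.AlgInt) (hM : Cfsg.IsPModular p M) (B : Set (Cfsg.IrrCharacter G)) (hB : Cfsg.IsPBlock M B) (hBP : Cfsg.IsDefectGroup p M B P) (N : Subgroup G) [N.Normal] [Fintype N] (hPN : ¬ (P : Subgroup G) ≤ N) (θ : Cfsg.IrrCharacter N) :
    (Nat.card {χ : Cfsg.IrrCharacter G // χ ∈ B ∧ ¬ p ∣ Cfsg.charDegree (χ : G → ℂ) ∧ Cfsg.classInner (fun n : N => (χ : G → ℂ) n) (θ : N → ℂ) ≠ 0} = 0 ∨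
      2 ≤ Nat.card {χ : Cfsg.IrrCharacter G // χ ∈ B ∧ ¬ p ∣ Cfsg.charDegree (χ : G → ℂ) ∧ Cfsg.classInner (fun n : N => (χ : G → ℂ) n) (θ : N → ℂ) ≠ 0}) ∧
    (p ≤ 3 → p ∣ Nat.card {χ : Cfsg.IrrCharacter G // χ ∈ B ∧ ¬ p ∣ Cfsg.charDegree (χ : G → ℂ) ∧ Cfsg.classInner (fun n : N => (χ : G → ℂ) n) (θ : N → ℂ) ≠ 0}) := by
  classical
  have hpr : p.Prime := Fact.out
  obtain ⟨x, hxP, hxN⟩ := SetLike.not_le_iff_exists.mp hPN
  obtain ⟨k, hk⟩ := (IsPGroup.iff_orderOf.mp P.isPGroup') ⟨x, hxP⟩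
  have hxk : x ^ (p ^ k) = 1 := by
    have h1 := pow_orderOf_eq_one (⟨x, hxP⟩ : (P : Subgroup G))
    rw [hk] at h1
    exact congrArg Subtype.val h1
  have h0 := blockCoeff_overSet_inter_eq_zero hM N θ hB hxN k hxk
  have hdvd := dvd_sum_degree_sq_of_blockCoeff_eq_zero hM _ k hxk h0
  obtain ⟨S, hS⟩ : ∃ S : Finset (Cfsg.IrrCharacter G), S = Finset.univ.filter
      (fun χ : Cfsg.IrrCharacter G => χ ∈ B ∧ ¬ p ∣ Cfsg.charDegree (χ : G → ℂ) ∧
        Cfsg.classInner (fun n : N => (χ : G → ℂ) n) (θ : N → ℂ) ≠ 0) := ⟨_, rfl⟩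
  have hcard : Nat.card {χ : Cfsg.IrrCharacter G // χ ∈ B ∧ ¬ p ∣ Cfsg.charDegree (χ : G → ℂ) ∧
      Cfsg.classInner (fun n : N => (χ : G → ℂ) n) (θ : N → ℂ) ≠ 0} = S.card := by
    rw [Nat.card_eq_fintype_card, Fintype.card_subtype, hS]
  rw [hcard]
  have hkey : ∀ F : Finset (Cfsg.IrrCharacter G),
      (∀ χ, χ ∈ F ↔ (χ ∈ overSet N θ ∧ χ ∈ B)) →
      p ∣ ∑ χ ∈ F, Cfsg.charDegree (χ : G → ℂ) ^ 2 →
      p ∣ ∑ χ ∈ S, Cfsg.charDegree (χ : G → ℂ) ^ 2 := by
    intro F hF hFd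
    have hsplit : ∑ χ ∈ F, Cfsg.charDegree (χ : G → ℂ) ^ 2 =
        ∑ χ ∈ S, Cfsg.charDegree (χ : G → ℂ) ^ 2 +
        ∑ χ ∈ F.filter (fun χ : Cfsg.IrrCharacter G => ¬ ¬ p ∣ Cfsg.charDegree (χ : G → ℂ)),
          Cfsg.charDegree (χ : G → ℂ) ^ 2 := by
      rw [← Finset.sum_filter_add_sum_filter_not F
        (fun χ : Cfsg.IrrCharacter G => ¬ p ∣ Cfsg.charDegree (χ : G → ℂ))]
      congr 1
      apply Finset.sum_congr _ (fun _ _ => rfl)
      ext χ
      rw [hS]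
      simp only [Finset.mem_filter, Finset.mem_univ, true_and, hF, mem_overSet]
      tauto
    have hrest : p ∣ ∑ χ ∈ F.filter (fun χ : Cfsg.IrrCharacter G => ¬ ¬ p ∣ Cfsg.charDegree (χ : G → ℂ)),
        Cfsg.charDegree (χ : G → ℂ) ^ 2 := by
      apply Finset.dvd_sum
      intro χ hχ
      have h1 := (Finset.mem_filter.mp hχ).2
      rw [not_not] at h1
      exact dvd_pow h1 two_ne_zero
    rw [hsplit] at hFd
    exact (Nat.dvd_add_left hrest).mp hFd
  have hS2 := hkey _ (fun χ => by simp) hdvd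
  constructor
  · by_contra hcon
    push_neg at hcon
    have h1 : S.card = 1 := by omega
    obtain ⟨χ₀, hχ₀⟩ := Finset.card_eq_one.mp h1
    have hmem : χ₀ ∈ S := by
      rw [hχ₀]
      exact Finset.mem_singleton_self _
    rw [hχ₀, Finset.sum_singleton] at hS2
    rw [hS] at hmem
    have h2 := (Finset.mem_filter.mp hmem).2.2.1
    exact h2 (hpr.dvd_of_dvd_pow hS2)
  · intro hp3
    have hmod : ∀ χ ∈ S, Cfsg.charDegree (χ : G → ℂ) ^ 2 % p = 1 := by
      intro χ hχ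
      rw [hS] at hχ
      have hnd := (Finset.mem_filter.mp hχ).2.2.1
      have hp2 : p = 2 ∨ p = 3 := by
        have := hpr.two_le
        omega
      rcases hp2 with hp2 | hp2
      · subst hp2
        have h3 : Cfsg.charDegree (χ : G → ℂ) % 2 = 1 := by omega
        rw [Nat.pow_mod, h3]
      · subst hp2
        have h3 : Cfsg.charDegree (χ : G → ℂ) % 3 = 1 ∨ Cfsg.charDegree (χ : G → ℂ) % 3 = 2 := by
          omega
        rcases h3 with h | h <;> rw [Nat.pow_mod, h]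
    have hsum : (∑ χ ∈ S, Cfsg.charDegree (χ : G → ℂ) ^ 2) % p = S.card % p := by
      rw [Finset.sum_nat_mod, Finset.sum_congr rfl hmod, Finset.sum_const, smul_eq_mul, mul_one]
    rw [Nat.dvd_iff_mod_eq_zero] at hS2 ⊢
    rw [← hsum]
    exact hS2

end Cfsg.Agent.S4825
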