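import Cfsg.Statements.S4856
import Cfsg.Agent.Lib.helper83.CharBasic2
-- import your own Cfsg.Agent.* helpers here

set_option autoImplicit false
open Cfsg

namespace Cfsg.Agent.S4856

open Cfsg.Agent.Lib.helper83
open scoped ComplexConjugate

/-- The number of elements conjugating `y` to `w` is `|C_G(y)|` if `w` is conjugate to `y`,
and zero otherwise. -/
lemma card_conjugators {G : Type*} [Group G] [Finite G] (y w : G) :
    (Nat.card {x : G // x * y * x⁻¹ = w} : ℂ) =
      (open Classical in if IsConj w y then (Nat.card (Subgroup.centralizer ({y} : Set G)) : ℂ) else 0) := by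
  classical
  by_cases h : IsConj w y
  · rw [if_pos h]
    obtain ⟨c, hc⟩ := isConj_iff.mp h
    congr 1
    apply Nat.card_congr
    refine
      { toFun := fun x => ⟨c * x.1, ?_⟩
        invFun := fun k => ⟨c⁻¹ * k.1, ?_⟩
        left_inv := fun x => by simp
        right_inv := fun k => by simp }
    · rw [Subgroup.mem_centralizer_iff]
      intro u hu
      rw [Set.mem_singleton_iff.mp hu]
      have hx := x.2
      rw [← hx] at hc
      -- hc : c * (x y x⁻¹) * c⁻¹ = y
      calc y * (c * x.1) = (c * (x.1 * y * x.1⁻¹) * c⁻¹) * (c * x.1) := by rw [hc]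
        _ = c * x.1 * y := by group
    · have hk := k.2
      rw [Subgroup.mem_centralizer_iff] at hk
      have hk' := hk y rfl
      -- hk' : y * k = k * y
      have : (k : G) * y * (k : G)⁻¹ = y := by
        rw [← hk']; group
      calc c⁻¹ * (k : G) * y * (c⁻¹ * (k : G))⁻¹ = c⁻¹ * ((k : G) * y * (k : G)⁻¹) * c := by group
        _ = c⁻¹ * y * c := by rw [this]
        _ = w := by rw [← hc]; group
  · rw [if_neg h]
    have : IsEmpty {x : G // x * y * x⁻¹ = w} := by
      constructor
      rintro ⟨x, hx⟩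
      apply h
      rw [isConj_iff]
      exact ⟨x⁻¹, by rw [← hx]; group⟩
    simp

/-- For an element z of a finite group G, the number of pairs (x, y) of elements with x y x⁻¹ y⁻¹ = z equals the order of G times the sum over the irreducible characters χ of χ(z)/χ(1). -/
theorem result {G : Type*} [Group G] [Finite G] (z : G) : (Nat.card {xy : G × G // xy.1 * xy.2 * xy.1⁻¹ * xy.2⁻¹ = z} : ℂ) = (Nat.card G : ℂ) * ∑ᶠ χ : Cfsg.IrrCharacter G, (χ : G → ℂ) z / (χ : G → ℂ) 1 := by
  classical
  have := Fintype.ofFinite G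
  have := Fintype.ofFinite (IrrCharacter G)
  rw [finsum_eq_sum_of_fintype]
  -- step 1: fibre over y
  have e : {xy : G × G // xy.1 * xy.2 * xy.1⁻¹ * xy.2⁻¹ = z} ≃
      Σ y : G, {x : G // x * y * x⁻¹ = z * y} :=
    { toFun := fun p => ⟨p.1.2, p.1.1, eq_mul_of_mul_inv_eq p.2⟩
      invFun := fun q => ⟨(q.2.1, q.1), by
        have := q.2.2
        simp only
        rw [this]; group⟩
      left_inv := fun p => by simp
      right_inv := fun q => by simp }
  rw [Nat.card_congr e, Nat.card_sigma, Nat.cast_sum]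
  have h2 : ∀ y : G, (Nat.card {x : G // x * y * x⁻¹ = z * y} : ℂ) =
      ∑ χ : IrrCharacter G, (χ : G → ℂ) (z * y) * (χ : G → ℂ) y⁻¹ := by
    intro y
    have hinv : ∀ χ : IrrCharacter G, (χ : G → ℂ) y⁻¹ = conj ((χ : G → ℂ) y) := fun χ => irr_inv χ y
    simp_rw [hinv]
    rw [second_orthogonality, card_conjugators]
    split_ifs <;> rfl
  simp_rw [h2]
  rw [Finset.sum_comm, Finset.mul_sum]
  refine Finset.sum_congr rfl fun χ _ => ?_
  rw [irr_generalized_orthogonality]
  ring

end Cfsg.Agent.S4856
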