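import Cfsg.Statements.S4837
import Cfsg.Agent.Lib.helper83.Gagola2
import Cfsg.Agent.S4856
-- import your own Cfsg.Agent.* helpers here

set_option autoImplicit false
open Cfsg

namespace Cfsg.Agent.S4837

open Cfsg.Agent.Lib.helper83 Cfsg.Agent.Lib.helper82
open scoped ComplexConjugate

universe u

variable {G : Type u} [Group G]

/-- The conjugate of a function on a normal subgroup. -/
def conjFun (N : Subgroup G) [N.Normal] (μ : N → ℂ) (g : G) : N → ℂ :=
  fun n => μ (MulAut.conjNormal g n)

theorem conjFun_irr (N : Subgroup G) [N.Normal] {μ : N → ℂ} (hμ : IsIrrCharacter N μ) (g : G) :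
    IsIrrCharacter N (conjFun N μ g) := by
  obtain ⟨n, ρ, hirr, rfl⟩ := hμ
  exact ⟨n, compRep ((MulAut.conjNormal g : N ≃* N) : N →* N) ρ,
    (isIrreducible_comp_iff _ (MulEquiv.surjective _) ρ).mpr hirr, rfl⟩

/-- The inertia group of a function on a normal subgroup. -/
def inertia (N : Subgroup G) [N.Normal] (μ : N → ℂ) : Subgroup G where
  carrier := {g | ∀ n : N, μ (MulAut.conjNormal g n) = μ n}
  mul_mem' := by
    intro a b ha hb n
    rw [map_mul, MulAut.mul_apply, ha, hb]
  one_mem' := by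
    intro n
    rw [map_one, MulAut.one_apply]
  inv_mem' := by
    intro a ha n
    have h := ha (MulAut.conjNormal a⁻¹ n)
    rw [← MulAut.mul_apply, ← map_mul, mul_inv_cancel, map_one, MulAut.one_apply] at h
    exact h.symm

theorem mem_inertia (N : Subgroup G) [N.Normal] (μ : N → ℂ) (g : G) :
    g ∈ inertia N μ ↔ ∀ n : N, μ (MulAut.conjNormal g n) = μ n := Iff.rfl

theorem mem_inertia_iff (N : Subgroup G) [N.Normal] (μ : N → ℂ) (g : G) :
    g ∈ inertia N μ ↔ conjFun N μ g = μ := by
  rw [mem_inertia]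
  exact ⟨fun h => funext h, fun h n => congrFun h n⟩

/-- Sum over `G` of the values of `μ` on the conjugates of `n`. -/
theorem sum_conj_eq [Fintype G] (N : Subgroup G) [N.Normal] [Fintype N] (μ : N → ℂ) (n : N) :
    ∑ g : G, μ (MulAut.conjNormal g n) =
      ∑ w : N, (Nat.card {g : G // g * (n : G) * g⁻¹ = (w : G)} : ℂ) * μ w := by
  classical
  rw [← Finset.sum_fiberwise Finset.univ (fun g : G => MulAut.conjNormal g n)
    (fun g => μ (MulAut.conjNormal g n))]
  apply Finset.sum_congr rfl
  intro w _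
  have h1 : ∀ g ∈ Finset.univ.filter (fun g : G => MulAut.conjNormal g n = w),
      μ (MulAut.conjNormal g n) = μ w := by
    intro g hg
    rw [(Finset.mem_filter.mp hg).2]
  rw [Finset.sum_congr rfl h1, Finset.sum_const, nsmul_eq_mul]
  congr 2
  rw [Nat.card_eq_fintype_card, Fintype.card_subtype]
  congr 1
  ext g
  simp only [Finset.mem_filter, Finset.mem_univ, true_and]
  rw [Subtype.ext_iff, MulAut.conjNormal_apply]

/-- The inertia group of a nontrivial irreducible character of `N` has the same order as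
the centralizer of a nonidentity element of `N`. -/
theorem card_inertia [Finite G] (hG : 2 < Nat.card G) (χ : Cfsg.IrrCharacter G)
    (hχ : Nat.card {C : ConjClasses G // ∃ g ∈ C.carrier, (χ : G → ℂ) g ≠ 0} = 2)
    (N : Subgroup G) [N.Normal] (hN : ∀ g : G, g ∈ N ↔ (χ : G → ℂ) g ≠ 0)
    (μ : Cfsg.IrrCharacter N) (hμ : (μ : N → ℂ) ≠ (fun _ => (1 : ℂ)))
    {x : G} (hx : x ∈ N) (hx1 : x ≠ 1) :
    Nat.card (inertia N (μ : N → ℂ)) = Nat.card (Subgroup.centralizer ({x} : Set G)) := by
  classical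
  have := Fintype.ofFinite G
  have : Fintype N := Fintype.ofFinite N
  obtain ⟨-, hNbot, htrans, -, -, ⟨q, hq, hcomm, -⟩, -⟩ := gagola_facts hG χ hχ N hN
  have hμ1 : (μ : N → ℂ) 1 = 1 :=
    irr_one_of_commutative (fun a b => hcomm.is_comm.comm a b) μ.2
  have hμt : μ ≠ trivIrr N := by
    intro h
    apply hμ
    rw [h]
    funext n
    exact trivIrr_apply n
  have hsum : ∑ n : N, (μ : N → ℂ) n = 0 := irr_sum_eq_zero μ hμt
  have hNcard : 1 < Nat.card N := by
    have : Nontrivial N := (Subgroup.nontrivial_iff_ne_bot N).mpr hNbot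
    exact Finite.one_lt_card
  have h4 := Subgroup.index_mul_card (Subgroup.centralizer ({x} : Set G))
  rw [gagola_centralizer_index hG χ hχ N hN hx hx1] at h4
  have hcent : ∀ n : N, n ≠ 1 →
      Nat.card (Subgroup.centralizer ({(n : G)} : Set G)) =
        Nat.card (Subgroup.centralizer ({x} : Set G)) := by
    intro n hn
    have h3 := Subgroup.index_mul_card (Subgroup.centralizer ({(n : G)} : Set G))
    rw [gagola_centralizer_index hG χ hχ N hN n.2 (fun h => hn (Subtype.ext h))] at h3
    have hpos : 0 < Nat.card N - 1 := by omega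
    exact Nat.eq_of_mul_eq_mul_left hpos (h3.trans h4.symm)
  set c : ℂ := (Nat.card (Subgroup.centralizer ({x} : Set G)) : ℂ) with hc
  have hF1 : ∑ g : G, (μ : N → ℂ) (MulAut.conjNormal g 1) = (Nat.card G : ℂ) := by
    simp [hμ1]
  have hFn : ∀ n : N, n ≠ 1 → ∑ g : G, (μ : N → ℂ) (MulAut.conjNormal g n) = -c := by
    intro n hn
    rw [sum_conj_eq]
    have hterm : ∀ w : N, (Nat.card {g : G // g * (n : G) * g⁻¹ = (w : G)} : ℂ) * (μ : N → ℂ) w =
        if w = 1 then 0 else c * (μ : N → ℂ) w := by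
      intro w
      rw [Cfsg.Agent.S4856.card_conjugators]
      by_cases hw : w = 1
      · rw [if_pos hw, if_neg, zero_mul]
        rw [hw]
        intro h
        have h' : IsConj (1 : G) (n : G) := h
        exact hn (Subtype.ext (isConj_one_left.mp h'.symm))
      · rw [if_neg hw, if_pos (htrans _ w.2 _ n.2 (fun h => hw (Subtype.ext h))
          (fun h => hn (Subtype.ext h))), hcent n hn]
    rw [Finset.sum_congr rfl (fun w _ => hterm w), Finset.sum_ite, Finset.sum_const_zero, zero_add,
      ← Finset.mul_sum]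
    have h1 : ∑ w ∈ Finset.univ.filter (fun w : N => ¬ w = 1), (μ : N → ℂ) w = -1 := by
      have h := Finset.sum_filter_add_sum_filter_not Finset.univ (fun w : N => w = 1)
        (fun w => (μ : N → ℂ) w)
      rw [hsum, Finset.filter_eq', if_pos (Finset.mem_univ _), Finset.sum_singleton, hμ1] at h
      linear_combination h
    rw [h1]
    ring
  have hS1 : ∑ g : G, ∑ n : N, conjFun N (μ : N → ℂ) g n * conj ((μ : N → ℂ) n) =
      (Nat.card (inertia N (μ : N → ℂ)) : ℂ) * (Nat.card N : ℂ) := by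
    have hg : ∀ g : G, ∑ n : N, conjFun N (μ : N → ℂ) g n * conj ((μ : N → ℂ) n) =
        if g ∈ inertia N (μ : N → ℂ) then (Nat.card N : ℂ) else 0 := by
      intro g
      have h := irr_orthogonality' (⟨conjFun N μ g, conjFun_irr N μ.2 g⟩ : IrrCharacter N) μ
      rw [h]
      by_cases hg : g ∈ inertia N (μ : N → ℂ)
      · rw [if_pos hg, if_pos (Subtype.ext ((mem_inertia_iff N _ g).mp hg))]
      · rw [if_neg hg, if_neg (fun h' => hg ((mem_inertia_iff N _ g).mpr
          (congrArg Subtype.val h')))]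
    rw [Finset.sum_congr rfl (fun g _ => hg g), ← Finset.sum_filter, Finset.sum_const,
      nsmul_eq_mul]
    congr 2
    rw [Nat.card_eq_fintype_card, Fintype.card_subtype]
  have hS2 : ∑ g : G, ∑ n : N, conjFun N (μ : N → ℂ) g n * conj ((μ : N → ℂ) n) =
      (Nat.card G : ℂ) + c := by
    rw [Finset.sum_comm]
    have hn : ∀ n : N, ∑ g : G, conjFun N (μ : N → ℂ) g n * conj ((μ : N → ℂ) n) =
        if n = 1 then (Nat.card G : ℂ) else -c * conj ((μ : N → ℂ) n) := by
      intro n
      rw [← Finset.sum_mul]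
      by_cases hn : n = 1
      · rw [if_pos hn, hn]
        have h1 : ∑ g : G, conjFun N (μ : N → ℂ) g 1 = (Nat.card G : ℂ) := hF1
        rw [h1, hμ1, map_one, mul_one]
      · rw [if_neg hn]
        have h1 : ∑ g : G, conjFun N (μ : N → ℂ) g n = -c := hFn n hn
        rw [h1]
    rw [Finset.sum_congr rfl (fun n _ => hn n), Finset.sum_ite, Finset.filter_eq',
      if_pos (Finset.mem_univ _), Finset.sum_const, Finset.card_singleton, one_smul,
      ← Finset.mul_sum]
    have h1 : ∑ n ∈ Finset.univ.filter (fun n : N => ¬ n = 1), conj ((μ : N → ℂ) n) = -1 := by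
      have h := Finset.sum_filter_add_sum_filter_not Finset.univ (fun w : N => w = 1)
        (fun w => conj ((μ : N → ℂ) w))
      have h0 : ∑ n : N, conj ((μ : N → ℂ) n) = 0 := by rw [← map_sum, hsum, map_zero]
      rw [h0, Finset.filter_eq', if_pos (Finset.mem_univ _), Finset.sum_singleton, hμ1,
        map_one] at h
      linear_combination h
    rw [h1]
    ring
  have hGc : (Nat.card G : ℂ) = ((Nat.card N : ℂ) - 1) * c := by
    rw [← h4, Nat.cast_mul, Nat.cast_sub hNcard.le, Nat.cast_one]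
  have hfin : (Nat.card (inertia N (μ : N → ℂ)) : ℂ) * (Nat.card N : ℂ) = c * (Nat.card N : ℂ) := by
    rw [← hS1, hS2, hGc]
    ring
  have hN0 : (Nat.card N : ℂ) ≠ 0 := by
    have : Nat.card N ≠ 0 := by omega
    exact_mod_cast this
  have := mul_right_cancel₀ hN0 hfin
  rw [hc] at this
  exact_mod_cast this

/-- Let G be a finite group of order greater than 2 with an irreducible character χ nonzero on exactly two conjugacy classes, and let N be the set of elements where χ is nonzero, given as a nontrivial normal p-subgroup of G for the prime p. Then for every nonidentity x in N the centralizer C_G(x) is a Sylow p-subgroup of G, and for every irreducible character λ ≠ 1 of N the stabilizer of λ in G (its inertia group) is a Sylow p-subgroup of G. -/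
theorem result {G : Type*} [Group G] [Finite G] (hG : 2 < Nat.card G) (χ : Cfsg.IrrCharacter G) (hχ : Nat.card {C : ConjClasses G // ∃ g ∈ C.carrier, (χ : G → ℂ) g ≠ 0} = 2) (p : ℕ) [Fact p.Prime] (N : Subgroup G) [N.Normal] (hN : ∀ g : G, g ∈ N ↔ (χ : G → ℂ) g ≠ 0) (hNp : IsPGroup p N) (hN1 : N ≠ ⊥) :
    (∀ x ∈ N, x ≠ 1 → ∃ P : Sylow p G, Subgroup.centralizer ({x} : Set G) = P) ∧
      (∀ μ : Cfsg.IrrCharacter N, (μ : N → ℂ) ≠ (fun _ => (1 : ℂ)) → ∃ P : Sylow p G, ∀ g : G, g ∈ (P : Subgroup G) ↔ ∀ n n' : N, (n' : G) = g * n * g⁻¹ → (μ : N → ℂ) n' = (μ : N → ℂ) n) := by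
  refine ⟨fun x hx hx1 => gagola_centralizer_sylow hG χ hχ p N hN hNp hx hx1, ?_⟩
  intro μ hμ
  obtain ⟨⟨x, hx⟩, hx1'⟩ := (Subgroup.ne_bot_iff_exists_ne_one).mp hN1
  have hx1 : x ≠ 1 := fun h => hx1' (Subtype.ext h)
  have hcard := card_inertia hG χ hχ N hN μ hμ hx hx1
  have hcp := gagola_centralizer_isPGroup hG χ hχ p N hN hNp hx hx1
  obtain ⟨k, hk⟩ := IsPGroup.iff_card.mp hcp
  have hT : IsPGroup p (inertia N (μ : N → ℂ)) := IsPGroup.of_card (hcard.trans hk)
  have hidx : (inertia N (μ : N → ℂ)).index = Nat.card N - 1 := by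
    have h1 := Subgroup.index_mul_card (inertia N (μ : N → ℂ))
    have h2 := Subgroup.index_mul_card (Subgroup.centralizer ({x} : Set G))
    rw [gagola_centralizer_index hG χ hχ N hN hx hx1] at h2
    rw [hcard, ← h2] at h1
    exact Nat.eq_of_mul_eq_mul_right Nat.card_pos h1
  have hnd : ¬ p ∣ (inertia N (μ : N → ℂ)).index := by
    rw [hidx]
    exact gagola_not_dvd hG χ hχ p N hN hNp
  refine ⟨hT.toSylow hnd, fun g => ?_⟩
  rw [IsPGroup.toSylow_coe, mem_inertia]
  constructor
  · intro h n n' hn'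
    have h1 : n' = MulAut.conjNormal g n := Subtype.ext (by rw [hn', MulAut.conjNormal_apply])
    rw [h1, h]
  · intro h n
    exact h n _ (MulAut.conjNormal_apply g n)

end Cfsg.Agent.S4837
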