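import Mathlib
import Cfsg.Statements.S4839
import Cfsg.Agent.Lib.helper83.Gagola3
import Cfsg.Agent.S0200
-- import your own Cfsg.Agent.* helpers here

set_option autoImplicit false
set_option linter.unusedSectionVars false
open Cfsg

namespace Cfsg.Agent.S4839

open Cfsg.Agent.Lib.helper83

open scoped Pointwise

universe u

section Aux

variable {G : Type u} [Group G]

/-- Membership in a conjugate subgroup. -/
theorem mem_conj_smul {H : Subgroup G} {g x : G} :
    x ∈ MulAut.conj g • H ↔ g⁻¹ * x * g ∈ H := by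
  rw [Subgroup.mem_pointwise_smul_iff_inv_smul_mem]
  rfl

/-- Odd case: an involution acting without fixed points on the abelian normal subgroup `N` of odd
exponent, `C_G(N) ≤ N`, and the Camina property force `C_G(x₀) ≤ N`. -/
theorem odd_case [Finite G] (N : Subgroup G) [N.Normal]
    (hcomm : ∀ a ∈ N, ∀ b ∈ N, a * b = b * a)
    (hcoset : ∀ y : G, y ∉ N → ∀ n ∈ N, IsConj (y * n) y)
    (hcent : ∀ g : G, (∀ n ∈ N, g * n = n * g) → g ∈ N)
    (k : ℕ) (hk : ∀ n ∈ N, n ^ (2 * k + 1) = 1)
    (z : G) (hz2 : z * z = 1)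
    (hzfix : ∀ n ∈ N, z * n = n * z → n = 1)
    (x₀ : G) (hx₀ : x₀ ∈ N) (hx₀1 : x₀ ≠ 1) (x : G) (hxx₀ : x * x₀ = x₀ * x) : x ∈ N := by
  have hNn : N.Normal := inferInstance
  by_contra hxN
  have hzinv : z⁻¹ = z := inv_eq_of_mul_eq_one_right hz2
  -- `z` inverts `N`
  have hinvert : ∀ n ∈ N, z * n * z⁻¹ = n⁻¹ := by
    intro n hn
    obtain ⟨c, hc_def⟩ : ∃ c, c = z * n * z⁻¹ := ⟨_, rfl⟩
    have hcN : c ∈ N := by rw [hc_def]; exact hNn.conj_mem n hn z
    have h1 : z * c * z⁻¹ = n := by
      rw [hc_def]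
      calc z * (z * n * z⁻¹) * z⁻¹ = (z * z) * n * (z * z)⁻¹ := by group
        _ = n := by rw [hz2]; group
    have h2 : z * (n * c) = (z * n * z⁻¹) * (z * c * z⁻¹) * z := by group
    rw [← hc_def, h1] at h2
    have h3 : z * (n * c) = (n * c) * z := by rw [h2, hcomm c hcN n hn]
    have h4 := hzfix (n * c) (N.mul_mem hn hcN) h3
    rw [← hc_def]
    exact (inv_eq_of_mul_eq_one_right h4).symm
  -- commutators with `z` lie in `N`
  have hcz : ∀ g : G, z * g * z⁻¹ * g⁻¹ ∈ N := by
    intro g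
    apply hcent
    intro n hn
    have hn1 : g⁻¹ * n * g ∈ N := by
      have := hNn.conj_mem n hn g⁻¹
      simpa using this
    have h1 := hinvert _ hn1
    have h1' : z⁻¹ * (g⁻¹ * n * g) * z = (g⁻¹ * n * g)⁻¹ := by
      rw [hzinv] at h1 ⊢
      exact h1
    calc z * g * z⁻¹ * g⁻¹ * n = z * g * (z⁻¹ * (g⁻¹ * n * g) * z) * z⁻¹ * g⁻¹ := by group
      _ = z * g * (g⁻¹ * n * g)⁻¹ * z⁻¹ * g⁻¹ := by rw [h1']
      _ = (z * n⁻¹ * z⁻¹) * (z * g * z⁻¹ * g⁻¹) := by group
      _ = n * (z * g * z⁻¹ * g⁻¹) := by rw [hinvert n⁻¹ (N.inv_mem hn), inv_inv]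
  -- square roots in `N`
  have hsqrt : ∀ n ∈ N, n ^ (k + 1) * n ^ (k + 1) = n := by
    intro n hn
    rw [← pow_add]
    have : k + 1 + (k + 1) = (2 * k + 1) + 1 := by ring
    rw [this, pow_succ, hk n hn, one_mul]
  -- every coset of `N` contains an element fixed by `z`
  have hfixlift : ∀ g : G, ∃ m ∈ N, z * (m * g) * z⁻¹ = m * g := by
    intro g
    obtain ⟨m, hm⟩ : ∃ m, m = (z * g * z⁻¹ * g⁻¹) ^ (k + 1) := ⟨_, rfl⟩
    have hmN : m ∈ N := by rw [hm]; exact N.pow_mem (hcz g) _
    have hmm : m * m = z * g * z⁻¹ * g⁻¹ := by rw [hm]; exact hsqrt _ (hcz g)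
    refine ⟨m, hmN, ?_⟩
    calc z * (m * g) * z⁻¹ = (z * m * z⁻¹) * (z * g * z⁻¹ * g⁻¹) * g := by group
      _ = m⁻¹ * (m * m) * g := by rw [hinvert m hmN, hmm]
      _ = m * g := by group
  obtain ⟨m, hmN, hzx'⟩ := hfixlift x
  obtain ⟨x', hx'def⟩ : ∃ x', x' = m * x := ⟨_, rfl⟩
  rw [← hx'def] at hzx'
  have hx'N : x' ∉ N := by
    intro h
    apply hxN
    have : m⁻¹ * x' ∈ N := N.mul_mem (N.inv_mem hmN) h
    rw [hx'def] at this
    simpa using this
  have hx'x₀ : x' * x₀ = x₀ * x' := by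
    rw [hx'def, mul_assoc, hxx₀, ← mul_assoc, hcomm m hmN x₀ hx₀, mul_assoc]
  -- the key step
  have hkey : ∀ n ∈ N, ∃ m' ∈ N, x' * n = m' * x' * m'⁻¹ := by
    intro n hn
    obtain ⟨c, hc⟩ := isConj_iff.mp (hcoset x' hx'N n hn).symm
    have hn' : c * z * c⁻¹ * z⁻¹ ∈ N := by
      have := N.inv_mem (hcz c)
      have e : (z * c * z⁻¹ * c⁻¹)⁻¹ = c * z * c⁻¹ * z⁻¹ := by group
      rwa [e] at this
    obtain ⟨m', hm'⟩ : ∃ m', m' = (c * z * c⁻¹ * z⁻¹) ^ (k + 1) := ⟨_, rfl⟩
    have hm'N : m' ∈ N := by rw [hm']; exact N.pow_mem hn' _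
    have hm'm' : m' * m' = c * z * c⁻¹ * z⁻¹ := by rw [hm']; exact hsqrt _ hn'
    obtain ⟨c₀, hc₀def⟩ : ∃ c₀, c₀ = m'⁻¹ * c := ⟨_, rfl⟩
    have hc0 : c₀ * z * c₀⁻¹ = z := by
      rw [hc₀def]
      calc (m'⁻¹ * c) * z * (m'⁻¹ * c)⁻¹
          = m'⁻¹ * (c * z * c⁻¹ * z⁻¹) * (z * m' * z⁻¹) * z := by group
        _ = m'⁻¹ * (m' * m') * m'⁻¹ * z := by rw [← hm'm', hinvert m' hm'N]
        _ = z := by group
    have hcz0 : c₀ * z = z * c₀ := mul_inv_eq_iff_eq_mul.mp hc0
    obtain ⟨x'', hx''⟩ : ∃ x'', x'' = c₀ * x' * c₀⁻¹ := ⟨_, rfl⟩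
    have hzx'' : z * x'' * z⁻¹ = x'' := by
      rw [hx'']
      calc z * (c₀ * x' * c₀⁻¹) * z⁻¹ = (z * c₀) * x' * (z * c₀)⁻¹ := by group
        _ = (c₀ * z) * x' * (c₀ * z)⁻¹ := by rw [hcz0]
        _ = c₀ * (z * x' * z⁻¹) * c₀⁻¹ := by group
        _ = c₀ * x' * c₀⁻¹ := by rw [hzx']
    have hx''eq : x'' = m'⁻¹ * (x' * n) * m' := by
      rw [hx'', hc₀def, ← hc]; group
    have hkN : x'⁻¹ * x'' ∈ N := by
      have e : x'⁻¹ * x'' = (x'⁻¹ * m'⁻¹ * x'⁻¹⁻¹) * n * m' := by rw [hx''eq]; group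
      rw [e]
      exact N.mul_mem (N.mul_mem (hNn.conj_mem _ (N.inv_mem hm'N) x'⁻¹) hn) hm'N
    have hzk : z * (x'⁻¹ * x'') = (x'⁻¹ * x'') * z := by
      have e : z * (x'⁻¹ * x'') = (z * x' * z⁻¹)⁻¹ * (z * x'' * z⁻¹) * z := by group
      rw [e, hzx', hzx'']
    have hk1 := hzfix _ hkN hzk
    have hx''x' : x'' = x' := (inv_mul_eq_one.mp hk1).symm
    refine ⟨m', hm'N, ?_⟩
    rw [hx''x'] at hx''eq
    calc x' * n = m' * (m'⁻¹ * (x' * n) * m') * m'⁻¹ := by group
      _ = m' * x' * m'⁻¹ := by rw [← hx''eq]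
  -- conclusion: a surjective, non-injective self-map of `N`
  let ψ : N → N := fun m' => ⟨x'⁻¹ * (m' : G) * x' * (m' : G)⁻¹, by
    have h1 : x'⁻¹ * (m' : G) * x'⁻¹⁻¹ ∈ N := hNn.conj_mem _ m'.2 x'⁻¹
    have h2 := N.mul_mem h1 (N.inv_mem m'.2)
    simpa using h2⟩
  have hsurj : Function.Surjective ψ := by
    rintro ⟨n, hn⟩
    obtain ⟨m', hm'N, hm'⟩ := hkey n hn
    refine ⟨⟨m', hm'N⟩, Subtype.ext ?_⟩
    show x'⁻¹ * m' * x' * m'⁻¹ = n
    calc x'⁻¹ * m' * x' * m'⁻¹ = x'⁻¹ * (m' * x' * m'⁻¹) := by group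
      _ = x'⁻¹ * (x' * n) := by rw [← hm']
      _ = n := by group
  have hinj : Function.Injective ψ := Finite.injective_iff_surjective.mpr hsurj
  have h1 : ψ ⟨x₀, hx₀⟩ = ψ 1 := by
    apply Subtype.ext
    show x'⁻¹ * x₀ * x' * x₀⁻¹ = x'⁻¹ * (1 : G) * x' * (1 : G)⁻¹
    have : x'⁻¹ * x₀ * x' * x₀⁻¹ = x'⁻¹ * (x₀ * x') * x₀⁻¹ := by group
    rw [this, ← hx'x₀]; group
  have h2 := hinj h1
  exact hx₀1 (congrArg Subtype.val h2)

/-- Even case: no element `t ∉ N` with `t² ∈ N` can invert (modulo `N`) an element `h` whose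
square acts without fixed points on the elementary abelian normal `2`-subgroup `N`. -/
theorem two_case [Finite G] (N : Subgroup G) [N.Normal]
    (hcomm : ∀ a ∈ N, ∀ b ∈ N, a * b = b * a)
    (hsq : ∀ n ∈ N, n * n = 1)
    (hcoset : ∀ y : G, y ∉ N → ∀ n ∈ N, IsConj (y * n) y)
    (hcent : ∀ g : G, (∀ n ∈ N, g * n = n * g) → g ∈ N)
    (t h : G) (htN : t ∉ N) (ht2 : t * t ∈ N) (hth : t * h * t⁻¹ * h ∈ N)
    (hfix : ∀ n ∈ N, (h * h) * n = n * (h * h) → n = 1) : False := by
  classical
  have hNn : N.Normal := inferInstance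
  let τ : N → N := fun n => ⟨t * (n : G) * t⁻¹, hNn.conj_mem _ n.2 t⟩
  let η : N → N := fun n => ⟨h * (n : G) * h⁻¹, hNn.conj_mem _ n.2 h⟩
  have hcommN : ∀ a b : N, a * b = b * a := fun a b => Subtype.ext (hcomm a a.2 b b.2)
  have hsqN : ∀ a : N, a * a = 1 := fun a => Subtype.ext (hsq a a.2)
  have hτmul : ∀ a b : N, τ (a * b) = τ a * τ b := by
    intro a b
    apply Subtype.ext
    show t * ((a : G) * (b : G)) * t⁻¹ = (t * (a : G) * t⁻¹) * (t * (b : G) * t⁻¹)
    group
  have hηmul : ∀ a b : N, η (a * b) = η a * η b := by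
    intro a b
    apply Subtype.ext
    show h * ((a : G) * (b : G)) * h⁻¹ = (h * (a : G) * h⁻¹) * (h * (b : G) * h⁻¹)
    group
  have hττ : ∀ a : N, τ (τ a) = a := by
    intro a
    apply Subtype.ext
    show t * (t * (a : G) * t⁻¹) * t⁻¹ = (a : G)
    have e : t * (t * (a : G) * t⁻¹) * t⁻¹ = (t * t) * (a : G) * (t * t)⁻¹ := by group
    rw [e, hcomm _ ht2 _ a.2]; group
  let ν : N →* N := MonoidHom.mk' (fun n => n * τ n) (by
    intro a b
    show a * b * τ (a * b) = a * τ a * (b * τ b)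
    rw [hτmul]
    calc a * b * (τ a * τ b) = a * (b * τ a) * τ b := by group
      _ = a * (τ a * b) * τ b := by rw [hcommN b (τ a)]
      _ = a * τ a * (b * τ b) := by group)
  have hν : ∀ n : N, ν n = n * τ n := fun n => rfl
  have hrange_le : ν.range ≤ ν.ker := by
    rintro _ ⟨n, rfl⟩
    rw [MonoidHom.mem_ker, hν (ν n), hν n, hτmul, hττ]
    calc n * τ n * (τ n * n) = n * (τ n * τ n) * n := by group
      _ = 1 := by rw [hsqN (τ n), mul_one, hsqN n]
  have hcard : Nat.card ν.range * Nat.card ν.ker = Nat.card N := by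
    have h1 := Subgroup.index_ker ν
    have h2 := Subgroup.index_mul_card ν.ker
    rw [h1] at h2
    exact h2
  have hη_inj : Function.Injective η := by
    intro a b hab
    apply Subtype.ext
    have this : h * (a : G) * h⁻¹ = h * (b : G) * h⁻¹ := congrArg Subtype.val hab
    exact mul_left_cancel (mul_right_cancel this)
  have hker_fix : ∀ d : N, d ∈ ν.ker → t * (d : G) * t⁻¹ = (d : G) := by
    intro d hd
    rw [MonoidHom.mem_ker, hν] at hd
    have h1 : τ d = d := by
      have h2 : d * τ d = d * d := by rw [hd, hsqN]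
      exact mul_left_cancel h2
    exact congrArg Subtype.val h1
  have hcap : ∀ d e : N, d ∈ ν.ker → e ∈ ν.ker → e = η d → e = 1 := by
    intro d e hd he hed
    have h1 := hker_fix d hd
    have h2 := hker_fix e he
    have h3 : (e : G) = h * (d : G) * h⁻¹ := congrArg Subtype.val hed
    apply Subtype.ext
    show (e : G) = 1
    apply hfix _ e.2
    obtain ⟨n₀, hn₀⟩ : ∃ n₀, n₀ = t * h * t⁻¹ * h := ⟨_, rfl⟩
    have hn₀N : n₀ ∈ N := by rw [hn₀]; exact hth
    have hw : h * t * h⁻¹ * t⁻¹ = h * h * n₀⁻¹ := by rw [hn₀]; group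
    have ht_inv_e : t⁻¹ * (e : G) * t = (e : G) := by
      calc t⁻¹ * (e : G) * t = t⁻¹ * (t * (e : G) * t⁻¹) * t := by rw [h2]
        _ = (e : G) := by group
    have hde : h⁻¹ * (e : G) * h = (d : G) := by rw [h3]; group
    have hwe : (h * t * h⁻¹ * t⁻¹) * (e : G) * (h * t * h⁻¹ * t⁻¹)⁻¹ = (e : G) := by
      calc (h * t * h⁻¹ * t⁻¹) * (e : G) * (h * t * h⁻¹ * t⁻¹)⁻¹
          = h * t * h⁻¹ * (t⁻¹ * (e : G) * t) * h * t⁻¹ * h⁻¹ := by group
        _ = h * t * h⁻¹ * (e : G) * h * t⁻¹ * h⁻¹ := by rw [ht_inv_e]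
        _ = h * (t * (h⁻¹ * (e : G) * h) * t⁻¹) * h⁻¹ := by group
        _ = h * (t * (d : G) * t⁻¹) * h⁻¹ := by rw [hde]
        _ = h * (d : G) * h⁻¹ := by rw [h1]
        _ = (e : G) := h3.symm
    rw [hw] at hwe
    have hne : n₀⁻¹ * (e : G) = (e : G) * n₀⁻¹ := hcomm _ (N.inv_mem hn₀N) _ e.2
    have e5 : h * h * n₀⁻¹ * (e : G) * (h * h * n₀⁻¹)⁻¹
        = (h * h) * (n₀⁻¹ * (e : G)) * n₀ * (h * h)⁻¹ := by group
    rw [e5, hne] at hwe
    have e6 : h * h * ((e : G) * n₀⁻¹) * n₀ * (h * h)⁻¹ = (h * h) * (e : G) * (h * h)⁻¹ := by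
      group
    rw [e6] at hwe
    exact mul_inv_eq_iff_eq_mul.mp hwe
  have hinj : Function.Injective (fun ab : ν.ker × ν.ker => (ab.1 : N) * η (ab.2 : N)) := by
    rintro ⟨a, b⟩ ⟨a', b'⟩ hab
    dsimp only at hab
    have e1 : (a' : N) * ((a : N) * η (b : N)) * η (b : N) = (a' : N) * (a : N) := by
      have : (a' : N) * ((a : N) * η (b : N)) * η (b : N)
          = (a' : N) * (a : N) * (η (b : N) * η (b : N)) := by group
      rw [this, hsqN, mul_one]
    have e2 : (a' : N) * ((a' : N) * η (b' : N)) * η (b : N) = η (b' : N) * η (b : N) := by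
      have : (a' : N) * ((a' : N) * η (b' : N)) * η (b : N)
          = ((a' : N) * (a' : N)) * η (b' : N) * η (b : N) := by group
      rw [this, hsqN, one_mul]
    have h1 : (a' : N) * (a : N) = η ((b' : N) * (b : N)) := by
      rw [hηmul, ← e1, hab, e2]
    have h2 : (a' : N) * (a : N) = 1 :=
      hcap _ _ (ν.ker.mul_mem b'.2 b.2) (ν.ker.mul_mem a'.2 a.2) h1
    have h3 : (a : N) = (a' : N) := by
      have : (a' : N) * (a : N) = (a' : N) * (a' : N) := by rw [h2, hsqN]
      exact mul_left_cancel this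
    have h4 : η (b : N) = η (b' : N) := by
      rw [h3] at hab
      exact mul_left_cancel hab
    have h5 : (b : N) = (b' : N) := hη_inj h4
    exact Prod.ext (Subtype.ext h3) (Subtype.ext h5)
  have hle : Nat.card ν.ker * Nat.card ν.ker ≤ Nat.card N := by
    have := Nat.card_le_card_of_injective _ hinj
    rwa [Nat.card_prod] at this
  have hge : Nat.card ν.ker ≤ Nat.card ν.range := by
    have hpos : 0 < Nat.card ν.ker := Nat.card_pos
    rw [← hcard] at hle
    exact Nat.le_of_mul_le_mul_right hle hpos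
  have heq : ν.range = ν.ker := Subgroup.eq_of_le_of_card_ge hrange_le hge
  have hs : (⟨t * t, ht2⟩ : N) ∈ ν.ker := by
    rw [MonoidHom.mem_ker, hν]
    apply Subtype.ext
    show t * t * (t * (t * t) * t⁻¹) = 1
    have e : t * t * (t * (t * t) * t⁻¹) = (t * t) * (t * t) := by group
    rw [e]
    exact hsq _ ht2
  rw [← heq] at hs
  obtain ⟨n, hn⟩ := hs
  have hn' : (n : G) * (t * (n : G) * t⁻¹) = t * t := congrArg Subtype.val hn
  have huu : ((n : G) * t) * ((n : G) * t) = 1 := by
    have e : ((n : G) * t) * ((n : G) * t) = ((n : G) * (t * (n : G) * t⁻¹)) * (t * t) := by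
      group
    rw [e, hn']
    exact hsq _ ht2
  have huN : (n : G) * t ∉ N := by
    intro hu
    apply htN
    have := N.mul_mem (N.inv_mem n.2) hu
    simpa using this
  apply huN
  apply hcent
  intro m hm
  obtain ⟨c, hc⟩ := isConj_iff.mp (hcoset _ huN m hm)
  have hum : ((n : G) * t * m) * ((n : G) * t * m) = 1 := by
    have e : ((n : G) * t * m) * ((n : G) * t * m)
        = c⁻¹ * ((c * ((n : G) * t * m) * c⁻¹) * (c * ((n : G) * t * m) * c⁻¹)) * c := by group
    rw [e, hc, huu]; group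
  have hmm := hsq m hm
  have e1 : m * ((n : G) * t)
      = ((n : G) * t) * (((n : G) * t * m) * ((n : G) * t * m)) * m := by
    have : ((n : G) * t) * (((n : G) * t * m) * ((n : G) * t * m)) * m
        = (((n : G) * t) * ((n : G) * t)) * (m * ((n : G) * t)) * (m * m) := by group
    rw [this, huu, hmm]; group
  rw [e1, hum]; group

end Aux

/-- Let G be a finite group of order greater than 2 with an irreducible character χ nonzero on exactly two conjugacy classes, and let N be the normal p-subgroup of elements where χ is nonzero. Then N is the whole p-core O_p(G) if and only if G is a doubly transitive Frobenius group with kernel N: G has a Frobenius complement H whose Frobenius kernel is N and whose order is one less than that of N. -/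
theorem result {G : Type*} [Group G] [Finite G] (hG : 2 < Nat.card G) (χ : Cfsg.IrrCharacter G) (hχ : Nat.card {C : ConjClasses G // ∃ g ∈ C.carrier, (χ : G → ℂ) g ≠ 0} = 2) (p : ℕ) [Fact p.Prime] (N : Subgroup G) [N.Normal] (hN : ∀ g : G, g ∈ N ↔ (χ : G → ℂ) g ≠ 0) (hNp : IsPGroup p N) (hN1 : N ≠ ⊥) :
    N = Cfsg.pCore p G ↔ ∃ H : Subgroup G, Cfsg.IsFrobeniusComplement H ∧ Cfsg.frobeniusKernel H = (N : Set G) ∧ Nat.card H + 1 = Nat.card N := by
  classical
  have hp : p.Prime := Fact.out
  obtain ⟨hNn, hNbot, hconjN, hmin, hker, ⟨q, hq, hcommI, hpow⟩, hcoset⟩ :=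
    gagola_facts hG χ hχ N hN
  have hcomm : ∀ a ∈ N, ∀ b ∈ N, a * b = b * a := by
    intro a ha b hb
    have := hcommI.is_comm.comm (⟨a, ha⟩ : N) ⟨b, hb⟩
    exact congrArg Subtype.val this
  obtain ⟨a, ha0, ha⟩ :=
    hNp.nontrivial_iff_card.mp ((Subgroup.nontrivial_iff_ne_bot N).mpr hN1)
  constructor
  · intro hNO
    have hnormal_le : ∀ K : Subgroup G, K.Normal → IsPGroup p K → K ≤ N := by
      intro K hK hKp
      rw [hNO]
      exact le_sSup ⟨hK, hKp⟩
    obtain ⟨⟨x₀, hx₀⟩, hx₀'⟩ := (Subgroup.ne_bot_iff_exists_ne_one).mp hN1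
    have hx₀1 : x₀ ≠ 1 := fun h => hx₀' (Subtype.ext h)
    have hcent : ∀ g : G, (∀ n ∈ N, g * n = n * g) → g ∈ N := by
      intro g hg
      have hgC : g ∈ Subgroup.centralizer (N : Set G) := by
        rw [Subgroup.mem_centralizer_iff]
        intro n hn
        exact (hg n hn).symm
      have hCp : IsPGroup p (Subgroup.centralizer (N : Set G)) := by
        have hle : Subgroup.centralizer (N : Set G) ≤ Subgroup.centralizer ({x₀} : Set G) :=
          Subgroup.centralizer_le (Set.singleton_subset_iff.mpr hx₀)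
        exact (gagola_centralizer_isPGroup hG χ hχ p N hN hNp hx₀ hx₀1).to_le hle
      exact hnormal_le _ inferInstance hCp hgC
    -- Step 1: centralizers of nonidentity elements of `N` lie in `N`
    have hCN : ∀ y₀ ∈ N, y₀ ≠ 1 → ∀ x : G, x * y₀ = y₀ * x → x ∈ N := by
      intro y₀ hy₀ hy₀1 x hxy₀
      rcases hp.eq_two_or_odd' with h2 | hodd
      · subst h2
        by_contra hxN
        have hsq : ∀ n ∈ N, n * n = 1 := by
          intro n hn
          by_cases hn1 : n = 1
          · rw [hn1, one_mul]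
          · have h := gagola_orderOf hG χ hχ 2 N hN hNp hn hn1
            have := pow_orderOf_eq_one n
            rw [h, pow_two] at this
            exact this
        have hxC : x ∈ Subgroup.centralizer ({y₀} : Set G) :=
          Subgroup.mem_centralizer_singleton_iff.mpr hxy₀
        obtain ⟨j, hj⟩ := (gagola_centralizer_isPGroup hG χ hχ 2 N hN hNp hy₀ hy₀1) ⟨x, hxC⟩
        have hj' : x ^ 2 ^ j = 1 := by simpa using congrArg Subtype.val hj
        have hxbar1 : (x : G ⧸ N) ≠ 1 := fun h => hxN ((QuotientGroup.eq_one_iff x).mp h)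
        have hxbarpow : (x : G ⧸ N) ^ 2 ^ j = 1 := by
          rw [← QuotientGroup.mk_pow, hj']; rfl
        have h2Q : 2 ∣ Nat.card (G ⧸ N) := by
          have hd : orderOf (x : G ⧸ N) ∣ 2 ^ j := orderOf_dvd_of_pow_eq_one hxbarpow
          obtain ⟨i, -, hi⟩ := (Nat.dvd_prime_pow Nat.prime_two).mp hd
          have hi0 : i ≠ 0 := by
            intro h0
            rw [h0, pow_zero, orderOf_eq_one_iff] at hi
            exact hxbar1 hi
          have : 2 ∣ orderOf (x : G ⧸ N) := by rw [hi]; exact dvd_pow_self 2 hi0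
          exact this.trans (orderOf_dvd_natCard _)
        obtain ⟨tb, htb⟩ := exists_prime_orderOf_dvd_card' 2 h2Q
        have hO : ∀ M : Subgroup (G ⧸ N), M.Normal → IsPGroup 2 M → tb ∉ M := by
          intro M hM hMp htM
          have hcp : IsPGroup 2 (M.comap (QuotientGroup.mk' N)) := by
            apply IsPGroup.comap_of_ker_isPGroup hMp (QuotientGroup.mk' N)
            rw [QuotientGroup.ker_mk']
            exact hNp
          have hle := hnormal_le _ (hM.comap _) hcp
          obtain ⟨t, ht⟩ := QuotientGroup.mk_surjective tb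
          have htN : t ∈ N := hle (by rw [Subgroup.mem_comap]; show (t : G ⧸ N) ∈ M; rw [ht]; exact htM)
          have : ((t : G) : G ⧸ N) = 1 := (QuotientGroup.eq_one_iff t).mpr htN
          rw [← ht, this, orderOf_one] at htb
          omega
        obtain ⟨hb, hb1, hbodd, hbinv⟩ := Cfsg.Agent.S0200.result tb htb hO
        obtain ⟨t, ht⟩ := QuotientGroup.mk_surjective tb
        obtain ⟨h₁, hh₁⟩ := QuotientGroup.mk_surjective hb
        obtain ⟨i, hi⟩ := hbodd
        -- an odd-order lift of `hb`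
        obtain ⟨r, hr⟩ : ∃ r, r = orderOf hb := ⟨_, rfl⟩
        have hh₁r : h₁ ^ r ∈ N := by
          rw [← QuotientGroup.eq_one_iff, QuotientGroup.mk_pow, hh₁, hr]
          exact pow_orderOf_eq_one hb
        have hh₁2r : h₁ ^ (r + r) = 1 := by
          rw [pow_add]; exact hsq _ hh₁r
        obtain ⟨h, hh⟩ : ∃ h, h = h₁ ^ (r + 1) := ⟨_, rfl⟩
        have hhb : (h : G ⧸ N) = hb := by
          rw [hh, QuotientGroup.mk_pow, hh₁, pow_succ, hr, pow_orderOf_eq_one, one_mul]
        have hhr : h ^ r = 1 := by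
          rw [hh, ← pow_mul]
          have : (r + 1) * r = (r + r) * (i + 1) := by
            rw [hr, hi]; ring
          rw [this, pow_mul, hh₁2r, one_pow]
        have hhodd : Odd (orderOf h) := by
          have hd : orderOf h ∣ r := orderOf_dvd_of_pow_eq_one hhr
          have hrodd : Odd r := by rw [hr, hi]; exact ⟨i, rfl⟩
          exact Odd.of_dvd_nat hrodd hd
        have hhN : h ∉ N := by
          intro hmem
          apply hb1
          rw [← hhb]
          exact (QuotientGroup.eq_one_iff h).mpr hmem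
        have htN : t ∉ N := by
          intro hmem
          have : ((t : G) : G ⧸ N) = 1 := (QuotientGroup.eq_one_iff t).mpr hmem
          rw [← ht, this, orderOf_one] at htb
          omega
        have ht2 : t * t ∈ N := by
          rw [← QuotientGroup.eq_one_iff, QuotientGroup.mk_mul, ht]
          have := pow_orderOf_eq_one tb
          rw [htb, pow_two] at this
          exact this
        have hth : t * h * t⁻¹ * h ∈ N := by
          rw [← QuotientGroup.eq_one_iff, QuotientGroup.mk_mul, QuotientGroup.mk_mul,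
            QuotientGroup.mk_mul, QuotientGroup.mk_inv, ht, hhb, hbinv]
          group
        have hfix : ∀ n ∈ N, (h * h) * n = n * (h * h) → n = 1 := by
          intro n hn hcn
          by_contra hn1
          have hC : h * h ∈ Subgroup.centralizer ({n} : Set G) :=
            Subgroup.mem_centralizer_singleton_iff.mpr hcn
          obtain ⟨j', hj'⟩ := (gagola_centralizer_isPGroup hG χ hχ 2 N hN hNp hn hn1) ⟨h * h, hC⟩
          have hj'' : (h * h) ^ 2 ^ j' = 1 := by simpa using congrArg Subtype.val hj'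
          have hpw : h ^ 2 ^ (j' + 1) = 1 := by
            rw [pow_succ, mul_comm, pow_mul, pow_two]; exact hj''
          have hd : orderOf h ∣ 2 ^ (j' + 1) := orderOf_dvd_of_pow_eq_one hpw
          obtain ⟨i', -, hi'⟩ := (Nat.dvd_prime_pow Nat.prime_two).mp hd
          have hi'0 : i' = 0 := by
            by_contra h0
            have : 2 ∣ orderOf h := by rw [hi']; exact dvd_pow_self 2 h0
            obtain ⟨u, hu⟩ := hhodd
            omega
          rw [hi'0, pow_zero, orderOf_eq_one_iff] at hi'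
          exact hhN (hi' ▸ N.one_mem)
        exact two_case N hcomm hsq hcoset hcent t h htN ht2 hth hfix
      · obtain ⟨k, hk⟩ := hodd
        have hcardG := card_conj_mul_card_centralizer y₀
        rw [gagola_card_conj hG χ hχ N hN hy₀ hy₀1] at hcardG
        have hoddN : Odd (Nat.card N) := by rw [ha]; exact Odd.pow ⟨k, hk⟩
        have heven : 2 ∣ Nat.card N - 1 := by
          obtain ⟨j, hj⟩ := hoddN
          rw [hj]
          exact ⟨j, by omega⟩
        have h2G : 2 ∣ Nat.card G := by rw [← hcardG]; exact Dvd.dvd.mul_right heven _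
        obtain ⟨z, hz⟩ := exists_prime_orderOf_dvd_card' 2 h2G
        have hz2 : z * z = 1 := by
          have := pow_orderOf_eq_one z
          rw [hz, pow_two] at this
          exact this
        have hzfix : ∀ n ∈ N, z * n = n * z → n = 1 := by
          intro n hn hzn
          by_contra hn1
          have hzC : z ∈ Subgroup.centralizer ({n} : Set G) :=
            Subgroup.mem_centralizer_singleton_iff.mpr hzn
          obtain ⟨j, hj⟩ := (gagola_centralizer_isPGroup hG χ hχ p N hN hNp hn hn1) ⟨z, hzC⟩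
          have hj' : z ^ p ^ j = 1 := by simpa using congrArg Subtype.val hj
          have hdvd : orderOf z ∣ p ^ j := orderOf_dvd_of_pow_eq_one hj'
          rw [hz] at hdvd
          have : 2 ∣ p := Nat.Prime.dvd_of_dvd_pow Nat.prime_two hdvd
          omega
        have hkpow : ∀ n ∈ N, n ^ (2 * k + 1) = 1 := by
          intro n hn
          by_cases hn1 : n = 1
          · rw [hn1, one_pow]
          · rw [← hk, ← gagola_orderOf hG χ hχ p N hN hNp hn hn1]
            exact pow_orderOf_eq_one n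
        exact odd_case N hcomm hcoset hcent k hkpow z hz2 hzfix y₀ hy₀ hy₀1 x hxy₀
    -- Step 2: the order of `G`
    have hcentEq : Subgroup.centralizer ({x₀} : Set G) = N := by
      apply le_antisymm
      · intro y hy
        exact hCN x₀ hx₀ hx₀1 y (Subgroup.mem_centralizer_singleton_iff.mp hy)
      · intro y hy
        exact Subgroup.mem_centralizer_singleton_iff.mpr (hcomm y hy x₀ hx₀)
    have hcardG := card_conj_mul_card_centralizer x₀
    rw [gagola_card_conj hG χ hχ N hN hx₀ hx₀1, hcentEq] at hcardG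
    have hNpos : 0 < Nat.card N := Nat.card_pos
    have hidx : N.index = Nat.card N - 1 := by
      have h1 := Subgroup.index_mul_card N
      rw [← hcardG] at h1
      exact Nat.eq_of_mul_eq_mul_right hNpos h1
    have hNge : 3 ≤ Nat.card N := by
      by_contra hlt
      have h2 : Nat.card N = 1 ∨ Nat.card N = 2 := by omega
      rcases h2 with h2 | h2
      · rw [h2] at hcardG; simp at hcardG; omega
      · rw [h2] at hcardG; simp at hcardG; omega
    have hcop : Nat.Coprime (Nat.card N) N.index := by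
      rw [hidx]
      obtain ⟨m, hm⟩ : ∃ m, Nat.card N = m + 1 := ⟨Nat.card N - 1, by omega⟩
      rw [hm, Nat.add_sub_cancel]
      rw [Nat.coprime_self_add_left]
      exact Nat.coprime_one_left m
    obtain ⟨H, hH⟩ := Subgroup.exists_right_complement'_of_coprime hcop
    have hHcard : Nat.card N * Nat.card H = Nat.card G := hH.card_mul_card
    have hHcard' : Nat.card H = Nat.card N - 1 := by
      have : Nat.card N * Nat.card H = Nat.card N * (Nat.card N - 1) := by
        rw [hHcard, ← hcardG, mul_comm]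
      exact Nat.eq_of_mul_eq_mul_left hNpos this
    have hdisj : ∀ y : G, y ∈ N → y ∈ H → y = 1 := fun y hyN hyH =>
      Subgroup.disjoint_def.mp hH.disjoint hyN hyH
    refine ⟨H, ⟨?_, ?_, ?_⟩, ?_, ?_⟩
    · intro hbot
      rw [hbot, Subgroup.card_bot] at hHcard'
      omega
    · intro htop
      rw [htop, Subgroup.card_top, ← hcardG] at hHcard'
      have : (Nat.card N - 1) * 3 ≤ (Nat.card N - 1) * Nat.card N := Nat.mul_le_mul_left _ hNge
      omega
    · intro g hgH
      rw [eq_bot_iff]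
      intro y hy
      rw [Subgroup.mem_bot]
      obtain ⟨hy1, hy2⟩ := Subgroup.mem_inf.mp hy
      rw [mem_conj_smul] at hy2
      obtain ⟨⟨⟨n, hn⟩, ⟨h, hh⟩⟩, hnh⟩ := hH.2 g
      simp only at hnh
      by_contra hy_ne
      have hn1 : n ≠ 1 := by
        intro h1
        apply hgH
        rw [← hnh, h1, one_mul]
        exact hh
      have hy' : n⁻¹ * y * n ∈ H := by
        have := H.mul_mem (H.mul_mem hh hy2) (H.inv_mem hh)
        rw [← hnh] at this
        convert this using 1
        group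
      have hc : y⁻¹ * (n⁻¹ * y * n) ∈ N := by
        have h1 : y⁻¹ * n⁻¹ * y⁻¹⁻¹ ∈ N := hNn.conj_mem _ (N.inv_mem hn) y⁻¹
        have := N.mul_mem h1 hn
        convert this using 1
        group
      have hc1 := hdisj _ hc (H.mul_mem (H.inv_mem hy1) hy')
      have hyn : y * n = n * y := by
        have h1 : y = n⁻¹ * y * n := inv_mul_eq_one.mp hc1
        calc y * n = n * (n⁻¹ * y * n) := by group
          _ = n * y := by rw [← h1]
      have hyN : y ∈ N := hCN n hn hn1 y hyn
      exact hy_ne (hdisj y hyN hy1)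
    · ext y
      simp only [Cfsg.frobeniusKernel, Set.mem_ofPred_eq, SetLike.mem_coe]
      constructor
      · rintro (h1 | hall)
        · rw [h1]; exact N.one_mem
        · by_contra hyN
          obtain ⟨⟨⟨n, hn⟩, ⟨h, hh⟩⟩, hnh⟩ := hH.2 y
          simp only at hnh
          have hhN : h ∉ N := by
            intro hhN
            apply hyN
            rw [← hnh]
            exact N.mul_mem hn hhN
          have hmem : h⁻¹ * n * h ∈ N := by
            have := hNn.conj_mem n hn h⁻¹
            simpa using this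
          obtain ⟨c, hc⟩ := isConj_iff.mp (hcoset h hhN _ hmem).symm
          apply hall c
          rw [mem_conj_smul]
          have hyc : y = c * h * c⁻¹ := by rw [hc, ← hnh]; group
          have e : c⁻¹ * (c * h * c⁻¹) * c = h := by group
          rw [hyc, e]
          exact hh
      · intro hyN
        by_cases hy1 : y = 1
        · left; exact hy1
        · right
          intro g hg
          rw [mem_conj_smul] at hg
          apply hy1
          have h1 : g⁻¹ * y * g ∈ N := by
            have := hNn.conj_mem y hyN g⁻¹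
            simpa using this
          have h2 := hdisj _ h1 hg
          calc y = g * (g⁻¹ * y * g) * g⁻¹ := by group
            _ = 1 := by rw [h2]; group
    · rw [hHcard']; omega
  · rintro ⟨H, hHF, hkerH, hcardH⟩
    apply le_antisymm
    · exact le_sSup ⟨inferInstance, hNp⟩
    · apply sSup_le
      rintro K ⟨hKn, hKp⟩ y hyK
      by_contra hyN
      have hy1 : y ≠ 1 := fun h => hyN (h ▸ N.one_mem)
      have hnk : y ∉ Cfsg.frobeniusKernel H := by rw [hkerH]; exact hyN
      have hex : ∃ g : G, y ∈ MulAut.conj g • H := by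
        by_contra hno
        push Not at hno
        exact hnk (Or.inr hno)
      obtain ⟨g, hg⟩ := hex
      rw [mem_conj_smul] at hg
      obtain ⟨j, hj⟩ := hKp ⟨y, hyK⟩
      have hj' : y ^ p ^ j = 1 := by simpa using congrArg Subtype.val hj
      have hpw : (g⁻¹ * y * g) ^ p ^ j = 1 := by
        have : g⁻¹ * y * g = g⁻¹ * y * g⁻¹⁻¹ := by group
        rw [this, conj_pow, hj']; group
      have hd1 : orderOf (g⁻¹ * y * g) ∣ p ^ j := orderOf_dvd_of_pow_eq_one hpw
      have hd2 : orderOf (g⁻¹ * y * g) ∣ Nat.card H := by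
        have := orderOf_dvd_natCard (⟨g⁻¹ * y * g, hg⟩ : H)
        rwa [Subgroup.orderOf_mk] at this
      have hHc : Nat.card H = p ^ a - 1 := by
        rw [ha] at hcardH
        exact Nat.eq_sub_of_add_eq hcardH
      obtain ⟨i, -, hi⟩ := (Nat.dvd_prime_pow hp).mp hd1
      have hi0 : i = 0 := by
        by_contra hi0
        have hpd : p ∣ orderOf (g⁻¹ * y * g) := by rw [hi]; exact dvd_pow_self p hi0
        have hpH : p ∣ p ^ a - 1 := by rw [← hHc]; exact hpd.trans hd2
        have h1 : p ∣ p ^ a := dvd_pow_self p ha0.ne'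
        have h2 : 1 ≤ p ^ a := Nat.one_le_pow _ _ hp.pos
        have h3 : p ∣ 1 := by
          have := Nat.dvd_sub h1 hpH
          rwa [Nat.sub_sub_self h2] at this
        exact hp.one_lt.ne' (Nat.dvd_one.mp h3)
      rw [hi0, pow_zero, orderOf_eq_one_iff] at hi
      apply hy1
      calc y = g * (g⁻¹ * y * g) * g⁻¹ := by group
        _ = 1 := by rw [hi]; group

end Cfsg.Agent.S4839
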