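import Cfsg.Statements.S4840
import Cfsg.Agent.Lib.helper83.Gagola2
import Cfsg.Agent.Lib.helper62.HupQuot

set_option autoImplicit false
open Cfsg

namespace Cfsg.Agent.S4840

/-- Let G be a finite solvable group of order greater than 2 with an irreducible character nonzero on exactly two conjugacy classes. Then there is exactly one prime p with O_p(G) ≠ 1, and the quotient G/O_p(G) has a normal p-complement and commutative Sylow p-subgroups. -/
theorem result {G : Type*} [Group G] [Finite G] [hs : Group.IsSolvable G] (hG : 2 < Nat.card G) (χ : Cfsg.IrrCharacter G) (hχ : Nat.card {C : ConjClasses G // ∃ g ∈ C.carrier, (χ : G → ℂ) g ≠ 0} = 2) :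
    ∃ p : ℕ, p.Prime ∧ (∀ q : ℕ, q.Prime → (Cfsg.pCore q G ≠ ⊥ ↔ q = p)) ∧
      Cfsg.HasNormalPComplement p (G ⧸ Cfsg.pCore p G) ∧ ∀ Q : Sylow p (G ⧸ Cfsg.pCore p G), IsMulCommutative (Q : Subgroup (G ⧸ Cfsg.pCore p G)) := by
  classical
  obtain ⟨N, hNn, hNbot, hmem, htrans, hmin, -, p, hp, hNc, hexp⟩ :=
    Cfsg.Agent.Lib.helper83.gagola_subgroup hG χ hχ
  haveI : Fact p.Prime := ⟨hp⟩
  haveI := hNn
  haveI := hNc
  have hNp : IsPGroup p N := by
    intro x
    exact ⟨1, Subtype.ext (by simpa using hexp x x.2)⟩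
  obtain ⟨x₀, hx₀, hx₀1⟩ : ∃ x ∈ N, x ≠ 1 := by
    by_contra hcon
    push Not at hcon
    exact hNbot ((Subgroup.eq_bot_iff_forall N).mpr hcon)
  have hcentP : IsPGroup p (Subgroup.centralizer ({x₀} : Set G)) :=
    Cfsg.Agent.Lib.helper83.gagola_centralizer_isPGroup hG χ hχ p N hmem hNp hx₀ hx₀1
  haveI hPn : (Cfsg.pCore p G).Normal := Subgroup.sSup_normal _ (fun _ h => h.1)
  have hPp : IsPGroup p (Cfsg.pCore p G) :=
    Sylow.sSup_of_normal _ (fun _ h => h.2) (fun _ h => h.1)
  have hNle : N ≤ Cfsg.pCore p G := le_sSup ⟨hNn, hNp⟩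
  have hCn : (Subgroup.centralizer (N : Set G)).Normal := inferInstance
  have hCle : Subgroup.centralizer (N : Set G) ≤ Subgroup.centralizer ({x₀} : Set G) :=
    Subgroup.centralizer_le (by simpa using hx₀)
  have hK : Cfsg.pCore p G = Subgroup.centralizer (N : Set G) := by
    apply le_antisymm
    · -- the `p`-group `O_p(G)` fixes a non-identity element of `N`, hence all of them
      letI : MulAction (Cfsg.pCore p G) N :=
        MulAction.compHom N ((MulAut.conjNormal (H := N)).comp (Cfsg.pCore p G).subtype)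
      have hact : ∀ (g : Cfsg.pCore p G) (n : N), ((g • n : N) : G) = g * n * (g : G)⁻¹ :=
        fun g n => rfl
      have hdvd : p ∣ Nat.card N := by
        have : Nontrivial N := (Subgroup.nontrivial_iff_ne_bot N).mpr hNbot
        obtain ⟨e, he0, he⟩ := hNp.nontrivial_iff_card.mp this
        rw [he]
        exact dvd_pow_self p he0.ne'
      have h1 : (1 : N) ∈ MulAction.fixedPoints (Cfsg.pCore p G) N := by
        intro g
        apply Subtype.ext
        rw [hact]
        simp
      obtain ⟨b, hb, hb1⟩ := hPp.exists_fixed_point_of_prime_dvd_card_of_fixed_point N hdvd h1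
      have hb1' : (b : G) ≠ 1 := fun h => hb1 (Subtype.ext h).symm
      intro g hg
      rw [Subgroup.mem_centralizer_iff]
      intro y hy
      by_cases hy1 : y = 1
      · rw [hy1]; simp
      · obtain ⟨c, hc⟩ := isConj_iff.mp (htrans b b.2 y hy hb1' hy1)
        -- `c⁻¹ g c` lies in `O_p(G)` and so fixes `b`
        have hg' : c⁻¹ * g * c ∈ Cfsg.pCore p G := by
          have := hPn.conj_mem g hg c⁻¹
          simpa using this
        have h2 := congrArg Subtype.val (hb ⟨c⁻¹ * g * c, hg'⟩)
        rw [hact] at h2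
        have h3 : c⁻¹ * g * c * (b : G) * (c⁻¹ * g * c)⁻¹ = (b : G) := h2
        rw [← hc]
        have h4 : g * (c * (b : G) * c⁻¹) * g⁻¹ = c * (b : G) * c⁻¹ := by
          calc g * (c * (b : G) * c⁻¹) * g⁻¹
              = c * (c⁻¹ * g * c * (b : G) * (c⁻¹ * g * c)⁻¹) * c⁻¹ := by group
            _ = c * (b : G) * c⁻¹ := by rw [h3]
        calc c * (b : G) * c⁻¹ * g = g * (c * (b : G) * c⁻¹) * g⁻¹ * g := by rw [h4]
          _ = g * (c * (b : G) * c⁻¹) := by group
    · exact le_sSup ⟨hCn, hcentP.to_le hCle⟩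
  refine ⟨p, hp, ?_, ?_⟩
  · intro q hq
    constructor
    · intro hne
      have hQn : (Cfsg.pCore q G).Normal := Subgroup.sSup_normal _ (fun _ h => h.1)
      have hQp : IsPGroup q (Cfsg.pCore q G) :=
        Sylow.sSup_of_normal _ (fun _ h => h.2) (fun _ h => h.1)
      have hle := hmin _ hQn hne
      obtain ⟨k, hk⟩ := hQp ⟨x₀, hle hx₀⟩
      have hk' : x₀ ^ q ^ k = 1 := congrArg Subtype.val hk
      have hord : orderOf x₀ = p := orderOf_eq_prime (hexp x₀ hx₀) hx₀1
      have hdvd : p ∣ q ^ k := by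
        rw [← hord]
        exact orderOf_dvd_of_pow_eq_one hk'
      exact ((Nat.prime_dvd_prime_iff_eq hp hq).mp (hp.dvd_of_dvd_pow hdvd)).symm
    · rintro rfl
      intro hbot
      rw [hbot] at hNle
      exact hNbot (le_bot_iff.mp hNle)
  · exact Cfsg.Agent.Lib.helper62.Hup.normal_p_complement_quotient_centralizer hs p N hexp hNbot
      (fun x hx y hy hx1 hy1 => by
        obtain ⟨g, hg⟩ := isConj_iff.mp (htrans x hx y hy hx1 hy1)
        exact ⟨g, hg⟩) x₀ hx₀ hx₀1
      (fun g hg => by
        have hgc : g ∈ Subgroup.centralizer ({x₀} : Set G) := by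
          rw [Subgroup.mem_centralizer_iff]
          intro y hy
          rw [Set.mem_singleton_iff] at hy
          subst hy
          calc y * g = g * y * g⁻¹ * g := by rw [hg]
            _ = g * y := by group
        obtain ⟨k, hk⟩ := hcentP ⟨g, hgc⟩
        exact ⟨k, congrArg Subtype.val hk⟩)
      (Cfsg.pCore p G) hK

end Cfsg.Agent.S4840
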