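import Cfsg.Statements.S4866
import Cfsg.Agent.Lib.helper84.Brauer
import Cfsg.Agent.S4856
-- import your own Cfsg.Agent.* helpers here

set_option autoImplicit false
open Cfsg

namespace Cfsg.Agent.S4866

open Cfsg.Agent.Lib.helper83 Cfsg.Agent.Lib.helper84
open scoped ComplexConjugate

universe u v

/-- Burnside's lemma, phrased with `Quot` and `Nat.card`. -/
theorem card_quot_mul_card {G : Type u} {X : Type v} [Group G] [Fintype G] [Finite X]
    [MulAction G X] :
    Nat.card (Quot (fun a b : X => ∃ g : G, b = g • a)) * Nat.card G =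
      ∑ g : G, Nat.card {x : X // g • x = x} := by
  classical
  have := Fintype.ofFinite X
  have h := MulAction.sum_card_fixedBy_eq_card_orbits_mul_card_group G X
  have e : Quot (fun a b : X => ∃ g : G, b = g • a) ≃ Quotient (MulAction.orbitRel G X) :=
    Quot.congrRight (fun a b => by
      constructor
      · rintro ⟨g, rfl⟩
        exact ⟨g⁻¹, by simp⟩
      · rintro ⟨g, rfl⟩
        exact ⟨g⁻¹, by simp⟩)
  rw [Nat.card_congr e, Nat.card_eq_fintype_card, Nat.card_eq_fintype_card, ← h]
  apply Finset.sum_congr rfl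
  intro g _
  rw [Nat.card_eq_fintype_card]
  rfl

variable {G : Type u} [Group G]

/-- The action of `G` on the real-valued irreducible characters of a normal subgroup. -/
@[reducible] noncomputable def realIrrAction [Finite G] (K : Subgroup G) [K.Normal] :
    MulAction G {θ : Cfsg.IrrCharacter ↥K // ∀ k : ↥K, ((θ : ↥K → ℂ) k).im = 0} where
  smul g θ := ⟨⟨fun k => (θ.1 : ↥K → ℂ) (MulAut.conjNormal g⁻¹ k),
    irr_comp_mulEquiv (MulAut.conjNormal g⁻¹) θ.1⟩, fun k => θ.2 _⟩
  one_smul θ := by
    apply Subtype.ext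
    apply Subtype.ext
    funext k
    show (θ.1 : ↥K → ℂ) (MulAut.conjNormal (1 : G)⁻¹ k) = (θ.1 : ↥K → ℂ) k
    rw [inv_one, map_one, MulAut.one_apply]
  mul_smul g h θ := by
    apply Subtype.ext
    apply Subtype.ext
    funext k
    show (θ.1 : ↥K → ℂ) (MulAut.conjNormal (g * h)⁻¹ k) =
      (θ.1 : ↥K → ℂ) (MulAut.conjNormal h⁻¹ (MulAut.conjNormal g⁻¹ k))
    rw [mul_inv_rev, map_mul, MulAut.mul_apply]

/-- The action of `G` on the real elements of a normal subgroup. -/
@[reducible] def realElemAction (K : Subgroup G) [K.Normal] : MulAction G {x : ↥K // IsConj x x⁻¹} where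
  smul g x := ⟨MulAut.conjNormal g x.1, by
    have h := ((MulAut.conjNormal g : ↥K ≃* ↥K) : ↥K →* ↥K).map_isConj x.2
    rw [MonoidHom.coe_coe, map_inv] at h
    exact h⟩
  one_smul x := by
    apply Subtype.ext
    show MulAut.conjNormal (1 : G) x.1 = x.1
    rw [map_one, MulAut.one_apply]
  mul_smul g h x := by
    apply Subtype.ext
    show MulAut.conjNormal (g * h) x.1 = MulAut.conjNormal g (MulAut.conjNormal h x.1)
    rw [map_mul, MulAut.mul_apply]

/-- For a normal subgroup of odd index, an element that is real in `G` is real in `K`. -/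
theorem isConj_inv_of_odd_index (K : Subgroup G) [K.Normal] (hodd : Odd K.index) (k : ↥K)
    (h : IsConj (k : G) ((k : G)⁻¹)) : IsConj k k⁻¹ := by
  obtain ⟨g, hg⟩ := isConj_iff.mp h
  have hpow : ∀ j : ℕ, g ^ j * (k : G) * (g ^ j)⁻¹ = if Even j then (k : G) else (k : G)⁻¹ := by
    intro j
    induction j with
    | zero => simp
    | succ j ih =>
      have h1 : g ^ (j + 1) * (k : G) * (g ^ (j + 1))⁻¹ =
          g * (g ^ j * (k : G) * (g ^ j)⁻¹) * g⁻¹ := by
        rw [pow_succ']; group
      rw [h1, ih]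
      by_cases hj : Even j
      · rw [if_pos hj, if_neg (by rw [Nat.even_add_one]; exact not_not.mpr hj), hg]
      · rw [if_neg hj, if_pos (by rw [Nat.even_add_one]; exact hj)]
        have h2 : g * (k : G)⁻¹ * g⁻¹ = (g * (k : G) * g⁻¹)⁻¹ := by group
        rw [h2, hg, inv_inv]
  have hm := hpow K.index
  rw [if_neg (Nat.not_even_iff_odd.mpr hodd)] at hm
  rw [isConj_iff]
  exact ⟨⟨g ^ K.index, K.pow_index_mem g⟩, Subtype.ext hm⟩

/-- The twisted map `k ↦ (g⁻¹ k g)⁻¹` on a normal subgroup. -/
def twist (K : Subgroup G) [K.Normal] (g : G) (k : ↥K) : ↥K := (MulAut.conjNormal g⁻¹ k)⁻¹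

/-- The twisted irreducible character `k ↦ θ ((g⁻¹ k g)⁻¹)`. -/
noncomputable def twistIrr [Finite G] (K : Subgroup G) [K.Normal] (g : G)
    (θ : Cfsg.IrrCharacter ↥K) : Cfsg.IrrCharacter ↥K :=
  ⟨fun k => (θ : ↥K → ℂ) (twist K g k),
    irr_comp_mulEquiv (MulAut.conjNormal g⁻¹)
      (⟨fun k => (θ : ↥K → ℂ) k⁻¹, irr_comp_inv θ⟩ : Cfsg.IrrCharacter ↥K)⟩

theorem twistIrr_apply [Finite G] (K : Subgroup G) [K.Normal] (g : G)
    (θ : Cfsg.IrrCharacter ↥K) (k : ↥K) :
    (twistIrr K g θ : ↥K → ℂ) k = (θ : ↥K → ℂ) (twist K g k) := rfl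

/-- For odd index: `θ` is fixed by the twist by `g` iff it is real and fixed by `g`. -/
theorem twistIrr_eq_iff [Finite G] (K : Subgroup G) [K.Normal] (hodd : Odd K.index) (g : G)
    (θ : Cfsg.IrrCharacter ↥K) :
    twistIrr K g θ = θ ↔ (∀ k : ↥K, ((θ : ↥K → ℂ) k).im = 0) ∧
      ∀ k : ↥K, (θ : ↥K → ℂ) (MulAut.conjNormal g⁻¹ k) = (θ : ↥K → ℂ) k := by
  constructor
  · intro h
    have h1 : ∀ k : ↥K, (θ : ↥K → ℂ) (MulAut.conjNormal g⁻¹ k) = conj ((θ : ↥K → ℂ) k) := by
      intro k
      have h2 := congrFun (congrArg Subtype.val h) k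
      rw [twistIrr_apply, twist, irr_inv] at h2
      rw [← h2, Complex.conj_conj]
    have hpow : ∀ (j : ℕ) (k : ↥K), (θ : ↥K → ℂ) (MulAut.conjNormal (g ^ j)⁻¹ k) =
        if Even j then (θ : ↥K → ℂ) k else conj ((θ : ↥K → ℂ) k) := by
      intro j
      induction j with
      | zero =>
        intro k
        simp
      | succ j ih =>
        intro k
        have h3 : MulAut.conjNormal (g ^ (j + 1))⁻¹ k =
            MulAut.conjNormal (g ^ j)⁻¹ (MulAut.conjNormal g⁻¹ k) := by
          rw [← MulAut.mul_apply, ← map_mul, pow_succ', mul_inv_rev]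
        rw [h3, ih]
        by_cases hj : Even j
        · rw [if_pos hj, if_neg (by rw [Nat.even_add_one]; exact not_not.mpr hj), h1]
        · rw [if_neg hj, if_pos (by rw [Nat.even_add_one]; exact hj), h1, Complex.conj_conj]
    have hreal : ∀ k : ↥K, conj ((θ : ↥K → ℂ) k) = (θ : ↥K → ℂ) k := by
      intro k
      have hm := hpow K.index k
      rw [if_neg (Nat.not_even_iff_odd.mpr hodd)] at hm
      rw [← hm]
      have hu : g ^ K.index ∈ K := K.pow_index_mem g
      have h4 : MulAut.conjNormal (g ^ K.index)⁻¹ k =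
          (⟨g ^ K.index, hu⟩ : ↥K)⁻¹ * k * ((⟨g ^ K.index, hu⟩ : ↥K)⁻¹)⁻¹ := by
        apply Subtype.ext
        rw [MulAut.conjNormal_apply]
        rfl
      rw [h4, irr_conj]
    refine ⟨fun k => Complex.conj_eq_iff_im.mp (hreal k), fun k => ?_⟩
    rw [h1, hreal]
  · rintro ⟨hre, hfix⟩
    apply Subtype.ext
    funext k
    rw [twistIrr_apply, twist, irr_inv, hfix]
    exact Complex.conj_eq_iff_im.mpr (hre k)

open Classical in
/-- Counting the irreducible characters fixed by the twist, via the orthogonality relations. -/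
theorem card_fixed_mul [Finite G] (K : Subgroup G) [K.Normal] [Fintype ↥K] (g : G) :
    (Nat.card ↥K : ℂ) * (Nat.card {θ : Cfsg.IrrCharacter ↥K // twistIrr K g θ = θ} : ℂ) =
      ∑ k : ↥K, if IsConj k (twist K g k) then
        (Nat.card (Subgroup.centralizer ({k} : Set ↥K)) : ℂ) else 0 := by
  classical
  have := Fintype.ofFinite (Cfsg.IrrCharacter ↥K)
  have h1 : ∑ θ : Cfsg.IrrCharacter ↥K, ∑ k : ↥K,
      (θ : ↥K → ℂ) k * conj ((θ : ↥K → ℂ) (twist K g k)) =
      (Nat.card ↥K : ℂ) * (Nat.card {θ : Cfsg.IrrCharacter ↥K // twistIrr K g θ = θ} : ℂ) := by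
    have hθ : ∀ θ : Cfsg.IrrCharacter ↥K, ∑ k : ↥K,
        (θ : ↥K → ℂ) k * conj ((θ : ↥K → ℂ) (twist K g k)) =
        if twistIrr K g θ = θ then (Nat.card ↥K : ℂ) else 0 := by
      intro θ
      have h := irr_orthogonality' θ (twistIrr K g θ)
      simp_rw [twistIrr_apply] at h
      rw [h]
      by_cases h' : twistIrr K g θ = θ
      · rw [if_pos h', if_pos h'.symm]
      · rw [if_neg h', if_neg (fun h'' => h' h''.symm)]
    rw [Finset.sum_congr rfl (fun θ _ => hθ θ), Finset.sum_ite, Finset.sum_const_zero, add_zero,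
      Finset.sum_const, nsmul_eq_mul,
      Nat.card_eq_fintype_card (α := {θ : Cfsg.IrrCharacter ↥K // twistIrr K g θ = θ}),
      Fintype.card_subtype]
    ring
  rw [← h1, Finset.sum_comm]
  apply Finset.sum_congr rfl
  intro k _
  by_cases h : IsConj k (twist K g k)
  · rw [if_pos h, second_orthogonality_of_isConj h, card_centralizer_eq_of_isConj h]
  · rw [if_neg h, second_orthogonality_of_not_isConj h]

open Classical in
/-- The number of `g` whose twist sends `k` into its own `K`-class. -/
theorem sum_twist_conj [Fintype G] (K : Subgroup G) [K.Normal] [Fintype ↥K] (hodd : Odd K.index)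
    (k : ↥K) :
    ∑ g : G, (if IsConj k (twist K g k) then (1 : ℂ) else 0) =
      (Nat.card {u : ↥K // IsConj u k} : ℂ) *
        (if IsConj k k⁻¹ then (Nat.card (Subgroup.centralizer ({(k : G)} : Set G)) : ℂ) else 0) := by
  classical
  rw [← Finset.sum_fiberwise Finset.univ (fun g : G => twist K g k)
    (fun g => if IsConj k (twist K g k) then (1 : ℂ) else 0)]
  have hu : ∀ u : ↥K, ∑ g ∈ Finset.univ.filter (fun g : G => twist K g k = u),
      (if IsConj k (twist K g k) then (1 : ℂ) else 0) =
      if IsConj u k then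
        (if IsConj k k⁻¹ then (Nat.card (Subgroup.centralizer ({(k : G)} : Set G)) : ℂ) else 0)
      else 0 := by
    intro u
    have h1 : ∀ g ∈ Finset.univ.filter (fun g : G => twist K g k = u),
        (if IsConj k (twist K g k) then (1 : ℂ) else 0) = if IsConj k u then (1 : ℂ) else 0 := by
      intro g hg
      rw [(Finset.mem_filter.mp hg).2]
    rw [Finset.sum_congr rfl h1, Finset.sum_const, nsmul_eq_mul]
    have hcard : ((Finset.univ.filter (fun g : G => twist K g k = u)).card : ℂ) =
        (Nat.card {x : G // x * (k : G)⁻¹ * x⁻¹ = (u : G)} : ℂ) := by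
      congr 1
      rw [Nat.card_eq_fintype_card, Fintype.card_subtype]
      apply Finset.card_bij (fun g _ => g⁻¹)
      · intro g hg
        have h2 := (Finset.mem_filter.mp hg).2
        have h3 := congrArg Subtype.val h2
        simp only [twist, InvMemClass.coe_inv, MulAut.conjNormal_apply] at h3
        simp only [Finset.mem_filter, Finset.mem_univ, true_and]
        rw [← h3]; group
      · intro a _ b _ hab
        exact inv_injective hab
      · intro x hx
        refine ⟨x⁻¹, ?_, inv_inv x⟩
        have h2 := (Finset.mem_filter.mp hx).2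
        simp only [Finset.mem_filter, Finset.mem_univ, true_and]
        apply Subtype.ext
        simp only [twist, InvMemClass.coe_inv, MulAut.conjNormal_apply]
        rw [← h2]; group
    rw [hcard, Cfsg.Agent.S4856.card_conjugators]
    by_cases hku : IsConj u k
    · rw [if_pos hku, if_pos hku.symm, mul_one]
      by_cases hreal : IsConj k k⁻¹
      · have hG : IsConj (u : G) ((k : G)⁻¹) := by
          have := (K.subtype).map_isConj (hku.trans hreal)
          simpa using this
        have hG' : IsConj ((k : G)⁻¹) (k : G) := by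
          have := (K.subtype).map_isConj hreal.symm
          simpa using this
        rw [if_pos hreal, if_pos hG, card_centralizer_eq_of_isConj hG']
      · have hG : ¬ IsConj (u : G) ((k : G)⁻¹) := by
          intro h
          apply hreal
          apply isConj_inv_of_odd_index K hodd k
          have h' : IsConj (k : G) (u : G) := by
            have := (K.subtype).map_isConj hku.symm
            simpa using this
          exact h'.trans h
        rw [if_neg hreal, if_neg hG]
    · rw [if_neg hku, if_neg (fun h : IsConj k u => hku h.symm), mul_zero]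
  rw [Finset.sum_congr rfl (fun u _ => hu u), ← Finset.sum_filter, Finset.sum_const, nsmul_eq_mul]
  congr 2
  rw [Nat.card_eq_fintype_card, Fintype.card_subtype]

open Classical in
/-- Burnside count for the real elements: the fixed points summed over `G`. -/
theorem sum_fixed_elem [Fintype G] (K : Subgroup G) [K.Normal] [Fintype ↥K] :
    ∑ g : G, (Nat.card {y : {x : ↥K // IsConj x x⁻¹} // MulAut.conjNormal g y.1 = y.1} : ℂ) =
      ∑ k : ↥K, if IsConj k k⁻¹ then
        (Nat.card (Subgroup.centralizer ({(k : G)} : Set G)) : ℂ) else 0 := by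
  classical
  have h1 : ∀ g : G,
      (Nat.card {y : {x : ↥K // IsConj x x⁻¹} // MulAut.conjNormal g y.1 = y.1} : ℂ) =
      ∑ k : ↥K, if IsConj k k⁻¹ ∧ MulAut.conjNormal g k = k then (1 : ℂ) else 0 := by
    intro g
    rw [Finset.sum_boole]
    congr 1
    rw [Nat.card_congr (Equiv.subtypeSubtypeEquivSubtypeInter (fun x : ↥K => IsConj x x⁻¹)
      (fun x => MulAut.conjNormal g x = x)), Nat.card_eq_fintype_card, Fintype.card_subtype]
  rw [Finset.sum_congr rfl (fun g _ => h1 g), Finset.sum_comm]
  apply Finset.sum_congr rfl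
  intro k _
  by_cases hreal : IsConj k k⁻¹
  · rw [if_pos hreal]
    have h2 : ∀ g : G, (if IsConj k k⁻¹ ∧ MulAut.conjNormal g k = k then (1 : ℂ) else 0) =
        if MulAut.conjNormal g k = k then (1 : ℂ) else 0 := by
      intro g
      by_cases h : MulAut.conjNormal g k = k
      · rw [if_pos ⟨hreal, h⟩, if_pos h]
      · rw [if_neg (fun h' => h h'.2), if_neg h]
    rw [Finset.sum_congr rfl (fun g _ => h2 g), Finset.sum_boole]
    have h3 : ((Finset.univ.filter (fun g : G => MulAut.conjNormal g k = k)).card : ℂ) =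
        (Nat.card {g : G // g * (k : G) * g⁻¹ = (k : G)} : ℂ) := by
      congr 1
      rw [Nat.card_eq_fintype_card, Fintype.card_subtype]
      congr 1
      ext g
      simp only [Finset.mem_filter, Finset.mem_univ, true_and]
      rw [Subtype.ext_iff, MulAut.conjNormal_apply]
    rw [h3, Cfsg.Agent.S4856.card_conjugators, if_pos (IsConj.refl _)]
  · rw [if_neg hreal]
    apply Finset.sum_eq_zero
    intro g _
    rw [if_neg (fun h' => hreal h'.1)]

open Classical in
/-- Burnside count for the real irreducible characters: the fixed points summed over `G`. -/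
theorem sum_fixed_irr [Fintype G] (K : Subgroup G) [K.Normal] [Fintype ↥K] (hodd : Odd K.index) :
    ∑ g : G, (Nat.card {θ : Cfsg.IrrCharacter ↥K // twistIrr K g θ = θ} : ℂ) =
      ∑ k : ↥K, if IsConj k k⁻¹ then
        (Nat.card (Subgroup.centralizer ({(k : G)} : Set G)) : ℂ) else 0 := by
  classical
  have hK0 : (Nat.card ↥K : ℂ) ≠ 0 := by exact_mod_cast Nat.card_pos.ne'
  apply mul_left_cancel₀ hK0
  rw [Finset.mul_sum, Finset.sum_congr rfl (fun g _ => card_fixed_mul K g), Finset.sum_comm,
    Finset.mul_sum]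
  apply Finset.sum_congr rfl
  intro k _
  have h1 : ∀ g : G, (if IsConj k (twist K g k) then
      (Nat.card (Subgroup.centralizer ({k} : Set ↥K)) : ℂ) else 0) =
      (Nat.card (Subgroup.centralizer ({k} : Set ↥K)) : ℂ) *
        (if IsConj k (twist K g k) then (1 : ℂ) else 0) := by
    intro g
    by_cases h : IsConj k (twist K g k)
    · rw [if_pos h, if_pos h, mul_one]
    · rw [if_neg h, if_neg h, mul_zero]
  rw [Finset.sum_congr rfl (fun g _ => h1 g), ← Finset.mul_sum, sum_twist_conj K hodd k,
    ← mul_assoc, mul_comm (Nat.card (Subgroup.centralizer ({k} : Set ↥K)) : ℂ), ← Nat.cast_mul,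
    card_conj_mul_card_centralizer]

/-- Let K be a normal subgroup of odd index in the finite group G. Then G has as many orbits on the real-valued irreducible complex characters of K (acting by conjugation) as it has orbits on the conjugacy classes of K that are real in K; equivalently, the number of G-orbits of real-valued irreducible characters of K equals the number of G-conjugacy classes of elements of K that are conjugate in K to their inverses. -/
theorem result {G : Type*} [Group G] [Finite G] (K : Subgroup G) [K.Normal] (hodd : Odd K.index) : Nat.card (Quot (fun θ η : {θ : Cfsg.IrrCharacter ↥K // (∀ k : ↥K, ((θ : ↥K → ℂ) k).im = 0)} => ∃ g : G, ∀ k k' : ↥K, (k' : G) = g * (k : G) * g⁻¹ → (η.1 : ↥K → ℂ) k' = (θ.1 : ↥K → ℂ) k)) = Nat.card (Quot (fun x y : {x : ↥K // IsConj x x⁻¹} => ∃ g : G, (y.1 : G) = g * x.1 * g⁻¹)) := by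
  classical
  have := Fintype.ofFinite G
  have : Fintype ↥K := Fintype.ofFinite ↥K
  let actX := realIrrAction K
  let actY := realElemAction K
  have eX : Quot (fun θ η : {θ : Cfsg.IrrCharacter ↥K // (∀ k : ↥K, ((θ : ↥K → ℂ) k).im = 0)} =>
      ∃ g : G, ∀ k k' : ↥K, (k' : G) = g * (k : G) * g⁻¹ →
        (η.1 : ↥K → ℂ) k' = (θ.1 : ↥K → ℂ) k) ≃
      Quot (fun a b : {θ : Cfsg.IrrCharacter ↥K // (∀ k : ↥K, ((θ : ↥K → ℂ) k).im = 0)} =>
        ∃ g : G, b = g • a) :=
    Quot.congrRight (fun θ η => by
      constructor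
      · rintro ⟨g, hg⟩
        refine ⟨g, ?_⟩
        apply Subtype.ext
        apply Subtype.ext
        funext k'
        show (η.1 : ↥K → ℂ) k' = (θ.1 : ↥K → ℂ) (MulAut.conjNormal g⁻¹ k')
        exact hg (MulAut.conjNormal g⁻¹ k') k' (by rw [MulAut.conjNormal_apply]; group)
      · rintro ⟨g, rfl⟩
        refine ⟨g, fun k k' hk' => ?_⟩
        show (θ.1 : ↥K → ℂ) (MulAut.conjNormal g⁻¹ k') = (θ.1 : ↥K → ℂ) k
        refine congrArg _ (Subtype.ext ?_)
        rw [MulAut.conjNormal_apply, hk']
        group)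
  have eY : Quot (fun x y : {x : ↥K // IsConj x x⁻¹} => ∃ g : G, (y.1 : G) = g * x.1 * g⁻¹) ≃
      Quot (fun a b : {x : ↥K // IsConj x x⁻¹} => ∃ g : G, b = g • a) :=
    Quot.congrRight (fun x y => by
      constructor
      · rintro ⟨g, hg⟩
        exact ⟨g, Subtype.ext (Subtype.ext (by
          rw [hg]; exact (MulAut.conjNormal_apply g x.1).symm))⟩
      · rintro ⟨g, rfl⟩
        exact ⟨g, MulAut.conjNormal_apply g x.1⟩)
  rw [Nat.card_congr eX, Nat.card_congr eY]
  have hX := card_quot_mul_card (G := G)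
    (X := {θ : Cfsg.IrrCharacter ↥K // (∀ k : ↥K, ((θ : ↥K → ℂ) k).im = 0)})
  have hY := card_quot_mul_card (G := G) (X := {x : ↥K // IsConj x x⁻¹})
  have key : ∑ g : G, Nat.card {x : {θ : Cfsg.IrrCharacter ↥K //
        (∀ k : ↥K, ((θ : ↥K → ℂ) k).im = 0)} // g • x = x} =
      ∑ g : G, Nat.card {y : {x : ↥K // IsConj x x⁻¹} // g • y = y} := by
    apply Nat.cast_injective (R := ℂ)
    rw [Nat.cast_sum, Nat.cast_sum]
    have hA : ∀ g : G, (Nat.card {x : {θ : Cfsg.IrrCharacter ↥K //
        (∀ k : ↥K, ((θ : ↥K → ℂ) k).im = 0)} // g • x = x} : ℂ) =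
        (Nat.card {θ : Cfsg.IrrCharacter ↥K // twistIrr K g θ = θ} : ℂ) := by
      intro g
      congr 1
      apply Nat.card_congr
      exact
        { toFun := fun x => ⟨x.1.1, (twistIrr_eq_iff K hodd g x.1.1).mpr
            ⟨x.1.2, fun k => congrFun (congrArg (fun t => (t.1.1 : ↥K → ℂ)) x.2) k⟩⟩
          invFun := fun θ => ⟨⟨θ.1, ((twistIrr_eq_iff K hodd g θ.1).mp θ.2).1⟩,
            Subtype.ext (Subtype.ext (funext ((twistIrr_eq_iff K hodd g θ.1).mp θ.2).2))⟩
          left_inv := fun x => rfl
          right_inv := fun θ => rfl }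
    have hB : ∀ g : G, (Nat.card {y : {x : ↥K // IsConj x x⁻¹} // g • y = y} : ℂ) =
        (Nat.card {y : {x : ↥K // IsConj x x⁻¹} // MulAut.conjNormal g y.1 = y.1} : ℂ) := by
      intro g
      congr 1
      apply Nat.card_congr
      exact Equiv.subtypeEquivRight (fun y => Subtype.ext_iff)
    rw [Finset.sum_congr rfl (fun g _ => hA g), Finset.sum_congr rfl (fun g _ => hB g),
      sum_fixed_irr K hodd, sum_fixed_elem K]
  have hpos : 0 < Nat.card G := Nat.card_pos
  exact Nat.eq_of_mul_eq_mul_right hpos (by rw [hX, hY, key])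

end Cfsg.Agent.S4866
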