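import Cfsg.Statements.S4870
import Cfsg.Agent.Lib.helper83.CliffordInd
import Cfsg.Agent.Lib.helper84.LinTwist
import Cfsg.Agent.Lib.helper82.CharQuot
-- import your own Cfsg.Agent.* helpers here

set_option autoImplicit false
open Cfsg

namespace Cfsg.Agent.S4870

open Cfsg.Agent.Lib.helper83 Cfsg.Agent.Lib.helper84
open scoped ComplexConjugate commutatorElement

universe u

variable {G : Type u} [Group G]

/-- Character sum of a homomorphism into `ℂˣ` over a finite group. -/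
theorem sum_hom_eq_zero {H : Type*} [Group H] [Fintype H] (f : H →* ℂˣ) (hf : f ≠ 1) :
    ∑ h : H, ((f h : ℂˣ) : ℂ) = 0 := by
  have hex : ∃ h₀ : H, f h₀ ≠ 1 := by
    by_contra hcon
    exact hf (MonoidHom.ext fun h => by
      by_contra h'
      exact hcon ⟨h, h'⟩)
  obtain ⟨h₀, hh₀⟩ := hex
  have h1 : ∑ h : H, ((f h : ℂˣ) : ℂ) = ∑ h : H, ((f (h₀ * h) : ℂˣ) : ℂ) :=
    (Fintype.sum_equiv (Equiv.mulLeft h₀) _ _ (fun h => rfl)).symm
  have h2 : ∑ h : H, ((f (h₀ * h) : ℂˣ) : ℂ) = ((f h₀ : ℂˣ) : ℂ) * ∑ h : H, ((f h : ℂˣ) : ℂ) := by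
    rw [Finset.mul_sum]
    exact Finset.sum_congr rfl fun h _ => by rw [map_mul, Units.val_mul]
  have h3 : (1 - ((f h₀ : ℂˣ) : ℂ)) * ∑ h : H, ((f h : ℂˣ) : ℂ) = 0 := by
    rw [sub_mul, one_mul, ← h2, ← h1, sub_self]
  rcases mul_eq_zero.mp h3 with h4 | h4
  · exfalso
    apply hh₀
    apply Units.ext
    rw [Units.val_one]
    exact (sub_eq_zero.mp h4).symm
  · exact h4

theorem sum_hom_one {H : Type*} [Group H] [Fintype H] :
    ∑ h : H, (((1 : H →* ℂˣ) h : ℂˣ) : ℂ) = (Nat.card H : ℂ) := by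
  simp [Nat.card_eq_fintype_card]

instance finite_linChar [Finite G] : Finite (G →* ℂˣ) := by
  apply Finite.of_injective (fun lam : G →* ℂˣ =>
    (⟨fun g => ((lam g : ℂˣ) : ℂ), Cfsg.Agent.Lib.helper82.isIrrCharacter_of_hom lam⟩ :
      IrrCharacter G))
  intro a b hab
  apply MonoidHom.ext
  intro g
  apply Units.ext
  exact congrFun (congrArg Subtype.val hab) g

/-- There are at most as many irreducible characters of degree one as homomorphisms to `ℂˣ`. -/
theorem card_linear_le [Finite G] :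
    Nat.card {χ : IrrCharacter G // charDegree (χ : G → ℂ) = 1} ≤ Nat.card (G →* ℂˣ) := by
  have hex : ∀ χ : {χ : IrrCharacter G // charDegree (χ : G → ℂ) = 1},
      ∃ f : G →* ℂˣ, ∀ g, (χ.1 : G → ℂ) g = ((f g : ℂˣ) : ℂ) := by
    intro χ
    apply Cfsg.Agent.Lib.helper82.exists_hom_of_linear (isCharacter_of_irr χ.1.2)
    rw [irr_one_eq_charDegree, χ.2, Nat.cast_one]
  choose F hF using hex
  apply Nat.card_le_card_of_injective F
  intro a b hab
  apply Subtype.ext
  apply Subtype.ext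
  funext g
  rw [hF a g, hF b g, hab]

/-- The common kernel of a subgroup of linear characters. -/
def commonKer (S : Subgroup (G →* ℂˣ)) : Subgroup G where
  carrier := {g | ∀ μ ∈ S, μ g = 1}
  mul_mem' := by
    intro a b ha hb μ hμ
    rw [map_mul, ha μ hμ, hb μ hμ, one_mul]
  one_mem' := by
    intro μ _
    exact map_one μ
  inv_mem' := by
    intro a ha μ hμ
    rw [map_inv, ha μ hμ, inv_one]

theorem mem_commonKer (S : Subgroup (G →* ℂˣ)) (g : G) :
    g ∈ commonKer S ↔ ∀ μ ∈ S, μ g = 1 := Iff.rfl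

/-- `|S| * |K| = |G|` for the common kernel `K` of a subgroup `S` of linear characters. -/
theorem card_mul_card_commonKer [Finite G] (S : Subgroup (G →* ℂˣ)) :
    Nat.card S * Nat.card (commonKer S) = Nat.card G := by
  classical
  have := Fintype.ofFinite G
  have : Fintype S := Fintype.ofFinite S
  have h1 : ∑ μ : S, ∑ g : G, (((μ : G →* ℂˣ) g : ℂˣ) : ℂ) = (Nat.card G : ℂ) := by
    rw [Finset.sum_eq_single (1 : S)]
    · exact sum_hom_one
    · intro μ _ hμ
      apply sum_hom_eq_zero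
      intro h
      exact hμ (Subtype.ext h)
    · intro h
      exact absurd (Finset.mem_univ _) h
  have h2 : ∀ g : G, ∑ μ : S, (((μ : G →* ℂˣ) g : ℂˣ) : ℂ) =
      if g ∈ commonKer S then (Nat.card S : ℂ) else 0 := by
    intro g
    by_cases hg : g ∈ commonKer S
    · rw [if_pos hg]
      have : ∀ μ : S, (((μ : G →* ℂˣ) g : ℂˣ) : ℂ) = 1 := by
        intro μ
        rw [hg μ.1 μ.2, Units.val_one]
      simp [this, Nat.card_eq_fintype_card]
    · rw [if_neg hg]
      have h3 := sum_hom_eq_zero ((MonoidHom.eval g).comp S.subtype) (by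
        intro h
        apply hg
        intro μ hμ
        have := congrArg (fun f : S →* ℂˣ => f ⟨μ, hμ⟩) h
        exact this)
      exact h3
  rw [Finset.sum_comm, Finset.sum_congr rfl (fun g _ => h2 g), Finset.sum_ite,
    Finset.sum_const_zero, add_zero, Finset.sum_const, nsmul_eq_mul] at h1
  have h4 : ((Finset.univ.filter (fun g : G => g ∈ commonKer S)).card : ℂ) =
      (Nat.card (commonKer S) : ℂ) := by
    congr 1
    rw [Nat.card_eq_fintype_card, Fintype.card_subtype]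
  rw [h4] at h1
  have h5 : ((Nat.card S * Nat.card (commonKer S) : ℕ) : ℂ) = (Nat.card G : ℂ) := by
    rw [Nat.cast_mul, mul_comm]
    exact h1
  exact_mod_cast h5

/-- A non-abelian minimal normal subgroup lies in the kernel of every linear character. -/
theorem hom_eq_one_of_mem (N : Subgroup G) (hN : N.Normal)
    (hmin : ∀ M : Subgroup G, M.Normal → M ≤ N → M = ⊥ ∨ M = N) (hna : ¬ IsMulCommutative ↥N)
    (μ : G →* ℂˣ) {n : G} (hn : n ∈ N) : μ n = 1 := by
  have : N.Normal := hN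
  have hMn : ((commutator ↥N).map N.subtype).Normal := inferInstance
  have hMle : (commutator ↥N).map N.subtype ≤ N := Subgroup.map_subtype_le _
  rcases hmin _ hMn hMle with h | h
  · exfalso
    apply hna
    have hc : commutator ↥N = ⊥ :=
      (Subgroup.map_eq_bot_iff_of_injective _ N.subtype_injective).mp h
    refine ⟨⟨fun a b => ?_⟩⟩
    have h1 : ⁅a, b⁆ ∈ commutator ↥N := Subgroup.commutator_mem_commutator
      (Subgroup.mem_top a) (Subgroup.mem_top b)
    rw [hc, Subgroup.mem_bot] at h1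
    exact (commutatorElement_eq_one_iff_commute.mp h1).eq
  · rw [← h] at hn
    obtain ⟨c, hc, rfl⟩ := hn
    have h1 : c ∈ (μ.comp N.subtype).ker := Abelianization.commutator_subset_ker _ hc
    exact MonoidHom.mem_ker.mp h1

/-- The stabilizer of the induced character under twisting by linear characters has at most
`[G : I]` elements. -/
theorem card_stabilizer_le [Fintype G] (N : Subgroup G) (hN : N.Normal)
    (hmin : ∀ M : Subgroup G, M.Normal → M ≤ N → M = ⊥ ∨ M = N) (hna : ¬ IsMulCommutative ↥N)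
    (φ : IrrCharacter ↥N) (I : Subgroup G)
    (hI : ∀ g : G, g ∈ I ↔ ∀ n n' : ↥N, (n' : G) = g * (n : G) * g⁻¹ →
      (φ : ↥N → ℂ) n' = (φ : ↥N → ℂ) n) (hNI : N ≤ I)
    (ψ : IrrCharacter ↥I)
    (hψ : ∀ n : ↥N, (ψ : ↥I → ℂ) (Subgroup.inclusion hNI n) = (φ : ↥N → ℂ) n)
    (θ : IrrCharacter G) (hθ : (θ : G → ℂ) = Cfsg.indFun I (ψ : ↥I → ℂ)) :
    Nat.card (MulAction.stabilizer (G →* ℂˣ) θ) ≤ I.index := by
  classical
  have : N.Normal := hN
  have : Fintype ↥N := Fintype.ofFinite ↥N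
  have : Fintype ↥(commonKer (MulAction.stabilizer (G →* ℂˣ) θ)) := Fintype.ofFinite _
  have hNK : N ≤ commonKer (MulAction.stabilizer (G →* ℂˣ) θ) :=
    fun n hn μ _ => hom_eq_one_of_mem N hN hmin hna μ hn
  have hvan : ∀ g : G, g ∉ commonKer (MulAction.stabilizer (G →* ℂˣ) θ) →
      (θ : G → ℂ) g = 0 := by
    intro g hg
    have hex : ∃ μ ∈ MulAction.stabilizer (G →* ℂˣ) θ, μ g ≠ 1 := by
      by_contra hcon
      apply hg
      intro μ hμ
      by_contra h'
      exact hcon ⟨μ, hμ, h'⟩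
    obtain ⟨μ, hμS, hμg⟩ := hex
    have h1 : μ • θ = θ := MulAction.mem_stabilizer_iff.mp hμS
    have h2 := congrFun (congrArg Subtype.val h1) g
    rw [linChar_smul_apply] at h2
    have h3 : (((μ g : ℂˣ) : ℂ) - 1) * (θ : G → ℂ) g = 0 := by
      rw [sub_mul, one_mul, h2, sub_self]
    rcases mul_eq_zero.mp h3 with h4 | h4
    · exfalso
      apply hμg
      apply Units.ext
      rw [Units.val_one]
      exact sub_eq_zero.mp h4
    · exact h4
  have hnormK : classInner
      (fun k : ↥(commonKer (MulAction.stabilizer (G →* ℂˣ) θ)) => (θ : G → ℂ) k)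
      (fun k : ↥(commonKer (MulAction.stabilizer (G →* ℂˣ) θ)) => (θ : G → ℂ) k) =
      (Nat.card (MulAction.stabilizer (G →* ℂˣ) θ) : ℂ) := by
    have h1 : classInner (θ : G → ℂ) (θ : G → ℂ) = 1 :=
      Cfsg.Agent.Lib.helper4.classInner_irr_self θ.2
    rw [classInner_def] at h1 ⊢
    have h2 : ∑ g : G, (θ : G → ℂ) g * conj ((θ : G → ℂ) g) =
        ∑ k : ↥(commonKer (MulAction.stabilizer (G →* ℂˣ) θ)),
          (θ : G → ℂ) k * conj ((θ : G → ℂ) k) := by
      rw [← Finset.sum_subtype (Finset.univ.filter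
        (fun g : G => g ∈ commonKer (MulAction.stabilizer (G →* ℂˣ) θ))) (by simp)
        (fun g => (θ : G → ℂ) g * conj ((θ : G → ℂ) g)), Finset.sum_filter]
      apply Finset.sum_congr rfl
      intro g _
      by_cases hg : g ∈ commonKer (MulAction.stabilizer (G →* ℂˣ) θ)
      · rw [if_pos hg]
      · rw [if_neg hg, hvan g hg, zero_mul]
    rw [h2] at h1
    have hc := card_mul_card_commonKer (MulAction.stabilizer (G →* ℂˣ) θ)
    have hG0 : (Nat.card G : ℂ) ≠ 0 := by exact_mod_cast Nat.card_pos.ne'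
    have hK0 : (Nat.card ↥(commonKer (MulAction.stabilizer (G →* ℂˣ) θ)) : ℂ) ≠ 0 := by
      exact_mod_cast Nat.card_pos.ne'
    have h3 : ∑ k : ↥(commonKer (MulAction.stabilizer (G →* ℂˣ) θ)),
        (θ : G → ℂ) k * conj ((θ : G → ℂ) k) = (Nat.card G : ℂ) := by
      have := congrArg (fun z => (Nat.card G : ℂ) * z) h1
      simp only [mul_one] at this
      rw [← mul_assoc, mul_inv_cancel₀ hG0, one_mul] at this
      exact this
    rw [h3, ← hc, Nat.cast_mul]
    field_simp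
  obtain ⟨m, m', hm, hm', hle⟩ := classInner_le_comp (Subgroup.inclusion hNK)
    (Cfsg.Agent.Lib.helper4.isCharacter_restrict _ (isCharacter_of_irr θ.2))
    (Cfsg.Agent.Lib.helper4.isCharacter_restrict _ (isCharacter_of_irr θ.2))
  rw [hnormK] at hm
  have h2 : (fun a : ↥N => (fun k : ↥(commonKer (MulAction.stabilizer (G →* ℂˣ) θ)) =>
      (θ : G → ℂ) k) (Subgroup.inclusion hNK a)) =
      fun n : ↥N => Cfsg.indFun I (ψ : ↥I → ℂ) (n : G) := by
    funext n
    rw [hθ]
    rfl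
  rw [h2, classInner_indFun_restrict_self N I hNI φ hI (ψ : ↥I → ℂ) hψ] at hm'
  have e1 : Nat.card (MulAction.stabilizer (G →* ℂˣ) θ) = m := by exact_mod_cast hm
  have e2 : I.index = m' := by exact_mod_cast hm'
  rw [e1, e2]
  exact hle

/-- Let G be a finite group with a non-abelian minimal normal subgroup N, and let φ be an irreducible complex character of N with stabilizer I in G (the elements g with φ(g n g⁻¹) = φ(n) for all n ∈ N) such that φ extends to an irreducible character of I. Put d = φ(1)·[G : I]. Then the number of linear characters of G is at most [G : I] times the number of irreducible characters of G of degree d. -/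
theorem result {G : Type*} [Group G] [Finite G] (N : Subgroup G) (hN : N.Normal) (hN1 : N ≠ ⊥) (hmin : ∀ M : Subgroup G, M.Normal → M ≤ N → M = ⊥ ∨ M = N) (hna : ¬ IsMulCommutative ↥N) (φ : Cfsg.IrrCharacter ↥N) (I : Subgroup G) (hI : ∀ g : G, g ∈ I ↔ ∀ n n' : ↥N, (n' : G) = g * (n : G) * g⁻¹ → (φ : ↥N → ℂ) n' = (φ : ↥N → ℂ) n) (hNI : N ≤ I) (hext : ∃ ψ : Cfsg.IrrCharacter ↥I, ∀ n : ↥N, (ψ : ↥I → ℂ) (Subgroup.inclusion hNI n) = (φ : ↥N → ℂ) n) : Nat.card {χ : Cfsg.IrrCharacter G // Cfsg.charDegree (χ : G → ℂ) = 1} ≤ I.index * Nat.card {χ : Cfsg.IrrCharacter G // Cfsg.charDegree (χ : G → ℂ) = Cfsg.charDegree (φ : ↥N → ℂ) * I.index} := by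
  classical
  have := Fintype.ofFinite G
  have : N.Normal := hN
  obtain ⟨ψ, hψ⟩ := hext
  let θ : IrrCharacter G := ⟨Cfsg.indFun I (ψ : ↥I → ℂ),
    irr_indFun_of_extends N I hNI φ hI (ψ : ↥I → ℂ) hψ ψ.2⟩
  have h1 := card_linear_le (G := G)
  have h2 : Nat.card (MulAction.orbit (G →* ℂˣ) θ) *
      Nat.card (MulAction.stabilizer (G →* ℂˣ) θ) = Nat.card (G →* ℂˣ) := by
    rw [Nat.card_coe_set_eq, ← MulAction.index_stabilizer, Subgroup.index_mul_card]
  have h3 := card_stabilizer_le N hN hmin hna φ I hI hNI ψ hψ θ rfl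
  have hψ1 : (ψ : ↥I → ℂ) 1 = (φ : ↥N → ℂ) 1 := by
    have := hψ 1
    rwa [map_one] at this
  have hdeg : ∀ χ : IrrCharacter G, χ ∈ MulAction.orbit (G →* ℂˣ) θ →
      Cfsg.charDegree (χ : G → ℂ) = Cfsg.charDegree (φ : ↥N → ℂ) * I.index := by
    rintro χ ⟨lam, rfl⟩
    apply Nat.cast_injective (R := ℂ)
    have e1 : ((lam • θ : IrrCharacter G) : G → ℂ) 1 = (θ : G → ℂ) 1 := by
      show ((lam 1 : ℂˣ) : ℂ) * (θ : G → ℂ) 1 = (θ : G → ℂ) 1
      rw [map_one, Units.val_one, one_mul]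
    have e2 : (θ : G → ℂ) 1 = (I.index : ℂ) * (ψ : ↥I → ℂ) 1 :=
      Cfsg.Agent.Lib.helper4.indFun_one I (ψ : ↥I → ℂ)
    rw [← irr_one_eq_charDegree, e1, e2, hψ1, irr_one_eq_charDegree, Nat.cast_mul, mul_comm]
  have h4 : Nat.card (MulAction.orbit (G →* ℂˣ) θ) ≤
      Nat.card {χ : Cfsg.IrrCharacter G // Cfsg.charDegree (χ : G → ℂ) =
        Cfsg.charDegree (φ : ↥N → ℂ) * I.index} := by
    apply Nat.card_le_card_of_injective
      (fun χ : MulAction.orbit (G →* ℂˣ) θ =>
        (⟨χ.1, hdeg χ.1 χ.2⟩ : {χ : Cfsg.IrrCharacter G // Cfsg.charDegree (χ : G → ℂ) =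
          Cfsg.charDegree (φ : ↥N → ℂ) * I.index}))
    intro a b hab
    have hab' : (⟨a.1, hdeg a.1 a.2⟩ : {χ : Cfsg.IrrCharacter G // Cfsg.charDegree (χ : G → ℂ) =
        Cfsg.charDegree (φ : ↥N → ℂ) * I.index}) = ⟨b.1, hdeg b.1 b.2⟩ := hab
    have h5 : (a : IrrCharacter G) = (b : IrrCharacter G) := by
      injection hab'
    exact Subtype.ext h5
  calc Nat.card {χ : Cfsg.IrrCharacter G // Cfsg.charDegree (χ : G → ℂ) = 1}
      ≤ Nat.card (G →* ℂˣ) := h1
    _ = Nat.card (MulAction.orbit (G →* ℂˣ) θ) *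
          Nat.card (MulAction.stabilizer (G →* ℂˣ) θ) := h2.symm
    _ ≤ Nat.card {χ : Cfsg.IrrCharacter G // Cfsg.charDegree (χ : G → ℂ) =
          Cfsg.charDegree (φ : ↥N → ℂ) * I.index} * I.index := Nat.mul_le_mul h4 h3
    _ = _ := mul_comm _ _

end Cfsg.Agent.S4870
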