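import Mathlib
import Cfsg.Statements.S4912
import Cfsg.Agent.S4870
import Cfsg.Agent.Lib.helper83.RealInd

set_option autoImplicit false
open Cfsg

namespace Cfsg.Agent.S4912

open Cfsg.Agent.Lib.helper83 Cfsg.Agent.Lib.helper84 Cfsg.Agent.S4870
open scoped ComplexConjugate

universe u

/-- The group of linear characters with square one (the real linear characters). -/
def realLin (G : Type u) [Group G] : Subgroup (G →* ℂˣ) where
  carrier := {f | ∀ g : G, f g * f g = 1}
  mul_mem' := by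
    intro a b ha hb g
    have ha' : a g * a g = 1 := ha g
    have hb' : b g * b g = 1 := hb g
    rw [MonoidHom.mul_apply, mul_mul_mul_comm, ha', hb', one_mul]
  one_mem' := by
    intro g
    rw [MonoidHom.one_apply, one_mul]
  inv_mem' := by
    intro a ha g
    have ha' : a g * a g = 1 := ha g
    rw [MonoidHom.inv_apply, ← mul_inv, ha', inv_one]

variable {G : Type u} [Group G]

theorem realLin_apply_sq (lam : realLin G) (g : G) : (lam : G →* ℂˣ) (g * g) = 1 := by
  rw [map_mul]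
  exact lam.2 g

/-- Linear characters with Frobenius–Schur indicator one inject into the real linear
characters. -/
theorem card_real_linear_le [Finite G] :
    Nat.card {χ : IrrCharacter G // charDegree (χ : G → ℂ) = 1 ∧
      (Nat.card G : ℂ)⁻¹ * ∑ᶠ g : G, (χ : G → ℂ) (g * g) = 1} ≤ Nat.card (realLin G) := by
  classical
  have := Fintype.ofFinite G
  have hex : ∀ χ : {χ : IrrCharacter G // charDegree (χ : G → ℂ) = 1 ∧
      (Nat.card G : ℂ)⁻¹ * ∑ᶠ g : G, (χ : G → ℂ) (g * g) = 1},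
      ∃ f : realLin G, ∀ g, (χ.1 : G → ℂ) g = (((f : G →* ℂˣ) g : ℂˣ) : ℂ) := by
    intro χ
    obtain ⟨f, hf⟩ := Cfsg.Agent.Lib.helper82.exists_hom_of_linear (isCharacter_of_irr χ.1.2)
      (by rw [irr_one_eq_charDegree, χ.2.1, Nat.cast_one])
    refine ⟨⟨f, ?_⟩, hf⟩
    have hff : f * f = 1 := by
      by_contra hne
      have h0 := sum_hom_eq_zero (f * f) hne
      have h1 := χ.2.2
      rw [finsum_eq_sum_of_fintype] at h1
      have h2 : ∑ g : G, (χ.1 : G → ℂ) (g * g) = ∑ g : G, (((f * f) g : ℂˣ) : ℂ) := by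
        refine Finset.sum_congr rfl (fun g _ => ?_)
        rw [hf, map_mul, MonoidHom.mul_apply]
      rw [h2, h0, mul_zero] at h1
      exact zero_ne_one h1
    intro g
    have h3 := congrArg (fun k : G →* ℂˣ => k g) hff
    simpa [MonoidHom.mul_apply] using h3
  choose F hF using hex
  apply Nat.card_le_card_of_injective F
  intro a b hab
  apply Subtype.ext
  apply Subtype.ext
  funext g
  rw [hF a g, hF b g, hab]

/-- Let G be a finite group with a non-abelian minimal normal subgroup N, and let φ be an irreducible complex character of N with stabilizer I in G such that φ extends to an irreducible character of I with Frobenius–Schur indicator +1. Put d = φ(1)·[G : I]. Then the number of linear characters of G with Frobenius–Schur indicator +1 is at most [G : I] times the number of irreducible characters of G of degree d with Frobenius–Schur indicator +1. -/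
theorem result {G : Type*} [Group G] [Finite G] (N : Subgroup G) (hN : N.Normal) (hN1 : N ≠ ⊥) (hmin : ∀ M : Subgroup G, M.Normal → M ≤ N → M = ⊥ ∨ M = N) (hna : ¬ IsMulCommutative ↥N) (φ : Cfsg.IrrCharacter ↥N) (I : Subgroup G) (hI : ∀ g : G, g ∈ I ↔ ∀ n n' : ↥N, (n' : G) = g * (n : G) * g⁻¹ → (φ : ↥N → ℂ) n' = (φ : ↥N → ℂ) n) (hNI : N ≤ I) (hext : ∃ ψ : Cfsg.IrrCharacter ↥I, (Nat.card ↥I : ℂ)⁻¹ * ∑ᶠ g : ↥I, (ψ : ↥I → ℂ) (g * g) = 1 ∧ ∀ n : ↥N, (ψ : ↥I → ℂ) (Subgroup.inclusion hNI n) = (φ : ↥N → ℂ) n) : Nat.card {χ : Cfsg.IrrCharacter G // Cfsg.charDegree (χ : G → ℂ) = 1 ∧ (Nat.card G : ℂ)⁻¹ * ∑ᶠ g : G, (χ : G → ℂ) (g * g) = 1} ≤ I.index * Nat.card {χ : Cfsg.IrrCharacter G // Cfsg.charDegree (χ : G → ℂ) = Cfsg.charDegree (φ : ↥N → ℂ) * I.index ∧ (Nat.card G : ℂ)⁻¹ * ∑ᶠ g : G, (χ : G → ℂ) (g * g) = 1} := by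
  classical
  have := Fintype.ofFinite G
  have : N.Normal := hN
  have : Fintype ↥I := Fintype.ofFinite _
  obtain ⟨ψ, hψν, hψ⟩ := hext
  rw [finsum_eq_sum_of_fintype] at hψν
  let θ : IrrCharacter G := ⟨Cfsg.indFun I (ψ : ↥I → ℂ),
    irr_indFun_of_extends N I hNI φ hI (ψ : ↥I → ℂ) hψ ψ.2⟩
  have hθν : (Nat.card G : ℂ)⁻¹ * ∑ s : G, (θ : G → ℂ) (s * s) = 1 :=
    fs_indicator_indFun I ψ hψν θ rfl
  have h1 := card_real_linear_le (G := G)
  have h2 : Nat.card (MulAction.orbit (realLin G) θ) *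
      Nat.card (MulAction.stabilizer (realLin G) θ) = Nat.card (realLin G) := by
    rw [Nat.card_coe_set_eq, ← MulAction.index_stabilizer, Subgroup.index_mul_card]
  have h3 : Nat.card (MulAction.stabilizer (realLin G) θ) ≤ I.index := by
    refine le_trans ?_ (card_stabilizer_le N hN hmin hna φ I hI hNI ψ hψ θ rfl)
    apply Nat.card_le_card_of_injective
      (fun μ : MulAction.stabilizer (realLin G) θ =>
        (⟨((μ.1 : realLin G) : G →* ℂˣ), by
          have h := μ.2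
          rw [MulAction.mem_stabilizer_iff] at h ⊢
          exact h⟩ : MulAction.stabilizer (G →* ℂˣ) θ))
    intro a b hab
    have h5 := congrArg Subtype.val hab
    exact Subtype.ext (Subtype.ext h5)
  have hψ1 : (ψ : ↥I → ℂ) 1 = (φ : ↥N → ℂ) 1 := by
    have := hψ 1
    rwa [map_one] at this
  have hdeg : ∀ χ : IrrCharacter G, χ ∈ MulAction.orbit (realLin G) θ →
      Cfsg.charDegree (χ : G → ℂ) = Cfsg.charDegree (φ : ↥N → ℂ) * I.index ∧
      (Nat.card G : ℂ)⁻¹ * ∑ᶠ g : G, (χ : G → ℂ) (g * g) = 1 := by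
    rintro χ ⟨lam, rfl⟩
    constructor
    · apply Nat.cast_injective (R := ℂ)
      have e1 : ((lam • θ : IrrCharacter G) : G → ℂ) 1 = (θ : G → ℂ) 1 := by
        show (((lam : G →* ℂˣ) 1 : ℂˣ) : ℂ) * (θ : G → ℂ) 1 = (θ : G → ℂ) 1
        rw [map_one, Units.val_one, one_mul]
      have e2 : (θ : G → ℂ) 1 = (I.index : ℂ) * (ψ : ↥I → ℂ) 1 :=
        Cfsg.Agent.Lib.helper4.indFun_one I (ψ : ↥I → ℂ)
      rw [← irr_one_eq_charDegree, e1, e2, hψ1, irr_one_eq_charDegree, Nat.cast_mul, mul_comm]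
    · rw [finsum_eq_sum_of_fintype, ← hθν]
      congr 1
      refine Finset.sum_congr rfl (fun g _ => ?_)
      show (((lam : G →* ℂˣ) (g * g) : ℂˣ) : ℂ) * (θ : G → ℂ) (g * g) = _
      rw [realLin_apply_sq, Units.val_one, one_mul]
  have h4 : Nat.card (MulAction.orbit (realLin G) θ) ≤
      Nat.card {χ : Cfsg.IrrCharacter G // Cfsg.charDegree (χ : G → ℂ) =
        Cfsg.charDegree (φ : ↥N → ℂ) * I.index ∧
        (Nat.card G : ℂ)⁻¹ * ∑ᶠ g : G, (χ : G → ℂ) (g * g) = 1} := by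
    apply Nat.card_le_card_of_injective
      (fun χ : MulAction.orbit (realLin G) θ =>
        (⟨χ.1, hdeg χ.1 χ.2⟩ : {χ : Cfsg.IrrCharacter G // Cfsg.charDegree (χ : G → ℂ) =
          Cfsg.charDegree (φ : ↥N → ℂ) * I.index ∧
          (Nat.card G : ℂ)⁻¹ * ∑ᶠ g : G, (χ : G → ℂ) (g * g) = 1}))
    intro a b hab
    have h5 := congrArg Subtype.val hab
    exact Subtype.ext h5
  calc Nat.card {χ : Cfsg.IrrCharacter G // Cfsg.charDegree (χ : G → ℂ) = 1 ∧
        (Nat.card G : ℂ)⁻¹ * ∑ᶠ g : G, (χ : G → ℂ) (g * g) = 1}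
      ≤ Nat.card (realLin G) := h1
    _ = Nat.card (MulAction.orbit (realLin G) θ) *
          Nat.card (MulAction.stabilizer (realLin G) θ) := h2.symm
    _ ≤ Nat.card {χ : Cfsg.IrrCharacter G // Cfsg.charDegree (χ : G → ℂ) =
          Cfsg.charDegree (φ : ↥N → ℂ) * I.index ∧
          (Nat.card G : ℂ)⁻¹ * ∑ᶠ g : G, (χ : G → ℂ) (g * g) = 1} * I.index :=
        Nat.mul_le_mul h4 h3
    _ = _ := mul_comm _ _

end Cfsg.Agent.S4912
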