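import Mathlib
import Cfsg.Statements.S4871
import Cfsg.Agent.S4912
-- import your own Cfsg.Agent.* helpers here

set_option autoImplicit false
set_option linter.unusedSectionVars false
open Cfsg

namespace Cfsg.Agent.S4871

open Cfsg.Agent.Lib.helper83 Cfsg.Agent.Lib.helper84 Cfsg.Agent.S4870 Cfsg.Agent.S4912
open scoped ComplexConjugate

universe u

variable {G : Type u} [Group G]

/-- Frobenius–Schur sum of an induced function. -/
theorem fs_sum_indFun' [Fintype G] (H : Subgroup G) (ψ : H → ℂ) :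
    ∑ g : G, Cfsg.indFun H ψ (g * g) =
      (Nat.card G : ℂ) * (Nat.card H : ℂ)⁻¹ * ∑ g : G, Cfsg.extendByZero H ψ (g * g) := by
  have h1 : ∀ g : G, Cfsg.indFun H ψ (g * g) =
      (Nat.card H : ℂ)⁻¹ * ∑ x : G, Cfsg.extendByZero H ψ (x⁻¹ * (g * g) * x) := fun g => rfl
  rw [Finset.sum_congr rfl (fun g _ => h1 g), ← Finset.mul_sum, Finset.sum_comm]
  have h2 : ∀ x : G, ∑ g : G, Cfsg.extendByZero H ψ (x⁻¹ * (g * g) * x) =
      ∑ g : G, Cfsg.extendByZero H ψ (g * g) := by
    intro x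
    apply Fintype.sum_equiv (MulAut.conj x⁻¹).toEquiv
    intro g
    congr 1
    show x⁻¹ * (g * g) * x = (x⁻¹ * g * x⁻¹⁻¹) * (x⁻¹ * g * x⁻¹⁻¹)
    group
  rw [Finset.sum_congr rfl (fun x _ => h2 x), Finset.sum_const, Finset.card_univ, nsmul_eq_mul,
    ← Nat.card_eq_fintype_card]
  ring

/-- Decomposition of the elements of `G = N P`. -/
theorem exists_mul_of_sup_eq_top (N P : Subgroup G) [hN : N.Normal] (hprod : N ⊔ P = ⊤) (g : G) :
    ∃ n ∈ N, ∃ p ∈ P, g = n * p := by
  have h1 : g ∈ ((N ⊔ P : Subgroup G) : Set G) := by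
    rw [hprod]
    exact Subgroup.mem_top g
  rw [Subgroup.normal_mul] at h1
  obtain ⟨n, hn, p, hp, rfl⟩ := Set.mem_mul.mp h1
  exact ⟨n, hn, p, hp, rfl⟩

/-- A central involution of the `2`-group `P` inverts the minimal normal subgroup `N`. -/
theorem exists_inverting_involution [Finite G] (N P : Subgroup G) [hN : N.Normal]
    (hcomm : ∀ a ∈ N, ∀ b ∈ N, a * b = b * a)
    (hP : IsPGroup 2 ↥P) (hP1 : P ≠ ⊥) (hdisj : N ⊓ P = ⊥) (hprod : N ⊔ P = ⊤)
    (hmin : N ≠ ⊥ ∧ ∀ M : Subgroup G, M.Normal → M ≠ ⊥ → N ≤ M) :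
    ∃ t ∈ P, t * t = 1 ∧ (∀ p ∈ P, t * p = p * t) ∧ ∀ n ∈ N, t * n * t⁻¹ = n⁻¹ := by
  have : Nontrivial ↥P := (Subgroup.nontrivial_iff_ne_bot P).mpr hP1
  have : Nontrivial (Subgroup.center ↥P) := hP.center_nontrivial
  have h2 : 2 ∣ Nat.card (Subgroup.center ↥P) := by
    rcases (hP.to_subgroup (Subgroup.center ↥P)).card_eq_or_dvd with h | h
    · exact absurd h (Finite.one_lt_card).ne'
    · exact h
  have : Fact (Nat.Prime 2) := ⟨Nat.prime_two⟩
  obtain ⟨z, hz⟩ := exists_prime_orderOf_dvd_card' 2 h2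
  obtain ⟨t, ht⟩ : ∃ t : G, t = ((z : ↥P) : G) := ⟨_, rfl⟩
  have htP : t ∈ P := by
    rw [ht]
    exact (z : ↥P).2
  have htt : t * t = 1 := by
    have h3 : z * z = 1 := by
      rw [← pow_two, ← hz]
      exact pow_orderOf_eq_one z
    have h4 := congrArg (fun w : Subgroup.center ↥P => ((w : ↥P) : G)) h3
    rw [ht]
    exact h4
  have ht1 : t ≠ 1 := by
    intro h
    have hz1 : z = 1 := Subtype.ext (Subtype.ext (ht ▸ h))
    rw [hz1, orderOf_one] at hz
    exact absurd hz (by norm_num)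
  have htc : ∀ p ∈ P, t * p = p * t := by
    intro p hp
    have h3 := Subgroup.mem_center_iff.mp z.2 ⟨p, hp⟩
    rw [ht]
    exact (congrArg Subtype.val h3).symm
  have htinv : t⁻¹ = t := inv_eq_of_mul_eq_one_right htt
  have hCmem : ∀ c, c ∈ N ⊓ Subgroup.centralizer {t} ↔ c ∈ N ∧ c * t = t * c := by
    intro c
    rw [Subgroup.mem_inf, Subgroup.mem_centralizer_singleton_iff]
  have hCn : (N ⊓ Subgroup.centralizer {t}).Normal := by
    constructor
    intro c hc g
    obtain ⟨hcN, hct⟩ := (hCmem c).mp hc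
    obtain ⟨n, hn, p, hp, rfl⟩ := exists_mul_of_sup_eq_top N P hprod g
    have h5 : p * c * p⁻¹ ∈ N := hN.conj_mem c hcN p
    have h6 : n * p * c * (n * p)⁻¹ = p * c * p⁻¹ := by
      have h := hcomm n hn (p * c * p⁻¹) h5
      calc n * p * c * (n * p)⁻¹ = n * (p * c * p⁻¹) * n⁻¹ := by group
        _ = (p * c * p⁻¹) * n * n⁻¹ := by rw [h]
        _ = p * c * p⁻¹ := by group
    rw [h6, hCmem]
    refine ⟨h5, ?_⟩
    have h7 := htc p hp
    have h8 := htc p⁻¹ (inv_mem hp)
    calc p * c * p⁻¹ * t = p * c * (p⁻¹ * t) := by group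
      _ = p * c * (t * p⁻¹) := by rw [h8]
      _ = p * (c * t) * p⁻¹ := by group
      _ = p * (t * c) * p⁻¹ := by rw [hct]
      _ = (p * t) * c * p⁻¹ := by group
      _ = (t * p) * c * p⁻¹ := by rw [h7]
      _ = t * (p * c * p⁻¹) := by group
  have hCbot : N ⊓ Subgroup.centralizer {t} = ⊥ := by
    by_contra hC
    have hNC : N ≤ N ⊓ Subgroup.centralizer {t} := hmin.2 _ hCn hC
    have htcen : t ∈ Subgroup.center G := by
      rw [Subgroup.mem_center_iff]
      intro g
      obtain ⟨n, hn, p, hp, rfl⟩ := exists_mul_of_sup_eq_top N P hprod g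
      have h5 := ((hCmem n).mp (hNC hn)).2
      have h6 := htc p hp
      calc n * p * t = n * (p * t) := by group
        _ = n * (t * p) := by rw [h6]
        _ = (n * t) * p := by group
        _ = t * n * p := by rw [h5]
        _ = t * (n * p) := by group
    have hMn : (Subgroup.center G ⊓ P).Normal := by
      constructor
      intro x hx g
      have h5 := Subgroup.mem_center_iff.mp hx.1 g
      have h6 : g * x * g⁻¹ = x := by
        rw [h5]
        group
      rw [h6]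
      exact hx
    have hM1 : Subgroup.center G ⊓ P ≠ ⊥ := by
      intro h
      have h5 : t ∈ Subgroup.center G ⊓ P := ⟨htcen, htP⟩
      rw [h, Subgroup.mem_bot] at h5
      exact ht1 h5
    have hNM := hmin.2 _ hMn hM1
    apply hmin.1
    rw [eq_bot_iff]
    intro n hn
    rw [← hdisj]
    exact ⟨hn, (hNM hn).2⟩
  refine ⟨t, htP, htt, htc, ?_⟩
  intro n hn
  have h5 : t * n * t⁻¹ ∈ N := hN.conj_mem n hn t
  have h6 : n * (t * n * t⁻¹) ∈ N ⊓ Subgroup.centralizer {t} := by
    rw [hCmem]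
    refine ⟨mul_mem hn h5, ?_⟩
    have h7 := hcomm n hn _ h5
    rw [htinv] at h7 ⊢
    calc n * (t * n * t) * t = (n * (t * n * t)) * t := by group
      _ = (t * n * t * n) * t := by rw [h7]
      _ = t * (n * (t * n * t)) := by group
  rw [hCbot, Subgroup.mem_bot] at h6
  exact eq_inv_of_mul_eq_one_right h6

/-- A unit of odd prime order dividing two is trivial. -/
theorem unit_eq_one_of_sq_of_pow (q : ℕ) (hq : q.Prime) (hq2 : q ≠ 2) (x : ℂˣ)
    (h2 : x * x = 1) (hxq : x ^ q = 1) : x = 1 := by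
  have h1 : orderOf x ∣ 2 := orderOf_dvd_of_pow_eq_one (by rw [pow_two]; exact h2)
  have h3 : orderOf x ∣ q := orderOf_dvd_of_pow_eq_one hxq
  have h4 : Nat.Coprime 2 q := (Nat.coprime_primes Nat.prime_two hq).mpr (Ne.symm hq2)
  have h5 : orderOf x = 1 := Nat.eq_one_of_dvd_coprimes h4 h1 h3
  exact orderOf_eq_one_iff.mp h5

open scoped IsMulCommutative in
/-- A nontrivial abelian group has a nontrivial linear character. -/
theorem exists_nontrivial_hom [Finite G] (N : Subgroup G) [IsMulCommutative ↥N] (hN1 : N ≠ ⊥) :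
    ∃ (lam : ↥N →* ℂˣ) (n₀ : ↥N), lam n₀ ≠ 1 := by
  obtain ⟨n₀, hn₀⟩ := (Subgroup.ne_bot_iff_exists_ne_one).mp hN1
  have : NeZero (Monoid.exponent ↥N) := ⟨Monoid.exponent_ne_zero_of_finite⟩
  obtain ⟨lam, hl⟩ := CommGroup.exists_apply_ne_one_of_hasEnoughRootsOfUnity ↥N ℂ hn₀
  exact ⟨lam, n₀, hl⟩

section Split

variable (N P : Subgroup G) [hN : N.Normal]

/-- The product map `N × P → G` is bijective. -/
theorem prod_bijective (hdisj : N ⊓ P = ⊥) (hprod : N ⊔ P = ⊤) :
    Function.Bijective (fun x : ↥N × ↥P => (x.1 : G) * (x.2 : G)) := by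
  refine ⟨Subgroup.mul_injective_of_disjoint (disjoint_iff.mpr hdisj), fun g => ?_⟩
  obtain ⟨n, hn, p, hp, rfl⟩ := exists_mul_of_sup_eq_top N P hprod g
  exact ⟨(⟨n, hn⟩, ⟨p, hp⟩), rfl⟩

variable (hb : Function.Bijective (fun x : ↥N × ↥P => (x.1 : G) * (x.2 : G)))

/-- The `N`-component of an element of `G = N P`. -/
noncomputable def nP (g : G) : ↥N := ((Equiv.ofBijective _ hb).symm g).1

/-- The `P`-component of an element of `G = N P`. -/
noncomputable def pP (g : G) : ↥P := ((Equiv.ofBijective _ hb).symm g).2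

theorem nP_mul_pP (g : G) : (nP N P hb g : G) * (pP N P hb g : G) = g :=
  (Equiv.ofBijective _ hb).apply_symm_apply g

theorem nP_eq (g : G) (n : ↥N) (p : ↥P) (h : g = (n : G) * (p : G)) : nP N P hb g = n := by
  have h1 : (Equiv.ofBijective _ hb).symm g = (n, p) := by
    rw [Equiv.symm_apply_eq]
    exact h
  exact congrArg Prod.fst h1

include hb in
theorem sum_split [Fintype G] [Fintype ↥N] [Fintype ↥P] (F : G → ℂ) :
    ∑ g : G, F g = ∑ n : ↥N, ∑ p : ↥P, F ((n : G) * (p : G)) := by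
  have h1 : ∑ x : ↥N × ↥P, F ((x.1 : G) * (x.2 : G)) = ∑ g : G, F g :=
    Fintype.sum_equiv (Equiv.ofBijective _ hb) _ _ (fun x => rfl)
  rw [← h1, Fintype.sum_prod_type]

/-- The stabilizer of a linear character of the normal subgroup `N`. -/
def stab (lam : ↥N →* ℂˣ) : Subgroup G where
  carrier := {g | ∀ n : ↥N, lam (MulAut.conjNormal g n) = lam n}
  mul_mem' := by
    intro a b ha hb n
    have ha' : ∀ n : ↥N, lam (MulAut.conjNormal a n) = lam n := ha
    have hb' : ∀ n : ↥N, lam (MulAut.conjNormal b n) = lam n := hb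
    rw [map_mul, MulAut.mul_apply, ha', hb']
  one_mem' := by
    intro n
    rw [map_one, MulAut.one_apply]
  inv_mem' := by
    intro a ha n
    have ha' : ∀ n : ↥N, lam (MulAut.conjNormal a n) = lam n := ha
    have h := ha' (MulAut.conjNormal a⁻¹ n)
    rw [← MulAut.mul_apply, ← map_mul, mul_inv_cancel, map_one, MulAut.one_apply] at h
    exact h.symm

theorem mem_stab (lam : ↥N →* ℂˣ) (g : G) :
    g ∈ stab N lam ↔ ∀ n : ↥N, lam (MulAut.conjNormal g n) = lam n := Iff.rfl

theorem le_stab (hcomm : ∀ a ∈ N, ∀ b ∈ N, a * b = b * a) (lam : ↥N →* ℂˣ) :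
    N ≤ stab N lam := by
  intro g hg
  rw [mem_stab]
  intro n
  congr 1
  apply Subtype.ext
  rw [MulAut.conjNormal_apply, hcomm g hg n n.2, mul_assoc, mul_inv_cancel, mul_one]

theorem stab_iff (lam : ↥N →* ℂˣ) (g : G) :
    g ∈ stab N lam ↔ ∀ n n' : ↥N, (n' : G) = g * (n : G) * g⁻¹ →
      ((lam n' : ℂˣ) : ℂ) = ((lam n : ℂˣ) : ℂ) := by
  constructor
  · intro h n n' hn'
    have h1 : n' = MulAut.conjNormal g n := Subtype.ext (by rw [hn', MulAut.conjNormal_apply])
    rw [h1, (mem_stab N lam g).mp h n]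
  · intro h
    rw [mem_stab]
    intro n
    exact Units.ext (h n _ (MulAut.conjNormal_apply g n))

/-- The extension of `lam` to its stabilizer which is trivial on `P`. -/
theorem exists_ext (hcomm : ∀ a ∈ N, ∀ b ∈ N, a * b = b * a) (lam : ↥N →* ℂˣ) :
    ∃ ψ : ↥(stab N lam) →* ℂˣ, ∀ x : ↥(stab N lam), ψ x = lam (nP N P hb (x : G)) := by
  refine ⟨MonoidHom.mk' (fun x => lam (nP N P hb (x : G))) ?_, fun x => rfl⟩
  intro x y
  have hx := nP_mul_pP N P hb (x : G)
  have hy := nP_mul_pP N P hb (y : G)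
  have hpI : ((pP N P hb (x : G) : ↥P) : G) ∈ stab N lam := by
    have h1 : ((pP N P hb (x : G) : ↥P) : G) = ((nP N P hb (x : G) : ↥N) : G)⁻¹ * (x : G) := by
      rw [eq_inv_mul_iff_mul_eq]
      exact hx
    rw [h1]
    exact mul_mem (inv_mem (le_stab N hcomm lam (nP N P hb (x : G)).2)) x.2
  have h2 : nP N P hb ((x : G) * (y : G)) =
      nP N P hb (x : G) * MulAut.conjNormal ((pP N P hb (x : G) : ↥P) : G) (nP N P hb (y : G)) := by
    apply nP_eq N P hb _ _ (pP N P hb (x : G) * pP N P hb (y : G))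
    rw [Subgroup.coe_mul, Subgroup.coe_mul, MulAut.conjNormal_apply]
    conv_lhs => rw [← hx, ← hy]
    group
  show lam (nP N P hb ((x : G) * (y : G))) = lam (nP N P hb (x : G)) * lam (nP N P hb (y : G))
  rw [h2, map_mul, (mem_stab N lam _).mp hpI]

/-- The Frobenius–Schur sum of the extension by zero of the extended character. -/
theorem fs_ext_sum [Fintype G] (hcomm : ∀ a ∈ N, ∀ b ∈ N, a * b = b * a)
    (lam : ↥N →* ℂˣ) (ψ : ↥(stab N lam) →* ℂˣ)
    (hψ : ∀ x : ↥(stab N lam), ψ x = lam (nP N P hb (x : G)))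
    (t : G) (htP : t ∈ P) (htt : t * t = 1) (htc : ∀ p ∈ P, t * p = p * t)
    (hinv : ∀ n ∈ N, t * n * t⁻¹ = n⁻¹) :
    ∑ g : G, Cfsg.extendByZero (stab N lam) (fun x => ((ψ x : ℂˣ) : ℂ)) (g * g) =
      (Nat.card ↥(stab N lam) : ℂ) := by
  classical
  have : Fintype ↥N := Fintype.ofFinite _
  have : Fintype ↥P := Fintype.ofFinite _
  have hNI := le_stab N hcomm lam
  have hct : ∀ n : ↥N, MulAut.conjNormal t n = n⁻¹ := by
    intro n
    apply Subtype.ext
    rw [MulAut.conjNormal_apply, hinv n n.2]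
    rfl
  have hkey : ∀ p : ↥P, ∑ n : ↥N, Cfsg.extendByZero (stab N lam) (fun x => ((ψ x : ℂˣ) : ℂ))
      (((n : G) * (p : G)) * ((n : G) * (p : G))) =
      if (p : G) * t ∈ stab N lam then (Nat.card ↥N : ℂ) else 0 := by
    intro p
    have hsq : ∀ n : ↥N, ((n : G) * (p : G)) * ((n : G) * (p : G)) =
        ((n * MulAut.conjNormal (p : G) n : ↥N) : G) * ((p * p : ↥P) : G) := by
      intro n
      rw [Subgroup.coe_mul, Subgroup.coe_mul, MulAut.conjNormal_apply]
      group
    have hmem : ∀ n : ↥N, ((n : G) * (p : G)) * ((n : G) * (p : G)) ∈ stab N lam ↔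
        (p : G) * (p : G) ∈ stab N lam := by
      intro n
      rw [hsq n, Subgroup.coe_mul]
      exact Subgroup.mul_mem_cancel_left _ (hNI (n * MulAut.conjNormal (p : G) n).2)
    have hval : ∀ n : ↥N, ∀ h : ((n : G) * (p : G)) * ((n : G) * (p : G)) ∈ stab N lam,
        ψ ⟨_, h⟩ = lam n * lam (MulAut.conjNormal (p : G) n) := by
      intro n h
      rw [hψ, ← map_mul]
      congr 1
      exact nP_eq N P hb _ _ (p * p) (hsq n)
    by_cases hpt : (p : G) * t ∈ stab N lam
    · rw [if_pos hpt]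
      have hpp : (p : G) * (p : G) ∈ stab N lam := by
        have h1 : (p : G) * (p : G) = ((p : G) * t) * ((p : G) * t) := by
          have h2 := htc p p.2
          calc (p : G) * (p : G) = (p : G) * (p : G) * (t * t) := by rw [htt, mul_one]
            _ = (p : G) * ((p : G) * t) * t := by group
            _ = (p : G) * (t * (p : G)) * t := by rw [h2]
            _ = _ := by group
        rw [h1]
        exact mul_mem hpt hpt
      have hterm : ∀ n : ↥N, Cfsg.extendByZero (stab N lam) (fun x => ((ψ x : ℂˣ) : ℂ))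
          (((n : G) * (p : G)) * ((n : G) * (p : G))) = 1 := by
        intro n
        have h := (hmem n).mpr hpp
        have e1 := Cfsg.Agent.Lib.helper4.extendByZero_apply_mem (stab N lam)
          (fun x => ((ψ x : ℂˣ) : ℂ)) h
        rw [e1]
        show ((ψ ⟨_, h⟩ : ℂˣ) : ℂ) = 1
        rw [hval n h]
        have h3 := (mem_stab N lam _).mp hpt n
        rw [map_mul, MulAut.mul_apply, hct, map_inv, map_inv] at h3
        rw [← h3, inv_mul_cancel, Units.val_one]
      rw [Finset.sum_congr rfl (fun n _ => hterm n), Finset.sum_const, Finset.card_univ,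
        nsmul_eq_mul, mul_one, Nat.card_eq_fintype_card]
    · rw [if_neg hpt]
      by_cases hpp : (p : G) * (p : G) ∈ stab N lam
      · have hterm : ∀ n : ↥N, Cfsg.extendByZero (stab N lam) (fun x => ((ψ x : ℂˣ) : ℂ))
            (((n : G) * (p : G)) * ((n : G) * (p : G))) =
            (((lam * lam.comp (MulAut.conjNormal (p : G)).toMonoidHom) n : ℂˣ) : ℂ) := by
          intro n
          have h := (hmem n).mpr hpp
          have e1 := Cfsg.Agent.Lib.helper4.extendByZero_apply_mem (stab N lam)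
            (fun x => ((ψ x : ℂˣ) : ℂ)) h
          rw [e1]
          show ((ψ ⟨_, h⟩ : ℂˣ) : ℂ) = _
          rw [hval n h]
          rfl
        rw [Finset.sum_congr rfl (fun n _ => hterm n)]
        apply sum_hom_eq_zero
        intro h1
        apply hpt
        rw [mem_stab]
        intro n
        have h2 : lam n * lam (MulAut.conjNormal (p : G) n) = 1 :=
          congrArg (fun f : ↥N →* ℂˣ => f n) h1
        rw [map_mul, MulAut.mul_apply, hct, map_inv, map_inv]
        exact inv_eq_of_mul_eq_one_left h2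
      · apply Finset.sum_eq_zero
        intro n _
        exact Cfsg.Agent.Lib.helper4.extendByZero_apply_of_not_mem _ _
          (fun h => hpp ((hmem n).mp h))
  rw [sum_split N P hb, Finset.sum_comm, Finset.sum_congr rfl (fun p _ => hkey p)]
  have hcard : (Nat.card ↥(stab N lam) : ℂ) =
      ∑ p : ↥P, if (p : G) ∈ stab N lam then (Nat.card ↥N : ℂ) else 0 := by
    have h1 : (Nat.card ↥(stab N lam) : ℂ) =
        ∑ g : G, if g ∈ stab N lam then (1 : ℂ) else 0 := by
      rw [Finset.sum_boole]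
      congr 1
      rw [Nat.card_eq_fintype_card, Fintype.card_subtype]
    rw [h1, sum_split N P hb, Finset.sum_comm]
    apply Finset.sum_congr rfl
    intro p _
    have h2 : ∀ n : ↥N, ((n : G) * (p : G) ∈ stab N lam) ↔ ((p : G) ∈ stab N lam) := fun n =>
      Subgroup.mul_mem_cancel_left _ (hNI n.2)
    simp only [h2]
    by_cases hp : (p : G) ∈ stab N lam
    · simp [hp, Nat.card_eq_fintype_card]
    · simp [hp]
  rw [hcard]
  exact Fintype.sum_equiv (Equiv.mulRight (⟨t, htP⟩ : ↥P)) _ _ (fun p => rfl)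

end Split

/-- A group of linear characters fixing the induced character and trivial on `N` has at most
`[G : I]` elements. -/
theorem card_le_index_of_fix [Fintype G] (N : Subgroup G) (hN : N.Normal)
    (φ : IrrCharacter ↥N) (I : Subgroup G)
    (hI : ∀ g : G, g ∈ I ↔ ∀ n n' : ↥N, (n' : G) = g * (n : G) * g⁻¹ →
      (φ : ↥N → ℂ) n' = (φ : ↥N → ℂ) n) (hNI : N ≤ I)
    (ψ : ↥I → ℂ)
    (hψ : ∀ n : ↥N, ψ (Subgroup.inclusion hNI n) = (φ : ↥N → ℂ) n)
    (θ : IrrCharacter G) (hθ : (θ : G → ℂ) = Cfsg.indFun I ψ)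
    (S : Subgroup (G →* ℂˣ)) (hS : ∀ μ ∈ S, μ • θ = θ) (hNK : N ≤ commonKer S) :
    Nat.card S ≤ I.index := by
  classical
  have : N.Normal := hN
  have : Fintype ↥N := Fintype.ofFinite ↥N
  have : Fintype ↥(commonKer S) := Fintype.ofFinite _
  have hvan : ∀ g : G, g ∉ commonKer S → (θ : G → ℂ) g = 0 := by
    intro g hg
    have hex : ∃ μ ∈ S, μ g ≠ 1 := by
      by_contra hcon
      apply hg
      intro μ hμ
      by_contra h'
      exact hcon ⟨μ, hμ, h'⟩
    obtain ⟨μ, hμS, hμg⟩ := hex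
    have h1 : μ • θ = θ := hS μ hμS
    have h2 := congrFun (congrArg Subtype.val h1) g
    rw [linChar_smul_apply] at h2
    have h3 : (((μ g : ℂˣ) : ℂ) - 1) * (θ : G → ℂ) g = 0 := by
      rw [sub_mul, one_mul, h2, sub_self]
    rcases mul_eq_zero.mp h3 with h4 | h4
    · exfalso
      apply hμg
      apply Units.ext
      rw [Units.val_one]
      exact sub_eq_zero.mp h4
    · exact h4
  have hnormK : classInner
      (fun k : ↥(commonKer S) => (θ : G → ℂ) k)
      (fun k : ↥(commonKer S) => (θ : G → ℂ) k) = (Nat.card S : ℂ) := by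
    have h1 : classInner (θ : G → ℂ) (θ : G → ℂ) = 1 :=
      Cfsg.Agent.Lib.helper4.classInner_irr_self θ.2
    rw [classInner_def] at h1 ⊢
    have h2 : ∑ g : G, (θ : G → ℂ) g * conj ((θ : G → ℂ) g) =
        ∑ k : ↥(commonKer S), (θ : G → ℂ) k * conj ((θ : G → ℂ) k) := by
      rw [← Finset.sum_subtype (Finset.univ.filter
        (fun g : G => g ∈ commonKer S)) (by simp)
        (fun g => (θ : G → ℂ) g * conj ((θ : G → ℂ) g)), Finset.sum_filter]
      apply Finset.sum_congr rfl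
      intro g _
      by_cases hg : g ∈ commonKer S
      · rw [if_pos hg]
      · rw [if_neg hg, hvan g hg, zero_mul]
    rw [h2] at h1
    have hc := card_mul_card_commonKer S
    have hG0 : (Nat.card G : ℂ) ≠ 0 := by exact_mod_cast Nat.card_pos.ne'
    have hK0 : (Nat.card ↥(commonKer S) : ℂ) ≠ 0 := by
      exact_mod_cast Nat.card_pos.ne'
    have h3 : ∑ k : ↥(commonKer S),
        (θ : G → ℂ) k * conj ((θ : G → ℂ) k) = (Nat.card G : ℂ) := by
      have := congrArg (fun z => (Nat.card G : ℂ) * z) h1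
      simp only [mul_one] at this
      rw [← mul_assoc, mul_inv_cancel₀ hG0, one_mul] at this
      exact this
    rw [h3, ← hc, Nat.cast_mul]
    field_simp
  obtain ⟨m, m', hm, hm', hle⟩ := classInner_le_comp (Subgroup.inclusion hNK)
    (Cfsg.Agent.Lib.helper4.isCharacter_restrict _ (isCharacter_of_irr θ.2))
    (Cfsg.Agent.Lib.helper4.isCharacter_restrict _ (isCharacter_of_irr θ.2))
  rw [hnormK] at hm
  have h2 : (fun a : ↥N => (fun k : ↥(commonKer S) =>
      (θ : G → ℂ) k) (Subgroup.inclusion hNK a)) =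
      fun n : ↥N => Cfsg.indFun I ψ (n : G) := by
    funext n
    rw [hθ]
    rfl
  rw [h2, classInner_indFun_restrict_self N I hNI φ hI ψ hψ] at hm'
  have e1 : Nat.card S = m := by exact_mod_cast hm
  have e2 : I.index = m' := by exact_mod_cast hm'
  rw [e1, e2]
  exact hle

/-- The key character: an irreducible character of even degree `d` with Frobenius–Schur
indicator one whose stabilizer under twisting by real linear characters has at most `d`
elements. -/
theorem exists_good_char [Fintype G] (N P : Subgroup G) (hN : N.Normal) (q : ℕ) [Fact q.Prime]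
    (hq : q ≠ 2) (hNel : Cfsg.IsElementaryAbelian q N) (hP : IsPGroup 2 ↥P) (hP1 : P ≠ ⊥)
    (hdisj : N ⊓ P = ⊥) (hprod : N ⊔ P = ⊤)
    (hmin : N ≠ ⊥ ∧ ∀ M : Subgroup G, M.Normal → M ≠ ⊥ → N ≤ M) :
    ∃ (θ : IrrCharacter G) (d : ℕ), 2 ≤ d ∧ 2 ∣ d ∧ charDegree (θ : G → ℂ) = d ∧
      (Nat.card G : ℂ)⁻¹ * ∑ g : G, (θ : G → ℂ) (g * g) = 1 ∧
      Nat.card (MulAction.stabilizer (realLin G) θ) ≤ d := by
  classical
  have : N.Normal := hN
  have : IsMulCommutative ↥N := hNel.1
  have : Fact (Nat.Prime 2) := ⟨Nat.prime_two⟩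
  have hcomm : ∀ a ∈ N, ∀ b ∈ N, a * b = b * a := by
    intro a ha b hb
    have h := mul_comm' (⟨a, ha⟩ : ↥N) ⟨b, hb⟩
    exact congrArg Subtype.val h
  have hb := prod_bijective N P hdisj hprod
  obtain ⟨t, htP, htt, htc, hinv⟩ :=
    exists_inverting_involution N P hcomm hP hP1 hdisj hprod hmin
  obtain ⟨lam, n₀, hlam⟩ := exists_nontrivial_hom N hmin.1
  have hNI : N ≤ stab N lam := le_stab N hcomm lam
  obtain ⟨ψ, hψ⟩ := exists_ext N P hb hcomm lam
  have hct : ∀ n : ↥N, MulAut.conjNormal t n = n⁻¹ := by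
    intro n
    apply Subtype.ext
    rw [MulAut.conjNormal_apply, hinv n n.2]
    rfl
  let φ : IrrCharacter ↥N :=
    ⟨fun n => ((lam n : ℂˣ) : ℂ), Cfsg.Agent.Lib.helper82.isIrrCharacter_of_hom lam⟩
  have hI : ∀ g : G, g ∈ stab N lam ↔ ∀ n n' : ↥N, (n' : G) = g * (n : G) * g⁻¹ →
      (φ : ↥N → ℂ) n' = (φ : ↥N → ℂ) n := stab_iff N lam
  have hext : ∀ n : ↥N, (fun x : ↥(stab N lam) => ((ψ x : ℂˣ) : ℂ)) (Subgroup.inclusion hNI n) =
      (φ : ↥N → ℂ) n := by
    intro n
    show ((ψ (Subgroup.inclusion hNI n) : ℂˣ) : ℂ) = ((lam n : ℂˣ) : ℂ)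
    rw [hψ]
    congr 2
    apply nP_eq N P hb _ n 1
    rw [Subgroup.coe_inclusion, OneMemClass.coe_one, mul_one]
  let θ : IrrCharacter G := ⟨Cfsg.indFun (stab N lam) (fun x : ↥(stab N lam) => ((ψ x : ℂˣ) : ℂ)),
    irr_indFun_of_extends N (stab N lam) hNI φ hI _ hext
      (Cfsg.Agent.Lib.helper82.isIrrCharacter_of_hom ψ)⟩
  have htI : t ∉ stab N lam := by
    intro h
    have h1 := (mem_stab N lam t).mp h n₀
    rw [hct n₀, map_inv] at h1
    apply hlam
    apply unit_eq_one_of_sq_of_pow q Fact.out hq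
    · calc lam n₀ * lam n₀ = (lam n₀)⁻¹ * lam n₀ := by rw [h1]
        _ = 1 := inv_mul_cancel _
    · rw [← map_pow]
      have h2 : n₀ ^ q = 1 := Subtype.ext (by
        rw [Subgroup.coe_pow]
        exact hNel.2 n₀ n₀.2)
      rw [h2, map_one]
  have hidx1 : (stab N lam).index ≠ 1 := by
    intro h
    rw [Subgroup.index_eq_one] at h
    exact htI (h ▸ Subgroup.mem_top t)
  have hidx0 : (stab N lam).index ≠ 0 := Subgroup.index_ne_zero_of_finite
  have hNP : N.index = Nat.card ↥P := by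
    have h1 : Nat.card G = Nat.card ↥N * Nat.card ↥P := by
      rw [← Nat.card_prod]
      exact (Nat.card_congr (Equiv.ofBijective _ hb)).symm
    have h2 := N.card_mul_index
    rw [h1] at h2
    exact Nat.eq_of_mul_eq_mul_left Nat.card_pos h2
  have hdvd : (stab N lam).index ∣ Nat.card ↥P := hNP ▸ Subgroup.index_dvd_of_le hNI
  obtain ⟨k, hk⟩ := IsPGroup.iff_card.mp hP
  rw [hk] at hdvd
  obtain ⟨j, hj, hj'⟩ := (Nat.dvd_prime_pow Nat.prime_two).mp hdvd
  have hj0 : j ≠ 0 := by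
    rintro rfl
    exact hidx1 (by simpa using hj')
  have h2d : 2 ∣ (stab N lam).index := by
    rw [hj']
    exact dvd_pow_self 2 hj0
  refine ⟨θ, (stab N lam).index, ?_, h2d, ?_, ?_, ?_⟩
  · exact Nat.le_of_dvd (Nat.pos_of_ne_zero hidx0) h2d
  · apply Nat.cast_injective (R := ℂ)
    rw [← irr_one_eq_charDegree]
    show Cfsg.indFun (stab N lam) (fun x : ↥(stab N lam) => ((ψ x : ℂˣ) : ℂ)) 1 = _
    rw [Cfsg.Agent.Lib.helper4.indFun_one, map_one, Units.val_one, mul_one]
  · have h1 := fs_sum_indFun' (stab N lam) (fun x : ↥(stab N lam) => ((ψ x : ℂˣ) : ℂ))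
    have h2 := fs_ext_sum N P hb hcomm lam ψ hψ t htP htt htc hinv
    show (Nat.card G : ℂ)⁻¹ *
      ∑ g : G, Cfsg.indFun (stab N lam) (fun x : ↥(stab N lam) => ((ψ x : ℂˣ) : ℂ)) (g * g) = 1
    rw [h1, h2]
    have hG0 : (Nat.card G : ℂ) ≠ 0 := by exact_mod_cast Nat.card_pos.ne'
    have hI0 : (Nat.card ↥(stab N lam) : ℂ) ≠ 0 := by exact_mod_cast Nat.card_pos.ne'
    field_simp
  · have h1 : Nat.card (MulAction.stabilizer (realLin G) θ) ≤
        Nat.card ↥(realLin G ⊓ MulAction.stabilizer (G →* ℂˣ) θ) := by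
      apply Nat.card_le_card_of_injective
        (fun μ : MulAction.stabilizer (realLin G) θ =>
          (⟨((μ.1 : realLin G) : G →* ℂˣ), Subgroup.mem_inf.mpr ⟨(μ.1 : realLin G).2,
            MulAction.mem_stabilizer_iff.mpr (MulAction.mem_stabilizer_iff.mp μ.2)⟩⟩ :
              ↥(realLin G ⊓ MulAction.stabilizer (G →* ℂˣ) θ)))
      intro a b hab
      have h5 := congrArg Subtype.val hab
      exact Subtype.ext (Subtype.ext h5)
    refine le_trans h1 (card_le_index_of_fix N hN φ (stab N lam) hI hNI _ hext θ rfl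
      (realLin G ⊓ MulAction.stabilizer (G →* ℂˣ) θ) ?_ ?_)
    · intro μ hμ
      exact MulAction.mem_stabilizer_iff.mp hμ.2
    · intro n hn μ hμ
      apply unit_eq_one_of_sq_of_pow q Fact.out hq
      · exact hμ.1 n
      · rw [← map_pow, hNel.2 n hn, map_one]

/-- The counting argument. -/
theorem count_lemma {X : Type*} [Fintype X] (deg : X → ℕ) (inO : X → Prop) [DecidablePred inO]
    (d : ℕ) (hd : 2 ≤ d)
    (hA : (Finset.univ.filter (fun x => deg x = 1)).card ≤ d * (Finset.univ.filter inO).card)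
    (hO : ∀ x, inO x → deg x = d)
    (hdeg : ∀ x, deg x = 1 ∨ 2 ≤ deg x) :
    4 * Fintype.card X ≤ 3 * ∑ x, deg x := by
  have key : ∑ x : X, (4 + if inO x then d else 0) ≤
      ∑ x : X, (3 * deg x + if deg x = 1 then 1 else 0) := by
    apply Finset.sum_le_sum
    intro x _
    by_cases h : inO x
    · have h' := hO x h
      rw [if_pos h]
      split_ifs <;> omega
    · rw [if_neg h]
      rcases hdeg x with h1 | h1
      · rw [if_pos h1]
        omega
      · split_ifs <;> omega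
  rw [Finset.sum_add_distrib, Finset.sum_add_distrib, Finset.sum_const, Finset.card_univ,
    smul_eq_mul, ← Finset.mul_sum, ← Finset.card_filter, Finset.sum_ite, Finset.sum_const_zero,
    add_zero, Finset.sum_const, smul_eq_mul] at key
  linarith

/-- Let G be a finite group that is the semidirect product of a normal elementary abelian subgroup N of odd order by a non-trivial 2-subgroup P, with N the unique minimal normal subgroup of G. Consider the strongly real irreducible complex characters of G (Frobenius–Schur indicator +1) whose degree is 1 or even. Then their average degree is at least 4/3: four times their number is at most three times the sum of their degrees. -/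
theorem result {G : Type*} [Group G] [Finite G] (N P : Subgroup G) (hN : N.Normal) (q : ℕ) [Fact q.Prime] (hq : q ≠ 2) (hNel : Cfsg.IsElementaryAbelian q N) (hP : IsPGroup 2 ↥P) (hP1 : P ≠ ⊥) (hdisj : N ⊓ P = ⊥) (hprod : N ⊔ P = ⊤) (hmin : N ≠ ⊥ ∧ ∀ M : Subgroup G, M.Normal → M ≠ ⊥ → N ≤ M) : 4 * Nat.card {χ : Cfsg.IrrCharacter G // (Cfsg.charDegree (χ : G → ℂ) = 1 ∨ 2 ∣ Cfsg.charDegree (χ : G → ℂ)) ∧ (Nat.card G : ℂ)⁻¹ * ∑ᶠ g : G, (χ : G → ℂ) (g * g) = 1} ≤ 3 * (∑ᶠ χ : {χ : Cfsg.IrrCharacter G // (Cfsg.charDegree (χ : G → ℂ) = 1 ∨ 2 ∣ Cfsg.charDegree (χ : G → ℂ)) ∧ (Nat.card G : ℂ)⁻¹ * ∑ᶠ g : G, (χ : G → ℂ) (g * g) = 1}, Cfsg.charDegree (χ.1 : G → ℂ)) := by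
  classical
  have := Fintype.ofFinite G
  have : Fintype (IrrCharacter G) := Fintype.ofFinite _
  obtain ⟨θ, d, hd2, h2d, hdeg, hν, hstab⟩ :=
    exists_good_char N P hN q hq hNel hP hP1 hdisj hprod hmin
  have horb : ∀ χ : IrrCharacter G, χ ∈ MulAction.orbit (realLin G) θ →
      charDegree (χ : G → ℂ) = d ∧
      (Nat.card G : ℂ)⁻¹ * ∑ᶠ g : G, (χ : G → ℂ) (g * g) = 1 := by
    rintro χ ⟨lam, rfl⟩
    constructor
    · apply Nat.cast_injective (R := ℂ)
      have e1 : ((lam • θ : IrrCharacter G) : G → ℂ) 1 = (θ : G → ℂ) 1 := by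
        show (((lam : G →* ℂˣ) 1 : ℂˣ) : ℂ) * (θ : G → ℂ) 1 = (θ : G → ℂ) 1
        rw [map_one, Units.val_one, one_mul]
      rw [← irr_one_eq_charDegree, e1, irr_one_eq_charDegree, hdeg]
    · rw [finsum_eq_sum_of_fintype, ← hν]
      congr 1
      refine Finset.sum_congr rfl (fun g _ => ?_)
      show (((lam : G →* ℂˣ) (g * g) : ℂˣ) : ℂ) * (θ : G → ℂ) (g * g) = _
      rw [realLin_apply_sq, Units.val_one, one_mul]
  rw [finsum_eq_sum_of_fintype, Nat.card_eq_fintype_card]
  apply count_lemma (fun x : {χ : Cfsg.IrrCharacter G // (Cfsg.charDegree (χ : G → ℂ) = 1 ∨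
      2 ∣ Cfsg.charDegree (χ : G → ℂ)) ∧
      (Nat.card G : ℂ)⁻¹ * ∑ᶠ g : G, (χ : G → ℂ) (g * g) = 1} => charDegree (x.1 : G → ℂ))
    (fun x => x.1 ∈ MulAction.orbit (realLin G) θ) d hd2
  · have h1 := card_real_linear_le (G := G)
    have h2 : Nat.card (MulAction.orbit (realLin G) θ) *
        Nat.card (MulAction.stabilizer (realLin G) θ) = Nat.card (realLin G) := by
      rw [Nat.card_coe_set_eq, ← MulAction.index_stabilizer, Subgroup.index_mul_card]
    have h3 : (Finset.univ.filter (fun x : {χ : Cfsg.IrrCharacter G //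
        (Cfsg.charDegree (χ : G → ℂ) = 1 ∨ 2 ∣ Cfsg.charDegree (χ : G → ℂ)) ∧
        (Nat.card G : ℂ)⁻¹ * ∑ᶠ g : G, (χ : G → ℂ) (g * g) = 1} =>
        charDegree (x.1 : G → ℂ) = 1)).card ≤
        Nat.card {χ : IrrCharacter G // charDegree (χ : G → ℂ) = 1 ∧
          (Nat.card G : ℂ)⁻¹ * ∑ᶠ g : G, (χ : G → ℂ) (g * g) = 1} := by
      rw [← Fintype.card_subtype, ← Nat.card_eq_fintype_card]
      apply Nat.card_le_card_of_injective
        (fun x : {x : {χ : Cfsg.IrrCharacter G //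
            (Cfsg.charDegree (χ : G → ℂ) = 1 ∨ 2 ∣ Cfsg.charDegree (χ : G → ℂ)) ∧
            (Nat.card G : ℂ)⁻¹ * ∑ᶠ g : G, (χ : G → ℂ) (g * g) = 1} //
            charDegree (x.1 : G → ℂ) = 1} =>
          (⟨x.1.1, ⟨x.2, x.1.2.2⟩⟩ : {χ : IrrCharacter G // charDegree (χ : G → ℂ) = 1 ∧
            (Nat.card G : ℂ)⁻¹ * ∑ᶠ g : G, (χ : G → ℂ) (g * g) = 1}))
      intro a b hab
      have h5 := congrArg Subtype.val hab
      exact Subtype.ext (Subtype.ext h5)
    have h4 : Nat.card (MulAction.orbit (realLin G) θ) ≤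
        (Finset.univ.filter (fun x : {χ : Cfsg.IrrCharacter G //
        (Cfsg.charDegree (χ : G → ℂ) = 1 ∨ 2 ∣ Cfsg.charDegree (χ : G → ℂ)) ∧
        (Nat.card G : ℂ)⁻¹ * ∑ᶠ g : G, (χ : G → ℂ) (g * g) = 1} =>
        x.1 ∈ MulAction.orbit (realLin G) θ)).card := by
      rw [← Fintype.card_subtype, ← Nat.card_eq_fintype_card]
      apply Nat.card_le_card_of_injective
        (fun χ : MulAction.orbit (realLin G) θ =>
          (⟨⟨χ.1, ⟨Or.inr (by rw [(horb χ.1 χ.2).1]; exact h2d), (horb χ.1 χ.2).2⟩⟩, χ.2⟩ :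
            {x : {χ : Cfsg.IrrCharacter G //
              (Cfsg.charDegree (χ : G → ℂ) = 1 ∨ 2 ∣ Cfsg.charDegree (χ : G → ℂ)) ∧
              (Nat.card G : ℂ)⁻¹ * ∑ᶠ g : G, (χ : G → ℂ) (g * g) = 1} //
              x.1 ∈ MulAction.orbit (realLin G) θ}))
      intro a b hab
      have h5 := congrArg (fun x : {x : {χ : Cfsg.IrrCharacter G //
              (Cfsg.charDegree (χ : G → ℂ) = 1 ∨ 2 ∣ Cfsg.charDegree (χ : G → ℂ)) ∧
              (Nat.card G : ℂ)⁻¹ * ∑ᶠ g : G, (χ : G → ℂ) (g * g) = 1} //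
              x.1 ∈ MulAction.orbit (realLin G) θ} => (x.1.1 : IrrCharacter G)) hab
      exact Subtype.ext h5
    calc _ ≤ Nat.card {χ : IrrCharacter G // charDegree (χ : G → ℂ) = 1 ∧
          (Nat.card G : ℂ)⁻¹ * ∑ᶠ g : G, (χ : G → ℂ) (g * g) = 1} := h3
      _ ≤ Nat.card (realLin G) := h1
      _ = Nat.card (MulAction.orbit (realLin G) θ) *
          Nat.card (MulAction.stabilizer (realLin G) θ) := h2.symm
      _ ≤ _ * d := Nat.mul_le_mul h4 hstab
      _ = _ := mul_comm _ _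
  · intro x hx
    exact (horb x.1 hx).1
  · intro x
    rcases x.2.1 with h | h
    · exact Or.inl h
    · exact Or.inr (Nat.le_of_dvd (charDegree_pos x.1) h)

end Cfsg.Agent.S4871
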