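import Mathlib
import Cfsg.Statements.S4996
import Cfsg.Agent.Lib.helper79.CycloNorm
import Cfsg.Agent.Lib.helper83.CharBasic2
import Cfsg.Agent.Lib.helper83.CliffordInd
import Cfsg.Agent.Lib.helper4.CharDecomp

set_option autoImplicit false
open Cfsg

namespace Cfsg.Agent.S4996

open scoped ComplexConjugate
open Polynomial Cfsg.Agent.Lib.helper79 Cfsg.Agent.Lib.helper83

universe u

variable {G : Type u} [Group G]

/-- Class sums act as scalars: `∑_y ψ(y a y⁻¹ g) = |G| ψ(a) ψ(g) / ψ(1)`. -/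
theorem irr_class_sum [Fintype G] (ψ : IrrCharacter G) (a g : G) :
    ∑ y : G, (ψ : G → ℂ) (y * a * y⁻¹ * g) =
      (Nat.card G : ℂ) * (ψ : G → ℂ) a * (ψ : G → ℂ) g / (ψ : G → ℂ) 1 := by
  classical
  obtain ⟨n, ρ, hρ, h⟩ := ψ.2
  rw [← h]
  simp only [character_eq_trace, repMat_mul, repMat_one, Matrix.trace_one, Fintype.card_fin]
  have hs := schur_average ρ hρ (repMat ρ a)
  calc ∑ y : G, (repMat ρ y * repMat ρ a * repMat ρ y⁻¹ * repMat ρ g).trace
      = ((∑ y : G, repMat ρ y * repMat ρ a * repMat ρ y⁻¹) * repMat ρ g).trace := by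
        rw [Finset.sum_mul, Matrix.trace_sum]
    _ = _ := by
        rw [hs, Matrix.smul_mul, Matrix.trace_smul, Matrix.one_mul, smul_eq_mul]
        ring

/-- Averaging an irreducible character over cosets of a normal subgroup gives `0` or the
character itself. -/
theorem sum_normal_mul [Fintype G] (N : Subgroup G) [N.Normal] [Fintype N] (ψ : IrrCharacter G) :
    ∃ ω : ℕ, ∀ g : G, ∑ n : N, (ψ : G → ℂ) ((n : G) * g) =
      (Nat.card N : ℂ) * ω * (ψ : G → ℂ) g := by
  classical
  set S : ℂ := ∑ n : N, (ψ : G → ℂ) (n : G) with hS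
  have h1ne := irr_one_ne_zero ψ
  have hG : (Nat.card G : ℂ) ≠ 0 := Nat.cast_ne_zero.2 Nat.card_pos.ne'
  have step1 : ∀ g : G, ∑ n : N, (ψ : G → ℂ) ((n : G) * g) =
      S * (ψ : G → ℂ) g / (ψ : G → ℂ) 1 := by
    intro g
    have e1 : ∀ y : G, ∑ n : N, (ψ : G → ℂ) (y * (n : G) * y⁻¹ * g) =
        ∑ n : N, (ψ : G → ℂ) ((n : G) * g) := by
      intro y
      refine Fintype.sum_equiv (MulAut.conjNormal y : N ≃* N).toEquiv _ _ (fun n => ?_)
      simp [MulAut.conjNormal_apply]
    have e2 : ∑ y : G, ∑ n : N, (ψ : G → ℂ) (y * (n : G) * y⁻¹ * g) =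
        (Nat.card G : ℂ) * (S * (ψ : G → ℂ) g / (ψ : G → ℂ) 1) := by
      rw [Finset.sum_comm]
      simp_rw [irr_class_sum]
      rw [hS, Finset.sum_mul, Finset.sum_div, Finset.mul_sum]
      exact Finset.sum_congr rfl (fun n _ => by ring)
    have e3 : ∑ y : G, ∑ n : N, (ψ : G → ℂ) (y * (n : G) * y⁻¹ * g) =
        (Nat.card G : ℂ) * ∑ n : N, (ψ : G → ℂ) ((n : G) * g) := by
      simp_rw [e1]
      rw [Finset.sum_const, Finset.card_univ, nsmul_eq_mul, Nat.card_eq_fintype_card]
    exact mul_left_cancel₀ hG (e3.symm.trans e2)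
  have step2 : S * S = (Nat.card N : ℂ) * S * (ψ : G → ℂ) 1 := by
    have a1 : ∑ m : N, ∑ n : N, (ψ : G → ℂ) ((n : G) * (m : G)) =
        ∑ m : N, S * (ψ : G → ℂ) (m : G) / (ψ : G → ℂ) 1 :=
      Finset.sum_congr rfl (fun m _ => step1 m)
    have a2 : ∀ m : N, ∑ n : N, (ψ : G → ℂ) ((n : G) * (m : G)) = S := by
      intro m
      refine Fintype.sum_equiv (Equiv.mulRight m) _ _ (fun n => ?_)
      simp
    simp_rw [a2] at a1
    rw [Finset.sum_const, Finset.card_univ, nsmul_eq_mul, ← Nat.card_eq_fintype_card,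
      ← Finset.sum_div, ← Finset.mul_sum, ← hS] at a1
    field_simp at a1
    linear_combination -a1
  by_cases hS0 : S = 0
  · refine ⟨0, fun g => ?_⟩
    rw [step1 g, hS0]
    simp
  · have hS1 : S = (Nat.card N : ℂ) * (ψ : G → ℂ) 1 := by
      have : S * (S - (Nat.card N : ℂ) * (ψ : G → ℂ) 1) = 0 := by linear_combination step2
      rcases mul_eq_zero.1 this with h | h
      · exact absurd h hS0
      · linear_combination h
    refine ⟨1, fun g => ?_⟩
    rw [step1 g, hS1]
    field_simp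
    push_cast
    ring

/-- The coset averages of `|χ|²` are a combination of irreducible characters with natural
coefficients, the trivial character having coefficient `1`. -/
theorem exists_mult [Fintype G] (N : Subgroup G) [N.Normal] [Fintype N]
    [Fintype (IrrCharacter G)] (χ : IrrCharacter G) :
    ∃ m : IrrCharacter G → ℕ, m (trivIrr G) = 1 ∧ ∀ x : G,
      ∑ n : N, (χ : G → ℂ) ((n : G) * x) * conj ((χ : G → ℂ) ((n : G) * x)) =
        (Nat.card N : ℂ) * ∑ ψ : IrrCharacter G, (m ψ : ℂ) * (ψ : G → ℂ) x := by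
  classical
  have hχ : IsCharacter G (χ : G → ℂ) := isCharacter_of_irr χ.2
  have hG : (Nat.card G : ℂ) ≠ 0 := Nat.cast_ne_zero.2 Nat.card_pos.ne'
  have hN : (Nat.card N : ℂ) ≠ 0 := Nat.cast_ne_zero.2 Nat.card_pos.ne'
  set f : G → ℂ := fun g => (χ : G → ℂ) g * conj ((χ : G → ℂ) g) with hf
  have hfchar : IsCharacter G f :=
    Cfsg.Agent.Lib.helper4.isCharacter_mul hχ (Cfsg.Agent.Lib.helper4.isCharacter_conj hχ)
  have hfcf : IsClassFunction G f := Cfsg.Agent.Lib.helper83.isClassFunction_of_isCharacter hfchar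
  choose a ha using fun ψ : IrrCharacter G =>
    Cfsg.Agent.Lib.helper4.exists_nat_classInner_irr hfchar ψ.2
  choose ω hω using fun ψ : IrrCharacter G => sum_normal_mul N ψ
  refine ⟨fun ψ => a ψ * ω ψ, ?_, ?_⟩
  · have h1 : a (trivIrr G) = 1 := by
      have h := ha (trivIrr G)
      rw [classInner_def] at h
      simp only [trivIrr_apply, map_one, mul_one] at h
      have h2 : ∑ g : G, f g = (Nat.card G : ℂ) := by
        have := irr_orthogonality' χ χ
        rw [if_pos rfl] at this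
        exact this
      rw [h2, inv_mul_cancel₀ hG] at h
      exact_mod_cast h.symm
    have h2 : ω (trivIrr G) = 1 := by
      have h := hω (trivIrr G) 1
      simp only [trivIrr_apply, Finset.sum_const, Finset.card_univ, nsmul_eq_mul, mul_one] at h
      rw [← Nat.card_eq_fintype_card] at h
      have h3 : (Nat.card N : ℂ) * 1 = (Nat.card N : ℂ) * (ω (trivIrr G) : ℂ) := by
        rw [mul_one]; exact h
      have h4 := mul_left_cancel₀ hN h3
      exact_mod_cast h4.symm
    simp [h1, h2]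
  · intro x
    have e : ∀ n : N, f ((n : G) * x) =
        ∑ ψ : IrrCharacter G, (a ψ : ℂ) * (ψ : G → ℂ) ((n : G) * x) := by
      intro n
      rw [classFunction_expansion' f hfcf]
      exact Finset.sum_congr rfl (fun ψ _ => by rw [ha ψ])
    show ∑ n : N, f ((n : G) * x) = _
    simp_rw [e]
    rw [Finset.sum_comm, Finset.mul_sum]
    refine Finset.sum_congr rfl (fun ψ _ => ?_)
    rw [← Finset.mul_sum, hω ψ x]
    push_cast
    ring

/-- AM–GM: nonnegative reals with product at least one have sum at least their number. -/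
theorem card_le_sum_of_one_le_prod {ι : Type*} (s : Finset ι) (w : ι → ℝ)
    (hw : ∀ i ∈ s, 0 ≤ w i) (h : 1 ≤ ∏ i ∈ s, w i) : (s.card : ℝ) ≤ ∑ i ∈ s, w i := by
  have h0 : ∀ i ∈ s, 0 ≤ Real.sqrt (w i) := fun i _ => Real.sqrt_nonneg _
  have hP0 : 0 ≤ ∏ i ∈ s, Real.sqrt (w i) := Finset.prod_nonneg h0
  have hP2 : (∏ i ∈ s, Real.sqrt (w i)) ^ 2 = ∏ i ∈ s, w i := by
    rw [← Finset.prod_pow]
    exact Finset.prod_congr rfl (fun i hi => Real.sq_sqrt (hw i hi))
  have hP1 : 1 ≤ ∏ i ∈ s, Real.sqrt (w i) := by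
    by_contra hlt
    have hlt' := not_le.1 hlt
    nlinarith
  have := card_le_sum_sq_of_one_le_prod s (fun i => Real.sqrt (w i)) h0 hP1
  calc (s.card : ℝ) ≤ ∑ i ∈ s, Real.sqrt (w i) ^ 2 := this
    _ = ∑ i ∈ s, w i := Finset.sum_congr rfl (fun i hi => Real.sq_sqrt (hw i hi))

/-- Let N be a normal subgroup of the finite group G and χ an irreducible complex character of G. Then the restriction of χ to N is not irreducible if and only if χ vanishes on some whole coset Nx of N in G. -/
theorem result {G : Type*} [Group G] [Finite G] (N : Subgroup G) [N.Normal] (χ : Cfsg.IrrCharacter G) : ¬ Cfsg.IsIrrCharacter ↥N (fun n : ↥N => (χ : G → ℂ) n) ↔ ∃ x : G, ∀ n : ↥N, (χ : G → ℂ) ((n : G) * x) = 0 := by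
  classical
  have := Fintype.ofFinite G
  have := Fintype.ofFinite N
  have := Fintype.ofFinite (IrrCharacter G)
  obtain ⟨m, hm1, hm⟩ := exists_mult N χ
  have hχ : IsCharacter G (χ : G → ℂ) := isCharacter_of_irr χ.2
  have hGpos : 0 < Nat.card G := Nat.card_pos
  have hNpos : 0 < Nat.card N := Nat.card_pos
  have hNC : (Nat.card N : ℂ) ≠ 0 := Nat.cast_ne_zero.2 hNpos.ne'
  have hNR : (0 : ℝ) < Nat.card N := Nat.cast_pos.2 hNpos
  -- real version of the coset sums
  set R : G → ℝ := fun x => ∑ n : N, ‖(χ : G → ℂ) ((n : G) * x)‖ ^ 2 with hRdef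
  have hR0 : ∀ x, 0 ≤ R x := fun x => Finset.sum_nonneg (fun n _ => by positivity)
  have hRC0 : ∀ x, ((R x : ℝ) : ℂ) =
      ∑ n : N, (χ : G → ℂ) ((n : G) * x) * conj ((χ : G → ℂ) ((n : G) * x)) := by
    intro x
    simp only [hRdef]
    push_cast
    refine Finset.sum_congr rfl (fun n _ => ?_)
    rw [Complex.mul_conj, Complex.normSq_eq_norm_sq]
    push_cast
    rfl
  have hRC : ∀ x, ((R x : ℝ) : ℂ) =
      (Nat.card N : ℂ) * ∑ ψ : IrrCharacter G, (m ψ : ℂ) * (ψ : G → ℂ) x := by
    intro x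
    rw [hRC0 x, hm x]
  have hres : IsCharacter N (fun n : N => (χ : G → ℂ) n) :=
    Cfsg.Agent.Lib.helper4.isCharacter_restrict N hχ
  have hnorm : classInner (fun n : N => (χ : G → ℂ) n) (fun n : N => (χ : G → ℂ) n) =
      ((R 1 / Nat.card N : ℝ) : ℂ) := by
    rw [classInner_def]
    push_cast
    rw [hRC0 1, div_eq_inv_mul]
    simp only [mul_one]
  constructor
  · intro hnot
    by_contra hno
    apply hnot
    have hex : ∀ x : G, ∃ n : N, (χ : G → ℂ) ((n : G) * x) ≠ 0 := by
      intro x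
      by_contra hx
      exact hno ⟨x, fun n => by_contra (fun h => hx ⟨n, h⟩)⟩
    have hRpos : ∀ x, 0 < R x := by
      intro x
      obtain ⟨n, hn⟩ := hex x
      have h1 : 0 < ‖(χ : G → ℂ) ((n : G) * x)‖ ^ 2 := by positivity
      have h2 : ‖(χ : G → ℂ) ((n : G) * x)‖ ^ 2 ≤ R x :=
        Finset.single_le_sum (f := fun n : N => ‖(χ : G → ℂ) ((n : G) * x)‖ ^ 2)
          (fun n _ => by positivity) (Finset.mem_univ n)
      linarith
    set M := Fintype.card G with hMdef
    have hMpos : 0 < M := Fintype.card_pos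
    have hζ : IsPrimitiveRoot (Complex.exp (2 * Real.pi * Complex.I / (M : ℕ))) M :=
      Complex.isPrimitiveRoot_exp _ hMpos.ne'
    set ζ := Complex.exp (2 * Real.pi * Complex.I / (M : ℕ)) with hζdef
    have hFex : ∀ (ψ : IrrCharacter G) (g : G), ∃ F : ℤ[X], ∀ k : ℕ,
        (ψ : G → ℂ) (g ^ k) = aeval (ζ ^ k) F := by
      intro ψ g
      obtain ⟨n, ρ, -, h⟩ := ψ.2
      rw [← h]
      exact character_pow_eq_aeval ρ g M hMpos (pow_card_eq_one) ζ hζ
    choose F hF using hFex
    set E : G → ℤ[X] := fun x => ∑ ψ : IrrCharacter G, (m ψ : ℤ[X]) * F ψ x with hEdef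
    have hE : ∀ (x : G) (k : ℕ),
        (Nat.card N : ℂ) * aeval (ζ ^ k) (E x) = ((R (x ^ k) : ℝ) : ℂ) := by
      intro x k
      rw [hRC]
      simp only [hEdef, map_sum, map_mul, map_natCast]
      congr 1
      exact Finset.sum_congr rfl (fun ψ _ => by rw [hF ψ x k])
    have hEnorm : ∀ (x : G) (k : ℕ), ‖aeval (ζ ^ k) (E x)‖ = R (x ^ k) / Nat.card N := by
      intro x k
      have h := congrArg norm (hE x k)
      rw [norm_mul, Complex.norm_natCast, Complex.norm_real, Real.norm_of_nonneg (hR0 _)] at h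
      rw [← h]
      field_simp
    set K := (Finset.range M).filter (fun k => k.Coprime M) with hKdef
    have hKne : K.Nonempty := by
      by_cases h1 : M = 1
      · exact ⟨0, Finset.mem_filter.2 ⟨Finset.mem_range.2 hMpos, by
          rw [h1]; exact Nat.coprime_one_right 0⟩⟩
      · exact ⟨1, Finset.mem_filter.2 ⟨Finset.mem_range.2 (by omega), Nat.coprime_one_left M⟩⟩
    have hx : ∀ x : G, (K.card : ℝ) ≤ ∑ k ∈ K, R (x ^ k) / Nat.card N := by
      intro x
      have hne : aeval ζ (E x) ≠ 0 := by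
        intro h0
        have h := hE x 1
        rw [pow_one, pow_one, h0, mul_zero] at h
        have : R x = 0 := by exact_mod_cast h.symm
        exact (hRpos x).ne' this
      have h1 := one_le_prod_norm_aeval_primitiveRoots hMpos hζ (E x) hne
      have h2 := card_le_sum_of_one_le_prod (primitiveRoots M ℂ) (fun ξ => ‖aeval ξ (E x)‖)
        (fun ξ _ => norm_nonneg _) h1
      have h3 := sum_primitiveRoots_eq_sum_coprime hMpos hζ (fun ξ => ‖aeval ξ (E x)‖)
      have h4 := sum_primitiveRoots_eq_sum_coprime hMpos hζ (fun _ => (1 : ℝ))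
      simp only [Finset.sum_const, nsmul_eq_mul, mul_one] at h4
      rw [← h4, ← h3] at h2
      calc (K.card : ℝ) ≤ ∑ k ∈ K, ‖aeval (ζ ^ k) (E x)‖ := h2
        _ = _ := Finset.sum_congr rfl (fun k _ => hEnorm x k)
    have hpow : ∀ k ∈ K, ∑ x : G, R (x ^ k) = ∑ x : G, R x := by
      intro k hk
      have hk' : (Nat.card G).Coprime k := by
        rw [Nat.card_eq_fintype_card]
        exact (Finset.mem_filter.1 hk).2.symm
      exact Fintype.sum_equiv (powCoprime hk') _ _ (fun x => rfl)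
    have htot : ∑ x : G, R x = (Nat.card N : ℝ) * Nat.card G := by
      have h1 : ∑ x : G, R x = ∑ n : N, ∑ x : G, ‖(χ : G → ℂ) x‖ ^ 2 := by
        simp only [hRdef]
        rw [Finset.sum_comm]
        refine Finset.sum_congr rfl (fun n _ => ?_)
        exact Fintype.sum_equiv (Equiv.mulLeft (n : G)) _ _ (fun x => rfl)
      have h2 : ∑ x : G, ‖(χ : G → ℂ) x‖ ^ 2 = (Nat.card G : ℝ) := by
        have := irr_orthogonality' χ χ
        rw [if_pos rfl] at this
        have h3 : ((∑ x : G, ‖(χ : G → ℂ) x‖ ^ 2 : ℝ) : ℂ) = ((Nat.card G : ℝ) : ℂ) := by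
          push_cast
          rw [← this]
          refine Finset.sum_congr rfl (fun x _ => ?_)
          rw [Complex.mul_conj, Complex.normSq_eq_norm_sq]
          push_cast
          rfl
        exact_mod_cast h3
      rw [h1, h2, Finset.sum_const, Finset.card_univ, nsmul_eq_mul]
      simp [Nat.card_eq_fintype_card]
    have hdouble : ∑ x : G, ∑ k ∈ K, R (x ^ k) / (Nat.card N : ℝ) =
        K.card * (Nat.card G : ℝ) := by
      rw [Finset.sum_comm]
      have : ∀ k ∈ K, ∑ x : G, R (x ^ k) / (Nat.card N : ℝ) = (Nat.card G : ℝ) := by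
        intro k hk
        rw [← Finset.sum_div, hpow k hk, htot]
        field_simp
      rw [Finset.sum_congr rfl this, Finset.sum_const, nsmul_eq_mul]
    have hsplit : ∑ x : G, ∑ k ∈ K, R (x ^ k) / (Nat.card N : ℝ) =
        (∑ k ∈ K, R ((1 : G) ^ k) / (Nat.card N : ℝ)) +
          ∑ x ∈ Finset.univ.erase (1 : G), ∑ k ∈ K, R (x ^ k) / (Nat.card N : ℝ) :=
      (Finset.add_sum_erase Finset.univ (fun x => ∑ k ∈ K, R (x ^ k) / (Nat.card N : ℝ))
        (Finset.mem_univ (1 : G))).symm
    have hone : ∑ k ∈ K, R ((1 : G) ^ k) / (Nat.card N : ℝ) =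
        K.card * (R 1 / (Nat.card N : ℝ)) := by
      simp only [one_pow, Finset.sum_const, nsmul_eq_mul]
    have hrest : ((Nat.card G : ℝ) - 1) * K.card ≤
        ∑ x ∈ Finset.univ.erase (1 : G), ∑ k ∈ K, R (x ^ k) / (Nat.card N : ℝ) := by
      calc ((Nat.card G : ℝ) - 1) * K.card
          = ∑ x ∈ Finset.univ.erase (1 : G), (K.card : ℝ) := by
            rw [Finset.sum_const, Finset.card_erase_of_mem (Finset.mem_univ _), Finset.card_univ,
              nsmul_eq_mul, Nat.card_eq_fintype_card, Nat.cast_sub Fintype.card_pos]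
            simp
        _ ≤ _ := Finset.sum_le_sum (fun x _ => hx x)
    have ht : R 1 / (Nat.card N : ℝ) ≤ 1 := by
      have hK : (0 : ℝ) < K.card := Nat.cast_pos.2 (Finset.card_pos.2 hKne)
      have h5 : (K.card : ℝ) * (R 1 / (Nat.card N : ℝ)) ≤ K.card * 1 := by
        have h6 : (K.card : ℝ) * (R 1 / (Nat.card N : ℝ)) + ((Nat.card G : ℝ) - 1) * K.card ≤
            K.card * (Nat.card G : ℝ) := by
          rw [← hdouble, hsplit, hone]
          linarith
        linarith
      exact le_of_mul_le_mul_left h5 hK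
    obtain ⟨t, ht'⟩ := Cfsg.Agent.Lib.helper4.exists_nat_classInner hres hres
    rw [Cfsg.Agent.Lib.helper4.isIrrCharacter_iff_norm_one hres, ht']
    have htne : t ≠ 0 := by
      intro h0
      rw [h0] at ht'
      exact classInner_self_ne_zero (fun n : N => (χ : G → ℂ) n) 1
        (by simpa using irr_one_ne_zero χ) (by simpa using ht')
    have htle : t ≤ 1 := by
      rw [hnorm] at ht'
      have h7 : R 1 / (Nat.card N : ℝ) = t := by exact_mod_cast ht'
      rw [h7] at ht
      exact_mod_cast ht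
    have h8 : t = 1 := by omega
    rw [h8]
    simp
  · rintro ⟨x, hx⟩ hirr
    have hRx : R x = 0 := by
      simp only [hRdef]
      exact Finset.sum_eq_zero (fun n _ => by rw [hx n]; simp)
    have hn1 := (Cfsg.Agent.Lib.helper4.isIrrCharacter_iff_norm_one hres).1 hirr
    rw [hnorm] at hn1
    have hR1 : ∑ ψ : IrrCharacter G, (m ψ : ℂ) * (ψ : G → ℂ) 1 = 1 := by
      have h := hRC 1
      have h' : ((R 1 : ℝ) : ℂ) = (Nat.card N : ℂ) := by
        have h9 : ((R 1 / Nat.card N : ℝ) : ℂ) * (Nat.card N : ℂ) = (Nat.card N : ℂ) := by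
          rw [hn1, one_mul]
        push_cast at h9
        rw [div_mul_cancel₀ _ hNC] at h9
        exact h9
      rw [h'] at h
      have h2 : (Nat.card N : ℂ) * 1 =
          (Nat.card N : ℂ) * ∑ ψ : IrrCharacter G, (m ψ : ℂ) * (ψ : G → ℂ) 1 := by
        rw [mul_one]; exact h
      exact (mul_left_cancel₀ hNC h2).symm
    have hnat : ∑ ψ : IrrCharacter G, m ψ * charDegree (ψ : G → ℂ) = 1 := by
      have h3 : ((∑ ψ : IrrCharacter G, m ψ * charDegree (ψ : G → ℂ) : ℕ) : ℂ) = 1 := by
        push_cast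
        rw [← hR1]
        exact Finset.sum_congr rfl (fun ψ _ => by rw [irr_one_eq_charDegree])
      exact_mod_cast h3
    have hzero : ∀ ψ : IrrCharacter G, ψ ≠ trivIrr G → m ψ = 0 := by
      intro ψ hψ
      by_contra hmψ
      have h1 : 1 ≤ m ψ * charDegree (ψ : G → ℂ) :=
        Nat.mul_pos (Nat.pos_of_ne_zero hmψ) (charDegree_pos ψ)
      have h2 : 1 ≤ m (trivIrr G) * charDegree ((trivIrr G : IrrCharacter G) : G → ℂ) := by
        rw [hm1, one_mul]; exact charDegree_pos _
      have h3 : ∑ φ ∈ ({ψ, trivIrr G} : Finset (IrrCharacter G)), m φ * charDegree (φ : G → ℂ) ≤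
          ∑ φ : IrrCharacter G, m φ * charDegree (φ : G → ℂ) :=
        Finset.sum_le_sum_of_subset (Finset.subset_univ _)
      rw [Finset.sum_pair hψ, hnat] at h3
      omega
    have hsum : ∑ ψ : IrrCharacter G, (m ψ : ℂ) * (ψ : G → ℂ) x = 1 := by
      rw [Finset.sum_eq_single (trivIrr G)]
      · rw [hm1]; simp
      · intro ψ _ hψ
        rw [hzero ψ hψ]; simp
      · intro h; exact absurd (Finset.mem_univ _) h
    have h := hRC x
    rw [hRx, hsum, mul_one] at h
    exact hNC (by exact_mod_cast h.symm)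

end Cfsg.Agent.S4996
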