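import Mathlib
import Cfsg.Statements.S4873
import Cfsg.Agent.S4996
import Cfsg.Agent.Lib.helper83.RealInd
import Cfsg.Agent.Lib.helper82.Clifford
import Cfsg.Agent.Lib.helper78.FrobSchur2

set_option autoImplicit false
open Cfsg

namespace Cfsg.Agent.S4873

open scoped ComplexConjugate
open Cfsg.Agent.Lib.helper83

universe u

variable {G : Type u} [Group G]

/-- The complex conjugate of an irreducible character is irreducible. -/
theorem isIrr_conj [Finite G] (ψ : IrrCharacter G) :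
    IsIrrCharacter G (fun g => conj ((ψ : G → ℂ) g)) := by
  classical
  have := Fintype.ofFinite G
  have hc := Cfsg.Agent.Lib.helper4.isCharacter_conj (isCharacter_of_irr ψ.2)
  rw [Cfsg.Agent.Lib.helper4.isIrrCharacter_iff_norm_one hc, classInner_def]
  have h := irr_orthogonality' ψ ψ
  rw [if_pos rfl] at h
  have h2 : ∑ g : G, conj ((ψ : G → ℂ) g) * conj (conj ((ψ : G → ℂ) g)) = (Nat.card G : ℂ) := by
    rw [← h]
    exact Finset.sum_congr rfl (fun g _ => by rw [Complex.conj_conj, mul_comm])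
  rw [h2]
  exact inv_mul_cancel₀ (Nat.cast_ne_zero.2 Nat.card_pos.ne')

/-- Complex conjugation on irreducible characters. -/
noncomputable def cj [Finite G] (ψ : IrrCharacter G) : IrrCharacter G :=
  ⟨fun g => conj ((ψ : G → ℂ) g), isIrr_conj ψ⟩

theorem cj_apply [Finite G] (ψ : IrrCharacter G) (g : G) :
    (cj ψ : G → ℂ) g = conj ((ψ : G → ℂ) g) := rfl

theorem cj_cj [Finite G] (ψ : IrrCharacter G) : cj (cj ψ) = ψ := by
  apply Subtype.ext
  funext g
  rw [cj_apply, cj_apply, Complex.conj_conj]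

theorem cj_eq_self_iff [Finite G] (ψ : IrrCharacter G) :
    cj ψ = ψ ↔ ∀ g, conj ((ψ : G → ℂ) g) = (ψ : G → ℂ) g := by
  constructor
  · intro h g
    rw [← cj_apply, h]
  · intro h
    apply Subtype.ext
    funext g
    rw [cj_apply, h]

theorem charDegree_cj [Finite G] (ψ : IrrCharacter G) :
    charDegree (cj ψ : G → ℂ) = charDegree (ψ : G → ℂ) := by
  apply Nat.cast_injective (R := ℂ)
  rw [← irr_one_eq_charDegree, cj_apply, irr_one_eq_charDegree, Complex.conj_natCast]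

/-- Summing a function of the coset over the group. -/
theorem sum_comp_mk [Fintype G] (N : Subgroup G) [N.Normal] [Fintype N] [Fintype (G ⧸ N)]
    (F : G ⧸ N → ℂ) :
    ∑ g : G, F (g : G ⧸ N) = (Nat.card N : ℂ) * ∑ q : G ⧸ N, F q := by
  rw [sum_eq_sum_quot_sum N, Finset.mul_sum]
  refine Finset.sum_congr rfl (fun q _ => ?_)
  have h1 : ∀ h : N, F ((Quotient.out q * (h : G) : G) : G ⧸ N) = F q := by
    intro h
    rw [QuotientGroup.mk_mul_of_mem _ h.2, QuotientGroup.out_eq']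
  rw [Finset.sum_congr rfl (fun h _ => h1 h), Finset.sum_const, Finset.card_univ, nsmul_eq_mul,
    Nat.card_eq_fintype_card]

/-- If `N` has odd index, an element whose square lies in `N` lies in `N`. -/
theorem mem_of_sq_mem [Finite G] (N : Subgroup G) [N.Normal] (hodd : Odd N.index) {g : G}
    (h : g * g ∈ N) : g ∈ N := by
  have h1 : ((g : G ⧸ N)) ^ 2 = 1 := by
    rw [pow_two, ← QuotientGroup.mk_mul]
    exact (QuotientGroup.eq_one_iff _).2 h
  have h2 : orderOf (g : G ⧸ N) ∣ 2 := orderOf_dvd_of_pow_eq_one h1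
  have h3 : orderOf (g : G ⧸ N) ∣ Nat.card (G ⧸ N) := orderOf_dvd_natCard _
  rw [← Subgroup.index_eq_card] at h3
  have h4 : orderOf (g : G ⧸ N) ∣ Nat.gcd 2 N.index := Nat.dvd_gcd h2 h3
  have h5 : Nat.gcd 2 N.index = 1 := Nat.coprime_two_left.2 hodd
  rw [h5, Nat.dvd_one, orderOf_eq_one_iff] at h4
  exact (QuotientGroup.eq_one_iff _).1 h4

/-- For a function constant on the cosets of a normal subgroup of odd index, summing over
squares is the same as summing over the group. -/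
theorem sum_sq_eq_sum_of_const [Fintype G] (N : Subgroup G) [hN : N.Normal] (hodd : Odd N.index)
    (ψ : G → ℂ) (hconst : ∀ n ∈ N, ∀ x, ψ (n * x) = ψ x) :
    ∑ g : G, ψ (g * g) = ∑ g : G, ψ g := by
  classical
  have : Fintype N := Fintype.ofFinite N
  have : Fintype (G ⧸ N) := Fintype.ofFinite _
  have hfac : ∀ g : G, ψ g = ψ (Quotient.out (g : G ⧸ N)) := by
    intro g
    have hx : (Quotient.out (g : G ⧸ N))⁻¹ * g ∈ N :=
      QuotientGroup.eq.mp (QuotientGroup.out_eq' (g : G ⧸ N))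
    have hy : g * (Quotient.out (g : G ⧸ N))⁻¹ ∈ N := by
      have h := hN.conj_mem _ hx (Quotient.out (g : G ⧸ N))
      have e : Quotient.out (g : G ⧸ N) * ((Quotient.out (g : G ⧸ N))⁻¹ * g) *
          (Quotient.out (g : G ⧸ N))⁻¹ = g * (Quotient.out (g : G ⧸ N))⁻¹ := by group
      rwa [e] at h
    have h := hconst _ hy (Quotient.out (g : G ⧸ N))
    rw [inv_mul_cancel_right] at h
    exact h
  have h1 : ∑ g : G, ψ (g * g) =
      ∑ g : G, (fun q : G ⧸ N => ψ (Quotient.out (q * q))) (g : G ⧸ N) := by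
    refine Finset.sum_congr rfl (fun g _ => ?_)
    rw [hfac (g * g)]
    rfl
  have h2 : ∑ g : G, ψ g = ∑ g : G, (fun q : G ⧸ N => ψ (Quotient.out q)) (g : G ⧸ N) :=
    Finset.sum_congr rfl (fun g _ => hfac g)
  have e1 := sum_comp_mk N (fun q : G ⧸ N => ψ (Quotient.out (q * q)))
  have e2 := sum_comp_mk N (fun q : G ⧸ N => ψ (Quotient.out q))
  have hcop : (Nat.card (G ⧸ N)).Coprime 2 := by
    rw [← Subgroup.index_eq_card]
    exact Nat.coprime_two_right.2 hodd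
  have e3 : ∑ q : G ⧸ N, ψ (Quotient.out (q * q)) = ∑ q : G ⧸ N, ψ (Quotient.out q) := by
    refine Fintype.sum_equiv (powCoprime hcop) _ _ (fun q => ?_)
    show ψ (Quotient.out (q * q)) = ψ (Quotient.out (q ^ 2))
    rw [pow_two]
  rw [h1, h2]
  exact e1.trans ((congrArg (fun z => (Nat.card N : ℂ) * z) e3).trans e2.symm)

/-- The coset sums of an irreducible character are either all zero or reproduce it. -/
theorem omega_spec [Fintype G] (N : Subgroup G) [N.Normal] [Fintype N] (ψ : IrrCharacter G) :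
    ∃ ω : ℕ, (ω = 0 ∨ ω = 1) ∧ ∀ g : G, ∑ n : N, (ψ : G → ℂ) ((n : G) * g) =
      (Nat.card N : ℂ) * ω * (ψ : G → ℂ) g := by
  classical
  obtain ⟨ω, hω⟩ := Cfsg.Agent.S4996.sum_normal_mul N ψ
  refine ⟨ω, ?_, hω⟩
  have hNC : (Nat.card N : ℂ) ≠ 0 := Nat.cast_ne_zero.2 Nat.card_pos.ne'
  have h1ne := irr_one_ne_zero ψ
  have a2 : ∀ m : N, ∑ n : N, (ψ : G → ℂ) ((n : G) * ((m : G) * 1)) =
      ∑ n : N, (ψ : G → ℂ) ((n : G) * 1) := by
    intro m
    refine Fintype.sum_equiv (Equiv.mulRight m) _ _ (fun n => ?_)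
    simp
  have a1 : ∑ m : N, ∑ n : N, (ψ : G → ℂ) ((n : G) * ((m : G) * 1)) =
      ∑ m : N, (Nat.card N : ℂ) * ω * (ψ : G → ℂ) ((m : G) * 1) :=
    Finset.sum_congr rfl (fun m _ => hω _)
  simp_rw [a2] at a1
  rw [Finset.sum_const, Finset.card_univ, nsmul_eq_mul, ← Nat.card_eq_fintype_card,
    ← Finset.mul_sum, hω 1] at a1
  have h3 : ((ω * ω : ℕ) : ℂ) = ((ω : ℕ) : ℂ) := by
    have h4 : (Nat.card N : ℂ) * (Nat.card N : ℂ) * (ψ : G → ℂ) 1 * ((ω : ℂ) * ω) =
        (Nat.card N : ℂ) * (Nat.card N : ℂ) * (ψ : G → ℂ) 1 * (ω : ℂ) := by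
      linear_combination -a1
    have h5 : (Nat.card N : ℂ) * (Nat.card N : ℂ) * (ψ : G → ℂ) 1 ≠ 0 :=
      mul_ne_zero (mul_ne_zero hNC hNC) h1ne
    have h6 := mul_left_cancel₀ h5 h4
    push_cast
    exact h6
  have h7 : ω * ω = ω := by exact_mod_cast h3
  rcases Nat.eq_zero_or_pos ω with h0 | hpos
  · exact Or.inl h0
  · right
    nlinarith

/-- A nontrivial real-valued irreducible character has vanishing coset sums over a normal
subgroup of odd index. -/
theorem omega_zero_of_real [Fintype G] (N : Subgroup G) [N.Normal] [Fintype N]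
    (hodd : Odd N.index) (ψ : IrrCharacter G) (hψ : ψ ≠ trivIrr G)
    (hreal : ∀ g, conj ((ψ : G → ℂ) g) = (ψ : G → ℂ) g) :
    ∀ g : G, ∑ n : N, (ψ : G → ℂ) ((n : G) * g) = 0 := by
  classical
  obtain ⟨ω, hω01, hω⟩ := omega_spec N ψ
  rcases hω01 with h0 | h1
  · intro g
    rw [hω g, h0]
    simp
  · exfalso
    have hNC : (Nat.card N : ℂ) ≠ 0 := Nat.cast_ne_zero.2 Nat.card_pos.ne'
    have hconst : ∀ n ∈ N, ∀ x, (ψ : G → ℂ) (n * x) = (ψ : G → ℂ) x := by
      intro n hn x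
      have e1 := hω (n * x)
      have e2 := hω x
      have e3 : ∑ m : N, (ψ : G → ℂ) ((m : G) * (n * x)) = ∑ m : N, (ψ : G → ℂ) ((m : G) * x) := by
        refine Fintype.sum_equiv (Equiv.mulRight (⟨n, hn⟩ : N)) _ _ (fun m => ?_)
        simp [mul_assoc]
      rw [e3, e2, h1] at e1
      have e4 : (Nat.card N : ℂ) * (ψ : G → ℂ) x = (Nat.card N : ℂ) * (ψ : G → ℂ) (n * x) := by
        linear_combination e1
      exact (mul_left_cancel₀ hNC e4).symm
    have hsum := sum_sq_eq_sum_of_const N hodd (ψ : G → ℂ) hconst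
    rw [irr_sum_eq_zero ψ hψ] at hsum
    obtain ⟨n, ρ, hρ, hh⟩ := ψ.2
    have hr := (Cfsg.Agent.Lib.helper78.fs_of_real ρ hρ (by
      intro g
      rw [hh]
      exact hreal g)).2.1
    rw [hh, hsum, mul_zero] at hr
    rcases hr with h0 | h0
    · exact zero_ne_one h0
    · have : (0 : ℂ) ≠ -1 := by norm_num
      exact this h0

/-- Parity of restricted inner products of real irreducible characters. -/
theorem parity [Fintype G] (N : Subgroup G) [N.Normal] [Fintype N] [Fintype (IrrCharacter G)]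
    (hodd : Odd N.index) (χ χ' : IrrCharacter G)
    (hχ : ∀ g, conj ((χ : G → ℂ) g) = (χ : G → ℂ) g)
    (hχ' : ∀ g, conj ((χ' : G → ℂ) g) = (χ' : G → ℂ) g) :
    ∃ k : ℕ, classInner (fun n : N => (χ : G → ℂ) n) (fun n : N => (χ' : G → ℂ) n) = k ∧
      (k : ZMod 2) = if χ = χ' then 1 else 0 := by
  classical
  have hG : (Nat.card G : ℂ) ≠ 0 := Nat.cast_ne_zero.2 Nat.card_pos.ne'
  have hNC : (Nat.card N : ℂ) ≠ 0 := Nat.cast_ne_zero.2 Nat.card_pos.ne'
  set f : G → ℂ := fun g => (χ : G → ℂ) g * conj ((χ' : G → ℂ) g) with hf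
  have hfchar : IsCharacter G f :=
    Cfsg.Agent.Lib.helper4.isCharacter_mul (isCharacter_of_irr χ.2)
      (Cfsg.Agent.Lib.helper4.isCharacter_conj (isCharacter_of_irr χ'.2))
  have hfcf : IsClassFunction G f := Cfsg.Agent.Lib.helper83.isClassFunction_of_isCharacter hfchar
  have hfreal : ∀ g, conj (f g) = f g := by
    intro g
    simp only [hf, map_mul, hχ g, hχ' g]
  choose a ha using fun ψ : IrrCharacter G =>
    Cfsg.Agent.Lib.helper4.exists_nat_classInner_irr hfchar ψ.2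
  choose w hw01 hw using fun ψ : IrrCharacter G => omega_spec N ψ
  have ha_cj : ∀ ψ : IrrCharacter G, a (cj ψ) = a ψ := by
    intro ψ
    have h1 : classInner f (cj ψ : G → ℂ) = conj (classInner f (ψ : G → ℂ)) := by
      rw [classInner_def, classInner_def, map_mul, map_inv₀, Complex.conj_natCast, map_sum]
      congr 1
      refine Finset.sum_congr rfl (fun g _ => ?_)
      rw [map_mul, hfreal g, cj_apply]
    rw [ha, ha, Complex.conj_natCast] at h1
    exact_mod_cast h1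
  have hw_cj : ∀ ψ : IrrCharacter G, w (cj ψ) = w ψ := by
    intro ψ
    have h1 := hw (cj ψ) 1
    have h2 := congrArg conj (hw ψ 1)
    rw [map_sum, map_mul, map_mul, Complex.conj_natCast, Complex.conj_natCast] at h2
    have h3 : ∑ n : N, (cj ψ : G → ℂ) ((n : G) * 1) =
        ∑ n : N, conj ((ψ : G → ℂ) ((n : G) * 1)) := rfl
    rw [h3, h2, cj_apply] at h1
    have h4 : conj ((ψ : G → ℂ) 1) ≠ 0 := by
      rw [Ne, map_eq_zero]
      exact irr_one_ne_zero ψ
    have h5 : ((w ψ : ℕ) : ℂ) = ((w (cj ψ) : ℕ) : ℂ) :=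
      mul_left_cancel₀ hNC (mul_right_cancel₀ h4 h1)
    exact_mod_cast h5.symm
  have hk : classInner (fun n : N => (χ : G → ℂ) n) (fun n : N => (χ' : G → ℂ) n) =
      ((∑ ψ : IrrCharacter G, a ψ * w ψ * charDegree (ψ : G → ℂ) : ℕ) : ℂ) := by
    rw [classInner_def]
    have e : ∀ n : N, (χ : G → ℂ) n * conj ((χ' : G → ℂ) n) =
        ∑ ψ : IrrCharacter G, (a ψ : ℂ) * (ψ : G → ℂ) ((n : G) * 1) := by
      intro n
      have h := classFunction_expansion' f hfcf (n : G)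
      rw [mul_one, show (χ : G → ℂ) n * conj ((χ' : G → ℂ) n) = f n from rfl, h]
      exact Finset.sum_congr rfl (fun ψ _ => by rw [ha ψ])
    rw [Finset.sum_congr rfl (fun n _ => e n), Finset.sum_comm]
    simp_rw [← Finset.mul_sum, hw _ 1]
    rw [Finset.mul_sum]
    push_cast
    refine Finset.sum_congr rfl (fun ψ _ => ?_)
    rw [irr_one_eq_charDegree]
    field_simp
  refine ⟨_, hk, ?_⟩
  push_cast
  rw [← Finset.add_sum_erase Finset.univ _ (Finset.mem_univ (trivIrr G))]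
  have hrest : ∑ ψ ∈ Finset.univ.erase (trivIrr G),
      ((a ψ : ZMod 2) * (w ψ : ZMod 2) * (charDegree (ψ : G → ℂ) : ZMod 2)) = 0 := by
    refine Finset.sum_involution (fun ψ _ => cj ψ) ?_ ?_ ?_ ?_
    · intro ψ _
      rw [ha_cj, hw_cj, charDegree_cj]
      exact CharTwo.add_self_eq_zero _
    · intro ψ hψ hne hcj
      apply hne
      have hψt : ψ ≠ trivIrr G := Finset.ne_of_mem_erase hψ
      have hz := omega_zero_of_real N hodd ψ hψt ((cj_eq_self_iff ψ).1 hcj) 1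
      rw [hw ψ 1] at hz
      have hw0 : w ψ = 0 := by
        rcases mul_eq_zero.1 hz with h | h
        · rcases mul_eq_zero.1 h with h' | h'
          · exact absurd h' hNC
          · exact_mod_cast h'
        · exact absurd h (irr_one_ne_zero ψ)
      rw [hw0]
      simp
    · intro ψ hψ
      rw [Finset.mem_erase] at hψ ⊢
      refine ⟨?_, Finset.mem_univ _⟩
      intro h
      apply hψ.1
      have h2 := congrArg cj h
      rw [cj_cj] at h2
      rw [h2]
      apply Subtype.ext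
      funext g
      rw [cj_apply, trivIrr_apply, map_one]
    · intro ψ _
      exact cj_cj ψ
  rw [hrest, add_zero]
  have hat : a (trivIrr G) = if χ = χ' then 1 else 0 := by
    have h := ha (trivIrr G)
    rw [classInner_def] at h
    simp only [trivIrr_apply, map_one, mul_one] at h
    have h2 := classInner_irr χ χ'
    rw [classInner_def] at h2
    rw [show (∑ g : G, f g) = ∑ g : G, (χ : G → ℂ) g * conj ((χ' : G → ℂ) g) from rfl, h2] at h
    by_cases hc : χ = χ'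
    · rw [if_pos hc] at h ⊢
      exact_mod_cast h.symm
    · rw [if_neg hc] at h ⊢
      exact_mod_cast h.symm
  have hwt : w (trivIrr G) = 1 := by
    have h := hw (trivIrr G) 1
    simp only [trivIrr_apply, Finset.sum_const, Finset.card_univ, nsmul_eq_mul, mul_one] at h
    rw [← Nat.card_eq_fintype_card] at h
    have h3 : (Nat.card N : ℂ) * 1 = (Nat.card N : ℂ) * (w (trivIrr G) : ℂ) := by
      rw [mul_one]
      exact h
    have h4 := mul_left_cancel₀ hNC h3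
    exact_mod_cast h4.symm
  have hdt : charDegree ((trivIrr G : IrrCharacter G) : G → ℂ) = 1 := by
    apply Nat.cast_injective (R := ℂ)
    rw [← irr_one_eq_charDegree, trivIrr_apply, Nat.cast_one]
  rw [hat, hwt, hdt]
  by_cases hc : χ = χ'
  · simp [hc]
  · simp [hc]

/-- Frobenius–Schur sum of a function induced from a normal subgroup of odd index. -/
theorem fs_sum_indFun [Fintype G] (N : Subgroup G) [hN : N.Normal] [Fintype N]
    (hodd : Odd N.index) (φ : N → ℂ) :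
    ∑ g : G, Cfsg.indFun N φ (g * g) = (N.index : ℂ) * ∑ n : N, φ (n * n) := by
  classical
  have hNC : (Nat.card N : ℂ) ≠ 0 := Nat.cast_ne_zero.2 Nat.card_pos.ne'
  have hvan : ∀ g : G, g ∉ N → Cfsg.indFun N φ (g * g) = 0 := fun g hg =>
    Cfsg.Agent.Lib.helper82.indFun_apply_not_mem N φ (fun h => hg (mem_of_sq_mem N hodd h))
  have h2 : ∑ g : G, Cfsg.indFun N φ (g * g) =
      ∑ k : N, Cfsg.indFun N φ ((k : G) * (k : G)) := by
    rw [← Finset.sum_subtype (Finset.univ.filter (fun g : G => g ∈ N)) (by simp)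
      (fun g => Cfsg.indFun N φ (g * g)), Finset.sum_filter]
    apply Finset.sum_congr rfl
    intro g _
    by_cases hg : g ∈ N
    · rw [if_pos hg]
    · rw [if_neg hg, hvan g hg]
  rw [h2]
  have h3 : ∀ k : N, Cfsg.indFun N φ ((k : G) * (k : G)) =
      (Nat.card N : ℂ)⁻¹ * ∑ x : G, Cfsg.Agent.Lib.helper82.cconj N x φ (k * k) := fun k =>
    Cfsg.Agent.Lib.helper82.indFun_apply_mem N φ (k * k)
  rw [Finset.sum_congr rfl (fun k _ => h3 k), ← Finset.mul_sum, Finset.sum_comm]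
  have h4 : ∀ x : G, ∑ k : N, Cfsg.Agent.Lib.helper82.cconj N x φ (k * k) =
      ∑ k : N, φ (k * k) := by
    intro x
    simp_rw [Cfsg.Agent.Lib.helper82.cconj_def, map_mul]
    exact Fintype.sum_equiv (MulAut.conjNormal x⁻¹ : N ≃* N).toEquiv _ _ (fun k => rfl)
  rw [Finset.sum_congr rfl (fun x _ => h4 x), Finset.sum_const, Finset.card_univ, nsmul_eq_mul,
    ← Nat.card_eq_fintype_card, ← mul_assoc]
  congr 1
  have h5 : (Nat.card G : ℂ) = (N.index : ℂ) * (Nat.card N : ℂ) := by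
    rw [← Nat.cast_mul, Subgroup.index_mul_card]
  rw [h5]
  field_simp

/-- Two real irreducible characters lying over the same irreducible character of a normal
subgroup of odd index coincide. -/
theorem real_over_unique [Fintype G] (N : Subgroup G) [hN : N.Normal] [Fintype N]
    [Fintype (IrrCharacter G)] [Fintype (IrrCharacter N)] (hodd : Odd N.index)
    (φ : IrrCharacter N) (χ₁ χ₂ : IrrCharacter G)
    (hr₁ : ∀ g, conj ((χ₁ : G → ℂ) g) = (χ₁ : G → ℂ) g)
    (hr₂ : ∀ g, conj ((χ₂ : G → ℂ) g) = (χ₂ : G → ℂ) g)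
    (h₁ : classInner (fun n : N => (χ₁ : G → ℂ) n) (φ : N → ℂ) ≠ 0)
    (h₂ : classInner (fun n : N => (χ₂ : G → ℂ) n) (φ : N → ℂ) ≠ 0) : χ₁ = χ₂ := by
  classical
  obtain ⟨m₁, hm₁⟩ := Cfsg.Agent.Lib.helper4.exists_nat_classInner_irr
    (Cfsg.Agent.Lib.helper4.isCharacter_restrict N (isCharacter_of_irr χ₁.2)) φ.2
  obtain ⟨m₂, hm₂⟩ := Cfsg.Agent.Lib.helper4.exists_nat_classInner_irr
    (Cfsg.Agent.Lib.helper4.isCharacter_restrict N (isCharacter_of_irr χ₂.2)) φ.2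
  have hm₁0 : m₁ ≠ 0 := by
    intro h0
    rw [hm₁, h0] at h₁
    exact h₁ Nat.cast_zero
  have hm₂0 : m₂ ≠ 0 := by
    intro h0
    rw [hm₂, h0] at h₂
    exact h₂ Nat.cast_zero
  set S : N → ℂ := ∑ θ ∈ Cfsg.Agent.Lib.helper82.conjOrbit N (φ : N → ℂ), (θ : N → ℂ) with hS
  have hd₁ : (fun n : N => (χ₁ : G → ℂ) n) = (m₁ : ℂ) • S := by
    funext n
    rw [Cfsg.Agent.Lib.helper82.clifford_decomp N χ₁.2 φ.2 m₁ hm₁ hm₁0 n, hS, Pi.smul_apply,
      Finset.sum_apply, smul_eq_mul]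
  have hd₂ : (fun n : N => (χ₂ : G → ℂ) n) = (m₂ : ℂ) • S := by
    funext n
    rw [Cfsg.Agent.Lib.helper82.clifford_decomp N χ₂.2 φ.2 m₂ hm₂ hm₂0 n, hS, Pi.smul_apply,
      Finset.sum_apply, smul_eq_mul]
  have hSS : classInner S S =
      ((Cfsg.Agent.Lib.helper82.conjOrbit N (φ : N → ℂ)).card : ℂ) := by
    rw [hS, Cfsg.Agent.Lib.helper4.classInner_sum_left]
    have h1 : ∀ θ ∈ Cfsg.Agent.Lib.helper82.conjOrbit N (φ : N → ℂ),
        classInner (θ : N → ℂ)
          (∑ θ' ∈ Cfsg.Agent.Lib.helper82.conjOrbit N (φ : N → ℂ), (θ' : N → ℂ)) = 1 := by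
      intro θ hθ
      rw [Cfsg.Agent.Lib.helper4.classInner_sum_right]
      simp_rw [classInner_irr]
      rw [Finset.sum_ite_eq, if_pos hθ]
    rw [Finset.sum_congr rfl h1, Finset.sum_const, nsmul_eq_mul, mul_one]
  have hij : ∀ (a b : ℕ), classInner ((a : ℂ) • S) ((b : ℂ) • S) =
      ((a * b * (Cfsg.Agent.Lib.helper82.conjOrbit N (φ : N → ℂ)).card : ℕ) : ℂ) := by
    intro a b
    rw [Cfsg.Agent.Lib.helper4.classInner_smul_left, Cfsg.Agent.Lib.helper4.classInner_smul_right,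
      hSS, Complex.conj_natCast]
    push_cast
    ring
  obtain ⟨k₁, hk₁, hp₁⟩ := parity N hodd χ₁ χ₁ hr₁ hr₁
  obtain ⟨k₂, hk₂, hp₂⟩ := parity N hodd χ₂ χ₂ hr₂ hr₂
  obtain ⟨k₃, hk₃, hp₃⟩ := parity N hodd χ₁ χ₂ hr₁ hr₂
  rw [hd₁, hij] at hk₁
  rw [hd₂, hij] at hk₂
  rw [hd₁, hd₂, hij] at hk₃
  have e₁ : k₁ = m₁ * m₁ * (Cfsg.Agent.Lib.helper82.conjOrbit N (φ : N → ℂ)).card := by
    exact_mod_cast hk₁.symm
  have e₂ : k₂ = m₂ * m₂ * (Cfsg.Agent.Lib.helper82.conjOrbit N (φ : N → ℂ)).card := by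
    exact_mod_cast hk₂.symm
  have e₃ : k₃ = m₁ * m₂ * (Cfsg.Agent.Lib.helper82.conjOrbit N (φ : N → ℂ)).card := by
    exact_mod_cast hk₃.symm
  rw [if_pos rfl, e₁] at hp₁
  rw [if_pos rfl, e₂] at hp₂
  rw [e₃] at hp₃
  by_contra hne
  rw [if_neg hne] at hp₃
  push_cast at hp₁ hp₂ hp₃
  have h10 : ((m₁ : ZMod 2) * m₁ * ((Cfsg.Agent.Lib.helper82.conjOrbit N (φ : N → ℂ)).card : ZMod 2)) *
      ((m₂ : ZMod 2) * m₂ * ((Cfsg.Agent.Lib.helper82.conjOrbit N (φ : N → ℂ)).card : ZMod 2)) =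
      ((m₁ : ZMod 2) * m₂ * ((Cfsg.Agent.Lib.helper82.conjOrbit N (φ : N → ℂ)).card : ZMod 2)) *
      ((m₁ : ZMod 2) * m₂ * ((Cfsg.Agent.Lib.helper82.conjOrbit N (φ : N → ℂ)).card : ZMod 2)) := by
    ring
  rw [hp₁, hp₂, hp₃] at h10
  have h11 : (1 : ZMod 2) * 1 ≠ 0 * 0 := by decide
  exact h11 h10

/-- For N ⊴ G of odd index, each strongly real φ ∈ Irr(N) lies under a unique strongly real χ ∈ Irr(G). -/
theorem result {G : Type*} [Group G] [Finite G] (N : Subgroup G) [N.Normal] (hodd : Odd N.index) (φ : Cfsg.IrrCharacter ↥N) (hφ : (Nat.card ↥N : ℂ)⁻¹ * ∑ᶠ g : ↥N, (φ : ↥N → ℂ) (g * g) = 1) : ∃! χ : Cfsg.IrrCharacter G, (Nat.card G : ℂ)⁻¹ * ∑ᶠ g : G, (χ : G → ℂ) (g * g) = 1 ∧ (∑ᶠ n : ↥N, (χ : G → ℂ) n * (starRingEnd ℂ) ((φ : ↥N → ℂ) n)) ≠ 0 := by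
  classical
  have := Fintype.ofFinite G
  have : Fintype N := Fintype.ofFinite N
  have := Fintype.ofFinite (IrrCharacter G)
  have := Fintype.ofFinite (IrrCharacter N)
  have hG : (Nat.card G : ℂ) ≠ 0 := Nat.cast_ne_zero.2 Nat.card_pos.ne'
  have hNC : (Nat.card N : ℂ) ≠ 0 := Nat.cast_ne_zero.2 Nat.card_pos.ne'
  rw [finsum_eq_sum_of_fintype] at hφ
  have hcond : ∀ χ : IrrCharacter G,
      ((Nat.card G : ℂ)⁻¹ * ∑ᶠ g : G, (χ : G → ℂ) (g * g) = 1 ∧
        (∑ᶠ n : ↥N, (χ : G → ℂ) n * (starRingEnd ℂ) ((φ : ↥N → ℂ) n)) ≠ 0) ↔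
      ((Nat.card G : ℂ)⁻¹ * ∑ g : G, (χ : G → ℂ) (g * g) = 1 ∧
        classInner (fun n : N => (χ : G → ℂ) n) (φ : N → ℂ) ≠ 0) := by
    intro χ
    rw [finsum_eq_sum_of_fintype, finsum_eq_sum_of_fintype, classInner_def]
    constructor
    · rintro ⟨h1, h2⟩
      exact ⟨h1, mul_ne_zero (inv_ne_zero hNC) h2⟩
    · rintro ⟨h1, h2⟩
      exact ⟨h1, right_ne_zero_of_mul h2⟩
  have hindchar : IsCharacter G (Cfsg.indFun N (φ : N → ℂ)) :=
    Cfsg.Agent.Lib.helper4.isCharacter_indFun N (isCharacter_of_irr φ.2)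
  have hindcf : IsClassFunction G (Cfsg.indFun N (φ : N → ℂ)) :=
    Cfsg.Agent.Lib.helper4.isClassFunction_indFun N _
  choose M hM using fun χ : IrrCharacter G =>
    Cfsg.Agent.Lib.helper4.exists_nat_classInner_irr hindchar χ.2
  choose e he01 heν hereal using fun χ : IrrCharacter G =>
    Cfsg.Agent.Lib.helper78.irr_fs_indicator χ
  have hsum : ∑ χ : IrrCharacter G, (M χ : ℤ) * e χ = 1 := by
    have h1 : ∑ g : G, Cfsg.indFun N (φ : N → ℂ) (g * g) = (Nat.card G : ℂ) := by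
      rw [fs_sum_indFun N hodd]
      have h0 : ∑ n : N, (φ : N → ℂ) (n * n) = (Nat.card N : ℂ) := by
        have h := congrArg (fun z => (Nat.card N : ℂ) * z) hφ
        simp only [mul_one] at h
        rw [← mul_assoc, mul_inv_cancel₀ hNC, one_mul] at h
        exact h
      rw [h0, ← Nat.cast_mul, Subgroup.index_mul_card]
    have h2 : ∑ g : G, Cfsg.indFun N (φ : N → ℂ) (g * g) =
        ∑ χ : IrrCharacter G, (M χ : ℂ) * ((Nat.card G : ℂ) * (e χ : ℂ)) := by
      have e1 : ∀ g : G, Cfsg.indFun N (φ : N → ℂ) (g * g) =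
          ∑ χ : IrrCharacter G, (M χ : ℂ) * (χ : G → ℂ) (g * g) := by
        intro g
        rw [classFunction_expansion' _ hindcf (g * g)]
        exact Finset.sum_congr rfl (fun χ _ => by rw [hM χ])
      rw [Finset.sum_congr rfl (fun g _ => e1 g), Finset.sum_comm]
      refine Finset.sum_congr rfl (fun χ _ => ?_)
      rw [← Finset.mul_sum, ← heν χ, ← mul_assoc (Nat.card G : ℂ), mul_inv_cancel₀ hG, one_mul]
    rw [h1] at h2
    have h3 : (Nat.card G : ℂ) * 1 =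
        (Nat.card G : ℂ) * ∑ χ : IrrCharacter G, (M χ : ℂ) * (e χ : ℂ) := by
      rw [mul_one, Finset.mul_sum]
      exact h2.trans (Finset.sum_congr rfl (fun χ _ => by ring))
    have h4 := mul_left_cancel₀ hG h3
    have h5 : ((∑ χ : IrrCharacter G, (M χ : ℤ) * e χ : ℤ) : ℂ) = 1 := by
      push_cast
      exact h4.symm
    exact_mod_cast h5
  have hMne : ∀ χ : IrrCharacter G, M χ ≠ 0 →
      classInner (fun n : N => (χ : G → ℂ) n) (φ : N → ℂ) ≠ 0 := by
    intro χ hne h0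
    apply hne
    have h1 := Cfsg.Agent.Lib.helper4.frobenius_reciprocity N (φ : N → ℂ) (isClassFunction_irr χ)
    rw [← Cfsg.Agent.Lib.helper4.classInner_conj_symm (fun n : N => (χ : G → ℂ) n) (φ : N → ℂ),
      h0, map_zero, hM χ] at h1
    exact_mod_cast h1
  have hex : ∃ χ₀ : IrrCharacter G, 0 < (M χ₀ : ℤ) * e χ₀ := by
    by_contra hcon
    have hle : ∑ χ : IrrCharacter G, (M χ : ℤ) * e χ ≤ 0 :=
      Finset.sum_nonpos (fun χ _ => not_lt.1 (fun h => hcon ⟨χ, h⟩))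
    rw [hsum] at hle
    exact absurd hle (by norm_num)
  obtain ⟨χ₀, hχ₀⟩ := hex
  have hM0 : M χ₀ ≠ 0 := by
    intro h0
    rw [h0] at hχ₀
    simp at hχ₀
  have he0 : e χ₀ = 1 := by
    rcases he01 χ₀ with h | h | h
    · rw [h] at hχ₀
      simp at hχ₀
    · exact h
    · rw [h] at hχ₀
      have hMnn : (0 : ℤ) ≤ (M χ₀ : ℤ) := Int.natCast_nonneg _
      nlinarith
  have hreal_of : ∀ χ : IrrCharacter G,
      (Nat.card G : ℂ)⁻¹ * ∑ g : G, (χ : G → ℂ) (g * g) = 1 →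
      ∀ g, conj ((χ : G → ℂ) g) = (χ : G → ℂ) g := by
    intro χ hν g
    have h1 : (e χ : ℂ) = 1 := by rw [← heν χ, hν]
    have h2 : e χ ≠ 0 := by
      intro h0
      rw [h0] at h1
      simp at h1
    exact Complex.conj_eq_iff_im.2 (hereal χ h2 g)
  have hν₀ : (Nat.card G : ℂ)⁻¹ * ∑ g : G, (χ₀ : G → ℂ) (g * g) = 1 := by
    rw [heν χ₀, he0]
    simp
  refine ⟨χ₀, (hcond χ₀).2 ⟨hν₀, hMne χ₀ hM0⟩, ?_⟩
  intro χ hχ
  obtain ⟨hν, hne⟩ := (hcond χ).1 hχ
  exact real_over_unique N hodd φ χ χ₀ (hreal_of χ hν) (hreal_of χ₀ hν₀) hne (hMne χ₀ hM0)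

end Cfsg.Agent.S4873
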