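import Mathlib
import Cfsg.Statements.S4872
import Cfsg.Agent.S4873
import Cfsg.Agent.Lib.helper4.DefectZero
import Cfsg.Agent.Lib.helper82.Ramification
import Cfsg.Agent.Lib.helper78.FrobSchur
-- import your own Cfsg.Agent.* helpers here

set_option autoImplicit false
open Cfsg

namespace Cfsg.Agent.S4872

open Cfsg.Agent.Lib.helper83 Cfsg.Agent.Lib.helper78
open scoped ComplexConjugate Matrix

universe u

/-- An idempotent matrix which is self-adjoint for a nondegenerate alternating bilinear form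
has even rank. -/
theorem even_finrank_range_of_alt {n : ℕ} (M E : Matrix (Fin n) (Fin n) ℂ)
    (hM : IsUnit M) (hMt : Mᵀ = -M) (hE : E * E = E) (hEM : Eᵀ * M = M * E) :
    Even (Module.finrank ℂ (LinearMap.range (Matrix.toLin' E))) := by
  classical
  let β : (Fin n → ℂ) →ₗ[ℂ] (Fin n → ℂ) →ₗ[ℂ] ℂ :=
    LinearMap.mk₂ ℂ (fun u w : Fin n → ℂ => u ⬝ᵥ (M *ᵥ w))
      (fun u₁ u₂ w => add_dotProduct u₁ u₂ (M *ᵥ w))
      (fun c u w => smul_dotProduct c u (M *ᵥ w))
      (fun u w₁ w₂ => by rw [Matrix.mulVec_add, dotProduct_add])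
      (fun c u w => by rw [Matrix.mulVec_smul, dotProduct_smul])
  have hβ : ∀ u w : Fin n → ℂ, β u w = u ⬝ᵥ (M *ᵥ w) := fun u w => rfl
  let b : Module.Basis (Fin (Module.finrank ℂ (LinearMap.range (Matrix.toLin' E)))) ℂ
      (LinearMap.range (Matrix.toLin' E)) := Module.finBasis ℂ _
  let S : Matrix (Fin (Module.finrank ℂ (LinearMap.range (Matrix.toLin' E))))
      (Fin (Module.finrank ℂ (LinearMap.range (Matrix.toLin' E)))) ℂ :=
    Matrix.of fun i j => β ((b i : LinearMap.range (Matrix.toLin' E)) : Fin n → ℂ)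
      ((b j : LinearMap.range (Matrix.toLin' E)) : Fin n → ℂ)
  have hSt : Sᵀ = -S := by
    ext i j
    show β ((b j : LinearMap.range (Matrix.toLin' E)) : Fin n → ℂ)
        ((b i : LinearMap.range (Matrix.toLin' E)) : Fin n → ℂ) =
      -β ((b i : LinearMap.range (Matrix.toLin' E)) : Fin n → ℂ)
        ((b j : LinearMap.range (Matrix.toLin' E)) : Fin n → ℂ)
    rw [hβ, hβ, Matrix.dotProduct_mulVec, ← Matrix.mulVec_transpose, hMt, Matrix.neg_mulVec,
      neg_dotProduct, dotProduct_comm]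
  have hfix : ∀ w : LinearMap.range (Matrix.toLin' E), E *ᵥ (w : Fin n → ℂ) = (w : Fin n → ℂ) := by
    intro w
    obtain ⟨x, hx⟩ := w.2
    rw [← hx, Matrix.toLin'_apply, Matrix.mulVec_mulVec, hE]
  have hdet : S.det ≠ 0 := by
    intro h0
    obtain ⟨c, hc, hSc⟩ := Matrix.exists_mulVec_eq_zero_iff.mpr h0
    obtain ⟨w, hw⟩ : ∃ w : LinearMap.range (Matrix.toLin' E), w = b.equivFun.symm c := ⟨_, rfl⟩
    have hw0 : w ≠ 0 := by
      intro h
      apply hc
      have h' : b.equivFun.symm c = b.equivFun.symm 0 := by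
        rw [map_zero, ← hw]
        exact h
      exact b.equivFun.symm.injective h'
    have hwsum : (w : Fin n → ℂ) =
        ∑ j, c j • ((b j : LinearMap.range (Matrix.toLin' E)) : Fin n → ℂ) := by
      have h : w = ∑ j, c j • b j := by
        rw [hw]
        exact b.equivFun_symm_apply c
      have h' := congrArg (LinearMap.range (Matrix.toLin' E)).subtype h
      rw [map_sum] at h'
      simp only [map_smul, Submodule.subtype_apply] at h'
      exact h'
    have h1 : ∀ i, β ((b i : LinearMap.range (Matrix.toLin' E)) : Fin n → ℂ)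
        (w : Fin n → ℂ) = 0 := by
      intro i
      have h2 : (S *ᵥ c) i = 0 := by
        rw [hSc]
        rfl
      rw [hwsum, map_sum, ← h2]
      show _ = ∑ j, S i j * c j
      apply Finset.sum_congr rfl
      intro j _
      rw [map_smul, smul_eq_mul, mul_comm]
      rfl
    have h3 : ∀ u : LinearMap.range (Matrix.toLin' E), β (u : Fin n → ℂ) (w : Fin n → ℂ) = 0 := by
      intro u
      have hu : (u : Fin n → ℂ) =
          ∑ i, b.equivFun u i • ((b i : LinearMap.range (Matrix.toLin' E)) : Fin n → ℂ) := by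
        have h := (b.sum_equivFun u).symm
        have h' := congrArg (LinearMap.range (Matrix.toLin' E)).subtype h
        rw [map_sum] at h'
        simp only [map_smul, Submodule.subtype_apply] at h'
        exact h'
      rw [hu, map_sum, LinearMap.sum_apply]
      apply Finset.sum_eq_zero
      intro i _
      rw [map_smul, LinearMap.smul_apply, h1 i, smul_zero]
    have h4 : ∀ v : Fin n → ℂ, v ⬝ᵥ (M *ᵥ (w : Fin n → ℂ)) = 0 := by
      intro v
      have h5 : M *ᵥ (w : Fin n → ℂ) = Eᵀ *ᵥ (M *ᵥ (w : Fin n → ℂ)) := by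
        conv_lhs => rw [← hfix w]
        rw [Matrix.mulVec_mulVec, Matrix.mulVec_mulVec, hEM]
      rw [h5, Matrix.dotProduct_mulVec, ← Matrix.mulVec_transpose, Matrix.transpose_transpose]
      exact h3 ⟨E *ᵥ v, ⟨v, Matrix.toLin'_apply E v⟩⟩
    have h6 : M *ᵥ (w : Fin n → ℂ) = 0 := by
      apply dotProduct_eq_zero
      intro v
      rw [dotProduct_comm]
      exact h4 v
    have h7 : (w : Fin n → ℂ) = 0 := by
      have hinj := Matrix.mulVec_injective_iff_isUnit.mpr hM
      apply hinj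
      rw [h6, Matrix.mulVec_zero]
    exact hw0 (Subtype.ext h7)
  have h1 : S.det = (-1) ^ (Module.finrank ℂ (LinearMap.range (Matrix.toLin' E))) * S.det := by
    conv_lhs => rw [← Matrix.det_transpose, hSt, Matrix.det_neg, Fintype.card_fin]
  have h2 : ((-1 : ℂ)) ^ (Module.finrank ℂ (LinearMap.range (Matrix.toLin' E))) = 1 := by
    have h3 : (1 - (-1 : ℂ) ^ (Module.finrank ℂ (LinearMap.range (Matrix.toLin' E)))) * S.det = 0 := by
      rw [sub_mul, one_mul, ← h1, sub_self]
    rcases mul_eq_zero.mp h3 with h4 | h4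
    · exact (sub_eq_zero.mp h4).symm
    · exact absurd h4 hdet
  exact (neg_one_pow_eq_one_iff_even (by norm_num)).mp h2

variable {G : Type u} [Group G]

/-- If an irreducible character has Frobenius–Schur indicator `-1`, the trivial character of
any subgroup occurs in its restriction with even multiplicity. -/
theorem even_of_indicator_neg_one [Fintype G] (χ : IrrCharacter G)
    (hν : (Nat.card G : ℂ)⁻¹ * ∑ g : G, (χ : G → ℂ) (g * g) = -1)
    (H : Subgroup G) [Fintype H] (a : ℕ)
    (ha : classInner (fun u : H => (χ : G → ℂ) u) (fun _ => (1 : ℂ)) = a) : Even a := by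
  classical
  obtain ⟨n, ρ, hρ, hχ⟩ := χ.2
  rw [← hχ] at hν ha
  have hreal := fs_real_of_indicator_ne_zero ρ hρ (by rw [hν]; norm_num)
  obtain ⟨⟨M₀, hM0, hM⟩, -, hall⟩ := fs_of_real ρ hρ hreal
  have hT : M₀ᵀ = -M₀ := by
    rw [hall M₀ hM, hν]
    simp
  have hu := isUnit_of_mem_fsForms ρ hρ hM hM0
  have hH0 : (Nat.card H : ℂ) ≠ 0 := Nat.cast_ne_zero.2 Nat.card_pos.ne'
  obtain ⟨E, hE⟩ : ∃ E : Matrix (Fin n) (Fin n) ℂ,
      E = (Nat.card H : ℂ)⁻¹ • ∑ h : H, repMat ρ (h : G) := ⟨_, rfl⟩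
  have hEE : E * E = E := by
    have h1 : (∑ h : H, repMat ρ (h : G)) * (∑ h : H, repMat ρ (h : G)) =
        (Nat.card H : ℂ) • ∑ h : H, repMat ρ (h : G) := by
      rw [Finset.sum_mul]
      have h2 : ∀ h : H, repMat ρ (h : G) * ∑ k : H, repMat ρ (k : G) =
          ∑ k : H, repMat ρ (k : G) := by
        intro h
        rw [Finset.mul_sum]
        refine Fintype.sum_equiv (Equiv.mulLeft h) _ _ (fun k => ?_)
        rw [← repMat_mul]
        rfl
      rw [Finset.sum_congr rfl (fun h _ => h2 h), Finset.sum_const, Finset.card_univ,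
        ← Nat.card_eq_fintype_card, Nat.cast_smul_eq_nsmul]
    calc E * E = ((Nat.card H : ℂ)⁻¹ * ((Nat.card H : ℂ)⁻¹ * (Nat.card H : ℂ))) •
          ∑ h : H, repMat ρ (h : G) := by
          rw [hE, Matrix.smul_mul, Matrix.mul_smul, h1, smul_smul, smul_smul, mul_assoc]
      _ = E := by rw [inv_mul_cancel₀ hH0, mul_one, hE]
  have hEM : Eᵀ * M₀ = M₀ * E := by
    rw [hE, Matrix.transpose_smul, Matrix.smul_mul, Matrix.mul_smul, Matrix.transpose_sum,
      Finset.sum_mul, Finset.mul_sum]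
    congr 1
    symm
    refine Fintype.sum_equiv (Equiv.inv H) _ _ (fun h => ?_)
    rw [fsForms_mul_repMat ρ hM (h : G)]
    rfl
  have htr : E.trace = (a : ℂ) := by
    rw [← ha, classInner_def, hE, Matrix.trace_smul, Matrix.trace_sum, smul_eq_mul]
    congr 1
    refine Finset.sum_congr rfl (fun h _ => ?_)
    rw [map_one, mul_one, character_eq_trace]
  have hproj : LinearMap.IsProj (LinearMap.range (Matrix.toLin' E)) (Matrix.toLin' E) := by
    refine ⟨fun x => LinearMap.mem_range_self _ x, ?_⟩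
    rintro x ⟨y, rfl⟩
    rw [← LinearMap.comp_apply, ← Matrix.toLin'_mul, hEE]
  have hfr : (Module.finrank ℂ (LinearMap.range (Matrix.toLin' E)) : ℂ) = a := by
    rw [← hproj.trace, Matrix.trace_toLin'_eq, htr]
  have hfr' : Module.finrank ℂ (LinearMap.range (Matrix.toLin' E)) = a := by exact_mod_cast hfr
  rw [← hfr']
  exact even_finrank_range_of_alt M₀ E hu hT hEE hEM

/-- Let N be a normal subgroup of the finite group G with G/N a 2-group, and let φ be an irreducible complex character of N of 2-defect zero (the 2-part of #N divides φ(1)) whose complex conjugate is G-conjugate to φ. Then some irreducible character of G with Frobenius–Schur indicator +1 contains φ with multiplicity exactly one on restriction to N. -/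
theorem result {G : Type*} [Group G] [Finite G] (N : Subgroup G) [N.Normal] (h2 : IsPGroup 2 (G ⧸ N)) (φ : Cfsg.IrrCharacter ↥N) (hdef : 2 ^ (Nat.card ↥N).factorization 2 ∣ Cfsg.charDegree (φ : ↥N → ℂ)) (hconj : ∃ g : G, ∀ n n' : ↥N, (n' : G) = g * (n : G) * g⁻¹ → (φ : ↥N → ℂ) n' = (starRingEnd ℂ) ((φ : ↥N → ℂ) n)) : ∃ χ : Cfsg.IrrCharacter G, (Nat.card G : ℂ)⁻¹ * ∑ᶠ g : G, (χ : G → ℂ) (g * g) = 1 ∧ (Nat.card ↥N : ℂ)⁻¹ * ∑ᶠ n : ↥N, (χ : G → ℂ) n * (starRingEnd ℂ) ((φ : ↥N → ℂ) n) = 1 := by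
  classical
  have := Fintype.ofFinite G
  have : Fintype ↥N := Fintype.ofFinite _
  have : Fintype (IrrCharacter G) := Fintype.ofFinite _
  have : Fintype (IrrCharacter ↥N) := Fintype.ofFinite _
  have : Fact (Nat.Prime 2) := ⟨Nat.prime_two⟩
  obtain ⟨P⟩ := (inferInstance : Nonempty (Sylow 2 G))
  have : Fintype ↥(P : Subgroup G) := Fintype.ofFinite _
  have hN0 : (Nat.card ↥N : ℂ) ≠ 0 := Nat.cast_ne_zero.2 Nat.card_pos.ne'
  have hP0 : (Nat.card ↥(P : Subgroup G) : ℂ) ≠ 0 := Nat.cast_ne_zero.2 Nat.card_pos.ne'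
  -- vanishing of `φ` on the `2`-singular elements
  have hvan : ∀ x : ↥N, 2 ∣ orderOf x → (φ : ↥N → ℂ) x = 0 := by
    obtain ⟨n, ρ, hρ, hφ⟩ := φ.2
    intro x hx
    rw [← hφ]
    have := hρ
    refine Cfsg.Agent.Lib.helper4.char_eq_zero_of_defect_zero ρ 2
      ((Nat.card ↥N).factorization 2) Nat.prime_two
      (Nat.pow_succ_factorization_not_dvd Nat.card_pos.ne' Nat.prime_two) ?_ x hx
    rw [Module.finrank_fin_fun]
    have h1 : charDegree (φ : ↥N → ℂ) = n := by
      apply Nat.cast_injective (R := ℂ)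
      rw [← irr_one_eq_charDegree, ← hφ]
      exact character_one ρ
    rw [← h1]
    exact hdef
  -- the induced character vanishes on the nonidentity elements of `P`
  have hindc : IsCharacter G (Cfsg.indFun N (φ : ↥N → ℂ)) :=
    Cfsg.Agent.Lib.helper4.isCharacter_indFun N (isCharacter_of_irr φ.2)
  have hindP : ∀ u : ↥(P : Subgroup G), (u : G) ≠ 1 →
      Cfsg.indFun N (φ : ↥N → ℂ) (u : G) = 0 := by
    intro u hu
    rw [Cfsg.Agent.Lib.helper4.indFun_apply]
    have h2 : 2 ∣ orderOf (u : G) := by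
      obtain ⟨k, hk⟩ := P.isPGroup' u
      have h3 : orderOf u ∣ 2 ^ k := orderOf_dvd_of_pow_eq_one hk
      obtain ⟨j, -, hj⟩ := (Nat.dvd_prime_pow Nat.prime_two).mp h3
      rw [Subgroup.orderOf_coe, hj]
      have hj0 : j ≠ 0 := by
        rintro rfl
        rw [pow_zero, orderOf_eq_one_iff] at hj
        exact hu (by rw [hj]; rfl)
      exact dvd_pow_self 2 hj0
    have h3 : ∀ x : G, Cfsg.extendByZero N (φ : ↥N → ℂ) (x⁻¹ * (u : G) * x) = 0 := by
      intro x
      by_cases hx : x⁻¹ * (u : G) * x ∈ N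
      · rw [Cfsg.Agent.Lib.helper4.extendByZero_apply_mem N _ hx]
        apply hvan
        rw [Subgroup.orderOf_mk]
        have h4 : orderOf (x⁻¹ * (u : G) * x) = orderOf (u : G) := by
          have h5 := (MulAut.conj x⁻¹).orderOf_eq (u : G)
          rw [MulAut.conj_apply, inv_inv] at h5
          exact h5
        rw [h4]
        exact h2
      · exact Cfsg.Agent.Lib.helper4.extendByZero_apply_of_not_mem N _ hx
    rw [Finset.sum_congr rfl (fun x _ => h3 x), Finset.sum_const_zero, mul_zero]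
  -- arithmetic of the orders
  obtain ⟨j, hj⟩ := IsPGroup.iff_card.mp h2
  have hidx : N.index = 2 ^ j := by
    rw [Subgroup.index_eq_card]
    exact hj
  have hcardG : Nat.card G = Nat.card ↥N * 2 ^ j := by
    rw [← hidx]
    exact (Subgroup.card_mul_index N).symm
  have hcardP : Nat.card ↥(P : Subgroup G) = 2 ^ ((Nat.card ↥N).factorization 2 + j) := by
    have h := Sylow.card_eq_multiplicity P
    rw [hcardG, Nat.factorization_mul Nat.card_pos.ne' (pow_ne_zero _ two_ne_zero),
      Finsupp.add_apply, Nat.Prime.factorization_pow Nat.prime_two, Finsupp.single_eq_same] at h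
    exact h
  obtain ⟨m', hm'⟩ := hdef
  have hm'odd : ¬ 2 ∣ m' := by
    intro h
    obtain ⟨r, rfl⟩ := h
    have h1 : 2 ^ ((Nat.card ↥N).factorization 2 + 1) ∣ Nat.card ↥N := by
      refine dvd_trans ?_ (Cfsg.Agent.Lib.helper82.irr_degree_dvd_card φ)
      rw [hm']
      exact ⟨r, by ring⟩
    exact Nat.pow_succ_factorization_not_dvd Nat.card_pos.ne' Nat.prime_two h1
  have hm : classInner (fun u : ↥(P : Subgroup G) => Cfsg.indFun N (φ : ↥N → ℂ) (u : G))
      (fun _ => (1 : ℂ)) = (m' : ℂ) := by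
    rw [classInner_def]
    have h1 : ∑ u : ↥(P : Subgroup G), Cfsg.indFun N (φ : ↥N → ℂ) (u : G) * conj (1 : ℂ) =
        Cfsg.indFun N (φ : ↥N → ℂ) 1 := by
      rw [Finset.sum_eq_single (1 : ↥(P : Subgroup G))]
      · rw [map_one, mul_one]
        rfl
      · intro u _ hu
        rw [hindP u (fun h => hu (Subtype.ext h)), zero_mul]
      · intro h
        exact absurd (Finset.mem_univ _) h
    rw [h1, Cfsg.Agent.Lib.helper4.indFun_one, irr_one_eq_charDegree, hm', hidx, hcardP]
    push_cast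
    rw [pow_add]
    field_simp
  -- multiplicities
  choose e he using fun χ : IrrCharacter G =>
    Cfsg.Agent.Lib.helper4.exists_nat_classInner_irr
      (Cfsg.Agent.Lib.helper4.isCharacter_restrict N (isCharacter_of_irr χ.2)) φ.2
  choose a ha using fun χ : IrrCharacter G =>
    Cfsg.Agent.Lib.helper4.exists_nat_classInner
      (Cfsg.Agent.Lib.helper4.isCharacter_restrict (P : Subgroup G) (isCharacter_of_irr χ.2))
      (Cfsg.Agent.Lib.helper4.isCharacter_one (G := ↥(P : Subgroup G)))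
  have hfrob : ∀ χ : IrrCharacter G,
      classInner (Cfsg.indFun N (φ : ↥N → ℂ)) (χ : G → ℂ) = (e χ : ℂ) := by
    intro χ
    rw [Cfsg.Agent.Lib.helper4.frobenius_reciprocity N (φ : ↥N → ℂ)
      (Cfsg.Agent.Lib.helper4.isClassFunction_of_isIrrCharacter χ.2),
      ← Cfsg.Agent.Lib.helper4.classInner_conj_symm, he, Complex.conj_natCast]
  have hexp : Cfsg.indFun N (φ : ↥N → ℂ) = ∑ χ : IrrCharacter G, (e χ : ℂ) • (χ : G → ℂ) := by
    have h := Cfsg.Agent.Lib.helper4.classFunction_eq_sum_irr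
      (Cfsg.Agent.Lib.helper4.isClassFunction_of_isCharacter hindc)
    refine h.trans (Finset.sum_congr rfl fun χ _ => ?_)
    rw [hfrob χ]
  have hsum : ∑ χ : IrrCharacter G, ((e χ * a χ : ℕ) : ℂ) = (m' : ℂ) := by
    rw [← hm]
    have h1 : (fun u : ↥(P : Subgroup G) => Cfsg.indFun N (φ : ↥N → ℂ) (u : G)) =
        ∑ χ : IrrCharacter G, (e χ : ℂ) • (fun u : ↥(P : Subgroup G) => (χ : G → ℂ) u) := by
      funext u
      rw [hexp]
      simp only [Finset.sum_apply, Pi.smul_apply]
    rw [h1, Cfsg.Agent.Lib.helper4.classInner_sum_left]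
    apply Finset.sum_congr rfl
    intro χ _
    rw [Cfsg.Agent.Lib.helper4.classInner_smul_left, ha, Nat.cast_mul]
  have hsumN : ∑ χ : IrrCharacter G, e χ * a χ = m' := by exact_mod_cast hsum
  -- invariance under complex conjugation
  obtain ⟨g₀, hg₀⟩ := hconj
  have he_cj : ∀ χ : IrrCharacter G, e (Cfsg.Agent.S4873.cj χ) = e χ := by
    intro χ
    have key : ∑ n : ↥N, conj ((χ : G → ℂ) n) * conj ((φ : ↥N → ℂ) n) =
        ∑ n : ↥N, conj ((χ : G → ℂ) n) * (φ : ↥N → ℂ) n := by
      refine Fintype.sum_equiv (MulAut.conjNormal g₀ : ↥N ≃* ↥N).toEquiv _ _ (fun n => ?_)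
      show conj ((χ : G → ℂ) n) * conj ((φ : ↥N → ℂ) n) =
        conj ((χ : G → ℂ) ((MulAut.conjNormal g₀ n : ↥N) : G)) *
          (φ : ↥N → ℂ) (MulAut.conjNormal g₀ n)
      rw [hg₀ n (MulAut.conjNormal g₀ n) (MulAut.conjNormal_apply g₀ n),
        MulAut.conjNormal_apply, irr_conj]
    have h1 : classInner (fun n : ↥N => (Cfsg.Agent.S4873.cj χ : G → ℂ) n) (φ : ↥N → ℂ) =
        conj (classInner (fun n : ↥N => (χ : G → ℂ) n) (φ : ↥N → ℂ)) := by
      rw [classInner_def, classInner_def, map_mul, map_inv₀, Complex.conj_natCast, map_sum]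
      congr 1
      refine key.trans (Finset.sum_congr rfl (fun n _ => ?_))
      rw [map_mul, Complex.conj_conj]
    rw [he, he, Complex.conj_natCast] at h1
    exact_mod_cast h1
  have ha_cj : ∀ χ : IrrCharacter G, a (Cfsg.Agent.S4873.cj χ) = a χ := by
    intro χ
    have h1 : classInner (fun u : ↥(P : Subgroup G) => (Cfsg.Agent.S4873.cj χ : G → ℂ) u)
        (fun _ => (1 : ℂ)) =
        conj (classInner (fun u : ↥(P : Subgroup G) => (χ : G → ℂ) u) (fun _ => (1 : ℂ))) := by
      rw [classInner_def, classInner_def, map_mul, map_inv₀, Complex.conj_natCast, map_sum]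
      congr 1
      refine Finset.sum_congr rfl (fun u _ => ?_)
      rw [map_mul, Complex.conj_conj]
      simp [Cfsg.Agent.S4873.cj_apply]
    rw [ha, ha, Complex.conj_natCast] at h1
    exact_mod_cast h1
  -- parity: a real character with odd multiplicities
  have hex : ∃ χ : IrrCharacter G, Cfsg.Agent.S4873.cj χ = χ ∧ Odd (e χ * a χ) := by
    by_contra hcon
    have hzero : ∑ χ : IrrCharacter G, ((e χ * a χ : ℕ) : ZMod 2) = 0 := by
      refine Finset.sum_involution (fun χ _ => Cfsg.Agent.S4873.cj χ) ?_ ?_ ?_ ?_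
      · intro χ _
        rw [he_cj, ha_cj]
        exact CharTwo.add_self_eq_zero _
      · intro χ _ hne hfix
        apply hcon
        refine ⟨χ, hfix, ?_⟩
        rw [← Nat.not_even_iff_odd]
        intro hev
        apply hne
        exact (ZMod.natCast_eq_zero_iff_even).mpr hev
      · intro χ _
        exact Finset.mem_univ _
      · intro χ _
        exact Cfsg.Agent.S4873.cj_cj χ
    have h1 : ((m' : ℕ) : ZMod 2) = 0 := by
      rw [← hsumN, Nat.cast_sum]
      exact hzero
    exact hm'odd ((ZMod.natCast_eq_zero_iff m' 2).mp h1)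
  obtain ⟨χ, hreal, hodd⟩ := hex
  have heodd : Odd (e χ) := (Nat.odd_mul.mp hodd).1
  have haodd : Odd (a χ) := (Nat.odd_mul.mp hodd).2
  have hrealχ : ∀ g, conj ((χ : G → ℂ) g) = (χ : G → ℂ) g :=
    (Cfsg.Agent.S4873.cj_eq_self_iff χ).mp hreal
  have hν : (Nat.card G : ℂ)⁻¹ * ∑ g : G, (χ : G → ℂ) (g * g) = 1 := by
    obtain ⟨n, ρ, hρ, hχ⟩ := χ.2
    have hreal' : ∀ g : G, conj (ρ.character g) = ρ.character g := by
      rw [hχ]
      exact hrealχ
    obtain ⟨-, h12, -⟩ := fs_of_real ρ hρ hreal'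
    rw [hχ] at h12
    rcases h12 with h | h
    · exact h
    · exfalso
      have h3 := even_of_indicator_neg_one χ h (P : Subgroup G) (a χ) (ha χ)
      exact (Nat.not_even_iff_odd.mpr haodd) h3
  have he1 : e χ = 1 := by
    have he0 : e χ ≠ 0 := by
      intro h
      rw [h] at heodd
      exact absurd heodd (by decide)
    have hcon : classInner (fun n : ↥N => (χ : G → ℂ) n) (φ : ↥N → ℂ) ≠ 0 := by
      rw [he]
      exact_mod_cast he0
    obtain ⟨k', hk', hdeg⟩ := Cfsg.Agent.Lib.helper82.degree_quot_dvd_index N χ.2 φ.2 hcon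
    have hcl := Cfsg.Agent.Lib.helper82.clifford_degree N χ.2 φ.2 (e χ) (he χ) he0
    have hφ1 : (φ : ↥N → ℂ) 1 ≠ 0 := irr_one_ne_zero φ
    have h3 : (k' : ℂ) = (e χ : ℂ) *
        ((Cfsg.Agent.Lib.helper82.inertia N (φ : ↥N → ℂ)).index : ℂ) :=
      mul_right_cancel₀ hφ1 (hdeg.symm.trans hcl)
    have h4 : k' = e χ * (Cfsg.Agent.Lib.helper82.inertia N (φ : ↥N → ℂ)).index := by
      exact_mod_cast h3
    have h5 : e χ ∣ 2 ^ j := by
      rw [← hidx]
      exact dvd_trans ⟨_, h4⟩ hk'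
    obtain ⟨i, -, hi⟩ := (Nat.dvd_prime_pow Nat.prime_two).mp h5
    rcases Nat.eq_zero_or_pos i with rfl | hipos
    · simpa using hi
    · exfalso
      rw [hi] at heodd
      exact (Nat.not_even_iff_odd.mpr heodd) (Nat.even_pow.mpr ⟨even_two, hipos.ne'⟩)
  refine ⟨χ, ?_, ?_⟩
  · rw [finsum_eq_sum_of_fintype]
    exact hν
  · rw [finsum_eq_sum_of_fintype]
    have h := he χ
    rw [classInner_def, he1, Nat.cast_one] at h
    exact h

end Cfsg.Agent.S4872
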