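import Cfsg.Statements.S4892
import Cfsg.Agent.Lib.helper4.PRatExt
import Cfsg.Agent.Lib.helper4.PRatField
import Cfsg.Agent.Lib.helper81.Blocks
import Cfsg.Agent.Lib.helper80.LocalInt

set_option autoImplicit false
open Cfsg

namespace Cfsg.Agent.S4892

open Cfsg.Agent.Lib

/-- Let p be an odd prime, M a maximal ideal of the algebraic integers containing p, N a normal subgroup of the finite group G, and θ an irreducible character of N that is G-invariant, of degree prime to p, p-rational (values in the field generated over ℚ by a root of unity of order prime to p) and lies in the principal p-block of N. Let Q be a Sylow p-subgroup of N and suppose the index of N·C_G(Q) in G is a power of p. Then θ extends to a p-rational irreducible character of G lying in the principal p-block of G. -/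
theorem result {G : Type*} [Group G] [Finite G] (p : ℕ) [Fact p.Prime] (hp : p ≠ 2) (M : Ideal Cfsg.AlgInt) (hM : Cfsg.IsPModular p M) (N : Subgroup G) [N.Normal] (θ : Cfsg.IrrCharacter ↥N) (hinv : ∀ g : G, ∀ n n' : ↥N, (n' : G) = g * (n : G) * g⁻¹ → (θ : ↥N → ℂ) n' = (θ : ↥N → ℂ) n) (hdeg : ¬ p ∣ Cfsg.charDegree (θ : ↥N → ℂ)) (hrat : ∃ m : ℕ, ¬ p ∣ m ∧ ∀ n : ↥N, (θ : ↥N → ℂ) n ∈ IntermediateField.adjoin ℚ ({Complex.exp (2 * Real.pi * Complex.I / m)} : Set ℂ)) (hB : θ ∈ Cfsg.principalBlock M ↥N) (Q : Sylow p ↥N) (hidx : ∃ a : ℕ, (N ⊔ Subgroup.centralizer (((Q : Subgroup ↥N).map N.subtype : Subgroup G) : Set G)).index = p ^ a) : ∃ χ : Cfsg.IrrCharacter G, χ ∈ (Cfsg.principalBlock M G) ∧ (∃ n : ℕ, ¬ p ∣ n ∧ ∀ g : G, (χ : G → ℂ) g ∈ IntermediateField.adjoin ℚ ({Complex.exp (2 * Real.pi * Complex.I / n)} : Set ℂ)) ∧ ∀ n : ↥N, (χ : G → ℂ) n = (θ : ↥N → ℂ) n := by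
  classical
  have hpp : p.Prime := Fact.out
  have hMp : M.IsPrime := hM.2.1.isPrime
  have hG0 : Nat.card G ≠ 0 := Nat.card_pos.ne'
  set a := (Nat.card G).factorization p with ha
  set n' := Nat.card G / p ^ a with hn'def
  have hcard : Nat.card G = p ^ a * n' := (Nat.ordProj_mul_ordCompl_eq_self (Nat.card G) p).symm
  have hn' : ¬ p ∣ n' := Nat.not_dvd_ordCompl hpp hG0
  have co : (p ^ a).Coprime n' :=
    Nat.Coprime.pow_left a ((Nat.Prime.coprime_iff_not_dvd hpp).mpr hn')
  -- the power map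
  obtain ⟨k, hk1, hk2'⟩ := Nat.chineseRemainder co 2 1
  have hk : k.Coprime (Nat.card G) := by
    rw [hcard]
    apply Nat.Coprime.mul_right
    · unfold Nat.Coprime
      rw [hk1.gcd_eq]
      exact Nat.Coprime.pow_right a ((Nat.coprime_primes Nat.prime_two hpp).mpr (Ne.symm hp))
    · unfold Nat.Coprime
      rw [hk2'.gcd_eq]
      exact Nat.gcd_one_left _
  have hk2 : ∀ ζ : ℂ, ζ ^ (p ^ a) = 1 → ζ ^ k = ζ ^ 2 := fun ζ hζ =>
    helper4.pow_eq_pow_of_modEq_of_pow_eq_one ζ (p ^ a) k 2 hζ hk1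
  obtain ⟨a₀, ha₀⟩ := hidx
  have ha₀a : a₀ ≤ a := by
    have h1 : p ^ a₀ ∣ Nat.card G := by
      rw [← ha₀]
      exact Subgroup.index_dvd_card _
    exact (hpp.pow_dvd_iff_le_factorization hG0).mp h1
  have hG := helper4.exists_mul_centQ_of_index N Q a₀ a ha₀ ha₀a
  obtain ⟨m, hm, hθrat⟩ := hrat
  have hexpG : ∀ g : G, g ^ (p ^ a * n') = 1 := by
    intro g
    rw [← hcard]
    exact pow_card_eq_one'
  have hexpN : ∀ n : N, n ^ (p ^ a * n') = 1 := by
    intro n
    apply Subtype.ext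
    rw [Subgroup.coe_pow, Subgroup.coe_one]
    exact hexpG n
  have hθpow : ∀ k' : ℕ, k'.Coprime (p ^ a * n') → k' ≡ 1 [MOD n'] → ∀ n : N,
      (θ : N → ℂ) (n ^ k') = (θ : N → ℂ) n := fun k' hk' hk'1 n =>
    helper4.char_pow_eq_of_mem_adjoin (helper4.isCharacter_of_isIrrCharacter θ.2) p a n' m hpp hn'
      hm hexpN hθrat k' hk' hk'1 n
  obtain ⟨χ, hχ, hχN, hχk, hχC, hχU⟩ := helper4.exists_kfixed_extension hM N θ hB hdeg Q hinv
    a n' hn' hcard k hk hk2 hG (hθpow k (hcard ▸ hk) hk2')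
  have hdegχ : ¬ p ∣ Cfsg.charDegree χ := by
    rw [helper4.charDegree_eq_of_extends N hχN]
    exact hdeg
  refine ⟨⟨χ, hχ⟩, ?_, ⟨n', hn', ?_⟩, hχN⟩
  · -- the principal block
    rw [helper81.mem_principalBlock_iff]
    intro c
    have h0 : ((Subgroup.centralizer ({c} : Set G)).index : ℂ) - Cfsg.centralChar χ c
        = -(((Subgroup.centralizer ({c} : Set G)).index : ℂ) * (χ c / χ 1 - 1)) := by
      unfold Cfsg.centralChar
      ring
    show Cfsg.MemLocalIdeal M
      (((Subgroup.centralizer ({c} : Set G)).index : ℂ) - Cfsg.centralChar χ c)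
    rw [h0]
    apply helper20.memLocalIdeal_neg
    by_cases hdvd : p ∣ (Subgroup.centralizer ({c} : Set G)).index
    · exact helper20.memLocalIdeal_mul_right hMp (helper80.memLocalIdeal_natCast hM hdvd)
        (helper20.memLocalRing_sub hMp (helper4.memLocalRing_ratio hM hχ hdegχ c)
          (helper20.memLocalRing_one hMp))
    · apply helper20.memLocalIdeal_mul_left hMp (helper20.memLocalRing_natCast hMp _)
      -- `c` centralizes a conjugate of `Q`
      set C := Subgroup.centralizer ({c} : Set G) with hC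
      obtain ⟨S⟩ : Nonempty (Sylow p C) := inferInstance
      have hS' : IsPGroup p ((S : Subgroup C).map C.subtype) := S.2.map C.subtype
      have hS'idx : ¬ p ∣ ((S : Subgroup C).map C.subtype).index := by
        rw [Subgroup.index_map_subtype]
        exact Nat.Prime.not_dvd_mul hpp S.not_dvd_index hdvd
      set P₁ : Sylow p G := hS'.toSylow hS'idx with hP₁
      have hQp : IsPGroup p ((Q : Subgroup N).map N.subtype) := Q.2.map N.subtype
      obtain ⟨P₀, hP₀⟩ := hQp.exists_le_sylow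
      obtain ⟨y, hy⟩ := MulAction.exists_smul_eq G P₁ P₀
      apply hχC c y⁻¹
      rw [inv_inv]
      show y * c * y⁻¹ ∈ Subgroup.centralizer (((Q : Subgroup N).map N.subtype : Subgroup G) : Set G)
      rw [Subgroup.mem_centralizer_iff]
      intro q hq
      have h1 : q ∈ (P₀ : Subgroup G) := hP₀ hq
      rw [← hy, Sylow.coe_subgroup_smul, Subgroup.mem_pointwise_smul_iff_inv_smul_mem,
        MulAut.smul_def, MulAut.conj_inv_apply] at h1
      have h2 : y⁻¹ * q * y ∈ (S : Subgroup C).map C.subtype := h1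
      obtain ⟨s, -, hs⟩ := Subgroup.mem_map.mp h2
      have h3 : y⁻¹ * q * y ∈ C := by
        rw [← hs]
        exact s.2
      have h4 := (Subgroup.mem_centralizer_iff.mp h3) c (Set.mem_singleton c)
      calc q * (y * c * y⁻¹) = y * ((y⁻¹ * q * y) * c) * y⁻¹ := by group
        _ = y * (c * (y⁻¹ * q * y)) * y⁻¹ := by rw [← h4]
        _ = y * c * y⁻¹ * q := by group
  · -- rationality
    apply helper4.mem_adjoin_of_pow_fixed (helper4.isCharacter_of_isIrrCharacter hχ) p a n' hpp
      hn' hexpG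
    intro k' hk' hk'1 g
    have h1 := hχU (fun g => χ (g ^ k'))
      (helper79.isIrrCharacter_pow_coprime k' (hcard ▸ hk') hχ)
      (fun n => by
        show χ ((n : G) ^ k') = (θ : N → ℂ) n
        rw [← Subgroup.coe_pow, hχN, hθpow k' hk' hk'1])
      (fun g => by
        show χ ((g ^ k) ^ k') = χ (g ^ k')
        rw [← pow_mul, mul_comm, pow_mul, hχk])
      (fun c hc => by
        show Cfsg.MemLocalIdeal M (χ (c ^ k') / χ (1 ^ k') - 1)
        rw [one_pow]
        apply hχC (c ^ k') 1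
        rw [inv_one, one_mul, mul_one]
        exact Subgroup.pow_mem _ hc _)
    exact congrFun h1 g

end Cfsg.Agent.S4892
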