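-- Statement S4916: the principal block has a unique character of p'-degree iff p ∤ |G|.
import Cfsg.Statements.S4916
import Cfsg.Agent.Lib.helper81.Blocks
import Cfsg.Agent.Lib.helper80.LocalInt

set_option autoImplicit false
open Cfsg

namespace Cfsg.Agent.S4916

open Cfsg.Agent.Lib.helper81 Cfsg.Agent.Lib.helper20 Cfsg.Agent.Lib.helper80
open scoped ComplexConjugate

/-- Let G be a finite group, p a prime and M a maximal ideal of the algebraic integers containing p. Then the principal character is the only irreducible character of degree prime to p in the principal p-block of G if and only if p does not divide the order of G. -/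
theorem result {G : Type*} [Group G] [Finite G] (p : ℕ) [Fact p.Prime] (M : Ideal Cfsg.AlgInt) (hM : Cfsg.IsPModular p M) : (∀ χ : Cfsg.IrrCharacter G, χ ∈ Cfsg.principalBlock M G → ¬ p ∣ Cfsg.charDegree (χ : G → ℂ) → (χ : G → ℂ) = fun _ => (1 : ℂ)) ↔ ¬ p ∣ Nat.card G := by
  classical
  have := Fintype.ofFinite G
  have hp := (Fact.out : p.Prime)
  have hMp : M.IsPrime := isPrime_of_isPModular hM
  have hG : (Nat.card G : ℂ) ≠ 0 := by exact_mod_cast Nat.card_pos.ne'
  constructor
  · intro h hdvd
    have h1 := memLocalRing_blockCoeff hMp (isPBlock_principalBlock (M := M) (G := G)) 1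
    rw [blockCoeff_eq_sum] at h1
    -- the sum of squares of degrees over the principal block, as a natural number
    set S : ℕ := ∑ χ : IrrCharacter G,
      if χ ∈ principalBlock M G then (charDegree (χ : G → ℂ)) ^ 2 else 0 with hS
    have h2 : (∑ χ : IrrCharacter G,
        if χ ∈ principalBlock M G then (χ : G → ℂ) 1 * conj ((χ : G → ℂ) 1) else 0)
        = (S : ℂ) := by
      rw [hS, Nat.cast_sum]
      refine Finset.sum_congr rfl fun χ _ => ?_
      split_ifs
      · rw [irr_one_eq_charDegree χ, Complex.conj_natCast, Nat.cast_pow, sq]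
      · rw [Nat.cast_zero]
    rw [h2] at h1
    have h3 : ¬ p ∣ S := by
      rw [hS, ← Finset.add_sum_erase Finset.univ _ (Finset.mem_univ (trivChar G))]
      rw [if_pos (trivChar_mem_principalBlock hMp)]
      have h4 : charDegree (trivChar G : G → ℂ) = 1 := by
        have := irr_one_eq_charDegree (trivChar G)
        rw [trivChar_apply] at this
        exact_mod_cast this.symm
      rw [h4, one_pow]
      have h5 : p ∣ ∑ χ ∈ Finset.univ.erase (trivChar G),
          if χ ∈ principalBlock M G then (charDegree (χ : G → ℂ)) ^ 2 else 0 := by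
        apply Finset.dvd_sum
        intro χ hχ
        split_ifs with hmem
        · have hne : χ ≠ trivChar G := (Finset.mem_erase.mp hχ).1
          have : p ∣ charDegree (χ : G → ℂ) := by
            by_contra hnd
            apply hne
            apply Subtype.ext
            exact h χ hmem hnd
          exact dvd_pow this (by norm_num)
        · exact dvd_zero p
      intro h6
      have : p ∣ 1 := (Nat.dvd_add_left h5).mp h6
      exact hp.one_lt.ne' (Nat.dvd_one.mp this)
    have h7 := memLocalIdeal_mul_left hMp h1 (memLocalIdeal_natCast hM hdvd)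
    rw [mul_comm (Nat.card G : ℂ)⁻¹, mul_assoc, inv_mul_cancel₀ hG, mul_one] at h7
    exact not_memLocalIdeal_natCast hM h3 h7
  · intro hnd χ hχ _
    by_contra hne
    have hne' : trivChar G ≠ χ := by
      intro h
      apply hne
      rw [← h]
      rfl
    have hloc : LocalCoeff M (blockIdem ({χ} : Set (IrrCharacter G))) := by
      intro g
      rw [coeff_blockIdem, blockCoeff_eq_sum]
      rw [Finset.sum_eq_single χ]
      · rw [if_pos (Set.mem_singleton χ), ← irr_inv]
        have hint : IsIntegral ℤ ((χ : G → ℂ) 1 * (χ : G → ℂ) g⁻¹) :=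
          (irr_isIntegral χ 1).mul (irr_isIntegral χ g⁻¹)
        have := memLocalRing_div_natCast hM
          (⟨(χ : G → ℂ) 1 * (χ : G → ℂ) g⁻¹, hint⟩ : AlgInt) hnd
        rw [mul_comm, ← div_eq_mul_inv]
        exact this
      · intro ψ _ hψ
        rw [if_neg (by simpa using hψ)]
      · intro h
        exact absurd (Finset.mem_univ _) h
    have hsame : SameBlock M (trivChar G : G → ℂ) (χ : G → ℂ) := hχ
    have h1 := memLocalIdeal_omega_sub_of_sameBlock hMp hsame
      (isCentralElt_blockIdem ({χ} : Set (IrrCharacter G))) hloc
    rw [omega_blockIdem, omega_blockIdem, if_neg (by simpa using hne'),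
      if_pos (Set.mem_singleton χ), zero_sub] at h1
    have h2 := memLocalIdeal_neg h1
    rw [neg_neg] at h2
    exact not_memLocalIdeal_one h2

end Cfsg.Agent.S4916
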