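import Cfsg.Statements.S4923
import Cfsg.Agent.Lib.helper78.MaxClassA
import Cfsg.Agent.Lib.helper78.MaxClassB
import Cfsg.Agent.Lib.helper59.MaxClass2

set_option autoImplicit false
open Cfsg

namespace Cfsg.Agent.S4923

open Cfsg.Agent.Lib

/-- Let G be a finite group with Sylow 2-subgroup P of order 2^n ≥ 8, and let ζ be a primitive 2^(n−1)-th root of unity in ℂ. Then the commutator subgroup of P has index 4 in P if and only if there is an element g of P whose conjugacy class in G has even size and such that the field generated over ℚ by the values at g of all irreducible complex characters of G equals ℚ(ζ + ζ⁻¹) or ℚ(ζ − ζ⁻¹). -/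
theorem result {G : Type*} [Group G] [Finite G] (P : Sylow 2 G) (n : ℕ) (hn : 3 ≤ n) (hP : Nat.card P = 2 ^ n) (ζ : ℂ) (hζ : IsPrimitiveRoot ζ (2 ^ (n - 1))) :
    (commutator ↥P).index = 4 ↔
      ∃ g : G, g ∈ (P : Subgroup G) ∧ 2 ∣ (Subgroup.centralizer ({g} : Set G)).index ∧
        (IntermediateField.adjoin ℚ {z : ℂ | ∃ χ : Cfsg.IrrCharacter G, (χ : G → ℂ) g = z} = IntermediateField.adjoin ℚ ({ζ + ζ⁻¹} : Set ℂ) ∨
          IntermediateField.adjoin ℚ {z : ℂ | ∃ χ : Cfsg.IrrCharacter G, (χ : G → ℂ) g = z} = IntermediateField.adjoin ℚ ({ζ - ζ⁻¹} : Set ℂ)) := by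
  classical
  have : Fact (Nat.Prime 2) := ⟨Nat.prime_two⟩
  obtain ⟨k, rfl⟩ : ∃ k, n = k + 3 := ⟨n - 3, by omega⟩
  obtain ⟨D, hD⟩ : ∃ D : ℕ, D = 2 ^ k := ⟨_, rfl⟩
  have hDpos : 0 < D := by rw [hD]; positivity
  have hN : 2 ^ (k + 3 - 1) = 4 * D := by
    rw [hD, show k + 3 - 1 = k + 2 by omega, pow_add]; ring
  have hcardP : Nat.card P = 8 * D := by rw [hP, hD, pow_add]; ring
  rw [hN] at hζ
  have hζN : ζ ^ (4 * D) = 1 := hζ.pow_eq_one
  have hζ0 : ζ ≠ 0 := hζ.ne_zero (by omega)
  have hζM : ζ ^ (2 * D) = -1 :=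
    (IsPrimitiveRoot.pow (by omega) hζ (by ring : 4 * D = 2 * D * 2)).eq_neg_one_of_two_right
  have hinv1 : ζ ^ (4 * D - 1) = ζ⁻¹ := by
    apply eq_inv_of_mul_eq_one_left
    rw [← pow_succ, show 4 * D - 1 + 1 = 4 * D by omega, hζN]
  have hinv2 : ζ ^ (2 * D - 1) = -ζ⁻¹ := by
    have h1 : ζ ^ (2 * D - 1) * ζ = -1 := by
      rw [← pow_succ, show 2 * D - 1 + 1 = 2 * D by omega, hζM]
    rw [eq_neg_iff_add_eq_zero]
    field_simp
    linear_combination h1
  have hoddcop : ∀ e : ℕ, Odd e → Nat.Coprime e (4 * D) := by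
    intro e he
    have h4D : 4 * D = 2 ^ (k + 2) := by rw [hD, pow_add]; ring
    rw [h4D]
    exact Nat.Coprime.pow_right _ (Nat.coprime_two_right.mpr he)
  constructor
  · -- forward direction
    intro hidx
    obtain ⟨a, b, ha, hb, hcases⟩ := helper59.taussky_rel (S := ↥P) k hP hidx
    have ha' : orderOf a = 4 * D := by rw [ha, hD, pow_add]; ring
    have haN : a ^ (4 * D) = 1 := by rw [← ha']; exact pow_orderOf_eq_one a
    have hainv : a ^ (4 * D - 1) = a⁻¹ := by
      apply eq_inv_of_mul_eq_one_left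
      rw [← pow_succ, show 4 * D - 1 + 1 = 4 * D by omega, haN]
    obtain ⟨e, c, he, hc, hne, hfield⟩ : ∃ (e : ℕ) (c : ℚ), b * a * b⁻¹ = a ^ e ∧
        ζ * ζ ^ e = (c : ℂ) ∧ a ^ e ≠ a ∧ (ζ + ζ ^ e = ζ + ζ⁻¹ ∨ ζ + ζ ^ e = ζ - ζ⁻¹) := by
      have hcase1 : b * a * b⁻¹ = a⁻¹ → ∃ (e : ℕ) (c : ℚ), b * a * b⁻¹ = a ^ e ∧
          ζ * ζ ^ e = (c : ℂ) ∧ a ^ e ≠ a ∧ (ζ + ζ ^ e = ζ + ζ⁻¹ ∨ ζ + ζ ^ e = ζ - ζ⁻¹) := by
        intro h
        refine ⟨4 * D - 1, 1, by rw [h, hainv], ?_, ?_, Or.inl (by rw [hinv1])⟩
        · rw [← pow_succ', show 4 * D - 1 + 1 = 4 * D by omega, hζN]; simp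
        · intro h2
          rw [hainv] at h2
          have h3 : a ^ 2 = 1 := by
            rw [pow_two]; nth_rewrite 1 [← h2]; simp
          have h4 := orderOf_dvd_of_pow_eq_one h3
          rw [ha'] at h4
          have := Nat.le_of_dvd (by norm_num) h4
          omega
      rcases hcases with ⟨_, h⟩ | ⟨_, h⟩ | ⟨hk1, _, h⟩
      · exact hcase1 h
      · exact hcase1 h
      · have h2D : 2 ^ (k + 1) = 2 * D := by rw [hD, pow_succ]; ring
        rw [h2D] at h
        have hD2 : 2 ≤ D := by
          rw [hD]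
          calc 2 = 2 ^ 1 := rfl
            _ ≤ 2 ^ k := Nat.pow_le_pow_right (by norm_num) hk1
        refine ⟨2 * D - 1, -1, h, ?_, ?_, Or.inr (by rw [hinv2]; ring)⟩
        · rw [← pow_succ', show 2 * D - 1 + 1 = 2 * D by omega, hζM]; simp
        · intro h2
          have h3 : a ^ (2 * D - 2) = 1 := by
            have h5 : a ^ (2 * D - 2) * a = 1 * a := by
              rw [← pow_succ, show 2 * D - 2 + 1 = 2 * D - 1 by omega, h2, one_mul]
            exact mul_right_cancel h5
          have h4 := orderOf_dvd_of_pow_eq_one h3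
          rw [ha'] at h4
          have := Nat.le_of_dvd (by omega) h4
          omega
    obtain ⟨g, hgdef⟩ : ∃ g : G, g = (a : G) := ⟨_, rfl⟩
    obtain ⟨x, hxdef⟩ : ∃ x : G, x = (b : G) := ⟨_, rfl⟩
    have hgord : orderOf g = 4 * D := by rw [hgdef, Subgroup.orderOf_coe, ha']
    have hxg : x * g * x⁻¹ = g ^ e := by
      rw [hgdef, hxdef]
      have h1 := congrArg Subtype.val he
      simpa using h1
    have hne' : g ^ e ≠ g := by
      intro h
      apply hne
      apply Subtype.ext
      rw [hgdef] at h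
      simpa using h
    obtain ⟨hall, heven⟩ := helper78.normalizer_cyclic_sylow_two P (k + 3) hP g x
      (by rw [hgord, hN])
      (by rw [hxg]; exact Subgroup.pow_mem _ (Subgroup.mem_zpowers g) e)
      (by rw [hxg]; exact hne')
    rw [hxg] at hall
    refine ⟨g, by rw [hgdef]; exact a.2, heven, ?_⟩
    have hfe := helper78.adjoin_irr_values_eq g x (4 * D) (by omega) hgord ζ hζ e c hc hxg hne'
      hall
    rw [hfe]
    rcases hfield with h | h
    · left; rw [h]
    · right; rw [h]
  · -- backward direction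
    rintro ⟨g, hgP, heven, hfield⟩
    obtain ⟨p, hpP, hpg⟩ : ∃ p ∈ (P : Subgroup G), p * g ≠ g * p := by
      by_contra hcon
      push Not at hcon
      have hle : (P : Subgroup G) ≤ Subgroup.centralizer ({g} : Set G) := by
        intro p hp
        rw [Subgroup.mem_centralizer_iff]
        intro y hy
        rw [Set.mem_singleton_iff] at hy
        subst hy
        exact (hcon p hp).symm
      have hdvd : (Subgroup.centralizer ({g} : Set G)).index ∣ (P : Subgroup G).index :=
        Subgroup.index_dvd_of_le hle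
      exact P.not_dvd_index (heven.trans hdvd)
    obtain ⟨γ, hγ⟩ : ∃ γ : ↥P, γ = ⟨g, hgP⟩ := ⟨_, rfl⟩
    obtain ⟨π, hπ⟩ : ∃ π : ↥P, π = ⟨p, hpP⟩ := ⟨_, rfl⟩
    have hπγ : π * γ ≠ γ * π := by
      intro h
      apply hpg
      have h1 := congrArg Subtype.val h
      rw [hπ, hγ] at h1
      simpa using h1
    rcases Nat.eq_zero_or_pos k with hk0 | hkpos
    · -- `n = 3`
      subst hk0
      have h1 := helper78.commutator_index_of_card_prime_cube (S := ↥P) 2 (by exact hP)
        ⟨π, γ, hπγ⟩
      rw [h1]; norm_num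
    · -- `n ≥ 4`
      obtain ⟨L', hL⟩ : ∃ L', D = 2 * (L' + 1) := by
        refine ⟨2 ^ (k - 1) - 1, ?_⟩
        have h1 : 0 < 2 ^ (k - 1) := by positivity
        rw [hD, show 2 ^ (k - 1) - 1 + 1 = 2 ^ (k - 1) by omega, ← pow_succ',
          show k - 1 + 1 = k by omega]
      have hgdvd : orderOf g ∣ 2 ^ (k + 3) := by
        rw [← hP, ← Subgroup.orderOf_mk g hgP]; exact orderOf_dvd_natCard _
      obtain ⟨j, hj3, hj⟩ := (Nat.dvd_prime_pow Nat.prime_two).mp hgdvd
      have hj_ne : j ≠ k + 3 := by
        rintro rfl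
        have hγord : orderOf γ = Nat.card P := by rw [hγ, Subgroup.orderOf_mk, hj, hP]
        have htop : Subgroup.zpowers γ = ⊤ :=
          Subgroup.eq_top_of_card_eq _ (by rw [Nat.card_zpowers, hγord]; rfl)
        have hπmem : π ∈ Subgroup.zpowers γ := by rw [htop]; trivial
        obtain ⟨i, hi⟩ := Subgroup.mem_zpowers_iff.mp hπmem
        exact hπγ (by rw [← hi]; exact ((Commute.refl γ).zpow_left i).eq)
      have hj_gt : k + 1 < j := by
        by_contra hcon
        push Not at hcon
        have hgM : g ^ (2 * D) = 1 := by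
          apply orderOf_dvd_iff_pow_eq_one.mp
          rw [hj, hD, ← pow_succ']; exact pow_dvd_pow 2 hcon
        have hu0 : ∀ ε : ℚ, ζ + (ε : ℂ) * ζ ^ (2 * (2 * D) - 1) ∈ IntermediateField.adjoin ℚ
            {z : ℂ | ∃ χ : Cfsg.IrrCharacter G, (χ : G → ℂ) g = z} →
            ζ + (ε : ℂ) * ζ ^ (2 * (2 * D) - 1) = 0 :=
          fun ε h => helper78.sum_eq_zero_of_order_dvd_half g (2 * D) (by omega) ⟨D, by ring⟩ hgM
            ζ (by rw [show 2 * (2 * D) = 4 * D by ring]; exact hζ) ε h
        have hexp : 2 * (2 * D) - 1 = 4 * D - 1 := by omega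
        rw [hexp, hinv1] at hu0
        have hζ4 : ζ ^ 4 = 1 := by
          rcases hfield with h | h
          · have h1 := hu0 1 (by
              rw [h]
              push_cast
              rw [one_mul]
              exact IntermediateField.subset_adjoin ℚ _ (Set.mem_singleton _))
            have h2 : ζ ^ 2 = -1 := by
              push_cast at h1
              field_simp at h1
              linear_combination h1
            calc ζ ^ 4 = (ζ ^ 2) ^ 2 := by ring
              _ = 1 := by rw [h2]; ring
          · have h1 := hu0 (-1) (by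
              rw [h]
              push_cast
              rw [neg_one_mul, ← sub_eq_add_neg]
              exact IntermediateField.subset_adjoin ℚ _ (Set.mem_singleton _))
            have h2 : ζ ^ 2 = 1 := by
              push_cast at h1
              field_simp at h1
              linear_combination h1
            calc ζ ^ 4 = (ζ ^ 2) ^ 2 := by ring
              _ = 1 := by rw [h2]; ring
        have h4 := hζ.dvd_of_pow_eq_one 4 hζ4
        have := Nat.le_of_dvd (by norm_num) h4
        omega
      have hj_eq : j = k + 2 := by omega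
      have hgord : orderOf g = 4 * D := by rw [hj, hj_eq, hD, pow_add]; ring
      have hgN : g ^ (4 * D) = 1 := by rw [← hgord]; exact pow_orderOf_eq_one g
      have hγord : orderOf γ = 4 * D := by rw [hγ, Subgroup.orderOf_mk, hgord]
      have hγN : γ ^ (4 * D) = 1 := by rw [← hγord]; exact pow_orderOf_eq_one γ
      have finish : ∀ e : ℕ, Odd e → ζ ^ (e * e) = ζ → g ^ e ≠ g →
          IntermediateField.adjoin ℚ {z : ℂ | ∃ χ : Cfsg.IrrCharacter G, (χ : G → ℂ) g = z}
            = IntermediateField.adjoin ℚ ({ζ + ζ ^ e} : Set ℂ) →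
          γ ^ 2 ∈ Subgroup.zpowers (γ ^ e * γ⁻¹) → (commutator ↥P).index = 4 := by
        intro e hodd hee hne hFe hcomm
        obtain ⟨x, hx⟩ := helper78.exists_conj_of_adjoin_le g (4 * D) (by omega) hgN ζ hζ e
          (hoddcop e hodd) hee
          (fun χ => by rw [← hFe]; exact IntermediateField.subset_adjoin ℚ _ ⟨χ, rfl⟩)
        obtain ⟨hall, -⟩ := helper78.normalizer_cyclic_sylow_two P (k + 3) hP g x
          (by rw [hgord, hN])
          (by rw [hx]; exact Subgroup.pow_mem _ (Subgroup.mem_zpowers g) e)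
          (by rw [hx]; exact hne)
        rw [hx] at hall
        have hmem := helper78.conj_mem_zpowers_of_card γ π
          (by rw [hγord]; exact hcardP.trans (by ring))
        obtain ⟨i, hi⟩ := Subgroup.mem_zpowers_iff.mp hmem
        have hmemG : p * g * p⁻¹ ∈ Subgroup.zpowers g := by
          have h1 := congrArg Subtype.val hi
          rw [hγ, hπ] at h1
          refine Subgroup.mem_zpowers_iff.mpr ⟨i, ?_⟩
          simpa using h1
        have hpg' : p * g * p⁻¹ = g ^ e := by
          rcases hall p hmemG with h | h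
          · exfalso
            apply hpg
            calc p * g = (p * g * p⁻¹) * p := by group
              _ = g * p := by rw [h]
          · exact h
        have hπγe : π * γ * π⁻¹ = γ ^ e := by
          apply Subtype.ext
          rw [hπ, hγ]
          simpa using hpg'
        exact helper78.commutator_index_four (S := ↥P) (2 * D) (by omega) γ π
          (by rw [hγord]; ring) (hcardP.trans (by ring)) (by rw [hπγe]; exact hcomm)
      rcases hfield with h | h
      · -- `e = 4 D - 1`
        apply finish (4 * D - 1) ⟨2 * D - 1, by omega⟩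
        · rw [pow_mul, hinv1, inv_pow, hinv1, inv_inv]
        · intro h2
          have h6 : g ^ (4 * D - 1) = g⁻¹ := by
            apply eq_inv_of_mul_eq_one_left
            rw [← pow_succ, show 4 * D - 1 + 1 = 4 * D by omega, hgN]
          rw [h6] at h2
          have h3 : g ^ 2 = 1 := by
            rw [pow_two]; nth_rewrite 1 [← h2]; simp
          have h4 := orderOf_dvd_of_pow_eq_one h3
          rw [hgord] at h4
          have := Nat.le_of_dvd (by norm_num) h4
          omega
        · rw [h, hinv1]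
        · have h6 : γ ^ (4 * D - 1) = γ⁻¹ := by
            apply eq_inv_of_mul_eq_one_left
            rw [← pow_succ, show 4 * D - 1 + 1 = 4 * D by omega, hγN]
          have h7 : γ ^ 2 = (γ ^ (4 * D - 1) * γ⁻¹)⁻¹ := by
            rw [h6, mul_inv_rev, inv_inv, pow_two]
          rw [h7]
          exact Subgroup.inv_mem _ (Subgroup.mem_zpowers _)
      · -- `e = 2 D - 1`
        have hodd : Odd (2 * D - 1) := ⟨D - 1, by omega⟩
        apply finish (2 * D - 1) hodd
        · rw [pow_mul, hinv2, hodd.neg_pow, inv_pow, hinv2]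
          field_simp
        · intro h2
          have h3 : g ^ (2 * D - 2) = 1 := by
            have h5 : g ^ (2 * D - 2) * g = 1 * g := by
              rw [← pow_succ, show 2 * D - 2 + 1 = 2 * D - 1 by omega, h2, one_mul]
            exact mul_right_cancel h5
          have h4 := orderOf_dvd_of_pow_eq_one h3
          rw [hgord] at h4
          have := Nat.le_of_dvd (by omega) h4
          omega
        · rw [h, hinv2, sub_eq_add_neg]
        · have he1 : 2 * D - 1 = 4 * L' + 2 + 1 := by omega
          have h6 : γ ^ (2 * D - 1) * γ⁻¹ = γ ^ (4 * L' + 2) := by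
            rw [he1, pow_succ, mul_inv_cancel_right]
          have hγN' : γ ^ (8 * L' + 8) = 1 := by
            rw [show 8 * L' + 8 = 4 * D by omega]; exact hγN
          have h7 : γ ^ 2 = (γ ^ (2 * D - 1) * γ⁻¹) ^ (2 * L' + 1) := by
            rw [h6, ← pow_mul, show (4 * L' + 2) * (2 * L' + 1) = (8 * L' + 8) * L' + 2 by ring,
              pow_add, pow_mul, hγN', one_pow, one_mul]
          rw [h7]
          exact Subgroup.pow_mem _ (Subgroup.mem_zpowers _) _

end Cfsg.Agent.S4923
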