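import Mathlib
import Cfsg.Statements.S4930
import Cfsg.Agent.Lib.helper58.OddSquares
import Cfsg.Agent.Lib.helper43.NormalizerExt
-- import your own Cfsg.Agent.* helpers here

set_option autoImplicit false
open Cfsg

namespace Cfsg.Agent.S4930

/-- Let G be a finite group, P a Sylow 2-subgroup of G with normalizer N, and P′ the commutator subgroup of P. Then the sum of the squares of the degrees of the irreducible complex characters of G of odd degree is at least the index of P′ in N (the order of N divided by the order of P′), and equality holds if and only if N has a normal complement in G: a normal subgroup K of G with K ∩ N = 1 and KN = G. -/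
theorem result {G : Type*} [Group G] [Finite G] (P : Sylow 2 G) :
    Nat.card (Subgroup.normalizer ((P : Subgroup G) : Set G)) ≤ Nat.card (commutator ↥P) * (∑ᶠ χ : {χ : Cfsg.IrrCharacter G // ¬ 2 ∣ Cfsg.charDegree (χ : G → ℂ)}, Cfsg.charDegree (χ.1 : G → ℂ) ^ 2) ∧
    (Nat.card (Subgroup.normalizer ((P : Subgroup G) : Set G)) = Nat.card (commutator ↥P) * (∑ᶠ χ : {χ : Cfsg.IrrCharacter G // ¬ 2 ∣ Cfsg.charDegree (χ : G → ℂ)}, Cfsg.charDegree (χ.1 : G → ℂ) ^ 2) ↔
      ∃ K : Subgroup G, K.Normal ∧ K ⊓ Subgroup.normalizer ((P : Subgroup G) : Set G) = ⊥ ∧ K ⊔ Subgroup.normalizer ((P : Subgroup G) : Set G) = ⊤) := by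
  classical
  have hfin := Cfsg.Agent.Lib.helper58.finsum_pPrime_eq 2 G
  rw [hfin]
  have hB := Cfsg.Agent.Lib.helper58.card_normalizer_eq (p := 2) P
  have hcomm : Nat.card (commutator ↥P) = Nat.card (commutator ↥(P : Subgroup G)) := rfl
  rw [← hcomm] at hB
  have hidx : ¬ 2 ∣ (Subgroup.normalizer ((P : Subgroup G) : Set G)).index := by
    intro h
    exact P.not_dvd_index (h.trans (Subgroup.index_dvd_of_le Subgroup.le_normalizer))
  obtain ⟨hA1, hA2⟩ := Cfsg.Agent.Lib.helper58.pPrimeSq_restrict (p := 2)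
    (Subgroup.normalizer ((P : Subgroup G) : Set G)) hidx
  have hfirst : Nat.card (Subgroup.normalizer ((P : Subgroup G) : Set G))
      ≤ Nat.card (commutator ↥P) * Cfsg.Agent.Lib.helper58.pPrimeSq 2 G := by
    rw [hB]
    exact Nat.mul_le_mul_left _ hA1
  refine ⟨hfirst, ?_, ?_⟩
  · intro heq
    rw [hB] at heq
    have hpos : 0 < Nat.card (commutator ↥P) := Nat.card_pos
    have h1 := Nat.eq_of_mul_eq_mul_left hpos heq
    obtain ⟨K, hKn, hK1, hK2⟩ :=
      Cfsg.Agent.Lib.helper43.exists_normal_complement_of_extend P (hA2 h1.ge)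
    exact ⟨K, hKn, hK2, hK1⟩
  · rintro ⟨K, hKn, hK1, hK2⟩
    have h1 := Cfsg.Agent.Lib.helper58.mul_pPrimeSq_le_of_complement (p := 2) P K hK1 hK2
    rw [← hcomm] at h1
    exact le_antisymm hfirst h1

end Cfsg.Agent.S4930
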