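import Cfsg.Statements.S4937
import Mathlib
import Cfsg.Agent.Lib.helper4.RelTwist
import Cfsg.Agent.Lib.helper4.PRatExt
import Cfsg.Agent.Lib.helper84.LinTwist

set_option autoImplicit false
open Cfsg

namespace Cfsg.Agent.S4937

open Cfsg.Agent.Lib

/-- Let G be a finite group, p a prime, M a maximal ideal of the algebraic integers containing p, N a normal subgroup of G and P a Sylow p-subgroup of N such that G = N·C_G(P). Let θ be an irreducible character in the principal p-block of N that is the restriction of some irreducible character of G. Then θ is the restriction of an irreducible character χ of G lying in the principal p-block of G such that, for every subgroup J of G containing N, the restriction of χ to J is an irreducible character of J lying in the principal p-block of J. -/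
theorem result {G : Type*} [Group G] [Finite G] (p : ℕ) [Fact p.Prime] (M : Ideal Cfsg.AlgInt) (hM : Cfsg.IsPModular p M) (N : Subgroup G) [N.Normal] (P : Sylow p ↥N)
    (hcov : N ⊔ Subgroup.centralizer (((P : Subgroup ↥N).map N.subtype : Subgroup G) : Set G) = ⊤)
    (θ : Cfsg.IrrCharacter ↥N) (hθ : θ ∈ Cfsg.principalBlock M ↥N)
    (hext : ∃ ψ : Cfsg.IrrCharacter G, ∀ x : ↥N, (ψ : G → ℂ) x = (θ : ↥N → ℂ) x) :
    ∃ χ : Cfsg.IrrCharacter G, χ ∈ Cfsg.principalBlock M G ∧ (∀ x : ↥N, (χ : G → ℂ) x = (θ : ↥N → ℂ) x) ∧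
      ∀ J : Subgroup G, N ≤ J → ∃ ξ : Cfsg.IrrCharacter ↥J, ξ ∈ Cfsg.principalBlock M ↥J ∧ ∀ y : ↥J, (ξ : ↥J → ℂ) y = (χ : G → ℂ) y := by
  classical
  have : Fintype G := Fintype.ofFinite G
  have hMp : M.IsPrime := hM.2.1.isPrime
  obtain ⟨ψ, hψ⟩ := hext
  -- the Sylow subgroup as a subgroup of `G`
  set Q : Subgroup G := (P : Subgroup ↥N).map N.subtype with hQdef
  have hQN : Q ≤ N := Subgroup.map_subtype_le _
  have hQ : IsPGroup p Q := P.isPGroup'.map _
  have hQidx : ¬ p ∣ Q.relIndex N := by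
    have h1 : Q.subgroupOf N = (P : Subgroup ↥N) := by
      ext x
      rw [Subgroup.mem_subgroupOf, hQdef, Subgroup.mem_map]
      constructor
      · rintro ⟨y, hy, hyx⟩
        have : y = x := Subtype.ext hyx
        rw [← this]
        exact hy
      · intro hx
        exact ⟨x, hx, rfl⟩
    unfold Subgroup.relIndex
    rw [h1]
    exact P.not_dvd_index
  -- the character `ψ`
  have hfun : (fun n : ↥N => (ψ : G → ℂ) n) = (θ : ↥N → ℂ) := funext hψ
  have hψN : IsIrrCharacter ↥N (fun n : ↥N => (ψ : G → ℂ) n) := by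
    rw [hfun]
    exact θ.2
  have hψB : SameBlock M (fun _ : ↥N => (1 : ℂ)) (fun n : ↥N => (ψ : G → ℂ) n) := by
    rw [hfun]
    exact hθ
  obtain ⟨hcalc, hpow⟩ := helper4.relCalc_of_irr hM N ψ.2 hψN hψB
  have hψ1 : (ψ : G → ℂ) 1 ≠ 0 := helper4.irr_degree_ne_zero ψ.2
  have hBN : ∀ n ∈ N, n ∈ Subgroup.centralizer (Q : Set G) →
      MemLocalIdeal M ((ψ : G → ℂ) n / (ψ : G → ℂ) 1 - 1) := by
    intro n hn hnC
    have h1 := helper4.ratio_of_mem_centQ hM N θ hθ P ⟨n, hn⟩ hnC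
    rw [← hψ ⟨n, hn⟩, ← hψ 1] at h1
    exact h1
  have hmul : ∀ x ∈ Subgroup.centralizer (Q : Set G), ∀ y ∈ Subgroup.centralizer (Q : Set G),
      MemLocalIdeal M ((ψ : G → ℂ) (x * y) / (ψ : G → ℂ) 1
        - (ψ : G → ℂ) x / (ψ : G → ℂ) 1 * ((ψ : G → ℂ) y / (ψ : G → ℂ) 1)) :=
    fun x hx y hy => helper4.relcalc_mul hM N Q hQN hQ hQidx hcalc hBN hx hy
  have hloc : ∀ c ∈ Subgroup.centralizer (Q : Set G),
      MemLocalRing M ((ψ : G → ℂ) c / (ψ : G → ℂ) 1) :=
    fun c hc => helper4.relcalc_loc N Q hQidx hcalc hc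
  have hpowC : ∀ c ∈ Subgroup.centralizer (Q : Set G),
      MemLocalIdeal M (((ψ : G → ℂ) c / (ψ : G → ℂ) 1) ^ Nat.card G - 1) :=
    fun c hc => hpow c (fun h => hQidx (dvd_trans h (helper4.relIdx_dvd_of_mem_centralizer N Q hc)))
  obtain ⟨L, hL1, hLC⟩ := helper4.exists_twist hM N (Subgroup.centralizer (Q : Set G)) hcov
    (fun g => (ψ : G → ℂ) g / (ψ : G → ℂ) 1) (div_self hψ1) hloc hmul
    (fun c hc hcN => hBN c hcN hc) (Nat.card G) Nat.card_pos hpowC
  -- the twisted character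
  set χ : IrrCharacter G := ⟨fun g => ((L g : ℂˣ) : ℂ) * (ψ : G → ℂ) g,
    helper84.irr_twist L ψ⟩ with hχdef
  have hχval : ∀ g : G, (χ : G → ℂ) g = ((L g : ℂˣ) : ℂ) * (ψ : G → ℂ) g := fun g => rfl
  have hχN : ∀ x : ↥N, (χ : G → ℂ) x = (θ : ↥N → ℂ) x := by
    intro x
    rw [hχval, hL1 x x.2, Units.val_one, one_mul]
    exact hψ x
  have hfunχ : (fun n : ↥N => (χ : G → ℂ) n) = (θ : ↥N → ℂ) := funext hχN
  have hχirrN : IsIrrCharacter ↥N (fun n : ↥N => (χ : G → ℂ) n) := by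
    rw [hfunχ]
    exact θ.2
  have hχB : SameBlock M (fun _ : ↥N => (1 : ℂ)) (fun n : ↥N => (χ : G → ℂ) n) := by
    rw [hfunχ]
    exact hθ
  obtain ⟨hcalcχ, -⟩ := helper4.relCalc_of_irr hM N χ.2 hχirrN hχB
  have hone : ∀ c ∈ Subgroup.centralizer (Q : Set G),
      MemLocalIdeal M ((χ : G → ℂ) c / (χ : G → ℂ) 1 - 1) := by
    intro c hc
    have h1 := hLC c hc
    have h2 : (χ : G → ℂ) c / (χ : G → ℂ) 1
        = ((L c : ℂˣ) : ℂ) * ((ψ : G → ℂ) c / (ψ : G → ℂ) 1) := by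
      rw [hχval, hχval, map_one, Units.val_one, one_mul, mul_div_assoc]
    rw [h2]
    exact h1
  have hcf := helper4.isClassFunction_of_isIrrCharacter χ.2
  have hkey : ∀ J : Subgroup G, N ≤ J → ∀ y : G,
      MemLocalIdeal M ((helper4.relIdx J y : ℂ) * ((χ : G → ℂ) y / (χ : G → ℂ) 1 - 1)) :=
    fun J hNJ y => helper4.relcalc_class hM N Q hQN hQ hcalcχ hone J hNJ
      (fun x u _ => by
        show (χ : G → ℂ) (u * x * u⁻¹) / (χ : G → ℂ) 1 = (χ : G → ℂ) x / (χ : G → ℂ) 1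
        rw [hcf x u]) y
  have hblock : ∀ J : Subgroup G, N ≤ J →
      SameBlock M (fun _ : ↥J => (1 : ℂ)) (fun j : ↥J => (χ : G → ℂ) j) := by
    intro J hNJ y
    rw [helper4.centralChar_sub_eq J (χ : G → ℂ) y]
    unfold centralChar
    rw [helper4.index_centralizer_eq_relIdx]
    have h1 := hkey J hNJ (y : G)
    have h2 : (helper4.relIdx J (y : G) : ℂ) * 1 / 1
        - (helper4.relIdx J (y : G) : ℂ) * (χ : G → ℂ) y / (χ : G → ℂ) 1
        = -((helper4.relIdx J (y : G) : ℂ) * ((χ : G → ℂ) y / (χ : G → ℂ) 1 - 1)) := by ring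
    rw [h2]
    exact helper20.memLocalIdeal_neg h1
  have hχtop : IsIrrCharacter (⊤ : Subgroup G) (fun l : (⊤ : Subgroup G) => (χ : G → ℂ) l) :=
    helper4.isIrrCharacter_comp_surjective (⊤ : Subgroup G).subtype
      (fun g => ⟨⟨g, Subgroup.mem_top g⟩, rfl⟩) χ.2
  refine ⟨χ, ?_, hχN, ?_⟩
  · intro g
    have h1 := hkey ⊤ le_top g
    have h2 : helper4.relIdx (⊤ : Subgroup G) g
        = (Subgroup.centralizer ({g} : Set G)).index := Subgroup.relIndex_top_right _
    rw [h2] at h1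
    unfold centralChar
    have h3 : ((Subgroup.centralizer ({g} : Set G)).index : ℂ) * 1 / 1
        - ((Subgroup.centralizer ({g} : Set G)).index : ℂ) * (χ : G → ℂ) g / (χ : G → ℂ) 1
        = -(((Subgroup.centralizer ({g} : Set G)).index : ℂ)
          * ((χ : G → ℂ) g / (χ : G → ℂ) 1 - 1)) := by ring
    rw [h3]
    exact helper20.memLocalIdeal_neg h1
  · intro J hNJ
    have hirr : IsIrrCharacter ↥J (fun j : ↥J => (χ : G → ℂ) j) :=
      helper4.isIrrCharacter_sub_of_le N J ⊤ hNJ le_top hχtop hχirrN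
    exact ⟨⟨fun j : ↥J => (χ : G → ℂ) j, hirr⟩, hblock J hNJ, fun y => rfl⟩

end Cfsg.Agent.S4937
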