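import Cfsg.Statements.S4956
import Cfsg.Agent.Lib.helper84.CoprimeFitting

set_option autoImplicit false
open Cfsg

namespace Cfsg.Agent.S4956

open Cfsg.Agent.Lib.helper84

theorem compl_decomp {X : Type*} [Group X] (V G : Subgroup X) (h : Subgroup.IsComplement' V G)
    (x : X) : ∃ v ∈ V, ∃ g ∈ G, x = v * g := by
  obtain ⟨⟨v, g⟩, hvg⟩ := h.2 x
  exact ⟨v.1, v.2, g.1, g.2, hvg.symm⟩

theorem compl_unique {X : Type*} [Group X] (V G : Subgroup X) (h : Subgroup.IsComplement' V G)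
    {v v' g g' : X} (hv : v ∈ V) (hv' : v' ∈ V) (hg : g ∈ G) (hg' : g' ∈ G)
    (e : v * g = v' * g') : v = v' ∧ g = g' := by
  have := @h.1 ((⟨v, hv⟩, ⟨g, hg⟩) : ↥(V : Set X) × ↥(G : Set X)) (⟨v', hv'⟩, ⟨g', hg'⟩) e
  have h1 := congrArg (fun p : ↥(V : Set X) × ↥(G : Set X) => (p.1 : X)) this
  have h2 := congrArg (fun p : ↥(V : Set X) × ↥(G : Set X) => (p.2 : X)) this
  exact ⟨h1, h2⟩

/-- every element is conjugate to a commuting product `c * g` -/
theorem normal_form {X : Type*} [Group X] [Finite X] (V : Subgroup X) [V.Normal]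
    (hab : ∀ a ∈ V, ∀ b ∈ V, a * b = b * a) (G : Subgroup X) (hGV : Subgroup.IsComplement' V G)
    (hcop : (Nat.card V).Coprime (Nat.card G)) (x : X) :
    ∃ c ∈ V, ∃ g ∈ G, g * c = c * g ∧ IsConj x (c * g) := by
  obtain ⟨v, hv, g, hg, rfl⟩ := compl_decomp V G hGV x
  have hgpow : g ^ Nat.card G = 1 := by
    have := pow_card_eq_one' (G := ↥G) (x := ⟨g, hg⟩)
    exact congrArg Subtype.val this
  obtain ⟨c, hc, z, hz, hfix, hvz⟩ := conj_fitting_exists V hab g (Nat.card G) hgpow hcop v hv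
  refine ⟨c, hc, g, hg, ?_, ?_⟩
  · calc g * c = g * c * g⁻¹ * g := by group
      _ = c * g := by rw [hfix]
  · refine isConj_iff.2 ⟨z⁻¹, ?_⟩
    have hzc : z⁻¹ * c = c * z⁻¹ := hab _ (V.inv_mem hz) _ hc
    rw [hvz]
    calc z⁻¹ * (c * (z * (g * z * g⁻¹)⁻¹) * g) * z⁻¹⁻¹
        = (z⁻¹ * c) * z * g := by group
      _ = c * g := by rw [hzc]; group

/-- two commuting products which are conjugate are conjugate componentwise under `G` -/
theorem normal_form_unique {X : Type*} [Group X] [Finite X] (V : Subgroup X) [V.Normal]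
    (hab : ∀ a ∈ V, ∀ b ∈ V, a * b = b * a) (G : Subgroup X) (hGV : Subgroup.IsComplement' V G)
    (hcop : (Nat.card V).Coprime (Nat.card G)) (u h u' h' : X) (hu : u ∈ V) (hh : h ∈ G)
    (hu' : u' ∈ V) (hh' : h' ∈ G) (hc : u * h = h * u) (hc' : u' * h' = h' * u')
    (hconj : IsConj (u * h) (u' * h')) :
    ∃ γ ∈ G, γ * u * γ⁻¹ = u' ∧ γ * h * γ⁻¹ = h' := by
  obtain ⟨x, hx⟩ := isConj_iff.1 hconj
  obtain ⟨v, hv, γ, hγ, rfl⟩ := compl_decomp V G hGV x
  -- w := γ⁻¹ v γ
  set w := γ⁻¹ * v * γ with hw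
  have hwV : w ∈ V := by
    have := (inferInstance : V.Normal).conj_mem v hv γ⁻¹
    simpa [hw] using this
  set y := w * (h * w * h⁻¹)⁻¹ with hy
  have hconjV : h * w * h⁻¹ ∈ V := (inferInstance : V.Normal).conj_mem w hwV h
  have hyV : y ∈ V := V.mul_mem hwV (V.inv_mem hconjV)
  have hwu : w * u = u * w := hab _ hwV _ hu
  have e1 : v * γ * (u * h) * (v * γ)⁻¹ = (γ * (u * y) * γ⁻¹) * (γ * h * γ⁻¹) := by
    have : v = γ * w * γ⁻¹ := by rw [hw]; group
    rw [this, hy]
    calc γ * w * γ⁻¹ * γ * (u * h) * (γ * w * γ⁻¹ * γ)⁻¹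
        = γ * ((w * u) * h * w⁻¹) * γ⁻¹ := by group
      _ = γ * ((u * w) * h * w⁻¹) * γ⁻¹ := by rw [hwu]
      _ = γ * (u * (w * (h * w * h⁻¹)⁻¹)) * γ⁻¹ * (γ * h * γ⁻¹) := by group
  rw [e1] at hx
  have huyV : γ * (u * y) * γ⁻¹ ∈ V :=
    (inferInstance : V.Normal).conj_mem _ (V.mul_mem hu hyV) γ
  have hhG : γ * h * γ⁻¹ ∈ G := G.mul_mem (G.mul_mem hγ hh) (G.inv_mem hγ)
  obtain ⟨h1, h2⟩ := compl_unique V G hGV huyV hu' hhG hh' hx
  -- now y commutes with h
  have hgpow : h ^ Nat.card G = 1 := by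
    have := pow_card_eq_one' (G := ↥G) (x := ⟨h, hh⟩)
    exact congrArg Subtype.val this
  have huyh : (u * y) * h = h * (u * y) := by
    have : (γ * (u * y) * γ⁻¹) * (γ * h * γ⁻¹) = (γ * h * γ⁻¹) * (γ * (u * y) * γ⁻¹) := by
      rw [h1, h2]; exact hc'
    have h3 : γ * ((u * y) * h) * γ⁻¹ = γ * (h * (u * y)) * γ⁻¹ := by
      calc γ * ((u * y) * h) * γ⁻¹ = (γ * (u * y) * γ⁻¹) * (γ * h * γ⁻¹) := by group
        _ = (γ * h * γ⁻¹) * (γ * (u * y) * γ⁻¹) := this
        _ = γ * (h * (u * y)) * γ⁻¹ := by group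
    exact mul_left_cancel (mul_right_cancel h3)
  have hyh : h * y * h⁻¹ = y := by
    have h4 : u * (y * h) = u * (h * y) := by
      calc u * (y * h) = (u * y) * h := by group
        _ = h * (u * y) := huyh
        _ = (h * u) * y := by group
        _ = (u * h) * y := by rw [hc]
        _ = u * (h * y) := by group
    have h5 : y * h = h * y := mul_left_cancel h4
    calc h * y * h⁻¹ = (h * y) * h⁻¹ := by group
      _ = (y * h) * h⁻¹ := by rw [h5]
      _ = y := by group
  have hy1 : y = 1 := conj_fitting_unique V hab h (Nat.card G) hgpow hcop y w hyV hwV hy hyh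
  refine ⟨γ, hγ, ?_, h2⟩
  rw [← h1, hy1, mul_one]

/-- the map from pairs (representative, class of its centralizer in `G`) to classes of `X` -/
noncomputable def Phi {X : Type*} [Group X] (G : Subgroup X) (S : Finset X) :
    (Σ s : {s // s ∈ S}, ConjClasses ↥(G ⊓ Subgroup.centralizer ({s.1} : Set X))) →
      ConjClasses X :=
  fun p => Quotient.liftOn p.2 (fun h => ConjClasses.mk (p.1.1 * h.1)) (by
    intro a b hab
    apply ConjClasses.mk_eq_mk_iff_isConj.2
    obtain ⟨c, hc⟩ := isConj_iff.1 hab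
    refine isConj_iff.2 ⟨c.1, ?_⟩
    have hcs : p.1.1 * c.1 = c.1 * p.1.1 :=
      Subgroup.mem_centralizer_iff.1 c.2.2 p.1.1 (Set.mem_singleton _)
    have hb : c.1 * a.1 * c.1⁻¹ = b.1 := by
      have := congrArg Subtype.val hc
      simpa using this
    calc c.1 * (p.1.1 * a.1) * c.1⁻¹ = (c.1 * p.1.1) * a.1 * c.1⁻¹ := by group
      _ = (p.1.1 * c.1) * a.1 * c.1⁻¹ := by rw [hcs]
      _ = p.1.1 * (c.1 * a.1 * c.1⁻¹) := by group
      _ = p.1.1 * b.1 := by rw [hb])

theorem Phi_mk {X : Type*} [Group X] (G : Subgroup X) (S : Finset X) (s : {s // s ∈ S})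
    (h : ↥(G ⊓ Subgroup.centralizer ({s.1} : Set X))) :
    Phi G S ⟨s, ConjClasses.mk h⟩ = ConjClasses.mk (s.1 * h.1) := rfl

/-- Let X be a finite group, V an abelian normal subgroup of X (any two elements of V commute) and G a complement to V in X whose order is coprime to that of V. Let S be a set of representatives of the orbits of G on V under conjugation: S lies in V and every element of V is conjugate under G to exactly one member of S. Then the number of conjugacy classes of X equals the sum, over s in S, of the number of conjugacy classes of the centralizer of s in G. -/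
theorem result {X : Type*} [Group X] [Finite X] (V : Subgroup X) [V.Normal] (hab : ∀ a ∈ V, ∀ b ∈ V, a * b = b * a) (G : Subgroup X) (hGV : Subgroup.IsComplement' V G) (hcop : (Nat.card V).Coprime (Nat.card G)) (S : Finset X) (hSV : ∀ s ∈ S, s ∈ V) (hrep : ∀ v ∈ V, ∃! s, s ∈ S ∧ ∃ g ∈ G, g * v * g⁻¹ = s) : Nat.card (ConjClasses X) = ∑ s ∈ S, Nat.card (ConjClasses ↥(G ⊓ Subgroup.centralizer ({s} : Set X))) := by
  classical
  have hbij : Function.Bijective (Phi G S) := by
    constructor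
    · -- injective
      rintro ⟨s, c⟩ ⟨s', c'⟩ heq
      induction c using Quotient.inductionOn with
      | _ h =>
      induction c' using Quotient.inductionOn with
      | _ h' =>
      have heq' : ConjClasses.mk (s.1 * h.1) = ConjClasses.mk (s'.1 * h'.1) := heq
      have hconj := ConjClasses.mk_eq_mk_iff_isConj.1 heq'
      have hsh : s.1 * h.1 = h.1 * s.1 :=
        Subgroup.mem_centralizer_iff.1 h.2.2 s.1 (Set.mem_singleton _)
      have hsh' : s'.1 * h'.1 = h'.1 * s'.1 :=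
        Subgroup.mem_centralizer_iff.1 h'.2.2 s'.1 (Set.mem_singleton _)
      obtain ⟨γ, hγ, h1, h2⟩ := normal_form_unique V hab G hGV hcop s.1 h.1 s'.1 h'.1
        (hSV _ s.2) h.2.1 (hSV _ s'.2) h'.2.1 hsh hsh' hconj
      -- s = s'
      obtain ⟨t, -, htuniq⟩ := hrep s.1 (hSV _ s.2)
      have e1 : s.1 = t := htuniq s.1 ⟨s.2, 1, G.one_mem, by group⟩
      have e2 : s'.1 = t := htuniq s'.1 ⟨s'.2, γ, hγ, h1⟩
      have hss : s = s' := Subtype.ext (e1.trans e2.symm)
      subst hss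
      congr 1
      apply Quotient.sound
      refine isConj_iff.2 ⟨⟨γ, hγ, ?_⟩, ?_⟩
      · refine Subgroup.mem_centralizer_iff.2 ?_
        intro z hz
        rw [Set.mem_singleton_iff] at hz
        subst hz
        calc s.1 * γ = γ * s.1 * γ⁻¹ * γ := by rw [h1]
          _ = γ * s.1 := by group
      · apply Subtype.ext
        simpa using h2
    · -- surjective
      intro c
      induction c using Quotient.inductionOn with
      | _ x =>
      obtain ⟨c, hc, g, hg, hgc, hconj⟩ := normal_form V hab G hGV hcop x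
      obtain ⟨s, ⟨hsS, γ, hγ, hγc⟩, -⟩ := hrep c hc
      have hmem : γ * g * γ⁻¹ ∈ G ⊓ Subgroup.centralizer ({s} : Set X) := by
        refine ⟨G.mul_mem (G.mul_mem hγ hg) (G.inv_mem hγ), ?_⟩
        refine Subgroup.mem_centralizer_iff.2 ?_
        intro z hz
        rw [Set.mem_singleton_iff] at hz
        subst hz
        rw [← hγc]
        calc γ * c * γ⁻¹ * (γ * g * γ⁻¹) = γ * (c * g) * γ⁻¹ := by group
          _ = γ * (g * c) * γ⁻¹ := by rw [hgc]
          _ = γ * g * γ⁻¹ * (γ * c * γ⁻¹) := by group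
      refine ⟨⟨⟨s, hsS⟩, ConjClasses.mk ⟨γ * g * γ⁻¹, hmem⟩⟩, ?_⟩
      rw [Phi_mk]
      apply ConjClasses.mk_eq_mk_iff_isConj.2
      refine IsConj.trans ?_ hconj.symm
      refine isConj_iff.2 ⟨γ⁻¹, ?_⟩
      simp only
      rw [← hγc]
      group
  rw [← Nat.card_congr (Equiv.ofBijective _ hbij), Nat.card_sigma]
  exact Finset.sum_coe_sort S
    (fun s => Nat.card (ConjClasses ↥(G ⊓ Subgroup.centralizer ({s} : Set X))))

end Cfsg.Agent.S4956
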