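import Cfsg.Statements.S4958
import Cfsg.Agent.Lib.helper84.KgvGauss
import Cfsg.Agent.Lib.helper84.KgvCore
import Cfsg.Agent.Lib.helper76.KazCore
import Cfsg.Agent.Lib.helper79.SubsectionHt
import Cfsg.Agent.Lib.helper79.PPartCong
import Cfsg.Agent.Lib.helper82.Ito
import Cfsg.Agent.Lib.helper4.DefectZero

set_option autoImplicit false
open Cfsg

namespace Cfsg.Agent.S4958

/-- Let X be a finite group and V a normal subgroup of X in which every element has order dividing the prime p, whose index in X is prime to p and which is its own centralizer in X; so V is an elementary abelian normal Sylow p-subgroup, and any complement G to V in X is a group of order prime to p acting faithfully on the vector space V by conjugation (the coprime linear setting of the k(GV) problem). Let G be a complement to V in X and suppose that for some v in V the centralizer of v in G is abelian. Then the number of conjugacy classes of X is at most the order of V (the abelian-stabilizer criterion for the k(GV) problem). -/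
theorem result {X : Type*} [Group X] [Finite X] (p : ℕ) [Fact p.Prime] (V : Subgroup X) [V.Normal] (hVexp : ∀ v ∈ V, v ^ p = 1) (hidx : ¬ p ∣ V.index) (hself : Subgroup.centralizer (V : Set X) = V) (G : Subgroup X) (hGV : Subgroup.IsComplement' V G) (v : X) (hv : v ∈ V) (hab : ∀ a ∈ G ⊓ Subgroup.centralizer ({v} : Set X), ∀ b ∈ G ⊓ Subgroup.centralizer ({v} : Set X), a * b = b * a) : Nat.card (ConjClasses X) ≤ Nat.card V := by
  classical
  have hp := (Fact.out : p.Prime)
  haveI : Fintype ↥(G ⊓ Subgroup.centralizer ({v} : Set X)) := Fintype.ofFinite _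
  have hVab : ∀ a ∈ V, ∀ b ∈ V, a * b = b * a := by
    intro a ha b hb
    have h1 : a ∈ Subgroup.centralizer (V : Set X) := by rw [hself]; exact ha
    rw [Subgroup.mem_centralizer_iff] at h1
    exact (h1 b hb).symm
  have hCv : ∀ c ∈ G ⊓ Subgroup.centralizer ({v} : Set X), c * v = v * c := by
    intro c hc
    have h1 : c ∈ Subgroup.centralizer ({v} : Set X) := (Subgroup.mem_inf.mp hc).2
    rw [Subgroup.mem_centralizer_iff] at h1
    exact (h1 v rfl).symm
  have hVv : ∀ u ∈ V, u * v = v * u := fun u hu => hVab u hu v hv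
  have hVG : ∀ x, x ∈ V → x ∈ G → x = 1 := by
    intro x hxV hxG
    exact Subgroup.disjoint_def.mp hGV.disjoint hxV hxG
  have hVC : ∀ x, x ∈ V → x ∈ G ⊓ Subgroup.centralizer ({v} : Set X) → x = 1 :=
    fun x hxV hxC => hVG x hxV (Subgroup.mem_inf.mp hxC).1
  have hcent : ∀ g : X, g * v = v * g →
      ∃ u ∈ V, ∃ d ∈ G ⊓ Subgroup.centralizer ({v} : Set X), g = u * d := by
    intro g hg
    obtain ⟨⟨⟨u, hu⟩, ⟨d, hd⟩⟩, hud⟩ := hGV.2 g
    have hud' : u * d = g := hud
    subst hud'
    refine ⟨u, hu, d, Subgroup.mem_inf.mpr ⟨hd, ?_⟩, rfl⟩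
    rw [Subgroup.mem_centralizer_iff]
    intro y hy
    rw [Set.mem_singleton_iff] at hy
    subst hy
    have h1 : u * y = y * u := hVv u hu
    have h2 : u * (d * y) = u * (y * d) := by
      calc u * (d * y) = u * d * y := by group
        _ = y * (u * d) := hg
        _ = (y * u) * d := by group
        _ = (u * y) * d := by rw [h1]
        _ = u * (y * d) := by group
    exact (mul_left_cancel h2).symm
  have hcardG : V.index = Nat.card G := hGV.symm.index_eq_card
  have hcop : (Nat.card ↥(G ⊓ Subgroup.centralizer ({v} : Set X))).Coprime p := by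
    apply Nat.Coprime.symm
    rw [Nat.Prime.coprime_iff_not_dvd hp]
    intro h
    apply hidx
    rw [hcardG]
    exact h.trans (Subgroup.card_dvd_of_le inf_le_left)
  obtain ⟨ι, hι, P, μ, ha, hb, hc⟩ :=
    Cfsg.Agent.Lib.helper84.hasTheta_of_coprime p _ (Complex.isPrimitiveRoot_exp p hp.ne_zero)
      (C := ↥(G ⊓ Subgroup.centralizer ({v} : Set X))) (W := ↥V)
      (fun a b => Subtype.ext (hab a.1 a.2 b.1 b.2)) hcop
      (fun a b => Subtype.ext (hVab a.1 a.2 b.1 b.2)) (fun w => Subtype.ext (hVexp w.1 w.2))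
      ((MulAut.conjNormal (H := V)).comp (G ⊓ Subgroup.centralizer ({v} : Set X)).subtype)
  have hfix : ∀ (c : ↥(G ⊓ Subgroup.centralizer ({v} : Set X))) (w : ↥V),
      ((MulAut.conjNormal (H := V)).comp (G ⊓ Subgroup.centralizer ({v} : Set X)).subtype) c w
        = w ↔ (c : X) * (w : X) = (w : X) * (c : X) := by
    intro c w
    rw [Subtype.ext_iff]
    show (c : X) * (w : X) * (c : X)⁻¹ = (w : X) ↔ _
    exact mul_inv_eq_iff_eq_mul
  refine Cfsg.Agent.Lib.helper84.kgv_core p V (G ⊓ Subgroup.centralizer ({v} : Set X)) v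
    (hVexp v hv) hab hCv hVv hcent hVC hcop _ (Complex.isPrimitiveRoot_exp p hp.ne_zero) P μ
    ?_ ?_
  · intro j hj c
    rw [← ha j hj c]
    congr 2
    exact Nat.card_congr (Equiv.subtypeEquivRight (fun w => (hfix c w).symm))
  · intro χ hzero
    obtain ⟨M, hM⟩ := Cfsg.Agent.Lib.helper76.exists_isPModular p hp
    have hMp := Cfsg.Agent.Lib.helper20.isPrime_of_isPModular hM
    have hχ := Cfsg.Agent.Lib.helper20.isCharacter_of_isIrrCharacter χ.2
    obtain ⟨d, hd1, hd2⟩ := Cfsg.Agent.Lib.helper82.ito_char V hVab χ.2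
    have hpd : ¬ p ∣ d := fun h => hidx (h.trans hd2)
    have hfaith : ∀ c : ↥(G ⊓ Subgroup.centralizer ({v} : Set X)), c ≠ 1 →
        ∃ w : ↥V, ((MulAut.conjNormal (H := V)).comp
          (G ⊓ Subgroup.centralizer ({v} : Set X)).subtype) c w ≠ w := by
      intro c hc1
      by_contra hcon
      apply hc1
      have hall : ∀ w : ↥V, (c : X) * (w : X) = (w : X) * (c : X) := by
        intro w
        rw [← hfix c w]
        by_contra hne
        exact hcon ⟨w, hne⟩
      have hcV : (c : X) ∈ Subgroup.centralizer (V : Set X) := by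
        rw [Subgroup.mem_centralizer_iff]
        intro y hy
        exact (hall ⟨y, hy⟩).symm
      rw [hself] at hcV
      exact Subtype.ext (hVC _ hcV c.2)
    have hsplit := Finset.add_sum_erase Finset.univ
      (fun c : ↥(G ⊓ Subgroup.centralizer ({v} : Set X)) =>
        (χ : X → ℂ) (v * (c : X)) * Cfsg.Agent.Lib.helper84.thetaVal
          (Complex.exp (2 * Real.pi * Complex.I / p)) P μ c)
      (Finset.mem_univ (1 : ↥(G ⊓ Subgroup.centralizer ({v} : Set X))))
    rw [hzero] at hsplit
    have hθ1 := hb 1 (fun w => by rw [map_one, MulAut.one_apply])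
    rw [hθ1, mul_one] at hsplit
    have h1 : MemLocalIdeal M ((χ : X → ℂ) (v * ((1 : ↥(G ⊓ Subgroup.centralizer ({v} : Set X))) : X))
        - (χ : X → ℂ) 1) := by
      have := Cfsg.Agent.Lib.helper79.memLocalIdeal_char_mul_sub hM hχ v 1 (Commute.one_right v) 1
        (by rw [pow_one]; exact hVexp v hv)
      simpa using this
    have h2 : MemLocalIdeal M (∑ c ∈ Finset.univ.erase
        (1 : ↥(G ⊓ Subgroup.centralizer ({v} : Set X))),
        (χ : X → ℂ) (v * (c : X)) * Cfsg.Agent.Lib.helper84.thetaVal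
          (Complex.exp (2 * Real.pi * Complex.I / p)) P μ c) := by
      apply Cfsg.Agent.Lib.helper20.memLocalIdeal_sum hMp
      intro c hc'
      have hc1 : c ≠ 1 := (Finset.mem_erase.mp hc').1
      exact Cfsg.Agent.Lib.helper20.memLocalIdeal_mul_left hMp
        (Cfsg.Agent.Lib.helper79.memLocalRing_of_isIntegral hMp
          (Cfsg.Agent.Lib.helper4.isIntegral_of_isCharacter hχ _))
        (hc M hM c (hfaith c hc1))
    have h3 : MemLocalIdeal M ((χ : X → ℂ) 1) := by
      have h4 := Cfsg.Agent.Lib.helper20.memLocalIdeal_sub hMp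
        (Cfsg.Agent.Lib.helper20.memLocalIdeal_add hMp h1 h2)
        (Cfsg.Agent.Lib.helper20.memLocalIdeal_zero hMp)
      have h5 : (χ : X → ℂ) 1 = -(((χ : X → ℂ)
          (v * ((1 : ↥(G ⊓ Subgroup.centralizer ({v} : Set X))) : X)) - (χ : X → ℂ) 1 +
          ∑ c ∈ Finset.univ.erase (1 : ↥(G ⊓ Subgroup.centralizer ({v} : Set X))),
            (χ : X → ℂ) (v * (c : X)) * Cfsg.Agent.Lib.helper84.thetaVal
              (Complex.exp (2 * Real.pi * Complex.I / p)) P μ c) - 0) := by
        have h6 : ∀ a b s : ℂ, a + s = 0 → b = -((a - b + s) - 0) := by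
          intro a b s h
          linear_combination h
        exact h6 _ _ _ hsplit
      rw [h5]
      exact Cfsg.Agent.Lib.helper20.memLocalIdeal_neg h4
    rw [hd1] at h3
    exact Cfsg.Agent.Lib.helper79.not_memLocalIdeal_natCast hM hpd h3

end Cfsg.Agent.S4958
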