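import Mathlib
import Cfsg.Statements.S4964
import Cfsg.Agent.Lib.helper20.QuotBlock
import Cfsg.Agent.Lib.helper20.NilCentral
import Cfsg.Agent.Lib.helper84.BlockOrth
import Cfsg.Agent.Lib.helper81.PrincipalQuot
import Cfsg.Agent.Lib.helper82.CharQuot

set_option autoImplicit false
open Cfsg

namespace Cfsg.Agent.S4964

open Cfsg.Agent.Lib

/-- Let D be a normal p-subgroup of the finite group G, let D′ be its commutator subgroup (normal in G), and fix a maximal ideal M of the algebraic integers containing p. Then (i) two irreducible characters of G ⧸ D′ lie in the same p-block if and only if their inflations to G do, and (ii) every p-block of G contains the inflation of some irreducible character of G ⧸ D′; so inflation induces a bijection between the p-blocks of G ⧸ D′ and the p-blocks of G. -/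
theorem result {G : Type*} [Group G] [Finite G] (p : ℕ) [Fact p.Prime] (M : Ideal Cfsg.AlgInt) (hM : Cfsg.IsPModular p M) (D : Subgroup G) [D.Normal] (hD : IsPGroup p D) : (∀ χ ψ : Cfsg.IrrCharacter (G ⧸ ⁅D, D⁆), Cfsg.SameBlock M (χ : G ⧸ ⁅D, D⁆ → ℂ) (ψ : G ⧸ ⁅D, D⁆ → ℂ) ↔ Cfsg.SameBlock M ((χ : G ⧸ ⁅D, D⁆ → ℂ) ∘ QuotientGroup.mk) ((ψ : G ⧸ ⁅D, D⁆ → ℂ) ∘ QuotientGroup.mk)) ∧ ∀ B : Set (Cfsg.IrrCharacter G), Cfsg.IsPBlock M B → ∃ χ : Cfsg.IrrCharacter (G ⧸ ⁅D, D⁆), ∃ θ ∈ B, (θ : G → ℂ) = (χ : G ⧸ ⁅D, D⁆ → ℂ) ∘ QuotientGroup.mk := by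
  classical
  haveI : Fintype G := Fintype.ofFinite G
  haveI : Fintype (G ⧸ ⁅D, D⁆) := Fintype.ofFinite _
  have hMp := helper20.isPrime_of_isPModular hM
  have hp : p.Prime := Fact.out
  have hD' : IsPGroup p (⁅D, D⁆ : Subgroup G) := hD.to_le (Subgroup.commutator_le_left D D)
  refine ⟨fun χ ψ => ⟨fun h => helper81.sameBlock_inflation hMp ⁅D, D⁆ h, fun h => ?_⟩,
    fun B hB => ?_⟩
  · apply helper84.sameBlock_of_pRegular hM χ ψ
    intro q hq
    haveI hDbarN : (D.map (QuotientGroup.mk' ⁅D, D⁆)).Normal :=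
      Subgroup.Normal.map inferInstance _ (QuotientGroup.mk'_surjective _)
    have hDbarp : IsPGroup p (D.map (QuotientGroup.mk' ⁅D, D⁆)) := hD.map _
    by_cases hc : q ∈ Subgroup.centralizer
        ((D.map (QuotientGroup.mk' ⁅D, D⁆) : Subgroup (G ⧸ ⁅D, D⁆)) : Set (G ⧸ ⁅D, D⁆))
    · obtain ⟨g0, rfl⟩ := QuotientGroup.mk_surjective q
      obtain ⟨g, hgq, hgcop⟩ := helper27.exists_coprime_lift (QuotientGroup.mk' ⁅D, D⁆) p g0
        (((Nat.Prime.coprime_iff_not_dvd hp).2 hq).symm)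
      have hgq' : (QuotientGroup.mk g0 : G ⧸ ⁅D, D⁆) = QuotientGroup.mk g := hgq.symm
      rw [hgq'] at hc ⊢
      have hgD : ∀ d ∈ D, g * d = d * g := by
        apply helper20.centralizes_of_coprime_of_commutator_mem D hD g hgcop
        intro d hd
        rw [← QuotientGroup.eq_one_iff]
        have hcomm : (QuotientGroup.mk d : G ⧸ ⁅D, D⁆) * QuotientGroup.mk g =
            QuotientGroup.mk g * QuotientGroup.mk d :=
          Subgroup.mem_centralizer_iff.1 hc (QuotientGroup.mk d) ⟨d, hd, rfl⟩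
        rw [QuotientGroup.mk_mul, QuotientGroup.mk_mul, QuotientGroup.mk_mul,
          QuotientGroup.mk_inv, QuotientGroup.mk_inv, ← hcomm]
        group
      have hidx := helper20.index_centralizer_quotient_eq ⁅D, D⁆ hD' g hgcop
        (fun n hn => hgD n (Subgroup.commutator_le_left D D hn))
      have h1 := h g
      unfold centralChar at h1 ⊢
      rw [hidx]
      simpa using h1
    · exact helper20.memLocalIdeal_sub hMp
        (helper20.memLocalIdeal_centralChar_of_not_mem_centralizer hM _ hDbarp _ χ.2 q hc)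
        (helper20.memLocalIdeal_centralChar_of_not_mem_centralizer hM _ hDbarp _ ψ.2 q hc)
  · obtain ⟨θ, hθB, hθ⟩ := helper20.exists_mem_block_trivial_on hM hB ⁅D, D⁆ hD'
    obtain ⟨ψ, hψ, hψθ⟩ := helper82.isIrrCharacter_deflation ⁅D, D⁆ θ.2 hθ
    exact ⟨⟨ψ, hψ⟩, θ, hθB, funext (fun g => (hψθ g).symm)⟩

end Cfsg.Agent.S4964
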