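import Cfsg.Statements.S4965
import Mathlib.GroupTheory.GroupAction.CardCommute
import Mathlib.Tactic.Group

set_option autoImplicit false
open Cfsg

namespace Cfsg.Agent.S4965

open Classical in
/-- A total "projection" of `X` to the subgroup `V` (identity outside `V`). -/
noncomputable def toV {X : Type*} [Group X] (V : Subgroup X) (z : X) : ↥V :=
  if h : z ∈ V then ⟨z, h⟩ else 1

theorem toV_coe {X : Type*} [Group X] (V : Subgroup X) {z : X} (h : z ∈ V) :
    ((toV V z : ↥V) : X) = z := by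
  simp [toV, h]

open Classical in
/-- A chosen commuting pair over a pair of cosets, when one exists. -/
noncomputable def base {X : Type*} [Group X] (V : Subgroup X) [V.Normal]
    (hk : (X ⧸ V) × (X ⧸ V)) : X × X :=
  if h : ∃ q : X × X, Commute q.1 q.2 ∧ (QuotientGroup.mk q.1 : X ⧸ V) = hk.1 ∧
      (QuotientGroup.mk q.2 : X ⧸ V) = hk.2 then h.choose else (1, 1)

theorem base_spec {X : Type*} [Group X] (V : Subgroup X) [V.Normal] (p : X × X)
    (hp : Commute p.1 p.2) :
    Commute (base V (QuotientGroup.mk p.1, QuotientGroup.mk p.2)).1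
        (base V (QuotientGroup.mk p.1, QuotientGroup.mk p.2)).2 ∧
      (QuotientGroup.mk (base V (QuotientGroup.mk p.1, QuotientGroup.mk p.2)).1 : X ⧸ V) =
        QuotientGroup.mk p.1 ∧
      (QuotientGroup.mk (base V (QuotientGroup.mk p.1, QuotientGroup.mk p.2)).2 : X ⧸ V) =
        QuotientGroup.mk p.2 := by
  have h : ∃ q : X × X, Commute q.1 q.2 ∧
      (QuotientGroup.mk q.1 : X ⧸ V) = ((QuotientGroup.mk p.1, QuotientGroup.mk p.2) : (X ⧸ V) × (X ⧸ V)).1 ∧
      (QuotientGroup.mk q.2 : X ⧸ V) = ((QuotientGroup.mk p.1, QuotientGroup.mk p.2) : (X ⧸ V) × (X ⧸ V)).2 :=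
    ⟨p, hp, rfl, rfl⟩
  unfold base
  rw [dif_pos h]
  exact h.choose_spec

/-- The map on commuting pairs. -/
noncomputable def fmap {X : Type*} [Group X] (V : Subgroup X) [V.Normal]
    (φ : X ⧸ V →* MulAut ↥V) (p : X × X) :
    SemidirectProduct ↥V (X ⧸ V) φ × SemidirectProduct ↥V (X ⧸ V) φ :=
  (⟨toV V (p.1 * (base V (QuotientGroup.mk p.1, QuotientGroup.mk p.2)).1⁻¹), QuotientGroup.mk p.1⟩,
   ⟨toV V (p.2 * (base V (QuotientGroup.mk p.1, QuotientGroup.mk p.2)).2⁻¹), QuotientGroup.mk p.2⟩)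

theorem mem_of_mk_eq {X : Type*} [Group X] (V : Subgroup X) [V.Normal] {x y : X}
    (h : (QuotientGroup.mk y : X ⧸ V) = QuotientGroup.mk x) : x * y⁻¹ ∈ V := by
  have h2 : (QuotientGroup.mk (x * y⁻¹) : X ⧸ V) = 1 := by
    rw [QuotientGroup.mk_mul, QuotientGroup.mk_inv, h, mul_inv_cancel]
  exact (QuotientGroup.eq_one_iff _).1 h2

theorem fmap_commute {X : Type*} [Group X] (V : Subgroup X) [V.Normal]
    (φ : X ⧸ V →* MulAut ↥V)
    (hφ : ∀ (x : X) (v : ↥V), ((φ (QuotientGroup.mk x) v : ↥V) : X) = x * v * x⁻¹)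
    (p : X × X) (hp : Commute p.1 p.2) :
    Commute (fmap V φ p).1 (fmap V φ p).2 := by
  obtain ⟨hc, h1, h2⟩ := base_spec V p hp
  set x0 := (base V (QuotientGroup.mk p.1, QuotientGroup.mk p.2)).1 with hx0
  set y0 := (base V (QuotientGroup.mk p.1, QuotientGroup.mk p.2)).2 with hy0
  have hv : p.1 * x0⁻¹ ∈ V := mem_of_mk_eq V h1
  have hw : p.2 * y0⁻¹ ∈ V := mem_of_mk_eq V h2
  unfold Commute SemiconjBy
  ext
  · -- left components
    simp only [fmap, SemidirectProduct.mul_left]
    rw [← hx0, ← hy0]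
    simp only [Subgroup.coe_mul]
    rw [← h1, ← h2, hφ, hφ, toV_coe V hv, toV_coe V hw]
    -- goal: v * (x0 * w * x0⁻¹) = w * (y0 * v * y0⁻¹)
    have hxy : p.1 * p.2 = p.2 * p.1 := hp
    have e1 : p.1 * x0⁻¹ * (x0 * (p.2 * y0⁻¹) * x0⁻¹) = p.1 * p.2 * (x0 * y0)⁻¹ := by
      group
    have e2 : p.2 * y0⁻¹ * (y0 * (p.1 * x0⁻¹) * y0⁻¹) = p.2 * p.1 * (y0 * x0)⁻¹ := by
      group
    rw [e1, e2, hxy, hc.eq]
  · simp only [fmap, SemidirectProduct.mul_right]
    rw [← QuotientGroup.mk_mul, ← QuotientGroup.mk_mul, hp.eq]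

theorem fmap_injOn {X : Type*} [Group X] (V : Subgroup X) [V.Normal]
    (φ : X ⧸ V →* MulAut ↥V)
    (p q : X × X) (hp : Commute p.1 p.2) (hq : Commute q.1 q.2)
    (h : fmap V φ p = fmap V φ q) : p = q := by
  have h1 : (fmap V φ p).1.right = (fmap V φ q).1.right := by rw [h]
  have h2 : (fmap V φ p).2.right = (fmap V φ q).2.right := by rw [h]
  have h3 : (fmap V φ p).1.left = (fmap V φ q).1.left := by rw [h]
  have h4 : (fmap V φ p).2.left = (fmap V φ q).2.left := by rw [h]
  simp only [fmap] at h1 h2 h3 h4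
  obtain ⟨-, hp1, hp2⟩ := base_spec V p hp
  obtain ⟨-, hq1, hq2⟩ := base_spec V q hq
  rw [← h1, ← h2] at hq1 hq2 h3 h4
  have hv := congrArg (Subtype.val) h3
  have hw := congrArg (Subtype.val) h4
  rw [toV_coe V (mem_of_mk_eq V hp1), toV_coe V (mem_of_mk_eq V (hq1.trans h1))] at hv
  rw [toV_coe V (mem_of_mk_eq V hp2), toV_coe V (mem_of_mk_eq V (hq2.trans h2))] at hw
  exact Prod.ext (mul_right_cancel hv) (mul_right_cancel hw)

/-- Let X be a finite group with an abelian normal subgroup V (any two elements of V commute), and let φ be the action of X ⧸ V on V induced by conjugation (well defined because V is abelian; the hypothesis hφ says that the class of x acts as conjugation by x). Then X has at most as many conjugacy classes as the semidirect product of V by X ⧸ V formed with this action: the split extension has the largest class number among extensions with the given action. -/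
theorem result {X : Type*} [Group X] [Finite X] (V : Subgroup X) [V.Normal] (hab : ∀ a ∈ V, ∀ b ∈ V, a * b = b * a) (φ : X ⧸ V →* MulAut ↥V) (hφ : ∀ (x : X) (v : ↥V), ((φ (QuotientGroup.mk x) v : ↥V) : X) = x * v * x⁻¹) : Nat.card (ConjClasses X) ≤ Nat.card (ConjClasses (SemidirectProduct ↥V (X ⧸ V) φ)) := by
  have hcardS : Nat.card (SemidirectProduct ↥V (X ⧸ V) φ) = Nat.card X := by
    rw [SemidirectProduct.card, Subgroup.card_eq_card_quotient_mul_card_subgroup V, mul_comm]
  have : Finite (SemidirectProduct ↥V (X ⧸ V) φ) :=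
    Nat.finite_of_card_ne_zero (by rw [hcardS]; exact Nat.card_pos.ne')
  have hinj : Nat.card {p : X × X // Commute p.1 p.2} ≤
      Nat.card {p : SemidirectProduct ↥V (X ⧸ V) φ × SemidirectProduct ↥V (X ⧸ V) φ //
        Commute p.1 p.2} := by
    apply Nat.card_le_card_of_injective
      (fun p : {p : X × X // Commute p.1 p.2} =>
        (⟨fmap V φ p.1, fmap_commute V φ hφ p.1 p.2⟩ :
          {p : SemidirectProduct ↥V (X ⧸ V) φ × SemidirectProduct ↥V (X ⧸ V) φ //
            Commute p.1 p.2}))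
    intro p q h
    apply Subtype.ext
    exact fmap_injOn V φ p.1 q.1 p.2 q.2 (congrArg Subtype.val h)
  rw [card_comm_eq_card_conjClasses_mul_card, card_comm_eq_card_conjClasses_mul_card, hcardS] at hinj
  exact Nat.le_of_mul_le_mul_right hinj Nat.card_pos

end Cfsg.Agent.S4965
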