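import Cfsg.Statements.S4967
import Cfsg.Agent.Lib.helper77.IrredComm

set_option autoImplicit false
open Cfsg

namespace Cfsg.Agent.S4967

universe u v w

/-- The field `E = F[ρ(H)]`, with a generator `x` of the image of `H`. -/
theorem core {F : Type u} [Field F] [Fintype F]
    {H : Type w} [CommGroup H] [Finite H]
    {V : Type v} [AddCommGroup V] [Module F V] [FiniteDimensional F V] [Nontrivial V]
    (ρ : Representation F H V) (hfaith : Function.Injective ρ)
    (hirr : ∀ U : Submodule F V, (∀ h : H, ∀ u ∈ U, ρ h u ∈ U) → U = ⊥ ∨ U = ⊤) :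
    ∃ (E : Type v) (_ : Field E) (_ : Algebra F E) (_ : Finite E) (ι : E →ₐ[F] Module.End F V)
      (φ : E ≃ₗ[F] V) (x : E) (g : H),
      (∀ e f, φ (e * f) = ι e (φ f)) ∧ orderOf x = Nat.card H ∧
      (∀ h : H, ∃ k : ℕ, ρ h = ι (x ^ k)) ∧
      (∀ K : Subalgebra F E, x ∈ K → K = ⊤) ∧ ι x = ρ g := by
  obtain ⟨E, instE, instA, ι, φ, hrange, hadj, hφ⟩ :=
    Cfsg.Agent.Lib.helper77.exists_field_of_comm_irreducible (Set.range ρ) (by
      rintro _ ⟨a, rfl⟩ _ ⟨b, rfl⟩
      rw [← map_mul, ← map_mul, mul_comm]) (by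
      intro U hU
      exact hirr U (fun h u hu => hU (ρ h) ⟨h, rfl⟩ u hu))
  have hVfin : Finite V := Module.finite_of_finite F
  have hEfin : Finite E := Finite.of_equiv V φ.symm.toEquiv
  have hιinj : Function.Injective ι := (ι : E →+* Module.End F V).injective
  choose ψ hψ using fun h : H => hrange (ρ h) ⟨h, rfl⟩
  let Ψ : H →* E :=
    { toFun := ψ
      map_one' := hιinj (by rw [hψ, map_one, map_one])
      map_mul' := fun a b => hιinj (by rw [hψ, map_mul, map_mul, hψ, hψ]) }
  have hΨ : ∀ h, ι (Ψ h) = ρ h := hψ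
  have hΨinj : Function.Injective Ψ := fun a b hab =>
    hfaith (by rw [← hΨ a, ← hΨ b]; exact congrArg ι hab)
  have hcyc : IsCyclic H := isCyclic_of_injective_ringHom Ψ hΨinj
  obtain ⟨g, hg⟩ := hcyc.exists_generator
  have hpow : ∀ h : H, ∃ k : ℕ, g ^ k = h := by
    intro h
    obtain ⟨k, hk⟩ := (mem_powers_iff_mem_zpowers).mpr (hg h)
    exact ⟨k, hk⟩
  refine ⟨E, instE, instA, hEfin, ι, φ, Ψ g, g, hφ, ?_, ?_, ?_, ?_⟩
  · rw [orderOf_injective Ψ hΨinj g]
    exact orderOf_eq_card_of_forall_mem_zpowers hg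
  · intro h
    obtain ⟨k, hk⟩ := hpow h
    refine ⟨k, ?_⟩
    rw [← map_pow, hk, hΨ]
  · intro K hxK
    rw [eq_top_iff]
    intro e _
    have h1 : Algebra.adjoin F (Set.range ρ) ≤ K.map ι := by
      apply Algebra.adjoin_le
      rintro _ ⟨h, rfl⟩
      obtain ⟨k, hk⟩ := hpow h
      refine ⟨Ψ g ^ k, K.pow_mem hxK k, ?_⟩
      rw [← hk]
      change ι (Ψ g ^ k) = ρ (g ^ k)
      rw [← map_pow, hΨ]
    obtain ⟨e', he', hee⟩ := h1 (hadj e)
    have h2 : e' = e := hιinj hee
    rwa [← h2]
  · exact hΨ g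

/-- If `x⁻¹` is a conjugate of `x` over `F`, then `x⁻¹` is a Frobenius power of `x`. -/
theorem frob_lemma {F : Type u} [Field F] [Fintype F] {E : Type v} [Field E] [Finite E]
    [Algebra F E] (x : E) (hx0 : x ≠ 0) (hgen : ∀ K : Subalgebra F E, x ∈ K → K = ⊤)
    (hroot : Polynomial.aeval x⁻¹ (minpoly F x) = 0) :
    ∃ j : ℕ, j < Module.finrank F E ∧ x ^ (Fintype.card F ^ j + 1) = 1 ∧
      (j = 0 ∨ 2 * j = Module.finrank F E) := by
  have halg : IsAlgebraic F x := Algebra.IsAlgebraic.isAlgebraic x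
  obtain ⟨σ, hσ⟩ := minpoly.exists_algEquiv_of_root' halg hroot
  obtain ⟨⟨j, hj⟩, hjσ⟩ := (FiniteField.bijective_frobeniusAlgEquivOfAlgebraic_pow F E).2 σ
  have hjσ' : FiniteField.frobeniusAlgEquivOfAlgebraic F E ^ j = σ := hjσ
  have hpow : ∀ (k : ℕ) (e : E),
      (FiniteField.frobeniusAlgEquivOfAlgebraic F E ^ k) e = e ^ (Fintype.card F ^ k) := by
    intro k e
    rw [AlgEquiv.coe_pow, FiniteField.coe_frobeniusAlgEquivOfAlgebraic_iterate]
  have h1 : x ^ (Fintype.card F ^ j) = x⁻¹ := by
    rw [← hpow, hjσ', hσ]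
  have h2 : x ^ (Fintype.card F ^ j + 1) = 1 := by
    rw [pow_succ, h1, inv_mul_cancel₀ hx0]
  refine ⟨j, hj, h2, ?_⟩
  by_cases hj0 : j = 0
  · exact Or.inl hj0
  · right
    have h3 : (FiniteField.frobeniusAlgEquivOfAlgebraic F E ^ (2 * j)) x = x := by
      rw [two_mul, pow_add, AlgEquiv.mul_apply, hjσ', hσ, map_inv₀, hσ, inv_inv]
    have h4 : FiniteField.frobeniusAlgEquivOfAlgebraic F E ^ (2 * j) = 1 := by
      obtain ⟨τ, hτ⟩ : ∃ τ : E ≃ₐ[F] E,
          τ = FiniteField.frobeniusAlgEquivOfAlgebraic F E ^ (2 * j) := ⟨_, rfl⟩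
      rw [← hτ] at h3 ⊢
      have h5 := hgen (AlgHom.equalizer (τ : E →ₐ[F] E) (AlgHom.id F E)) (by
          rw [AlgHom.mem_equalizer]
          exact h3)
      ext e
      have he : e ∈ AlgHom.equalizer (τ : E →ₐ[F] E) (AlgHom.id F E) := by
        rw [h5]
        exact Algebra.mem_top
      exact he
    have h5 : Module.finrank F E ∣ 2 * j := by
      rw [← FiniteField.orderOf_frobeniusAlgEquivOfAlgebraic F E]
      exact orderOf_dvd_of_pow_eq_one h4
    obtain ⟨c, hc⟩ := h5
    rcases c with _ | _ | c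
    · omega
    · omega
    · exfalso
      nlinarith

/-- If `x ^ 2 = 1` and `x` generates `E` over `F` then `E = F`. -/
theorem finrank_eq_one_of_sq {F : Type u} [Field F] {E : Type v} [Field E] [Algebra F E]
    (x : E) (hgen : ∀ K : Subalgebra F E, x ∈ K → K = ⊤) (hx : x ^ 2 = 1) :
    Module.finrank F E = 1 := by
  have h1 : x = 1 ∨ x = -1 := sq_eq_one_iff.mp hx
  have hx : x ∈ (⊥ : Subalgebra F E) := by
    rcases h1 with rfl | rfl
    · exact one_mem _
    · exact neg_mem (one_mem _)
  exact Subalgebra.bot_eq_top_iff_finrank_eq_one.mp (hgen ⊥ hx)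

/-- The twisted trace-like form on a finite field. -/
theorem exists_form {F : Type u} [Field F] [Fintype F] {E : Type v} [Field E] [Finite E]
    [Algebra F E] (k : ℕ) :
    ∃ B : LinearMap.BilinForm F E, B.Nondegenerate ∧
      ∀ c a b : E, B (c * a) (c * b) = B (c ^ (Fintype.card F ^ k + 1) * a) b := by
  obtain ⟨σ, hσdef⟩ : ∃ σ : E ≃ₐ[F] E, σ = FiniteField.frobeniusAlgEquivOfAlgebraic F E ^ k :=
    ⟨_, rfl⟩
  have hσ : ∀ e : E, σ e = e ^ (Fintype.card F ^ k) := by
    intro e
    rw [hσdef, AlgEquiv.coe_pow, FiniteField.coe_frobeniusAlgEquivOfAlgebraic_iterate]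
  obtain ⟨T, hT⟩ : ∃ T : Module.Dual F E, T 1 ≠ 0 := by
    by_contra hcon
    have h1 : ∀ T : Module.Dual F E, T 1 = 0 := by
      intro T
      by_contra h
      exact hcon ⟨T, h⟩
    exact one_ne_zero ((Module.forall_dual_apply_eq_zero_iff F (1 : E)).mp h1)
  let B : LinearMap.BilinForm F E := LinearMap.mk₂ F (fun a b => T (a * σ b))
    (by intro a a' b; simp [add_mul])
    (by intro c a b; simp)
    (by intro a b b'; simp [mul_add])
    (by intro c a b; simp)
  have hB : ∀ a b, B a b = T (a * σ b) := fun a b => rfl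
  refine ⟨B, ⟨?_, ?_⟩, ?_⟩
  · intro a ha
    by_contra ha0
    have h1 := ha (σ.symm (a⁻¹))
    rw [hB, AlgEquiv.apply_symm_apply, mul_inv_cancel₀ ha0] at h1
    exact hT h1
  · intro b hb
    by_contra hb0
    have hσb : σ b ≠ 0 := by
      intro h
      apply hb0
      have : σ b = σ 0 := by rw [h, map_zero]
      exact σ.injective this
    have h1 := hb ((σ b)⁻¹)
    rw [hB, inv_mul_cancel₀ hσb] at h1
    exact hT h1
  · intro c a b
    rw [hB, hB]
    have h1 : c * a * σ (c * b) = c ^ (Fintype.card F ^ k + 1) * a * σ b := by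
      rw [map_mul σ, hσ c, pow_succ]
      ring
    rw [h1]

/-- Let F be a finite field with r elements and of characteristic p, H a finite abelian group of order prime to p, and V a faithful irreducible representation of H over F of dimension n (faithful: distinct elements act differently; irreducible: the only H-invariant subspaces are 0 and V). Call V self-dual when it carries a nondegenerate H-invariant bilinear form. If n = 1 and V is self-dual then H has order at most 2. If n ≥ 2 then V is self-dual if and only if n is even and the order of H divides r^(n/2) + 1. -/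
theorem result {F : Type*} [Field F] [Fintype F] (p : ℕ) [Fact p.Prime] [CharP F p] {H : Type*} [CommGroup H] [Finite H] (hcop : ¬ p ∣ Nat.card H) {V : Type*} [AddCommGroup V] [Module F V] [FiniteDimensional F V] (ρ : Representation F H V) (hfaith : Function.Injective ρ) (hirr : ∀ U : Submodule F V, (∀ h : H, ∀ u ∈ U, ρ h u ∈ U) → U = ⊥ ∨ U = ⊤) : (Module.finrank F V = 1 → (∃ B : LinearMap.BilinForm F V, B.Nondegenerate ∧ ∀ h : H, ∀ x y : V, B (ρ h x) (ρ h y) = B x y) → Nat.card H ≤ 2) ∧ (2 ≤ Module.finrank F V → ((∃ B : LinearMap.BilinForm F V, B.Nondegenerate ∧ ∀ h : H, ∀ x y : V, B (ρ h x) (ρ h y) = B x y) ↔ (Even (Module.finrank F V) ∧ Nat.card H ∣ Fintype.card F ^ (Module.finrank F V / 2) + 1))) := by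
  by_cases hV : Nontrivial V
  swap
  · have h0 : Module.finrank F V = 0 := by
      rw [not_nontrivial_iff_subsingleton] at hV
      exact Module.finrank_zero_of_subsingleton
    exact ⟨fun h => by omega, fun h => by omega⟩
  obtain ⟨E, instE, instA, instFin, ι, φ, x, g, hφ, hord, hpow, hgen, hxg⟩ :=
    core ρ hfaith hirr
  have hfr : Module.finrank F E = Module.finrank F V := φ.finrank_eq
  have hιinj : Function.Injective ι := (ι : E →+* Module.End F V).injective
  have hxm : x ^ Nat.card H = 1 := by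
    rw [← hord]
    exact pow_orderOf_eq_one x
  have hx0 : x ≠ 0 := by
    intro h
    rw [h, zero_pow Nat.card_pos.ne'] at hxm
    exact zero_ne_one hxm
  have hI : (∃ B : LinearMap.BilinForm F V, B.Nondegenerate ∧
      ∀ h : H, ∀ x y : V, B (ρ h x) (ρ h y) = B x y) →
      Nat.card H ∣ 2 ∨ (Even (Module.finrank F V) ∧
        Nat.card H ∣ Fintype.card F ^ (Module.finrank F V / 2) + 1) := by
    rintro ⟨B, hB, hinv⟩
    have hXY : ∀ u v, B (ι x u) v = B u (ι x⁻¹ v) := by
      intro u v
      have h1 : ι x (ι x⁻¹ v) = v := by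
        rw [← Module.End.mul_apply, ← map_mul, mul_inv_cancel₀ hx0, map_one,
          Module.End.one_apply]
      conv_lhs => rw [← h1]
      rw [hxg, hinv]
    have hXYpow : ∀ (n : ℕ) u v, B (ι (x ^ n) u) v = B u (ι (x⁻¹ ^ n) v) := by
      intro n
      induction n with
      | zero => intro u v; simp
      | succ n ih =>
        intro u v
        rw [pow_succ, pow_succ', map_mul, map_mul, Module.End.mul_apply, Module.End.mul_apply,
          ih, hXY]
    have hpoly : ∀ (f : Polynomial F) u v,
        B (ι (Polynomial.aeval x f) u) v = B u (ι (Polynomial.aeval x⁻¹ f) v) := by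
      intro f
      induction f using Polynomial.induction_on' with
      | add p q hp hq =>
        intro u v
        simp only [map_add, LinearMap.add_apply]
        rw [hp, hq]
      | monomial n a =>
        intro u v
        rw [Polynomial.aeval_monomial, Polynomial.aeval_monomial, map_mul, map_mul,
          AlgHom.commutes]
        simp only [Module.End.mul_apply, Module.algebraMap_end_apply, map_smul,
          LinearMap.smul_apply]
        rw [hXYpow]
    have hroot : Polynomial.aeval x⁻¹ (minpoly F x) = 0 := by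
      apply hιinj
      rw [map_zero]
      apply LinearMap.ext
      intro v
      apply hB.2
      intro u
      rw [← hpoly, minpoly.aeval, map_zero, LinearMap.zero_apply, map_zero,
        LinearMap.zero_apply]
    obtain ⟨j, hj, hj1, hj2⟩ := frob_lemma x hx0 hgen hroot
    have hdvd : Nat.card H ∣ Fintype.card F ^ j + 1 := by
      rw [← hord]
      exact orderOf_dvd_of_pow_eq_one hj1
    rcases hj2 with rfl | hj2
    · left
      simpa using hdvd
    · right
      rw [← hfr, ← hj2]
      refine ⟨even_two_mul j, ?_⟩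
      rwa [Nat.mul_div_cancel_left j two_pos]
  have hII : Nat.card H ∣ 2 → Module.finrank F V = 1 := by
    intro h
    rw [← hfr]
    apply finrank_eq_one_of_sq x hgen
    rw [← hord] at h
    exact orderOf_dvd_iff_pow_eq_one.mp h
  have hIII : ∀ k, Nat.card H ∣ Fintype.card F ^ k + 1 →
      ∃ B : LinearMap.BilinForm F V, B.Nondegenerate ∧
        ∀ h : H, ∀ x y : V, B (ρ h x) (ρ h y) = B x y := by
    intro k hk
    obtain ⟨B₀, hB₀, hB₀inv⟩ := exists_form (F := F) (E := E) k
    refine ⟨LinearMap.BilinForm.congr φ B₀, LinearMap.BilinForm.Nondegenerate.congr φ hB₀, ?_⟩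
    intro h u v
    obtain ⟨n, hn⟩ := hpow h
    have hsymm : ∀ (e : E) (w : V), φ.symm (ι e w) = e * φ.symm w := by
      intro e w
      apply φ.injective
      rw [hφ, LinearEquiv.apply_symm_apply, LinearEquiv.apply_symm_apply]
    rw [LinearMap.BilinForm.congr_apply, LinearMap.BilinForm.congr_apply, hn, hsymm, hsymm,
      hB₀inv]
    have hxk : x ^ (Fintype.card F ^ k + 1) = 1 := by
      apply orderOf_dvd_iff_pow_eq_one.mp
      rw [hord]
      exact hk
    have h1 : (x ^ n) ^ (Fintype.card F ^ k + 1) = 1 := by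
      rw [← pow_mul, mul_comm, pow_mul, hxk, one_pow]
    rw [h1, one_mul]
  constructor
  · intro h1 hex
    rcases hI hex with h | ⟨he, _⟩
    · exact Nat.le_of_dvd two_pos h
    · rw [h1] at he
      exact absurd he (by decide)
  · intro h2
    constructor
    · intro hex
      rcases hI hex with h | h
      · have := hII h
        omega
      · exact h
    · rintro ⟨_, hdvd⟩
      exact hIII _ hdvd

end Cfsg.Agent.S4967
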