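import Cfsg.Statements.S4969
import Cfsg.Agent.Lib.helper83.CharBasic

set_option autoImplicit false
open Cfsg

namespace Cfsg.Agent.S4969

open Cfsg.Agent.Lib.helper83
open scoped ComplexConjugate

/-- There are at most as many irreducible characters as conjugacy classes. -/
theorem card_irr_le {G : Type*} [Group G] [Finite G] :
    Nat.card (Cfsg.IrrCharacter G) ≤ Nat.card (ConjClasses G) := by
  classical
  have := Fintype.ofFinite G
  have := Fintype.ofFinite (Cfsg.IrrCharacter G)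
  have := Fintype.ofFinite (ConjClasses G)
  have hli : LinearIndependent ℂ (fun χ : Cfsg.IrrCharacter G =>
      (fun c : ConjClasses G => (χ : G → ℂ) (Quotient.out c))) := by
    rw [linearIndependent_iff']
    intro s c hc
    have h0 := (linearIndependent_iff'.1 (irr_linearIndependent (G := G))) s c
    apply h0
    funext g
    have h1 := congrFun hc (ConjClasses.mk g)
    simp only [Finset.sum_apply, Pi.smul_apply, smul_eq_mul, Pi.zero_apply] at h1 ⊢
    rw [← h1]
    refine Finset.sum_congr rfl fun χ _ => ?_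
    congr 1
    have hconj : IsConj (Quotient.out (ConjClasses.mk g)) g := by
      apply ConjClasses.mk_eq_mk_iff_isConj.1
      exact Quotient.out_eq _
    obtain ⟨y, hy⟩ := isConj_iff.1 hconj
    have hval := irr_conj χ (Quotient.out (ConjClasses.mk g)) y
    rw [hy] at hval
    exact hval
  have h2 := hli.fintype_card_le_finrank
  rw [Module.finrank_fintype_fun_eq_card] at h2
  rw [Nat.card_eq_fintype_card, Nat.card_eq_fintype_card]
  exact h2

/-- Let G be a finite group with k conjugacy classes, g ∈ G, and N > 0. Then the sum over the irreducible complex characters χ of G with χ(1) ≥ N of |χ(g)|/χ(1) is at most √(k · #C_G(g)) / N. -/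
theorem result {G : Type*} [Group G] [Finite G] (g : G) (N : ℝ) (hN : 0 < N) :
    ∑ᶠ χ : Cfsg.IrrCharacter G, (if N ≤ ‖(χ : G → ℂ) 1‖ then ‖(χ : G → ℂ) g‖ / ‖(χ : G → ℂ) 1‖ else 0) ≤
      Real.sqrt ((Nat.card (ConjClasses G) : ℝ) * (Nat.card ↥(Subgroup.centralizer ({g} : Set G)) : ℝ)) / N := by
  classical
  have := Fintype.ofFinite G
  have := Fintype.ofFinite (Cfsg.IrrCharacter G)
  rw [finsum_eq_sum_of_fintype]
  -- termwise bound
  have hterm : ∀ χ : Cfsg.IrrCharacter G,
      (if N ≤ ‖(χ : G → ℂ) 1‖ then ‖(χ : G → ℂ) g‖ / ‖(χ : G → ℂ) 1‖ else 0) ≤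
        ‖(χ : G → ℂ) g‖ / N := by
    intro χ
    split_ifs with h
    · exact div_le_div_of_nonneg_left (norm_nonneg _) hN h
    · exact div_nonneg (norm_nonneg _) hN.le
  have hsum1 : ∑ χ : Cfsg.IrrCharacter G,
      (if N ≤ ‖(χ : G → ℂ) 1‖ then ‖(χ : G → ℂ) g‖ / ‖(χ : G → ℂ) 1‖ else 0) ≤
        (∑ χ : Cfsg.IrrCharacter G, ‖(χ : G → ℂ) g‖) / N := by
    rw [Finset.sum_div]
    exact Finset.sum_le_sum fun χ _ => hterm χ
  -- second orthogonality
  have hso : ∑ χ : Cfsg.IrrCharacter G, ‖(χ : G → ℂ) g‖ ^ 2 =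
      (Nat.card ↥(Subgroup.centralizer ({g} : Set G)) : ℝ) := by
    have h := second_orthogonality_of_isConj (G := G) (IsConj.refl g)
    have h' : ((∑ χ : Cfsg.IrrCharacter G, ‖(χ : G → ℂ) g‖ ^ 2 : ℝ) : ℂ) =
        ((Nat.card ↥(Subgroup.centralizer ({g} : Set G)) : ℝ) : ℂ) := by
      rw [Complex.ofReal_sum]
      push_cast
      rw [← h]
      refine Finset.sum_congr rfl fun χ _ => ?_
      rw [Complex.mul_conj, Complex.normSq_eq_norm_sq]
      push_cast
      rfl
    exact_mod_cast h'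
  -- Cauchy–Schwarz
  have hcs : (∑ χ : Cfsg.IrrCharacter G, ‖(χ : G → ℂ) g‖) ^ 2 ≤
      (Fintype.card (Cfsg.IrrCharacter G) : ℝ) * ∑ χ : Cfsg.IrrCharacter G, ‖(χ : G → ℂ) g‖ ^ 2 := by
    have := Finset.sum_mul_sq_le_sq_mul_sq (Finset.univ : Finset (Cfsg.IrrCharacter G))
      (fun _ => (1 : ℝ)) (fun χ => ‖(χ : G → ℂ) g‖)
    simpa using this
  have hcard : (Fintype.card (Cfsg.IrrCharacter G) : ℝ) ≤ (Nat.card (ConjClasses G) : ℝ) := by
    have := card_irr_le (G := G)
    rw [Nat.card_eq_fintype_card] at this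
    exact_mod_cast this
  have hle : (∑ χ : Cfsg.IrrCharacter G, ‖(χ : G → ℂ) g‖) ≤
      Real.sqrt ((Nat.card (ConjClasses G) : ℝ) *
        (Nat.card ↥(Subgroup.centralizer ({g} : Set G)) : ℝ)) := by
    apply Real.le_sqrt_of_sq_le
    calc (∑ χ : Cfsg.IrrCharacter G, ‖(χ : G → ℂ) g‖) ^ 2
        ≤ (Fintype.card (Cfsg.IrrCharacter G) : ℝ) *
            ∑ χ : Cfsg.IrrCharacter G, ‖(χ : G → ℂ) g‖ ^ 2 := hcs
      _ = (Fintype.card (Cfsg.IrrCharacter G) : ℝ) *
            (Nat.card ↥(Subgroup.centralizer ({g} : Set G)) : ℝ) := by rw [hso]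
      _ ≤ (Nat.card (ConjClasses G) : ℝ) *
            (Nat.card ↥(Subgroup.centralizer ({g} : Set G)) : ℝ) :=
          mul_le_mul_of_nonneg_right hcard (Nat.cast_nonneg _)
  exact hsum1.trans (div_le_div_of_nonneg_right hle hN.le)

end Cfsg.Agent.S4969
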