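import Cfsg.Statements.S4989
import Cfsg.Agent.Lib.helper79.BurnsideSum
import Cfsg.Agent.Lib.helper83.CharBasic

set_option autoImplicit false
open Cfsg

namespace Cfsg.Agent.S4989

open scoped ComplexConjugate

/-- Let H be a subgroup of the finite group G and χ an irreducible complex character of G. Then the inner product of the restriction of χ to H with itself, (1/#H)·Σ_{h ∈ H} |χ(h)|², is at most 1 + #(Z ∖ H)/#H, where Z is the set of zeros of χ in G. -/
theorem result {G : Type*} [Group G] [Finite G] (H : Subgroup G) (χ : Cfsg.IrrCharacter G) : (Nat.card ↥H : ℝ)⁻¹ * ∑ᶠ h : ↥H, ‖(χ : G → ℂ) h‖ ^ 2 ≤ 1 + (Set.ncard ({x : G | (χ : G → ℂ) x = 0} \ (H : Set G)) : ℝ) / (Nat.card ↥H : ℝ) := by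
  classical
  have := Fintype.ofFinite G
  have horth := Cfsg.Agent.Lib.helper83.irr_orthogonality' χ χ
  rw [if_pos rfl] at horth
  obtain ⟨χf, n, ρ, hρ, rfl⟩ := χ
  simp only at horth ⊢
  -- Σ_G ‖χ g‖^2 = |G|
  have hsum : ∑ g : G, ‖ρ.character g‖ ^ 2 = (Nat.card G : ℝ) := by
    have h1 : ∀ g : G, ρ.character g * conj (ρ.character g) =
        ((‖ρ.character g‖ ^ 2 : ℝ) : ℂ) := by
      intro g
      rw [Complex.mul_conj, Complex.normSq_eq_norm_sq]
    simp only [h1] at horth
    have : ((∑ g : G, ‖ρ.character g‖ ^ 2 : ℝ) : ℂ) = ((Nat.card G : ℝ) : ℂ) := by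
      push_cast
      exact_mod_cast horth
    exact_mod_cast this
  set HF : Finset G := Finset.univ.filter (fun g => g ∈ H) with hHF
  set T : Finset G := Finset.univ.filter (fun g => g ∉ H ∧ ρ.character g ≠ 0) with hTdef
  set ZF : Finset G := Finset.univ.filter (fun g => g ∉ H ∧ ρ.character g = 0) with hZF
  -- closure of T under coprime powers
  have hpowH : ∀ (g : G) (k : ℕ), k.Coprime (Fintype.card G) → (g ^ k ∈ H ↔ g ∈ H) := by
    intro g k hk
    constructor
    · intro hg
      have hcG : (Nat.card G).Coprime k := by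
        rw [Nat.card_eq_fintype_card]; exact hk.symm
      have hcH : (Nat.card H).Coprime k :=
        Nat.Coprime.coprime_dvd_left (Subgroup.card_subgroup_dvd_card H) hcG
      obtain ⟨h', hh'⟩ := (powCoprime hcH).surjective ⟨g ^ k, hg⟩
      have h2 : (h' : G) ^ k = g ^ k := by
        have := congrArg Subtype.val hh'
        simpa [powCoprime_apply] using this
      have h3 : (h' : G) = g := (powCoprime hcG).injective (by simpa [powCoprime_apply] using h2)
      rw [← h3]
      exact h'.2
    · intro hg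
      exact H.pow_mem hg k
  have hT : ∀ (g : G) (k : ℕ), k.Coprime (Fintype.card G) → (g ^ k ∈ T ↔ g ∈ T) := by
    intro g k hk
    simp only [hTdef, Finset.mem_filter, Finset.mem_univ, true_and]
    rw [hpowH g k hk, Ne, Ne, Cfsg.Agent.Lib.helper79.character_pow_eq_zero_iff ρ g k hk]
  have hne : ∀ g ∈ T, ρ.character g ≠ 0 := by
    intro g hg
    exact (Finset.mem_filter.mp hg).2.2
  have hTle := Cfsg.Agent.Lib.helper79.card_le_sum_norm_sq_of_pow_closed ρ T hT hne
  -- split the sum
  have hsplit : ∑ g : G, ‖ρ.character g‖ ^ 2 =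
      ∑ g ∈ HF, ‖ρ.character g‖ ^ 2 + ∑ g ∈ T, ‖ρ.character g‖ ^ 2 := by
    rw [← Finset.sum_filter_add_sum_filter_not Finset.univ (fun g => g ∈ H)]
    have h2 : ∑ g ∈ Finset.univ.filter (fun g => g ∉ H), ‖ρ.character g‖ ^ 2 =
        ∑ g ∈ T, ‖ρ.character g‖ ^ 2 := by
      symm
      refine Finset.sum_subset ?_ ?_
      · intro g hg
        simp only [hTdef, Finset.mem_filter, Finset.mem_univ, true_and] at hg ⊢
        exact hg.1
      · intro g hg hgT
        simp only [hTdef, Finset.mem_filter, Finset.mem_univ, true_and] at hg hgT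
        have h0 : ρ.character g = 0 := by
          by_contra h0
          exact hgT ⟨hg, h0⟩
        simp [h0]
    rw [h2]
  -- count
  have hcard : (Nat.card G : ℝ) = (HF.card : ℝ) + (T.card : ℝ) + (ZF.card : ℝ) := by
    have h1 : Fintype.card G = HF.card + (Finset.univ.filter (fun g : G => g ∉ H)).card := by
      rw [Finset.card_filter_add_card_filter_not]; rfl
    have h2 : (Finset.univ.filter (fun g : G => g ∉ H)).card = T.card + ZF.card := by
      have hTsub : T = (Finset.univ.filter (fun g => g ∉ H)).filter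
          (fun g => ρ.character g ≠ 0) := by
        rw [hTdef, Finset.filter_filter]
      have hZsub : ZF = (Finset.univ.filter (fun g => g ∉ H)).filter
          (fun g => ¬ ρ.character g ≠ 0) := by
        rw [hZF, Finset.filter_filter]
        refine Finset.filter_congr (fun g _ => ?_)
        simp
      rw [hTsub, hZsub, Finset.card_filter_add_card_filter_not]
    rw [Nat.card_eq_fintype_card, h1, h2]
    push_cast
    ring
  -- conversions
  have hfin : ∑ᶠ h : ↥H, ‖ρ.character (h : G)‖ ^ 2 = ∑ g ∈ HF, ‖ρ.character g‖ ^ 2 := by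
    rw [finsum_eq_sum_of_fintype]
    exact (Finset.sum_subtype HF (fun x => by simp [hHF]) (fun g => ‖ρ.character g‖ ^ 2)).symm
  have hHcard : (Nat.card ↥H : ℝ) = (HF.card : ℝ) := by
    rw [Nat.card_eq_fintype_card, Fintype.card_subtype]
  have hZcard : Set.ncard ({x : G | ρ.character x = 0} \ (H : Set G)) = ZF.card := by
    rw [← Set.ncard_coe_finset ZF]
    congr 1
    ext x
    simp [hZF, and_comm]
  have hHpos : (0 : ℝ) < (Nat.card ↥H : ℝ) := by exact_mod_cast Nat.card_pos
  rw [hfin, hZcard]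
  have hmain : ∑ g ∈ HF, ‖ρ.character g‖ ^ 2 ≤ (Nat.card ↥H : ℝ) + (ZF.card : ℝ) := by
    rw [hHcard]
    linarith
  rw [inv_mul_le_iff₀ hHpos]
  have : (Nat.card ↥H : ℝ) * (1 + (ZF.card : ℝ) / (Nat.card ↥H : ℝ)) =
      (Nat.card ↥H : ℝ) + (ZF.card : ℝ) := by
    field_simp
  rw [this]
  exact hmain

end Cfsg.Agent.S4989
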