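import Mathlib
import Cfsg.Statements.S5001
import Cfsg.Agent.Lib.helper4.HeightZero
import Cfsg.Agent.Lib.helper4.CharDecomp
import Cfsg.Agent.Lib.helper83.CharBasic2
import Cfsg.Agent.Lib.helper81.CharOrtho
import Cfsg.Agent.Lib.helper78.KLCount
import Cfsg.Agent.Lib.helper19.LinChar
import Cfsg.Agent.Lib.helper19.GlaubChar
import Cfsg.Agent.Lib.helper80.LocalInt
import Cfsg.Agent.Lib.helper20.Basic

set_option autoImplicit false
open Cfsg

namespace Cfsg.Agent.S5001

open Cfsg.Agent.Lib.helper20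
open Cfsg.Agent.Lib.helper81 (irr_classFun irr_one_ne_zero irr_one_eq_charDegree)
open scoped ComplexConjugate

/-- The scalar by which a central element acts, raised to a power. -/
private theorem central_scalar_pow {H : Type*} [Group H] [Fintype H] (θ : IrrCharacter H) (z : H)
    (hz : ∀ h : H, h * z = z * h) (n : ℕ) :
    ((θ : H → ℂ) z / (θ : H → ℂ) 1) ^ n = (θ : H → ℂ) (z ^ n) / (θ : H → ℂ) 1 := by
  induction n with
  | zero =>
    rw [pow_zero, pow_zero, div_self (irr_one_ne_zero θ)]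
  | succ n ih =>
    rw [pow_succ', ih, pow_succ', Cfsg.Agent.Lib.helper78.irr_central_mul θ z hz (z ^ n)]
    ring

/-- A character whose value at a central element is a local unit has an irreducible constituent
of degree prime to `p`. -/
private theorem exists_constituent_not_dvd {H : Type*} [Group H] [Fintype H] {p : ℕ}
    [Fact p.Prime] {M : Ideal Cfsg.AlgInt} (hM : Cfsg.IsPModular p M) (ϑ : H → ℂ)
    (hϑ : IsCharacter H ϑ) (y : H) (hy : ∀ h : H, h * y = y * h)
    (hval : ¬ MemLocalIdeal M (ϑ y)) :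
    ∃ ξ : IrrCharacter H, classInner ϑ (ξ : H → ℂ) ≠ 0 ∧ ¬ p ∣ charDegree (ξ : H → ℂ) := by
  classical
  have hMp : M.IsPrime := hM.2.1.isPrime
  choose m hm using fun ξ' : IrrCharacter H =>
    Cfsg.Agent.Lib.helper4.exists_nat_classInner_irr hϑ ξ'.2
  have hcf : IsClassFunction H ϑ := Cfsg.Agent.Lib.helper83.isClassFunction_of_isCharacter hϑ
  have hexp : ϑ y = ∑ ξ' : IrrCharacter H, (m ξ' : ℂ) * (ξ' : H → ℂ) y := by
    have h1 := Cfsg.Agent.Lib.helper83.classFunction_expansion' ϑ hcf y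
    simp_rw [hm] at h1
    exact h1
  by_contra hcon
  push Not at hcon
  apply hval
  rw [hexp]
  apply memLocalIdeal_sum hMp
  intro ξ _
  by_cases hmz : m ξ = 0
  · rw [hmz]; simp only [Nat.cast_zero, zero_mul]; exact memLocalIdeal_zero hMp
  · have hdvd : p ∣ charDegree (ξ : H → ℂ) := by
      apply hcon ξ
      rw [hm ξ]
      exact_mod_cast hmz
    have hn : 0 < orderOf y := orderOf_pos y
    have hpow : ((ξ : H → ℂ) y / (ξ : H → ℂ) 1) ^ orderOf y = 1 := by
      rw [central_scalar_pow ξ y hy, pow_orderOf_eq_one, div_self (irr_one_ne_zero ξ)]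
    have hint : IsIntegral ℤ ((ξ : H → ℂ) y / (ξ : H → ℂ) 1) := by
      apply IsIntegral.of_pow hn
      rw [hpow]
      exact isIntegral_one
    have e1 : (m ξ : ℂ) * (ξ : H → ℂ) y
        = (charDegree (ξ : H → ℂ) : ℂ) * ((m ξ : ℂ) * ((ξ : H → ℂ) y / (ξ : H → ℂ) 1)) := by
      rw [← irr_one_eq_charDegree]
      field_simp [irr_one_ne_zero ξ]
    rw [e1]
    apply memLocalIdeal_mul_right hMp (Cfsg.Agent.Lib.helper80.memLocalIdeal_natCast hM hdvd)
    exact memLocalRing_mul hMp (memLocalRing_natCast hMp _)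
      (memLocalRing_of_algInt hMp ⟨_, hint⟩)

/-- If `ϑ` transforms by the scalar `c` under translation by the central element `z`, then `z`
acts by `c` on every irreducible constituent of `ϑ`. -/
private theorem central_scalar_of_constituent {H : Type*} [Group H] [Fintype H] (ϑ : H → ℂ)
    (ξ : IrrCharacter H) (z : H) (hz : ∀ h : H, h * z = z * h) (c : ℂ)
    (hc : ∀ h : H, ϑ (z * h) = c * ϑ h) (hne : classInner ϑ (ξ : H → ℂ) ≠ 0) :
    c * conj ((ξ : H → ℂ) z / (ξ : H → ℂ) 1) = 1 := by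
  have hsum : ∑ h : H, ϑ h * conj ((ξ : H → ℂ) h)
      = c * conj ((ξ : H → ℂ) z / (ξ : H → ℂ) 1) * ∑ h : H, ϑ h * conj ((ξ : H → ℂ) h) := by
    conv_lhs => rw [← Equiv.sum_comp (Equiv.mulLeft z) (fun h : H => ϑ h * conj ((ξ : H → ℂ) h))]
    rw [Finset.mul_sum]
    apply Finset.sum_congr rfl
    intro h _
    simp only [Equiv.coe_mulLeft]
    rw [hc h, Cfsg.Agent.Lib.helper78.irr_central_mul ξ z hz h, map_mul]
    ring
  have h1 : classInner ϑ (ξ : H → ℂ)
      = c * conj ((ξ : H → ℂ) z / (ξ : H → ℂ) 1) * classInner ϑ (ξ : H → ℂ) := by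
    unfold classInner
    rw [mul_left_comm, ← hsum]
  have h2 : (c * conj ((ξ : H → ℂ) z / (ξ : H → ℂ) 1) - 1) * classInner ϑ (ξ : H → ℂ) = 0 := by
    rw [sub_mul, one_mul, ← h1, sub_self]
  have h3 := (mul_eq_zero.1 h2).resolve_right hne
  exact sub_eq_zero.1 h3

/-- Let p be a prime, G a finite group and B a p-block of G (relative to a maximal ideal M of the algebraic integers containing p) with defect group D. Let Z be a central p-subgroup of G contained in D and λ a linear character of Z (a homomorphism to the nonzero complex numbers). Say an irreducible character χ of G lies over λ when χ(z) = χ(1)λ(z) for all z ∈ Z. If some irreducible character in B lying over λ has height zero, then λ extends to a linear character of D. -/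
theorem result {G : Type*} [Group G] [Finite G] (p : ℕ) [Fact p.Prime] (M : Ideal Cfsg.AlgInt) (hM : Cfsg.IsPModular p M) (B : Set (Cfsg.IrrCharacter G)) (hB : Cfsg.IsPBlock M B) (D : Subgroup G) (hD : Cfsg.IsDefectGroup p M B D) (Z : Subgroup G) (hZc : Z ≤ Subgroup.center G) (hZp : IsPGroup p ↥Z) (hZD : Z ≤ D) (lam : ↥Z →* ℂˣ) (χ : Cfsg.IrrCharacter G) (hχ : χ ∈ B) (hover : (∀ z : ↥Z, (χ : G → ℂ) z = (χ : G → ℂ) 1 * (lam z : ℂ))) (h0 : Cfsg.blockHeight p B (χ : G → ℂ) = 0) : (∃ μ : ↥D →* ℂˣ, ∀ z : ↥Z, μ ⟨(z : G), hZD z.2⟩ = lam z) := by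
  classical
  haveI : Fintype G := Fintype.ofFinite G
  have hpp : p.Prime := Fact.out
  have hMp : M.IsPrime := hM.2.1.isPrime
  obtain ⟨y, hy, P, hDP⟩ := hD
  -- χ(y) is a local unit
  have hχy : ¬ MemLocalIdeal M ((χ : G → ℂ) y) := by
    have := Cfsg.Agent.Lib.helper4.not_memLocalIdeal_irr_mul_defectClass hM hB hy
      (x := 1) (Commute.one_left y) ⟨0, by simp⟩ hχ h0
    rwa [one_mul] at this
  -- D centralizes y and is a p-group
  have hDy : ∀ d ∈ D, d * y = y * d := by
    intro d hd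
    rw [hDP] at hd
    obtain ⟨c, _, rfl⟩ := hd
    have := c.2
    rw [Subgroup.mem_centralizer_singleton_iff] at this
    exact this
  have hDp : IsPGroup p D := by
    rw [hDP]
    exact P.isPGroup'.map _
  -- the subgroup A = D ⊔ ⟨y⟩
  obtain ⟨A, hA⟩ : ∃ A : Subgroup G, A = D ⊔ Subgroup.zpowers y := ⟨_, rfl⟩
  have hDA : D ≤ A := hA ▸ le_sup_left
  have hyA : y ∈ A := hA ▸ (le_sup_right : Subgroup.zpowers y ≤ _) (Subgroup.mem_zpowers y)
  have hAy : ∀ a ∈ A, a * y = y * a := by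
    have : A ≤ Subgroup.centralizer ({y} : Set G) := by
      rw [hA]
      apply sup_le
      · intro d hd
        rw [Subgroup.mem_centralizer_singleton_iff]
        exact hDy d hd
      · rw [Subgroup.zpowers_le, Subgroup.mem_centralizer_singleton_iff]
    intro a ha
    have := this ha
    rwa [Subgroup.mem_centralizer_singleton_iff] at this
  haveI : Fintype A := Fintype.ofFinite A
  haveI : Fintype D := Fintype.ofFinite D
  -- Step A
  have hresA : IsCharacter A (fun a : A => (χ : G → ℂ) a) :=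
    Cfsg.Agent.Lib.helper4.isCharacter_restrict A (isCharacter_of_isIrrCharacter χ.2)
  obtain ⟨ξ, hξne, hξp⟩ := exists_constituent_not_dvd hM (fun a : A => (χ : G → ℂ) a) hresA
    ⟨y, hyA⟩ (fun h => Subtype.ext (hAy h h.2)) hχy
  -- Step B
  obtain ⟨ι, hι⟩ : ∃ ι : D →* A, ι = Subgroup.inclusion hDA := ⟨_, rfl⟩
  have hresD : IsCharacter D (fun d : D => (ξ : A → ℂ) (ι d)) :=
    Cfsg.Agent.Lib.helper4.isCharacter_comp ι (isCharacter_of_isIrrCharacter ξ.2)
  have hval1 : ¬ MemLocalIdeal M ((fun d : D => (ξ : A → ℂ) (ι d)) 1) := by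
    simp only [map_one]
    rw [irr_one_eq_charDegree]
    exact Cfsg.Agent.Lib.helper80.not_memLocalIdeal_natCast hM hξp
  obtain ⟨μ, hμne, hμp⟩ := exists_constituent_not_dvd hM _ hresD 1 (fun h => by simp) hval1
  -- μ is linear
  have hμ1 : (μ : D → ℂ) 1 = 1 := by
    obtain ⟨n, hn⟩ := IsPGroup.iff_card.mp hDp
    have hdvd := Cfsg.Agent.Lib.helper19.irr_degree_dvd_card_nat μ.2 (charDegree (μ : D → ℂ))
      (irr_one_eq_charDegree μ)
    rw [hn] at hdvd
    obtain ⟨j, _, hj⟩ := (Nat.dvd_prime_pow hpp).1 hdvd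
    have hj0 : j = 0 := by
      by_contra hj0
      apply hμp
      rw [hj]
      exact dvd_pow_self p hj0
    rw [irr_one_eq_charDegree, hj, hj0]
    simp
  obtain ⟨f, hf⟩ := Cfsg.Agent.Lib.helper19.exists_hom_of_linear (μ : D → ℂ)
    (isCharacter_of_isIrrCharacter μ.2) hμ1
  refine ⟨f, ?_⟩
  intro z
  -- central elements
  have hzc : ∀ g : G, g * (z : G) = (z : G) * g := by
    intro g
    have := hZc z.2
    rw [Subgroup.mem_center_iff] at this
    exact this g
  obtain ⟨zA, hzA⟩ : ∃ zA : A, zA = ⟨(z : G), hDA (hZD z.2)⟩ := ⟨_, rfl⟩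
  obtain ⟨zD, hzD⟩ : ∃ zD : D, zD = ⟨(z : G), hZD z.2⟩ := ⟨_, rfl⟩
  have hzAc : ∀ h : A, h * zA = zA * h := by
    intro h; rw [hzA]; exact Subtype.ext (hzc h)
  have hzDc : ∀ h : D, h * zD = zD * h := by
    intro h; rw [hzD]; exact Subtype.ext (hzc h)
  -- scalar on A
  have hlam : (lam z : ℂ) * conj ((ξ : A → ℂ) zA / (ξ : A → ℂ) 1) = 1 := by
    apply central_scalar_of_constituent (fun a : A => (χ : G → ℂ) a) ξ zA hzAc _ _ hξne
    intro h
    have e1 : ((zA * h : A) : G) = (z : G) * (h : G) := by rw [hzA]; rfl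
    simp only [e1]
    rw [Cfsg.Agent.Lib.helper78.irr_central_mul χ (z : G) hzc (h : G), hover z]
    field_simp [irr_one_ne_zero χ]
  have he : ((ξ : A → ℂ) zA / (ξ : A → ℂ) 1) * conj ((μ : D → ℂ) zD / (μ : D → ℂ) 1) = 1 := by
    apply central_scalar_of_constituent (fun d : D => (ξ : A → ℂ) (ι d)) μ zD hzDc _ _ hμne
    intro h
    have e1 : ι zD = zA := by rw [hι, hzD, hzA]; rfl
    simp only [map_mul, e1]
    rw [Cfsg.Agent.Lib.helper78.irr_central_mul ξ zA hzAc (ι h)]
  -- conclusion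
  apply Units.ext
  have hfz : ((f ⟨(z : G), hZD z.2⟩ : ℂˣ) : ℂ) = (μ : D → ℂ) zD := by
    rw [hf zD, hzD]
  rw [hfz]
  rw [hμ1, div_one] at he
  have he' : conj ((ξ : A → ℂ) zA / (ξ : A → ℂ) 1) * (μ : D → ℂ) zD = 1 := by
    have := congrArg conj he
    rw [map_mul, Complex.conj_conj, map_one] at this
    exact this
  calc (μ : D → ℂ) zD = ((lam z : ℂ) * conj ((ξ : A → ℂ) zA / (ξ : A → ℂ) 1)) * (μ : D → ℂ) zD := by
        rw [hlam, one_mul]
    _ = (lam z : ℂ) * (conj ((ξ : A → ℂ) zA / (ξ : A → ℂ) 1) * (μ : D → ℂ) zD) := by ring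
    _ = (lam z : ℂ) := by rw [he', mul_one]

end Cfsg.Agent.S5001
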