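import Cfsg.Statements.S5006
import Cfsg.Agent.S4510
import Cfsg.Agent.S0906
import Cfsg.Agent.S0908
import Cfsg.Agent.S5394
import Cfsg.Agent.S0364
import Cfsg.Agent.Lib.helper20.Basic
import Cfsg.Agent.Lib.helper81.CharOrtho
import Cfsg.Agent.Lib.helper33.M24BDefs
import Cfsg.Agent.Lib.helper49.M24B_STAR_A
import Cfsg.Agent.Lib.helper49.M24B_STAR_B
import Cfsg.Agent.Lib.helper79.M24B_DEG
import Cfsg.Agent.Lib.helper40.M24B_TWO_A
import Cfsg.Agent.Lib.helper40.M24B_TWO_B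
import Cfsg.Agent.Lib.helper79.M24B_PSUMDVD
import Cfsg.Agent.Lib.helper77.M24B_CONST3
import Cfsg.Agent.Lib.helper97.M24B_PSUMSYL
import Cfsg.Agent.Lib.helper40.M24B_NORM
import Cfsg.Agent.Lib.helper77.M24B_CNT_A
import Cfsg.Agent.Lib.helper11.M24B_CNT_11
import Cfsg.Agent.Lib.helper11.M24B_E11
import Cfsg.Agent.Lib.helper92.M24B_ARITH
import Cfsg.Agent.Lib.helper82.M24B_REG
import Cfsg.Agent.Lib.helper82.M24B_VAN0
import Cfsg.Agent.Lib.helper97.M24B_LOCAL
import Cfsg.Agent.Lib.helper97.M24B_CENT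
import Cfsg.Agent.Lib.helper22.M24B_RELb
import Cfsg.Agent.Lib.helper73.M24B_ENUM_B
import Cfsg.Agent.Lib.helper73.M24B_ENUM_A
-- import your own Cfsg.Agent.* helpers here

set_option autoImplicit false
open Cfsg

namespace Cfsg.Agent.S5006

open Cfsg Cfsg.Agent.Lib.helper33.M24B

theorem card_M24' : Nat.card ↥M24 = 244823040 := Cfsg.Agent.S0364.result

theorem star_all (t : ↥M24) (h2 : orderOf t = 2) : Star t := by
  have h := Cfsg.Agent.S5394.result.1 (t : Equiv.Perm GolayPt) t.2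
    (by rw [Subgroup.orderOf_coe]; exact h2)
  rcases h with h8 | h0
  · exact Cfsg.Agent.Lib.helper49.M24B.star_oct t h2 h8
  · exact Cfsg.Agent.Lib.helper49.M24B.star_fpf t h2 h0

theorem no_defect_zero' (χ : IrrCharacter ↥M24) (hv : Van (χ : ↥M24 → ℂ)) : False := by
  obtain ⟨m, hm, hdeg⟩ := Cfsg.Agent.Lib.helper79.M24B.deg_of_van χ hv
  -- order 3, six fixed points
  obtain ⟨yA, hyA3, hyA6, PA, hPA, hcA⟩ := Cfsg.Agent.Lib.helper40.M24B.two_A
  obtain ⟨jA, hjA⟩ := Cfsg.Agent.Lib.helper79.M24B.psum_dvd χ hv yA (by rw [hyA3]; norm_num) PA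
    (IsPGroup.of_card (n := 3) (by rw [hPA]; norm_num)) hcA
  rw [hyA3, hPA, hdeg] at hjA
  have hsA : ∀ y : ↥M24, orderOf y = 3 → fixN y = 6 →
      psum (χ : ↥M24 → ℂ) 3 y = psum (χ : ↥M24 → ℂ) 3 yA :=
    fun y h3 h6 => Cfsg.Agent.Lib.helper77.M24B.psum3_const χ yA y hyA3 h3 (by rw [hyA6, h6])
  -- order 3, no fixed points
  obtain ⟨yB, hyB3, hyB0, PB, hPB, hcB⟩ := Cfsg.Agent.Lib.helper40.M24B.two_B
  obtain ⟨jB, hjB⟩ := Cfsg.Agent.Lib.helper79.M24B.psum_dvd χ hv yB (by rw [hyB3]; norm_num) PB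
    (IsPGroup.of_card (n := 3) (by rw [hPB]; norm_num)) hcB
  rw [hyB3, hPB, hdeg] at hjB
  have hsB : ∀ y : ↥M24, orderOf y = 3 → fixN y = 0 →
      psum (χ : ↥M24 → ℂ) 3 y = psum (χ : ↥M24 → ℂ) 3 yB :=
    fun y h3 h0 => Cfsg.Agent.Lib.helper77.M24B.psum3_const χ yB y hyB3 h3 (by rw [hyB0, h0])
  -- order 5
  have : Fact (Nat.Prime 5) := ⟨by norm_num⟩
  have : Fact (Nat.Prime 11) := ⟨by norm_num⟩
  obtain ⟨y5, hy5⟩ := exists_prime_orderOf_dvd_card' (G := ↥M24) 5 (by rw [card_M24']; norm_num)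
  obtain ⟨j5, hj5⟩ := Cfsg.Agent.Lib.helper79.M24B.psum_dvd χ hv y5 (by rw [hy5]; norm_num) ⊥ IsPGroup.of_bot
    (by intro x hx; rw [Subgroup.mem_bot] at hx; rw [hx, one_mul, mul_one])
  rw [hy5, hdeg] at hj5
  have hs5 : ∀ y : ↥M24, orderOf y = 5 →
      psum (χ : ↥M24 → ℂ) 5 y = psum (χ : ↥M24 → ℂ) 5 y5 :=
    fun y h => Cfsg.Agent.Lib.helper97.M24B.psum_sylow_const χ 5 (by norm_num) (by rw [card_M24']; norm_num) y5 y hy5 h
  -- order 11
  obtain ⟨y11, hy11⟩ := exists_prime_orderOf_dvd_card' (G := ↥M24) 11 (by rw [card_M24']; norm_num)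
  obtain ⟨j11, hj11⟩ := Cfsg.Agent.Lib.helper79.M24B.psum_dvd χ hv y11 (by rw [hy11]; norm_num) ⊥ IsPGroup.of_bot
    (by intro x hx; rw [Subgroup.mem_bot] at hx; rw [hx, one_mul, mul_one])
  rw [hy11, hdeg] at hj11
  have hs11 : ∀ y : ↥M24, orderOf y = 11 →
      psum (χ : ↥M24 → ℂ) 11 y = psum (χ : ↥M24 → ℂ) 11 y11 :=
    fun y h => Cfsg.Agent.Lib.helper97.M24B.psum_sylow_const χ 11 (by norm_num) (by rw [card_M24']; norm_num) y11 y hy11 h
  have RA := Cfsg.Agent.Lib.helper22.M24B.rel_A_of_enum Cfsg.Agent.Lib.helper73.M24B.enum_A χ hv _ _ _ hsA hsB hs5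
  have RB := Cfsg.Agent.Lib.helper22.M24B.rel_B_of_enum Cfsg.Agent.Lib.helper73.M24B.enum_B χ hv _ _ _ _ hsA hsB hs5 hs11
  have NN := Cfsg.Agent.Lib.helper40.M24B.norm_ineq χ _ _ hsA hs11 Cfsg.Agent.Lib.helper77.M24B.count_3A (Cfsg.Agent.Lib.helper11.M24B.count_11 Cfsg.Agent.Lib.helper11.M24B.cent_eleven)
  have hbot : Nat.card (⊥ : Subgroup ↥M24) = 1 := Subgroup.card_bot
  rw [hbot] at hj5 hj11
  have eA : psum (χ : ↥M24 → ℂ) 3 yA = (((24 * jA - 1024 * m : ℤ)) : ℂ) := by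
    push_cast at hjA ⊢; linear_combination hjA
  have eB : psum (χ : ↥M24 → ℂ) 3 yB = (((24 * jB - 1024 * m : ℤ)) : ℂ) := by
    push_cast at hjB ⊢; linear_combination hjB
  have e5 : psum (χ : ↥M24 → ℂ) 5 y5 = (((5 * j5 - 1024 * m : ℤ)) : ℂ) := by
    push_cast at hj5 ⊢; linear_combination hj5
  have e11 : psum (χ : ↥M24 → ℂ) 11 y11 = (((11 * j11 - 1024 * m : ℤ)) : ℂ) := by
    push_cast at hj11 ⊢; linear_combination hj11
  have e1 : (χ : ↥M24 → ℂ) 1 = (((1024 * m : ℤ)) : ℂ) := by rw [hdeg]; push_cast; ring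
  rw [eA, eB, e5, e1] at RA
  rw [eA, eB, e5, e11, e1] at RB
  rw [eA, e11, e1] at NN
  refine Cfsg.Agent.Lib.helper92.M24B.arith_final m jA jB j5 j11 hm ?_ ?_ ?_
  · exact_mod_cast RA
  · exact_mod_cast RB
  · have h1 : ∀ z : ℤ, ‖((z : ℤ) : ℂ)‖ ^ 2 = ((z ^ 2 : ℤ) : ℝ) := by
      intro z
      rw [Complex.norm_intCast]; push_cast; rw [sq_abs]
    rw [h1, h1, h1] at NN
    exact_mod_cast NN

theorem defect_ten' (M : Ideal AlgInt) (hM : IsPModular 2 M) (χ : IrrCharacter ↥M24) :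
    blockDefect 2 (blockOf M (χ : ↥M24 → ℂ)) = 10 := by
  have : Fact (Nat.Prime 2) := ⟨Nat.prime_two⟩
  have hB : IsPBlock M (blockOf M (χ : ↥M24 → ℂ)) := ⟨χ, rfl⟩
  obtain ⟨g, hg⟩ := Cfsg.Agent.S0906.result 2 M hM _ hB
  have hreg := Cfsg.Agent.Lib.helper82.M24B.defect_class_regular 2 M hM _ hB g hg
  obtain ⟨P⟩ : Nonempty (Sylow 2 (Subgroup.centralizer ({g} : Set ↥M24))) := inferInstance
  have hD : IsDefectGroup 2 M (blockOf M (χ : ↥M24 → ℂ))
      ((P : Subgroup (Subgroup.centralizer ({g} : Set ↥M24))).map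
        (Subgroup.centralizer ({g} : Set ↥M24)).subtype) := ⟨g, hg, P, rfl⟩
  have hcard := Cfsg.Agent.S0908.result 2 M hM _ hB _ hD
  have hmap : Nat.card ((P : Subgroup (Subgroup.centralizer ({g} : Set ↥M24))).map
        (Subgroup.centralizer ({g} : Set ↥M24)).subtype)
      = Nat.card (P : Subgroup (Subgroup.centralizer ({g} : Set ↥M24))) :=
    Subgroup.card_map_of_injective (Subgroup.subtype_injective _)
  rw [hmap] at hcard
  by_cases hP : (P : Subgroup (Subgroup.centralizer ({g} : Set ↥M24))) = ⊥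
  · exfalso
    rw [hP, Subgroup.card_bot] at hcard
    have h0 : blockDefect 2 (blockOf M (χ : ↥M24 → ℂ)) = 0 := by
      by_contra hne
      have : 1 < 2 ^ blockDefect 2 (blockOf M (χ : ↥M24 → ℂ)) :=
        Nat.one_lt_two_pow hne
      omega
    exact no_defect_zero' χ (fun u hu => Cfsg.Agent.Lib.helper82.M24B.vanish_of_defect_zero 2 M hM χ h0 u hu)
  · have hg1 : g = 1 := Cfsg.Agent.Lib.helper97.M24B.defect_class_eq_one M hM _ hB g hg hreg P hP star_all
    subst hg1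
    have htop : Subgroup.centralizer ({1} : Set ↥M24) = ⊤ := by
      rw [eq_top_iff]
      intro x _
      rw [Subgroup.mem_centralizer_iff]
      intro h hh
      rw [Set.mem_singleton_iff] at hh
      rw [hh, one_mul, mul_one]
    have hPc : Nat.card (P : Subgroup (Subgroup.centralizer ({1} : Set ↥M24)))
        = 2 ^ (Nat.card (Subgroup.centralizer ({1} : Set ↥M24))).factorization 2 :=
      Sylow.card_eq_multiplicity P
    have hC : Nat.card (Subgroup.centralizer ({1} : Set ↥M24)) = 244823040 := by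
      rw [htop, Subgroup.card_top, card_M24']
    rw [hC] at hPc
    have hf : (244823040 : ℕ).factorization 2 = 10 := by
      have : (244823040 : ℕ) = 2 ^ 10 * 239085 := by norm_num
      rw [this, Nat.factorization_mul (by norm_num) (by norm_num), Nat.Prime.factorization_pow Nat.prime_two]
      simp [Nat.factorization_eq_zero_of_not_dvd (show ¬ 2 ∣ 239085 by norm_num)]
    rw [hf, hcard] at hPc
    exact Nat.pow_right_injective (le_refl 2) hPc


/-- All irreducible complex characters of the Mathieu group `M₂₄` lie in a single 2-block: any two of them lie in the same block relative to every maximal ideal of the algebraic integers containing 2. -/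
theorem result (M : Ideal Cfsg.AlgInt) (hM : Cfsg.IsPModular 2 M)
    (χ ψ : Cfsg.IrrCharacter ↥Cfsg.M24) : Cfsg.SameBlock M (χ : ↥Cfsg.M24 → ℂ) (ψ : ↥Cfsg.M24 → ℂ) := by
  have : Fact (Nat.Prime 2) := ⟨Nat.prime_two⟩
  rw [Cfsg.Agent.S4510.result 2 M hM 10 χ ψ (defect_ten' M hM χ) (defect_ten' M hM ψ)]
  intro x hx hc
  have hx1 : x = 1 := Cfsg.Agent.Lib.helper97.M24B.cent_full star_all x hx hc
  subst hx1
  have h1 : ∀ φ : IrrCharacter ↥M24, centralChar (φ : ↥M24 → ℂ) 1 = 1 := by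
    intro φ
    unfold centralChar
    have htop : Subgroup.centralizer ({1} : Set ↥M24) = ⊤ := by
      rw [eq_top_iff]
      intro x _
      rw [Subgroup.mem_centralizer_iff]
      intro h hh
      rw [Set.mem_singleton_iff] at hh
      rw [hh, one_mul, mul_one]
    rw [htop, Subgroup.index_top, Nat.cast_one, one_mul]
    exact div_self (Cfsg.Agent.Lib.helper81.irr_one_ne_zero φ)
  rw [h1, h1, sub_self]
  exact Cfsg.Agent.Lib.helper20.memLocalIdeal_zero (Cfsg.Agent.Lib.helper20.isPrime_of_isPModular hM)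


end Cfsg.Agent.S5006
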