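import Cfsg.Statements.S5011
import Mathlib

set_option autoImplicit false
open Cfsg

namespace Cfsg.Agent.S5011

/-- Let G be a finite non-abelian simple group and ρ an irreducible complex representation of G on a space of dimension greater than one (irreducible in the sense that the only subspaces invariant under every ρ(x) are 0 and the whole space). Then for every non-identity element g of G, the centralizer of g does not act irreducibly: there is a non-zero proper subspace invariant under ρ(c) for every c commuting with g. -/
theorem result {G : Type*} [Group G] [Finite G] [IsSimpleGroup G]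
    (hG : ¬ IsMulCommutative G) {V : Type*} [AddCommGroup V] [Module ℂ V] [FiniteDimensional ℂ V]
    (ρ : Representation ℂ G V)
    (hirr : ∀ W : Submodule ℂ V, (∀ x : G, ∀ v ∈ W, ρ x v ∈ W) → W = ⊥ ∨ W = ⊤)
    (hdim : 1 < Module.finrank ℂ V) (g : G) (hg : g ≠ 1) :
    ∃ W : Submodule ℂ V, W ≠ ⊥ ∧ W ≠ ⊤ ∧ ∀ c ∈ Subgroup.centralizer ({g} : Set G), ∀ v ∈ W, ρ c v ∈ W := by
  have hpos : 0 < Module.finrank ℂ V := by omega
  haveI : Nontrivial V := Module.finrank_pos_iff.mp hpos
  obtain ⟨μ, hμ⟩ := Module.End.exists_eigenvalue (ρ g)
  by_cases htop : Module.End.eigenspace (ρ g) μ = ⊤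
  · exfalso
    -- ρ g is the scalar μ
    have hscal : ∀ v : V, ρ g v = μ • v := by
      intro v
      have : v ∈ Module.End.eigenspace (ρ g) μ := by rw [htop]; trivial
      exact Module.End.mem_eigenspace_iff.mp this
    have hcomm : ∀ x : G, ρ (g * x) = ρ (x * g) := by
      intro x
      ext v
      rw [map_mul, map_mul]
      simp only [Module.End.mul_apply]
      rw [hscal, hscal, map_smul]
    have hker : (ρ.ker).Normal := inferInstance
    rcases hker.eq_bot_or_eq_top with hbot | htop'
    · -- g is central
      have hcen : g ∈ Subgroup.center G := by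
        rw [Subgroup.mem_center_iff]
        intro x
        have h1 : (x * g)⁻¹ * (g * x) ∈ ρ.ker := by
          rw [MonoidHom.mem_ker, map_mul, hcomm x, ← map_mul]
          simp
        rw [hbot, Subgroup.mem_bot] at h1
        have : g * x = x * g := by
          calc g * x = (x * g) * ((x * g)⁻¹ * (g * x)) := by group
            _ = x * g := by rw [h1, mul_one]
        exact this.symm
      have hcn : (Subgroup.center G).Normal := inferInstance
      rcases hcn.eq_bot_or_eq_top with hb | ht
      · rw [hb, Subgroup.mem_bot] at hcen
        exact hg hcen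
      · apply hG
        rw [isMulCommutative_iff]
        intro a b
        have : a ∈ Subgroup.center G := by rw [ht]; trivial
        rw [Subgroup.mem_center_iff] at this
        exact (this b).symm
    · -- ρ is trivial
      have htriv : ∀ x : G, ρ x = 1 := by
        intro x
        have : x ∈ ρ.ker := by rw [htop']; trivial
        exact MonoidHom.mem_ker.mp this
      obtain ⟨v, hv⟩ := exists_ne (0 : V)
      have hinv : ∀ x : G, ∀ w ∈ Submodule.span ℂ ({v} : Set V), ρ x w ∈ Submodule.span ℂ ({v} : Set V) := by
        intro x w hw
        rw [htriv x]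
        exact hw
      rcases hirr _ hinv with h1 | h1
      · rw [Submodule.span_singleton_eq_bot] at h1
        exact hv h1
      · have h2 : Module.finrank ℂ (Submodule.span ℂ ({v} : Set V)) = 1 := finrank_span_singleton hv
        rw [h1, finrank_top] at h2
        omega
  · refine ⟨Module.End.eigenspace (ρ g) μ, hμ, htop, ?_⟩
    intro c hc v hv
    rw [Module.End.mem_eigenspace_iff] at hv ⊢
    rw [Subgroup.mem_centralizer_iff] at hc
    have h1 := hc g rfl
    have h2 : ρ g (ρ c v) = ρ (g * c) v := by rw [map_mul]; rfl
    rw [h2, h1, map_mul]
    simp only [Module.End.mul_apply]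
    rw [hv, map_smul]

end Cfsg.Agent.S5011
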