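import Cfsg.Statements.S5015
import Cfsg.Agent.Lib.helper85.RankOne

set_option autoImplicit false
open Cfsg

namespace Cfsg.Agent.S5015

open Cfsg.Agent.Lib.helper85

theorem conjBy_nilpotent {Y : Type*} [Group Y] (A : Subgroup Y) (hnil : Group.IsNilpotent A) (y : Y) :
    Group.IsNilpotent (Cfsg.conjBy A y) := by
  have e : A ≃* (Cfsg.conjBy A y) :=
    Subgroup.equivMapOfInjective A (MulAut.conj y).toMonoidHom (MulAut.conj y).injective
  exact (Group.isNilpotent_congr e).mp hnil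

theorem exists_third {Ω : Type*} (hΩ : 3 ≤ ENat.card Ω) (α β : Ω) : ∃ γ : Ω, γ ≠ α ∧ γ ≠ β := by
  by_contra hcon
  push Not at hcon
  have h1 : (Set.univ : Set Ω) ⊆ {α, β} := by
    intro γ _
    by_cases h : γ = α
    · left; exact h
    · right; exact hcon γ h
  have h2 : (Set.univ : Set Ω).encard ≤ 2 := by
    calc (Set.univ : Set Ω).encard ≤ ({α, β} : Set Ω).encard := Set.encard_le_encard h1
      _ ≤ ({β} : Set Ω).encard + 1 := Set.encard_insert_le _ _
      _ = 2 := by rw [Set.encard_singleton]; rfl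
  rw [Set.encard_univ] at h2
  have h3 : (3 : ℕ∞) ≤ 2 := le_trans hΩ h2
  exact absurd h3 (by decide)


/-- Let a group Y act doubly transitively on a set Ω with at least three points, and suppose that the stabilizer of a point α contains a nilpotent subgroup A, normalized by that stabilizer, which acts regularly on the points other than α. Then for any y in Y moving α, the subgroups A and y A y⁻¹ are the unipotent subgroups of a rank one group, and the normal closure of A in Y (the subgroup generated by all conjugates of A) is generated by A and y A y⁻¹ alone. -/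
theorem result {Y Ω : Type*} [Group Y] [MulAction Y Ω]
    (h2 : MulAction.IsMultiplyPretransitive Y Ω 2) (hΩ : 3 ≤ ENat.card Ω) (α : Ω) (A : Subgroup Y)
    (hA : A ≤ MulAction.stabilizer Y α) (hAn : ∀ y ∈ MulAction.stabilizer Y α, Cfsg.conjBy A y = A)
    (hnil : Group.IsNilpotent A) (hreg : ∀ β γ : Ω, β ≠ α → γ ≠ α → ∃! a : Y, a ∈ A ∧ a • β = γ)
    (y : Y) (hy : y ∉ MulAction.stabilizer Y α) :
    Cfsg.IsRankOnePair A (Cfsg.conjBy A y) ∧ Subgroup.normalClosure (A : Set Y) = A ⊔ Cfsg.conjBy A y := by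
  have hβ : y • α ≠ α := fun hc => hy hc
  -- F1
  have F1 : ∀ g g' : Y, g • α = g' • α → Cfsg.conjBy A g = Cfsg.conjBy A g' := by
    intro g g' hgg
    have h1 : g'⁻¹ * g ∈ MulAction.stabilizer Y α := by
      rw [MulAction.mem_stabilizer_iff, mul_smul, hgg, inv_smul_smul]
    have h2 := hAn _ h1
    have h3 : Cfsg.conjBy (Cfsg.conjBy A (g'⁻¹ * g)) g' = Cfsg.conjBy A g' := by rw [h2]
    rw [conjBy_conjBy] at h3
    simpa using h3
  have hAfix : ∀ a ∈ A, a • α = α := fun a ha => hA ha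
  -- B fixes β
  have hBfix : ∀ b ∈ Cfsg.conjBy A y, b • (y • α) = y • α := by
    intro b hb
    rw [mem_conjBy] at hb
    have := hAfix _ hb
    rw [mul_smul, mul_smul] at this
    have h2 := congrArg (fun t => y • t) this
    simpa using h2
  -- B regular
  have hBreg : ∀ γ δ : Ω, γ ≠ y • α → δ ≠ y • α → ∃ b ∈ Cfsg.conjBy A y, b • γ = δ := by
    intro γ δ hγ hδ
    have hγ' : y⁻¹ • γ ≠ α := by
      intro hc; apply hγ; rw [← hc]; simp
    have hδ' : y⁻¹ • δ ≠ α := by
      intro hc; apply hδ; rw [← hc]; simp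
    obtain ⟨a, ⟨ha, haγ⟩, -⟩ := hreg _ _ hγ' hδ'
    refine ⟨y * a * y⁻¹, conj_mem_conjBy ha, ?_⟩
    rw [mul_smul, mul_smul, haγ]; simp
  have hBuniq : ∀ γ : Ω, γ ≠ y • α → ∀ b ∈ Cfsg.conjBy A y, b • γ = γ → b = 1 := by
    intro γ hγ b hb hbγ
    have hγ' : y⁻¹ • γ ≠ α := by
      intro hc; apply hγ; rw [← hc]; simp
    rw [mem_conjBy] at hb
    obtain ⟨a, -, hau⟩ := hreg _ _ hγ' hγ'
    have h1 : y⁻¹ * b * y = a := hau _ ⟨hb, by rw [mul_smul, mul_smul]; simp [hbγ]⟩
    have h2 : (1 : Y) = a := hau _ ⟨A.one_mem, by simp⟩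
    rw [← h2] at h1
    have : b = y * (y⁻¹ * b * y) * y⁻¹ := by group
    rw [this, h1]; group
  have hAuniq : ∀ γ : Ω, γ ≠ α → ∀ a ∈ A, a • γ = γ → a = 1 := by
    intro γ hγ a ha haγ
    obtain ⟨a', -, hau⟩ := hreg _ _ hγ hγ
    have h1 : a = a' := hau _ ⟨ha, haγ⟩
    have h2 : (1 : Y) = a' := hau _ ⟨A.one_mem, by simp⟩
    rw [h1, ← h2]
  obtain ⟨γ, hγα, hγβ⟩ := exists_third hΩ α (y • α)
  have hne : A ≠ Cfsg.conjBy A y := by
    intro hcon
    obtain ⟨b, hb, hbα⟩ := hBreg α γ (Ne.symm hβ) hγβ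
    rw [← hcon] at hb
    exact hγα (by rw [← hbα, hAfix b hb])
  have hrop : Cfsg.IsRankOnePair A (Cfsg.conjBy A y) := by
    refine ⟨hne, hnil, conjBy_nilpotent A hnil y, ?_, ?_⟩
    · intro a ha ha1
      have h1 : a⁻¹ • (y • α) ≠ y • α := by
        intro hc
        exact ha1 (inv_eq_one.mp (hAuniq _ hβ _ (A.inv_mem ha) hc))
      have h2 : a⁻¹ • (y • α) ≠ α := by
        intro hc
        apply hβ
        have := congrArg (fun t => a • t) hc
        simp only [smul_inv_smul] at this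
        rw [this, hAfix a ha]
      obtain ⟨b', hb', hb'α⟩ := hBreg α _ (Ne.symm hβ) h1
      refine ⟨b'⁻¹, Subgroup.inv_mem _ hb', ?_, ?_⟩
      · intro hc
        apply h2
        rw [← hb'α, inv_eq_one.mp hc, one_smul]
      · rw [inv_inv, conjBy_conjBy]
        apply F1
        rw [hb'α, mul_smul]
    · intro b hb hb1
      have h1 : b⁻¹ • α ≠ α := by
        intro hc
        exact hb1 (inv_eq_one.mp (hBuniq _ (Ne.symm hβ) _ (Subgroup.inv_mem _ hb) hc))
      have h2 : b⁻¹ • α ≠ y • α := by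
        intro hc
        apply hβ
        have := congrArg (fun t => b • t) hc
        simp only [smul_inv_smul] at this
        exact (this.trans (hBfix b hb)).symm
      obtain ⟨a', ⟨ha', ha'β⟩, -⟩ := hreg _ _ hβ h1
      refine ⟨a'⁻¹, A.inv_mem ha', ?_, ?_⟩
      · intro hc
        apply h2
        rw [← ha'β, inv_eq_one.mp hc, one_smul]
      · rw [inv_inv, conjBy_conjBy]
        apply F1
        rw [mul_smul, ha'β]
  refine ⟨hrop, ?_⟩
  -- transitivity of A ⊔ B
  have htrans : ∀ δ : Ω, ∃ x ∈ A ⊔ Cfsg.conjBy A y, x • α = δ := by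
    intro δ
    by_cases hδ : δ = α
    · exact ⟨1, Subgroup.one_mem _, by rw [hδ, one_smul]⟩
    · obtain ⟨b, hb, hbα⟩ := hBreg α γ (Ne.symm hβ) hγβ
      obtain ⟨a, ⟨ha, haγ⟩, -⟩ := hreg γ δ hγα hδ
      exact ⟨a * b, Subgroup.mul_mem _ (Subgroup.mem_sup_left ha) (Subgroup.mem_sup_right hb),
        by rw [mul_smul, hbα, haγ]⟩
  have hconj : ∀ g : Y, Cfsg.conjBy A g ≤ A ⊔ Cfsg.conjBy A y := by
    intro g
    obtain ⟨x, hx, hxα⟩ := htrans (g • α)
    rw [F1 g x hxα.symm]
    intro u hu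
    rw [mem_conjBy] at hu
    have : u = x * (x⁻¹ * u * x) * x⁻¹ := by group
    rw [this]
    exact Subgroup.mul_mem _ (Subgroup.mul_mem _ hx (Subgroup.mem_sup_left hu)) (Subgroup.inv_mem _ hx)
  apply le_antisymm
  · unfold Subgroup.normalClosure
    rw [Subgroup.closure_le]
    intro u hu
    rw [Group.mem_conjugatesOfSet_iff] at hu
    obtain ⟨a, ha, hau⟩ := hu
    rw [isConj_iff] at hau
    obtain ⟨c, rfl⟩ := hau
    exact hconj c (conj_mem_conjBy ha)
  · rw [sup_le_iff]
    refine ⟨Subgroup.le_normalClosure, ?_⟩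
    intro u hu
    rw [mem_conjBy] at hu
    have : u = y * (y⁻¹ * u * y) * y⁻¹ := by group
    rw [this]
    exact (Subgroup.normalClosure_normal).conj_mem _ (Subgroup.le_normalClosure hu) y

end Cfsg.Agent.S5015
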