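import Cfsg.Statements.S5017
import Cfsg.Agent.Lib.helper85.RankOne

set_option autoImplicit false
open Cfsg

namespace Cfsg.Agent.S5017

open Cfsg.Agent.Lib.helper85

theorem dichotomy {X : Type*} [Group X] {A B : Subgroup X} (h : Cfsg.IsRankOneGroup X A B)
    (N : Subgroup X) (hN : N.Normal) : N ⊔ A = ⊤ ∨ N ≤ Subgroup.center X := by
  obtain ⟨htop, hrop⟩ := h
  rcases rop_normal_dichotomy' hrop (N := N) (by rw [htop]; exact le_top)
    (fun x _ n hn => hN.conj_mem n hn x) with h1 | h2
  · left
    rw [htop] at h1
    exact top_le_iff.mp h1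
  · right
    rw [htop, Subgroup.coe_top, Subgroup.centralizer_univ] at h2
    exact h2


/-- Let X be a rank one group with unipotent subgroups A and B and N a normal subgroup of X. Then either X = N A or N lies in the centre of X. Consequently a perfect rank one group is quasisimple. -/
theorem result {X : Type*} [Group X] {A B : Subgroup X} (h : Cfsg.IsRankOneGroup X A B) :
    (∀ N : Subgroup X, N.Normal → N ⊔ A = ⊤ ∨ N ≤ Subgroup.center X) ∧
    (Group.IsPerfect X → Cfsg.IsQuasisimple X) := by
  refine ⟨dichotomy h, ?_⟩
  intro hperf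
  obtain ⟨htop, hrop⟩ := h
  -- every normal subgroup is central or everything
  have key : ∀ N : Subgroup X, N.Normal → N = ⊤ ∨ N ≤ Subgroup.center X := by
    intro N hN
    rcases dichotomy ⟨htop, hrop⟩ N hN with h1 | h2
    · left
      -- X/N is a quotient of A, hence nilpotent, and perfect, hence trivial
      have hsurj : Function.Surjective ((QuotientGroup.mk' N).comp A.subtype) := by
        intro q
        obtain ⟨x, rfl⟩ := QuotientGroup.mk'_surjective N q
        have hx : x ∈ N ⊔ A := by rw [h1]; exact Subgroup.mem_top x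
        obtain ⟨n, hn, a, ha, rfl⟩ := (Subgroup.mem_sup_of_normal_left).mp hx
        refine ⟨⟨a, ha⟩, ?_⟩
        simp only [MonoidHom.coe_comp, Function.comp_apply, Subgroup.coe_subtype,
          QuotientGroup.mk'_apply]
        rw [QuotientGroup.mk_mul, (QuotientGroup.eq_one_iff n).mpr hn, one_mul]
      haveI := hrop.nilpotent_left
      have hnil : Group.IsNilpotent (X ⧸ N) := Group.nilpotent_of_surjective _ hsurj
      have hperfQ : Group.IsPerfect (X ⧸ N) := inferInstance
      by_contra hne
      haveI : Nontrivial (X ⧸ N) := by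
        rw [QuotientGroup.nontrivial_iff]
        exact hne
      exact Group.IsPerfect.not_isNilpotent (X ⧸ N) hnil
    · right; exact h2
  have hcne : Subgroup.center X ≠ ⊤ := by
    intro hc
    apply rop_not_le_centralizer hrop
    rw [htop, Subgroup.coe_top, Subgroup.centralizer_univ, hc]
    exact le_top
  refine ⟨hperf, ?_⟩
  haveI : Nontrivial (X ⧸ Subgroup.center X) := by
    rw [QuotientGroup.nontrivial_iff]
    exact hcne
  refine ⟨?_⟩
  intro H hH
  have hcomap : (H.comap (QuotientGroup.mk' (Subgroup.center X))).Normal := hH.comap _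
  have hmap : (H.comap (QuotientGroup.mk' (Subgroup.center X))).map
      (QuotientGroup.mk' (Subgroup.center X)) = H :=
    Subgroup.map_comap_eq_self_of_surjective (QuotientGroup.mk'_surjective _) H
  rcases key _ hcomap with h1 | h2
  · right
    rw [← hmap, h1]
    exact Subgroup.map_top_of_surjective _ (QuotientGroup.mk'_surjective _)
  · left
    rw [← hmap]
    rw [eq_bot_iff]
    rintro _ ⟨x, hx, rfl⟩
    rw [Subgroup.mem_bot]
    exact (QuotientGroup.eq_one_iff x).mpr (h2 hx)

end Cfsg.Agent.S5017
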