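import Cfsg.Statements.S5018
import Cfsg.Agent.Lib.helper85.RankOne

set_option autoImplicit false
open Cfsg

namespace Cfsg.Agent.S5018

open Cfsg.Agent.Lib.helper85
open scoped commutatorElement


/-- A rank one group is not nilpotent, and its second centre equals its centre. -/
theorem result {X : Type*} [Group X] {A B : Subgroup X} (h : Cfsg.IsRankOneGroup X A B) :
    Subgroup.upperCentralSeries X 2 = Subgroup.center X ∧ ¬ Group.IsNilpotent X := by
  obtain ⟨htop, hrop⟩ := h
  have hcent : Subgroup.centralizer ((A ⊔ B : Subgroup X) : Set X) = Subgroup.center X := by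
    rw [htop, Subgroup.coe_top, Subgroup.centralizer_univ]
  have hZ2 : Subgroup.upperCentralSeries X 2 = Subgroup.center X := by
    apply le_antisymm
    · have hnormal : (Subgroup.upperCentralSeries X 2).Normal := inferInstance
      rcases rop_normal_dichotomy hrop (N := Subgroup.upperCentralSeries X 2)
        (by rw [htop]; exact le_top) (fun x _ n hn => hnormal.conj_mem n hn x) with ⟨m, hm, hB⟩ | h2
      · exfalso
        obtain ⟨a, ha, ha1⟩ := rop_exists_ne_one hrop
        apply ha1
        apply rop_eq_one_of_conjBy_eq hrop ha
        have hm' : m ∈ Subgroup.upperCentralSeries X (1 + 1) := hm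
        rw [Subgroup.mem_upperCentralSeries_succ_iff] at hm'
        have hc := hm' a⁻¹
        rw [Subgroup.upperCentralSeries_one, Subgroup.mem_center_iff] at hc
        -- c = m a⁻¹ m⁻¹ a is central;  a m = m a c⁻¹ ...
        have hBc : ∀ c : X, c ∈ Subgroup.center X → Cfsg.conjBy B c = B := by
          intro c hc
          rw [conjBy_eq_self_iff]
          have : Subgroup.center X ≤ Subgroup.normalizer (B : Set X) := by
            intro z hz
            rw [Subgroup.mem_center_iff] at hz
            rw [Subgroup.mem_normalizer_iff]
            intro x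
            rw [← hz x]
            simp
          exact this hc
        have hc' : ⁅m, a⁻¹⁆ ∈ Subgroup.center X := by
          rw [Subgroup.mem_center_iff]; exact hc
        have e1 : a * m = ⁅m, a⁻¹⁆ * m * a := by
          have h3 := hc a
          have e0 : a * m = a * ⁅m, a⁻¹⁆ * a⁻¹ * m * a := by
            rw [commutatorElement_def]; group
          rw [e0, h3]
          generalize ⁅m, a⁻¹⁆ = c
          group
        rw [hB, conjBy_conjBy, e1, mul_assoc, ← conjBy_conjBy, ← conjBy_conjBy, conjBy_of_mem ha,
          ← hB]
        exact hBc _ hc'
      · rw [hcent] at h2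
        exact h2
    · rw [← Subgroup.upperCentralSeries_one]
      exact Subgroup.upperCentralSeries_mono X (by norm_num)
  refine ⟨hZ2, ?_⟩
  intro hnil
  obtain ⟨n, hn⟩ := hnil.nilpotent
  have hall : ∀ k : ℕ, Subgroup.upperCentralSeries X k ≤ Subgroup.center X := by
    intro k
    induction k with
    | zero => rw [Subgroup.upperCentralSeries_zero]; exact bot_le
    | succ k ih =>
      intro x hx
      rw [Subgroup.mem_upperCentralSeries_succ_iff] at hx
      rw [← hZ2]
      have : x ∈ Subgroup.upperCentralSeries X (1 + 1) := by
        rw [Subgroup.mem_upperCentralSeries_succ_iff]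
        intro y
        rw [Subgroup.upperCentralSeries_one]
        exact ih (hx y)
      exact this
  have hc : Subgroup.center X = ⊤ := by
    rw [eq_top_iff, ← hn]; exact hall n
  apply rop_not_le_centralizer hrop
  rw [hcent, hc]
  exact le_top

end Cfsg.Agent.S5018
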