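import Cfsg.Statements.S5023
import Cfsg.Agent.Lib.helper85.SpecialRankOne
import Cfsg.Agent.Lib.helper85.RankOneQuad

set_option autoImplicit false
open Cfsg

namespace Cfsg.Agent.S5023

theorem comm_of_quad {X : Type*} [Group X] {V : Type*} [AddCommGroup V] [DistribMulAction X V]
    (hf : ∀ x : X, (∀ v : V, x • v = v) → x = 1) {x y : X}
    (h1 : ∀ v : V, x • (y • v - v) = y • v - v) (h2 : ∀ v : V, y • (x • v - v) = x • v - v) :
    x * y = y * x := by
  have key : ∀ v : V, (x * y) • v = (y * x) • v := by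
    intro v
    have e1 := h1 v
    have e2 := h2 v
    rw [smul_sub] at e1 e2
    rw [mul_smul, mul_smul]
    have e1' : x • y • v = y • v - v + x • v := by rw [← e1]; abel
    have e2' : y • x • v = x • v - v + y • v := by rw [← e2]; abel
    rw [e1', e2']; abel
  have : x * y * (y * x)⁻¹ = 1 := by
    apply hf
    intro v
    rw [mul_smul, key, smul_inv_smul]
  exact mul_inv_eq_one.mp this

/-- Let X be a rank one group with unipotent subgroups A and B that acts faithfully on an abelian group V (written additively) with A acting quadratically: a' • (a • v − v) = a • v − v for all a, a' in A and v in V. Then A is either torsion-free or an elementary abelian p-group for some prime p. -/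
theorem result {X : Type*} [Group X] {A B : Subgroup X} (h : Cfsg.IsRankOneGroup X A B)
    {V : Type*} [AddCommGroup V] [DistribMulAction X V] (hf : ∀ x : X, (∀ v : V, x • v = v) → x = 1)
    (hq : ∀ a ∈ A, ∀ a' ∈ A, ∀ v : V, a' • (a • v - v) = a • v - v) :
    (∀ a ∈ A, a ≠ 1 → ¬ IsOfFinOrder a) ∨ ∃ p : ℕ, p.Prime ∧ Cfsg.IsElementaryAbelian p A := by
  obtain ⟨htop, hAB⟩ := h
  have hQA := Cfsg.Agent.Lib.helper85.quadOn_of A hq
  obtain ⟨x₀, -, hBx⟩ := Cfsg.Agent.Lib.helper85.rop_right_mem_unipotent hAB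
  have hqB : ∀ b ∈ B, ∀ b' ∈ B, ∀ v : V, b' • (b • v - v) = b • v - v := by
    rw [hBx]
    exact Cfsg.Agent.Lib.helper85.quadOn_elim (Cfsg.Agent.Lib.helper85.quadOn_conj hQA x₀)
  have hAc : IsMulCommutative A :=
    isMulCommutative_iff_of_setLike.mpr
      (fun a ha a' ha' => comm_of_quad hf (hq a' ha' a ha) (hq a ha a' ha'))
  have hBc : IsMulCommutative B :=
    isMulCommutative_iff_of_setLike.mpr
      (fun b hb b' hb' => comm_of_quad hf (hqB b' hb' b hb) (hqB b hb b' hb'))
  have hX : ∃ x y : X, ∃ n : V, y • (x • n - n) ≠ x • n - n := by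
    by_contra hcon
    push Not at hcon
    obtain ⟨a, ha, ha1⟩ := Cfsg.Agent.Lib.helper85.rop_exists_ne_one hAB
    apply ha1
    apply Cfsg.Agent.Lib.helper85.rop_eq_one_of_mem_normalizer hAB ha
    apply Cfsg.Agent.Lib.helper85.mem_normalizer_of_forall_comm
    intro b _
    exact comm_of_quad hf (fun v => hcon b a v) (fun v => hcon a b v)
  have hs := Cfsg.Agent.Lib.helper85.special_of_quadratic ⟨htop, hAB⟩ hq hX
  rcases Cfsg.Agent.Lib.helper85.special_aus_structure hs ⟨hAc, hBc⟩ with h1 | h2
  · right; exact h1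
  · left; exact h2.1

end Cfsg.Agent.S5023
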