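import Cfsg.Statements.S5026
import Cfsg.Agent.Lib.helper85.RootSub2

set_option autoImplicit false
open Cfsg

namespace Cfsg.Agent.S5026

open Cfsg.Agent.Lib.helper85

theorem le_centralizer_zpowers_iff {G : Type*} [Group G] {C : Subgroup G} {g : G} :
    C ≤ Subgroup.centralizer ((Subgroup.zpowers g : Subgroup G) : Set G) ↔ ∀ c ∈ C, c * g = g * c := by
  constructor
  · intro h c hc
    have := h hc
    rw [Subgroup.mem_centralizer_iff] at this
    exact (this g (Subgroup.mem_zpowers g)).symm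
  · intro h c hc
    rw [Subgroup.mem_centralizer_iff]
    rintro _ ⟨k, rfl⟩
    have : Commute g c := (h c hc).symm
    exact (this.zpow_left k)

/-- The key contradiction: `C` cannot form rank one pairs with both `A` and `B` if it centralizes
the product of commuting nonidentity elements `a ∈ A`, `b ∈ B`. -/
theorem no_double_partner {G : Type*} [Group G] {A B C : Subgroup G}
    (hBc : IsMulCommutative B) (hCc : IsMulCommutative C)
    (hCA : IsRankOnePair C A) (hCB : IsRankOnePair C B) {a b : G} (ha : a ∈ A) (ha1 : a ≠ 1)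
    (hb : b ∈ B) (hb1 : b ≠ 1) (hab : a * b = b * a) (hab1 : a * b ≠ 1)
    (hcent : ∀ c ∈ C, c * (a * b) = (a * b) * c) : False := by
  have habN : (a * b)⁻¹ ∈ Subgroup.normalizer (C : Set G) :=
    Subgroup.inv_mem _ (mem_normalizer_of_forall_comm (fun c hc => (hcent c hc).symm))
  obtain ⟨c₁, hc₁, -, h1⟩ := hCA.cond_right a ha ha1
  have h2 : conjBy C a⁻¹ = conjBy C b := by
    have : a⁻¹ = b * (a * b)⁻¹ := by group
    rw [this, ← conjBy_conjBy, conjBy_eq_self_iff.mpr habN]
  rw [h2] at h1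
  have hb1' : b⁻¹ ≠ 1 := fun hh => hb1 (inv_eq_one.mp hh)
  obtain ⟨c₂, hc₂, -, h3⟩ := hCB.cond_right b⁻¹ (B.inv_mem hb) hb1'
  rw [inv_inv] at h3
  have h4 : A = conjBy B (c₁ * c₂⁻¹) := by
    rw [← conjBy_conjBy, h3, ← h1, conjBy_conjBy]
    simp [conjBy_one]
  by_cases hc : c₁ * c₂⁻¹ = 1
  · rw [hc, conjBy_one] at h4
    apply hab1
    apply rop_eq_one_of_mem_normalizer (RankOnePair_symm hCA)
    · rw [h4]; exact B.mul_mem (h4 ▸ ha) hb
    · exact mem_normalizer_of_forall_comm (fun c hc => (hcent c hc).symm)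
  · have hc' : (c₁ * c₂⁻¹)⁻¹ ≠ 1 := fun hh => hc (inv_eq_one.mp hh)
    obtain ⟨b₀, hb₀, -, h5⟩ := hCB.cond_left _ (C.inv_mem (C.mul_mem hc₁ (C.inv_mem hc₂))) hc'
    rw [inv_inv, ← h4] at h5
    have h6 : a ∈ conjBy C b₀⁻¹ := by rw [h5]; exact ha
    rw [mem_conjBy, inv_inv] at h6
    -- c₃ = b₀ a b₀⁻¹ ∈ C commutes with b
    have h7 : b * (b₀ * a * b₀⁻¹) * b⁻¹ = b₀ * a * b₀⁻¹ := by
      have e1 := mul_comm_of_mem hBc hb hb₀
      have e3 : b * b₀⁻¹ = b₀⁻¹ * b := by
        calc b * b₀⁻¹ = b₀⁻¹ * (b₀ * b) * b₀⁻¹ := by group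
          _ = b₀⁻¹ * (b * b₀) * b₀⁻¹ := by rw [e1]
          _ = b₀⁻¹ * b := by group
      calc b * (b₀ * a * b₀⁻¹) * b⁻¹ = (b * b₀) * a * b₀⁻¹ * b⁻¹ := by group
        _ = b₀ * (b * a) * b₀⁻¹ * b⁻¹ := by rw [e1]; group
        _ = b₀ * (a * b) * b₀⁻¹ * b⁻¹ := by rw [hab]
        _ = b₀ * a * (b * b₀⁻¹) * b⁻¹ := by group
        _ = b₀ * a * (b₀⁻¹ * b) * b⁻¹ := by rw [e3]
        _ = b₀ * a * b₀⁻¹ := by group
    have h8 : b₀ * a * b₀⁻¹ ∈ conjBy C b := by
      rw [mem_conjBy]
      have : b⁻¹ * (b₀ * a * b₀⁻¹) * b = b₀ * a * b₀⁻¹ := by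
        nth_rewrite 1 [← h7]; group
      rw [this]; exact h6
    rw [← h3, mem_conjBy, inv_inv] at h8
    have h9 : c₂ * (b₀ * a * b₀⁻¹) * c₂⁻¹ = b₀ * a * b₀⁻¹ := by
      rw [mul_comm_of_mem hCc hc₂ h6]; group
    rw [h9] at h8
    have h10 := rop_eq_one_of_mem_normalizer hCB h6 (Subgroup.le_normalizer h8)
    apply ha1
    calc a = b₀⁻¹ * (b₀ * a * b₀⁻¹) * b₀ := by group
      _ = 1 := by rw [h10]; group


/-- Let S be a degenerate set of abstract root subgroups of G (a set of abstract transvection groups) and let a, b be commuting non-identity elements of members of S with a b ≠ 1. Then the members of S centralizing a b are exactly those centralizing both a and b. -/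
theorem result {G : Type*} [Group G] {S : Set (Subgroup G)} (hS : Cfsg.IsRootSubgroupSet S) (hdeg : Cfsg.IsDegenerateRootSet S)
    {a b : G} (ha : a ∈ Cfsg.rootElements S) (hb : b ∈ Cfsg.rootElements S) (hab : a * b = b * a) (hab1 : a * b ≠ 1) :
    Cfsg.centralizingMembers S (Subgroup.zpowers (a * b)) =
      Cfsg.centralizingMembers S (Subgroup.zpowers a) ∩ Cfsg.centralizingMembers S (Subgroup.zpowers b) := by
  obtain ⟨ha1, A, hA, haA⟩ := ha
  obtain ⟨hb1, B, hB, hbB⟩ := hb
  ext C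
  unfold Cfsg.centralizingMembers
  simp only [Set.mem_ofPred_eq, Set.mem_inter_iff]
  rw [le_centralizer_zpowers_iff, le_centralizer_zpowers_iff, le_centralizer_zpowers_iff]
  constructor
  · rintro ⟨hC, hcent⟩
    have hgoal : (∀ c ∈ C, c * a = a * c) ∨ (∀ c ∈ C, c * b = b * c) := by
      rcases hS.pair C hC A hA with h1 | h2 | h3
      · left
        intro c hc
        exact mul_comm_of_commutator_eq_bot h1 hc haA
      · rcases hS.pair C hC B hB with h1' | h2' | h3'
        · right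
          intro c hc
          exact mul_comm_of_commutator_eq_bot h1' hc hbB
        · exfalso
          exact no_double_partner (hS.commutative B hB) (hS.commutative C hC) h2 h2' haA ha1 hbB hb1
            hab hab1 hcent
        · exact absurd h3' (hdeg C hC B hB)
      · exact absurd h3 (hdeg C hC A hA)
    rcases hgoal with h | h
    · refine ⟨⟨hC, h⟩, hC, ?_⟩
      intro c hc
      have e1 := hcent c hc
      have e2 := h c hc
      calc c * b = a⁻¹ * (a * c) * b := by group
        _ = a⁻¹ * (c * a) * b := by rw [e2]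
        _ = a⁻¹ * (c * (a * b)) := by group
        _ = a⁻¹ * (a * b * c) := by rw [e1]
        _ = b * c := by group
    · refine ⟨⟨hC, ?_⟩, hC, h⟩
      intro c hc
      have e1 := hcent c hc
      have e2 := h c hc
      calc c * a = c * (a * b) * b⁻¹ := by group
        _ = a * b * c * b⁻¹ := by rw [e1]
        _ = a * (b * c) * b⁻¹ := by group
        _ = a * (c * b) * b⁻¹ := by rw [e2]
        _ = a * c := by group
  · rintro ⟨⟨hC, h1⟩, -, h2⟩
    refine ⟨hC, ?_⟩
    intro c hc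
    rw [← mul_assoc, h1 c hc, mul_assoc, h2 c hc, mul_assoc]

end Cfsg.Agent.S5026
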