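import Cfsg.Statements.S5027
import Cfsg.Agent.Lib.helper85.RootSub2

set_option autoImplicit false
open Cfsg

namespace Cfsg.Agent.S5027

open Cfsg.Agent.Lib.helper85
open scoped commutatorElement


/-- Let S be a set of abstract root subgroups of G such that every member of S has a rank one partner in S (the graph of rank one pairs on S has no isolated vertex). Then the second centre of G equals its centre. -/
theorem result {G : Type*} [Group G] {S : Set (Subgroup G)} (hS : Cfsg.IsRootSubgroupSet S)
    (hF : ∀ A ∈ S, ¬ Cfsg.IsIsolatedIn (Cfsg.FAdj S) S A) : Subgroup.upperCentralSeries G 2 = Subgroup.center G := by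
  apply le_antisymm
  · intro z hz
    have hz' : z ∈ Subgroup.upperCentralSeries G (1 + 1) := hz
    rw [Subgroup.mem_upperCentralSeries_succ_iff] at hz'
    have hall : ∀ A ∈ S, ∀ a ∈ A, a * z = z * a := by
      intro A hA a ha
      by_cases ha1 : a = 1
      · rw [ha1]; simp
      obtain ⟨B, hB, hAB⟩ := exists_partner (hF A hA) hA
      have hw := hz' a
      rw [Subgroup.upperCentralSeries_one] at hw
      by_cases hw1 : ⁅z, a⁆ = 1
      · rw [commutatorElement_def] at hw1
        calc a * z = (z * a * z⁻¹ * a⁻¹)⁻¹ * (z * a) := by group
          _ = z * a := by rw [hw1]; group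
      · exfalso
        have hwc : ⁅z, a⁆ ∈ Subgroup.centralizer ((A ⊔ B : Subgroup G) : Set G) := by
          rw [Subgroup.mem_centralizer_iff]
          intro x _
          rw [Subgroup.mem_center_iff] at hw
          exact hw x
        have hmem : ⁅z, a⁆ * a ∈ Cfsg.conjBy A z := by
          have : ⁅z, a⁆ * a = z * a * z⁻¹ := by
            rw [commutatorElement_def]; group
          rw [this]
          exact conj_mem_conjBy ha
        exact centralizer_no_root hS hA hB hAB hwc hw1 ha ha1 (hS.conj_mem A hA z) hmem
    have htop : (⊤ : Subgroup G) ≤ Subgroup.centralizer ({z} : Set G) := by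
      rw [← hS.generates]
      apply iSup₂_le
      intro A hA a ha
      rw [Subgroup.mem_centralizer_iff]
      intro y hy
      rw [Set.mem_singleton_iff] at hy
      rw [hy]
      exact (hall A hA a ha).symm
    rw [Subgroup.mem_center_iff]
    intro g
    have := htop (Subgroup.mem_top g)
    rw [Subgroup.mem_centralizer_iff] at this
    exact (this z rfl).symm
  · rw [← Subgroup.upperCentralSeries_one]
    exact Subgroup.upperCentralSeries_mono G (by norm_num)

end Cfsg.Agent.S5027
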