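import Cfsg.Statements.S5032
import Cfsg.Agent.Lib.helper85.RootSub7
import Cfsg.Agent.S5029

set_option autoImplicit false
open Cfsg

namespace Cfsg.Agent.S5032

open Cfsg.Agent.Lib.helper85


/-- Let S be a set of abstract root subgroups of G with more than one member. Then the graph of rank one pairs on S is connected if and only if S is a single conjugacy class of G and some member of S has a rank one partner in S. -/
theorem result {G : Type*} [Group G] {S : Set (Subgroup G)} (hS : Cfsg.IsRootSubgroupSet S) (h2 : ∃ A ∈ S, ∃ B ∈ S, A ≠ B) :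
    Cfsg.IsConnectedFamily (Cfsg.FAdj S) S ↔
      (Cfsg.IsConjClassOfSubgroups S ∧ ∃ A ∈ S, ¬ Cfsg.IsIsolatedIn (Cfsg.FAdj S) S A) := by
  constructor
  · intro hc
    obtain ⟨A, hA, B, hB, hAB⟩ := h2
    refine ⟨⟨⟨A, hA⟩, fun E hE F hF => conj_of_reach (hc E hE F hF)⟩, A, hA, ?_⟩
    rcases (hc A hA B hB).cases_head with h1 | ⟨c, hc1, -⟩
    · exact absurd h1 hAB
    · exact not_isolated_of_partner hA hc1.2.1 hc1.2.2
  · rintro ⟨⟨-, hconj⟩, A₀, hA₀, hiso⟩
    obtain ⟨B₀, hB₀, hA₀B₀⟩ := exists_partner hiso hA₀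
    have hpartner : ∀ E ∈ S, ∃ E' ∈ S, Cfsg.IsRankOnePair E E' := by
      intro E hE
      obtain ⟨g, rfl⟩ := hconj A₀ hA₀ E hE
      exact ⟨Cfsg.conjBy B₀ g, hS.conj_mem B₀ hB₀ g, rop_conj hA₀B₀ g⟩
    have hniso : ∀ E ∈ S, ¬ Cfsg.IsIsolatedIn (Cfsg.FAdj S) S E := by
      intro E hE
      obtain ⟨E', hE', hEE'⟩ := hpartner E hE
      exact not_isolated_of_partner hE hE' hEE'
    have hcomm : ∀ E ∈ S, ∀ F ∈ S, ¬ Relation.ReflTransGen (Cfsg.FAdj S) E F →
        ∀ e ∈ E, ∀ f ∈ F, e * f = f * e := by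
      intro E hE F hF hnr
      rcases hS.pair E hE F hF with h1 | h2 | h3
      · intro e he f hf
        exact mul_comm_of_commutator_eq_bot h1 he hf
      · exact absurd (Relation.ReflTransGen.single ⟨hE, hF, h2⟩) hnr
      · exfalso
        have hC : ⁅E, F⁆ ∈ S := h3.1
        have hC' : ⁅F, E⁆ ∈ S := by rw [Subgroup.commutator_comm]; exact hC
        have hl1 : E ∈ Cfsg.linePartners S ⁅E, F⁆ :=
          (Cfsg.Agent.S5029.result hS (hniso E hE) hE hF hC).2.2.1
        have hl2 : F ∈ Cfsg.linePartners S ⁅F, E⁆ :=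
          (Cfsg.Agent.S5029.result hS (hniso F hF) hF hE hC').2.2.1
        obtain ⟨C₁, hC₁, hCC₁⟩ := hpartner _ hC
        obtain ⟨C₂, hC₂, hCC₂⟩ := hpartner _ hC'
        obtain ⟨E', hE', hEE'⟩ := hpartner E hE
        obtain ⟨F', hF', hFF'⟩ := hpartner F hF
        by_cases h4 : Relation.ReflTransGen (Cfsg.FAdj S) ⁅E, F⁆ E
        · by_cases h5 : Relation.ReflTransGen (Cfsg.FAdj S) ⁅F, E⁆ F
          · apply hnr
            have h6 := reach_symm h4
            rw [Subgroup.commutator_comm] at h6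
            exact h6.trans h5
          · exact no_line_partner_across hS hC' hF hC₂ hCC₂ hF' hFF' h5 hl2
        · exact no_line_partner_across hS hC hE hC₁ hCC₁ hE' hEE' h4 hl1
    have hmem : ∀ F ∈ S, ∀ g ∈ F, ∀ E ∈ S,
        Relation.ReflTransGen (Cfsg.FAdj S) E (Cfsg.conjBy E g) := by
      intro F hF g hg E hE
      by_cases h : Relation.ReflTransGen (Cfsg.FAdj S) E F
      · have h1 := reach_conj hS h g
        rw [conjBy_of_mem hg] at h1
        exact h.trans (reach_symm h1)
      · have h1 : Cfsg.conjBy E g = E := by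
          rw [conjBy_eq_self_iff]
          exact mem_normalizer_of_forall_comm (fun e he => (hcomm E hE F hF h e he g hg).symm)
        rw [h1]
    have hall := reach_conj_self_of_members hS hmem
    intro A hA B hB
    obtain ⟨g, rfl⟩ := hconj A hA B hB
    exact hall g A hA

end Cfsg.Agent.S5032
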