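import Cfsg.Statements.S5035
import Cfsg.Agent.Lib.helper85.RootSub5

set_option autoImplicit false
open Cfsg

namespace Cfsg.Agent.S5035

open Cfsg.Agent.Lib.helper85


/-- Let S be a set of abstract root subgroups of G whose graph of rank one pairs is connected, and f a homomorphism from G onto a group H. Then either the images of the members of S form a set of abstract root subgroups of H whose graph of rank one pairs is again connected, or H equals the image of a member of S. -/
theorem result {G H : Type*} [Group G] [Group H] {S : Set (Subgroup G)} (hS : Cfsg.IsRootSubgroupSet S)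
    (hc : Cfsg.IsConnectedFamily (Cfsg.FAdj S) S) (f : G →* H) (hf : Function.Surjective f) :
    (Cfsg.IsRootSubgroupSet ((fun A : Subgroup G => A.map f) '' S) ∧
      Cfsg.IsConnectedFamily (Cfsg.FAdj ((fun A : Subgroup G => A.map f) '' S)) ((fun A : Subgroup G => A.map f) '' S)) ∨
    ∃ A ∈ S, A.map f = ⊤ := by
  by_cases hbot : ∃ A ∈ S, A.map f = ⊥
  · right
    obtain ⟨A₀, hA₀, hA₀bot⟩ := hbot
    refine ⟨A₀, hA₀, ?_⟩
    have hall : ∀ A ∈ S, A.map f = ⊥ := by
      intro A hA
      have hpath := hc A₀ hA₀ A hA
      induction hpath with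
      | refl => exact hA₀bot
      | tail _ hstep ih =>
        obtain ⟨hE, hE', hrop⟩ := hstep
        obtain ⟨x, -, hx⟩ := rop_right_mem_unipotent hrop
        rw [hx, map_conjBy, ih hE]
        ext y
        rw [mem_conjBy, Subgroup.mem_bot, Subgroup.mem_bot]
        constructor
        · intro hy
          calc y = f x * ((f x)⁻¹ * y * f x) * (f x)⁻¹ := by group
            _ = 1 := by rw [hy]; group
        · intro hy
          rw [hy]; group
    rw [hA₀bot]
    rw [← Subgroup.map_top_of_surjective f hf, ← hS.generates, Subgroup.map_iSup]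
    symm
    rw [eq_bot_iff]
    apply iSup_le
    intro A
    rw [Subgroup.map_iSup]
    apply iSup_le
    intro hA
    rw [hall A hA]
  · left
    push Not at hbot
    have hpairdich : ∀ E ∈ S, ∀ E' ∈ S, Cfsg.IsRankOnePair E E' →
        E'.map f = E.map f ∨ Cfsg.IsRankOnePair (E.map f) (E'.map f) :=
      fun E hE E' hE' hrop =>
        rop_map_dichotomy f hrop (hS.commutative E hE) (hS.commutative E' hE')
    refine ⟨⟨?_, ?_, ?_, ?_, ?_⟩, ?_⟩
    · rintro _ ⟨A, hA, rfl⟩
      exact map_comm f (hS.commutative A hA)
    · rintro _ ⟨A, hA, rfl⟩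
      exact hbot A hA
    · rw [iSup_image, ← Subgroup.map_top_of_surjective f hf, ← hS.generates, Subgroup.map_iSup]
      congr 1
      ext A
      rw [Subgroup.map_iSup]
    · rintro _ ⟨A, hA, rfl⟩ h
      obtain ⟨g, rfl⟩ := hf h
      exact ⟨Cfsg.conjBy A g, hS.conj_mem A hA g, map_conjBy f A g⟩
    · rintro _ ⟨A, hA, rfl⟩ _ ⟨B, hB, rfl⟩
      rcases hS.pair A hA B hB with h1 | h2 | h3
      · left
        show ⁅A.map f, B.map f⁆ = ⊥
        rw [← Subgroup.map_commutator, h1, Subgroup.map_bot]
      · rcases hpairdich A hA B hB h2 with h4 | h4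
        · left
          show ⁅A.map f, B.map f⁆ = ⊥
          rw [h4, Subgroup.commutator_self_eq_bot_iff]
          exact map_comm f (hS.commutative A hA)
        · right; left; exact h4
      · right; right
        exact cc_map f h3
    · rintro _ ⟨A, hA, rfl⟩ _ ⟨B, hB, rfl⟩
      have key : ∀ B : Subgroup G, Relation.ReflTransGen (Cfsg.FAdj S) A B → B ∈ S →
          Relation.ReflTransGen (Cfsg.FAdj ((fun A : Subgroup G => A.map f) '' S))
            (A.map f) (B.map f) := by
        intro B hpath
        induction hpath with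
        | refl => intro _; exact Relation.ReflTransGen.refl
        | tail _ hstep ih =>
          intro _
          obtain ⟨hE, hE', hrop⟩ := hstep
          rcases hpairdich _ hE _ hE' hrop with h4 | h4
          · rw [h4]; exact ih hE
          · exact Relation.ReflTransGen.tail (ih hE) ⟨⟨_, hE, rfl⟩, ⟨_, hE', rfl⟩, h4⟩
      exact key B (hc A hA B hB) hB

end Cfsg.Agent.S5035
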