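import Cfsg.Statements.S5037
import Cfsg.Agent.Lib.helper85.Matching

set_option autoImplicit false
open Cfsg

namespace Cfsg.Agent.S5037

/-- Let S be a class of abstract root subgroups of G that is either degenerate or non-degenerate (so either the commutator case never occurs, or all three cases occur), and A ≠ C members of S. If every member of S commuting with A commutes with C, then A and C have the same commuting members of S; and if every rank one partner of A is a rank one partner of C, then A and C commute and have the same rank one partners. -/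
theorem result {G : Type*} [Group G] {S : Set (Subgroup G)} (hS : Cfsg.IsRootSubgroupClass S)
    (hdn : Cfsg.IsDegenerateRootSet S ∨ Cfsg.IsNondegenerateRootSet S)
    {A C : Subgroup G} (hA : A ∈ S) (hC : C ∈ S) (hAC : A ≠ C) :
    (Cfsg.centralizingMembers S A ⊆ Cfsg.centralizingMembers S C →
      Cfsg.centralizingMembers S A = Cfsg.centralizingMembers S C) ∧
    (Cfsg.rankOnePartners S A ⊆ Cfsg.rankOnePartners S C →
      ⁅A, C⁆ = ⊥ ∧ Cfsg.rankOnePartners S A = Cfsg.rankOnePartners S C) := by
  by_cases hrk : ∃ P ∈ S, ∃ Q ∈ S, Cfsg.IsRankOnePair P Q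
  · have hiso := Cfsg.Agent.Lib.helper85.class_exists_partner hS hrk
    exact ⟨fun h => Cfsg.Agent.Lib.helper85.centralizing_eq_of_sub hS.1 hiso hA hC h,
      fun h => Cfsg.Agent.Lib.helper85.rankOnePartners_eq_of_sub hS.1 hiso hA hC h⟩
  · have hdeg : Cfsg.IsDegenerateRootSet S := by
      rcases hdn with h | h
      · exact h
      · exact absurd h.2.1 hrk
    have hall : ∀ P ∈ S, ∀ Q ∈ S, ⁅P, Q⁆ = ⊥ := by
      intro P hP Q hQ
      rcases hS.1.pair P hP Q hQ with h1 | h2 | h3
      · exact h1
      · exact absurd ⟨P, hP, Q, hQ, h2⟩ hrk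
      · exact absurd h3 (hdeg P hP Q hQ)
    constructor
    · intro _
      ext T
      constructor
      · rintro ⟨hT, -⟩
        exact ⟨hT, Subgroup.commutator_eq_bot_iff_le_centralizer.mp (hall T hT C hC)⟩
      · rintro ⟨hT, -⟩
        exact ⟨hT, Subgroup.commutator_eq_bot_iff_le_centralizer.mp (hall T hT A hA)⟩
    · intro _
      refine ⟨hall A hA C hC, ?_⟩
      ext T
      constructor
      · rintro ⟨hT, h⟩
        exact absurd ⟨A, hA, T, hT, h⟩ hrk
      · rintro ⟨hT, h⟩
        exact absurd ⟨C, hC, T, hT, h⟩ hrk

end Cfsg.Agent.S5037
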