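import Cfsg.Statements.S5038
import Cfsg.Agent.Lib.helper85.Line2

set_option autoImplicit false
open Cfsg

namespace Cfsg.Agent.S5038

/-- Let S be a set of abstract root subgroups of G in which every member has a rank one partner, A ∈ S and B a line partner of A. Then the subgroup generated by the members of S normalizing AB permutes the members of S inside AB doubly transitively by conjugation. -/
theorem result {G : Type*} [Group G] {S : Set (Subgroup G)} (hS : Cfsg.IsRootSubgroupSet S)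
    (hF : ∀ A ∈ S, ¬ Cfsg.IsIsolatedIn (Cfsg.FAdj S) S A) {A B : Subgroup G} (hA : A ∈ S) (hB : B ∈ Cfsg.linePartners S A) :
    ∀ C₁ ∈ Cfsg.membersIn S (A ⊔ B), ∀ C₂ ∈ Cfsg.membersIn S (A ⊔ B), ∀ D₁ ∈ Cfsg.membersIn S (A ⊔ B),
      ∀ D₂ ∈ Cfsg.membersIn S (A ⊔ B), C₁ ≠ C₂ → D₁ ≠ D₂ →
        ∃ x ∈ ⨆ E ∈ Cfsg.normalizingMembers S (A ⊔ B), E, Cfsg.conjBy C₁ x = D₁ ∧ Cfsg.conjBy C₂ x = D₂ := by
  have hiso : ∀ A ∈ S, ∃ D ∈ S, Cfsg.IsRankOnePair A D := fun A hA =>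
    Cfsg.Agent.Lib.helper85.exists_partner (hF A hA) hA
  obtain ⟨C, hC, hAC⟩ := hiso A hA
  obtain ⟨E, hE, hEA, hFS, hdc, hsup⟩ := Cfsg.Agent.Lib.helper85.line_center hS hiso hA hB hC hAC
  have hc1 := Cfsg.Agent.Lib.helper85.lineCentre_of hS hA ⟨C, hC, hAC⟩ hFS hdc hE.1
  have hAl : A ∈ Cfsg.linePartners S E := by
    have h := (Cfsg.Agent.S5029.result hS (hF A hA) hA hFS (by rw [hdc]; exact hE.1)).2.2.1
    rw [hdc] at h; exact h
  obtain ⟨C', hC', hEC'⟩ := hiso E hE.1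
  obtain ⟨E', hE', hE'E, hF'S, hdc', hsup'⟩ :=
    Cfsg.Agent.Lib.helper85.line_center hS hiso hE.1 hAl hC' hEC'
  have hc2 := Cfsg.Agent.Lib.helper85.lineCentre_of hS hE.1 ⟨C', hC', hEC'⟩ hF'S hdc' hE'.1
  have e1 : A ⊔ E = A ⊔ B := hsup.symm
  have e2 : E ⊔ E' = A ⊔ B := by rw [← hsup', sup_comm, e1]
  rw [e1] at hc1
  rw [e2] at hc2
  exact Cfsg.Agent.Lib.helper85.two_transitive_of_centres hS hc1.1 hc2.1 hE'E.symm hc1.2

end Cfsg.Agent.S5038
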