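import Cfsg.Statements.S5041
import Cfsg.Agent.Lib.helper85.Line3

set_option autoImplicit false
open Cfsg

namespace Cfsg.Agent.S5041

/-- Let S be a non-degenerate class of abstract root subgroups of G. Then the graph on S joining A to its line partners, and the commuting graph on S, are both connected. -/
theorem result {G : Type*} [Group G] {S : Set (Subgroup G)} (hS : Cfsg.IsRootSubgroupClass S) (hnd : Cfsg.IsNondegenerateRootSet S) :
    Cfsg.IsConnectedFamily (Cfsg.EAdj S S) S ∧ Cfsg.IsConnectedFamily (Cfsg.DAdj S) S := by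
  have h1 := Cfsg.Agent.Lib.helper85.eadj_connected hS hnd
  refine ⟨h1, ?_⟩
  have key : ∀ A B : Subgroup G, Relation.ReflTransGen (Cfsg.EAdj S S) A B →
      Relation.ReflTransGen (Cfsg.DAdj S) A B := by
    intro A B h2
    induction h2 with
    | refl => exact Relation.ReflTransGen.refl
    | tail _ hPQ ih =>
      exact Relation.ReflTransGen.tail ih ⟨hPQ.1, hPQ.2.1, hPQ.2.2.1.2.1.symm, hPQ.2.2.1.2.2⟩
  intro A hA B hB
  exact key A B (h1 A hA B hB)

end Cfsg.Agent.S5041
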