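import Cfsg.Statements.S5046
import Cfsg.Agent.Lib.helper85.RootInv4

set_option autoImplicit false
open Cfsg

namespace Cfsg.Agent.S5046

/-- Let G be a finite group generated by a set D of root involutions whose odd-order-product graph is connected, and d ∈ D. Then the members e of D with the same commuting members as d are exactly those for which the union of the commuting members of d and the members whose product with d has order 4 equals the corresponding union for e. -/
theorem result {G : Type*} [Group G] [Finite G] {D : Set G} (hD : Cfsg.IsRootInvolutionSet D)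
    (hc : Cfsg.IsConnectedSet (Cfsg.OddAdj D) D) {d : G} (hd : d ∈ D) :
    Cfsg.sameCommutingClass D d =
      {e | e ∈ D ∧ Cfsg.commutingMembers D d ∪ Cfsg.fourPartners D d = Cfsg.commutingMembers D e ∪ Cfsg.fourPartners D e} := by
  have hcl : ∀ a ∈ D, ∀ b ∈ D, ∃ g : G, b = g * a * g⁻¹ := fun a ha b hb =>
    Cfsg.Agent.Lib.helper85.ri2_conj_of_reach hD (hc a ha b hb)
  ext e
  constructor
  · rintro ⟨he, hC⟩
    refine ⟨he, ?_⟩
    rw [Cfsg.Agent.Lib.helper85.ri3_CV_eq_iff hD hd he]
    apply Cfsg.Agent.Lib.helper85.ri3_tw_of_comm_eq hD hd he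
    intro z hz
    constructor
    · intro h
      have h1 : z ∈ Cfsg.commutingMembers D d := ⟨hz, h⟩
      rw [hC] at h1
      exact h1.2
    · intro h
      have h1 : z ∈ Cfsg.commutingMembers D e := ⟨hz, h⟩
      rw [← hC] at h1
      exact h1.2
  · rintro ⟨he, hCV⟩
    refine ⟨he, ?_⟩
    have htw := (Cfsg.Agent.Lib.helper85.ri3_CV_eq_iff hD hd he).mp hCV
    ext z
    constructor
    · rintro ⟨hz, h⟩
      exact ⟨hz, Cfsg.Agent.Lib.helper85.ri4_comm_of_tw hD hcl he htw hz h⟩
    · rintro ⟨hz, h⟩
      exact ⟨hz, Cfsg.Agent.Lib.helper85.ri4_comm_of_tw hD hcl hd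
        (Cfsg.Agent.Lib.helper85.ri3Tw_symm htw) hz h⟩

end Cfsg.Agent.S5046
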