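import Cfsg.Statements.S5049
-- import your own Cfsg.Agent.* helpers here

set_option autoImplicit false
open Cfsg

namespace Cfsg.Agent.S5049


theorem pCore_isPGroup (p : ℕ) (G : Type*) [Group G] : IsPGroup p (Cfsg.pCore p G) :=
  Sylow.sSup_of_normal _ (fun _ h => h.2) (fun _ h => h.1)

theorem pCore_normal (p : ℕ) (G : Type*) [Group G] : (Cfsg.pCore p G).Normal :=
  Subgroup.sSup_normal _ (fun _ h => h.1)

theorem sq_eq_one {G : Type*} [Group G] {D : Set G} (hD : Cfsg.IsRootInvolutionSet D) {d : G} (hd : d ∈ D) :
    d * d = 1 := by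
  have := pow_orderOf_eq_one d
  rw [hD.orderOf_eq d hd, pow_two] at this
  exact this

theorem inv_eq_self {G : Type*} [Group G] {D : Set G} (hD : Cfsg.IsRootInvolutionSet D) {d : G} (hd : d ∈ D) :
    d⁻¹ = d := inv_eq_of_mul_eq_one_left (sq_eq_one hD hd)

/-- key lemma: if `e, c ∈ D` commute then `e` commutes with every `O₂(G)`-conjugate of `c`. -/
theorem key {G : Type*} [Group G] {D : Set G} (hD : Cfsg.IsOddTranspositionSet D)
    {e c : G} (he : e ∈ D) (hc : c ∈ D) (hec : e * c = c * e) {q : G} (hq : q ∈ Cfsg.pCore 2 G) :
    e * (q * c * q⁻¹) = (q * c * q⁻¹) * e := by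
  have hc' : q * c * q⁻¹ ∈ D := hD.1.conj_mem c hc q
  have hN := pCore_normal 2 G
  rcases hD.1.pair e he _ hc' with h | h | h
  · exact h
  · -- odd order: then the product is trivial
    obtain ⟨x, hx⟩ : ∃ x, x = e * (q * c * q⁻¹) := ⟨_, rfl⟩
    rw [← hx] at h
    have hee := sq_eq_one hD.1 he
    have hcc := sq_eq_one hD.1 hc
    have hec2 : (e * c) * (e * c) = 1 := by
      calc (e * c) * (e * c) = e * (c * e) * c := by group
        _ = e * (e * c) * c := by rw [hec]
        _ = (e * e) * (c * c) := by group
        _ = 1 := by rw [hee, hcc, one_mul]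
    obtain ⟨u, hu⟩ : ∃ u, u = c⁻¹ * q * c * q⁻¹ := ⟨_, rfl⟩
    have huQ : u ∈ Cfsg.pCore 2 G := by
      have h1 : c⁻¹ * q * c⁻¹⁻¹ ∈ Cfsg.pCore 2 G := hN.conj_mem q hq c⁻¹
      rw [inv_inv] at h1
      have := (Cfsg.pCore 2 G).mul_mem h1 ((Cfsg.pCore 2 G).inv_mem hq)
      simpa [hu, mul_assoc] using this
    have hxu : x = (e * c) * u := by rw [hx, hu]; group
    have hx2 : x * x ∈ Cfsg.pCore 2 G := by
      have h1 : (e * c)⁻¹ * u * (e * c)⁻¹⁻¹ ∈ Cfsg.pCore 2 G := hN.conj_mem u huQ (e * c)⁻¹
      rw [inv_inv] at h1
      have h2 := (Cfsg.pCore 2 G).mul_mem h1 huQ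
      have h3 : x * x = (e * c)⁻¹ * u * (e * c) * u := by
        rw [hxu]
        have : (e * c)⁻¹ = e * c := inv_eq_of_mul_eq_one_left hec2
        rw [this]
        group
      rw [h3]; exact h2
    obtain ⟨k, hk⟩ := pCore_isPGroup 2 G ⟨x * x, hx2⟩
    have hk' : (x * x) ^ 2 ^ k = 1 := by
      have := congrArg Subtype.val hk
      simpa using this
    have hk2 : x ^ 2 ^ (k + 1) = 1 := by
      rw [pow_succ, mul_comm, pow_mul, pow_two]; exact hk'
    have hd : orderOf x ∣ 2 ^ (k + 1) := orderOf_dvd_of_pow_eq_one hk2
    have hcop : Nat.Coprime (orderOf x) (2 ^ (k + 1)) :=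
      Nat.Coprime.pow_right _ (Nat.Coprime.symm (Nat.coprime_two_left.mpr h))
    have h1 : orderOf x = 1 := Nat.eq_one_of_dvd_coprimes hcop dvd_rfl hd
    have hx1 : x = 1 := orderOf_eq_one_iff.mp h1
    have : q * c * q⁻¹ = e⁻¹ := eq_inv_of_mul_eq_one_right (hx ▸ hx1)
    rw [this]; group
  · exact absurd h.1 (hD.2 e he _ hc')

/-- Let G be a finite group generated by a set D of odd transpositions (root involutions with no product of order 4), Q = O₂(G), and for a ∈ D let Q_a be the commutator subgroup of Q with a. Then every member of D commuting with a centralizes Q_a; and for b ∈ D with ab of odd order greater than 1, the centralizer of ab in Q is the intersection of the centralizers of a and b in Q. -/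
theorem result {G : Type*} [Group G] [Finite G] {D : Set G} (hD : Cfsg.IsOddTranspositionSet D) {a : G} (ha : a ∈ D) :
    (∀ e ∈ Cfsg.commutingMembers D a, ∀ q ∈ ⁅Cfsg.pCore 2 G, Subgroup.zpowers a⁆, e * q = q * e) ∧
    (∀ b ∈ Cfsg.oddPartners D a,
      Cfsg.pCore 2 G ⊓ Subgroup.centralizer {a * b} = Cfsg.pCore 2 G ⊓ Subgroup.centralizer {a} ⊓ Subgroup.centralizer {b}) := by
  have hDr := hD.1
  have haa := sq_eq_one hDr ha
  have hainv := inv_eq_self hDr ha
  constructor
  · rintro e ⟨he, hea⟩ q hq
    have hle : ⁅Cfsg.pCore 2 G, Subgroup.zpowers a⁆ ≤ Subgroup.centralizer {e} := by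
      rw [Subgroup.commutator_le]
      intro g₁ hg₁ g₂ hg₂
      obtain ⟨n, rfl⟩ := Subgroup.mem_zpowers_iff.mp hg₂
      rw [Subgroup.mem_centralizer_singleton_iff, commutatorElement_def]
      have h1 : Commute e (g₁ * a * g₁⁻¹) := key hD he ha hea hg₁
      have h2 : Commute e (g₁ * a ^ n * g₁⁻¹) := by
        rw [← conj_zpow]; exact h1.zpow_right n
      have h3 : Commute e (a ^ n)⁻¹ := (Commute.zpow_right hea n).inv_right
      exact ((h2.mul_right h3).eq).symm
    exact (Subgroup.mem_centralizer_singleton_iff.mp (hle hq)).symm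
  · rintro b ⟨hb, hba, hodd⟩
    have hbb := sq_eq_one hDr hb
    have hbinv := inv_eq_self hDr hb
    apply le_antisymm
    · rintro q ⟨hqQ, hqc⟩
      have hqc' : q * (a * b) = a * b * q := Subgroup.mem_centralizer_singleton_iff.mp hqc
      -- a' = q a q⁻¹ commutes with a; b' = q b q⁻¹ commutes with b
      have hca : a * (q * a * q⁻¹) = (q * a * q⁻¹) * a := key hD ha ha rfl hqQ
      have hcb : b * (q * b * q⁻¹) = (q * b * q⁻¹) * b := key hD hb hb rfl hqQ
      have ha'D : q * a * q⁻¹ ∈ D := hDr.conj_mem a ha q
      have hab' : (q * a * q⁻¹) * (q * b * q⁻¹) = a * b := by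
        calc (q * a * q⁻¹) * (q * b * q⁻¹) = q * (a * b) * q⁻¹ := by group
          _ = a * b * q * q⁻¹ := by rw [hqc']
          _ = a * b := by group
      obtain ⟨a', ha'⟩ : ∃ a', a' = q * a * q⁻¹ := ⟨_, rfl⟩
      obtain ⟨b', hb'⟩ : ∃ b', b' = q * b * q⁻¹ := ⟨_, rfl⟩
      rw [← ha'] at hca ha'D hab'
      rw [← hb'] at hcb hab'
      have ha'a' : a' * a' = 1 := sq_eq_one hDr ha'D
      obtain ⟨u, hu⟩ : ∃ u, u = a * a' := ⟨_, rfl⟩
      have hu2 : u * u = 1 := by
        calc u * u = a * (a' * a) * a' := by rw [hu]; group
          _ = a * (a * a') * a' := by rw [hca]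
          _ = (a * a) * (a' * a') := by group
          _ = 1 := by rw [haa, ha'a', one_mul]
      have hub : u = b * b' := by
        have h1 : b' = a' * (a * b) := by
          calc b' = (a' * a') * b' := by rw [ha'a', one_mul]
            _ = a' * (a' * b') := by group
            _ = a' * (a * b) := by rw [hab']
        calc u = a' * a := by rw [hu, hca]
          _ = a' * a * (b * b) := by rw [hbb, mul_one]
          _ = (a' * (a * b)) * b := by group
          _ = b' * b := by rw [← h1]
          _ = b * b' := hcb.symm
      have hua : u * a = a * u := by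
        calc u * a = a * (a' * a) := by rw [hu]; group
          _ = a * (a * a') := by rw [hca]
          _ = a * u := by rw [hu]
      have hubc : u * b = b * u := by
        calc u * b = b * (b' * b) := by rw [hub]; group
          _ = b * (b * b') := by rw [hcb]
          _ = b * u := by rw [hub]
      have ha'eq : a' = a * u := by
        calc a' = (a * a) * a' := by rw [haa, one_mul]
          _ = a * u := by rw [hu]; group
      have hur : Commute u (a * b) := by
        unfold Commute SemiconjBy
        calc u * (a * b) = (u * a) * b := by group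
          _ = (a * u) * b := by rw [hua]
          _ = a * (u * b) := by group
          _ = a * (b * u) := by rw [hubc]
          _ = a * b * u := by group
      have hx : a' * b = (a * b) * u := by
        calc a' * b = a * (u * b) := by rw [ha'eq]; group
          _ = a * (b * u) := by rw [hubc]
          _ = a * b * u := by group
      have hab1 : a * b ≠ 1 := by
        intro h
        apply hba
        have : b = a⁻¹ := eq_inv_of_mul_eq_one_right h
        rw [this, hainv]
      have hu1 : u = 1 := by
        rcases hDr.pair a' ha'D b hb with h | h | h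
        · -- a' b = b a' forces ab = ba
          exfalso
          have hab : a * b = b * a := by
            have h1 : a * u * b = b * (a * u) := by rw [← ha'eq]; exact h
            have h2 : a * b * u = b * a * u := by
              calc a * b * u = a * (b * u) := by group
                _ = a * (u * b) := by rw [hubc]
                _ = a * u * b := by group
                _ = b * (a * u) := h1
                _ = b * a * u := by group
            exact mul_right_cancel h2
          have h2 : (a * b) ^ 2 = 1 := by
            rw [pow_two]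
            calc a * b * (a * b) = a * (b * a) * b := by group
              _ = a * (a * b) * b := by rw [hab]
              _ = (a * a) * (b * b) := by group
              _ = 1 := by rw [haa, hbb, one_mul]
          have hd : orderOf (a * b) ∣ 2 := orderOf_dvd_of_pow_eq_one h2
          have hcop : Nat.Coprime (orderOf (a * b)) 2 := Nat.Coprime.symm (Nat.coprime_two_left.mpr hodd)
          have : orderOf (a * b) = 1 := Nat.eq_one_of_dvd_coprimes hcop dvd_rfl hd
          exact hab1 (orderOf_eq_one_iff.mp this)
        · -- odd order m of x = (ab) u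
          obtain ⟨N, hN⟩ : ∃ N, N = orderOf (a' * b) * orderOf (a * b) := ⟨_, rfl⟩
          have hm : (a' * b) ^ N = 1 := by
            rw [hN, pow_mul, pow_orderOf_eq_one, one_pow]
          rw [hx, hur.symm.mul_pow] at hm
          have h1 : (a * b) ^ N = 1 := by
            rw [hN, mul_comm, pow_mul, pow_orderOf_eq_one, one_pow]
          rw [h1, one_mul] at hm
          have hoddmn : Odd N := hN ▸ h.mul hodd
          obtain ⟨t, ht⟩ := hoddmn
          rw [ht, pow_succ, pow_mul, pow_two, hu2, one_pow, one_mul] at hm
          exact hm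
        · exact absurd h.1 (hD.2 a' ha'D b hb)
      have hqa : q * a = a * q := by
        have h1 : a' = a := by rw [ha'eq, hu1, mul_one]
        calc q * a = (q * a * q⁻¹) * q := by group
          _ = a * q := by rw [← ha', h1]
      have hqb : q * b = b * q := by
        calc q * b = a * (a * (q * b)) := by rw [← mul_assoc a a, haa, one_mul]
          _ = a * ((a * q) * b) := by group
          _ = a * ((q * a) * b) := by rw [hqa]
          _ = a * (q * (a * b)) := by group
          _ = a * (a * b * q) := by rw [hqc']
          _ = (a * a) * (b * q) := by group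
          _ = b * q := by rw [haa, one_mul]
      exact ⟨⟨hqQ, Subgroup.mem_centralizer_singleton_iff.mpr hqa⟩,
        Subgroup.mem_centralizer_singleton_iff.mpr hqb⟩
    · rintro q ⟨⟨hqQ, hqa⟩, hqb⟩
      refine ⟨hqQ, ?_⟩
      have hqa := Subgroup.mem_centralizer_singleton_iff.mp hqa
      have hqb := Subgroup.mem_centralizer_singleton_iff.mp hqb
      refine Subgroup.mem_centralizer_singleton_iff.mpr ?_
      calc q * (a * b) = (q * a) * b := by group
        _ = (a * q) * b := by rw [hqa]
        _ = a * (q * b) := by group
        _ = a * (b * q) := by rw [hqb]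
        _ = a * b * q := by group

end Cfsg.Agent.S5049
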