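import Cfsg.Statements.S5057
-- import your own Cfsg.Agent.* helpers here

set_option autoImplicit false
open Cfsg

namespace Cfsg.Agent.S5057


open Equiv Equiv.Perm

/-- the possible cycle types of an even permutation of six points. -/
theorem cycleType_cases (σ : Perm (Fin 6)) (hs : sign σ = 1) :
    σ.cycleType = 0 ∨ σ.cycleType = {3} ∨ σ.cycleType = {5} ∨ σ.cycleType = {2, 2} ∨
      σ.cycleType = {2, 4} ∨ σ.cycleType = {3, 3} := by
  have h2 : ∀ n ∈ σ.cycleType, 2 ≤ n := fun n hn => two_le_of_mem_cycleType hn
  have hsum : σ.cycleType.sum ≤ 6 := by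
    have := sum_cycleType_le σ
    simpa using this
  have hpar : Even (σ.cycleType.sum + Multiset.card σ.cycleType) := by
    rw [sign_of_cycleType] at hs
    have hne : (-1 : ℤˣ) ≠ 1 := by decide
    exact (neg_one_pow_eq_one_iff_even hne).mp hs
  have hcard : Multiset.card σ.cycleType • 2 ≤ σ.cycleType.sum :=
    Multiset.card_nsmul_le_sum h2
  obtain ⟨m, hm⟩ : ∃ m, m = σ.cycleType := ⟨_, rfl⟩
  rw [← hm] at h2 hsum hpar hcard ⊢
  have hc3 : Multiset.card m ≤ 3 := by
    simp only [smul_eq_mul] at hcard
    omega
  have hc : Multiset.card m = 0 ∨ Multiset.card m = 1 ∨ Multiset.card m = 2 ∨ Multiset.card m = 3 := by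
    omega
  rcases hc with h | h | h | h
  · left; exact Multiset.card_eq_zero.mp h
  · obtain ⟨a, rfl⟩ := Multiset.card_eq_one.mp h
    have ha : 2 ≤ a := h2 a (by simp)
    simp only [Multiset.sum_singleton, Multiset.card_singleton] at hsum hpar
    have : a = 3 ∨ a = 5 := by
      rcases hpar with ⟨r, hr⟩
      omega
    rcases this with rfl | rfl
    · right; left; rfl
    · right; right; left; rfl
  · obtain ⟨a, b, rfl⟩ := Multiset.card_eq_two.mp h
    have ha : 2 ≤ a := h2 a (by simp)
    have hb : 2 ≤ b := h2 b (by simp)
    simp only [Multiset.insert_eq_cons, Multiset.sum_cons, Multiset.sum_singleton, Multiset.card_cons,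
      Multiset.card_singleton] at hsum hpar
    have : (a = 2 ∧ b = 2) ∨ (a = 2 ∧ b = 4) ∨ (a = 4 ∧ b = 2) ∨ (a = 3 ∧ b = 3) := by
      rcases hpar with ⟨r, hr⟩
      omega
    rcases this with ⟨rfl, rfl⟩ | ⟨rfl, rfl⟩ | ⟨rfl, rfl⟩ | ⟨rfl, rfl⟩
    · right; right; right; left; rfl
    · right; right; right; right; left; rfl
    · right; right; right; right; left; exact Multiset.pair_comm 4 2
    · right; right; right; right; right; rfl
  · exfalso
    obtain ⟨a, b, c, rfl⟩ := Multiset.card_eq_three.mp h
    have ha : 2 ≤ a := h2 a (by simp)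
    have hb : 2 ≤ b := h2 b (by simp)
    have hc : 2 ≤ c := h2 c (by simp)
    simp only [Multiset.insert_eq_cons, Multiset.sum_cons, Multiset.sum_singleton, Multiset.card_cons,
      Multiset.card_singleton] at hsum hpar
    rcases hpar with ⟨r, hr⟩
    omega

theorem orderOf_cases (g : ↥(alternatingGroup (Fin 6))) :
    (orderOf g = 1 ∨ orderOf g = 3 ∨ orderOf g = 5) ∨
      (orderOf g = 2 ∧ (g : Perm (Fin 6)).cycleType = {2, 2}) ∨ orderOf g = 4 := by
  have hs : sign (g : Perm (Fin 6)) = 1 := mem_alternatingGroup.mp g.2
  have ho : orderOf g = (g : Perm (Fin 6)).cycleType.lcm := by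
    rw [lcm_cycleType, Subgroup.orderOf_coe]
  rcases cycleType_cases _ hs with h | h | h | h | h | h
  · left; left; rw [ho, h]; rfl
  · left; right; left; rw [ho, h]; rfl
  · left; right; right; rw [ho, h]; rfl
  · right; left; exact ⟨by rw [ho, h]; rfl, h⟩
  · right; right; rw [ho, h]; rfl
  · left; right; left; rw [ho, h]; rfl

/-- The involutions of the alternating group of degree 6 form a class of root involutions (a single conjugacy class of involutions generating the group, any two of which commute, have product of odd order, or have product of order 4 whose square is again an involution of the class), and the product of any two of them has order at most 5. -/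
theorem result :
    Cfsg.IsRootInvolutionClass {g : ↥(alternatingGroup (Fin 6)) | orderOf g = 2} ∧
    ∀ d ∈ {g : ↥(alternatingGroup (Fin 6)) | orderOf g = 2}, ∀ e ∈ {g : ↥(alternatingGroup (Fin 6)) | orderOf g = 2},
      orderOf (d * e) ≤ 5 := by
  have hDmem : ∀ g : ↥(alternatingGroup (Fin 6)), orderOf g = 2 ↔ (g : Perm (Fin 6)).cycleType = {2, 2} := by
    intro g
    constructor
    · intro h
      rcases orderOf_cases g with h1 | h1 | h1
      · omega
      · exact h1.2
      · omega
    · intro h
      rw [← Subgroup.orderOf_coe, ← lcm_cycleType, h]; rfl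
  have hgen : Subgroup.closure {g : ↥(alternatingGroup (Fin 6)) | orderOf g = 2} = ⊤ := by
    have h5 : 5 ≤ Nat.card (Fin 6) := by simp
    have := alternatingGroup.closure_cycleType_eq_two_two_eq_top h5
    rw [eq_top_iff, ← this]
    exact Subgroup.closure_mono (fun g hg => (hDmem g).mpr hg)
  refine ⟨⟨⟨fun d hd => hd, hgen, ?_, ?_⟩, ?_, ?_⟩, ?_⟩
  · -- conjugation invariance
    intro d hd g
    show orderOf (g * d * g⁻¹) = 2
    have : g * d * g⁻¹ = MulAut.conj g d := by simp [MulAut.conj_apply]
    rw [this, MulEquiv.orderOf_eq]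
    exact hd
  · -- pairs
    intro a ha b hb
    have ha2 : a * a = 1 := by
      have := pow_orderOf_eq_one a
      rwa [show orderOf a = 2 from ha, pow_two] at this
    have hb2 : b * b = 1 := by
      have := pow_orderOf_eq_one b
      rwa [show orderOf b = 2 from hb, pow_two] at this
    rcases orderOf_cases (a * b) with h | h | h
    · right; left
      rcases h with h | h | h <;> rw [h] <;> decide
    · left
      have h2 : (a * b) * (a * b) = 1 := by
        have := pow_orderOf_eq_one (a * b)
        rwa [h.1, pow_two] at this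
      calc a * b = a * ((a * b) * (a * b)) * b := by rw [h2, mul_one]
        _ = (a * a) * b * a * (b * b) := by group
        _ = b * a := by rw [ha2, hb2, one_mul, mul_one]
    · right; right
      refine ⟨h, ?_⟩
      show orderOf ((a * b) ^ 2) = 2
      rw [orderOf_pow' _ (by norm_num), h]
      rfl
  · -- nonempty
    by_contra hne
    rw [Set.not_nonempty_iff_eq_empty] at hne
    rw [hne, Subgroup.closure_empty] at hgen
    exact bot_ne_top hgen
  · -- one class
    intro a ha b hb
    have ha' := (hDmem a).mp ha
    have hb' := (hDmem b).mp hb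
    have hc : IsConj (a : Perm (Fin 6)) (b : Perm (Fin 6)) :=
      isConj_iff_cycleType_eq.mpr (ha'.trans hb'.symm)
    have hsupp : (a : Perm (Fin 6)).support.card + 2 ≤ Fintype.card (Fin 6) := by
      rw [← sum_cycleType, ha']
      simp
    obtain ⟨c, hc⟩ := isConj_iff.mp (alternatingGroup.isConj_of hc hsupp)
    exact ⟨c, hc.symm⟩
  · intro d _ e _
    rcases orderOf_cases (d * e) with h | h | h
    · rcases h with h | h | h <;> omega
    · omega
    · omega

end Cfsg.Agent.S5057
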