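import Cfsg.Statements.S5058
import Cfsg.Agent.Lib.helper85.TvSL

set_option autoImplicit false
open Matrix
open Cfsg

namespace Cfsg.Agent.S5058

/-- Let F be a finite field of characteristic 2 and n a natural number. Then the transvections of SL_{n+3}(F) (so in every dimension at least 3) (the conjugates of the elementary matrices 1 + c E₁₂, c ≠ 0) form a class of root involutions of SL_{n+3}(F); when F has two elements they form a class of {3,4}⁺-transpositions (every product of odd order has order 1 or 3). -/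
theorem result (F : Type*) [Field F] [Fintype F] [CharP F 2] (n : ℕ) :
    Cfsg.IsRootInvolutionClass {t : Matrix.SpecialLinearGroup (Fin (n + 3)) F | ∃ c : F, c ≠ 0 ∧
        ∃ g : Matrix.SpecialLinearGroup (Fin (n + 3)) F, ((g⁻¹ * t * g : Matrix.SpecialLinearGroup (Fin (n + 3)) F) :
          Matrix (Fin (n + 3)) (Fin (n + 3)) F) = Matrix.transvection 0 1 c} ∧
    (Fintype.card F = 2 → Cfsg.IsThreeFourPlusTranspositionSet {t : Matrix.SpecialLinearGroup (Fin (n + 3)) F | ∃ c : F, c ≠ 0 ∧
        ∃ g : Matrix.SpecialLinearGroup (Fin (n + 3)) F, ((g⁻¹ * t * g : Matrix.SpecialLinearGroup (Fin (n + 3)) F) :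
          Matrix (Fin (n + 3)) (Fin (n + 3)) F) = Matrix.transvection 0 1 c}) := by
  classical
  have h01 : (0 : Fin (n + 3)) ≠ 1 := by
    intro h; exact absurd (congrArg Fin.val h) (by simp)
  have hv1 : ((1 : Fin (n + 3)) : ℕ) = 1 := Fin.val_one (n + 1)
  have hv2 : ((2 : Fin (n + 3)) : ℕ) = 2 := Fin.val_two
  have h02 : (0 : Fin (n + 3)) ≠ 2 := by
    intro h
    have h1 := congrArg Fin.val h
    rw [hv2] at h1
    simp at h1
  have h12 : (1 : Fin (n + 3)) ≠ 2 := by
    intro h
    have h1 := congrArg Fin.val h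
    rw [hv1, hv2] at h1
    omega
  have hD : {t : Matrix.SpecialLinearGroup (Fin (n + 3)) F | ∃ c : F, c ≠ 0 ∧
        ∃ g : Matrix.SpecialLinearGroup (Fin (n + 3)) F, ((g⁻¹ * t * g : Matrix.SpecialLinearGroup (Fin (n + 3)) F) :
          Matrix (Fin (n + 3)) (Fin (n + 3)) F) = Matrix.transvection 0 1 c}
      = {t : Matrix.SpecialLinearGroup (Fin (n + 3)) F | Lib.helper85.IsTv t} := by
    ext t
    constructor
    · rintro ⟨c, hc, g, hg⟩
      have h1 : Lib.helper85.IsTv (g⁻¹ * t * g) := by
        have h2 := Lib.helper85.isTv_transvection (F := F) h01 hc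
        obtain ⟨u, φ, hu, hφ, huφ, h3⟩ := h2
        exact ⟨u, φ, hu, hφ, huφ, by rw [hg, ← h3]; rfl⟩
      have h4 := Lib.helper85.isTv_conj h1 g
      have h5 : g * (g⁻¹ * t * g) * g⁻¹ = t := by group
      rw [h5] at h4
      exact h4
    · intro ht
      obtain ⟨g, hg⟩ := Lib.helper85.isTv_conjT0 h01 h02 h12 ht
      refine ⟨1, one_ne_zero, g, ?_⟩
      have h5 : g⁻¹ * t * g = Matrix.SpecialLinearGroup.transvection h01 1 := by
        rw [hg]; group
      rw [h5]
      rfl
  rw [hD]
  have hroot : Cfsg.IsRootInvolutionSet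
      {t : Matrix.SpecialLinearGroup (Fin (n + 3)) F | Lib.helper85.IsTv t} := by
    refine ⟨fun d hd => Lib.helper85.isTv_orderOf hd, Lib.helper85.closure_isTv,
      fun d hd g => Lib.helper85.isTv_conj hd g, fun a ha b hb => ?_⟩
    exact Lib.helper85.tv_pair ha hb
  refine ⟨⟨hroot, ⟨_, Lib.helper85.isTv_transvection h01 (one_ne_zero (α := F))⟩, ?_⟩, ?_⟩
  · intro a ha b hb
    obtain ⟨g, hg⟩ := Lib.helper85.isTv_conjT0 h01 h02 h12 ha
    obtain ⟨h, hh⟩ := Lib.helper85.isTv_conjT0 h01 h02 h12 hb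
    refine ⟨h * g⁻¹, ?_⟩
    rw [hg, hh]
    group
  · intro hcard
    refine ⟨hroot, fun a ha b hb hodd => ?_⟩
    apply Lib.helper85.tv_pair_two ?_ ha hb hodd
    intro x hx
    by_contra hx1
    have hsub : ({0, 1, x} : Finset F).card ≤ Fintype.card F := Finset.card_le_univ _
    have h3 : ({0, 1, x} : Finset F).card = 3 := by
      rw [Finset.card_insert_of_notMem, Finset.card_insert_of_notMem, Finset.card_singleton]
      · simpa using Ne.symm hx1
      · simp [Ne.symm hx]
    omega

end Cfsg.Agent.S5058
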