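import Cfsg.Statements.S5067
-- import your own Cfsg.Agent.* helpers here

set_option autoImplicit false
open Cfsg

namespace Cfsg.Agent.S5067

open scoped commutatorElement


/-- the normal closure of an abelian subgroup `E` of `P` satisfies `γ₂(E^P) ≤ γ₃(P)`. -/
theorem comm_normalClosure_le {P : Type*} [Group P] {E : Subgroup P} (hE : IsMulCommutative ↥E) :
    ⁅Subgroup.normalClosure (E : Set P), Subgroup.normalClosure (E : Set P)⁆ ≤
      ⁅⁅(⊤ : Subgroup P), (⊤ : Subgroup P)⁆, (⊤ : Subgroup P)⁆ := by
  obtain ⟨Γ, hΓ⟩ : ∃ Γ : Subgroup P, Γ = ⁅⁅(⊤ : Subgroup P), (⊤ : Subgroup P)⁆, (⊤ : Subgroup P)⁆ := ⟨_, rfl⟩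
  obtain ⟨P', hP'⟩ : ∃ P' : Subgroup P, P' = ⁅(⊤ : Subgroup P), (⊤ : Subgroup P)⁆ := ⟨_, rfl⟩
  rw [← hΓ]
  have hΓn : Γ.Normal := by rw [hΓ]; infer_instance
  obtain ⟨M, hM⟩ : ∃ M : Subgroup P, M = E ⊔ P' := ⟨_, rfl⟩
  have hEM : E ≤ M := hM ▸ le_sup_left
  have hP'M : P' ≤ M := hM ▸ le_sup_right
  have hMn : M.Normal := by
    constructor
    intro x hx g
    have h1 : g * x * g⁻¹ = x * ⁅x⁻¹, g⁆ := by
      rw [commutatorElement_def]; group
    rw [h1]
    refine M.mul_mem hx (hP'M ?_)
    rw [hP']
    exact Subgroup.commutator_mem_commutator (Subgroup.mem_top _) (Subgroup.mem_top _)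
  have hNM : Subgroup.normalClosure (E : Set P) ≤ M := Subgroup.normalClosure_le_normal hEM
  refine (Subgroup.commutator_mono hNM hNM).trans ?_
  -- commutativity in the quotient
  let π := QuotientGroup.mk' Γ
  have hcentral : ∀ y ∈ P', ∀ x : P, π x * π y = π y * π x := by
    intro y hy x
    have h1 : ⁅y, x⁆ ∈ Γ := by
      rw [hΓ]
      exact Subgroup.commutator_mem_commutator (hP' ▸ hy) (Subgroup.mem_top _)
    have h2 : π ⁅y, x⁆ = 1 := (QuotientGroup.eq_one_iff _).mpr h1
    rw [commutatorElement_def, map_mul, map_mul, map_mul, map_inv, map_inv] at h2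
    have h3 : π y * π x = π x * π y := by
      have := congrArg (fun z => z * π x * π y) h2
      simpa [mul_assoc] using this
    exact h3.symm
  have hEE : ∀ x ∈ E, ∀ y ∈ E, π x * π y = π y * π x := by
    intro x hx y hy
    have h1 : (⟨x, hx⟩ : E) * ⟨y, hy⟩ = ⟨y, hy⟩ * ⟨x, hx⟩ := mul_comm' _ _
    have h2 : x * y = y * x := congrArg Subtype.val h1
    rw [← map_mul, ← map_mul, h2]
  -- step 1: every element of M commutes (mod Γ) with E and with P'
  have hstep1 : ∀ y : P, (y ∈ E ∨ y ∈ P') → ∀ x ∈ M, π x * π y = π y * π x := by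
    intro y hy
    have hle : M ≤ (Subgroup.centralizer {π y}).comap π := by
      rw [hM]
      refine sup_le ?_ ?_
      · intro x hx
        rw [Subgroup.mem_comap, Subgroup.mem_centralizer_singleton_iff]
        rcases hy with hy | hy
        · exact hEE x hx y hy
        · exact hcentral y hy x
      · intro x hx
        rw [Subgroup.mem_comap, Subgroup.mem_centralizer_singleton_iff]
        exact (hcentral x hx y).symm
    intro x hx
    have := hle hx
    rwa [Subgroup.mem_comap, Subgroup.mem_centralizer_singleton_iff] at this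
  have hstep2 : ∀ x ∈ M, ∀ y ∈ M, π x * π y = π y * π x := by
    intro x hx
    have hle : M ≤ (Subgroup.centralizer {π x}).comap π := by
      rw [hM]
      refine sup_le ?_ ?_
      · intro y hy
        rw [Subgroup.mem_comap, Subgroup.mem_centralizer_singleton_iff]
        exact (hstep1 y (Or.inl hy) x hx).symm
      · intro y hy
        rw [Subgroup.mem_comap, Subgroup.mem_centralizer_singleton_iff]
        exact (hstep1 y (Or.inr hy) x hx).symm
    intro y hy
    have := hle hy
    rw [Subgroup.mem_comap, Subgroup.mem_centralizer_singleton_iff] at this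
    exact this.symm
  rw [Subgroup.commutator_le]
  intro x hx y hy
  rw [← QuotientGroup.eq_one_iff]
  show π ⁅x, y⁆ = 1
  rw [commutatorElement_def, map_mul, map_mul, map_mul, map_inv, map_inv, hstep2 x hx y hy]
  group

/-- the lower central series of the normal closure sits one step down. -/
theorem lcs_normalClosure_le {P : Type*} [Group P] {E : Subgroup P} (hE : IsMulCommutative ↥E) (j : ℕ) :
    (Subgroup.normalClosure (E : Set P)).lowerCentralSeries (j + 1) ≤
      (⊤ : Subgroup P).lowerCentralSeries (j + 2) := by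
  induction j with
  | zero =>
    exact comm_normalClosure_le hE
  | succ j ih =>
    rw [Subgroup.lowerCentralSeries_succ, Subgroup.lowerCentralSeries_succ (⊤ : Subgroup P) (j + 1 + 1)]
    exact Subgroup.commutator_mono ih le_top

theorem class_lt {P : Type*} [Group P] [Group.IsNilpotent P]
    (hna : ¬ IsMulCommutative P) {E : Subgroup P} (hE : IsMulCommutative ↥E) :
    Group.nilpotencyClass ↥(Subgroup.normalClosure (E : Set P)) < Group.nilpotencyClass P := by
  have hc : ¬ Group.nilpotencyClass P ≤ 1 := fun h => hna (Group.IsNilpotent.nilpotencyClass_le_one_iff.mp h)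
  obtain ⟨c, hc2⟩ : ∃ c, Group.nilpotencyClass P = c + 2 := ⟨Group.nilpotencyClass P - 2, by omega⟩
  have h1 : (⊤ : Subgroup P).lowerCentralSeries (c + 2) = ⊥ := by
    rw [← hc2]; exact Subgroup.lowerCentralSeries_nilpotencyClass
  have h2 : (Subgroup.normalClosure (E : Set P)).lowerCentralSeries (c + 1) = ⊥ := by
    rw [eq_bot_iff, ← h1]
    exact lcs_normalClosure_le hE c
  have h3 : (⊤ : Subgroup ↥(Subgroup.normalClosure (E : Set P))).lowerCentralSeries (c + 1) = ⊥ := by
    rw [← Subgroup.map_subtype_inj, Subgroup.map_bot, Subgroup.top_subtype_lowerCentralSeries, h2]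
  have h4 := Subgroup.lowerCentralSeries_eq_bot_iff_nilpotencyClass_le.mp h3
  omega

/-- Let P be a non-abelian nilpotent p-group (every element of p-power order; P possibly infinite) generated by two abelian subgroups E and F. Then the normal closure of E in P, and likewise that of F, has nilpotency class strictly smaller than that of P. -/
theorem result {P : Type*} [Group P] {p : ℕ} [Fact p.Prime] (hP : IsPGroup p P) [Group.IsNilpotent P]
    (hna : ¬ IsMulCommutative P) {E F : Subgroup P} (hE : IsMulCommutative ↥E) (hF : IsMulCommutative ↥F) (hgen : E ⊔ F = ⊤) :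
    Group.nilpotencyClass ↥(Subgroup.normalClosure (E : Set P)) < Group.nilpotencyClass P ∧
    Group.nilpotencyClass ↥(Subgroup.normalClosure (F : Set P)) < Group.nilpotencyClass P := by
  exact ⟨class_lt hna hE, class_lt hna hF⟩

end Cfsg.Agent.S5067
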