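import Cfsg.Statements.S5078
-- import your own Cfsg.Agent.* helpers here

set_option autoImplicit false
open Cfsg

namespace Cfsg.Agent.S5078

/-- In any fusion system over a finite subgroup S, a receptive subgroup is fully centralized. -/
theorem result {Ω : Type*} [Group Ω] {S : Subgroup Ω} [Finite S] (F : Cfsg.FusionSystem S) (P : Subgroup Ω) (hP : F.IsReceptive P) : F.IsFullyCentralized P := by
  refine ⟨hP.1, ?_⟩
  rintro Q ⟨φ, hφ, rfl⟩
  obtain ⟨ψ, hψ, hψφ⟩ := F.inv_mem hφ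
  -- range of ψ is P
  have hrange : ψ.range = P := by
    ext y
    constructor
    · rintro ⟨⟨_, x, rfl⟩, rfl⟩
      rw [hψφ x]
      exact x.2
    · intro hy
      exact ⟨⟨φ ⟨y, hy⟩, ⟨⟨y, hy⟩, rfl⟩⟩, hψφ ⟨y, hy⟩⟩
  obtain ⟨ψ', hψ', hext⟩ := hP.2 φ.range ψ hψ hrange
  have hQS : φ.range ≤ S := (F.le_of_mem hψ).1
  -- Q ≤ extender
  have hQN : φ.range ≤ FusionSystem.extender S φ.range ψ := by
    intro x hx
    refine Subgroup.subset_closure ⟨hQS hx, Subgroup.le_normalizer hx, ψ ⟨x, hx⟩, (F.le_of_mem hψ).2 _, ?_⟩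
    intro y hy
    have : (⟨x * (y : Ω) * x⁻¹, hy⟩ : φ.range) = ⟨x, hx⟩ * y * ⟨x, hx⟩⁻¹ := rfl
    rw [this, map_mul, map_mul, map_inv]
  -- C_S(Q) ≤ extender
  have hCN : FusionSystem.centralizerIn S φ.range ≤ FusionSystem.extender S φ.range ψ := by
    intro g hg
    have hgc : g ∈ Subgroup.centralizer (φ.range : Set Ω) := hg.2
    refine Subgroup.subset_closure ⟨hg.1, Subgroup.centralizer_le_normalizer _ hgc, 1, S.one_mem, ?_⟩
    intro y hy
    have h1 : g * (y : Ω) * g⁻¹ = y := by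
      have := hgc y y.2
      rw [← this]; group
    have : (⟨g * (y : Ω) * g⁻¹, hy⟩ : φ.range) = y := Subtype.ext h1
    rw [this]; simp
  -- the map on centralizers
  have hmaps : ∀ g : FusionSystem.centralizerIn S φ.range,
      ψ' ⟨g, hCN g.2⟩ ∈ FusionSystem.centralizerIn S P := by
    intro g
    refine ⟨(F.le_of_mem hψ').2 _, ?_⟩
    show ψ' ⟨g, hCN g.2⟩ ∈ Subgroup.centralizer (P : Set Ω)
    rw [Subgroup.mem_centralizer_iff]
    intro y hy
    have hx : (φ ⟨y, hy⟩ : Ω) ∈ φ.range := ⟨⟨y, hy⟩, rfl⟩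
    have e1 : ψ' ⟨φ ⟨y, hy⟩, hQN hx⟩ = y := by
      rw [hext _ hx (hQN hx)]
      exact hψφ ⟨y, hy⟩
    have hgc : (g : Ω) ∈ Subgroup.centralizer (φ.range : Set Ω) := g.2.2
    have hcomm : (φ ⟨y, hy⟩ : Ω) * g = g * φ ⟨y, hy⟩ := hgc _ hx
    have : (⟨φ ⟨y, hy⟩, hQN hx⟩ : FusionSystem.extender S φ.range ψ) * ⟨g, hCN g.2⟩
        = ⟨g, hCN g.2⟩ * ⟨φ ⟨y, hy⟩, hQN hx⟩ := Subtype.ext hcomm
    have := congrArg ψ' this
    rw [map_mul, map_mul, e1] at this
    exact this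
  have hfinS : Finite (FusionSystem.centralizerIn S P) :=
    Finite.of_injective (Subgroup.inclusion (inf_le_left : FusionSystem.centralizerIn S P ≤ S))
      (Subgroup.inclusion_injective _)
  refine Nat.card_le_card_of_injective
    (fun g : FusionSystem.centralizerIn S φ.range => (⟨ψ' ⟨g, hCN g.2⟩, hmaps g⟩ : FusionSystem.centralizerIn S P)) ?_
  intro g₁ g₂ h
  have h' : ψ' ⟨g₁, hCN g₁.2⟩ = ψ' ⟨g₂, hCN g₂.2⟩ := congrArg Subtype.val h
  have h3 := F.injective_of_mem hψ' h'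
  have h4 : (g₁ : Ω) = g₂ := congrArg (fun z : FusionSystem.extender S φ.range ψ => (z : Ω)) h3
  exact Subtype.ext h4

end Cfsg.Agent.S5078
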