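import Cfsg.Statements.S5087
import Cfsg.Agent.Lib.helper86.NormalCrit

set_option autoImplicit false
open Cfsg

namespace Cfsg.Agent.S5087

/-- In a saturated fusion system over a finite p-group S, a subgroup Q is normal in the system if and only if every subgroup P that equals S or is essential contains Q and every element of Aut_F(P) maps Q onto itself. -/
theorem result {Ω : Type*} [Group Ω] {S : Subgroup Ω} [Finite S] (p : ℕ) [Fact p.Prime] (hS : IsPGroup p S) (F : Cfsg.FusionSystem S) (hF : F.IsSaturated p) (Q : Subgroup Ω) : F.IsNormal Q ↔ ∀ P : Subgroup Ω, (P = S ∨ F.IsEssential p P) → (Q ≤ P ∧ ∀ α ∈ F.autGroup P, (Q.subgroupOf P).map α.toMonoidHom = Q.subgroupOf P) := by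
  constructor
  · intro hQ P hP
    have hPS : P ≤ S := by
      rcases hP with rfl | hess
      · exact le_rfl
      · exact hess.1.1
    have hfinP : Finite P := Cfsg.Agent.Lib.helper88.finite_of_le hPS
    have hsc := Cfsg.Agent.Lib.helper86.stronglyClosed_of_isNormal F hQ
    refine ⟨?_, fun α hα => ?_⟩
    · rcases hP with rfl | hess
      · exact hQ.1
      · exact Cfsg.Agent.Lib.helper86.le_of_isNormal_of_centric_radical hS F hQ hess.1
          (Cfsg.Agent.S5080.result p hS F hF P hess)
    · apply Cfsg.Agent.Lib.helper86.map_eq_of_map_le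
      rintro _ ⟨x, hx, rfl⟩
      exact Subgroup.mem_subgroupOf.2 (Cfsg.Agent.Lib.helper89.aut_mem_of_stronglyClosed F hsc hPS hα x
        (Subgroup.mem_subgroupOf.1 hx))
  · intro h
    apply Cfsg.Agent.Lib.helper86.isNormal_of_aut_invariant hS F hF
    intro P hP
    refine ⟨(h P hP).1, fun α hα x hx => ?_⟩
    have h1 : α x ∈ (Q.subgroupOf P).map α.toMonoidHom :=
      ⟨x, Subgroup.mem_subgroupOf.2 hx, rfl⟩
    rw [(h P hP).2 α hα] at h1
    exact Subgroup.mem_subgroupOf.1 h1

end Cfsg.Agent.S5087
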