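import Cfsg.Statements.S5101
import Cfsg.Agent.Lib.helper87.SylowIn

set_option autoImplicit false
open Cfsg

namespace Cfsg.Agent.S5101

/-- In the fusion system of a finite group G on a Sylow p-subgroup S, a subgroup P ≤ S is fully centralized if and only if C_S(P) is a Sylow p-subgroup of C_G(P). -/
theorem result {G : Type*} [Group G] [Finite G] (p : ℕ) [Fact p.Prime] (S : Sylow p G) (P : Subgroup G) (hP : P ≤ S) : (Cfsg.groupFusionSystem (S : Subgroup G)).IsFullyCentralized P ↔ ∃ R : Sylow p ↥(Subgroup.centralizer (P : Set G)), (R : Subgroup ↥(Subgroup.centralizer (P : Set G))) = (Cfsg.FusionSystem.centralizerIn (S : Subgroup G) P).subgroupOf (Subgroup.centralizer (P : Set G)) := by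
  have hSp : IsPGroup p (S : Subgroup G) := S.isPGroup'
  have hPp : IsPGroup p P := hSp.to_le hP
  have hle : Cfsg.FusionSystem.centralizerIn (S : Subgroup G) P ≤ Subgroup.centralizer (P : Set G) := inf_le_right
  rw [Cfsg.Agent.Lib.helper87.sylowIn_iff hle]
  constructor
  · rintro ⟨-, hfn⟩
    refine ⟨hSp.to_le inf_le_left, ?_⟩
    intro K hKC hK
    have hKN : K ≤ Subgroup.normalizer (P : Set G) := hKC.trans (Subgroup.centralizer_le_normalizer _)
    have hKP : IsPGroup p (K ⊔ P : Subgroup G) := hK.to_sup_of_normal_right' hPp hKN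
    obtain ⟨g, hg⟩ := Cfsg.Agent.Lib.helper87.exists_conj_le_sylow S hKP
    have hQS : P.map (MulAut.conj g).toMonoidHom ≤ (S : Subgroup G) :=
      (Subgroup.map_mono le_sup_right).trans hg
    have hconj : (Cfsg.groupFusionSystem (S : Subgroup G)).IsConj P (P.map (MulAut.conj g).toMonoidHom) :=
      (Cfsg.Agent.Lib.helper87.groupFusion_isConj_iff _ _ _).mpr ⟨hP, hQS, g, rfl⟩
    have h1 := hfn _ hconj
    have h2 : K.map (MulAut.conj g).toMonoidHom ≤
        Cfsg.FusionSystem.centralizerIn (S : Subgroup G) (P.map (MulAut.conj g).toMonoidHom) := by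
      refine le_inf ((Subgroup.map_mono le_sup_left).trans hg) ?_
      rw [← Cfsg.Agent.Lib.helper87.map_conj_centralizer]
      exact Subgroup.map_mono hKC
    have h3 := Subgroup.card_le_of_le h2
    rw [Cfsg.Agent.Lib.helper87.card_map_conj] at h3
    exact h3.trans h1
  · rintro ⟨-, hmax⟩
    refine ⟨hP, ?_⟩
    intro Q hQ
    obtain ⟨-, hQS, g, rfl⟩ := (Cfsg.Agent.Lib.helper87.groupFusion_isConj_iff _ _ _).mp hQ
    have h1 : (Cfsg.FusionSystem.centralizerIn (S : Subgroup G) (P.map (MulAut.conj g).toMonoidHom)).map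
        (MulAut.conj g⁻¹).toMonoidHom ≤ Subgroup.centralizer (P : Set G) := by
      have h2 := Cfsg.Agent.Lib.helper87.map_conj_centralizer g⁻¹ (P.map (MulAut.conj g).toMonoidHom)
      rw [Cfsg.Agent.Lib.helper87.map_conj_map_conj_inv] at h2
      rw [← h2]
      exact Subgroup.map_mono inf_le_right
    have h3 := hmax _ h1 ((hSp.to_le inf_le_left).map _)
    rw [Cfsg.Agent.Lib.helper87.card_map_conj] at h3
    exact h3

end Cfsg.Agent.S5101
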