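import Cfsg.Statements.S5102
-- import your own Cfsg.Agent.* helpers here

set_option autoImplicit false
open Cfsg

namespace Cfsg.Agent.S5102

/-- A normal p-subgroup of a finite group G is normal in the fusion system of G on a Sylow p-subgroup. -/
theorem result {G : Type*} [Group G] [Finite G] (p : ℕ) [Fact p.Prime] (S : Sylow p G) (R : Subgroup G) [R.Normal] (hR : IsPGroup p R) : (Cfsg.groupFusionSystem (S : Subgroup G)).IsNormal R := by
  have hRS : R ≤ (S : Subgroup G) := by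
    obtain ⟨Q, hQ⟩ := hR.exists_le_sylow
    obtain ⟨g, rfl⟩ := MulAction.exists_smul_eq G S Q
    intro x hx
    have h1 : g * x * g⁻¹ ∈ ((g • S : Sylow p G) : Subgroup G) :=
      hQ (‹R.Normal›.conj_mem x hx g)
    rw [Sylow.coe_subgroup_smul, Subgroup.mem_pointwise_smul_iff_inv_smul_mem] at h1
    have h2 : (MulAut.conj g)⁻¹ • (g * x * g⁻¹) = x := by
      rw [← map_inv, MulAut.smul_def, MulAut.conj_apply]
      group
    rwa [h2] at h1
  refine ⟨hRS, ?_⟩
  rintro P φ ⟨hPS, hφS, g, hg⟩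
  have hPR : P ⊔ R ≤ (S : Subgroup G) := sup_le hPS hRS
  have hcomap : P ⊔ R ≤ (S : Subgroup G).comap (MulAut.conj g).toMonoidHom := by
    refine sup_le ?_ ?_
    · intro x hx
      show g * x * g⁻¹ ∈ (S : Subgroup G)
      have := hφS ⟨x, hx⟩
      rwa [hg] at this
    · intro x hx
      show g * x * g⁻¹ ∈ (S : Subgroup G)
      exact hRS (‹R.Normal›.conj_mem x hx g)
  refine ⟨Cfsg.conjHom (P ⊔ R) g, ⟨hPR, fun x => hcomap x.2, g, fun x => rfl⟩, fun x => ?_, ?_⟩
  · rw [hg]; rfl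
  · ext y
    constructor
    · rintro ⟨x, hx, rfl⟩
      exact ‹R.Normal›.conj_mem x (Subgroup.mem_subgroupOf.mp hx) g
    · intro hy
      have hy' : g⁻¹ * y * g ∈ R := by
        have := ‹R.Normal›.conj_mem y hy g⁻¹
        rwa [inv_inv] at this
      refine ⟨⟨g⁻¹ * y * g, (le_sup_right : R ≤ P ⊔ R) hy'⟩, Subgroup.mem_subgroupOf.mpr hy', ?_⟩
      show g * (g⁻¹ * y * g) * g⁻¹ = y
      group

end Cfsg.Agent.S5102
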