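import Cfsg.Statements.S5104
-- import your own Cfsg.Agent.* helpers here

set_option autoImplicit false
open Cfsg

namespace Cfsg.Agent.S5104

/-- In a saturated fusion system over a finite p-group S, a fully centralized subgroup U with C_S(U) ≤ U is centric. -/
theorem result {Ω : Type*} [Group Ω] {S : Subgroup Ω} [Finite S] (p : ℕ) [Fact p.Prime] (hS : IsPGroup p S) (F : Cfsg.FusionSystem S) (hF : F.IsSaturated p) (U : Subgroup Ω) (hU : F.IsFullyCentralized U) (hC : Cfsg.FusionSystem.centralizerIn S U ≤ U) : F.IsCentric U := by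
  obtain ⟨hUS, hfull⟩ := hU
  refine ⟨hUS, ?_⟩
  rintro Q ⟨φ, hφ, rfl⟩
  have hQS : φ.range ≤ S := by
    rintro _ ⟨x, rfl⟩
    exact (F.le_of_mem hφ).2 x
  have hfinS : (S : Set Ω).Finite := Set.toFinite _
  have hfinC : Finite ↥(Cfsg.FusionSystem.centralizerIn S φ.range) :=
    (hfinS.subset (fun x hx => hx.1)).to_subtype
  have hZle : φ.range ⊓ Subgroup.centralizer (φ.range : Set Ω) ≤ Cfsg.FusionSystem.centralizerIn S φ.range :=
    fun x hx => ⟨hQS hx.1, hx.2⟩
  have hfinZ : Finite ↥(φ.range ⊓ Subgroup.centralizer (φ.range : Set Ω)) :=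
    (hfinS.subset (fun x hx => hQS hx.1)).to_subtype
  -- injection from C_S(U) into Z(Q)
  have hmem : ∀ z : ↥(Cfsg.FusionSystem.centralizerIn S U),
      φ ⟨z, hC z.2⟩ ∈ φ.range ⊓ Subgroup.centralizer (φ.range : Set Ω) := by
    intro z
    refine ⟨⟨_, rfl⟩, ?_⟩
    rintro _ ⟨u, rfl⟩
    have hzu : (u : Ω) * (z : Ω) = (z : Ω) * (u : Ω) := z.2.2 u u.2
    have : u * ⟨z, hC z.2⟩ = ⟨z, hC z.2⟩ * u := Subtype.ext hzu
    rw [← map_mul, ← map_mul, this]
  have hinj : Function.Injective (fun z : ↥(Cfsg.FusionSystem.centralizerIn S U) =>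
      (⟨φ ⟨z, hC z.2⟩, hmem z⟩ : ↥(φ.range ⊓ Subgroup.centralizer (φ.range : Set Ω)))) := by
    intro a b hab
    have h1 : φ ⟨a, hC a.2⟩ = φ ⟨b, hC b.2⟩ := congrArg Subtype.val hab
    have h2 := F.injective_of_mem hφ h1
    exact Subtype.ext (congrArg (fun t : U => (t : Ω)) h2)
  have hcard1 : Nat.card ↥(Cfsg.FusionSystem.centralizerIn S U) ≤
      Nat.card ↥(φ.range ⊓ Subgroup.centralizer (φ.range : Set Ω)) :=
    Nat.card_le_card_of_injective _ hinj
  have hcard2 := hfull φ.range ⟨φ, hφ, rfl⟩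
  have heq : φ.range ⊓ Subgroup.centralizer (φ.range : Set Ω) = Cfsg.FusionSystem.centralizerIn S φ.range :=
    Subgroup.eq_of_le_of_card_ge hZle (hcard2.trans hcard1)
  rw [← heq]
  exact inf_le_left

end Cfsg.Agent.S5104
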