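import Cfsg.Statements.S5105
import Cfsg.Agent.Lib.helper87.Rigidity

set_option autoImplicit false
open Cfsg

namespace Cfsg.Agent.S5105

/-- Model Theorem, rigidity: if G is a model of a constrained fusion system over a finite p-group S (through ι : S → G), then every automorphism of G fixing ι(S) elementwise is conjugation by ι(z) for some z in the centre of S. -/
theorem result {Ω : Type*} [Group Ω] {S : Subgroup Ω} [Finite S] (p : ℕ) [Fact p.Prime] (hS : IsPGroup p S) (F : Cfsg.FusionSystem S) (hF : F.IsConstrained p) {G : Type*} [Group G] (ι : S →* G) (hG : F.IsModel p G ι) (ψ : G ≃* G) (hψ : ∀ x : S, ψ (ι x) = ι x) : ∃ z : S, z ∈ Subgroup.center S ∧ ∀ g : G, ψ g = ι z * g * (ι z)⁻¹ := by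
  obtain ⟨hfin, ⟨hinj, _⟩, ⟨T, hT⟩, hC⟩ := hG
  haveI := hfin
  haveI hQn : (Cfsg.pCore p G).Normal := Subgroup.sSup_normal _ (fun _ h => h.1)
  have hQp : IsPGroup p (Cfsg.pCore p G) :=
    Sylow.sSup_of_normal _ (fun _ h => h.2) (fun _ h => h.1)
  have hψT : ∀ t ∈ T, ψ t = t := by
    intro t ht
    have : t ∈ ι.range := by rw [← hT]; exact ht
    obtain ⟨x, rfl⟩ := this
    exact hψ x
  obtain ⟨z, hzQ, hz⟩ := Cfsg.Agent.Lib.helper87.aut_fixing_sylow_inner T (Cfsg.pCore p G) hQp hC ψ hψT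
  have hzT : z ∈ ι.range := by
    rw [← hT]
    exact hQp.le_sylow_of_normal T hzQ
  obtain ⟨z₀, rfl⟩ := hzT
  refine ⟨z₀, ?_, hz⟩
  rw [Subgroup.mem_center_iff]
  intro s
  apply hinj
  have h1 := hz (ι s)
  rw [hψ s] at h1
  rw [map_mul, map_mul]
  calc ι s * ι z₀ = (ι z₀ * ι s * (ι z₀)⁻¹) * ι z₀ := by rw [← h1]
    _ = ι z₀ * ι s := by group

end Cfsg.Agent.S5105
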