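import Cfsg.Statements.S5107
import Cfsg.Agent.Lib.helper88.GroupSat
import Cfsg.Agent.Lib.helper88.Saturated2
import Cfsg.Agent.Lib.helper89.FusionSat
import Cfsg.Agent.Lib.helper89.StabChain

set_option autoImplicit false
open Cfsg

namespace Cfsg.Agent.S5107

open Cfsg.Agent.Lib
open scoped commutatorElement

theorem controls {G : Type*} [Group G] [Finite G] (p : ℕ) [Fact p.Prime] (S : Sylow p G)
    (hcl : ⁅(S : Subgroup G), (S : Subgroup G)⁆ ≤
      (S : Subgroup G) ⊓ Subgroup.centralizer ((S : Subgroup G) : Set G))
    (hZ : Cfsg.IsStronglyClosed ((S : Subgroup G) ⊓ Subgroup.centralizer ((S : Subgroup G) : Set G))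
      (S : Subgroup G)) :
    ∀ P : Subgroup G, (Cfsg.groupFusionSystem (S : Subgroup G)).Hom P ⊆
      (Cfsg.fusionSystemOfSubgroup (Subgroup.normalizer ((S : Subgroup G) : Set G)) (S : Subgroup G)
        Subgroup.le_normalizer).Hom P := by
  classical
  have hS : IsPGroup p (S : Subgroup G) := S.isPGroup'
  have hsat : (Cfsg.groupFusionSystem (S : Subgroup G)).IsSaturated p :=
    helper88.groupFusionSystem_saturated S
  refine helper89.saturated_induction (Cfsg.groupFusionSystem (S : Subgroup G)) _ hS hsat ?_
  intro R hfa hrec IH α hα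
  have hRS : R ≤ (S : Subgroup G) := hfa.1
  haveI : Finite R := helper89.finite_of_le hRS
  have hφ : R.subtype.comp α.toMonoidHom ∈ (Cfsg.groupFusionSystem (S : Subgroup G)).Hom R :=
    (helper89.mem_autGroup_iff _ hRS α).mp hα
  have hφR : (R.subtype.comp α.toMonoidHom).range = R := by
    ext y
    constructor
    · rintro ⟨x, rfl⟩
      exact (α x).2
    · intro hy
      exact ⟨α.symm ⟨y, hy⟩, by simp⟩
  obtain ⟨ψ, hψ, hψφ⟩ := hrec.2 R _ hφ hφR
  have key : R = (S : Subgroup G) ∨
      R < FusionSystem.extender (S : Subgroup G) R (R.subtype.comp α.toMonoidHom) := by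
    by_cases hZR : (S : Subgroup G) ⊓ Subgroup.centralizer ((S : Subgroup G) : Set G) ≤ R
    · by_cases hRtop : R = (S : Subgroup G)
      · exact Or.inl hRtop
      · right
        refine lt_of_lt_of_le (lt_of_le_of_ne hRS hRtop) ?_
        -- R is normal in S
        have hnorm : ∀ g ∈ (S : Subgroup G), ∀ x ∈ R, g * x * g⁻¹ ∈ R := by
          intro g hg x hx
          have h1 : ⁅g, x⁆ ∈ R := hZR (hcl (Subgroup.commutator_mem_commutator hg (hRS hx)))
          have h2 : g * x * g⁻¹ = ⁅g, x⁆ * x := by
            rw [commutatorElement_def]; group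
          rw [h2]
          exact R.mul_mem h1 hx
        -- the invariance of Z under Aut_F(R)
        have hinv : ∀ a ∈ (Cfsg.groupFusionSystem (S : Subgroup G)).autGroup R,
            ∀ MM' ∈ ({((⊤ : Subgroup R),
                (((S : Subgroup G) ⊓ Subgroup.centralizer ((S : Subgroup G) : Set G)).subgroupOf R)),
              ((((S : Subgroup G) ⊓ Subgroup.centralizer ((S : Subgroup G) : Set G)).subgroupOf R),
                (⊥ : Subgroup R))} : Set (Subgroup R × Subgroup R)),
            (∀ x ∈ MM'.1, a x ∈ MM'.1) ∧ (∀ x ∈ MM'.2, a x ∈ MM'.2) := by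
          intro a ha MM' hMM'
          obtain ⟨g, hg⟩ := (helper88.mem_autGroup_groupFusionSystem hRS a).mp ha
          have hZinv : ∀ x ∈ (((S : Subgroup G) ⊓
              Subgroup.centralizer ((S : Subgroup G) : Set G)).subgroupOf R), a x ∈
              (((S : Subgroup G) ⊓ Subgroup.centralizer ((S : Subgroup G) : Set G)).subgroupOf R) := by
            intro x hx
            rw [Subgroup.mem_subgroupOf] at hx ⊢
            rw [hg x]
            apply hZ.2 _ hx g
            rw [← hg x]
            exact hRS (a x).2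
          rcases hMM' with h | h
          · subst h
            exact ⟨fun x _ => Subgroup.mem_top _, hZinv⟩
          · rw [Set.mem_singleton_iff] at h
            subst h
            refine ⟨hZinv, fun x hx => ?_⟩
            rw [Subgroup.mem_bot] at hx ⊢
            rw [hx, map_one]
        have hKp : IsPGroup p (helper89.stabilizerOfPairs _ _ hinv) := by
          refine helper89.isPGroup_stabilizerOfPairs (hS.to_le hRS) _ _ hinv ?_
          intro Pr h0 hstep
          have h1 := hstep _ _ (Set.mem_insert_of_mem _ (Set.mem_singleton _)) bot_le h0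
          exact hstep _ _ (Set.mem_insert _ _) le_top h1
        have hKle : helper89.stabilizerOfPairs _ _ hinv ≤ autInducedBy (S : Subgroup G) R :=
          helper89.normal_pgroup_le_autS _ hfa _ (helper89.stabilizerOfPairs_le _ _ hinv)
            (helper89.stabilizerOfPairs_conj_mem _ _ hinv) hKp
        intro g hg
        rw [helper88.mem_extender_iff]
        refine ⟨hg, helper88.mem_normalizer_of_conj_mem (hnorm g hg), ?_⟩
        obtain ⟨c, hc⟩ := helper89.exists_conj_aut (Cfsg.groupFusionSystem (S : Subgroup G)) hRS hg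
          (hnorm g hg)
        have hcA : c ∈ (Cfsg.groupFusionSystem (S : Subgroup G)).autGroup R :=
          (helper88.mem_autGroup_groupFusionSystem hRS c).mpr ⟨g, hc⟩
        have hcK : c ∈ helper89.stabilizerOfPairs _ _ hinv := by
          refine ⟨hcA, ?_⟩
          intro MM' hMM'
          rcases hMM' with h | h
          · subst h
            intro x _
            rw [Subgroup.mem_subgroupOf]
            show ((x : G))⁻¹ * ((c x : R) : G) ∈ _
            rw [hc x]
            have h2 : ((x : G))⁻¹ * (g * (x : G) * g⁻¹) = ⁅((x : G))⁻¹, g⁆ := by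
              rw [commutatorElement_def]; group
            rw [h2]
            exact hcl (Subgroup.commutator_mem_commutator
              ((S : Subgroup G).inv_mem (hRS x.2)) hg)
          · rw [Set.mem_singleton_iff] at h
            subst h
            intro x hx
            rw [Subgroup.mem_subgroupOf] at hx
            rw [Subgroup.mem_bot]
            apply Subtype.ext
            show ((x : G))⁻¹ * ((c x : R) : G) = 1
            rw [hc x]
            have h3 : g * (x : G) = (x : G) * g := (Subgroup.mem_centralizer_iff.mp hx.2 g hg)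
            rw [h3]
            group
        have hconj := helper89.stabilizerOfPairs_conj_mem _ _ hinv α hα c hcK
        obtain ⟨h, hh, hhc⟩ := (helper89.mem_autInducedBy_iff _ R _).mp (hKle hconj)
        refine ⟨h, hh, fun x hx => ?_⟩
        have h4 := hhc (α x)
        have h5 : (α * c * α⁻¹) (α x) = α (c x) := by
          simp [MulAut.mul_apply]
        rw [h5] at h4
        have h6 : (⟨g * (x : G) * g⁻¹, hx⟩ : R) = c x := Subtype.ext (hc x).symm
        rw [h6]
        exact h4
    · right
      refine lt_of_le_of_ne (helper88.le_extender _ hφ) ?_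
      intro heq
      apply hZR
      intro z hz
      rw [heq]
      apply Subgroup.subset_closure
      refine ⟨hz.1, ?_, 1, (S : Subgroup G).one_mem, ?_⟩
      · apply helper88.mem_normalizer_of_conj_mem
        intro x hx
        have h3 : z * x * z⁻¹ = x := by
          rw [← (Subgroup.mem_centralizer_iff.mp hz.2 x (hRS hx))]; group
        rw [h3]
        exact hx
      · intro x hx
        have h3 : z * (x : G) * z⁻¹ = x := by
          rw [← (Subgroup.mem_centralizer_iff.mp hz.2 x (hRS x.2))]; group
        have h4 : (⟨z * (x : G) * z⁻¹, hx⟩ : R) = x := Subtype.ext h3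
        rw [h4]
        simp
  rcases key with hRtop | hlt
  · obtain ⟨_, hval, g, hg⟩ := hφ
    refine ⟨hRS, hval, g, ?_, hg⟩
    apply helper88.mem_normalizer_of_conj_mem
    intro x hx
    have hxR : x ∈ R := hRtop ▸ hx
    have := hval ⟨x, hxR⟩
    rw [hg] at this
    exact this
  · have hψE := IH _ hlt hψ
    obtain ⟨_, _, n, hn, hnψ⟩ := hψE
    refine ⟨hRS, (FusionSystem.le_of_mem _ hφ).2, n, hn, fun x => ?_⟩
    have := hψφ x x.2 (hlt.le x.2)
    rw [← this, hnψ]

/-- If a Sylow p-subgroup S of a finite group G has nilpotency class at most two and its centre is strongly closed in S with respect to G, then every map of the fusion system of G on S is conjugation by an element of N_G(S), and S is the largest subgroup normal in that fusion system. -/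
theorem result {G : Type*} [Group G] [Finite G] (p : ℕ) [Fact p.Prime] (S : Sylow p G) (hcl : ⁅(S : Subgroup G), (S : Subgroup G)⁆ ≤ (S : Subgroup G) ⊓ Subgroup.centralizer ((S : Subgroup G) : Set G)) (hZ : Cfsg.IsStronglyClosed ((S : Subgroup G) ⊓ Subgroup.centralizer ((S : Subgroup G) : Set G)) (S : Subgroup G)) : (∀ (P : Subgroup G) (φ : P →* G), φ ∈ (Cfsg.groupFusionSystem (S : Subgroup G)).Hom P → ∃ g ∈ Subgroup.normalizer ((S : Subgroup G) : Set G), ∀ x : P, φ x = g * (x : G) * g⁻¹) ∧ (Cfsg.groupFusionSystem (S : Subgroup G)).core = S := by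
  have h1 := controls p S hcl hZ
  have hctl : ∀ (P : Subgroup G) (φ : P →* G),
      φ ∈ (Cfsg.groupFusionSystem (S : Subgroup G)).Hom P →
      ∃ g ∈ Subgroup.normalizer ((S : Subgroup G) : Set G), ∀ x : P, φ x = g * (x : G) * g⁻¹ := by
    intro P φ hφ
    obtain ⟨_, _, g, hg, h⟩ := h1 P hφ
    exact ⟨g, hg, h⟩
  refine ⟨hctl, ?_⟩
  apply le_antisymm
  · apply sSup_le
    intro Q hQ
    exact hQ.1
  · apply le_sSup
    refine ⟨le_rfl, ?_⟩
    intro P φ hφ
    obtain ⟨g, hg, h⟩ := hctl P φ hφ
    have hP : P ≤ (S : Subgroup G) := (FusionSystem.le_of_mem _ hφ).1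
    have hPS : P ⊔ (S : Subgroup G) ≤ (S : Subgroup G) := sup_le hP le_rfl
    have hgS : ∀ x ∈ (S : Subgroup G), g * x * g⁻¹ ∈ (S : Subgroup G) :=
      fun x hx => (Subgroup.mem_normalizer_iff.mp hg x).mp hx
    refine ⟨conjHom (P ⊔ (S : Subgroup G)) g, ⟨hPS, fun x => hgS _ (hPS x.2), g, fun x => rfl⟩,
      fun x => (h x).symm, ?_⟩
    ext y
    simp only [Subgroup.mem_map, Subgroup.mem_subgroupOf]
    constructor
    · rintro ⟨x, hx, rfl⟩
      exact hgS _ hx
    · intro hy
      have h2 : g⁻¹ * y * g ∈ (S : Subgroup G) := by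
        have := (Subgroup.mem_normalizer_iff.mp (Subgroup.inv_mem _ hg) y).mp hy
        simpa using this
      refine ⟨⟨g⁻¹ * y * g, (le_sup_right : (S : Subgroup G) ≤ P ⊔ (S : Subgroup G)) h2⟩, h2, ?_⟩
      show g * (g⁻¹ * y * g) * g⁻¹ = y
      group

end Cfsg.Agent.S5107
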