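import Cfsg.Statements.S5110
import Cfsg.Agent.Lib.helper87.SatFinal

set_option autoImplicit false
open Cfsg

namespace Cfsg.Agent.S5110

/-- Saturation criterion: let F be a fusion system over a finite p-group S and H a family of subgroups of S closed under conjugacy in F, such that every conjugacy class inside H contains a fully automized receptive member, F is the smallest fusion system over S containing all its maps with source in H, and every centric subgroup outside H is conjugate in F to some P for which Aut_S(P) ∩ O_p(Aut_F(P)) is not contained in Inn(P). Then F is saturated. -/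
theorem result {Ω : Type*} [Group Ω] {S : Subgroup Ω} [Finite S] (p : ℕ) [Fact p.Prime] (hS : IsPGroup p S) (F : Cfsg.FusionSystem S) (ℋ : Set (Subgroup Ω)) (hℋS : ∀ P ∈ ℋ, P ≤ S) (hℋconj : ∀ P ∈ ℋ, ∀ Q, F.IsConj P Q → Q ∈ ℋ) (hsat : ∀ P ∈ ℋ, ∃ Q, F.IsConj P Q ∧ F.IsFullyAutomized p Q ∧ F.IsReceptive Q) (hgen : ∀ E : Cfsg.FusionSystem S, (∀ P ∈ ℋ, F.Hom P ⊆ E.Hom P) → F ≤ E) (hstar : ∀ P : Subgroup Ω, F.IsCentric P → P ∉ ℋ → ∃ Q, F.IsConj P Q ∧ ¬ (Cfsg.autInducedBy S Q ⊓ (Cfsg.pCore p ↥(F.autGroup Q)).map (F.autGroup Q).subtype ≤ Cfsg.Inn Q)) : F.IsSaturated p := by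
  have hSℋ : S ∈ ℋ := by
    by_contra hSn
    have hScent : F.IsCentric S := by
      refine ⟨le_rfl, fun Q hQ => ?_⟩
      obtain ⟨φ, hφ, rfl⟩ := hQ
      rw [Cfsg.Agent.Lib.helper89.range_eq_top_of_hom F hφ]
      exact inf_le_left
    obtain ⟨Q, hQ, hnot⟩ := hstar S hScent hSn
    obtain ⟨φ, hφ, hQeq⟩ := hQ
    have hQS : Q = S := by
      rw [← hQeq]
      exact Cfsg.Agent.Lib.helper89.range_eq_top_of_hom F hφ
    apply hnot
    rintro a ⟨haS, -⟩
    obtain ⟨g, hgS, hga⟩ := (Cfsg.Agent.Lib.helper88.mem_autInducedBy_iff S Q a).mp haS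
    have hgQ : g ∈ Q := by
      rw [hQS]
      exact hgS
    refine ⟨⟨g, hgQ⟩, ?_⟩
    ext x
    exact (hga x).symm
  have key : ∀ (n : ℕ) (P : Subgroup Ω), P ≤ S → Nat.card S - Nat.card P = n →
      ∃ Q, F.IsConj P Q ∧ F.IsFullyAutomized p Q ∧ F.IsReceptive Q := by
    intro n
    induction n using Nat.strong_induction_on with
    | _ n ih =>
      intro P hPS hn
      by_cases hPℋ : P ∈ ℋ
      · exact hsat P hPℋ
      · have hPne : P ≠ S := by
          intro h
          rw [h] at hPℋ
          exact hPℋ hSℋ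
        have hlt : Nat.card P < Nat.card S :=
          Cfsg.Agent.Lib.helper89.card_lt_of_lt (lt_of_le_of_ne hPS hPne) le_rfl
        have hbig : Cfsg.Agent.Lib.helper87.HBig F p (Nat.card P) := by
          intro R hRS hR
          have hRle : Nat.card R ≤ Nat.card S := Subgroup.card_le_of_le hRS
          exact ih (Nat.card S - Nat.card R) (by omega) R hRS rfl
        have hq : ∃ Q, F.IsConj P Q ∧ ¬ Cfsg.Agent.Lib.helper87.qp F p Q ≤ Q := by
          by_cases hcent : F.IsCentric P
          · obtain ⟨Q, hQ, hnot⟩ := hstar P hcent hPℋ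
            refine ⟨Q, hQ, fun hle => hnot ?_⟩
            rintro a ⟨haS, haO⟩
            obtain ⟨g, hgS, hga⟩ := (Cfsg.Agent.Lib.helper88.mem_autInducedBy_iff S Q a).mp haS
            have hgN : g ∈ Subgroup.normalizer (Q : Set Ω) :=
              Cfsg.Agent.Lib.helper87.mem_normalizer_of_conj_aut hga
            have hgq : g ∈ Cfsg.Agent.Lib.helper87.qp F p Q := ⟨hgS, hgN, a, haO, hga⟩
            have hgQ : g ∈ Q := hle hgq
            refine ⟨⟨g, hgQ⟩, ?_⟩
            ext x
            exact (hga x).symm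
          · have hex : ∃ Q, F.IsConj P Q ∧ ¬ Cfsg.FusionSystem.centralizerIn S Q ≤ Q := by
              by_contra hcon
              apply hcent
              refine ⟨hPS, fun Q hQ => ?_⟩
              by_contra hne
              exact hcon ⟨Q, hQ, hne⟩
            obtain ⟨Q, hQ, hnot⟩ := hex
            exact ⟨Q, hQ, fun hle =>
              hnot ((Cfsg.Agent.Lib.helper87.centralizerIn_le_qp F p Q).trans hle)⟩
        exact Cfsg.Agent.Lib.helper87.exists_fullyAutomized_receptive_conj hS F ℋ hℋconj hgen hPS hPℋ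
          hlt hbig hq
  intro P hPS
  exact key _ P hPS rfl

end Cfsg.Agent.S5110
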