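import Cfsg.Statements.S5112
import Cfsg.Agent.Lib.helper87.AutTwoGroup

set_option autoImplicit false
open Cfsg

namespace Cfsg.Agent.S5112

/-- If S is a dihedral or generalized quaternion 2-group of order at least 16, then in every saturated fusion system over S (at the prime 2) the automorphism group Aut_F(S) consists of the inner automorphisms of S. -/
theorem result {Ω : Type*} [Group Ω] {S : Subgroup Ω} [Finite S] (n : ℕ) (hn : 4 ≤ n) (hshape : Nonempty (S ≃* DihedralGroup (2 ^ (n - 1))) ∨ Nonempty (S ≃* QuaternionGroup (2 ^ (n - 2)))) (F : Cfsg.FusionSystem S) (hF : F.IsSaturated 2) : F.autGroup S = Cfsg.Inn S := by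
  -- Aut(S) is a 2-group
  have hAut : IsPGroup 2 (MulAut S) := by
    rcases hshape with ⟨⟨e⟩⟩ | ⟨⟨e⟩⟩
    · exact (Cfsg.Agent.Lib.helper87.aut_dihedral_isPGroup_two (n - 1) (by omega)).of_equiv
        (MulAut.congr e).symm
    · exact (Cfsg.Agent.Lib.helper87.aut_quaternion_isPGroup_two (n - 2) (by omega)).of_equiv
        (MulAut.congr e).symm
  -- S is fully automized
  obtain ⟨Q, ⟨φ, hφ, hφQ⟩, ⟨-, R, hR⟩, -⟩ := hF S le_rfl
  have hQS : Q = S := by
    have hle : Q ≤ S := by
      rw [← hφQ]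
      rintro _ ⟨x, rfl⟩
      exact (F.le_of_mem hφ).2 x
    have hfinQ : Finite ↥φ.range := by
      rw [hφQ]
      exact ((Set.toFinite (S : Set Ω)).subset hle).to_subtype
    have hcard : Nat.card S ≤ Nat.card Q := by
      rw [← hφQ]
      exact Nat.card_le_card_of_injective (fun x : S => (⟨φ x, ⟨x, rfl⟩⟩ : φ.range))
        (fun a b hab => F.injective_of_mem hφ (congrArg Subtype.val hab))
    exact Subgroup.eq_of_le_of_card_ge hle hcard
  subst hQS
  have hRtop : (⊤ : Subgroup ↥(F.autGroup Q)) = (R : Subgroup ↥(F.autGroup Q)) :=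
    R.is_maximal' (hAut.to_subgroup (F.autGroup Q) |>.to_subgroup ⊤) le_top
  rw [hR] at hRtop
  have hle1 : F.autGroup Q ≤ Cfsg.autInducedBy Q Q := Subgroup.subgroupOf_eq_top.mp hRtop.symm
  have hle2 : Cfsg.autInducedBy Q Q ≤ Cfsg.Inn Q := by
    unfold Cfsg.autInducedBy
    rw [Subgroup.closure_le]
    rintro α ⟨g, hg, hα⟩
    refine ⟨⟨g, hg⟩, ?_⟩
    ext x
    rw [hα x]
    rfl
  have hle3 : Cfsg.Inn Q ≤ F.autGroup Q := by
    rintro _ ⟨s, rfl⟩
    apply Subgroup.subset_closure
    show Q.subtype.comp (MulAut.conj s).toMonoidHom ∈ F.Hom Q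
    have h1 : Q.subtype.comp (MulAut.conj s).toMonoidHom = Cfsg.conjHom Q (s : Ω) := by
      ext x
      rfl
    rw [h1]
    exact F.conj_mem le_rfl s.2
  exact le_antisymm (hle1.trans hle2) hle3

end Cfsg.Agent.S5112
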