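import Cfsg.Statements.S5115
import Cfsg.Agent.Lib.helper87.NormalConstrained
import Cfsg.Agent.Lib.helper12.SylowNormal

set_option autoImplicit false
open Cfsg

namespace Cfsg.Agent.S5115

/-- If the 2-fusion system of a finite group G on a Sylow 2-subgroup S is constrained, then for every subnormal subgroup H of G the 2-fusion system of H on S ∩ H is constrained. -/
theorem result {G : Type*} [Group G] [Finite G] (S : Sylow 2 G) (hF : (Cfsg.groupFusionSystem (S : Subgroup G)).IsConstrained 2) (H : Subgroup G) (hH : H.IsSubnormal) : (Cfsg.groupFusionSystem ((S : Subgroup G).subgroupOf H)).IsConstrained 2 := by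
  induction hH with
  | top =>
    obtain ⟨T', hT'⟩ := Cfsg.Agent.Lib.helper12.exists_sylow_eq_subgroupOf_of_isSubnormal S ⊤
      Subgroup.IsSubnormal.top
    have hn : (⊤ : Subgroup G).subtype.range.Normal := by
      rw [Subgroup.range_subtype]; infer_instance
    exact Cfsg.Agent.Lib.helper87.constrained_comap S hF
      (Subgroup.subtype_injective _) hn T' hT'
  | step H K hle hK hN ih =>
    obtain ⟨SK, hSK⟩ := Cfsg.Agent.Lib.helper12.exists_sylow_eq_subgroupOf_of_isSubnormal S K hK
    obtain ⟨TH, hTH⟩ := Cfsg.Agent.Lib.helper12.exists_sylow_eq_subgroupOf_of_isSubnormal S H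
      (Subgroup.IsSubnormal.step H K hle hK hN)
    have hF' : (Cfsg.groupFusionSystem (SK : Subgroup K)).IsConstrained 2 := by
      rw [hSK]; exact ih
    have hn : (Subgroup.inclusion hle).range.Normal := by
      rw [Subgroup.inclusion_range]; exact hN
    have hcomap : (SK : Subgroup K).comap (Subgroup.inclusion hle) =
        (S : Subgroup G).subgroupOf H := by
      rw [hSK]
      ext x
      simp [Subgroup.mem_subgroupOf]
    have hTH' : (TH : Subgroup H) = (SK : Subgroup K).comap (Subgroup.inclusion hle) := by
      rw [hTH, hcomap]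
    have h := Cfsg.Agent.Lib.helper87.constrained_comap SK hF'
      (Subgroup.inclusion_injective hle) hn TH hTH'
    rw [hcomap] at h
    exact h

end Cfsg.Agent.S5115
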