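-- Statement S5119.
import Cfsg.Statements.S5119
import Cfsg.Agent.Lib.helper88.Invariant

set_option autoImplicit false
open Cfsg

namespace Cfsg.Agent.S5119

open Cfsg.FusionSystem Cfsg.Agent.Lib.helper88

/-- Let F be a saturated fusion system over a finite p-group S and E a subsystem of F over a subgroup T that is strongly closed in F. Then E is invariant in F (invariance under Aut_F(T) plus the Frattini condition) if and only if the strong invariance condition holds: for P ≤ Q ≤ T, every map φ of E from P into Q and every map ψ of F with source Q, the transported map ψ φ ψ⁻¹ on ψ(P) is a map of E. -/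
theorem result {Ω : Type*} [Group Ω] {S : Subgroup Ω} [Finite S] (p : ℕ) [Fact p.Prime] (hS : IsPGroup p S) (F : Cfsg.FusionSystem S) (hF : F.IsSaturated p) {T : Subgroup Ω} (E : Cfsg.FusionSystem T) (hE : E.IsSubsystemOf F) (hT : F.StronglyClosed T) : E.IsInvariantIn F ↔ ∀ (P Q : Subgroup Ω) (hPQ : P ≤ Q) (_ : Q ≤ T) (φ : P →* Ω) (_ : φ ∈ E.Hom P) (hφQ : ∀ x : P, φ x ∈ Q) (ψ : Q →* Ω) (_ : ψ ∈ F.Hom Q), ∃ χ ∈ E.Hom ((P.subgroupOf Q).map ψ), ∀ (x : P) (hx : ψ (Subgroup.inclusion hPQ x) ∈ (P.subgroupOf Q).map ψ), χ ⟨ψ (Subgroup.inclusion hPQ x), hx⟩ = ψ ⟨φ x, hφQ x⟩ := by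
  constructor
  · rintro ⟨-, -, hinv, hfrat⟩ P Q hPQ hQT φ hφ hφQ ψ hψ
    have hinv' : AutInvariant E F := hinv
    obtain ⟨α, hα, ψ₀, hψ₀, hψeq⟩ := hfrat Q hQT ψ hψ
    have hψ₀T : ∀ x : Q, ψ₀ x ∈ T := fun x => (E.le_of_mem hψ₀).2 x
    have hψ₀P := restrict_mem E hPQ hψ₀
    obtain ⟨e, he, heq⟩ := exists_isoEquiv E hψ₀P rfl
    have hθ₁ := E.comp_mem he.2 hφ (fun z => (e.symm z).2)
    have hθ := E.comp_mem hθ₁ hψ₀ (fun z => hφQ _)
    have hP₀T : (ψ₀.comp (Subgroup.inclusion hPQ)).range ≤ T := by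
      rintro _ ⟨x, rfl⟩
      exact hψ₀T _
    obtain ⟨χ, hχ, hχeq⟩ := hinv'.exists' hP₀T hθ hα ((P.subgroupOf Q).map ψ) (by
      intro y
      constructor
      · rintro ⟨q, hq, rfl⟩
        refine ⟨⟨ψ₀ q, ⟨⟨q, hq⟩, rfl⟩⟩, ?_⟩
        exact (hψeq q (hψ₀T q)).symm
      · rintro ⟨⟨_, x, rfl⟩, rfl⟩
        refine ⟨Subgroup.inclusion hPQ x, Subgroup.mem_subgroupOf.mpr x.2, ?_⟩
        exact hψeq _ (hψ₀T _))
    refine ⟨χ, hχ, ?_⟩
    intro x hx
    have h1 := hχeq (e x) ⟨ψ (Subgroup.inclusion hPQ x), hx⟩ ⟨ψ₀ ⟨φ x, hφQ x⟩, hψ₀T _⟩ (by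
      show ψ (Subgroup.inclusion hPQ x) = _
      rw [hψeq (Subgroup.inclusion hPQ x) (hψ₀T _)]
      congr 2
      exact Subtype.ext (heq x).symm) (by
      show ψ₀ ⟨φ x, hφQ x⟩ = ψ₀ ⟨φ (e.symm (e x)), _⟩
      simp)
    rw [h1]
    exact (hψeq ⟨φ x, hφQ x⟩ (hψ₀T _)).symm
  · intro hSI
    have hinv : AutInvariant E F := by
      intro P hPT φ hφ α hα
      have hφT : ∀ x : P, φ x ∈ T := fun x => (E.le_of_mem hφ).2 x
      have hαF := (mem_autGroup_iff' F hT.1 α).mp hα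
      obtain ⟨χ, hχ, hχeq⟩ := hSI P T hPT le_rfl φ hφ hφT _ hαF
      exact ⟨χ, hχ, fun x hφx hαx => hχeq x hαx⟩
    refine ⟨hE, hT, hinv, ?_⟩
    refine frattini_of_normal_family hS F hF hT E hE hinv ?_
    intro R hRT hRfn
    refine ⟨E.autGroup R, le_rfl, autInducedBy_le_autGroup E hRT, ?_⟩
    intro a ha k hk
    have hRS := hRT.trans hT.1
    have haF := (mem_autGroup_iff' F hRS a).mp ha
    have hkE := (mem_autGroup_iff' E hRT k).mp hk
    obtain ⟨χ, hχ, hχeq⟩ := hSI R R le_rfl hRT _ hkE (fun x => (k x).2) _ haF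
    have hM : R = (R.subgroupOf R).map (R.subtype.comp a.toMonoidHom) := by
      ext y
      constructor
      · intro hy
        exact ⟨a⁻¹ ⟨y, hy⟩, Subgroup.mem_subgroupOf.mpr (a⁻¹ ⟨y, hy⟩).2, by simp⟩
      · rintro ⟨x, -, rfl⟩
        exact (a x).2
    have h3 := cast_mem E hM hχ
    rw [mem_autGroup_iff' E hRT]
    have h4 : χ.comp (Subgroup.inclusion hM.le) = R.subtype.comp (a * k * a⁻¹).toMonoidHom := by
      ext r'
      obtain ⟨r, rfl⟩ := a.surjective r'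
      have hx : (R.subtype.comp a.toMonoidHom) (Subgroup.inclusion le_rfl r) ∈
          (R.subgroupOf R).map (R.subtype.comp a.toMonoidHom) :=
        ⟨_, Subgroup.mem_subgroupOf.mpr r.2, rfl⟩
      have h5 := hχeq r hx
      simp only [MonoidHom.comp_apply, MulEquiv.coe_toMonoidHom, Subgroup.subtype_apply,
        MulAut.mul_apply, MulAut.inv_apply_self]
      exact h5
    rw [← h4]
    exact h3

end Cfsg.Agent.S5119
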