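import Cfsg.Statements.S5121
import Cfsg.Agent.Lib.helper87.NSFusC

set_option autoImplicit false
open Cfsg

namespace Cfsg.Agent.S5121

/-- Let G be a finite group with Sylow p-subgroup S and C_G(O_p(G)) ≤ O_p(G). For every subgroup T ≤ S and every normal subsystem E over T of the fusion system of G on S there is exactly one normal subgroup H of G containing T as a Sylow p-subgroup whose fusion system on T is E. -/
theorem result {G : Type*} [Group G] [Finite G] (p : ℕ) [Fact p.Prime] (S : Sylow p G) (hG : Subgroup.centralizer ((Cfsg.pCore p G : Subgroup G) : Set G) ≤ Cfsg.pCore p G) (T : Subgroup G) (hTS : T ≤ S) (E : Cfsg.FusionSystem T) (hE : E.IsNormalIn (Cfsg.groupFusionSystem (S : Subgroup G)) p) : ∃ H : Subgroup G, (∃ hTH : T ≤ H, H.Normal ∧ (∃ R : Sylow p H, (R : Subgroup H) = T.subgroupOf H) ∧ ∀ P : Subgroup G, E.Hom P = (Cfsg.fusionSystemOfSubgroup H T hTH).Hom P) ∧ ∀ H' : Subgroup G, (∃ hTH' : T ≤ H', H'.Normal ∧ (∃ R : Sylow p H', (R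 : Subgroup H') = T.subgroupOf H') ∧ ∀ P : Subgroup G, E.Hom P = (Cfsg.fusionSystemOfSubgroup H' T hTH').Hom P) → H' = H := by
  have D : Cfsg.Agent.Lib.helper87.NS.FHyp p S T E := ⟨hG, hTS, hE⟩
  refine ⟨D.HH, ⟨D.T_le_HH, D.HH_normal, D.T_sylow_HH, fun P => ?_⟩, ?_⟩
  · ext φ
    constructor
    · intro hφ
      obtain ⟨h, hh, hφeq⟩ := D.E_le hφ
      exact ⟨(E.le_of_mem hφ).1, (E.le_of_mem hφ).2, h, hh, hφeq⟩
    · rintro ⟨hPT, hφT, h, hh, hφeq⟩
      have h1 := D.le_E hPT hh (fun x => by rw [← hφeq]; exact hφT x)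
      have e : φ = Cfsg.conjHom P h := by
        ext x
        exact hφeq x
      rw [e]
      exact h1
  · rintro H' ⟨hTH', hH'n, hR', hE'⟩
    exact D.unique hTH' hH'n hR' hE'

end Cfsg.Agent.S5121
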