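import Cfsg.Statements.S5122
import Cfsg.Agent.Lib.helper87.AutInduced
import Cfsg.Agent.S5100

set_option autoImplicit false
open Cfsg

namespace Cfsg.Agent.S5122

/-- Let G be a finite group with Sylow p-subgroup S. Every subgroup P of S has a G-conjugate Q ≤ S such that N_S(Q) is a Sylow p-subgroup of N_G(Q); and for any Q ≤ S with that property, C_S(Q) is a Sylow p-subgroup of C_G(Q) and the automorphisms of Q induced by N_S(Q) form a Sylow p-subgroup of those induced by N_G(Q). -/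
theorem result {G : Type*} [Group G] [Finite G] (p : ℕ) [Fact p.Prime] (S : Sylow p G) : (∀ P : Subgroup G, P ≤ S → ∃ g : G, P.map (MulAut.conj g).toMonoidHom ≤ S ∧ (∃ R : Sylow p ↥(Subgroup.normalizer ((P.map (MulAut.conj g).toMonoidHom : Subgroup G) : Set G)), (R : Subgroup ↥(Subgroup.normalizer ((P.map (MulAut.conj g).toMonoidHom : Subgroup G) : Set G))) = (Cfsg.FusionSystem.normalizerIn (S : Subgroup G) (P.map (MulAut.conj g).toMonoidHom)).subgroupOf (Subgroup.normalizer ((P.map (MulAut.conj g).toMonoidHom : Subgroup G) : Set G)))) ∧ ∀ Q : Subgroup G, Q ≤ S → (∃ R : Sylow p ↥(Subgroup.normalizer (Q : Set G)), (R : Subgroup ↥(Subgroup.normalizer (Q : Set G))) = (Cfsg.FusionSystem.normalizerIn (S : Subgroup G) Q).subgroupOf (Subgroup.normalizer (Q : Set G))) → (∃ R : Sylow p ↥(Subgroup.centralizer (Q : Set G)), (R : Subgroup ↥(Subgroup.centralizer (Q : Set G))) = (Cfsg.FusionSystem.centralizerIn (S : Subgroup G) Q).subgroupOf (Subgroup.centralizer (Q : Set G)))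 ∧ (∃ R : Sylow p ↥(Cfsg.autInducedBy ⊤ Q), (R : Subgroup ↥(Cfsg.autInducedBy ⊤ Q)) = (Cfsg.autInducedBy (S : Subgroup G) Q).subgroupOf (Cfsg.autInducedBy ⊤ Q)) := by
  have hSp : IsPGroup p (S : Subgroup G) := S.isPGroup'
  refine ⟨?_, ?_⟩
  · intro P hP
    have : Nonempty {g : G // P.map (MulAut.conj g).toMonoidHom ≤ (S : Subgroup G)} :=
      ⟨⟨1, by rw [Cfsg.Agent.Lib.helper87.map_conj_one]; exact hP⟩⟩
    obtain ⟨g₀, hg₀⟩ := Finite.exists_max
      (fun g : {g : G // P.map (MulAut.conj g).toMonoidHom ≤ (S : Subgroup G)} =>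
        Nat.card ↥(Cfsg.FusionSystem.normalizerIn (S : Subgroup G) (P.map (MulAut.conj (g : G)).toMonoidHom)))
    refine ⟨g₀, g₀.2, ?_⟩
    rw [← Cfsg.Agent.S5100.result p S _ g₀.2]
    refine ⟨g₀.2, ?_⟩
    intro Q hQ
    obtain ⟨-, hQS, k, rfl⟩ := (Cfsg.Agent.Lib.helper87.groupFusion_isConj_iff _ _ _).mp hQ
    rw [Cfsg.Agent.Lib.helper87.map_conj_mul] at hQS ⊢
    exact hg₀ ⟨k * g₀, hQS⟩
  · intro Q hQ hN
    have hAN : Cfsg.FusionSystem.normalizerIn (S : Subgroup G) Q ≤ Subgroup.normalizer (Q : Set G) := inf_le_right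
    refine ⟨?_, ?_⟩
    · have hle : Cfsg.FusionSystem.centralizerIn (S : Subgroup G) Q ≤ Subgroup.centralizer (Q : Set G) :=
        inf_le_right
      rw [Cfsg.Agent.Lib.helper87.sylowIn_iff hle]
      refine ⟨hSp.to_le inf_le_left, ?_⟩
      intro K hKC hK
      have hKN : K ≤ Subgroup.normalizer (Q : Set G) := hKC.trans (Subgroup.centralizer_le_normalizer _)
      obtain ⟨n, hn, hKn⟩ := Cfsg.Agent.Lib.helper87.exists_conj_le_of_sylowIn hN hKN hK
      have h1 : K.map (MulAut.conj n).toMonoidHom ≤ Cfsg.FusionSystem.centralizerIn (S : Subgroup G) Q := by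
        refine le_inf (hKn.trans inf_le_left) ?_
        have h2 := Cfsg.Agent.Lib.helper87.map_conj_centralizer n Q
        rw [Cfsg.Agent.Lib.helper87.map_conj_eq_of_mem_normalizer hn] at h2
        rw [← h2]
        exact Subgroup.map_mono hKC
      have h3 := Subgroup.card_le_of_le h1
      rw [Cfsg.Agent.Lib.helper87.card_map_conj] at h3
      exact h3
    · obtain ⟨R, hR⟩ := hN
      refine Cfsg.Agent.Lib.helper87.sylowIn_map_range Q.normalizerMonoidHom _ _
        ((Cfsg.FusionSystem.normalizerIn (S : Subgroup G) Q).subgroupOf (Subgroup.normalizer (Q : Set G)))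
        ?_ ?_ R hR
      · rw [Cfsg.Agent.Lib.helper87.autInducedBy_eq_map, top_inf_eq, Subgroup.subgroupOf_self,
          MonoidHom.range_eq_map]
      · rw [Cfsg.Agent.Lib.helper87.autInducedBy_eq_map]
        rfl

end Cfsg.Agent.S5122
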