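import Cfsg.Statements.S5123
import Cfsg.Agent.Lib.helper87.SylowIn2

set_option autoImplicit false
open Cfsg

namespace Cfsg.Agent.S5123

/-- Let G be a finite group with Sylow p-subgroup S, P, Q ≤ S and g ∈ G with gPg⁻¹ = Q, and suppose N_S(Q) is a Sylow p-subgroup of N_G(Q). Let N be the set of x ∈ N_S(P) with gxg⁻¹ ∈ N_S(Q)C_G(Q). Then some h ∈ C_G(Q) satisfies (hg)N(hg)⁻¹ ≤ S. -/
theorem result {G : Type*} [Group G] [Finite G] (p : ℕ) [Fact p.Prime] (S : Sylow p G) (P Q : Subgroup G) (hP : P ≤ S) (hQ : Q ≤ S) (g : G) (hg : P.map (MulAut.conj g).toMonoidHom = Q) (hN : (∃ R : Sylow p ↥(Subgroup.normalizer (Q : Set G)), (R : Subgroup ↥(Subgroup.normalizer (Q : Set G))) = (Cfsg.FusionSystem.normalizerIn (S : Subgroup G) Q).subgroupOf (Subgroup.normalizer (Q : Set G)))) : ∃ h ∈ Subgroup.centralizer (Q : Set G), ((Cfsg.FusionSystem.normalizerIn (S : Subgroup G) P) ⊓ (Cfsg.FusionSystem.normalizerIn (S : Subgroup G) Q ⊔ Subgroup.centralizer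 (Q : Set G)).comap (MulAut.conj g).toMonoidHom).map (MulAut.conj (h * g)).toMonoidHom ≤ S := by
  have hSp : IsPGroup p (S : Subgroup G) := S.isPGroup'
  have hAN : Cfsg.FusionSystem.normalizerIn (S : Subgroup G) Q ≤ Subgroup.normalizer (Q : Set G) := inf_le_right
  have hCN : Subgroup.centralizer (Q : Set G) ≤ Subgroup.normalizer (Q : Set G) :=
    Subgroup.centralizer_le_normalizer _
  have hMN : Cfsg.FusionSystem.normalizerIn (S : Subgroup G) Q ⊔ Subgroup.centralizer (Q : Set G) ≤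
      Subgroup.normalizer (Q : Set G) := sup_le hAN hCN
  have hAM : Cfsg.FusionSystem.normalizerIn (S : Subgroup G) Q ≤
      Cfsg.FusionSystem.normalizerIn (S : Subgroup G) Q ⊔ Subgroup.centralizer (Q : Set G) := le_sup_left
  have hSyl := Cfsg.Agent.Lib.helper87.sylowIn_of_le hAM hMN hN
  -- the subgroup N and its image under conjugation by g
  have hN'M : ((Cfsg.FusionSystem.normalizerIn (S : Subgroup G) P) ⊓
      (Cfsg.FusionSystem.normalizerIn (S : Subgroup G) Q ⊔ Subgroup.centralizer (Q : Set G)).comap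
        (MulAut.conj g).toMonoidHom).map (MulAut.conj g).toMonoidHom ≤
      Cfsg.FusionSystem.normalizerIn (S : Subgroup G) Q ⊔ Subgroup.centralizer (Q : Set G) := by
    rintro _ ⟨x, hx, rfl⟩
    exact hx.2
  have hN'p : IsPGroup p ↥(((Cfsg.FusionSystem.normalizerIn (S : Subgroup G) P) ⊓
      (Cfsg.FusionSystem.normalizerIn (S : Subgroup G) Q ⊔ Subgroup.centralizer (Q : Set G)).comap
        (MulAut.conj g).toMonoidHom).map (MulAut.conj g).toMonoidHom) :=
    (hSp.to_le (inf_le_left.trans inf_le_left)).map _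
  obtain ⟨m, hmM, hm⟩ := Cfsg.Agent.Lib.helper87.exists_conj_le_of_sylowIn hSyl hN'M hN'p
  have hmM' : m ∈ ((Cfsg.FusionSystem.normalizerIn (S : Subgroup G) Q ⊔ Subgroup.centralizer (Q : Set G) :
      Subgroup G) : Set G) := hmM
  rw [Subgroup.coe_mul_of_left_le_normalizer_right _ _
    (hAN.trans (Cfsg.Agent.Lib.helper87.normalizer_le_normalizer_centralizer Q))] at hmM'
  obtain ⟨a, ha, c, hc, rfl⟩ := hmM'
  refine ⟨c, hc, ?_⟩
  rintro _ ⟨x, hx, rfl⟩
  have h1 : (MulAut.conj (a * c)).toMonoidHom ((MulAut.conj g).toMonoidHom x) ∈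
      Cfsg.FusionSystem.normalizerIn (S : Subgroup G) Q := hm ⟨_, ⟨x, hx, rfl⟩, rfl⟩
  have h2 : (MulAut.conj (c * g)).toMonoidHom x =
      a⁻¹ * ((MulAut.conj (a * c)).toMonoidHom ((MulAut.conj g).toMonoidHom x)) * a := by
    show c * g * x * (c * g)⁻¹ = a⁻¹ * (a * c * (g * x * g⁻¹) * (a * c)⁻¹) * a
    group
  rw [h2]
  have ha' : a ∈ Cfsg.FusionSystem.normalizerIn (S : Subgroup G) Q := ha
  exact (Subgroup.mul_mem _ (Subgroup.mul_mem _ (Subgroup.inv_mem _ ha') h1) ha').1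

end Cfsg.Agent.S5123
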