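import Cfsg.Statements.S5125
import Cfsg.Agent.Lib.helper88.Saturated2
import Cfsg.Agent.Lib.helper89.FusionSat
import Cfsg.Agent.Lib.helper89.FusionClosed
import Cfsg.Agent.Lib.helper89.StabChain
import Cfsg.Agent.Lib.helper89.FusionNormalizer

set_option autoImplicit false
open Cfsg

namespace Cfsg.Agent.S5125

open Cfsg.Agent.Lib
open scoped commutatorElement

section aux

variable {Ω : Type*} [Group Ω] {S : Subgroup Ω}

theorem sc_of_normal (F : FusionSystem S) {Q : Subgroup Ω} (hQ : F.IsNormal Q) : F.StronglyClosed Q := by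
  refine ⟨hQ.1, fun R hR φ hφ x => ?_⟩
  obtain ⟨ψ, hψ, hext, hmap⟩ := hQ.2 R φ hφ
  rw [← hext x]
  have h1 : ψ (Subgroup.inclusion le_sup_left x) ∈ (Q.subgroupOf (R ⊔ Q)).map ψ :=
    ⟨_, by rw [SetLike.mem_coe, Subgroup.mem_subgroupOf]; exact hR x.2, rfl⟩
  rw [hmap] at h1
  exact h1

theorem normExt_of_ext (F : FusionSystem S) [Finite S] (Q : Subgroup Ω) {U N : Subgroup Ω} {φ : U →* Ω}
    {ψ : N →* Ω} (hUN : U ≤ N)
    (hext : ∀ (x : Ω) (hx : x ∈ U) (hN : x ∈ N), ψ ⟨x, hN⟩ = φ ⟨x, hx⟩)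
    (h : helper89.NormExt F Q ψ) : helper89.NormExt F Q φ := by
  obtain ⟨T, ψ', hψ', hNT, hQT, hext', hQQ⟩ := h
  refine ⟨T, ψ', hψ', hUN.trans hNT, hQT, fun x hx hT => ?_, hQQ⟩
  rw [hext' x (hUN hx) hT]
  exact hext x hx (hUN hx)

end aux

/-- Let F be a saturated fusion system over a finite p-group S and Q a subgroup strongly closed in F. If Q has a subgroup Q₁ that is normal in F, with Q/Q₁ abelian and Aut_F(Q₁) a p-group, then Q is normal in F. -/
theorem result {Ω : Type*} [Group Ω] {S : Subgroup Ω} [Finite S] (p : ℕ) [Fact p.Prime] (hS : IsPGroup p S) (F : Cfsg.FusionSystem S) (hF : F.IsSaturated p) (Q Q₁ : Subgroup Ω) (hQ : F.StronglyClosed Q) (hQ₁Q : Q₁ ≤ Q) (hQ₁ : F.IsNormal Q₁) (hab : ⁅Q, Q⁆ ≤ Q₁) (hAut : IsPGroup p ↥(F.autGroup Q₁)) : F.IsNormal Q := by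
  classical
  have hQS : Q ≤ S := hQ.1
  have hQ₁sc : F.StronglyClosed Q₁ := sc_of_normal F hQ₁
  have hQ₁S : Q₁ ≤ S := hQ₁.1
  haveI : Finite Q := helper89.finite_of_le hQS
  have hQn : ∀ g ∈ S, ∀ t ∈ Q, g * t * g⁻¹ ∈ Q :=
    fun g hg t ht => helper89.conj_mem_of_stronglyClosed F hQ hg ht
  have hT : S ≤ FusionSystem.normalizerIn S Q :=
    fun g hg => Subgroup.mem_inf.mpr ⟨hg, helper88.mem_normalizer_of_conj_mem (hQn g hg)⟩
  rw [helper89.isNormal_iff_forall_normExt]
  refine ⟨hQS, ?_⟩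
  have hind : ∀ P, F.Hom P ⊆ (helper89.normalizerSystemOn F Q S hQS hT).Hom P := by
    refine helper89.saturated_induction F _ hS hF ?_
    intro U hfa hrec IH α hα
    have hUS : U ≤ S := hfa.1
    haveI : Finite U := helper89.finite_of_le hUS
    have hφ : U.subtype.comp α.toMonoidHom ∈ F.Hom U := (helper89.mem_autGroup_iff F hUS α).mp hα
    rw [helper89.mem_normalizerSystemOn_iff]
    refine ⟨hφ, hUS, fun x => hUS (α x).2, ?_⟩
    by_cases hQU : Q ≤ U
    · exact ⟨U, _, hφ, le_rfl, hQU, fun x hx hR => rfl,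
        fun q hq hR => helper89.aut_mem_of_stronglyClosed F hQ hUS hα ⟨q, hR⟩ hq⟩
    by_cases hQ₁U : Q₁ ≤ U
    · obtain ⟨w, hwQ, hwN, hwU⟩ := helper89.exists_normalizing_not_mem hS hQS hUS hQn hQU
      have hwS : w ∈ S := hQS hwQ
      have hQinv : ∀ a ∈ F.autGroup U, ∀ x ∈ Q.subgroupOf U, a x ∈ Q.subgroupOf U := by
        intro a ha x hx
        rw [Subgroup.mem_subgroupOf] at hx ⊢
        exact helper89.aut_mem_of_stronglyClosed F hQ hUS ha x hx
      have hQ₁inv : ∀ a ∈ F.autGroup U, ∀ x ∈ Q₁.subgroupOf U, a x ∈ Q₁.subgroupOf U := by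
        intro a ha x hx
        rw [Subgroup.mem_subgroupOf] at hx ⊢
        exact helper89.aut_mem_of_stronglyClosed F hQ₁sc hUS ha x hx
      have hinv : ∀ a ∈ F.autGroup U,
          ∀ MM' ∈ ({((⊤ : Subgroup U), Q.subgroupOf U), (Q.subgroupOf U, Q₁.subgroupOf U)} :
            Set (Subgroup U × Subgroup U)),
          (∀ x ∈ MM'.1, a x ∈ MM'.1) ∧ (∀ x ∈ MM'.2, a x ∈ MM'.2) := by
        intro a ha MM' hMM'
        rcases hMM' with h | h
        · subst h
          exact ⟨fun x _ => Subgroup.mem_top _, hQinv a ha⟩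
        · rw [Set.mem_singleton_iff] at h
          subst h
          exact ⟨hQinv a ha, hQ₁inv a ha⟩
      have hinv0 : ∀ a ∈ F.autGroup U,
          ∀ MM' ∈ ({((⊤ : Subgroup U), Q.subgroupOf U), (Q.subgroupOf U, Q₁.subgroupOf U),
            (Q₁.subgroupOf U, (⊥ : Subgroup U))} : Set (Subgroup U × Subgroup U)),
          (∀ x ∈ MM'.1, a x ∈ MM'.1) ∧ (∀ x ∈ MM'.2, a x ∈ MM'.2) := by
        intro a ha MM' hMM'
        rcases hMM' with h | h | h
        · subst h
          exact ⟨fun x _ => Subgroup.mem_top _, hQinv a ha⟩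
        · subst h
          exact ⟨hQinv a ha, hQ₁inv a ha⟩
        · rw [Set.mem_singleton_iff] at h
          subst h
          refine ⟨hQ₁inv a ha, fun x hx => ?_⟩
          rw [Subgroup.mem_bot] at hx ⊢
          rw [hx, map_one]
      have hD0p : IsPGroup p (helper89.stabilizerOfPairs _ _ hinv0) := by
        refine helper89.isPGroup_stabilizerOfPairs (hS.to_le hUS) _ _ hinv0 ?_
        intro Pr h0 hstep
        have h1 := hstep _ _ (Set.mem_insert_of_mem _ (Set.mem_insert_of_mem _ (Set.mem_singleton _)))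
          bot_le h0
        have hle : Q₁.subgroupOf U ≤ Q.subgroupOf U := by
          intro x hx
          rw [Subgroup.mem_subgroupOf] at hx ⊢
          exact hQ₁Q hx
        have h2 := hstep _ _ (Set.mem_insert_of_mem _ (Set.mem_insert _ _)) hle h1
        exact hstep _ _ (Set.mem_insert _ _) le_top h2
      have hDp : IsPGroup p (helper89.stabilizerOfPairs _ _ hinv) := by
        rintro ⟨δ, hδA, hδC⟩
        have hδF : U.subtype.comp δ.toMonoidHom ∈ F.Hom U :=
          (helper89.mem_autGroup_iff F hUS δ).mp hδA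
        have ha := helper88.restrict_mem F hQ₁U hδF
        have hval : ∀ x : Q₁,
            ((U.subtype.comp δ.toMonoidHom).comp (Subgroup.inclusion hQ₁U)) x ∈ Q₁ :=
          hQ₁sc.2 Q₁ le_rfl _ ha
        obtain ⟨δ₁, hδ₁⟩ := helper89.exists_aut_of_mem F ha hval
        have hδ₁A : δ₁ ∈ F.autGroup Q₁ := by
          rw [helper89.mem_autGroup_iff F hQ₁S]
          have h1 : Q₁.subtype.comp δ₁.toMonoidHom =
              (U.subtype.comp δ.toMonoidHom).comp (Subgroup.inclusion hQ₁U) := by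
            ext x
            exact hδ₁ x
          rw [h1]
          exact ha
        obtain ⟨k, hk⟩ := hAut ⟨δ₁, hδ₁A⟩
        have hk' : δ₁ ^ p ^ k = 1 := congrArg Subtype.val hk
        have hpow : ∀ n : ℕ, ∀ x : Q₁,
            (((δ ^ n) (Subgroup.inclusion hQ₁U x) : U) : Ω) = ((δ₁ ^ n) x : Q₁) := by
          intro n
          induction n with
          | zero => intro x; rfl
          | succ n ih =>
            intro x
            rw [pow_succ, pow_succ, MulAut.mul_apply, MulAut.mul_apply]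
            have h1 : δ (Subgroup.inclusion hQ₁U x) = Subgroup.inclusion hQ₁U (δ₁ x) :=
              Subtype.ext (hδ₁ x).symm
            rw [h1]
            exact ih (δ₁ x)
        have hD0 : δ ∈ helper89.stabilizerOfPairs _ _ hinv := ⟨hδA, hδC⟩
        have hD : δ ^ p ^ k ∈ helper89.stabilizerOfPairs _ _ hinv := Subgroup.pow_mem _ hD0 _
        have hmem0 : δ ^ p ^ k ∈ helper89.stabilizerOfPairs _ _ hinv0 := by
          refine ⟨hD.1, ?_⟩
          intro MM' hMM'
          rcases hMM' with h | h | h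
          · subst h
            exact hD.2 _ (Set.mem_insert _ _)
          · subst h
            exact hD.2 _ (Set.mem_insert_of_mem _ (Set.mem_singleton _))
          · rw [Set.mem_singleton_iff] at h
            subst h
            intro x hx
            rw [Subgroup.mem_subgroupOf] at hx
            rw [Subgroup.mem_bot]
            apply Subtype.ext
            show (x : Ω)⁻¹ * (((δ ^ p ^ k) x : U) : Ω) = 1
            have h2 := hpow (p ^ k) ⟨x, hx⟩
            have h3 : Subgroup.inclusion hQ₁U ⟨(x : Ω), hx⟩ = x := Subtype.ext rfl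
            rw [h3, hk'] at h2
            rw [h2]
            simp
        obtain ⟨m, hm⟩ := hD0p ⟨δ ^ p ^ k, hmem0⟩
        refine ⟨k + m, Subtype.ext ?_⟩
        have h1 : (δ ^ p ^ k) ^ p ^ m = 1 := congrArg Subtype.val hm
        show δ ^ p ^ (k + m) = 1
        rw [pow_add, pow_mul]
        exact h1
      have hwconj : ∀ x ∈ U, w * x * w⁻¹ ∈ U :=
        fun x hx => (Subgroup.mem_normalizer_iff.mp hwN x).mp hx
      obtain ⟨c, hc⟩ := helper89.exists_conj_aut F hUS hwS hwconj
      have hcS : c ∈ autInducedBy S U := (helper89.mem_autInducedBy_iff S U c).mpr ⟨w, hwS, hc⟩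
      have hcD : c ∈ helper89.stabilizerOfPairs _ _ hinv := by
        refine ⟨helper89.autInducedBy_le_autGroup F hUS hcS, fun MM' hMM' => ?_⟩
        rcases hMM' with h | h
        · subst h
          intro x _
          rw [Subgroup.mem_subgroupOf]
          show (x : Ω)⁻¹ * ((c x : U) : Ω) ∈ Q
          rw [hc x]
          have h1 : (x : Ω)⁻¹ * (w * x * w⁻¹) = ((x : Ω)⁻¹ * w * ((x : Ω)⁻¹)⁻¹) * w⁻¹ := by group
          rw [h1]
          exact Q.mul_mem (hQn _ (S.inv_mem (hUS x.2)) w hwQ) (Q.inv_mem hwQ)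
        · rw [Set.mem_singleton_iff] at h
          subst h
          intro x hx
          rw [Subgroup.mem_subgroupOf] at hx ⊢
          show (x : Ω)⁻¹ * ((c x : U) : Ω) ∈ Q₁
          rw [hc x]
          have h1 : (x : Ω)⁻¹ * (w * x * w⁻¹) = ⁅(x : Ω)⁻¹, w⁆ := by
            rw [commutatorElement_def]; group
          rw [h1]
          exact hab (Subgroup.commutator_mem_commutator (Q.inv_mem hx) hwQ)
      have hDle := helper89.normal_pgroup_le_autS F hfa _ (helper89.stabilizerOfPairs_le _ _ hinv)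
        (helper89.stabilizerOfPairs_conj_mem _ _ hinv) hDp
      have hconj : α * c * α⁻¹ ∈ autInducedBy S U :=
        hDle (helper89.stabilizerOfPairs_conj_mem _ _ hinv α hα c hcD)
      obtain ⟨N, hUN, ψ, hψ, hψα⟩ :=
        helper89.exists_extension_of_conj_mem F hrec hα hwS hwN hwU hc hconj
      have hψE := IH N hUN hψ
      rw [helper89.mem_normalizerSystemOn_iff] at hψE
      exact normExt_of_ext F Q hUN.le (fun x hx hN => hψα ⟨x, hx⟩ hN) hψE.2.2.2
    · obtain ⟨ψ, hψ, hext, -⟩ := hQ₁.2 U _ hφ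
      have hlt : U < U ⊔ Q₁ := by
        refine lt_of_le_of_ne le_sup_left (fun h => hQ₁U ?_)
        rw [h]
        exact le_sup_right
      have hψE := IH _ hlt hψ
      rw [helper89.mem_normalizerSystemOn_iff] at hψE
      exact normExt_of_ext F Q le_sup_left (fun x hx hN => hext ⟨x, hx⟩) hψE.2.2.2
  intro P φ hφ
  exact ((helper89.mem_normalizerSystemOn_iff F Q S hQS hT φ).mp (hind P hφ)).2.2.2

end Cfsg.Agent.S5125
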