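import Cfsg.Statements.S5126
import Cfsg.Agent.Lib.helper87.Model
import Cfsg.Agent.Lib.helper89.FusionNormalizer
import Cfsg.Agent.S5098

set_option autoImplicit false
open Cfsg

namespace Cfsg.Agent.S5126

/-- In a saturated fusion system over a finite p-group S, the normalizer system of a fully normalized, centric, radical subgroup R is constrained, and in every model of that normalizer system the largest normal p-subgroup is the image of R. -/
theorem result {Ω : Type*} [Group Ω] {S : Subgroup Ω} [Finite S] (p : ℕ) [Fact p.Prime] (hS : IsPGroup p S) (F : Cfsg.FusionSystem S) (hF : F.IsSaturated p) (R : Subgroup Ω) (hRn : F.IsFullyNormalized R) (hRc : F.IsCentric R) (hRr : F.IsRadical p R) (E : Cfsg.FusionSystem (Cfsg.FusionSystem.normalizerIn S R)) (hE : F.IsNormalizerSystem R E) {G : Type*} [Group G] (ι : ↥(Cfsg.FusionSystem.normalizerIn S R) →* G) : E.IsConstrained p ∧ (E.IsModel p G ι → (Cfsg.pCore p G : Subgroup G) = (R.subgroupOf (Cfsg.FusionSystem.normalizerIn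 S R)).map ι) := by
  have hRS : R ≤ S := hRn.1
  have hN : Finite ↥(Cfsg.FusionSystem.normalizerIn S R) :=
    Cfsg.Agent.Lib.helper89.finite_of_le (Cfsg.Agent.Lib.helper88.normalizerIn_le S R)
  have hRN : R ≤ Cfsg.FusionSystem.normalizerIn S R := Cfsg.Agent.Lib.helper88.le_normalizerIn hRS
  have hEsat : E.IsSaturated p := Cfsg.Agent.S5098.result p hS F hF R hRn E hE
  have hEF : ∀ P : Subgroup Ω, E.Hom P ⊆ F.Hom P := by
    intro P φ hφ
    rw [hE P] at hφ
    exact hφ.1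
  -- `R` is normal in `E`
  have hRnorm : E.IsNormal R := by
    refine ⟨hRN, fun P φ hφ => ?_⟩
    have hφ' := hφ
    rw [hE P] at hφ'
    obtain ⟨hφF, hPN, hφN, ψ, hψ, hext, hmap⟩ := hφ'
    refine ⟨ψ, ?_, hext, hmap⟩
    rw [hE (P ⊔ R), Cfsg.Agent.Lib.helper89.mem_normalizerHom_iff]
    refine ⟨hψ, sup_le hPN hRN, ?_, ?_⟩
    · intro y
      refine Cfsg.Agent.Lib.helper87.sup_hom_mem ψ _ (fun x => ?_) (fun x => ?_) y
      · rw [hext x]
        exact hφN x
      · have h1 : ψ (Subgroup.inclusion le_sup_right x) ∈ (R.subgroupOf (P ⊔ R)).map ψ :=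
          ⟨_, Subgroup.mem_subgroupOf.mpr x.2, rfl⟩
        rw [hmap] at h1
        exact hRN h1
    · refine ⟨P ⊔ R, ψ, hψ, le_rfl, le_sup_right, fun x hx hR => rfl, fun q hq hR => ?_⟩
      have h1 : ψ ⟨q, hR⟩ ∈ (R.subgroupOf (P ⊔ R)).map ψ :=
        ⟨⟨q, hR⟩, Subgroup.mem_subgroupOf.mpr hq, rfl⟩
      rw [hmap] at h1
      exact h1
  -- `R` is centric in `E`
  have hRcen : E.IsCentric R := by
    refine ⟨hRN, fun Q hQ => ?_⟩
    obtain ⟨φ, hφ, hr⟩ := hQ
    have h1 := hRc.2 Q ⟨φ, hEF _ hφ, hr⟩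
    intro g hg
    exact h1 ⟨(Cfsg.Agent.Lib.helper88.normalizerIn_le S R) hg.1, hg.2⟩
  -- `Aut_E(R) = Aut_F(R)`
  have hAut : E.autGroup R = F.autGroup R := by
    ext a
    rw [Cfsg.Agent.Lib.helper89.mem_autGroup_iff E hRN, Cfsg.Agent.Lib.helper89.mem_autGroup_iff F hRS,
      hE R, Cfsg.Agent.Lib.helper89.mem_normalizerHom_iff]
    constructor
    · exact fun h => h.1
    · intro h
      exact ⟨h, hRN, fun x => hRN (a x).2, R, _, h, le_rfl, le_rfl, fun _ _ _ => rfl,
        fun q hq hR => (a ⟨q, hR⟩).2⟩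
  have hRrad : E.IsRadical p R := by
    refine ⟨hRN, ?_⟩
    rw [hAut]
    exact hRr.2
  exact ⟨⟨hEsat, R, hRnorm, hRcen⟩,
    fun hM => Cfsg.Agent.Lib.helper87.model_pCore_eq hM hRnorm hRcen hRrad⟩

end Cfsg.Agent.S5126
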