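import Cfsg.Statements.S5130
import Cfsg.Agent.Lib.helper87.DirectFactor
import Cfsg.Agent.S5097
import Cfsg.Agent.S5099

set_option autoImplicit false
open Cfsg

namespace Cfsg.Agent.S5130

/-- Let F be a saturated fusion system over a finite p-group S that is the direct product of two subgroups S₁ and S₂, each strongly closed in F. Let R be the full subsystem of F over S₁ (all maps of F between subgroups of S₁) and R′ the subsystem over S₁ of those maps that extend to the subgroup generated with S₂ fixing S₂ elementwise. Then R and R′ are saturated, R′ is normal in F and in R, and R is weakly normal in F. -/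
theorem result {Ω : Type*} [Group Ω] {S : Subgroup Ω} [Finite S] (p : ℕ) [Fact p.Prime] (hS : IsPGroup p S) (F : Cfsg.FusionSystem S) (hF : F.IsSaturated p) (S₁ S₂ : Subgroup Ω) (hprod : Cfsg.IsInternalDirectProduct S₁ S₂ S) (h₁ : F.StronglyClosed S₁) (h₂ : F.StronglyClosed S₂) (R R' : Cfsg.FusionSystem S₁) (hR : ∀ P : Subgroup Ω, P ≤ S₁ → R.Hom P = F.Hom P) (hR' : ∀ P : Subgroup Ω, P ≤ S₁ → R'.Hom P = F.centralizerHom S₂ P) : R.IsSaturated p ∧ R'.IsSaturated p ∧ R'.IsNormalIn F p ∧ R'.IsNormalIn R p ∧ R.IsWeaklyNormalIn F p := by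
  classical
  have hinn := Cfsg.Agent.Lib.helper87.idp_inner hprod
  have hS₁S := h₁.1
  have hS₂S := h₂.1
  have hS₁C := Cfsg.Agent.Lib.helper87.idp_le_centralizerIn hprod
  have : Finite S₁ := Cfsg.Agent.Lib.helper89.finite_of_le hS₁S
  have hRsat : R.IsSaturated p := Cfsg.Agent.Lib.helper87.fullSub_saturated F hF h₁ hinn R hR
  -- `R'` is saturated, via the centralizer system of `S₂`
  have hR'sat : R'.IsSaturated p := by
    obtain ⟨C, hC⟩ := Cfsg.Agent.S5097.result F S₂ hS₂S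
    have hfc : F.IsFullyCentralized S₂ := by
      refine ⟨hS₂S, fun Q hQ => ?_⟩
      have hQle : Q ≤ S₂ := Cfsg.Agent.Lib.helper88.stronglyClosed_isConj_le F h₂ le_rfl hQ
      have hcard := Cfsg.Agent.Lib.helper88.isConj_card F hQ
      have : Finite S₂ := Cfsg.Agent.Lib.helper89.finite_of_le hS₂S
      have hQeq : Q = S₂ := Subgroup.eq_of_le_of_card_ge hQle hcard.le
      rw [hQeq]
    have hCsat := Cfsg.Agent.S5099.result p hS F hF S₂ hfc C hC
    have : Finite ↥(Cfsg.FusionSystem.centralizerIn S S₂) :=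
      Cfsg.Agent.Lib.helper89.finite_of_le inf_le_left
    have hsc : C.StronglyClosed S₁ := by
      refine ⟨hS₁C, fun P hP φ hφ x => ?_⟩
      rw [hC P] at hφ
      exact h₁.2 P hP φ hφ.1 x
    exact Cfsg.Agent.Lib.helper87.fullSub_saturated C hCsat hsc (fun g hg => hinn g hg.1) R'
      (fun P hP => by rw [hR' P hP, hC P])
  have hsubF : R'.IsSubsystemOf F := by
    intro P φ hφ
    rw [hR' P (R'.le_of_mem hφ).1] at hφ
    exact hφ.1
  have hsubR : R'.IsSubsystemOf R := by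
    intro P φ hφ
    have hP := (R'.le_of_mem hφ).1
    rw [hR P hP]
    exact hsubF P hφ
  have hAut : R.autGroup S₁ = F.autGroup S₁ := by
    unfold Cfsg.FusionSystem.autGroup
    rw [hR S₁ le_rfl]
  have hinv := Cfsg.Agent.Lib.helper87.centSub_autInvariant hS F hF hprod h₁ h₂ R' hR'
  have hfrat := Cfsg.Agent.Lib.helper87.centSub_frattini hS F hF hprod h₁ h₂ R' hR'
  have hRsc : R.StronglyClosed S₁ := ⟨le_rfl, fun P hP φ hφ x => (R.le_of_mem hφ).2 x⟩
  refine ⟨hRsat, hR'sat, ⟨⟨hR'sat, hF, hsubF, h₁, hinv, hfrat⟩,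
    Cfsg.Agent.Lib.helper87.centSub_ext F hprod R' hR'⟩,
    ⟨⟨hR'sat, hRsat, hsubR, hRsc, ?_, ?_⟩, Cfsg.Agent.Lib.helper87.centSub_ext' R R' hsubR⟩,
    hRsat, hF, ?_, h₁, ?_, ?_⟩
  · intro P hPT φ hφ α hα
    rw [hAut] at hα
    exact hinv P hPT φ hφ α hα
  · intro P hP φ hφ
    rw [hR P hP] at hφ
    obtain ⟨α, hα, φ₀, hφ₀, h⟩ := hfrat P hP φ hφ
    exact ⟨α, hAut ▸ hα, φ₀, hφ₀, h⟩
  · intro P φ hφ
    rw [hR P (R.le_of_mem hφ).1] at hφ
    exact hφ
  · intro P hPT φ hφ α hα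
    rw [hR P hPT] at hφ
    obtain ⟨χ, hχ, hrel⟩ := Cfsg.Agent.Lib.helper87.exists_transport F hS₁S hα hPT hφ
      (fun x => h₁.2 P hPT φ hφ x)
    refine ⟨χ, ?_, ?_⟩
    · have hle : Cfsg.Agent.Lib.helper87.imgAut S₁ P α ≤ S₁ :=
        Cfsg.Agent.Lib.helper87.imgAut_le S₁ P α
      have h1 := hR _ hle
      show χ ∈ R.Hom (Cfsg.Agent.Lib.helper87.imgAut S₁ P α)
      rw [h1]
      exact hχ
    · intro x hφx hαx
      exact hrel x ⟨_, hαx⟩ ⟨x, hPT x.2⟩ ⟨φ x, hφx⟩ rfl rfl rfl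
  · intro P hP φ hφ
    refine ⟨1, Subgroup.one_mem _, φ, ?_, fun x hx => rfl⟩
    rw [hR P hP]
    exact hφ

end Cfsg.Agent.S5130
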