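import Cfsg.Statements.S5136
import Cfsg.Agent.Lib.helper87.Fusion

set_option autoImplicit false
open Cfsg

namespace Cfsg.Agent.S5136

/-- Let F₁ and F₂ be fusion systems over finite p-groups S₁ and S₂ (inside ambient groups Ω₁ and Ω₂). Then their direct product exists: there is a fusion system over S₁ × S₂ inside Ω₁ × Ω₂ whose maps with source P ≤ S₁ × S₂ are exactly the restrictions to P of the homomorphisms (x₁, x₂) ↦ (φ₁ x₁, φ₂ x₂) with φ₁ a map of F₁ on the first projection of P and φ₂ a map of F₂ on the second projection. -/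
theorem result {Ω₁ Ω₂ : Type*} [Group Ω₁] [Group Ω₂] {S₁ : Subgroup Ω₁} {S₂ : Subgroup Ω₂} [Finite S₁] [Finite S₂] (p : ℕ) [Fact p.Prime] (h₁ : IsPGroup p S₁) (h₂ : IsPGroup p S₂) (F₁ : Cfsg.FusionSystem S₁) (F₂ : Cfsg.FusionSystem S₂) : ∃ E : Cfsg.FusionSystem (S₁.prod S₂), Cfsg.FusionSystem.IsProductSystem F₁ F₂ E := by
  have hfst : ∀ {P : Subgroup (Ω₁ × Ω₂)}, P ≤ S₁.prod S₂ → P.map (MonoidHom.fst Ω₁ Ω₂) ≤ S₁ := by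
    rintro P hP _ ⟨x, hx, rfl⟩
    exact (hP hx).1
  have hsnd : ∀ {P : Subgroup (Ω₁ × Ω₂)}, P ≤ S₁.prod S₂ → P.map (MonoidHom.snd Ω₁ Ω₂) ≤ S₂ := by
    rintro P hP _ ⟨x, hx, rfl⟩
    exact (hP hx).2
  have hm1 : ∀ {P : Subgroup (Ω₁ × Ω₂)} (x : P), (x : Ω₁ × Ω₂).1 ∈ P.map (MonoidHom.fst Ω₁ Ω₂) :=
    fun x => ⟨x, x.2, rfl⟩
  have hm2 : ∀ {P : Subgroup (Ω₁ × Ω₂)} (x : P), (x : Ω₁ × Ω₂).2 ∈ P.map (MonoidHom.snd Ω₁ Ω₂) :=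
    fun x => ⟨x, x.2, rfl⟩
  refine ⟨{
    Hom := fun P => {φ | P ≤ S₁.prod S₂ ∧
      ∃ φ₁ ∈ F₁.Hom (P.map (MonoidHom.fst Ω₁ Ω₂)), ∃ φ₂ ∈ F₂.Hom (P.map (MonoidHom.snd Ω₁ Ω₂)),
        ∀ (x : P) (h₁ : (x : Ω₁ × Ω₂).1 ∈ P.map (MonoidHom.fst Ω₁ Ω₂))
          (h₂ : (x : Ω₁ × Ω₂).2 ∈ P.map (MonoidHom.snd Ω₁ Ω₂)),
          φ x = (φ₁ ⟨(x : Ω₁ × Ω₂).1, h₁⟩, φ₂ ⟨(x : Ω₁ × Ω₂).2, h₂⟩)}
    le_of_mem := ?_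
    injective_of_mem := ?_
    conj_mem := ?_
    comp_mem := ?_
    inv_mem := ?_ }, fun P φ => Iff.rfl⟩
  · -- le_of_mem
    rintro P φ ⟨hP, φ₁, hφ₁, φ₂, hφ₂, heq⟩
    refine ⟨hP, fun x => ?_⟩
    rw [heq x (hm1 x) (hm2 x)]
    exact ⟨(F₁.le_of_mem hφ₁).2 _, (F₂.le_of_mem hφ₂).2 _⟩
  · -- injective
    rintro P φ ⟨hP, φ₁, hφ₁, φ₂, hφ₂, heq⟩ x y hxy
    rw [heq x (hm1 x) (hm2 x), heq y (hm1 y) (hm2 y)] at hxy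
    have e1 := F₁.injective_of_mem hφ₁ (congrArg Prod.fst hxy)
    have e2 := F₂.injective_of_mem hφ₂ (congrArg Prod.snd hxy)
    apply Subtype.ext
    exact Prod.ext (congrArg Subtype.val e1) (congrArg Subtype.val e2)
  · -- conj_mem
    rintro P g hP hg
    refine ⟨hP, Cfsg.conjHom _ g.1, F₁.conj_mem (hfst hP) hg.1, Cfsg.conjHom _ g.2,
      F₂.conj_mem (hsnd hP) hg.2, fun x h₁ h₂ => rfl⟩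
  · -- comp_mem
    rintro P Q φ ψ ⟨hP, φ₁, hφ₁, φ₂, hφ₂, heq⟩ ⟨hQ, ψ₁, hψ₁, ψ₂, hψ₂, heq'⟩ h
    have hc1 : ∀ y : ↥(P.map (MonoidHom.fst Ω₁ Ω₂)), φ₁ y ∈ Q.map (MonoidHom.fst Ω₁ Ω₂) := by
      rintro ⟨_, x, hx, rfl⟩
      refine ⟨φ ⟨x, hx⟩, h _, ?_⟩
      rw [heq ⟨x, hx⟩ (hm1 _) (hm2 _)]
      rfl
    have hc2 : ∀ y : ↥(P.map (MonoidHom.snd Ω₁ Ω₂)), φ₂ y ∈ Q.map (MonoidHom.snd Ω₁ Ω₂) := by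
      rintro ⟨_, x, hx, rfl⟩
      refine ⟨φ ⟨x, hx⟩, h _, ?_⟩
      rw [heq ⟨x, hx⟩ (hm1 _) (hm2 _)]
      rfl
    refine ⟨hP, ψ₁.comp (φ₁.codRestrict _ hc1), F₁.comp_mem hφ₁ hψ₁ hc1,
      ψ₂.comp (φ₂.codRestrict _ hc2), F₂.comp_mem hφ₂ hψ₂ hc2, fun x h₁ h₂ => ?_⟩
    show ψ ⟨φ x, h x⟩ = (ψ₁ ⟨φ₁ ⟨_, h₁⟩, _⟩, ψ₂ ⟨φ₂ ⟨_, h₂⟩, _⟩)
    rw [heq' ⟨φ x, h x⟩ (hm1 _) (hm2 _)]
    have e := heq x h₁ h₂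
    refine Prod.ext ?_ ?_
    · show ψ₁ ⟨(φ x).1, _⟩ = ψ₁ ⟨φ₁ ⟨_, h₁⟩, _⟩
      congr 1
      exact Subtype.ext (congrArg Prod.fst e)
    · show ψ₂ ⟨(φ x).2, _⟩ = ψ₂ ⟨φ₂ ⟨_, h₂⟩, _⟩
      congr 1
      exact Subtype.ext (congrArg Prod.snd e)
  · -- inv_mem
    rintro P φ ⟨hP, φ₁, hφ₁, φ₂, hφ₂, heq⟩
    obtain ⟨χ₁, hχ₁, hχ₁inv⟩ := F₁.inv_mem hφ₁
    obtain ⟨χ₂, hχ₂, hχ₂inv⟩ := F₂.inv_mem hφ₂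
    have hle1 : φ.range.map (MonoidHom.fst Ω₁ Ω₂) ≤ φ₁.range := by
      rintro _ ⟨_, ⟨x, rfl⟩, rfl⟩
      refine ⟨⟨_, hm1 x⟩, ?_⟩
      rw [heq x (hm1 x) (hm2 x)]
      rfl
    have hle2 : φ.range.map (MonoidHom.snd Ω₁ Ω₂) ≤ φ₂.range := by
      rintro _ ⟨_, ⟨x, rfl⟩, rfl⟩
      refine ⟨⟨_, hm2 x⟩, ?_⟩
      rw [heq x (hm1 x) (hm2 x)]
      rfl
    have hψ₁ := Cfsg.Agent.Lib.helper87.hom_comp_inclusion F₁ hχ₁ hle1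
    have hψ₂ := Cfsg.Agent.Lib.helper87.hom_comp_inclusion F₂ hχ₂ hle2
    have hrange : φ.range ≤ S₁.prod S₂ := by
      rintro _ ⟨x, rfl⟩
      rw [heq x (hm1 x) (hm2 x)]
      exact ⟨(F₁.le_of_mem hφ₁).2 _, (F₂.le_of_mem hφ₂).2 _⟩
    refine ⟨MonoidHom.prod
        ((χ₁.comp (Subgroup.inclusion hle1)).comp ((MonoidHom.fst Ω₁ Ω₂).subgroupMap φ.range))
        ((χ₂.comp (Subgroup.inclusion hle2)).comp ((MonoidHom.snd Ω₁ Ω₂).subgroupMap φ.range)),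
      ⟨hrange, _, hψ₁, _, hψ₂, fun x h₁ h₂ => rfl⟩, fun x => ?_⟩
    have e := heq x (hm1 x) (hm2 x)
    refine Prod.ext ?_ ?_
    · show χ₁ ⟨(φ x).1, _⟩ = (x : Ω₁ × Ω₂).1
      refine Eq.trans ?_ (hχ₁inv ⟨_, hm1 x⟩)
      congr 1
      exact Subtype.ext (congrArg Prod.fst e)
    · show χ₂ ⟨(φ x).2, _⟩ = (x : Ω₁ × Ω₂).2
      refine Eq.trans ?_ (hχ₂inv ⟨_, hm2 x⟩)
      congr 1
      exact Subtype.ext (congrArg Prod.snd e)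

end Cfsg.Agent.S5136
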