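import Cfsg.Statements.S5139
import Cfsg.Agent.S5093
import Cfsg.Agent.Lib.helper87.Realize

set_option autoImplicit false
open Cfsg

namespace Cfsg.Agent.S5139

/-- a `p'`-automorphism in `Aut_G(P)` is conjugation by a `p'`-element. -/
theorem exists_pprime_conj {G : Type*} [Group G] [Finite G] (p : ℕ) [Fact p.Prime]
    {S P : Subgroup G} (hPS : P ≤ S) (α : (Cfsg.groupFusionSystem S).autGroup P)
    (hcop : (orderOf α).Coprime p) :
    ∃ g : G, (orderOf g).Coprime p ∧ ∀ x : P, (((α : MulAut P) x : P) : G) = g * x * g⁻¹ := by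
  obtain ⟨g, hg⟩ :=
    (Cfsg.Agent.Lib.helper88.mem_autGroup_groupFusionSystem hPS (α : MulAut P)).1 α.2
  have hpow : ∀ n : ℕ, ∀ y : P, ((((α : MulAut P) ^ n) y : P) : G) = g ^ n * y * (g ^ n)⁻¹ := by
    intro n
    induction n with
    | zero => intro y; simp
    | succ n ih =>
      intro y
      rw [pow_succ, MulAut.mul_apply, ih, hg]
      simp [pow_succ, mul_assoc]
  by_cases h1 : orderOf α = 1
  · have h2 : α = 1 := orderOf_eq_one_iff.1 h1
    refine ⟨1, by simp, fun x => ?_⟩
    rw [h2]
    simp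
  · have hpp : p.Prime := Fact.out
    have h0 : orderOf α ≠ 0 := by
      intro h0
      rw [h0, Nat.coprime_zero_left] at hcop
      exact hpp.one_lt.ne' hcop
    have hlt : 1 < orderOf α := by omega
    have hn0 : orderOf g ≠ 0 := (orderOf_pos g).ne'
    have hcop2 : (p ^ (orderOf g).factorization p).Coprime (orderOf α) :=
      (Nat.Coprime.pow_right _ hcop).symm
    obtain ⟨k, -, hk⟩ := Nat.exists_mul_mod_eq_one_of_coprime hcop2 hlt
    have hαN : α ^ (p ^ (orderOf g).factorization p * k) = α := by
      rw [← pow_mod_orderOf, hk, pow_one]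
    have hαN' : (α : MulAut P) ^ (p ^ (orderOf g).factorization p * k) = (α : MulAut P) := by
      have := congrArg Subtype.val hαN
      simpa using this
    have hord : orderOf (g ^ (p ^ (orderOf g).factorization p * k)) ∣
        orderOf g / p ^ (orderOf g).factorization p := by
      apply orderOf_dvd_of_pow_eq_one
      rw [← pow_mul]
      have e : p ^ (orderOf g).factorization p * k * (orderOf g / p ^ (orderOf g).factorization p)
          = orderOf g * k := by
        have := Nat.ordProj_mul_ordCompl_eq_self (orderOf g) p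
        calc p ^ (orderOf g).factorization p * k * (orderOf g / p ^ (orderOf g).factorization p)
            = (p ^ (orderOf g).factorization p * (orderOf g / p ^ (orderOf g).factorization p)) * k := by
              ring
          _ = orderOf g * k := by rw [this]
      rw [e, pow_mul, pow_orderOf_eq_one, one_pow]
    have hc : (orderOf (g ^ (p ^ (orderOf g).factorization p * k))).Coprime p :=
      Nat.Coprime.coprime_dvd_left hord (Nat.coprime_ordCompl hpp hn0).symm
    refine ⟨g ^ (p ^ (orderOf g).factorization p * k), hc, fun x => ?_⟩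
    rw [← hpow, hαN']

/-- the fusion system of a subgroup `H` on a Sylow `p`-subgroup `T` of `H` is saturated. -/
theorem fusionSystemOfSubgroup_saturated {G : Type*} [Group G] [Finite G] {p : ℕ} [Fact p.Prime]
    (H T : Subgroup G) (hTH : T ≤ H)
    (hsyl : ∃ Q : Sylow p H, (Q : Subgroup H).map H.subtype = T) :
    (Cfsg.fusionSystemOfSubgroup H T hTH).IsSaturated p := by
  obtain ⟨Q, hQ⟩ := hsyl
  have hR : (Cfsg.fusionSystemOfSubgroup H T hTH).IsRealizedBy (Subgroup.inclusion hTH) := by
    refine ⟨Subgroup.inclusion_injective hTH, fun P hP φ hφ => ⟨?_, ?_⟩⟩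
    · rintro ⟨-, -, g, hgH, hg⟩
      exact ⟨⟨g, hgH⟩, fun x => Subtype.ext (hg x)⟩
    · rintro ⟨g, hg⟩
      exact ⟨hP, hφ, g, g.2, fun x => congrArg Subtype.val (hg x)⟩
  apply Cfsg.Agent.Lib.helper87.saturated_of_realizedBy hR Q
  ext y
  constructor
  · intro hy
    have h1 : (y : G) ∈ T := by
      rw [← hQ]
      exact Subgroup.mem_map_of_mem _ hy
    exact ⟨⟨y, h1⟩, rfl⟩
  · rintro ⟨t, rfl⟩
    have h1 : (t : G) ∈ (Q : Subgroup H).map H.subtype := by
      rw [hQ]
      exact t.2
    obtain ⟨w, hw, hwt⟩ := h1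
    have h2 : w = Subgroup.inclusion hTH t := Subtype.ext hwt
    rwa [← h2]

theorem fusionSystemOfSubgroup_hom_congr {Ω : Type*} [Group Ω] (H : Subgroup Ω)
    {T T' : Subgroup Ω} (e : T = T') (h : T ≤ H) (h' : T' ≤ H) (P : Subgroup Ω) :
    (Cfsg.fusionSystemOfSubgroup H T h).Hom P = (Cfsg.fusionSystemOfSubgroup H T' h').Hom P := by
  subst e
  rfl

theorem isPResidual_fusionSystemOfSubgroup {G : Type*} [Group G] [Finite G] (p : ℕ)
    [Fact p.Prime] (S : Sylow p G)
    (hle : (Cfsg.groupFusionSystem (S : Subgroup G)).hyperfocalSubgroup p ≤ Cfsg.pResidual p G) :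
    (Cfsg.groupFusionSystem (S : Subgroup G)).IsPResidual p
      (Cfsg.fusionSystemOfSubgroup (Cfsg.pResidual p G) _ hle) := by
  have hhyp := Cfsg.Agent.S5093.result p S
  have hN := Cfsg.Agent.Lib.helper26.pResidual_normal p G
  have hS := Cfsg.Agent.Lib.helper88.hyperfocal_le (Cfsg.groupFusionSystem (S : Subgroup G)) p
  refine ⟨?_, ?_, le_rfl, ?_⟩
  · apply fusionSystemOfSubgroup_saturated
    obtain ⟨Q, hQ⟩ := Cfsg.Agent.Lib.helper53.exists_sylow_eq_inf_normal S (Cfsg.pResidual p G)
    exact ⟨Q, hQ.trans hhyp.symm⟩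
  · rintro P φ ⟨hP, hφ, g, -, hg⟩
    exact ⟨hP.trans hS, fun x => hS (hφ x), g, hg⟩
  · intro P hP
    unfold Cfsg.pResidual
    rw [MonoidHom.map_closure, Subgroup.closure_le]
    rintro _ ⟨α, hα, rfl⟩
    obtain ⟨g, hgc, hg⟩ := exists_pprime_conj p (hP.trans hS) α hα
    apply Subgroup.subset_closure
    exact ⟨hP, fun x => hP ((α : MulAut P) x).2, g,
      Cfsg.Agent.Lib.helper26.mem_pResidual_of_coprime hgc, hg⟩

/-- Let G be a finite group with Sylow p-subgroup S and O^p(G) the subgroup generated by the elements of order prime to p. Then the p-residual subsystem of the fusion system of G on S — the saturated subsystem of p-power index over the hyperfocal subgroup — is the fusion system of O^p(G) on S ∩ O^p(G): its maps are exactly the conjugation maps by elements of O^p(G) between subgroups of S ∩ O^p(G). -/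
theorem result {G : Type*} [Group G] [Finite G] (p : ℕ) [Fact p.Prime] (S : Sylow p G) (E : Cfsg.FusionSystem ((Cfsg.groupFusionSystem (S : Subgroup G)).hyperfocalSubgroup p)) (hE : (Cfsg.groupFusionSystem (S : Subgroup G)).IsPResidual p E) : ∃ h : (S : Subgroup G) ⊓ Cfsg.pResidual p G ≤ Cfsg.pResidual p G, ∀ P : Subgroup G, E.Hom P = (Cfsg.fusionSystemOfSubgroup (Cfsg.pResidual p G) ((S : Subgroup G) ⊓ Cfsg.pResidual p G) h).Hom P := by
  refine ⟨inf_le_right, ?_⟩
  have hhyp := Cfsg.Agent.S5093.result p S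
  have hle : (Cfsg.groupFusionSystem (S : Subgroup G)).hyperfocalSubgroup p ≤
      Cfsg.pResidual p G := by
    rw [hhyp]
    exact inf_le_right
  have key := isPResidual_fusionSystemOfSubgroup p S hle
  have huniq := Cfsg.Agent.Lib.helper88.pResidual_unique S.2 hE key
  intro P
  rw [huniq]
  exact fusionSystemOfSubgroup_hom_congr _ hhyp _ _ P

end Cfsg.Agent.S5139
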