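-- Statement S5142.
import Cfsg.Statements.S5142
import Cfsg.Agent.Lib.helper88.PR1

set_option autoImplicit false
open Cfsg

namespace Cfsg.Agent.S5142

open Cfsg.FusionSystem Cfsg.Agent.Lib.helper88

/-- Let F be a saturated fusion system over a finite p-group S and E a normal subsystem of F over T. Then the p'-residual subsystem of E (the least saturated subsystem of E over T of index prime to p) is contained in every normal subsystem of F over T; together with its normality in F (the case of a weakly normal E) this makes it the least normal subsystem of F over T. -/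
theorem result {Ω : Type*} [Group Ω] {S : Subgroup Ω} [Finite S] (p : ℕ) [Fact p.Prime] (hS : IsPGroup p S) (F : Cfsg.FusionSystem S) (hF : F.IsSaturated p) {T : Subgroup Ω} (E : Cfsg.FusionSystem T) (hE : E.IsNormalIn F p) (D : Cfsg.FusionSystem T) (hD : E.IsPPrimeResidual p D) : ∀ D' : Cfsg.FusionSystem T, D'.IsNormalIn F p → D.IsSubsystemOf D' := by
  intro D' hD'
  obtain ⟨⟨hEsat, -, hEinv⟩, -⟩ := hE
  obtain ⟨⟨hDsat, -, hDinv⟩, -⟩ := hD'
  have hT := hEinv.2.1
  have hTS := hT.1
  haveI : Finite T := finite_of_le hTS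
  have hTp : IsPGroup p T := hS.to_le hTS
  have h1 : D.IsSubsystemOf (Cfsg.Agent.Lib.helper87.resSys E p) :=
    hD.2.2 _ (Cfsg.Agent.Lib.helper87.resSys_saturated hTp E hEsat)
      (Cfsg.Agent.Lib.helper87.exists_isPPrimeResidual hTp E hEsat).2.1
  have h2 : (Cfsg.Agent.Lib.helper87.resSys E p).IsSubsystemOf D' := by
    refine Cfsg.Agent.Lib.helper87.resSys_le_of_mem ⟨?_, extCond_of_invariant hS F E D' hEsat hEinv
      hDsat hDinv⟩
    intro P hP
    refine pElt_closure_le_of_frattini hTp E hEsat D' ?_ P hP.1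
    intro P φ hφ
    obtain ⟨α, -, φ₀, hφ₀, heq⟩ := hDinv.2.2.2 P (E.le_of_mem hφ).1 φ (hEinv.1 P hφ)
    exact ⟨α, φ₀, hφ₀, heq⟩
  exact fun P φ hφ => h2 P (h1 P hφ)

end Cfsg.Agent.S5142
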