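-- Statement S5147.
import Cfsg.Statements.S5147
import Cfsg.Agent.Lib.helper88.SubnormalConstrained

set_option autoImplicit false
open Cfsg

namespace Cfsg.Agent.S5147

open Cfsg.FusionSystem Cfsg.Agent.Lib.helper88

/-- Let G be a finite group with Sylow 2-subgroup S whose 2-fusion system on S is constrained, and L a component of G (a subnormal quasisimple subgroup). Then the 2-fusion system of L/Z(L) on the image of S ∩ L is constrained. -/
theorem result {G : Type*} [Group G] [Finite G] (S : Sylow 2 G) (hF : (Cfsg.groupFusionSystem (S : Subgroup G)).IsConstrained 2) (L : Subgroup G) (hL : Cfsg.IsComponent L) : (Cfsg.groupFusionSystem (((S : Subgroup G).subgroupOf L).map (QuotientGroup.mk' (Subgroup.center L)))).IsConstrained 2 := by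
  obtain ⟨hsyl, hcon⟩ := Cfsg.Agent.Lib.helper88.subnormal_constrained S hF hL.1
    ((S : Subgroup G) ⊓ L) inf_le_right rfl
  have h := Cfsg.Agent.Lib.helper88.constrained_center_quotient L ((S : Subgroup G) ⊓ L)
    inf_le_right hsyl hcon
  rw [Subgroup.inf_subgroupOf_right] at h
  exact h

end Cfsg.Agent.S5147
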