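-- Statement S5153: fully F-normalized subgroups of T are fully E-normalized for E subnormal in F.
import Cfsg.Statements.S5153
import Cfsg.Agent.Lib.helper88.Saturated

set_option autoImplicit false
open Cfsg

namespace Cfsg.Agent.S5153

open Cfsg.FusionSystem Cfsg.Agent.Lib.helper88

/-- One step: a subsystem over a strongly closed subgroup. -/
theorem fullyNormalized_of_stronglyClosed {Ω : Type*} [Group Ω] {S : Subgroup Ω} [Finite S] {p : ℕ}
    [Fact p.Prime] (hS : IsPGroup p S) (F : FusionSystem S) (hF : F.IsSaturated p) {T : Subgroup Ω}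
    (E : FusionSystem T) (hsub : E.IsSubsystemOf F) (hT : F.StronglyClosed T) {P : Subgroup Ω}
    (hPT : P ≤ T) (hP : F.IsFullyNormalized P) : E.IsFullyNormalized P := by
  refine ⟨hPT, fun Q hQ => ?_⟩
  have hQ' : F.IsConj P Q := by
    obtain ⟨φ, hφ, h⟩ := hQ
    exact ⟨φ, hsub P hφ, h⟩
  obtain ⟨φ, hφ, hφQ⟩ :=
    exists_map_normalizer_of_fullyNormalized hS F hF hP (isConj_symm F hQ')
  have hTS := hT.1
  have hfinP : Finite P := finite_of_le hP.1
  have hfinN : Finite (normalizerIn T P) := finite_of_le (inf_le_left.trans hTS)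
  have hle : normalizerIn T Q ≤ normalizerIn S Q := inf_le_inf_right _ hTS
  have hmaps : ∀ g : normalizerIn T Q, φ (Subgroup.inclusion hle g) ∈ normalizerIn T P := by
    intro g
    refine Subgroup.mem_inf.mpr ⟨?_, ?_⟩
    · exact hT.2 (normalizerIn T Q) inf_le_left (φ.comp (Subgroup.inclusion hle))
        (restrict_mem F hle hφ) g
    · apply mem_normalizer_of_conj_mem
      intro y hy
      rw [← hφQ] at hy ⊢
      obtain ⟨x, hx, rfl⟩ := hy
      refine ⟨Subgroup.inclusion hle g * x * (Subgroup.inclusion hle g)⁻¹, ?_, by simp⟩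
      have hg : (g : Ω) ∈ Subgroup.normalizer (Q : Set Ω) := (Subgroup.mem_inf.mp g.2).2
      exact (Subgroup.mem_normalizer_iff.mp hg x).mp hx
  let f : normalizerIn T Q → normalizerIn T P := fun g => ⟨φ (Subgroup.inclusion hle g), hmaps g⟩
  have hf : Function.Injective f := by
    intro a b hab
    have h1 : φ (Subgroup.inclusion hle a) = φ (Subgroup.inclusion hle b) :=
      congrArg Subtype.val hab
    exact Subgroup.inclusion_injective hle (F.injective_of_mem hφ h1)
  exact Nat.card_le_card_of_injective f hf

theorem subnormal_le {Ω : Type*} [Group Ω] {T S : Subgroup Ω} {E : FusionSystem T}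
    {F : FusionSystem S} {p : ℕ} (h : E.IsSubnormalIn F p) : T ≤ S := by
  induction h with
  | refl F p => exact le_rfl
  | step _ hDF ih => exact ih.trans hDF.1.2.2.2.1.1

theorem subnormal_aux {Ω : Type*} [Group Ω] {T S : Subgroup Ω} {E : FusionSystem T}
    {F : FusionSystem S} {p : ℕ} (h : E.IsSubnormalIn F p) :
    Finite S → Fact p.Prime → IsPGroup p S → F.IsSaturated p →
      ∀ P : Subgroup Ω, P ≤ T → F.IsFullyNormalized P → E.IsFullyNormalized P := by
  induction h with
  | refl F p =>
    intro _ _ _ _ P _ hP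
    exact hP
  | step hED hDF ih =>
    intro hfin hp hS hF P hPT hP
    have hDsat := hDF.1.1
    have hDsub := hDF.1.2.2.1
    have hU := hDF.1.2.2.2.1
    have hUS := hU.1
    have hTU := subnormal_le hED
    have hPD := fullyNormalized_of_stronglyClosed hS _ hF _ hDsub hU (hPT.trans hTU) hP
    exact ih (finite_of_le hUS) hp (hS.to_le hUS) hDsat P hPT hPD

/-- Let F be a saturated fusion system over a finite p-group S and E a subnormal subsystem of F over T. Then every subgroup of T that is fully normalized in F is fully normalized in E. -/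
theorem result {Ω : Type*} [Group Ω] {S : Subgroup Ω} [Finite S] (p : ℕ) [Fact p.Prime] (hS : IsPGroup p S) (F : Cfsg.FusionSystem S) (hF : F.IsSaturated p) {T : Subgroup Ω} (E : Cfsg.FusionSystem T) (hE : E.IsSubnormalIn F p) (P : Subgroup Ω) (hPT : P ≤ T) (hP : F.IsFullyNormalized P) : E.IsFullyNormalized P := by
  exact subnormal_aux hE inferInstance inferInstance hS hF P hPT hP

end Cfsg.Agent.S5153
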