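-- Statement S5160: a simplicity criterion for the fusion system of a finite group.
import Cfsg.Statements.S5160
import Cfsg.Agent.Lib.helper88.NormalSub
import Cfsg.Agent.Lib.helper88.GroupSat

set_option autoImplicit false
open Cfsg

namespace Cfsg.Agent.S5160

open Cfsg.FusionSystem Cfsg.Agent.Lib.helper88

/-- Let G be a finite group with nontrivial Sylow p-subgroup S and F its fusion system on S. Suppose (a) no nontrivial proper subgroup of S is strongly closed in F, and (b) the automorphisms of S induced by G are generated by those induced, for R running over the fully normalized radical centric subgroups of F, by the subgroup of N_G(R) generated by its elements of p-power order. Then F is simple. -/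
theorem result {G : Type*} [Group G] [Finite G] (p : ℕ) [Fact p.Prime] (S : Sylow p G) (hS1 : (S : Subgroup G) ≠ ⊥) (ha : ∀ T : Subgroup G, (Cfsg.groupFusionSystem (S : Subgroup G)).StronglyClosed T → T = ⊥ ∨ T = (S : Subgroup G)) (hb : Cfsg.autInducedBy ⊤ (S : Subgroup G) = ⨆ (R : Subgroup G) (_ : (Cfsg.groupFusionSystem (S : Subgroup G)).IsFullyNormalized R ∧ (Cfsg.groupFusionSystem (S : Subgroup G)).IsRadical p R ∧ (Cfsg.groupFusionSystem (S : Subgroup G)).IsCentric R), Cfsg.autInducedBy (Subgroup.closure {g : G | g ∈ Subgroup.normalizer (R : Set G) ∧ ∃ k : ℕ, orderOf g = p ^ k}) (S : Subgroup G)) : (Cfsg.groupFusionSystem (S : Subgroup G)).IsSimple p := by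
  classical
  have hSp : IsPGroup p (S : Subgroup G) := S.isPGroup'
  have hFsat : (groupFusionSystem (S : Subgroup G)).IsSaturated p := groupFusionSystem_saturated S
  refine ⟨hFsat, hS1, ?_⟩
  intro T E hE
  obtain ⟨⟨hEsat, -, hinv⟩, -⟩ := hE
  have hT := hinv.2.1
  rcases ha T hT with hT0 | hTS
  · exact Or.inl hT0
  · right
    refine ⟨hTS, ?_⟩
    subst hTS
    have hAut : (groupFusionSystem (S : Subgroup G)).autGroup (S : Subgroup G) ≤
        E.autGroup (S : Subgroup G) := by
      intro α hα
      have h1 : α ∈ autInducedBy ⊤ (S : Subgroup G) := by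
        obtain ⟨g, hg⟩ := (mem_autGroup_groupFusionSystem le_rfl α).mp hα
        exact (mem_autInducedBy_iff _ _ _).mpr ⟨g, Subgroup.mem_top g, hg⟩
      rw [hb] at h1
      refine (iSup_le fun R => iSup_le fun hR => ?_ : _ ≤ E.autGroup (S : Subgroup G)) h1
      obtain ⟨hRfn, -, hRc⟩ := hR
      have hRS : R ≤ (S : Subgroup G) := hRfn.1
      refine (Subgroup.closure_le _).mpr ?_
      rintro β ⟨g, hgK, hβ⟩
      -- conjugation by `g` on `R` lies in `Aut_E(R)`
      have hgR : ∃ hN : g ∈ Subgroup.normalizer (R : Set G),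
          conjAutHom R ⟨g, hN⟩ ∈ E.autGroup R := by
        refine Subgroup.closure_induction (p := fun (g : G) _ =>
          ∃ hN : g ∈ Subgroup.normalizer (R : Set G), conjAutHom R ⟨g, hN⟩ ∈ E.autGroup R)
          ?_ ?_ ?_ ?_ hgK
        · rintro x ⟨hxN, k, hk⟩
          refine ⟨hxN, ?_⟩
          have hF : conjAutHom R ⟨x, hxN⟩ ∈ (groupFusionSystem (S : Subgroup G)).autGroup R :=
            (mem_autGroup_groupFusionSystem hRS _).mpr ⟨x, fun _ => rfl⟩
          have hpow : (conjAutHom R ⟨x, hxN⟩) ^ p ^ k = 1 := by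
            rw [← map_pow]
            have : (⟨x, hxN⟩ : Subgroup.normalizer (R : Set G)) ^ p ^ k = 1 := by
              apply Subtype.ext
              show x ^ p ^ k = 1
              rw [← hk]
              exact pow_orderOf_eq_one x
            rw [this, map_one]
          exact pElement_mem_autGroup_of_invariant hSp hFsat hinv hRfn hF hpow
        · refine ⟨Subgroup.one_mem _, ?_⟩
          have : (⟨1, Subgroup.one_mem _⟩ : Subgroup.normalizer (R : Set G)) = 1 := rfl
          rw [this, map_one]
          exact Subgroup.one_mem _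
        · rintro x y _ _ ⟨hxN, hx⟩ ⟨hyN, hy⟩
          refine ⟨Subgroup.mul_mem _ hxN hyN, ?_⟩
          have : (⟨x * y, Subgroup.mul_mem _ hxN hyN⟩ : Subgroup.normalizer (R : Set G))
              = ⟨x, hxN⟩ * ⟨y, hyN⟩ := rfl
          rw [this, map_mul]
          exact Subgroup.mul_mem _ hx hy
        · rintro x _ ⟨hxN, hx⟩
          refine ⟨Subgroup.inv_mem _ hxN, ?_⟩
          have : (⟨x⁻¹, Subgroup.inv_mem _ hxN⟩ : Subgroup.normalizer (R : Set G))
              = ⟨x, hxN⟩⁻¹ := rfl
          rw [this, map_inv]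
          exact Subgroup.inv_mem _ hx
      obtain ⟨hgN, hgE⟩ := hgR
      have hβF : (S : Subgroup G).subtype.comp β.toMonoidHom ∈
          (groupFusionSystem (S : Subgroup G)).Hom (S : Subgroup G) :=
        (mem_autGroup_iff' _ le_rfl β).mp
          ((mem_autGroup_groupFusionSystem le_rfl β).mpr ⟨g, hβ⟩)
      have hβR : ((S : Subgroup G).subtype.comp β.toMonoidHom).comp (Subgroup.inclusion hRS)
          ∈ E.Hom R := by
        have h2 := (mem_autGroup_iff' E hRS _).mp hgE
        have h3 : ((S : Subgroup G).subtype.comp β.toMonoidHom).comp (Subgroup.inclusion hRS)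
            = R.subtype.comp (conjAutHom R ⟨g, hgN⟩).toMonoidHom := by
          ext x
          exact hβ (Subgroup.inclusion hRS x)
        rw [h3]
        exact h2
      have h4 := mem_hom_of_restrict_centric hSp E (groupFusionSystem (S : Subgroup G)) hEsat hFsat
        hinv.1 hβF _ R hRS rfl hRc hβR
      exact (mem_autGroup_iff' E le_rfl β).mpr h4
    intro P
    apply Set.Subset.antisymm (hinv.1 P)
    intro φ hφ
    have hPS : P ≤ (S : Subgroup G) := ((groupFusionSystem (S : Subgroup G)).le_of_mem hφ).1
    obtain ⟨α, hα, φ₀, hφ₀, hfr⟩ := hinv.2.2.2 P hPS φ hφ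
    have hα' := (mem_autGroup_iff' E le_rfl α).mp (hAut hα)
    have hφ₀S : ∀ x : P, φ₀ x ∈ (S : Subgroup G) := fun x => (E.le_of_mem hφ₀).2 x
    have hcomp := E.comp_mem hφ₀ hα' hφ₀S
    have heq : ((S : Subgroup G).subtype.comp α.toMonoidHom).comp
        (φ₀.codRestrict (S : Subgroup G) hφ₀S) = φ := by
      ext x
      exact (hfr x (hφ₀S x)).symm
    rw [heq] at hcomp
    exact hcomp

end Cfsg.Agent.S5160
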