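-- Statement S5164: a nontrivial Sylow p-subgroup of A_n (n ≥ 6) is abelian iff n < p².
import Cfsg.Statements.S5164

set_option autoImplicit false
open Cfsg

namespace Cfsg.Agent.S5164

open Equiv

/-! ### Part 1: a `p`-group of permutations of fewer than `p²` points is commutative -/

theorem sq_not_dvd_factorial {p : ℕ} (hp : p.Prime) : ¬ p ^ 2 ∣ p.factorial := by
  intro h
  obtain ⟨m, rfl⟩ : ∃ m, p = m + 1 := ⟨p - 1, by have := hp.pos; omega⟩
  rw [Nat.factorial_succ, pow_two] at h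
  have h2 : (m + 1) ∣ m.factorial := (Nat.mul_dvd_mul_iff_left (Nat.succ_pos m)).mp h
  have := (Nat.Prime.dvd_factorial hp).mp h2
  omega

theorem comm_of_card_lt {α : Type*} [Fintype α] [DecidableEq α] {p : ℕ} [Fact p.Prime]
    (H : Subgroup (Perm α)) (hH : IsPGroup p H) (hα : Fintype.card α < p ^ 2) :
    ∀ a ∈ H, ∀ b ∈ H, a * b = b * a := by
  classical
  have hp : p.Prime := Fact.out
  intro a ha b hb
  ext x
  let φ : H →* Perm (MulAction.orbit H x) := MulAction.toPermHom H (MulAction.orbit H x)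
  have hR : IsPGroup p φ.range := hH.of_surjective φ.rangeRestrict φ.rangeRestrict_surjective
  obtain ⟨k, hk⟩ := hH.card_orbit x
  have hOle : Nat.card (MulAction.orbit H x) ≤ Fintype.card α := by
    rw [Nat.card_eq_fintype_card]
    exact Fintype.card_subtype_le _
  have hk1 : k ≤ 1 := by
    by_contra hcon
    have h2 : p ^ 2 ≤ p ^ k := Nat.pow_le_pow_right hp.pos (by omega)
    omega
  have hdvd : Nat.card φ.range ∣ Nat.card (Perm (MulAction.orbit H x)) :=
    Subgroup.card_subgroup_dvd_card _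
  have hperm : Nat.card (Perm (MulAction.orbit H x)) = (p ^ k).factorial := by
    rw [Nat.card_eq_fintype_card, Fintype.card_perm, ← Nat.card_eq_fintype_card, hk]
  obtain ⟨j, hj⟩ := (IsPGroup.iff_card).mp hR
  have hj1 : j ≤ 1 := by
    by_contra hcon
    have h2 : p ^ 2 ∣ (p ^ k).factorial := by
      rw [← hperm]
      refine dvd_trans ?_ hdvd
      rw [hj]
      exact pow_dvd_pow p (by omega)
    interval_cases k
    · simp only [pow_zero, Nat.factorial_one, Nat.dvd_one] at h2
      have : 1 < p ^ 2 := Nat.one_lt_pow (by norm_num) hp.one_lt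
      omega
    · rw [pow_one] at h2
      exact sq_not_dvd_factorial hp h2
  have hcomm : ∀ u v : φ.range, u * v = v * u := by
    interval_cases j
    · have : Subsingleton φ.range := (Nat.card_eq_one_iff_unique.mp (by simpa using hj)).1
      intro u v
      exact Subsingleton.elim _ _
    · have : IsCyclic φ.range := isCyclic_of_prime_card (p := p) (by simpa using hj)
      intro u v
      exact (IsCyclic.isMulCommutative (α := φ.range)).is_comm.comm u v
  have h1 := hcomm ⟨φ ⟨a, ha⟩, ⟨_, rfl⟩⟩ ⟨φ ⟨b, hb⟩, ⟨_, rfl⟩⟩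
  have h2 : φ ⟨a, ha⟩ * φ ⟨b, hb⟩ = φ ⟨b, hb⟩ * φ ⟨a, ha⟩ := congrArg Subtype.val h1
  have h3 := congrArg (fun u : Perm (MulAction.orbit H x) =>
    ((u ⟨x, MulAction.mem_orbit_self x⟩ : MulAction.orbit H x) : α)) h2
  simpa [φ] using h3

/-! ### Part 2: a nonabelian `p`-group of permutations of `ZMod p × ZMod p` -/

/-- The permutations `(x, y) ↦ (x + c, y + f x)` of `ZMod p × ZMod p`. -/
def shear (p : ℕ) : Subgroup (Perm (ZMod p × ZMod p)) where
  carrier := {σ | ∃ (c : ZMod p) (f : ZMod p → ZMod p), ∀ x y, σ (x, y) = (x + c, y + f x)}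
  one_mem' := ⟨0, fun _ => 0, fun x y => by simp⟩
  mul_mem' := by
    rintro σ τ ⟨c, f, h⟩ ⟨c', f', h'⟩
    refine ⟨c' + c, fun x => f' x + f (x + c'), fun x y => ?_⟩
    rw [Perm.mul_apply, h', h]
    ext <;> simp [add_assoc]
  inv_mem' := by
    rintro σ ⟨c, f, h⟩
    refine ⟨-c, fun x => -f (x - c), fun x y => ?_⟩
    rw [Perm.inv_eq_iff_eq, h]
    ext <;> simp [sub_eq_add_neg]

theorem shear_pow {p : ℕ} (σ : Perm (ZMod p × ZMod p)) (c : ZMod p) (f : ZMod p → ZMod p)
    (h : ∀ x y, σ (x, y) = (x + c, y + f x)) (k : ℕ) :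
    ∃ f' : ZMod p → ZMod p, ∀ x y, (σ ^ k) (x, y) = (x + k * c, y + f' x) := by
  induction k with
  | zero => exact ⟨fun _ => 0, fun x y => by simp⟩
  | succ k ih =>
    obtain ⟨f', h'⟩ := ih
    refine ⟨fun x => f' x + f (x + k * c), fun x y => ?_⟩
    rw [pow_succ', Perm.mul_apply, h', h]
    ext <;> simp <;> ring

set_option linter.unnecessarySeqFocus false in
theorem shear_pow_zero {p : ℕ} (σ : Perm (ZMod p × ZMod p)) (f : ZMod p → ZMod p)
    (h : ∀ x y, σ (x, y) = (x, y + f x)) (k : ℕ) :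
    ∀ x y, (σ ^ k) (x, y) = (x, y + k * f x) := by
  induction k with
  | zero => intro x y; simp
  | succ k ih =>
    intro x y
    rw [pow_succ', Perm.mul_apply, ih, h]
    ext <;> simp <;> ring

theorem shear_pow_sq {p : ℕ} [Fact p.Prime] (σ : Perm (ZMod p × ZMod p)) (hσ : σ ∈ shear p) :
    σ ^ (p ^ 2) = 1 := by
  obtain ⟨c, f, h⟩ := hσ
  obtain ⟨f', h'⟩ := shear_pow σ c f h p
  have h'' : ∀ x y, (σ ^ p) (x, y) = (x, y + f' x) := by
    intro x y
    rw [h']
    simp
  have h3 := shear_pow_zero (σ ^ p) f' h'' p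
  rw [pow_two, pow_mul]
  ext ⟨x, y⟩ : 1
  rw [h3]
  simp

theorem shear_isPGroup (p : ℕ) [Fact p.Prime] : IsPGroup p (shear p) := by
  intro σ
  refine ⟨2, ?_⟩
  apply Subtype.ext
  simpa using shear_pow_sq σ.1 σ.2

/-- `(x, y) ↦ (x + 1, y)` -/
def shA (p : ℕ) : Perm (ZMod p × ZMod p) where
  toFun v := (v.1 + 1, v.2)
  invFun v := (v.1 - 1, v.2)
  left_inv v := by simp
  right_inv v := by simp

/-- `(x, y) ↦ (x, y + x)` -/
def shB (p : ℕ) : Perm (ZMod p × ZMod p) where
  toFun v := (v.1, v.2 + v.1)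
  invFun v := (v.1, v.2 - v.1)
  left_inv v := by simp
  right_inv v := by simp

theorem shA_mem (p : ℕ) : shA p ∈ shear p := ⟨1, fun _ => 0, fun x y => by simp [shA]⟩

theorem shB_mem (p : ℕ) : shB p ∈ shear p := ⟨0, fun x => x, fun x y => by simp [shB]⟩

theorem shA_shB_ne (p : ℕ) [Fact p.Prime] : shA p * shB p ≠ shB p * shA p := by
  intro h
  have h1 := congrArg (fun σ : Perm (ZMod p × ZMod p) => (σ (0, 0)).2) h
  simp only [Perm.mul_apply, shA, shB, Equiv.coe_fn_mk, add_zero, zero_add] at h1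
  exact zero_ne_one h1

/-! ### Part 3: transport to the alternating group of `Fin n` -/

theorem not_comm_of_subgroup {n p : ℕ} [Fact p.Prime] {β : Type*} [Fintype β] [DecidableEq β]
    (hβ : Fintype.card β ≤ n) (K : Subgroup (Perm β)) (hK : IsPGroup p K)
    (heven : ∀ σ ∈ K, Perm.sign σ = 1) (a b : Perm β) (ha : a ∈ K) (hb : b ∈ K)
    (hab : a * b ≠ b * a) (S : Sylow p (alternatingGroup (Fin n))) : ¬ IsMulCommutative S := by
  classical
  intro hcomm
  have hcard : Fintype.card β ≤ Fintype.card (Fin n) := by simpa using hβ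
  obtain ⟨e⟩ := Function.Embedding.nonempty_of_card_le hcard
  let f : β ≃ {y : Fin n // y ∈ Set.range e} := Equiv.ofInjective e e.injective
  let Φ : Perm β →* Perm (Fin n) := Perm.extendDomainHom f
  have hΦinj : Function.Injective Φ := Perm.extendDomainHom_injective f
  have hΦeven : ∀ σ ∈ K, Φ σ ∈ alternatingGroup (Fin n) := by
    intro σ hσ
    rw [Perm.mem_alternatingGroup]
    show Perm.sign (σ.extendDomain f) = 1
    rw [Perm.sign_extendDomain, heven σ hσ]
  let K' : Subgroup (alternatingGroup (Fin n)) := (K.map Φ).subgroupOf (alternatingGroup (Fin n))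
  have hK' : IsPGroup p K' := (hK.map Φ).comap_subtype
  obtain ⟨Q, hQ⟩ := hK'.exists_le_sylow
  obtain ⟨g, hg⟩ := MulAction.exists_smul_eq (alternatingGroup (Fin n)) S Q
  -- elements of `Q` commute
  have hQcomm : ∀ u ∈ (Q : Subgroup (alternatingGroup (Fin n))),
      ∀ v ∈ (Q : Subgroup (alternatingGroup (Fin n))), u * v = v * u := by
    intro u hu v hv
    rw [← hg, Sylow.coe_subgroup_smul, Subgroup.mem_pointwise_smul_iff_inv_smul_mem] at hu hv
    have h1 := hcomm.is_comm.comm ⟨_, hu⟩ ⟨_, hv⟩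
    have h2 : ((MulAut.conj g)⁻¹ • u) * ((MulAut.conj g)⁻¹ • v)
        = ((MulAut.conj g)⁻¹ • v) * ((MulAut.conj g)⁻¹ • u) := congrArg Subtype.val h1
    rw [← smul_mul', ← smul_mul'] at h2
    exact smul_left_cancel _ h2
  have hu : (⟨Φ a, hΦeven a ha⟩ : alternatingGroup (Fin n)) ∈ (Q : Subgroup _) :=
    hQ (Subgroup.mem_subgroupOf.mpr ⟨a, ha, rfl⟩)
  have hv : (⟨Φ b, hΦeven b hb⟩ : alternatingGroup (Fin n)) ∈ (Q : Subgroup _) :=
    hQ (Subgroup.mem_subgroupOf.mpr ⟨b, hb, rfl⟩)
  have h3 := hQcomm _ hu _ hv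
  have h4 : Φ a * Φ b = Φ b * Φ a := congrArg Subtype.val h3
  rw [← map_mul, ← map_mul] at h4
  exact hab (hΦinj h4)

/-- The case of an odd prime: the shear group itself consists of even permutations. -/
theorem shear_even {p : ℕ} [Fact p.Prime] (hp2 : p ≠ 2) (σ : Perm (ZMod p × ZMod p))
    (hσ : σ ∈ shear p) : Perm.sign σ = 1 := by
  have hp : p.Prime := Fact.out
  have h1 : Perm.sign σ ^ (p ^ 2) = 1 := by
    rw [← map_pow, shear_pow_sq σ hσ, map_one]
  have hodd : Odd (p ^ 2) := (hp.odd_of_ne_two hp2).pow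
  rcases Int.units_eq_one_or (Perm.sign σ) with h | h
  · exact h
  · rw [h, hodd.neg_one_pow] at h1
    exact absurd h1 (by decide)

/-- Adjoining two extra points on which a permutation acts through its sign. -/
def fixSign (β : Type*) [Fintype β] [DecidableEq β] : Perm β →* Perm (β ⊕ ℤˣ) :=
  (Perm.sumCongrHom β ℤˣ).comp
    ((MonoidHom.id (Perm β)).prod ((MulAction.toPermHom ℤˣ ℤˣ).comp Perm.sign))

theorem sign_toPerm_units (u : ℤˣ) : Perm.sign (MulAction.toPermHom ℤˣ ℤˣ u) = u := by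
  rcases Int.units_eq_one_or u with rfl | rfl
  · rw [map_one, map_one]
  · have : MulAction.toPermHom ℤˣ ℤˣ (-1) = Equiv.swap (1 : ℤˣ) (-1) := by
      ext v : 1
      rcases Int.units_eq_one_or v with rfl | rfl
      · simp [MulAction.toPermHom_apply, MulAction.toPerm_apply]
      · simp [MulAction.toPermHom_apply, MulAction.toPerm_apply]
    rw [this, Perm.sign_swap (by decide)]

theorem sign_fixSign {β : Type*} [Fintype β] [DecidableEq β] (σ : Perm β) :
    Perm.sign (fixSign β σ) = 1 := by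
  show Perm.sign (Perm.sumCongr σ (MulAction.toPermHom ℤˣ ℤˣ (Perm.sign σ))) = 1
  rw [Perm.sign_sumCongr, sign_toPerm_units, Int.units_mul_self]

theorem fixSign_injective {β : Type*} [Fintype β] [DecidableEq β] :
    Function.Injective (fixSign β) := by
  intro σ τ h
  ext x
  have h1 := congrArg (fun ρ : Perm (β ⊕ ℤˣ) => ρ (Sum.inl x)) h
  simpa [fixSign] using h1

/-- For n ≥ 6 and a prime p, a nontrivial Sylow p-subgroup of the alternating group of degree n is abelian if and only if n < p². -/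
theorem result (n p : ℕ) (hn : 6 ≤ n) [Fact p.Prime] (S : Sylow p (alternatingGroup (Fin n))) (hS : (S : Subgroup (alternatingGroup (Fin n))) ≠ ⊥) : IsMulCommutative S ↔ n < p ^ 2 := by
  classical
  have hp : p.Prime := Fact.out
  have : NeZero p := ⟨hp.ne_zero⟩
  constructor
  · intro hcomm
    by_contra hlt
    have hle : p ^ 2 ≤ n := not_lt.mp hlt
    have hcardα : Fintype.card (ZMod p × ZMod p) = p ^ 2 := by
      rw [Fintype.card_prod, ZMod.card, pow_two]
    by_cases hp2 : p = 2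
    · -- `p = 2`: fix the sign with two extra points
      refine not_comm_of_subgroup (β := (ZMod p × ZMod p) ⊕ ℤˣ) ?_ ((shear p).map (fixSign _))
        ((shear_isPGroup p).map _) ?_ (fixSign _ (shA p)) (fixSign _ (shB p))
        ⟨_, shA_mem p, rfl⟩ ⟨_, shB_mem p, rfl⟩ ?_ S hcomm
      · rw [Fintype.card_sum, hcardα, Fintype.card_units_int, hp2]
        omega
      · rintro _ ⟨σ, -, rfl⟩
        exact sign_fixSign σ
      · intro h
        rw [← map_mul, ← map_mul] at h
        exact shA_shB_ne p (fixSign_injective h)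
    · refine not_comm_of_subgroup (β := ZMod p × ZMod p) ?_ (shear p) (shear_isPGroup p)
        (shear_even hp2) (shA p) (shB p) (shA_mem p) (shB_mem p) (shA_shB_ne p) S hcomm
      rw [hcardα]
      exact hle
  · intro hlt
    refine ⟨⟨fun a b => ?_⟩⟩
    have hH : IsPGroup p ((S : Subgroup (alternatingGroup (Fin n))).map
        (alternatingGroup (Fin n)).subtype) := S.isPGroup'.map _
    have h1 := comm_of_card_lt _ hH (by simpa using hlt)
      (a : alternatingGroup (Fin n)) ⟨a, a.2, rfl⟩ (b : alternatingGroup (Fin n)) ⟨b, b.2, rfl⟩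
    apply Subtype.ext
    apply Subtype.ext
    exact h1

end Cfsg.Agent.S5164
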