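-- Statement S5185.
import Cfsg.Statements.S5185
import Cfsg.Agent.Lib.helper88.GL2Gen
import Cfsg.Agent.Lib.helper30.AutElemAb
import Cfsg.Agent.Lib.helper53.SPE

set_option autoImplicit false
universe u
open Cfsg

namespace Cfsg.Agent.S5185

open Cfsg.FusionSystem Cfsg.Agent.Lib.helper88

/-- Let F be a saturated fusion system over a finite p-group S and H an essential subgroup of order p². Then H is elementary abelian (isomorphic to C_p × C_p) and its F-automorphism group contains a subgroup isomorphic to SL(2,p). -/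
theorem result {Ω : Type u} [Group Ω] {S : Subgroup Ω} [Finite S] (p : ℕ) [Fact p.Prime] (hS : IsPGroup p S)
    (F : Cfsg.FusionSystem S) (hF : F.IsSaturated p) (H : Subgroup Ω) (hH : F.IsEssential p H) (hcard : Nat.card H = p ^ 2) :
    Cfsg.IsElementaryAbelian p H ∧
      ∃ K : Subgroup ↥(F.autGroup H), Nonempty (↥K ≃* Matrix.SpecialLinearGroup (Fin 2) (ZMod p)) := by
  obtain ⟨hcen, hfn, hN, E, hE⟩ := hH
  haveI := hN
  have hpp : p.Prime := Fact.out
  haveI : Finite H := Nat.finite_of_card_ne_zero (by rw [hcard]; exact pow_ne_zero _ hpp.ne_zero)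
  have hcomm : ∀ a b : H, a * b = b * a := by
    haveI := IsPGroup.isMulCommutative_of_card_eq_prime_sq hcard
    exact fun a b => mul_comm' a b
  have hInn0 : Cfsg.Inn H = ⊥ := by
    rw [eq_bot_iff]
    rintro _ ⟨g, rfl⟩
    rw [Subgroup.mem_bot]
    ext y
    simp only [MulAut.conj_apply, MulAut.one_apply]
    rw [hcomm g y, mul_inv_cancel_right]
  have hInn : (Cfsg.Inn H).subgroupOf (F.autGroup H) = ⊥ := by
    rw [hInn0]
    exact Subgroup.bot_subgroupOf _
  let e : (F.autGroup H ⧸ (Cfsg.Inn H).subgroupOf (F.autGroup H)) ≃* F.autGroup H :=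
    (QuotientGroup.quotientMulEquivOfEq hInn).trans QuotientGroup.quotientBot
  obtain ⟨P, hPne, hPE, hPnorm⟩ := Cfsg.Agent.Lib.helper53.spe_exists_sylow hE
  have hex : ∃ x ∈ P.toSubgroup, ∃ h, h * x * h⁻¹ ∉ P.toSubgroup := by
    by_contra hcon
    push Not at hcon
    have hnorm : P.toSubgroup.Normal := ⟨fun x hx h => hcon x hx h⟩
    have htop := Subgroup.normalizer_eq_top P.toSubgroup
    have hle := hPnorm P.toSubgroup le_rfl hPne
    rw [htop] at hle
    exact hE.2.1 (top_le_iff.mp hle)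
  obtain ⟨x, hx, h, hxh⟩ := hex
  have hncyc : ¬ IsCyclic H := by
    intro hcyc
    have hAcomm : ∀ σ τ : MulAut H, σ * τ = τ * σ := by
      intro σ τ
      obtain ⟨m, hm⟩ := MonoidHom.map_cyclic σ.toMonoidHom
      obtain ⟨n, hn⟩ := MonoidHom.map_cyclic τ.toMonoidHom
      ext v
      have h1 : σ (τ v) = (v ^ n) ^ m := by
        have h3 := hm (τ v)
        have h2 := hn v
        simp only [MulEquiv.toMonoidHom_eq_coe, MonoidHom.coe_coe] at h3 h2
        rw [h3, h2]
      have h2 : τ (σ v) = (v ^ m) ^ n := by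
        have h4 := hn (σ v)
        have h3 := hm v
        simp only [MulEquiv.toMonoidHom_eq_coe, MonoidHom.coe_coe] at h4 h3
        rw [h4, h3]
      rw [MulAut.mul_apply, MulAut.mul_apply, h1, h2, ← zpow_mul, ← zpow_mul, mul_comm]
    have hfix : h * x * h⁻¹ = x := by
      apply e.injective
      rw [map_mul, map_mul, map_inv]
      have hc : e h * e x = e x * e h := Subtype.ext (hAcomm _ _)
      rw [hc, mul_inv_cancel_right]
    exact hxh (by rw [hfix]; exact hx)
  have hexp : ∀ a : H, a ^ p = 1 := by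
    intro a
    have h1 : orderOf a ∣ p ^ 2 := hcard ▸ orderOf_dvd_natCard a
    obtain ⟨j, hj, hj2⟩ := (Nat.dvd_prime_pow hpp).mp h1
    have hj1 : j ≤ 1 := by
      by_contra hcon
      have hj3 : j = 2 := by omega
      subst hj3
      exact hncyc (isCyclic_of_orderOf_eq_card a (hj2.trans hcard.symm))
    rw [← orderOf_dvd_iff_pow_eq_one, hj2]
    calc p ^ j ∣ p ^ 1 := pow_dvd_pow p hj1
      _ = p := pow_one p
  refine ⟨⟨IsPGroup.isMulCommutative_of_card_eq_prime_sq hcard, fun a ha => ?_⟩, ?_⟩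
  · have h1 := congrArg Subtype.val (hexp ⟨a, ha⟩)
    simpa using h1
  · letI : CommGroup H := { (inferInstance : Group H) with mul_comm := hcomm }
    obtain ⟨Ψ, hΨ⟩ := Cfsg.Agent.Lib.helper30.exists_mulAut_to_GL2 p (V := H) hexp hcard
    obtain ⟨K, ⟨eK⟩⟩ := exists_sl2_subgroup p
      ((Ψ.comp (F.autGroup H).subtype).comp e.toMonoidHom)
      ((hΨ.comp Subtype.val_injective).comp e.injective) P.toSubgroup P.isPGroup' x h hx hxh
    exact ⟨K.map e.toMonoidHom, ⟨(e.subgroupMap K).symm.trans eK⟩⟩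

end Cfsg.Agent.S5185
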