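import Cfsg.Statements.S5186
import Cfsg.Agent.Lib.helper92.Ess3a
import Cfsg.Agent.Lib.helper92.Ess3b

set_option autoImplicit false
universe u
open Cfsg

namespace Cfsg.Agent.S5186

open Cfsg.Agent.Lib.helper92

/-- Let F be a saturated fusion system over a finite p-group S and H an essential subgroup of order p³. Then H is elementary abelian, or p is odd and H is extraspecial of exponent p, or p = 2 and H is the quaternion group of order 8. -/
theorem result {Ω : Type u} [Group Ω] {S : Subgroup Ω} [Finite S] (p : ℕ) [Fact p.Prime] (hS : IsPGroup p S)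
    (F : Cfsg.FusionSystem S) (hF : F.IsSaturated p) (H : Subgroup Ω) (hH : F.IsEssential p H) (hcard : Nat.card H = p ^ 3) :
    Cfsg.IsElementaryAbelian p H ∨ (Odd p ∧ Cfsg.IsExtraspecial p ↥H ∧ ∀ x ∈ H, x ^ p = 1) ∨
      (p = 2 ∧ Nonempty (↥H ≃* QuaternionGroup 2)) := by
  obtain ⟨hcen, hfn, hN, E, hE⟩ := hH
  have hp : p.Prime := Fact.out
  have hfin : Finite ↥H := Nat.finite_of_card_ne_zero (by rw [hcard]; exact (pow_pos hp.pos 3).ne')
  rcases card_cube_cases (H := ↥H) p hcard with h | h | h | ⟨H1, H2, h12, hc1, hc2, hcard1, hcard2⟩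
  · left
    exact ⟨⟨⟨fun a b => h.1 a b⟩⟩, fun a ha => by simpa using congrArg Subtype.val (h.2 ⟨a, ha⟩)⟩
  · right; left
    exact ⟨h.1, h.2.1, fun x hx => by simpa using congrArg Subtype.val (h.2.2 ⟨x, hx⟩)⟩
  · right; right
    exact h
  · exfalso
    exact no_spe_of_chain p H1 H2 h12 hc1 hc2 hcard1 hcard2 hcard (F.autGroup H)
      ((Inn H).subgroupOf (F.autGroup H)) E hE

end Cfsg.Agent.S5186
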