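import Cfsg.Statements.S5188
import Cfsg.Agent.Lib.helper92.Ess2e
import Cfsg.Agent.Lib.helper87.FlagKill
import Cfsg.Agent.Lib.helper87.P4Ab

set_option autoImplicit false
universe u
open Cfsg

namespace Cfsg.Agent.S5188

open scoped commutatorElement

/-- Let F be a saturated fusion system over a finite p-group S and H an essential subgroup of order p⁴. Then H is isomorphic to one of: C_p⁴ or C_{p²} × C_p × C_p (any p); C_{p²} × C_{p²} with p ∈ {2, 3}; p^{1+2}_+ × C_p with p odd (the direct product of an extraspecial group of order p³ and exponent p with a group of order p); Q₈ × C₂ (p = 2); or the non-abelian group of order p⁴ of exponent p² whose centre is cyclic of order p² (the central product of an extraspecial group of order p³ with a cyclic group of order p²; for p = 2 this is D₈ ∘ C₄). -/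
theorem result {Ω : Type u} [Group Ω] {S : Subgroup Ω} [Finite S] (p : ℕ) [Fact p.Prime] (hS : IsPGroup p S)
    (F : Cfsg.FusionSystem S) (hF : F.IsSaturated p) (H : Subgroup Ω) (hH : F.IsEssential p H) (hcard : Nat.card H = p ^ 4) :
    Cfsg.IsElementaryAbelian p H ∨
      Nonempty (↥H ≃* Multiplicative (ZMod (p ^ 2) × ZMod p × ZMod p)) ∨
      ((p = 2 ∨ p = 3) ∧ Nonempty (↥H ≃* Multiplicative (ZMod (p ^ 2) × ZMod (p ^ 2)))) ∨
      (Odd p ∧ ∃ (E : Type) (_ : Group E) (_ : Finite E), Cfsg.IsExtraspecial p E ∧ Nat.card E = p ^ 3 ∧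
        (∀ x : E, x ^ p = 1) ∧ Nonempty (↥H ≃* E × Multiplicative (ZMod p))) ∨
      (p = 2 ∧ Nonempty (↥H ≃* QuaternionGroup 2 × Multiplicative (ZMod 2))) ∨
      (¬ IsMulCommutative ↥H ∧ (∀ x ∈ H, x ^ (p ^ 2) = 1) ∧ IsCyclic ↥(Subgroup.center ↥H) ∧
        Nat.card (Subgroup.center ↥H) = p ^ 2) := by
  obtain ⟨hcen, hfn, hN, E, hE⟩ := hH
  have hp : p.Prime := Fact.out
  have hp1 := hp.one_lt
  have hfin : Finite ↥H := Nat.finite_of_card_ne_zero (by rw [hcard]; exact pow_ne_zero 4 hp.ne_zero)
  have hpg : IsPGroup p ↥H := IsPGroup.of_card hcard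
  obtain ⟨k, hk4, hk⟩ := Cfsg.Agent.Lib.helper87.P4.exists_card_pow hcard (frattini ↥H)
  have hkne4 : k ≠ 4 := by
    intro h
    have h1 : frattini ↥H = ⊤ := by
      apply Subgroup.eq_top_of_card_eq
      rw [hk, h, hcard]
    have h2 : (⊥ : Subgroup ↥H) = ⊤ := frattini_nongenerating (by rw [h1]; simp)
    have h3 : Nat.card (⊥ : Subgroup ↥H) = Nat.card (⊤ : Subgroup ↥H) := by rw [h2]
    rw [Subgroup.card_bot, Subgroup.card_top, hcard] at h3
    have : 1 < p ^ 4 := Nat.one_lt_pow (by norm_num) hp1
    omega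
  have hc3 : ∀ φ : MulAut ↥H, ∀ x ∈ frattini ↥H, φ x ∈ frattini ↥H :=
    fun φ x hx => Cfsg.Agent.Lib.helper87.FlagKill.frattini_aut_mem φ hx
  by_cases hab : ∀ a b : ↥H, a * b = b * a
  · -- abelian case
    have hk_cases : k = 0 ∨ k = 1 ∨ (2 ≤ k) := by omega
    rcases hk_cases with rfl | rfl | hk2
    · left
      have hΦ : frattini ↥H = ⊥ := Subgroup.card_eq_one.mp (by rw [hk, pow_zero])
      refine ⟨⟨⟨hab⟩⟩, fun a ha => ?_⟩
      have h1 := Cfsg.Agent.Lib.helper3.pow_prime_mem_frattini hpg (⟨a, ha⟩ : ↥H)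
      rw [hΦ, Subgroup.mem_bot] at h1
      simpa using congrArg Subtype.val h1
    · right; left
      exact Cfsg.Agent.Lib.helper87.P4.abelian_three p hcard (by rw [hk, pow_one]) hab
    · right; right; left
      have hrk : (frattini ↥H).index ≤ p ^ 2 := by
        have h1 := Subgroup.card_mul_index (frattini ↥H)
        rw [hk, hcard] at h1
        have h2 : p ^ 2 * (frattini ↥H).index ≤ p ^ 2 * p ^ 2 := by
          calc p ^ 2 * (frattini ↥H).index ≤ p ^ k * (frattini ↥H).index :=
                Nat.mul_le_mul_right _ (Nat.pow_le_pow_right hp.pos hk2)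
            _ = p ^ 4 := h1
            _ = p ^ 2 * p ^ 2 := by ring
        exact Nat.le_of_mul_le_mul_left h2 (pow_pos hp.pos 2)
      let _ : CommGroup ↥H := { (inferInstance : Group ↥H) with mul_comm := hab }
      have hNtriv : ∀ n : ↥(F.autGroup H), n ∈ (Inn H).subgroupOf (F.autGroup H) →
          (n : MulAut ↥H) = 1 := by
        intro n hn
        rw [Subgroup.mem_subgroupOf] at hn
        obtain ⟨g, hg⟩ := hn
        rw [← hg]
        ext x
        simp [MulAut.conj_apply, mul_comm g x]
      rcases Cfsg.Agent.Lib.helper92.ess2_main (H := ↥H) p hpg hrk (F.autGroup H)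
        ((Inn H).subgroupOf (F.autGroup H)) hNtriv E hE with h | h
      · exfalso
        have h1 := h.2
        rw [hcard] at h1
        have := Nat.pow_right_injective hp.two_le h1
        omega
      · obtain ⟨hp3, k', ⟨e⟩⟩ := h
        have h1 : Nat.card ↥H = p ^ k' * p ^ k' := by
          rw [Nat.card_congr e.toEquiv]
          show Nat.card (ZMod (p ^ k') × ZMod (p ^ k')) = _
          rw [Nat.card_prod, Nat.card_zmod]
        rw [hcard, ← pow_add] at h1
        have h2 := Nat.pow_right_injective hp.two_le h1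
        have hk' : k' = 2 := by omega
        subst hk'
        refine ⟨?_, ⟨e⟩⟩
        have := hp.two_le
        interval_cases p
        · left; rfl
        · right; rfl
  · -- nonabelian case
    push Not at hab
    have hk_cases : k = 0 ∨ k = 1 ∨ k = 2 ∨ k = 3 := by omega
    rcases hk_cases with rfl | rfl | rfl | rfl
    · exfalso
      have hΦ : frattini ↥H = ⊥ := Subgroup.card_eq_one.mp (by rw [hk, pow_zero])
      obtain ⟨a, b, hab'⟩ := hab
      apply hab'
      have h1 : ⁅a, b⁆ ∈ frattini ↥H := Cfsg.Agent.Lib.helper87.P4.comm_mem_frattini hcard a b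
      rw [hΦ, Subgroup.mem_bot] at h1
      exact commutatorElement_eq_one_iff_mul_comm.mp h1
    · have hΦ : Nat.card (frattini ↥H) = p := by rw [hk, pow_one]
      rcases Cfsg.Agent.Lib.helper87.P4.three_cases p hcard hΦ hab with h | h | h | h
      · right; right; right; right; right
        obtain ⟨hcyc, hZ, hexp⟩ := h
        refine ⟨?_, fun x hx => ?_, hcyc, hZ⟩
        · intro hc
          obtain ⟨a, b, hab'⟩ := hab
          exact hab' (hc.is_comm.comm a b)
        · simpa using congrArg Subtype.val (hexp ⟨x, hx⟩)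
      · right; right; right; left
        obtain ⟨hodd, E₁, hEx, hE1card, hE1exp, ⟨e1⟩⟩ := h
        have hfinE : Finite ↥E₁ := inferInstance
        obtain ⟨E0, instE0, ⟨e⟩⟩ := Cfsg.Agent.Lib.helper65.exists_type0_copy' ↥E₁
        have hfin0 : Finite E0 := Finite.of_equiv _ e.symm.toEquiv
        have hcard0 : Nat.card E0 = p ^ 3 := by rw [Nat.card_congr e.toEquiv, hE1card]
        have hexp0 : ∀ x : E0, x ^ p = 1 := by
          intro x
          apply e.injective
          rw [map_pow, hE1exp, map_one]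
        have hnc0 : ∃ a b : E0, a * b ≠ b * a := by
          by_contra hcon
          push Not at hcon
          obtain ⟨a, b, hab'⟩ := hab
          apply hab'
          apply e1.injective
          rw [map_mul, map_mul]
          apply Prod.ext
          · apply e.symm.injective
            rw [Prod.fst_mul, Prod.fst_mul, map_mul, map_mul]
            exact hcon _ _
          · rw [Prod.snd_mul, Prod.snd_mul]
            exact mul_comm _ _
        exact ⟨hodd, E0, instE0, hfin0,
          Cfsg.Agent.Lib.helper65.isExtraspecial_of_card_cube hcard0 hnc0 hexp0, hcard0, hexp0,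
          ⟨e1.trans (MulEquiv.prodCongr e.symm (MulEquiv.refl _))⟩⟩
      · right; right; right; right; left
        exact h
      · exfalso
        obtain ⟨M₁, M₂, h21, hΦM, hc1, hc2, hM1, hM2⟩ := h
        exact Cfsg.Agent.Lib.helper87.FlagKill.no_spe_of_flag p hpg M₁ M₂ h21 hΦM hc1 hc2
          (Or.inl (by rw [hcard, hM1]; ring)) (Or.inl (by rw [hM1, hM2]; ring))
          (Or.inl (by rw [hM2, hΦ]; ring)) (F.autGroup H) ((Inn H).subgroupOf (F.autGroup H)) E hE
    · exfalso
      obtain ⟨M, hΦM, hcM, hMcard⟩ :=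
        Cfsg.Agent.Lib.helper87.P4.exists_char_max_of_frattini_sq hcard hk hab
      exact Cfsg.Agent.Lib.helper87.FlagKill.no_spe_of_flag p hpg M (frattini ↥H) hΦM le_rfl hcM hc3
        (Or.inl (by rw [hcard, hMcard]; ring)) (Or.inl (by rw [hMcard, hk]; ring))
        (Or.inr rfl) (F.autGroup H) ((Inn H).subgroupOf (F.autGroup H)) E hE
    · exfalso
      exact Cfsg.Agent.Lib.helper87.FlagKill.no_spe_of_flag p hpg (frattini ↥H) (frattini ↥H)
        le_rfl le_rfl hc3 hc3
        (Or.inl (by rw [hcard, hk]; ring)) (Or.inr rfl)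
        (Or.inr rfl) (F.autGroup H) ((Inn H).subgroupOf (F.autGroup H)) E hE

end Cfsg.Agent.S5188
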