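-- Statement S5191: lifting fusion from G/O_{p'}(G); a Sylow argument in S·N.
import Cfsg.Statements.S5191

set_option autoImplicit false
open Cfsg

namespace Cfsg.Agent.S5191

open scoped Pointwise

/-- For a normal subgroup `N`, a Sylow `p`-subgroup `S` and a `p`-subgroup `R` of `S ⊔ N`, some
element of `N` conjugates `R` into `S`. -/
theorem exists_conj_le {G : Type*} [Group G] [Finite G] {p : ℕ} [Fact p.Prime]
    (N : Subgroup G) [N.Normal] (S : Sylow p G) (R : Subgroup G) (hR : IsPGroup p R)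
    (hRK : R ≤ (S : Subgroup G) ⊔ N) :
    ∃ n ∈ N, ∀ y ∈ R, n * y * n⁻¹ ∈ (S : Subgroup G) := by
  classical
  set K : Subgroup G := (S : Subgroup G) ⊔ N with hK
  have hSK : (S : Subgroup G) ≤ K := le_sup_left
  let SK : Sylow p K := S.subtype hSK
  have hR' : IsPGroup p (R.subgroupOf K) := hR.comap_subtype
  obtain ⟨Q, hQ⟩ := hR'.exists_le_sylow
  obtain ⟨k, hk⟩ := MulAction.exists_smul_eq K SK Q
  -- `k⁻¹` conjugates `R` into `S`
  have h1 : ∀ y ∈ R, ((k : G))⁻¹ * y * (k : G) ∈ (S : Subgroup G) := by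
    intro y hy
    have hyK : y ∈ K := hRK hy
    have hyQ : (⟨y, hyK⟩ : K) ∈ (Q : Subgroup K) := hQ (Subgroup.mem_subgroupOf.mpr hy)
    rw [← hk, Sylow.coe_subgroup_smul, Subgroup.mem_pointwise_smul_iff_inv_smul_mem] at hyQ
    have : (MulAut.conj k)⁻¹ • (⟨y, hyK⟩ : K) ∈ (S : Subgroup G).subgroupOf K := hyQ
    rw [Subgroup.mem_subgroupOf] at this
    simpa [MulAut.smul_def, mul_assoc] using this
  -- write `k⁻¹ = s * n`
  have hkinv : ((k : G))⁻¹ ∈ ((S : Subgroup G) ⊔ N : Subgroup G) := K.inv_mem k.2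
  have hmem : ((k : G))⁻¹ ∈ ((S : Subgroup G) : Set G) * (N : Set G) := by
    rw [← Subgroup.mul_normal]
    exact hkinv
  obtain ⟨s, hs, n, hn, hsn⟩ := Set.mem_mul.mp hmem
  refine ⟨n, hn, fun y hy => ?_⟩
  have h2 := h1 y hy
  have h3 : n * y * n⁻¹ = s⁻¹ * (((k : G))⁻¹ * y * (k : G)) * s := by
    have hk' : (k : G) = (s * n)⁻¹ := by rw [hsn, inv_inv]
    rw [← hsn, hk']
    group
  rw [h3]
  exact (S : Subgroup G).mul_mem ((S : Subgroup G).mul_mem ((S : Subgroup G).inv_mem hs) h2) hs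

/-- Fusion in a finite group G and in its quotient by O_{p'}(G) agree. Let S be a Sylow p-subgroup of G, N = O_{p'}(G) and P ≤ S. If an element of G/N conjugates the image of P into the image of S, then some element g of G conjugates P into S and induces the same map on P modulo N. (Together with the injectivity of S → G/N this says that g ↦ gN induces an isomorphism of the fusion system of G on S with that of G/N on SN/N.) -/
theorem result {G : Type*} [Group G] [Finite G] {p : ℕ} [Fact p.Prime]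
    [hN : (Cfsg.pPrimeCore p G).Normal] (S : Sylow p G) (P : Subgroup G) (hP : P ≤ (S : Subgroup G))
    (γ : G ⧸ Cfsg.pPrimeCore p G)
    (hγ : ∀ x ∈ P, γ * QuotientGroup.mk x * γ⁻¹ ∈ ((S : Subgroup G).map (QuotientGroup.mk' (Cfsg.pPrimeCore p G)))) :
    ∃ g : G, ∀ x ∈ P, g * x * g⁻¹ ∈ S ∧
      (QuotientGroup.mk (g * x * g⁻¹) : G ⧸ Cfsg.pPrimeCore p G) = γ * QuotientGroup.mk x * γ⁻¹ := by
  classical
  obtain ⟨h, rfl⟩ := QuotientGroup.mk_surjective γ
  -- the conjugate of `P` by `h` lies in `S ⊔ N`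
  have hPK : ∀ x ∈ P, h * x * h⁻¹ ∈ (S : Subgroup G) ⊔ Cfsg.pPrimeCore p G := by
    intro x hx
    obtain ⟨s, hs, hsx⟩ := hγ x hx
    have h1 : (s : G)⁻¹ * (h * x * h⁻¹) ∈ Cfsg.pPrimeCore p G := by
      rw [← QuotientGroup.eq]
      simpa using hsx
    have h2 : h * x * h⁻¹ = s * (s⁻¹ * (h * x * h⁻¹)) := by group
    rw [h2]
    exact Subgroup.mul_mem _ (le_sup_left (a := (S : Subgroup G)) hs)
      (le_sup_right (b := Cfsg.pPrimeCore p G) h1)
  have hPp : IsPGroup p P := S.isPGroup'.to_le hP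
  have hRp : IsPGroup p (P.map (MulAut.conj h).toMonoidHom) := hPp.map _
  have hRK : P.map (MulAut.conj h).toMonoidHom ≤ (S : Subgroup G) ⊔ Cfsg.pPrimeCore p G := by
    rintro _ ⟨x, hx, rfl⟩
    simpa using hPK x hx
  obtain ⟨n, hn, hn'⟩ := exists_conj_le (Cfsg.pPrimeCore p G) S _ hRp hRK
  refine ⟨n * h, fun x hx => ⟨?_, ?_⟩⟩
  · have h3 := hn' (h * x * h⁻¹) ⟨x, hx, by simp⟩
    have h4 : n * h * x * (n * h)⁻¹ = n * (h * x * h⁻¹) * n⁻¹ := by group
    rw [h4]
    exact h3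
  · have h5 : (QuotientGroup.mk n : G ⧸ Cfsg.pPrimeCore p G) = 1 :=
      (QuotientGroup.eq_one_iff n).mpr hn
    simp only [QuotientGroup.mk_mul, QuotientGroup.mk_inv, h5, one_mul, mul_inv_rev, inv_one, mul_one]

end Cfsg.Agent.S5191
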