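import Cfsg.Statements.S5192
import Cfsg.Agent.Lib.helper86.Thompson
import Cfsg.Agent.Lib.helper89.Focal

set_option autoImplicit false
open Cfsg

namespace Cfsg.Agent.S5192

open Cfsg.FusionSystem Cfsg.Agent.Lib.helper86 Cfsg.Agent.Lib.helper88

/-- elements of the cyclic group generated by an element of square one. -/
theorem mem_zpowers_of_sq {G : Type*} [Group G] {j x : G} (hj : j * j = 1)
    (hx : x ∈ Subgroup.zpowers j) : x = 1 ∨ x = j := by
  obtain ⟨n, rfl⟩ := hx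
  rcases Int.even_or_odd n with ⟨m, rfl⟩ | ⟨m, rfl⟩
  · left
    show j ^ (m + m) = 1
    rw [zpow_add, ← (Commute.refl j).mul_zpow, hj, one_zpow]
  · right
    show j ^ (2 * m + 1) = j
    rw [zpow_add, zpow_one, zpow_mul, zpow_two, hj, one_zpow, one_mul]

/-- the image of a homomorphism defined on a cyclic group. -/
theorem range_zpowers_hom {G H : Type*} [Group G] [Group H] {x : G}
    (φ : Subgroup.zpowers x →* H) :
    φ.range = Subgroup.zpowers (φ ⟨x, Subgroup.mem_zpowers x⟩) := by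
  apply le_antisymm
  · rintro _ ⟨⟨_, n, rfl⟩, rfl⟩
    have e : (⟨x ^ n, ⟨n, rfl⟩⟩ : Subgroup.zpowers x) =
        (⟨x, Subgroup.mem_zpowers x⟩ : Subgroup.zpowers x) ^ n := Subtype.ext (by simp)
    rw [e, map_zpow]
    exact Subgroup.zpow_mem_zpowers _ n
  · rw [Subgroup.zpowers_le]
    exact ⟨_, rfl⟩

section Main

variable {Ω : Type*} [Group Ω] {S : Subgroup Ω} [Finite S] [Fintype (Subgroup (S × S))]
  (F : FusionSystem S) (k : Subgroup (S × S) → ℕ) (hk1 : ∀ D, k D ≠ 0 → D ∈ twSet F)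
  [Fintype (Blk S (Real k))]

/-- the transfer of the sign character of a subgroup of index 2 takes the value `-1` on a fully
normalized involution all of whose fully normalized conjugates lie outside the subgroup. -/
theorem transfer_eq_neg_one (hS : IsPGroup 2 S) (r : ℕ) (hr : Nat.card (Blk S (Real k)) = r)
    (hodd : ¬ 2 ∣ r) (T' : Subgroup S) (hT' : T'.index = 2)
    (j : Ω) (hjS : j ∈ S) (hjj : j * j = 1)
    (hfn : F.IsFullyNormalized (Subgroup.zpowers j))
    (h : ∀ t : S, F.IsConjElt j t → F.IsFullyNormalized (Subgroup.zpowers (t : Ω)) → t ∉ T') :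
    fullTransfer S (real_free_right F k hk1) (signHom T' hT') (biIota S (Real k) ⟨j, hjS⟩) = -1 := by
  classical
  have hfree := real_free_right F k hk1
  have hCS : normalizerIn S (Subgroup.zpowers j) ≤ S := normalizerIn_le S _
  have hle : Subgroup.zpowers j ≤ normalizerIn S (Subgroup.zpowers j) :=
    le_normalizerIn (Subgroup.zpowers_le.2 hjS)
  have hjC : j ∈ normalizerIn S (Subgroup.zpowers j) := hle (Subgroup.mem_zpowers j)
  have hcomm : ∀ a ∈ normalizerIn S (Subgroup.zpowers j), a * j = j * a := by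
    intro a ha
    have h1 : a * j * a⁻¹ ∈ Subgroup.zpowers j :=
      (Subgroup.mem_normalizer_iff.1 ha.2 j).1 (Subgroup.mem_zpowers j)
    rcases mem_zpowers_of_sq hjj h1 with h2 | h2
    · have h3 : j = 1 := conj_eq_one_iff.1 h2
      rw [h3, mul_one, one_mul]
    · exact mul_inv_eq_iff_eq_mul.1 h2
  let act : MulAction (normalizerIn S (Subgroup.zpowers j)) (Blk S (Real k)) :=
    MulAction.compHom _ ((biIota S (Real k)).comp (Subgroup.inclusion hCS))
  have hact : ∀ (a : normalizerIn S (Subgroup.zpowers j)) (q : Blk S (Real k)),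
      a • q = biIota S (Real k) ⟨a, hCS a.2⟩ • q := fun a q => rfl
  have hC2 : IsPGroup 2 (normalizerIn S (Subgroup.zpowers j)) :=
    IsPGroup.of_injective hS (Subgroup.inclusion hCS) (Subgroup.inclusion_injective hCS)
  have hcnt := card_invariant_modEq hC2 (Y := Blk S (Real k))
    (fun q => biIota S (Real k) ⟨j, hjS⟩ • q = q ∧
      signHom T' hT' (co S (((⟨j, hjS⟩, 1) : S × S) • q.out)) = -1) ?_ ?_
  · rw [fullTransfer_involution S hfree (signHom T' hT') ⟨j, hjS⟩ (Subtype.ext hjj),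
      prod_eq_neg_one_pow]
    apply Odd.neg_one_pow
    rw [Finset.filter_filter]
    have hcard : (Finset.univ.filter (fun q : Blk S (Real k) =>
        biIota S (Real k) ⟨j, hjS⟩ • q = q ∧
          signHom T' hT' (co S (((⟨j, hjS⟩, 1) : S × S) • q.out)) = -1)).card =
        Nat.card {q : Blk S (Real k) // biIota S (Real k) ⟨j, hjS⟩ • q = q ∧
          signHom T' hT' (co S (((⟨j, hjS⟩, 1) : S × S) • q.out)) = -1} := by
      rw [Nat.card_eq_fintype_card, Fintype.card_subtype]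
    rw [hcard, Nat.odd_iff]
    rw [hr] at hcnt
    exact (show _ % 2 = r % 2 from hcnt).trans (Nat.two_dvd_ne_zero.1 hodd)
  · rintro a q ⟨hq1, hq2⟩
    have hx := out_smul_eq S (⟨j, hjS⟩ : S) q hq1
    obtain ⟨b, hb⟩ : ∃ b : S, b = co S (((⟨j, hjS⟩, 1) : S × S) • q.out) := ⟨_, rfl⟩
    rw [← hb] at hx hq2
    have hb' : ((⟨j, hjS⟩, 1) : S × S) • ((⟨a, hCS a.2⟩, 1) : S × S) • q.out =
        (((1 : S), b) : S × S) • ((⟨a, hCS a.2⟩, 1) : S × S) • q.out := by
      rw [smul_smul, smul_smul]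
      have e1 : ((⟨j, hjS⟩, 1) : S × S) * ((⟨a, hCS a.2⟩, 1) : S × S) =
          ((⟨a, hCS a.2⟩, 1) : S × S) * ((⟨j, hjS⟩, 1) : S × S) := by
        ext
        · exact (hcomm a a.2).symm
        · rfl
      have e2 : (((1 : S), b) : S × S) * ((⟨a, hCS a.2⟩, 1) : S × S) =
          ((⟨a, hCS a.2⟩, 1) : S × S) * (((1 : S), b) : S × S) := by
        ext <;> simp
      rw [e1, e2, mul_smul, mul_smul, hx]
    have hblk : blk S (((⟨a, hCS a.2⟩, 1) : S × S) • q.out) = a • q := by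
      have h3 : biIota S (Real k) ⟨a, hCS a.2⟩ • blk S q.out =
          blk S (((⟨a, hCS a.2⟩, 1) : S × S) • q.out) := rfl
      have h4 : blk S q.out = q := Quotient.out_eq q
      rw [hact, ← h3, h4]
    constructor
    · rw [← hblk]
      show blk S (((⟨j, hjS⟩, 1) : S × S) • ((⟨a, hCS a.2⟩, 1) : S × S) • q.out) = _
      rw [hb']
      exact blk_smul_right S _ _
    · have h5 := lam_co_eq S hfree (signHom T' hT') (⟨j, hjS⟩ : S) _ _ hb'
      rw [hblk] at h5
      rw [h5]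
      exact hq2
  · intro q hq
    have hq1 : biIota S (Real k) ⟨j, hjS⟩ • q = q := hq ⟨j, hjC⟩
    refine ⟨hq1, ?_⟩
    by_contra hne
    have hbT := mem_of_signHom_ne T' hT' hne
    obtain ⟨β, hβ, hβv⟩ := exists_hom_of_fixed F k hk1 q.out hCS
      (fun a => ⟨_, out_smul_eq S (⟨a, hCS a.2⟩ : S) q (hq a)⟩)
    have hβj := hβv ⟨j, hjC⟩ _ (out_smul_eq S (⟨j, hjS⟩ : S) q hq1)
    obtain ⟨b, hb⟩ : ∃ b : S, b = co S (((⟨j, hjS⟩, 1) : S × S) • q.out) := ⟨_, rfl⟩
    rw [← hb] at hβj hbT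
    have hβj' : β ⟨j, hjC⟩ = ((b⁻¹ : S) : Ω) := hβj
    have hφj : (β.comp (Subgroup.inclusion hle)) ⟨j, Subgroup.mem_zpowers j⟩ =
        ((b⁻¹ : S) : Ω) := hβj
    refine h b⁻¹ ?_ ?_ (T'.inv_mem hbT)
    · exact ⟨β.comp (Subgroup.inclusion hle), restrict_mem F hle hβ, hφj⟩
    · refine ⟨Subgroup.zpowers_le.2 (Subtype.property _), fun Q' hQ' => ?_⟩
      have hconj : F.IsConj (Subgroup.zpowers j) (Subgroup.zpowers ((b⁻¹ : S) : Ω)) := by
        refine ⟨β.comp (Subgroup.inclusion hle), restrict_mem F hle hβ, ?_⟩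
        rw [range_zpowers_hom, hφj]
      refine (hfn.2 Q' (isConj_trans F hconj hQ')).trans ?_
      have hfin : Finite (normalizerIn S (Subgroup.zpowers ((b⁻¹ : S) : Ω))) :=
        finite_of_le (normalizerIn_le S _)
      refine Nat.card_le_card_of_injective
        (fun a : normalizerIn S (Subgroup.zpowers j) => (⟨β a, ?_⟩ : normalizerIn S
          (Subgroup.zpowers ((b⁻¹ : S) : Ω)))) ?_
      · refine ⟨(F.le_of_mem hβ).2 a, ?_⟩
        apply Subgroup.centralizer_le_normalizer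
        rw [Subgroup.mem_centralizer_iff]
        rintro _ ⟨n, rfl⟩
        have hc : Commute (β a) ((b⁻¹ : S) : Ω) := by
          show β a * _ = _ * β a
          rw [← hβj', ← map_mul, ← map_mul]
          congr 1
          exact Subtype.ext (hcomm a a.2)
        exact (hc.zpow_right n).eq.symm
      · intro a a' haa
        exact F.injective_of_mem hβ (congrArg Subtype.val haa)

end Main

/-- A Thompson-type transfer for saturated fusion systems. Let F be a saturated fusion system on a finite 2-group S, T a subgroup of S of index 2, and i an involution of S such that every fully normalized F-conjugate of i lies in S but outside T. Then i does not lie in the hyperfocal subgroup of F (the Sylow group of the 2-residual subsystem). -/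
theorem result {Ω : Type*} [Group Ω] [Finite Ω] {S : Subgroup Ω}
    (hS : IsPGroup 2 ↥S) (F : Cfsg.FusionSystem S) (hF : F.IsSaturated 2)
    (T : Subgroup Ω) (hTS : T ≤ S) (hT : T.relIndex S = 2)
    (i : Ω) (hi : i ∈ S) (hi2 : orderOf i = 2)
    (h : ∀ j : Ω, F.IsConjElt i j → F.IsFullyNormalized (Subgroup.zpowers j) → j ∉ T) :
    i ∉ F.hyperfocalSubgroup 2 := by
  classical
  intro hmem
  letI : Fintype (Subgroup (S × S)) := Fintype.ofFinite _
  obtain ⟨k, hk1, hst, r, hr, hpr⟩ := exists_char hS F hF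
  have hk3 : ∀ (Q : Subgroup Ω) (χ χ' : Q →* Ω), χ ∈ F.Hom Q → χ' ∈ F.Hom Q →
      mark k (tw S Q χ) = mark k (tw S Q χ') := by
    intro Q χ χ' hχ hχ'
    haveI : Finite Q := finite_of_le (F.le_of_mem hχ).1
    exact hst Q Q χ χ' hχ hχ' (isConj_refl F (F.le_of_mem hχ).1) Nat.card_pos
  have hfree := real_free_right F k hk1
  have hX : Nat.card (Real k) = Nat.card S * r := by
    rw [← hr, ← card_fix_real k ⊥]
    symm
    exact Nat.card_congr (Equiv.subtypeUnivEquiv (fun x e he => by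
      rw [Subgroup.mem_bot.1 he, one_smul]))
  have hblk : Nat.card (Blk S (Real k)) = r := by
    have h1 := card_blk_mul S (X := Real k) hfree
    rw [hX, mul_comm] at h1
    exact Nat.eq_of_mul_eq_mul_left Nat.card_pos h1
  letI : Fintype (Blk S (Real k)) := Fintype.ofFinite _
  have hT' : (T.subgroupOf S).index = 2 := hT
  obtain ⟨τ, hτ⟩ : ∃ τ : S →* ℤˣ, τ =
      (fullTransfer S hfree (signHom (T.subgroupOf S) hT')).comp (biIota S (Real k)) := ⟨_, rfl⟩
  have hτ1 : ∀ (P : Subgroup Ω) (φ : P →* Ω) (hφ : φ ∈ F.Hom P) (u : P),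
      τ ⟨φ u, (F.le_of_mem hφ).2 u⟩ = τ ⟨u, (F.le_of_mem hφ).1 u.2⟩ := by
    intro P φ hφ u
    obtain ⟨g, hg⟩ := exists_biAut_conj F k hk1 hk3 (F.le_of_mem hφ).1 hφ (F.le_of_mem hφ).2
    rw [hτ]
    show fullTransfer S hfree _ (biIota S (Real k) _) =
      fullTransfer S hfree _ (biIota S (Real k) _)
    rw [hg u, fullTransfer_conj]
  have hker : ∀ y ∈ F.focalSubgroup, ∃ hy : y ∈ S, τ ⟨y, hy⟩ = 1 := by
    intro y hy
    refine Subgroup.closure_induction (p := fun y _ => ∃ hy : y ∈ S, τ ⟨y, hy⟩ = 1)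
      ?_ ?_ ?_ ?_ hy
    · rintro _ ⟨P, φ, x, hφ, rfl⟩
      have hxS := (F.le_of_mem hφ).1 x.2
      have hφS := (F.le_of_mem hφ).2 x
      refine ⟨S.mul_mem (S.inv_mem hxS) hφS, ?_⟩
      have e : (⟨(x : Ω)⁻¹ * φ x, S.mul_mem (S.inv_mem hxS) hφS⟩ : S) =
          (⟨x, hxS⟩ : S)⁻¹ * ⟨φ x, hφS⟩ := rfl
      rw [e, map_mul, map_inv, hτ1 P φ hφ x, inv_mul_cancel]
    · exact ⟨S.one_mem, map_one τ⟩
    · rintro a b _ _ ⟨ha, ha'⟩ ⟨hb, hb'⟩
      refine ⟨S.mul_mem ha hb, ?_⟩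
      have e : (⟨a * b, S.mul_mem ha hb⟩ : S) = ⟨a, ha⟩ * ⟨b, hb⟩ := rfl
      rw [e, map_mul, ha', hb', one_mul]
    · rintro a _ ⟨ha, ha'⟩
      refine ⟨S.inv_mem ha, ?_⟩
      have e : (⟨a⁻¹, S.inv_mem ha⟩ : S) = (⟨a, ha⟩ : S)⁻¹ := rfl
      rw [e, map_inv, ha', inv_one]
  obtain ⟨_, hτi⟩ := hker i (Cfsg.Agent.Lib.helper89.hyperfocalSubgroup_le_focalSubgroup F 2 hmem)
  obtain ⟨Pst, ⟨φ, hφ, hrange⟩, hfn⟩ := exists_fullyNormalized_conj F (Subgroup.zpowers_le.2 hi)
  obtain ⟨j, hj⟩ : ∃ j : Ω, j = φ ⟨i, Subgroup.mem_zpowers i⟩ := ⟨_, rfl⟩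
  have hjS : j ∈ S := by
    rw [hj]
    exact (F.le_of_mem hφ).2 _
  have hPj : Pst = Subgroup.zpowers j := by
    rw [← hrange, range_zpowers_hom, hj]
  have hii : i * i = 1 := by
    rw [← pow_two, ← hi2, pow_orderOf_eq_one]
  have hjj : j * j = 1 := by
    rw [hj, ← map_mul]
    have e : (⟨i, Subgroup.mem_zpowers i⟩ * ⟨i, Subgroup.mem_zpowers i⟩ : Subgroup.zpowers i) = 1 :=
      Subtype.ext hii
    rw [e, map_one]
  rw [hPj] at hfn
  have hval := transfer_eq_neg_one F k hk1 hS r hblk hpr (T.subgroupOf S) hT' j hjS hjj hfn ?_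
  · have h1 := hτ1 _ φ hφ ⟨i, Subgroup.mem_zpowers i⟩
    have h2 : τ ⟨j, hjS⟩ = -1 := by
      rw [hτ]
      exact hval
    have e : (⟨φ ⟨i, Subgroup.mem_zpowers i⟩, (F.le_of_mem hφ).2 ⟨i, Subgroup.mem_zpowers i⟩⟩ : S) =
        ⟨j, hjS⟩ := Subtype.ext hj.symm
    rw [e, h2] at h1
    have e2 : (⟨((⟨i, Subgroup.mem_zpowers i⟩ : Subgroup.zpowers i) : Ω),
        (F.le_of_mem hφ).1 (Subgroup.mem_zpowers i)⟩ : S) = ⟨i, hi⟩ := rfl
    rw [e2, hτi] at h1
    exact absurd h1 (by decide)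
  · intro t ⟨ψ, hψ, hψt⟩ hfn' htT
    have hh : ∀ x : Subgroup.zpowers i, φ x ∈ Subgroup.zpowers j := by
      intro x
      rw [← hPj, ← hrange]
      exact ⟨x, rfl⟩
    refine h t ⟨ψ.comp (φ.codRestrict (Subgroup.zpowers j) hh), F.comp_mem hφ hψ hh, ?_⟩ hfn'
      (Subgroup.mem_subgroupOf.1 htT)
    rw [← hψt]
    show ψ ⟨φ ⟨i, Subgroup.mem_zpowers i⟩, _⟩ = ψ ⟨j, _⟩
    congr 1
    exact Subtype.ext hj.symm

end Cfsg.Agent.S5192
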