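import Cfsg.Statements.S5235
import Mathlib
import Cfsg.Agent.S5086
import Cfsg.Agent.Lib.helper86.NormalCrit
import Cfsg.Agent.Lib.helper86.Essential
import Cfsg.Agent.Lib.helper88.Saturated
import Cfsg.Agent.Lib.helper88.Saturated2
import Cfsg.Agent.Lib.helper88.NormalSub
import Cfsg.Agent.Lib.helper88.FusionBasic
import Cfsg.Agent.Lib.helper89.FusionClosed
import Cfsg.Agent.Lib.helper89.FusionSat
import Cfsg.Agent.Lib.helper65.OddAut
-- import your own Cfsg.Agent.* helpers here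

set_option autoImplicit false
open Cfsg

namespace Cfsg.Agent.S5235

open Cfsg.Agent.Lib.helper65

/-- Let F be a saturated fusion system over a finite 2-group S (p = 2) and P a metacyclic subgroup of S strongly closed in F that is not dihedral, not semidihedral and not generalized quaternion (here the group of order 2, the Klein four-group and the cyclic group of order 4 also count as excluded). Then P is normal in F. -/
theorem result {Ω : Type*} [Group Ω] {S : Subgroup Ω} [Finite S] (p : ℕ) [Fact p.Prime] (hS : IsPGroup p S) (F : Cfsg.FusionSystem S) (hF : F.IsSaturated p) (P : Subgroup Ω) (hP : F.StronglyClosed P) (hp : p = 2) (hm : Cfsg.IsMetacyclic ↥P) (hd : ¬ ∃ m : ℕ, Nonempty (↥P ≃* DihedralGroup m)) (hq : ¬ ∃ m : ℕ, Nonempty (↥P ≃* QuaternionGroup m)) (hsd : ¬ Cfsg.IsQuasiDihedral ↥P) : F.IsNormal P := by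
  subst hp
  rw [Cfsg.Agent.S5086.result 2 hS F hF P]
  refine ⟨hP, ?_⟩
  intro E hcen hrad
  by_contra hPE
  have hPS : P ≤ S := hP.1
  have hES : E ≤ S := hcen.1
  obtain ⟨g₀, hg₀P, hg₀N, hg₀E⟩ := Cfsg.Agent.Lib.helper89.exists_normalizing_not_mem hS hPS hES
    (fun g hg t ht => Cfsg.Agent.Lib.helper89.conj_mem_of_stronglyClosed F hP hg ht) hPE
  obtain ⟨g, hgP, hgN, hgE, hg2E⟩ : ∃ g, g ∈ P ∧ g ∈ Subgroup.normalizer (E : Set Ω) ∧ g ∉ E ∧
      g ^ 2 ∈ E := by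
    classical
    obtain ⟨k, hk⟩ := hS ⟨g₀, hPS hg₀P⟩
    have hgk : g₀ ^ 2 ^ k = 1 := by
      have := congrArg Subtype.val hk
      simpa using this
    have hex : ∃ i, g₀ ^ 2 ^ i ∈ E := ⟨k, by rw [hgk]; exact E.one_mem⟩
    have hi0 : Nat.find hex ≠ 0 := by
      intro h0
      have := Nat.find_spec hex
      rw [h0, pow_zero, pow_one] at this
      exact hg₀E this
    obtain ⟨i, hi⟩ := Nat.exists_eq_succ_of_ne_zero hi0
    refine ⟨g₀ ^ 2 ^ i, P.pow_mem hg₀P _, Subgroup.pow_mem _ hg₀N _, ?_, ?_⟩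
    · exact Nat.find_min hex (by rw [hi]; exact Nat.lt_succ_self i)
    · have := Nat.find_spec hex
      rw [hi, pow_succ, pow_mul] at this
      exact this
  have hgS : g ∈ S := hPS hgP
  have : Finite ↥E :=
    Finite.of_injective (Subgroup.inclusion hES) (Subgroup.inclusion_injective hES)
  have hEp : IsPGroup 2 ↥E := hS.to_le hES
  obtain ⟨c, hcdef⟩ : ∃ c : MulAut ↥E, c = Cfsg.Agent.Lib.helper88.conjAut E g hgN := ⟨_, rfl⟩
  have hcapp : ∀ x : ↥E, ((c x : ↥E) : Ω) = g * (x : Ω) * g⁻¹ := by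
    intro x; rw [hcdef]; rfl
  have hcΓ : c ∈ F.autGroup E := by
    rw [hcdef]
    exact Cfsg.Agent.Lib.helper88.autInducedBy_le_autGroup F hES
      (Cfsg.Agent.Lib.helper88.conjAut_mem S E g hgN hgS)
  obtain ⟨X, hXdef⟩ : ∃ X : Subgroup ↥E, X = P.subgroupOf E := ⟨_, rfl⟩
  have hXmem : ∀ x : ↥E, x ∈ X ↔ (x : Ω) ∈ P := by
    intro x; rw [hXdef]; exact Subgroup.mem_subgroupOf
  have hcX : ∀ e : ↥E, c e * e⁻¹ ∈ X := by
    intro e
    rw [hXmem]
    show ((c e : ↥E) : Ω) * ((e : Ω))⁻¹ ∈ P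
    rw [hcapp]
    have h1 : (e : Ω) * g⁻¹ * (e : Ω)⁻¹ ∈ P :=
      Cfsg.Agent.Lib.helper89.conj_mem_of_stronglyClosed F hP (hES e.2) (P.inv_mem hgP)
    have h2 : g * (e : Ω) * g⁻¹ * (e : Ω)⁻¹ = g * ((e : Ω) * g⁻¹ * (e : Ω)⁻¹) := by group
    rw [h2]; exact P.mul_mem hgP h1
  obtain ⟨ι, hιdef⟩ : ∃ ι : ↥X →* ↥P, ι =
      { toFun := fun x => ⟨((x : ↥E) : Ω), (hXmem x.1).mp x.2⟩
        map_one' := rfl
        map_mul' := fun a b => rfl } := ⟨_, rfl⟩
  have hιapp : ∀ x : ↥X, ((ι x : ↥P) : Ω) = ((x : ↥E) : Ω) := by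
    intro x; rw [hιdef]; rfl
  have hι : Function.Injective ι := by
    intro a b hab
    apply Subtype.ext; apply Subtype.ext
    rw [← hιapp, ← hιapp, hab]
  have hmX : ∃ (N : Subgroup ↥X) (_ : N.Normal), IsCyclic N ∧ IsCyclic (↥X ⧸ N) :=
    isMetacyclic_of_injective ι hι hm
  have hΓ : ∀ γ ∈ F.autGroup E, ∀ x ∈ X, γ x ∈ X := by
    intro γ hγ x hx
    rw [hXmem] at hx ⊢
    exact Cfsg.Agent.Lib.helper89.aut_mem_of_stronglyClosed F hP hES hγ x hx
  have hradc : ∀ D : Subgroup (MulAut ↥E), D ≤ F.autGroup E →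
      (∀ a ∈ F.autGroup E, ∀ d ∈ D, a * d * a⁻¹ ∈ D) → IsPGroup 2 D → c ∉ D := by
    intro D hDΓ hDn hDp hcD
    have hDI : D ≤ Cfsg.Inn ↥E := Cfsg.Agent.Lib.helper86.le_inn_of_radical F hrad D hDΓ hDn hDp
    exact Cfsg.Agent.Lib.helper86.not_mem_inn_of_centric F hcen hgS hgE hcapp (hDI hcD)
  obtain ⟨⟨φ, hφ⟩, u, hu⟩ := oddAutKey hEp X hmX (F.autGroup E) hΓ c hcΓ hcX hradc
  have hrange : ∀ q : ↥P, q ∈ ι.range ↔ (q : Ω) ∈ E := by
    intro q
    constructor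
    · rintro ⟨x, rfl⟩
      rw [hιapp]; exact x.1.2
    · intro hq
      exact ⟨⟨⟨q, hq⟩, (hXmem _).mpr q.2⟩, Subtype.ext (hιapp _)⟩
  have hPp : IsPGroup 2 ↥P := hS.to_le hPS
  have : Finite ↥P :=
    Finite.of_injective (Subgroup.inclusion hPS) (Subgroup.inclusion_injective hPS)
  have hfin := twoMeta_final hPp hm ι hι ⟨g, hgP⟩ (by rw [hrange]; exact hgE)
    (by rw [hrange]; exact hg2E)
    (by
      intro x
      rw [hrange]
      show g * ((ι x : ↥P) : Ω) * g⁻¹ ∈ E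
      rw [hιapp]
      exact (Subgroup.mem_normalizer_iff.mp hgN _).mp x.1.2) φ hφ
    (by
      refine ⟨u, ?_⟩
      intro w hw
      apply hu w
      apply Subtype.ext
      have h1 := congrArg (fun q : ↥P => (q : Ω)) hw
      show ((c (u : ↥E) : ↥E) : Ω) * ((u : ↥E) : Ω)⁻¹ = ((w : ↥E) : Ω) ^ 2
      rw [hcapp, ← hιapp, ← hιapp]
      exact h1)
  rcases hfin with h | h | h
  · exact hd h
  · exact hq h
  · exact hsd h

end Cfsg.Agent.S5235
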