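import Cfsg.Statements.S5212
import Mathlib
import Cfsg.Agent.S5235
import Cfsg.Agent.Lib.helper88.Saturated
import Cfsg.Agent.Lib.helper88.FusionBasic
import Cfsg.Agent.Lib.helper89.FusionSat
import Cfsg.Agent.Lib.helper65.TwoMetaHomo
-- import your own Cfsg.Agent.* helpers here

set_option autoImplicit false
open Cfsg

namespace Cfsg.Agent.S5212

open Cfsg.Agent.Lib.helper65

/-- Let S be a finite metacyclic 2-group that is not homocyclic abelian (a direct product of cyclic groups of one common order), not dihedral, not semidihedral and not generalized quaternion. Then every saturated fusion system over S is the inner fusion system of S. -/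
theorem result {Ω : Type*} [Group Ω] {S : Subgroup Ω} [Finite S] (hS : IsPGroup 2 S) (F : Cfsg.FusionSystem S) (hF : F.IsSaturated 2) (hm : Cfsg.IsMetacyclic ↥S) (hh : ¬ ∃ n k : ℕ, Nonempty (↥S ≃* Multiplicative (Fin k → ZMod (2 ^ n)))) (hd : ¬ ∃ m : ℕ, Nonempty (↥S ≃* DihedralGroup m)) (hq : ¬ ∃ m : ℕ, Nonempty (↥S ≃* QuaternionGroup m)) (hsd : ¬ Cfsg.IsQuasiDihedral ↥S) : ∀ P : Subgroup Ω, F.Hom P = (Cfsg.innerFusionSystem S).Hom P := by
  have hAut : ∀ β : MulAut ↥S, ∃ k : ℕ, β ^ 2 ^ k = 1 :=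
    mulAut_two_group_of_metacyclic hS hm hh hd hq hsd
  have hSc : F.StronglyClosed S := ⟨le_rfl, fun R _ φ hφ x => (F.le_of_mem hφ).2 x⟩
  have hN : F.IsNormal S := Cfsg.Agent.S5235.result 2 hS F hF S hSc rfl hm hd hq hsd
  apply Cfsg.Agent.Lib.helper89.hom_eq_inner_of_aut_pgroups F hS hF
  intro R hRS
  rintro ⟨α, hα⟩
  have hφ := (Cfsg.Agent.Lib.helper88.mem_autGroup_iff' F hRS α).mp hα
  obtain ⟨-, hext⟩ := (Cfsg.Agent.Lib.helper88.isNormal_iff_normalExt F S).mp hN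
  obtain ⟨T, ψ, hψ, hRT, hST, hψφ, -⟩ := hext R _ hφ
  have hψS := (F.le_of_mem hψ).2
  have hψinj := F.injective_of_mem hψ
  let β₀ : ↥S →* ↥S :=
    { toFun := fun s => ⟨ψ ⟨s, hST s.2⟩, hψS _⟩
      map_one' := by
        apply Subtype.ext
        exact map_one ψ
      map_mul' := by
        intro a b
        apply Subtype.ext
        exact map_mul ψ ⟨a, hST a.2⟩ ⟨b, hST b.2⟩ }
  have hβinj : Function.Injective β₀ := by
    intro a b hab
    have h1 : ψ ⟨a, hST a.2⟩ = ψ ⟨b, hST b.2⟩ := congrArg Subtype.val hab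
    have h2 := hψinj h1
    have h3 : (a : Ω) = (b : Ω) := congrArg (fun t : ↥T => (t : Ω)) h2
    exact Subtype.ext h3
  obtain ⟨β, hβ⟩ : ∃ β : MulAut ↥S, ∀ s : ↥S, ((β s : ↥S) : Ω) = ψ ⟨s, hST s.2⟩ :=
    ⟨MulEquiv.ofBijective β₀ ⟨hβinj, Finite.surjective_of_injective hβinj⟩, fun s => rfl⟩
  obtain ⟨k, hk⟩ := hAut β
  have hstep : ∀ x : ↥R, (⟨((α x : ↥R) : Ω), hRS (α x).2⟩ : ↥S) = β ⟨x, hRS x.2⟩ := by
    intro x
    apply Subtype.ext
    rw [hβ]
    exact (hψφ x x.2 (hRT x.2)).symm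
  have hpow : ∀ n : ℕ, ∀ x : ↥R,
      (⟨(((α ^ n) x : ↥R) : Ω), hRS ((α ^ n) x).2⟩ : ↥S) = (β ^ n) ⟨x, hRS x.2⟩ := by
    intro n
    induction n with
    | zero => intro x; rfl
    | succ n ih =>
      intro x
      rw [pow_succ, MulAut.mul_apply, pow_succ, MulAut.mul_apply, ih, hstep]
  refine ⟨k, Subtype.ext ?_⟩
  rw [Subgroup.coe_pow]
  ext x
  have h := hpow (2 ^ k) x
  rw [hk] at h
  exact congrArg (fun t : ↥S => (t : Ω)) h

end Cfsg.Agent.S5212
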