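import Cfsg.Statements.S5213
import Cfsg.Agent.S1237
import Cfsg.Agent.Lib.helper32.FS13_G1
import Cfsg.Agent.Lib.helper32.FS13_G2
import Cfsg.Agent.Lib.helper42.FS13_G3
import Cfsg.Agent.Lib.helper69.FS13_G4
import Cfsg.Agent.Lib.helper69.FS13_G5
import Cfsg.Agent.Lib.helper78.FS13_F0
import Cfsg.Agent.Lib.helper78.FS13_F1
import Cfsg.Agent.Lib.helper75.FS13_F2
import Cfsg.Agent.Lib.helper57.FS13_F3
import Cfsg.Agent.Lib.helper89.FS13_F4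
import Cfsg.Agent.Lib.helper37.S1238TG

set_option autoImplicit false
open Cfsg

namespace Cfsg.Agent.S5213

section asm

variable {Ω : Type*} [Group Ω] {S : Subgroup Ω}

/-- Case I: two central involutions. -/
theorem caseI [Finite S] (hS : IsPGroup 2 S) (F : FusionSystem S) (hF : F.IsSaturated 2)
    (h2 : Cfsg.PRankLE 2 2 ↥S) (hZ : F.center = ⊥) (a b : ↥S) (ha : orderOf a = 2)
    (hb : orderOf b = 2) (hab : a ≠ b) (hac : ∀ g : ↥S, g * a = a * g)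
    (hbc : ∀ g : ↥S, g * b = b * g) :
    ∃ φ : MulAut ↥S, ∀ s t : ↥S, orderOf s = 2 → orderOf t = 2 → ∃ k : ℕ, (φ ^ k) s = t := by
  have hall : ∀ t : ↥S, orderOf t = 2 → t = a ∨ t = b ∨ t = a * b := fun t ht =>
    Cfsg.Agent.Lib.helper69.FS13.inv_mem_four h2 a b t ha hb ht hab (hbc a) (hac t) (hbc t)
  have hcen : ∀ t : ↥S, orderOf t = 2 → ∀ g : ↥S, g * t = t * g := by
    intro t ht g
    rcases hall t ht with rfl | rfl | rfl
    · exact hac g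
    · exact hbc g
    · rw [← mul_assoc, hac g, mul_assoc, hbc g, mul_assoc]
  refine Cfsg.Agent.Lib.helper69.FS13.three_cycle a b ha hb hab (hbc a) hall ?_
  intro t ht
  have htΩ : orderOf (t : Ω) = 2 := by rw [Subgroup.orderOf_coe]; exact ht
  obtain ⟨φ, hφ, hne⟩ := Cfsg.Agent.Lib.helper78.FS13.central_moved hS F hF hZ (t : Ω) t.2 htΩ
  have hφS : φ ⟨(t : Ω), Subgroup.mem_zpowers _⟩ ∈ S := (F.le_of_mem hφ).2 _
  have ho : orderOf (⟨φ ⟨(t : Ω), Subgroup.mem_zpowers _⟩, hφS⟩ : ↥S) = 2 := by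
    rw [← Subgroup.orderOf_coe]
    change orderOf (φ ⟨(t : Ω), Subgroup.mem_zpowers _⟩) = 2
    rw [orderOf_injective φ (F.injective_of_mem hφ), ← Subgroup.orderOf_coe]
    exact htΩ
  have htc : ∀ s ∈ S, s * (t : Ω) = (t : Ω) * s := fun s hs =>
    congrArg Subtype.val (hcen t ht ⟨s, hs⟩)
  have hc : ∀ s ∈ S, s * φ ⟨(t : Ω), Subgroup.mem_zpowers _⟩ =
      φ ⟨(t : Ω), Subgroup.mem_zpowers _⟩ * s := fun s hs =>
    congrArg Subtype.val (hcen _ ho ⟨s, hs⟩)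
  obtain ⟨α, hα⟩ := Cfsg.Agent.Lib.helper75.FS13.ext_to_S hS F hF (t : Ω) t.2 htc φ hφ hc
  refine ⟨α, fun h => hne ?_⟩
  rw [← hα]
  exact congrArg Subtype.val h

/-- Case II: a unique central involution. -/
theorem caseII [Finite S] (hS : IsPGroup 2 S) (F : FusionSystem S) (hF : F.IsSaturated 2)
    (h2 : Cfsg.PRankLE 2 2 ↥S) (hZ : F.center = ⊥) (z : ↥S) (hz2 : orderOf z = 2)
    (hzc : ∀ g : ↥S, g * z = z * g) :
    ∃ u : ↥S, u * u = 1 ∧ u ≠ 1 ∧ u ≠ z ∧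
      ∃ φ : MulAut ↥(Subgroup.centralizer ({u} : Set ↥S)),
        ((φ ⟨z, Subgroup.mem_centralizer_singleton_iff.mpr (hzc u).symm⟩ :
          ↥(Subgroup.centralizer ({u} : Set ↥S))) : ↥S) = u ∧
        ((φ ⟨u, Subgroup.mem_centralizer_singleton_iff.mpr rfl⟩ :
          ↥(Subgroup.centralizer ({u} : Set ↥S))) : ↥S) = z * u := by
  have hzΩ : orderOf (z : Ω) = 2 := by rw [Subgroup.orderOf_coe]; exact hz2
  have hzcΩ : ∀ s ∈ S, s * (z : Ω) = (z : Ω) * s := fun s hs =>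
    congrArg Subtype.val (hzc ⟨s, hs⟩)
  obtain ⟨φ₀, hφ₀, hne⟩ := Cfsg.Agent.Lib.helper78.FS13.central_moved hS F hF hZ (z : Ω) z.2 hzΩ
  obtain ⟨R, hzR, α, hfa, hrec, hα, hαz⟩ :=
    Cfsg.Agent.Lib.helper78.FS13.exists_moving_aut hS F hF (z : Ω) z.2 hzcΩ φ₀ hφ₀ hne
  obtain ⟨u, huR, γ, hγ, hu, huz, hγz, hγu⟩ :=
    Cfsg.Agent.Lib.helper57.FS13.three_cycle_aut hS F h2 (z : Ω) z.2 hzΩ hzcΩ R hzR hfa α hα hαz
  obtain ⟨v, T, hvS, hv, hvz, hT, hzT, hvT, φ, hφz, hφv⟩ :=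
    Cfsg.Agent.Lib.helper89.FS13.transport_four hS F hF h2 (z : Ω) z.2 hzΩ hzcΩ R hfa.1 hzR u huR hu huz γ hγ hγz hγu
  have hvo : orderOf (⟨v, hvS⟩ : ↥S) = 2 := by rw [← Subgroup.orderOf_coe]; exact hv
  obtain ⟨ψ, hψz, hψv⟩ := Cfsg.Agent.Lib.helper42.FS13.transport_type S (z : Ω) v z.2 hvS T hT hzT hvT φ hφz hφv
    (Subgroup.mem_centralizer_singleton_iff.mpr (hzc ⟨v, hvS⟩).symm)
    (Subgroup.mem_centralizer_singleton_iff.mpr rfl)
  refine ⟨⟨v, hvS⟩, ?_, ?_, ?_, ψ, hψz, hψv⟩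
  · rw [← pow_two, ← hvo, pow_orderOf_eq_one]
  · intro h
    rw [h, orderOf_one] at hvo
    omega
  · intro h
    exact hvz (congrArg Subtype.val h)

end asm

/-- Let S be a finite 2-group of 2-rank 2 (it has an elementary abelian subgroup of order 4 and none of order 8) and F a saturated fusion system over S with trivial centre. Then S is dihedral, semidihedral, wreathed, homocyclic abelian (a direct product of cyclic groups of one common order), or isomorphic to a Sylow 2-subgroup of the projective special unitary group PSU₃(4) (realised over the field with 16 elements). -/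
theorem result {Ω : Type*} [Group Ω] {S : Subgroup Ω} [Finite S] (hS : IsPGroup 2 S) (F : Cfsg.FusionSystem S) (hF : F.IsSaturated 2) (hr : Cfsg.PRankAtLeast 2 2 ↥S ∧ ¬ Cfsg.PRankAtLeast 2 3 ↥S) (hZ : F.center = ⊥) {K : Type*} [Field K] [Fintype K] (hK : Fintype.card K = 16) : (∃ m : ℕ, Nonempty (↥S ≃* DihedralGroup m)) ∨ Cfsg.IsQuasiDihedral ↥S ∨ Cfsg.IsWreathed ↥S ∨ (∃ n k : ℕ, Nonempty (↥S ≃* Multiplicative (Fin k → ZMod (2 ^ n)))) ∨ ∃ T : Sylow 2 (Cfsg.PSU 3 K 4), Nonempty (↥S ≃* ↥(T : Subgroup (Cfsg.PSU 3 K 4))) := by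
  have h2 : Cfsg.PRankLE 2 2 ↥S := Cfsg.Agent.Lib.helper32.FS13.rank_le_two hS hr.2
  have h1 : ¬ Cfsg.PRankLE 2 1 ↥S := Cfsg.Agent.Lib.helper32.FS13.rank_not_le_one hr.1
  obtain ⟨z, hz2, hzc⟩ := Cfsg.Agent.Lib.helper42.FS13.exists_central_inv hS hr.1
  by_cases hex : ∃ z' : ↥S, (∀ g : ↥S, g * z' = z' * g) ∧ orderOf z' = 2 ∧ z' ≠ z
  · obtain ⟨z', hz'c, hz'2, hne⟩ := hex
    obtain ⟨φ, hφ⟩ := caseI hS F hF h2 hZ z z' hz2 hz'2 (Ne.symm hne) hzc hz'c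
    obtain ⟨P⟩ : Nonempty (Sylow 2 (Cfsg.PSU 3 K 4)) := inferInstance
    rcases Cfsg.Agent.S1237.result hS h2 h1 φ hφ hK P with ⟨n, -, ⟨e⟩⟩ | he
    · obtain ⟨e'⟩ := Cfsg.Agent.Lib.helper42.FS13.prod_equiv_pi n
      exact Or.inr (Or.inr (Or.inr (Or.inl ⟨n, 2, ⟨e.trans e'⟩⟩)))
    · exact Or.inr (Or.inr (Or.inr (Or.inr ⟨P, he⟩)))
  · have huniq : ∀ z' : ↥S, (∀ g : ↥S, g * z' = z' * g) → orderOf z' = 2 → z' = z := by
      intro z' h1' h2'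
      by_contra hne
      exact hex ⟨z', h1', h2', hne⟩
    obtain ⟨u, huu, hu1, huz, φ, hφz, hφu⟩ := caseII hS F hF h2 hZ z hz2 hzc
    rcases Cfsg.Agent.Lib.helper37.S1238.two_group_endgame hS h2 z u hz2 hzc huniq huu hu1 huz φ hφz hφu with
      ⟨m, -, hm⟩ | h | h
    · exact Or.inl ⟨m, hm⟩
    · exact Or.inr (Or.inl h)
    · exact Or.inr (Or.inr (Or.inl h))

end Cfsg.Agent.S5213
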