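import Cfsg.Statements.S5301
import Cfsg.Agent.Lib.helper90.RestrSystem

set_option autoImplicit false
universe u
open Cfsg

namespace Cfsg.Agent.S5301

open Cfsg.FusionSystem Cfsg.Agent.Lib.helper89 Cfsg.Agent.Lib.helper90

/-- a fully automized receptive subgroup is fully normalized -/
theorem fn_of_fa_rec {Ω : Type*} [Group Ω] {S : Subgroup Ω} [Finite S] {p : ℕ} [Fact p.Prime]
    (hS : IsPGroup p S) (F : FusionSystem S) {R : Subgroup Ω} (hfa : F.IsFullyAutomized p R)
    (hrec : F.IsReceptive R) : F.IsFullyNormalized R := by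
  refine ⟨hfa.1, fun Q hQ => ?_⟩
  have hQ' := Cfsg.Agent.Lib.helper88.isConj_symm F hQ
  obtain ⟨φ, hφ, hφQ⟩ := Cfsg.Agent.Lib.helper88.exists_map_normalizer hS F hfa hrec hQ'
  have hfin : Finite (normalizerIn S R) := finite_of_le inf_le_left
  have hmem : ∀ x : normalizerIn S Q, φ x ∈ normalizerIn S R := by
    intro x
    refine ⟨(F.le_of_mem hφ).2 x, ?_⟩
    have hfinR : Finite R := finite_of_le hfa.1
    apply Cfsg.Agent.Lib.helper88.mem_normalizer_of_conj_mem
    intro y hy
    rw [← hφQ] at hy ⊢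
    obtain ⟨q, hq, rfl⟩ := hy
    refine ⟨x * q * x⁻¹, ?_, by rw [map_mul, map_mul, map_inv]⟩
    have hq : q ∈ Q.subgroupOf (normalizerIn S Q) := hq
    show x * q * x⁻¹ ∈ Q.subgroupOf (normalizerIn S Q)
    rw [Subgroup.mem_subgroupOf] at hq ⊢
    have hx : (x : Ω) ∈ Subgroup.normalizer (Q : Set Ω) := x.2.2
    have := (Subgroup.mem_normalizer_iff.mp hx (q : Ω)).mp hq
    simpa using this
  have hinj : Function.Injective (φ.codRestrict (normalizerIn S R) hmem) := by
    intro x y hxy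
    apply F.injective_of_mem hφ
    have := congrArg (fun z : normalizerIn S R => (z : Ω)) hxy
    simpa using this
  exact Nat.card_le_card_of_injective _ hinj

/-- a receptive subgroup containing its centralizer in `S` is centric -/
theorem centric_of_rec {Ω : Type*} [Group Ω] {S : Subgroup Ω} [Finite S]
    (F : FusionSystem S) {R : Subgroup Ω}
    (hrec : F.IsReceptive R) (hC : centralizerIn S R ≤ R) : F.IsCentric R := by
  refine ⟨hrec.1, fun Q hQ => ?_⟩
  obtain ⟨φ, hφ, hφR⟩ := Cfsg.Agent.Lib.helper88.isConj_symm F hQ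
  have hQS : Q ≤ S := (F.le_of_mem hφ).1
  obtain ⟨ψ, hψ, hψx⟩ := exists_extension_closure F hrec hφ hφR
    ((Q : Set Ω) ∪ (centralizerIn S Q : Set Ω)) (by
      rintro g (hg | hg)
      · exact extender_cond_of_mem F hφ hg
      · have hgc : g ∈ Subgroup.centralizer (Q : Set Ω) := hg.2
        refine ⟨hg.1, Subgroup.centralizer_le_normalizer _ hgc, 1, S.one_mem, fun x hx => ?_⟩
        have hx' : g * (x : Ω) * g⁻¹ = x := by
          rw [Subgroup.mem_centralizer_iff] at hgc
          rw [← hgc x x.2, mul_inv_cancel_right]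
        have h1 : (⟨g * (x : Ω) * g⁻¹, hx⟩ : Q) = x := Subtype.ext hx'
        rw [h1]; simp)
  intro g hg
  have hgN : g ∈ Subgroup.closure ((Q : Set Ω) ∪ (centralizerIn S Q : Set Ω)) :=
    Subgroup.subset_closure (Or.inr hg)
  have hQN : Q ≤ Subgroup.closure ((Q : Set Ω) ∪ (centralizerIn S Q : Set Ω)) :=
    fun x hx => Subgroup.subset_closure (Or.inl hx)
  have hgc : g ∈ Subgroup.centralizer (Q : Set Ω) := hg.2
  have h1 : ψ ⟨g, hgN⟩ ∈ centralizerIn S R := by
    refine ⟨(F.le_of_mem hψ).2 _, ?_⟩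
    show ψ ⟨g, hgN⟩ ∈ Subgroup.centralizer (R : Set Ω)
    rw [Subgroup.mem_centralizer_iff]
    intro y hy
    rw [← hφR] at hy
    obtain ⟨x, rfl⟩ := hy
    rw [← hψx (x : Ω) x.2 (hQN x.2), ← map_mul, ← map_mul]
    congr 1
    apply Subtype.ext
    rw [Subgroup.mem_centralizer_iff] at hgc
    exact hgc x x.2
  have h2 := hC h1
  rw [← hφR] at h2
  obtain ⟨x, hx⟩ := h2
  rw [← hψx (x : Ω) x.2 (hQN x.2)] at hx
  have h3 := F.injective_of_mem hψ hx
  have h4 : (x : Ω) = g := congrArg Subtype.val h3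
  rw [← h4]
  exact x.2

/-- the inner automorphisms lie in `O_p(Aut_F(R))` -/
theorem inn_le_pCore {Ω : Type*} [Group Ω] {S : Subgroup Ω} [Finite S] {p : ℕ} [Fact p.Prime]
    (hS : IsPGroup p S) (F : FusionSystem S) {R : Subgroup Ω} (hRS : R ≤ S) :
    Inn R ≤ (pCore p (F.autGroup R)).map (F.autGroup R).subtype := by
  have hInnA : Inn R ≤ F.autGroup R := by
    rintro _ ⟨g, rfl⟩
    rw [mem_autGroup_iff F hRS]
    have h1 : conjHom R (g : Ω) ∈ F.Hom R := F.conj_mem hRS (hRS g.2)
    have h2 : R.subtype.comp (MulAut.conj g).toMonoidHom = conjHom R (g : Ω) := by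
      ext x
      simp [conjHom]
    rw [h2]
    exact h1
  have hnorm : ((Inn R).subgroupOf (F.autGroup R)).Normal := by
    refine ⟨fun n hn a => ?_⟩
    rw [Subgroup.mem_subgroupOf] at hn ⊢
    obtain ⟨g, hg⟩ := hn
    refine ⟨(a : MulAut R) g, ?_⟩
    show MulAut.conj ((a : MulAut R) g) = (a : MulAut R) * (n : MulAut R) * (a : MulAut R)⁻¹
    rw [← hg]
    ext x
    simp [MulAut.mul_apply, MulAut.conj_apply]
  have hp : IsPGroup p (Inn R) :=
    IsPGroup.of_surjective (hS.to_le hRS) (MulAut.conj : R →* MulAut R).rangeRestrict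
      (MonoidHom.rangeRestrict_surjective _)
  have hp' : IsPGroup p ((Inn R).subgroupOf (F.autGroup R)) := hp.comap_subtype
  have hle : (Inn R).subgroupOf (F.autGroup R) ≤ pCore p (F.autGroup R) := le_sSup ⟨hnorm, hp'⟩
  have := Subgroup.map_mono (f := (F.autGroup R).subtype) hle
  rwa [Subgroup.map_subgroupOf_eq_of_le hInnA] at this

/-- `O_p(Aut_F(R))`, as a subgroup of `Aut(R)`, lies in `Aut_S(R)` when `R` is fully automized -/
theorem pCore_le_autS {Ω : Type*} [Group Ω] {S : Subgroup Ω} [Finite S] {p : ℕ} [Fact p.Prime]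
    (F : FusionSystem S) {R : Subgroup Ω} (hfa : F.IsFullyAutomized p R) :
    (pCore p (F.autGroup R)).map (F.autGroup R).subtype ≤ autInducedBy S R := by
  have hn : (pCore p (F.autGroup R)).Normal := Subgroup.sSup_normal _ (fun _ h => h.1)
  have hpg : IsPGroup p (pCore p (F.autGroup R)) :=
    Sylow.sSup_of_normal _ (fun _ h => h.2) (fun _ h => h.1)
  refine normal_pgroup_le_autS F hfa _ (Subgroup.map_subtype_le _) ?_ (hpg.map _)
  rintro a ha _ ⟨d, hd, rfl⟩
  exact ⟨⟨a, ha⟩ * d * ⟨a, ha⟩⁻¹, hn.conj_mem d hd ⟨a, ha⟩, rfl⟩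

/-- Let F be a saturated fusion system over a finite p-group S. If for every subgroup P of S that is fully normalized, centric and radical in F the automorphism group that F induces on P has a normal Sylow p-subgroup, then S is normal in F. -/
theorem result {Ω : Type u} [Group Ω] {S : Subgroup Ω} [Finite S] (p : ℕ) [Fact p.Prime] (hS : IsPGroup p S)
    (F : Cfsg.FusionSystem S) (hF : F.IsSaturated p)
    (hcl : ∀ P : Subgroup Ω, F.IsFullyNormalized P → F.IsCentric P → F.IsRadical p P →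
      ∃ R : Sylow p ↥(F.autGroup P), (R : Subgroup ↥(F.autGroup P)).Normal) :
    F.IsNormal S := by
  refine isNormal_of_extension F hS hF ?_
  intro R hlt hfa hrec α hα
  have hRS : R ≤ S := hfa.1
  have hfinR : Finite R := finite_of_le hRS
  by_cases hC : centralizerIn S R ≤ R
  · have hcen : F.IsCentric R := centric_of_rec F hrec hC
    have hfn : F.IsFullyNormalized R := fn_of_fa_rec hS F hfa hrec
    by_cases hrad : F.IsRadical p R
    · -- `Aut_S(R)` is normal in `Aut_F(R)`
      obtain ⟨P₁, hP₁⟩ := hcl R hfn hcen hrad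
      obtain ⟨-, P₀, hP₀⟩ := hfa
      have hfinA : Finite ↥(F.autGroup R) := finite_autGroup F hRS
      have := Sylow.unique_of_normal P₁ hP₁
      have hP₀₁ : P₀ = P₁ := Subsingleton.elim _ _
      rw [← hP₀₁, hP₀] at hP₁
      obtain ⟨w, hw, hwR⟩ := exists_mem_normalizerIn_not_mem hS hlt
      have hwN : w ∈ Subgroup.normalizer (R : Set Ω) := hw.2
      obtain ⟨c, hc⟩ := exists_conj_aut F hRS hw.1 (fun x hx =>
        (Subgroup.mem_normalizer_iff.mp hwN x).mp hx)
      refine ⟨w, hw.1, hwN, hwR, c, hc, ?_⟩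
      have hcS : c ∈ autInducedBy S R := (mem_autInducedBy_iff S R c).mpr ⟨w, hw.1, hc⟩
      have hcA : c ∈ F.autGroup R := autInducedBy_le_autGroup F hRS hcS
      have h1 : (⟨c, hcA⟩ : F.autGroup R) ∈ (autInducedBy S R).subgroupOf (F.autGroup R) :=
        Subgroup.mem_subgroupOf.mpr hcS
      have h2 := hP₁.conj_mem _ h1 ⟨α, hα⟩
      exact Subgroup.mem_subgroupOf.mp h2
    · -- `R` is not radical
      have hne : (pCore p (F.autGroup R)).map (F.autGroup R).subtype ≠ Inn R :=
        fun h => hrad ⟨hRS, h⟩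
      have hlt' : Inn R < (pCore p (F.autGroup R)).map (F.autGroup R).subtype :=
        lt_of_le_of_ne (inn_le_pCore hS F hRS) (Ne.symm hne)
      obtain ⟨d, hd, hdInn⟩ := SetLike.exists_of_lt hlt'
      have hdS := pCore_le_autS F hfa hd
      obtain ⟨w, hwS, hwd⟩ := (mem_autInducedBy_iff S R d).mp hdS
      have hwN : w ∈ Subgroup.normalizer (R : Set Ω) := by
        apply Cfsg.Agent.Lib.helper88.mem_normalizer_of_conj_mem
        intro x hx
        rw [← hwd ⟨x, hx⟩]
        exact (d ⟨x, hx⟩).2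
      have hwR : w ∉ R := by
        intro hwR
        apply hdInn
        refine ⟨⟨w, hwR⟩, ?_⟩
        ext x
        rw [hwd x]
        simp [MulAut.conj_apply]
      refine ⟨w, hwS, hwN, hwR, d, hwd, ?_⟩
      apply pCore_le_autS F hfa
      obtain ⟨d', hd', rfl⟩ := hd
      have hn : (pCore p (F.autGroup R)).Normal := Subgroup.sSup_normal _ (fun _ h => h.1)
      exact ⟨⟨α, hα⟩ * d' * ⟨α, hα⟩⁻¹, hn.conj_mem d' hd' ⟨α, hα⟩, rfl⟩
  · -- an element of `C_S(R)` outside `R`
    obtain ⟨w, hw, hwR⟩ := SetLike.not_le_iff_exists.mp hC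
    have hwc : w ∈ Subgroup.centralizer (R : Set Ω) := hw.2
    refine ⟨w, hw.1, Subgroup.centralizer_le_normalizer _ hwc, hwR, 1, fun x => ?_, ?_⟩
    · rw [Subgroup.mem_centralizer_iff] at hwc
      rw [← hwc x x.2, mul_inv_cancel_right]
      rfl
    · rw [mul_one, mul_inv_cancel]
      exact Subgroup.one_mem _

end Cfsg.Agent.S5301
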