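import Cfsg.Statements.S5214
import Mathlib
import Cfsg.Agent.S5301
import Cfsg.Agent.Lib.helper88.Saturated
import Cfsg.Agent.Lib.helper89.StabChain
import Cfsg.Agent.Lib.helper89.FusionSat
import Cfsg.Agent.Lib.helper89.Suz6

set_option autoImplicit false
open Cfsg

namespace Cfsg.Agent.S5214

open Cfsg.FusionSystem Cfsg.Agent.Lib.helper89 Cfsg.Agent.S1137

/-- structure of a Suzuki 2-group inside an ambient group: involutions are central and
commutators are involutions. -/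
theorem suz_facts {Ω : Type*} [Group Ω] {S : Subgroup Ω} (hsz : Cfsg.IsSuzukiTwoGroup ↥S) :
    (∀ z ∈ S, z * z = 1 → ∀ g ∈ S, z * g = g * z) ∧
    (∀ x ∈ S, ∀ y ∈ S, (x⁻¹ * y⁻¹ * x * y) * (x⁻¹ * y⁻¹ * x * y) = 1) := by
  obtain ⟨hfin, hpg, ⟨a, b, hab⟩, htwo, K, hcyc, hreg⟩ := hsz
  have hcomm : ∀ x y : K, x * y = y * x := by
    intro x y
    obtain ⟨g, hg⟩ := IsCyclic.exists_generator (α := K)
    obtain ⟨i, rfl⟩ := Subgroup.mem_zpowers_iff.mp (hg x)
    obtain ⟨j, rfl⟩ := Subgroup.mem_zpowers_iff.mp (hg y)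
    rw [← zpow_add, ← zpow_add, add_comm]
  have h : Hyp S K (fun k => ((k : MulAut S) : S ≃* S).toMonoidHom) :=
    { fin := hfin
      pg := hpg
      comm := hcomm
      comp := fun k k' x => rfl
      one := fun x => rfl
      two := htwo
      reg := hreg }
  obtain ⟨hcl, -, -⟩ := Suz.higman h ⟨a, b, hab⟩
  constructor
  · intro z hz hzz g hg
    have h1 : (⟨z, hz⟩ : S) ∈ h.V := h.mem_V.mpr (Subtype.ext hzz)
    exact congrArg Subtype.val (Suz.V_central h h1 ⟨g, hg⟩)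
  · intro x hx y hy
    have h1 := h.mem_V.mp (hcl ⟨x, hx⟩ ⟨y, hy⟩)
    have h2 : ((y * x)⁻¹ * (x * y)) * ((y * x)⁻¹ * (x * y)) = 1 := congrArg Subtype.val h1
    have e : x⁻¹ * y⁻¹ * x * y = (y * x)⁻¹ * (x * y) := by group
    rw [e]; exact h2

/-- Let S be a Suzuki 2-group (a finite nonabelian 2-group with more than one involution admitting a cyclic group of automorphisms permuting its involutions regularly). Then S is normal in every saturated fusion system over S (such a group is resistant). -/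
theorem result {Ω : Type*} [Group Ω] {S : Subgroup Ω} [Finite S] (hS : IsPGroup 2 S) (F : Cfsg.FusionSystem S) (hF : F.IsSaturated 2) (hsz : Cfsg.IsSuzukiTwoGroup ↥S) : F.IsNormal S := by
  have hF2 : Fact (Nat.Prime 2) := ⟨Nat.prime_two⟩
  obtain ⟨hZc, hcl⟩ := suz_facts hsz
  apply Cfsg.Agent.S5301.result 2 hS F hF
  intro P hPfn hPc _
  have hPS : P ≤ S := hPfn.1
  have hfinP : Finite P := finite_of_le hPS
  obtain ⟨Zp, hZp⟩ : ∃ Zp : Subgroup P, ∀ x : P, x ∈ Zp ↔ (x : Ω) * (x : Ω) = 1 := by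
    refine ⟨{ carrier := {x | (x : Ω) * (x : Ω) = 1}
              mul_mem' := ?_, one_mem' := ?_, inv_mem' := ?_ }, fun x => Iff.rfl⟩
    · intro x y hx hy
      have hx' : (x : Ω) * x = 1 := hx
      have hy' : (y : Ω) * y = 1 := hy
      show ((x * y : P) : Ω) * ((x * y : P) : Ω) = 1
      have hc := hZc x (hPS x.2) hx' y (hPS y.2)
      rw [Subgroup.coe_mul, Suz.sq_mul_of_comm hc.symm, hx', hy', mul_one]
    · show ((1 : P) : Ω) * ((1 : P) : Ω) = 1
      simp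
    · intro x hx
      have hx' : (x : Ω) * x = 1 := hx
      show ((x⁻¹ : P) : Ω) * ((x⁻¹ : P) : Ω) = 1
      rw [Subgroup.coe_inv, ← mul_inv_rev, hx', inv_one]
  obtain ⟨Cs, hCs⟩ : ∃ Cs : Set (Subgroup P × Subgroup P),
      ∀ MM', MM' ∈ Cs ↔ (MM' = (Zp, ⊥) ∨ MM' = (⊤, Zp)) :=
    ⟨{MM' | MM' = (Zp, ⊥) ∨ MM' = (⊤, Zp)}, fun _ => Iff.rfl⟩
  have hZinv : ∀ a : MulAut P, ∀ x ∈ Zp, a x ∈ Zp := by
    intro a x hx
    rw [hZp] at hx ⊢
    have h1 : (x * x : P) = 1 := Subtype.ext hx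
    have h2 : a x * a x = 1 := by rw [← map_mul, h1, map_one]
    exact congrArg Subtype.val h2
  have hinv : ∀ a ∈ F.autGroup P, ∀ MM' ∈ Cs,
      (∀ x ∈ MM'.1, a x ∈ MM'.1) ∧ (∀ x ∈ MM'.2, a x ∈ MM'.2) := by
    intro a _ MM' hMM'
    rcases (hCs MM').mp hMM' with rfl | rfl
    · exact ⟨hZinv a, fun x hx => by rw [Subgroup.mem_bot] at hx ⊢; rw [hx, map_one]⟩
    · exact ⟨fun x _ => Subgroup.mem_top _, hZinv a⟩
  have hKp : IsPGroup 2 (stabilizerOfPairs (F.autGroup P) Cs hinv) := by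
    refine isPGroup_stabilizerOfPairs (hS.to_le hPS) _ Cs hinv ?_
    intro Pr hbot hstep
    have h1 : Pr Zp := hstep Zp ⊥ ((hCs _).mpr (Or.inl rfl)) bot_le hbot
    exact hstep ⊤ Zp ((hCs _).mpr (Or.inr rfl)) le_top h1
  have hle : autInducedBy S P ≤ stabilizerOfPairs (F.autGroup P) Cs hinv := by
    intro α hα
    have hαA := Cfsg.Agent.Lib.helper88.autInducedBy_le_autGroup F hPS hα
    obtain ⟨g, hg, hgα⟩ := (mem_autInducedBy_iff S P α).mp hα
    refine mem_stabilizerOfPairs.mpr ⟨hαA, ?_⟩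
    intro MM' hMM'
    rcases (hCs MM').mp hMM' with rfl | rfl
    · intro x hx
      rw [Subgroup.mem_bot]
      have hx' : (x : Ω) * x = 1 := (hZp x).mp hx
      apply Subtype.ext
      show (x : Ω)⁻¹ * ((α x : P) : Ω) = 1
      have hc := hZc x (hPS x.2) hx' g hg
      rw [hgα, ← hc]; group
    · intro x _
      show x⁻¹ * α x ∈ Zp
      rw [hZp]
      have e : ((x⁻¹ * α x : P) : Ω) = (x : Ω)⁻¹ * g⁻¹⁻¹ * (x : Ω) * g⁻¹ := by
        rw [Subgroup.coe_mul, Subgroup.coe_inv, hgα]; group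
      rw [e]
      exact hcl x (hPS x.2) g⁻¹ (S.inv_mem hg)
  obtain ⟨-, R, hR⟩ :=
    (Cfsg.Agent.Lib.helper88.fullyAutomized_receptive_of_fullyNormalized hS F hF hPfn).1
  have hK'p : IsPGroup 2
      ((stabilizerOfPairs (F.autGroup P) Cs hinv).subgroupOf (F.autGroup P)) :=
    hKp.comap_subtype
  have hRle : (R : Subgroup (F.autGroup P)) ≤
      (stabilizerOfPairs (F.autGroup P) Cs hinv).subgroupOf (F.autGroup P) := by
    rw [hR]
    intro x hx
    exact Subgroup.mem_subgroupOf.mpr (hle (Subgroup.mem_subgroupOf.mp hx))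
  have hEq := R.is_maximal' hK'p hRle
  refine ⟨R, ?_⟩
  rw [← hEq]
  refine ⟨fun n hn g => ?_⟩
  rw [Subgroup.mem_subgroupOf] at hn ⊢
  exact stabilizerOfPairs_conj_mem (F.autGroup P) Cs hinv g.1 g.2 n.1 hn

end Cfsg.Agent.S5214
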