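import Cfsg.Statements.S5220
import Cfsg.Agent.S5090
import Cfsg.Agent.Lib.helper86.GenFusion
import Cfsg.Agent.Lib.helper86.QuadJ

set_option autoImplicit false
open Cfsg

namespace Cfsg.Agent.S5220

/-- Let F be a saturated fusion system over a nontrivial finite p-group S, let J(S) be the subgroup generated by the abelian subgroups of S of largest order, and let V be the subgroup generated by the p-th powers of the elements of Z(S). Then F is generated by the centralizer fusion system of V and the normalizer fusion system of J(S): every fusion system over S containing the maps of both contains every map of F. -/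
theorem result {Ω : Type*} [Group Ω] {S : Subgroup Ω} [Finite S] (p : ℕ) [Fact p.Prime] (hS : IsPGroup p S) (F : Cfsg.FusionSystem S) (hF : F.IsSaturated p) (hS1 : S ≠ ⊥) (C : Cfsg.FusionSystem (Cfsg.FusionSystem.centralizerIn S (Cfsg.powerClosure p 1 (S ⊓ Subgroup.centralizer (S : Set Ω))))) (hC : F.IsCentralizerSystem (Cfsg.powerClosure p 1 (S ⊓ Subgroup.centralizer (S : Set Ω))) C) (N : Cfsg.FusionSystem (Cfsg.FusionSystem.normalizerIn S (Cfsg.thompsonSubgroupAOf S))) (hN : F.IsNormalizerSystem (Cfsg.thompsonSubgroupAOf S) N) (E : Cfsg.FusionSystem S) (hCE : C.IsSubsystemOf E) (hNE : N.IsSubsystemOf E) : F.IsSubsystemOf E := by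
  classical
  have hV : Cfsg.powerClosure p 1 (S ⊓ Subgroup.centralizer (S : Set Ω)) =
      Cfsg.Agent.Lib.helper90.powCenter p S := by
    unfold Cfsg.powerClosure Cfsg.Agent.Lib.helper90.powCenter
    congr 1
    ext y
    constructor
    · rintro ⟨x, hx, rfl⟩
      exact ⟨x, hx, by rw [pow_one]⟩
    · rintro ⟨x, hx, rfl⟩
      exact ⟨x, hx, by rw [pow_one]⟩
  have h3 : Cfsg.Agent.Lib.helper86.StableHyp Cfsg.Agent.Lib.helper90.funJ :=
    fun X _ T R _ h1 h2 => Cfsg.Agent.Lib.helper86.thompsonA_eq_of_le h1 h2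
  have h4 : Cfsg.Agent.Lib.helper86.SelfCentHyp Cfsg.Agent.Lib.helper90.funJ :=
    fun X _ T _ => Cfsg.Agent.Lib.helper86.inf_centralizer_thompsonA_le T
  have hW := Cfsg.Agent.Lib.helper90.isCharPFunctor_funJ p
  have hVZ : Cfsg.Agent.Lib.helper90.powCenter p S ≤ S ⊓ Subgroup.centralizer (S : Set Ω) :=
    Cfsg.Agent.Lib.helper90.powCenter_le S
  intro P
  refine Cfsg.Agent.Lib.helper86.hom_subset_of_gen
    (fun hS' F' hF' => Cfsg.Agent.S5090.result p hS' F' hF') hW
    (Cfsg.Agent.Lib.helper86.quadHyp_funJ p) h3 h4 E _ _ S rfl hS le_rfl F hF rfl ?_ ?_ P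
  · intro D φ hφ hVD hfix
    apply hCE D
    rw [hC D, hV]
    have hDS : D ≤ S := (F.le_of_mem hφ).1
    have hcen : S ≤ Cfsg.FusionSystem.centralizerIn S (Cfsg.Agent.Lib.helper90.powCenter p S) := by
      intro s hs
      refine ⟨hs, ?_⟩
      show s ∈ Subgroup.centralizer ((Cfsg.Agent.Lib.helper90.powCenter p S : Subgroup Ω) : Set Ω)
      rw [Subgroup.mem_centralizer_iff]
      intro v hv
      exact ((Subgroup.mem_centralizer_iff.mp (hVZ hv).2) s hs).symm
    have hle : D ⊔ Cfsg.Agent.Lib.helper90.powCenter p S ≤ D := sup_le le_rfl hVD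
    refine ⟨hφ, hDS.trans hcen, fun x => hcen ((F.le_of_mem hφ).2 x),
      φ.comp (Subgroup.inclusion hle), Cfsg.Agent.Lib.helper88.restrict_mem F hle hφ,
      fun x => rfl, fun x => ?_⟩
    exact hfix x x.2 _
  · intro D φ hφ hJD hmap
    apply hNE D
    rw [hN D, Cfsg.Agent.Lib.helper89.mem_normalizerHom_iff]
    have hDS : D ≤ S := (F.le_of_mem hφ).1
    have hnor : S ≤ Cfsg.FusionSystem.normalizerIn S (Cfsg.thompsonSubgroupAOf S) := by
      intro s hs
      exact ⟨hs, Cfsg.Agent.Lib.helper90.mem_normalizer_ind hW hS (Subgroup.le_normalizer hs)⟩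
    exact ⟨hφ, hDS.trans hnor, fun x => hnor ((F.le_of_mem hφ).2 x), D, φ, hφ, le_rfl, hJD,
      fun _ _ _ => rfl, hmap⟩

end Cfsg.Agent.S5220
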