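import Cfsg.Statements.S5221
-- import your own Cfsg.Agent.* helpers here
import Cfsg.Agent.S5195
import Cfsg.Agent.Lib.helper90.NormSys
import Cfsg.Agent.Lib.helper87.QdFree1
import Cfsg.Agent.Lib.helper86.NormalCrit
import Cfsg.Agent.Lib.helper89.FusionClosed
import Cfsg.Agent.Lib.helper89.FusionSat
import Cfsg.Agent.Lib.helper88.GT1
import Cfsg.Agent.Lib.helper88.Saturated2

set_option autoImplicit false
open Cfsg

namespace Cfsg.Agent.S5221

open Cfsg.FusionSystem Cfsg.Agent.Lib.helper88 Cfsg.Agent.Lib.helper89 Cfsg.Agent.Lib.helper90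

/-- Normality in the system only depends on the sets of maps. -/
theorem isNormal_congr {Ω : Type*} [Group Ω] {S : Subgroup Ω} {F E : Cfsg.FusionSystem S}
    (h : ∀ P : Subgroup Ω, E.Hom P = F.Hom P) {Q : Subgroup Ω} (hQ : E.IsNormal Q) :
    F.IsNormal Q := by
  obtain ⟨hQS, hext⟩ := hQ
  refine ⟨hQS, fun P φ hφ => ?_⟩
  rw [← h P] at hφ
  obtain ⟨ψ, hψ, h1, h2⟩ := hext P φ hφ
  refine ⟨ψ, ?_, h1, h2⟩
  rw [← h]
  exact hψ

/-- An automorphism that is a map of the inner system has `p`-power order. -/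
theorem pow_eq_one_of_inner {Ω : Type*} [Group Ω] {S : Subgroup Ω} {p : ℕ} (hS : IsPGroup p S)
    {R : Subgroup Ω} (α : MulAut R)
    (h : R.subtype.comp α.toMonoidHom ∈ (Cfsg.innerFusionSystem S).Hom R) :
    ∃ k : ℕ, α ^ (p ^ k) = 1 := by
  obtain ⟨-, g, hg, hx⟩ := h
  obtain ⟨k, hgk⟩ := hS ⟨g, hg⟩
  have hgk' : g ^ (p ^ k) = 1 := congrArg Subtype.val hgk
  refine ⟨k, ?_⟩
  apply pow_eq_one_of_semiconj_inj R.subtype R.subtype_injective α (MulAut.conj g)
  · intro x
    exact hx x
  · rw [← map_pow, hgk', map_one]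


/-- Let F be a sparse fusion system over a finite p-group S: a saturated fusion system, not the inner fusion system of S, whose only saturated fusion systems over S contained in it are F itself and the inner one. If p is odd, or F is S₄-free (the symmetric group of degree 4 is not involved in any model of the normalizer system of a fully normalized F-centric subgroup), then F is constrained. -/
theorem result {Ω : Type*} [Group Ω] {S : Subgroup Ω} [Finite S] (p : ℕ) [Fact p.Prime] (hS : IsPGroup p S) (F : Cfsg.FusionSystem S) (hF : F.IsSaturated p) (hsp : ¬ (∀ P : Subgroup Ω, F.Hom P = (Cfsg.innerFusionSystem S).Hom P) ∧ ∀ E : Cfsg.FusionSystem S, E.IsSaturated p → E.IsSubsystemOf F → (∀ P : Subgroup Ω, E.Hom P = F.Hom P) ∨ (∀ P : Subgroup Ω, E.Hom P = (Cfsg.innerFusionSystem S).Hom P)) (hp : p ≠ 2 ∨ F.IsSectionFree p (Equiv.Perm (Fin 4))) : F.IsConstrained p := by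
  classical
  obtain ⟨hni, hsparse⟩ := hsp
  -- a nontrivial characteristic subgroup whose automizer is not a `p`-group
  have h1 : ∃ U : Subgroup Ω, U ≤ S ∧ U ≠ ⊥ ∧ (U.subgroupOf S).Characteristic ∧
      ¬ IsPGroup p (F.autGroup U) := by
    by_contra hcon
    push Not at hcon
    exact hni (Cfsg.Agent.S5195.result p hS F hF hp (fun Q hQS hQ1 hQc => hcon Q hQS hQ1 hQc))
  obtain ⟨U, hUS, hU1, hUchar, hUnp⟩ := h1
  have hUnorm : (U.subgroupOf S).Normal := Subgroup.normal_of_characteristic _
  have hUn : S ≤ Subgroup.normalizer (U : Set Ω) :=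
    (Subgroup.normal_subgroupOf_iff_le_normalizer hUS).mp hUnorm
  -- `U` is normal in `F`
  have hUF : F.IsNormal U := by
    rcases hsparse (normSys F U hUS hUn) (normSys_saturated hS F hF U hUS hUn)
      (fun P => normSys_le F U hUS hUn P) with h | h
    · exact isNormal_congr h (normSys_isNormal F U hUS hUn)
    · exfalso
      apply hUnp
      intro α
      have hα : U.subtype.comp (α : MulAut U).toMonoidHom ∈ F.Hom U :=
        (Cfsg.Agent.Lib.helper88.mem_autGroup_iff' F hUS α.1).mp α.2
      have hα' : U.subtype.comp (α : MulAut U).toMonoidHom ∈ (normSys F U hUS hUn).Hom U :=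
        mem_normSys_of_forall_mem F U hUS hUn hα le_rfl (fun q hq => ((α : MulAut U) ⟨q, hq⟩).2)
      rw [h U] at hα'
      obtain ⟨k, hk⟩ := pow_eq_one_of_inner hS α.1 hα'
      exact ⟨k, Subtype.ext (by rw [Subgroup.coe_pow, hk]; rfl)⟩
  -- the core
  have hQn : F.IsNormal F.core := isNormal_core F
  have hQS : F.core ≤ S := hQn.1
  have hQsc := Cfsg.Agent.Lib.helper86.stronglyClosed_of_isNormal F hQn
  have hfinQ : Finite ↥F.core := Cfsg.Agent.Lib.helper88.finite_of_le hQS
  have hQnorm : S ≤ Subgroup.normalizer (F.core : Set Ω) := by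
    intro g hg
    exact mem_normalizer_of_conj_mem (fun x hx => conj_mem_of_stronglyClosed F hQsc hg hx)
  have hUQ : U ≤ F.core := le_sSup hUF
  have hP₁S : F.core ⊔ centralizerIn S F.core ≤ S := sup_le hQS inf_le_left
  have hP₁n := normalizer_sup_centralizerIn hQnorm
  refine ⟨hF, F.core, hQn, Cfsg.Agent.Lib.helper87.isCentric_of_isNormal_of_le F hQn ?_⟩
  rcases hsparse (normSys F _ hP₁S hP₁n) (normSys_saturated hS F hF _ hP₁S hP₁n)
    (fun P => normSys_le F _ hP₁S hP₁n P) with h | h
  · have hP₁F : F.IsNormal (F.core ⊔ centralizerIn S F.core) :=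
      isNormal_congr h (normSys_isNormal F _ hP₁S hP₁n)
    exact le_sup_right.trans (le_sSup hP₁F)
  · exfalso
    apply hUnp
    -- `Aut_F(O_p(F))` is a `p`-group
    have hQp : ∀ γ : MulAut ↥F.core, γ ∈ F.autGroup F.core → ∃ k : ℕ, γ ^ (p ^ k) = 1 := by
      intro γ hγ
      have hγF : F.core.subtype.comp γ.toMonoidHom ∈ F.Hom F.core :=
        (Cfsg.Agent.Lib.helper88.mem_autGroup_iff' F hQS γ).mp hγ
      have hfn := fullyNormalized_of_normal F hQS hQnorm
      obtain ⟨-, hrec⟩ := fullyAutomized_receptive_of_fullyNormalized hS F hF hfn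
      have hrange : (F.core.subtype.comp γ.toMonoidHom).range = F.core :=
        range_eq_of_forall_mem F hγF (fun x => (γ x).2)
      obtain ⟨ψ, hψ, hψQ⟩ := exists_extension_closure F hrec hγF hrange
        ((F.core : Set Ω) ∪ (centralizerIn S F.core : Set Ω)) (by
          rintro g (hg | hg)
          · exact extender_cond_of_mem F hγF hg
          · refine ⟨hg.1, (centralizerIn_le_normalizerIn S F.core hg).2, 1, S.one_mem,
              fun x hx => ?_⟩
            have hcomm : g * (x : Ω) = (x : Ω) * g := (hg.2 x x.2).symm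
            have hx' : (⟨g * (x : Ω) * g⁻¹, hx⟩ : ↥F.core) = x := by
              apply Subtype.ext
              show g * (x : Ω) * g⁻¹ = x
              rw [hcomm]; group
            rw [hx']
            simp)
      have hN₀ : Subgroup.closure ((F.core : Set Ω) ∪ (centralizerIn S F.core : Set Ω))
          = F.core ⊔ centralizerIn S F.core := by
        rw [Subgroup.closure_union, Subgroup.closure_eq, Subgroup.closure_eq]
      have hψmem : ∀ (y : Ω)
          (hy : y ∈ Subgroup.closure ((F.core : Set Ω) ∪ (centralizerIn S F.core : Set Ω))),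
          ψ ⟨y, hy⟩ ∈ F.core ⊔ centralizerIn S F.core := by
        intro y hy
        induction hy using Subgroup.closure_induction with
        | mem y hy =>
          rcases hy with hyQ | hyC
          · rw [hψQ y hyQ _]
            exact (le_sup_left : F.core ≤ F.core ⊔ centralizerIn S F.core) (γ ⟨y, hyQ⟩).2
          · apply (le_sup_right : centralizerIn S F.core ≤ F.core ⊔ centralizerIn S F.core)
            refine ⟨range_le_of_hom F hψ ⟨_, rfl⟩, ?_⟩
            show ψ ⟨y, _⟩ ∈ Subgroup.centralizer (F.core : Set Ω)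
            rw [Subgroup.mem_centralizer_iff]
            intro q hq
            have hq' : q = ψ ⟨(γ.symm ⟨q, hq⟩ : ↥F.core),
                Subgroup.subset_closure (Or.inl (γ.symm ⟨q, hq⟩).2)⟩ := by
              rw [hψQ _ (γ.symm ⟨q, hq⟩).2 _]
              simp
            rw [hq', ← map_mul, ← map_mul]
            congr 1
            apply Subtype.ext
            exact hyC.2 _ (γ.symm ⟨q, hq⟩).2
        | one => 
          have : (⟨1, Subgroup.one_mem _⟩ : ↥(Subgroup.closure ((F.core : Set Ω) ∪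
              (centralizerIn S F.core : Set Ω)))) = 1 := rfl
          rw [this, map_one]
          exact Subgroup.one_mem _
        | mul x y hx hy ihx ihy =>
          have : (⟨x * y, Subgroup.mul_mem _ hx hy⟩ : ↥(Subgroup.closure ((F.core : Set Ω) ∪
              (centralizerIn S F.core : Set Ω)))) = ⟨x, hx⟩ * ⟨y, hy⟩ := rfl
          rw [this, map_mul]
          exact Subgroup.mul_mem _ ihx ihy
        | inv x hx ihx =>
          have : (⟨x⁻¹, Subgroup.inv_mem _ hx⟩ : ↥(Subgroup.closure ((F.core : Set Ω) ∪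
              (centralizerIn S F.core : Set Ω)))) = ⟨x, hx⟩⁻¹ := rfl
          rw [this, map_inv]
          exact Subgroup.inv_mem _ ihx
      have hle : F.core ⊔ centralizerIn S F.core ≤
          Subgroup.closure ((F.core : Set Ω) ∪ (centralizerIn S F.core : Set Ω)) := hN₀.ge
      have hψ₁ := Cfsg.Agent.Lib.helper88.restrict_mem F hle hψ
      have hψ₁N : ψ.comp (Subgroup.inclusion hle) ∈ (normSys F _ hP₁S hP₁n).Hom _ :=
        mem_normSys_of_forall_mem F _ hP₁S hP₁n hψ₁ le_rfl (fun q hq => hψmem q (hle hq))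
      rw [h _] at hψ₁N
      obtain ⟨-, g, hg, hx⟩ := hψ₁N
      apply pow_eq_one_of_inner hS γ
      refine ⟨hQS, g, hg, fun x => ?_⟩
      have h2 := hx ⟨(x : Ω), (le_sup_left : F.core ≤ F.core ⊔ centralizerIn S F.core) x.2⟩
      rw [← h2]
      exact (hψQ x x.2 _).symm
    -- hence so is `Aut_F(U)`
    intro β
    have hβF : U.subtype.comp (β : MulAut U).toMonoidHom ∈ F.Hom U :=
      (Cfsg.Agent.Lib.helper88.mem_autGroup_iff' F hUS β.1).mp β.2
    obtain ⟨R', ψ, hψ, hUR', hQR', h1, h2⟩ :=
      ((isNormal_iff_forall_normExt F F.core).mp hQn).2 U _ hβF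
    obtain ⟨γ, hγ⟩ := exists_aut_of_mem F (Cfsg.Agent.Lib.helper88.restrict_mem F hQR' hψ)
      (fun x => h2 x x.2 (hQR' x.2))
    have hγmem : γ ∈ F.autGroup F.core := by
      rw [Cfsg.Agent.Lib.helper88.mem_autGroup_iff' F hQS γ]
      have : F.core.subtype.comp γ.toMonoidHom = ψ.comp (Subgroup.inclusion hQR') := by
        ext x
        exact hγ x
      rw [this]
      exact Cfsg.Agent.Lib.helper88.restrict_mem F hQR' hψ
    obtain ⟨k, hk⟩ := hQp γ hγmem
    refine ⟨k, ?_⟩
    apply Subtype.ext
    rw [Subgroup.coe_pow]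
    refine pow_eq_one_of_semiconj_inj (Subgroup.inclusion hUQ) (Subgroup.inclusion_injective hUQ)
      β.1 γ (fun x => ?_) hk
    apply Subtype.ext
    rw [hγ]
    show ((β : MulAut U) x : Ω) = ψ ⟨(x : Ω), _⟩
    rw [h1 x x.2 (hUR' x.2)]
    rfl

end Cfsg.Agent.S5221
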