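import Cfsg.Statements.S5222
import Cfsg.Agent.Lib.helper86.TateApp
import Cfsg.Agent.S5098

set_option autoImplicit false
open Cfsg

namespace Cfsg.Agent.S5222

open Cfsg.FusionSystem Cfsg.Agent.Lib.helper86 Cfsg.Agent.Lib.helper88 Cfsg.Agent.Lib
open scoped commutatorElement

/-- Let F be a saturated fusion system over a finite p-group S whose normalizer fusion system of S is the inner fusion system of S (Aut_F(S) is a p-group). Then for every subgroup Q of S with [S, S] ≤ Q ≤ Φ(S), the normalizer fusion system of Q in F is the inner fusion system of N_S(Q) = S. -/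
theorem result {Ω : Type*} [Group Ω] {S : Subgroup Ω} [Finite S] (p : ℕ) [Fact p.Prime] (hS : IsPGroup p S) (F : Cfsg.FusionSystem S) (hF : F.IsSaturated p) (hN : ∀ N : Cfsg.FusionSystem (Cfsg.FusionSystem.normalizerIn S S), F.IsNormalizerSystem S N → ∀ P : Subgroup Ω, N.Hom P = (Cfsg.innerFusionSystem (Cfsg.FusionSystem.normalizerIn S S)).Hom P) (Q : Subgroup Ω) (h1 : (commutator ↥S).map S.subtype ≤ Q) (h2 : Q ≤ (frattini ↥S).map S.subtype) : ∀ N : Cfsg.FusionSystem (Cfsg.FusionSystem.normalizerIn S Q), F.IsNormalizerSystem Q N → ∀ P : Subgroup Ω, N.Hom P = (Cfsg.innerFusionSystem (Cfsg.FusionSystem.normalizerIn S Q)).Hom P := by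
  intro N hNQ
  have hQS : Q ≤ S := h2.trans (Subgroup.map_subtype_le _)
  haveI : Finite Q := finite_of_le hQS
  have hcommQ : ∀ x ∈ S, ∀ y ∈ S, x * y * x⁻¹ * y⁻¹ ∈ Q := by
    intro x hx y hy
    apply h1
    exact ⟨⁅(⟨x, hx⟩ : S), ⟨y, hy⟩⁆,
      Subgroup.commutator_mem_commutator (Subgroup.mem_top _) (Subgroup.mem_top _), by
        rw [commutatorElement_def]
        rfl⟩
  have hSN : S ≤ Subgroup.normalizer (Q : Set Ω) := by
    intro g hg
    apply mem_normalizer_of_conj_mem
    intro q hq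
    have h3 := Q.mul_mem (hcommQ g hg q (hQS hq)) hq
    rw [inv_mul_cancel_right] at h3
    exact h3
  have hT : normalizerIn S Q = S := le_antisymm inf_le_left (fun s hs => ⟨hs, hSN hs⟩)
  have hfn : F.IsFullyNormalized Q := ⟨hQS, fun Q' _ => by
    rw [hT]
    exact Nat.card_le_card_of_injective (Subgroup.inclusion (normalizerIn_le S Q'))
      (Subgroup.inclusion_injective _)⟩
  have hNsat := Cfsg.Agent.S5098.result p hS F hF Q hfn N hNQ
  haveI : Finite (normalizerIn S Q) := finite_of_le (normalizerIn_le S Q)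
  have hTp : IsPGroup p (normalizerIn S Q) :=
    IsPGroup.of_injective hS (Subgroup.inclusion (normalizerIn_le S Q))
      (Subgroup.inclusion_injective _)
  apply hom_eq_inner_of_focal_le_frattini hTp N hNsat
  rw [frattini_map_congr hT]
  refine le_trans ?_ h2
  apply focal_le_of_forall_aut hTp N hNsat Q
  · refine ⟨fun q hq => ⟨hQS hq, Subgroup.le_normalizer hq⟩, fun R hR φ hφ x => ?_⟩
    rw [hNQ R] at hφ
    obtain ⟨-, -, -, hext⟩ := (helper89.mem_normalizerHom_iff F Q φ).1 hφ
    obtain ⟨R', ψ, hψ, hRR', hQR', hagree, hQQ⟩ := hext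
    rw [← hagree x x.2 (hRR' x.2)]
    exact hQQ x (hR x.2) (hRR' x.2)
  · intro x hx y hy
    exact hcommQ x hx.1 y hy.1
  · intro ψ hψ s
    rw [hNQ _] at hψ
    have hψF := hψ.1
    have hST : S ≤ normalizerIn S Q := hT.ge
    have hψ₀ := restrict_mem F hST hψF
    obtain ⟨g, hg, h⟩ := exists_conj_of_normalizerSystem_inner F hN hψ₀
    have h3 := h ⟨s, s.2.1⟩
    have h4 : ψ s = g * (s : Ω) * g⁻¹ := h3
    rw [h4]
    have h5 := hcommQ (s : Ω)⁻¹ (S.inv_mem s.2.1) g hg
    simpa [mul_assoc] using h5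

end Cfsg.Agent.S5222
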