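-- Statement S5223: a saturated fusion system with a terminating chain of focal subgroups is inner.
import Cfsg.Statements.S5223
import Cfsg.Agent.Lib.helper89.FusionSat

set_option autoImplicit false
open Cfsg

namespace Cfsg.Agent.S5223

open Cfsg.Agent.Lib.helper89 Cfsg.FusionSystem

/-- Let F be a saturated fusion system over a finite p-group S. Suppose there are subgroups Q₀ = S, Q₁, …, Qₙ = 1 (not required to be nested) such that for each i < n the focal subgroup of Qᵢ (generated by the elements x⁻¹φ(x), x ∈ Qᵢ, φ a map of F defined on the cyclic group generated by x) lies in Qᵢ₊₁. Then F is the inner fusion system of S. -/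
theorem result {Ω : Type*} [Group Ω] {S : Subgroup Ω} [Finite S] (p : ℕ) [Fact p.Prime] (hS : IsPGroup p S) (F : Cfsg.FusionSystem S) (hF : F.IsSaturated p) (n : ℕ) (Q : Fin (n + 1) → Subgroup Ω) (hQ0 : Q 0 = S) (hQn : Q (Fin.last n) = ⊥) (hstep : ∀ i : Fin n, Subgroup.closure {y : Ω | ∃ x ∈ Q i.castSucc, ∃ φ ∈ F.Hom (Subgroup.zpowers x), y = x⁻¹ * φ ⟨x, Subgroup.mem_zpowers x⟩} ≤ Q i.succ) : ∀ P : Subgroup Ω, F.Hom P = (Cfsg.innerFusionSystem S).Hom P := by
  refine hom_eq_inner_of_aut_pgroups F hS hF ?_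
  intro R hRS
  have hfinR : Finite R := finite_of_le hRS
  have hRp : IsPGroup p R := hS.to_le hRS
  rintro ⟨α, hα⟩
  have hαF : R.subtype.comp α.toMonoidHom ∈ F.Hom R := (mem_autGroup_iff F hRS α).mp hα
  -- the descending chain of subgroups of `R`
  let M : Fin (n + 1) → Subgroup R := fun i => ⨅ j : Fin (n + 1), ⨅ _ : j ≤ i, (Q j).subgroupOf R
  have hMmem : ∀ (i : Fin (n + 1)) (x : R), x ∈ M i ↔ ∀ j : Fin (n + 1), j ≤ i → (x : Ω) ∈ Q j := by
    intro i x
    simp only [M, Subgroup.mem_iInf, Subgroup.mem_subgroupOf]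
  -- the key step
  have hmove : ∀ (i : Fin n) (x : R), (x : Ω) ∈ Q i.castSucc → ((x⁻¹ * α x : R) : Ω) ∈ Q i.succ := by
    intro i x hx
    apply hstep i
    apply Subgroup.subset_closure
    have hle : Subgroup.zpowers (x : Ω) ≤ R := by
      rw [Subgroup.zpowers_le]
      exact x.2
    refine ⟨(x : Ω), hx, (R.subtype.comp α.toMonoidHom).comp (Subgroup.inclusion hle),
      Cfsg.Agent.Lib.helper88.restrict_mem F hle hαF, ?_⟩
    rfl
  have hunip : ∀ i : Fin (n + 1), ∃ k : ℕ, ∀ x ∈ M i, (α ^ (p ^ k)) x = x := by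
    intro i
    refine Fin.reverseInduction ?_ ?_ i
    · refine ⟨0, fun x hx => ?_⟩
      have h1 : (x : Ω) ∈ Q (Fin.last n) := (hMmem _ x).mp hx (Fin.last n) le_rfl
      rw [hQn, Subgroup.mem_bot] at h1
      have h2 : x = 1 := Subtype.ext h1
      subst h2
      simp
    · intro i ih
      refine unip_step hRp α (M i.succ) (M i.castSucc) ?_ ih ?_
      · intro x hx
        rw [hMmem] at hx ⊢
        intro j hj
        exact hx j (hj.trans (Fin.castSucc_lt_succ (i := i)).le)
      · intro x hx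
        rw [hMmem] at hx ⊢
        intro j hj
        refine Fin.cases ?_ (fun j' hj' => ?_) j hj
        · intro _
          rw [hQ0]
          exact hRS (x⁻¹ * α x).2
        · have hj'' : j'.castSucc ≤ i.castSucc := by
            rw [Fin.castSucc_le_castSucc_iff]
            exact Fin.succ_le_succ_iff.mp hj'
          exact hmove j' x (hx _ hj'')
  obtain ⟨k, hk⟩ := hunip 0
  refine ⟨k, Subtype.ext ?_⟩
  show α ^ (p ^ k) = 1
  apply MulEquiv.ext
  intro x
  refine hk x ?_
  rw [hMmem]
  intro j hj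
  have hj0 : j = 0 := Fin.le_zero_iff.mp hj
  rw [hj0, hQ0]
  exact hRS x.2

end Cfsg.Agent.S5223
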