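import Cfsg.Statements.S5224
import Cfsg.Agent.Lib.helper86.Tate

set_option autoImplicit false
open Cfsg

namespace Cfsg.Agent.S5224

open Cfsg.FusionSystem Cfsg.Agent.Lib.helper86 Cfsg.Agent.Lib.helper88 Cfsg.Agent.Lib

/-- Tate's Theorem for fusion systems. Let F be a saturated fusion system over a finite p-group S and H a saturated fusion system over S contained in F. Then the following are equivalent: the elementary focal subgroups Φ(S)·foc agree for F and H; the focal subgroups of F and H agree; the hyperfocal subgroups of F and H agree. -/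
theorem result {Ω : Type*} [Group Ω] {S : Subgroup Ω} [Finite S] (p : ℕ) [Fact p.Prime] (hS : IsPGroup p S) (F : Cfsg.FusionSystem S) (hF : F.IsSaturated p) (H : Cfsg.FusionSystem S) (hH : H.IsSaturated p) (hHF : H.IsSubsystemOf F) : (((frattini ↥S).map S.subtype ⊔ F.focalSubgroup) = ((frattini ↥S).map S.subtype ⊔ H.focalSubgroup) ↔ F.focalSubgroup = H.focalSubgroup) ∧ (F.focalSubgroup = H.focalSubgroup ↔ F.hyperfocalSubgroup p = H.hyperfocalSubgroup p) := by
  have hle : H.hyperfocalSubgroup p ≤ F.hyperfocalSubgroup p := hyperfocal_le_of_subsystem hHF p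
  have hfle : H.focalSubgroup ≤ F.focalSubgroup := by
    unfold FusionSystem.focalSubgroup
    apply Subgroup.closure_mono
    rintro _ ⟨P, φ, x, hφ, rfl⟩
    exact ⟨P, φ, x, hHF P hφ, rfl⟩
  refine ⟨⟨fun h => ?_, fun h => by rw [h]⟩, ⟨fun h => ?_, fun h => ?_⟩⟩
  · apply le_antisymm _ hfle
    have key := focal_le_of_le_frattini_sup hS F hF (H.focalSubgroup.subgroupOf S) ?_ ?_ ?_
    · intro x hx
      have hxS := helper89.focalSubgroup_le F hx
      exact Subgroup.mem_subgroupOf.1 (key (Subgroup.mem_subgroupOf.2 hx : (⟨x, hxS⟩ : S) ∈ _))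
    · intro x hx
      apply Subgroup.mem_subgroupOf.2
      apply helper89.commutator_le_focalSubgroup H
      rw [← Subgroup.map_subtype_commutator]
      exact Subgroup.mem_map_of_mem _ hx
    · exact fun x hx => Subgroup.mem_subgroupOf.2 (hfle (Subgroup.mem_subgroupOf.1 hx))
    · intro x hx
      have h1 : (x : Ω) ∈ (frattini S).map S.subtype ⊔ H.focalSubgroup := by
        rw [← h]
        exact Subgroup.mem_sup_right (Subgroup.mem_subgroupOf.1 hx)
      rw [← Subgroup.map_subgroupOf_eq_of_le (helper89.focalSubgroup_le H),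
        ← Subgroup.map_sup] at h1
      obtain ⟨x', hx', e⟩ := h1
      have e' : x' = x := Subtype.ext e
      rw [← e']
      exact hx'
  · apply le_antisymm _ hle
    haveI : ((H.hyperfocalSubgroup p).subgroupOf S).Normal :=
      ⟨fun n hn g => Subgroup.mem_subgroupOf.2
        (Cfsg.Agent.S5124.hyp_conj_mem H p g.2 (Subgroup.mem_subgroupOf.1 hn))⟩
    have key := hyperfocal_le_of_le_sup_commutator hS F hF
      ((H.hyperfocalSubgroup p).subgroupOf S) ?_ ?_
    · intro x hx
      have hxS := helper89.hyperfocalSubgroup_le F p hx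
      exact Subgroup.mem_subgroupOf.1 (key (Subgroup.mem_subgroupOf.2 hx : (⟨x, hxS⟩ : S) ∈ _))
    · exact fun x hx => Subgroup.mem_subgroupOf.2 (hle (Subgroup.mem_subgroupOf.1 hx))
    · intro x hx
      have h1 : (x : Ω) ∈ H.hyperfocalSubgroup p ⊔ ⁅S, S⁆ := by
        rw [← helper89.focalSubgroup_eq H hS hH, ← h]
        exact helper89.hyperfocalSubgroup_le_focalSubgroup F p (Subgroup.mem_subgroupOf.1 hx)
      rw [← Subgroup.map_subgroupOf_eq_of_le (helper89.hyperfocalSubgroup_le H p),
        ← Subgroup.map_subtype_commutator, ← Subgroup.map_sup] at h1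
      obtain ⟨x', hx', e⟩ := h1
      have e' : x' = x := Subtype.ext e
      rw [← e']
      exact hx'
  · rw [helper89.focalSubgroup_eq F hS hF, helper89.focalSubgroup_eq H hS hH, h]

end Cfsg.Agent.S5224
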