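import Cfsg.Statements.S5225
-- import your own Cfsg.Agent.* helpers here
import Cfsg.Agent.Lib.helper40.YoshidaFusion

set_option autoImplicit false
open Cfsg

namespace Cfsg.Agent.S5225

/-- Yoshida's Theorem for fusion systems. Let F be a saturated fusion system over a finite p-group S and N the normalizer fusion system of S in F. If the focal subgroups of F and N differ (N does not control transfer in F), then S has a quotient isomorphic to the wreath product C_p ≀ C_p (realised as a Sylow p-subgroup of the symmetric group of degree p²). -/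
theorem result {Ω : Type*} [Group Ω] {S : Subgroup Ω} [Finite S] (p : ℕ) [Fact p.Prime] (hS : IsPGroup p S) (F : Cfsg.FusionSystem S) (hF : F.IsSaturated p) (N : Cfsg.FusionSystem (Cfsg.FusionSystem.normalizerIn S S)) (hN : F.IsNormalizerSystem S N) (hne : N.focalSubgroup ≠ F.focalSubgroup) : ∃ (W : Sylow p (Equiv.Perm (Fin (p ^ 2)))) (f : ↥S →* ↥(W : Subgroup (Equiv.Perm (Fin (p ^ 2))))), Function.Surjective f := by
  by_contra hno
  apply hne
  apply le_antisymm
  · unfold Cfsg.FusionSystem.focalSubgroup
    apply Subgroup.closure_mono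
    rintro _ ⟨P, φ, x, hφ, rfl⟩
    rw [hN P] at hφ
    exact ⟨P, φ, x, hφ.1, rfl⟩
  · apply Cfsg.Agent.Lib.helper40.fusion_focal_le hS F hF hno
    intro α hα x
    apply Subgroup.subset_closure
    refine ⟨S, α, x, ?_, rfl⟩
    rw [hN S]
    refine ⟨hα, ?_, ?_, ?_⟩
    · show S ≤ S ⊓ Subgroup.normalizer (S : Set Ω)
      exact le_inf le_rfl Subgroup.le_normalizer
    · intro y
      show α y ∈ S ⊓ Subgroup.normalizer (S : Set Ω)
      exact ⟨(F.le_of_mem hα).2 y, Subgroup.le_normalizer ((F.le_of_mem hα).2 y)⟩
    · have key : ∀ (T : Subgroup Ω) (hT : S ≤ T), S = T → ∃ ψ ∈ F.Hom T,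
          (∀ y : S, ψ (Subgroup.inclusion hT y) = α y) ∧ (S.subgroupOf T).map ψ = S := by
        intro T hT hTS
        subst hTS
        refine ⟨α, hα, fun y => rfl, ?_⟩
        rw [Subgroup.subgroupOf_self, ← MonoidHom.range_eq_map]
        apply Subgroup.eq_of_le_of_card_ge
        · rintro _ ⟨y, rfl⟩
          exact (F.le_of_mem hα).2 y
        · exact le_of_eq (Nat.card_congr
            (MonoidHom.ofInjective (F.injective_of_mem hα)).toEquiv)
      exact key (S ⊔ S) le_sup_left (sup_idem S).symm

end Cfsg.Agent.S5225
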