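import Cfsg.Statements.S5233
import Mathlib
import Cfsg.Agent.S5086
import Cfsg.Agent.Lib.helper86.NormalCrit
import Cfsg.Agent.Lib.helper86.Essential
import Cfsg.Agent.Lib.helper88.Saturated
import Cfsg.Agent.Lib.helper88.Saturated2
import Cfsg.Agent.Lib.helper88.NormalSub
import Cfsg.Agent.Lib.helper88.FusionBasic
import Cfsg.Agent.Lib.helper89.FusionClosed
import Cfsg.Agent.Lib.helper89.FusionSat
import Cfsg.Agent.Lib.helper65.GenExtraA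
import Cfsg.Agent.Lib.helper65.GenExtraB
import Cfsg.Agent.Lib.helper65.GenExtraC
import Cfsg.Agent.Lib.helper65.GenExtraF
-- import your own Cfsg.Agent.* helpers here

set_option autoImplicit false
open Cfsg

namespace Cfsg.Agent.S5233

open Cfsg.Agent.Lib.helper65
open scoped commutatorElement

/-- Let F be a saturated fusion system over a finite p-group S and P a subgroup of S strongly closed in F that is generalized extraspecial (its Frattini subgroup equals its commutator subgroup and has order p) and not isomorphic to E × A with A elementary abelian and E dihedral of order 8 (p = 2) or extraspecial of order p³ and exponent p (p odd). Then P is normal in F. -/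
theorem result {Ω : Type*} [Group Ω] {S : Subgroup Ω} [Finite S] (p : ℕ) [Fact p.Prime] (hS : IsPGroup p S) (F : Cfsg.FusionSystem S) (hF : F.IsSaturated p) (P : Subgroup Ω) (hP : F.StronglyClosed P) (hge : frattini ↥P = commutator ↥P ∧ Nat.card ↥(commutator ↥P) = p) (h2 : p = 2 → ¬ ∃ (A : Type) (_ : CommGroup A), (∀ a : A, a ^ 2 = 1) ∧ Nonempty (↥P ≃* DihedralGroup 4 × A)) (hodd : p ≠ 2 → ¬ ∃ (E : Type) (_ : Group E) (A : Type) (_ : CommGroup A), Cfsg.IsExtraspecial p E ∧ Nat.card E = p ^ 3 ∧ Monoid.exponent E = p ∧ (∀ a : A, a ^ p = 1) ∧ Nonempty (↥P ≃* E × A)) : F.IsNormal P := by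
  classical
  rw [Cfsg.Agent.S5086.result p hS F hF P]
  refine ⟨hP, ?_⟩
  intro R hcen hrad
  by_contra hPR
  have hpP : p.Prime := Fact.out
  have hPS : P ≤ S := hP.1
  have hRS : R ≤ S := hcen.1
  have hfinP : Finite ↥P :=
    Finite.of_injective (Subgroup.inclusion hPS) (Subgroup.inclusion_injective hPS)
  have hPp : IsPGroup p ↥P := hS.to_le hPS
  have hfinR : Finite ↥R :=
    Finite.of_injective (Subgroup.inclusion hRS) (Subgroup.inclusion_injective hRS)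
  have hRp : IsPGroup p ↥R := hS.to_le hRS
  -- the commutator subgroup as a subgroup of `Ω`
  obtain ⟨Z₀, hZ₀def⟩ : ∃ Z₀ : Subgroup Ω, Z₀ = (commutator ↥P).map P.subtype := ⟨_, rfl⟩
  have hZmem : ∀ q : ↥P, (q : Ω) ∈ Z₀ ↔ q ∈ commutator ↥P := by
    intro q
    rw [hZ₀def]
    constructor
    · rintro ⟨w, hw, hwq⟩
      have e : w = q := Subtype.ext hwq
      rw [← e]; exact hw
    · intro h
      exact ⟨q, h, rfl⟩
  have hZP : Z₀ ≤ P := by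
    rw [hZ₀def]
    rintro _ ⟨w, -, rfl⟩
    exact w.2
  have hZcard : Nat.card Z₀ = p := by
    rw [hZ₀def, Subgroup.card_map_of_injective (Subgroup.subtype_injective P)]
    exact hge.2
  have hcommZ : ∀ a ∈ P, ∀ b ∈ P, a * b * a⁻¹ * b⁻¹ ∈ Z₀ := by
    intro a ha b hb
    have h1 : ⁅(⟨a, ha⟩ : ↥P), ⟨b, hb⟩⁆ ∈ commutator ↥P := by
      rw [commutator_def]
      exact Subgroup.commutator_mem_commutator (Subgroup.mem_top _) (Subgroup.mem_top _)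
    exact (hZmem _).mpr h1
  have hpowZ : ∀ a ∈ P, a ^ p ∈ Z₀ := by
    intro a ha
    have h1 : (⟨a, ha⟩ : ↥P) ^ p ∈ commutator ↥P := by
      rw [← hge.1]
      exact Cfsg.Agent.Lib.helper3.pow_prime_mem_frattini hPp _
    exact (hZmem _).mpr h1
  have hnormZ : ∀ s ∈ S, ∀ z ∈ Z₀, s * z * s⁻¹ ∈ Z₀ := by
    intro s hs z hz
    have hsN : s ∈ Subgroup.normalizer (P : Set Ω) :=
      Cfsg.Agent.Lib.helper88.mem_normalizer_of_conj_mem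
        (fun x hx => Cfsg.Agent.Lib.helper89.conj_mem_of_stronglyClosed F hP hs hx)
    have hzP := hZP hz
    have h1 : (⟨z, hzP⟩ : ↥P) ∈ commutator ↥P := (hZmem ⟨z, hzP⟩).mp hz
    have hchar : (commutator ↥P).Characteristic := inferInstance
    have h3 := Subgroup.characteristic_iff_map_eq.mp hchar
      (Cfsg.Agent.Lib.helper88.conjAut P s hsN)
    have h4 : Cfsg.Agent.Lib.helper88.conjAut P s hsN ⟨z, hzP⟩ ∈ commutator ↥P := by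
      rw [← h3]
      exact Subgroup.mem_map_of_mem _ h1
    exact (hZmem _).mpr h4
  have hZcP : ∀ z ∈ Z₀, ∀ q ∈ P, q * z = z * q := by
    intro z hz q hq
    have h1 := commutator_le_center_of_card_prime' hPp hge.2 ((hZmem ⟨z, hZP hz⟩).mp hz)
    exact congrArg Subtype.val (Subgroup.mem_center_iff.mp h1 ⟨q, hq⟩)
  have C : GECtx p F P Z₀ := ⟨hP, hZP, hZcard, hcommZ, hpowZ, hnormZ⟩
  -- an element of `P` normalising `R`, outside `R`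
  obtain ⟨g, hgP, hgN, hgR⟩ := Cfsg.Agent.Lib.helper89.exists_normalizing_not_mem hS hPS hRS
    (fun g hg t ht => Cfsg.Agent.Lib.helper89.conj_mem_of_stronglyClosed F hP hg ht) hPR
  have hgS : g ∈ S := hPS hgP
  obtain ⟨c, hcdef⟩ : ∃ c : MulAut ↥R, c = Cfsg.Agent.Lib.helper88.conjAut R g hgN := ⟨_, rfl⟩
  have hcapp : ∀ x : ↥R, ((c x : ↥R) : Ω) = g * (x : Ω) * g⁻¹ := by
    intro x; rw [hcdef]; rfl
  have hcΓ : c ∈ F.autGroup R := by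
    rw [hcdef]
    exact Cfsg.Agent.Lib.helper88.autInducedBy_le_autGroup F hRS
      (Cfsg.Agent.Lib.helper88.conjAut_mem S R g hgN hgS)
  obtain ⟨X, hXdef⟩ : ∃ X : Subgroup ↥R, X = P.subgroupOf R := ⟨_, rfl⟩
  have hXmem : ∀ x : ↥R, x ∈ X ↔ (x : Ω) ∈ P := by
    intro x; rw [hXdef]; exact Subgroup.mem_subgroupOf
  obtain ⟨Y₀, hY₀def⟩ : ∃ Y₀ : Subgroup ↥R, Y₀ = Z₀.subgroupOf R := ⟨_, rfl⟩
  have hY₀mem : ∀ x : ↥R, x ∈ Y₀ ↔ (x : Ω) ∈ Z₀ := by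
    intro x; rw [hY₀def]; exact Subgroup.mem_subgroupOf
  have hcX : ∀ e : ↥R, c e * e⁻¹ ∈ X := by
    intro e
    rw [hXmem]
    show ((c e : ↥R) : Ω) * ((e : Ω))⁻¹ ∈ P
    rw [hcapp]
    have h1 : (e : Ω) * g⁻¹ * (e : Ω)⁻¹ ∈ P :=
      Cfsg.Agent.Lib.helper89.conj_mem_of_stronglyClosed F hP (hRS e.2) (P.inv_mem hgP)
    have h2 : g * (e : Ω) * g⁻¹ * (e : Ω)⁻¹ = g * ((e : Ω) * g⁻¹ * (e : Ω)⁻¹) := by group
    rw [h2]; exact P.mul_mem hgP h1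
  have hc2 : ∀ x ∈ X, c x * x⁻¹ ∈ Y₀ := by
    intro x hx
    rw [hY₀mem]
    show ((c x : ↥R) : Ω) * ((x : Ω))⁻¹ ∈ Z₀
    rw [hcapp]
    exact hcommZ g hgP x ((hXmem x).mp hx)
  have hc3 : ∀ y ∈ Y₀, c y = y := by
    intro y hy
    apply Subtype.ext
    rw [hcapp, hZcP _ ((hY₀mem y).mp hy) g hgP, mul_inv_cancel_right]
  have hΓX : ∀ γ ∈ F.autGroup R, ∀ x ∈ X, γ x ∈ X := by
    intro γ hγ x hx
    rw [hXmem] at hx ⊢
    exact Cfsg.Agent.Lib.helper89.aut_mem_of_stronglyClosed F hP hRS hγ x hx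
  have hradc : ∀ D : Subgroup (MulAut ↥R), D ≤ F.autGroup R →
      (∀ a ∈ F.autGroup R, ∀ d ∈ D, a * d * a⁻¹ ∈ D) → IsPGroup p D → c ∉ D := by
    intro D hDΓ hDn hDp hcD
    have hDI : D ≤ Cfsg.Inn ↥R := Cfsg.Agent.Lib.helper86.le_inn_of_radical F hrad D hDΓ hDn hDp
    exact Cfsg.Agent.Lib.helper86.not_mem_inn_of_centric F hcen hgS hgR hcapp (hDI hcD)
  have hninv : ¬ (∀ γ ∈ F.autGroup R, ∀ y ∈ Y₀, γ y ∈ Y₀) := by
    intro hΓY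
    obtain ⟨D, hDΓ, hDn, hDp, hcD⟩ :=
      chain3_pgroup hRp X Y₀ (F.autGroup R) hΓX hΓY c hcΓ hcX hc2 hc3
    exact hradc D hDΓ hDn hDp hcD
  push Not at hninv
  obtain ⟨γ₀, hγ₀, y₀, hy₀, hγy₀⟩ := hninv
  obtain ⟨z₁', hz₁'⟩ : ∃ z : ↥R, z = γ₀ y₀ := ⟨_, rfl⟩
  have hz₁P : (z₁' : Ω) ∈ P := by
    rw [hz₁']
    exact Cfsg.Agent.Lib.helper89.aut_mem_of_stronglyClosed F hP hRS hγ₀ y₀
      (hZP ((hY₀mem y₀).mp hy₀))
  have hz₁Z : (z₁' : Ω) ∉ Z₀ := by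
    rw [hz₁']
    exact fun h => hγy₀ ((hY₀mem _).mpr h)
  have hγz : ((γ₀⁻¹ z₁' : ↥R) : Ω) ∈ Z₀ := by
    rw [hz₁', MulAut.inv_apply_self]
    exact (hY₀mem y₀).mp hy₀
  obtain ⟨ψ, hψ, hψz, hab, hex⟩ := C.LB hS hF hRS γ₀⁻¹ ((F.autGroup R).inv_mem hγ₀) z₁' hz₁P hz₁Z hγz
  have D : GEData p ↥P ⟨(z₁' : Ω), hz₁P⟩ :=
    { pgroup := hPp
      fratt := hge.1
      card := hge.2
      ab := fun a b ha hb => Subtype.ext
        (hab a a.2 b b.2 (congrArg Subtype.val ha) (congrArg Subtype.val hb))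
      ex := fun a ha => Subtype.ext (hex a a.2 (congrArg Subtype.val ha))
      nz := fun h => hz₁Z ((hZmem _).mpr h) }
  by_cases hp2 : p = 2
  · subst hp2
    exact h2 rfl D.two
  by_cases hexpP : ∀ q : ↥P, q ^ p = 1
  · exact hodd hp2 (D.odd hexpP)
  push Not at hexpP
  obtain ⟨g₁', hg₁'⟩ := hexpP
  obtain ⟨g₁, hg₁def⟩ : ∃ g₁ : Ω, g₁ = (g₁' : Ω) := ⟨_, rfl⟩
  have hg₁P : g₁ ∈ P := by rw [hg₁def]; exact g₁'.2
  have hg₁S : g₁ ∈ S := hPS hg₁P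
  have hg₁p : g₁ ^ p ≠ 1 := by
    rw [hg₁def]
    intro h
    exact hg₁' (Subtype.ext h)
  have hpm : ∀ a ∈ P, ∀ b ∈ P, (a * b) ^ p = a ^ p * b ^ p := fun a ha b hb =>
    congrArg Subtype.val (D.mul_pow_prime hp2 ⟨a, ha⟩ ⟨b, hb⟩)
  have hcz : ∀ a ∈ P, a ^ p = 1 → a * (z₁' : Ω) = (z₁' : Ω) * a := fun a ha h =>
    congrArg Subtype.val (D.comm_of_pow_eq_one hp2 g₁' hg₁' ⟨a, ha⟩ (Subtype.ext h))
  obtain ⟨Y, hYdef⟩ : ∃ Y : Subgroup Ω, Y =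
      { carrier := {q | q ∈ P ∧ q ^ p = 1}
        one_mem' := ⟨P.one_mem, one_pow p⟩
        mul_mem' := fun {a b} ha hb => ⟨P.mul_mem ha.1 hb.1, by
          rw [hpm a ha.1 b hb.1, ha.2, hb.2, one_mul]⟩
        inv_mem' := fun {a} ha => ⟨P.inv_mem ha.1, by rw [inv_pow, ha.2, inv_one]⟩ } := ⟨_, rfl⟩
  have hYmem : ∀ q : Ω, q ∈ Y ↔ q ∈ P ∧ q ^ p = 1 := by
    intro q; rw [hYdef]; exact Iff.rfl
  have hYP : Y ≤ P := fun q hq => ((hYmem q).mp hq).1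
  have hYS : Y ≤ S := hYP.trans hPS
  have hYp : ∀ y ∈ Y, y ^ p = 1 := fun y hy => ((hYmem y).mp hy).2
  have hYab : ∀ a ∈ Y, ∀ b ∈ Y, a * b = b * a := fun a ha b hb =>
    hab a (hYP ha) b (hYP hb) (hcz a (hYP ha) (hYp a ha)) (hcz b (hYP hb) (hYp b hb))
  have hZY : Z₀ ≤ Y := fun z hz =>
    (hYmem z).mpr ⟨hZP hz, pow_eq_one_of_card_prime Z₀ hZcard hz⟩
  have hfinY : Finite ↥Y :=
    Finite.of_injective (Subgroup.inclusion hYS) (Subgroup.inclusion_injective hYS)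
  have hSY : ∀ s ∈ S, ∀ y ∈ Y, s * y * s⁻¹ ∈ Y := by
    intro s hs y hy
    refine (hYmem _).mpr
      ⟨Cfsg.Agent.Lib.helper89.conj_mem_of_stronglyClosed F hP hs (hYP hy), ?_⟩
    rw [conj_pow, hYp y hy, mul_one, mul_inv_cancel]
  have hg₁N : g₁ ∈ Subgroup.normalizer (Y : Set Ω) :=
    Cfsg.Agent.Lib.helper88.mem_normalizer_of_conj_mem (hSY g₁ hg₁S)
  have hfn : F.IsFullyNormalized Y := fullyNormalized_of_normal' F hYS
    (fun s hs => Cfsg.Agent.Lib.helper88.mem_normalizer_of_conj_mem (hSY s hs))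
  obtain ⟨hfa, hrec⟩ :=
    Cfsg.Agent.Lib.helper88.fullyAutomized_receptive_of_fullyNormalized hS F hF hfn
  have hgen : ∀ x ∈ P, ∃ k : ℕ, ∃ y ∈ Y, x = g₁ ^ k * y := by
    intro x hx
    have hh : g₁' * (⟨(z₁' : Ω), hz₁P⟩ : ↥P) ≠ ⟨(z₁' : Ω), hz₁P⟩ * g₁' :=
      fun e => hg₁' (D.ex g₁' e)
    obtain ⟨k, y, hy, hxy⟩ := D.exists_decomp ⟨(z₁' : Ω), hz₁P⟩ g₁' hh ⟨x, hx⟩
    refine ⟨k, (y : Ω), (hYmem _).mpr ⟨y.2, congrArg Subtype.val (D.ex y hy)⟩, ?_⟩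
    rw [hg₁def]
    exact congrArg Subtype.val hxy
  have hωZ : g₁ ^ p ∈ Z₀ := hpowZ g₁ hg₁P
  have hωY : g₁ ^ p ∈ Y := hZY hωZ
  obtain ⟨ω', hω'⟩ : ∃ ω' : ↥Y, ω' = ⟨g₁ ^ p, hωY⟩ := ⟨_, rfl⟩
  have hω'c : (ω' : Ω) = g₁ ^ p := by rw [hω']
  obtain ⟨t, htdef⟩ : ∃ t : MulAut ↥Y, t = Cfsg.Agent.Lib.helper88.conjAut Y g₁ hg₁N :=
    ⟨_, rfl⟩
  have htapp : ∀ x : ↥Y, ((t x : ↥Y) : Ω) = g₁ * (x : Ω) * g₁⁻¹ := by
    intro x; rw [htdef]; rfl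
  have htΓ : t ∈ F.autGroup Y := by
    rw [htdef]
    exact Cfsg.Agent.Lib.helper88.autInducedBy_le_autGroup F hYS
      (Cfsg.Agent.Lib.helper88.conjAut_mem S Y g₁ hg₁N hg₁S)
  -- the automorphism `θ` of `Y` moving `z₁` into `Z₀`
  have hYK : Y ≤ P ⊓ Subgroup.centralizer {(z₁' : Ω)} := by
    intro y hy
    exact Subgroup.mem_inf.mpr ⟨hYP hy,
      Subgroup.mem_centralizer_singleton_iff.mpr (hcz y (hYP hy) (hYp y hy))⟩
  have haF : ψ.comp (Subgroup.inclusion hYK) ∈ F.Hom Y :=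
    Cfsg.Agent.Lib.helper88.restrict_mem F hYK hψ
  have haY : ∀ y : ↥Y, (ψ.comp (Subgroup.inclusion hYK)) y ∈ Y := by
    intro y
    refine (hYmem _).mpr ⟨hP.2 Y hYP _ haF y, ?_⟩
    rw [← map_pow]
    have e : y ^ p = 1 := Subtype.ext (hYp y y.2)
    rw [e, map_one]
  obtain ⟨θ, hθ⟩ := Cfsg.Agent.Lib.helper89.exists_aut_of_mem F haF haY
  have hθΓ : θ ∈ F.autGroup Y := by
    rw [Cfsg.Agent.Lib.helper88.mem_autGroup_iff' F hYS]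
    have e : Y.subtype.comp θ.toMonoidHom = ψ.comp (Subgroup.inclusion hYK) := by
      ext x; exact hθ x
    rw [e]; exact haF
  have hz₁Y : (z₁' : Ω) ∈ Y := (hYmem _).mpr ⟨hz₁P, hex _ hz₁P rfl⟩
  have hθz₁ : ((θ ⟨(z₁' : Ω), hz₁Y⟩ : ↥Y) : Ω) ∈ Z₀ := by
    rw [hθ]
    have e : (ψ.comp (Subgroup.inclusion hYK)) ⟨(z₁' : Ω), hz₁Y⟩ =
        ψ ⟨(z₁' : Ω), hYK hz₁Y⟩ := rfl
    rw [e, hψz]
    exact hγz
  have hi : ((θ ω' : ↥Y) : Ω) ∉ Z₀ := by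
    intro h
    have h1 : ((θ ω' : ↥Y) : Ω) ≠ 1 := by
      intro h0
      have h00 : θ ω' = 1 := Subtype.ext h0
      have h01 : ω' = 1 := (MulEquiv.map_eq_one_iff θ).mp h00
      apply hg₁p
      rw [← hω'c, h01]; rfl
    obtain ⟨k, hk⟩ := exists_pow_eq_of_card_prime Z₀ hZcard h h1 hθz₁
    have h3 : θ (ω' ^ k) = θ ⟨(z₁' : Ω), hz₁Y⟩ := by
      apply Subtype.ext
      rw [map_pow]
      exact hk
    have h4 := θ.injective h3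
    have h5 : (g₁ ^ p) ^ k = (z₁' : Ω) := by
      have h6 := congrArg Subtype.val h4
      rw [← hω'c]; exact h6
    exact hz₁Z (h5 ▸ Z₀.pow_mem hωZ k)
  have hii : ((θ⁻¹ ω' : ↥Y) : Ω) ∉ Z₀ := by
    intro h
    obtain ⟨k, hk⟩ := exists_pow_eq_of_card_prime Z₀ hZcard hωZ hg₁p hθz₁
    have h3 : ω' ^ k = θ ⟨(z₁' : Ω), hz₁Y⟩ := by
      apply Subtype.ext
      show (ω' : Ω) ^ k = _
      rw [hω'c]; exact hk
    have h4 : (θ⁻¹ ω') ^ k = ⟨(z₁' : Ω), hz₁Y⟩ := by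
      rw [← map_pow, h3, MulAut.inv_apply_self]
    have h5 : ((θ⁻¹ ω' : ↥Y) : Ω) ^ k = (z₁' : Ω) := congrArg Subtype.val h4
    exact hz₁Z (h5 ▸ Z₀.pow_mem h k)
  obtain ⟨ω₁, hω₁⟩ : ∃ ω₁ : ↥Y, ω₁ = θ⁻¹ ω' := ⟨_, rfl⟩
  obtain ⟨ω₂, hω₂⟩ : ∃ ω₂ : ↥Y, ω₂ = θ ω' := ⟨_, rfl⟩
  have hθω₁ : θ ω₁ = ω' := by rw [hω₁, MulAut.apply_inv_self]
  have hθω₂ : θ⁻¹ ω₂ = ω' := by rw [hω₂, MulAut.inv_apply_self]
  obtain ⟨-, -, -, -, hex₁⟩ := C.LB hS hF hYS θ hθΓ ω₁ (hYP ω₁.2) (by rw [hω₁]; exact hii)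
    (by rw [hθω₁, hω'c]; exact hωZ)
  obtain ⟨-, -, -, -, hex₂⟩ := C.LB hS hF hYS θ⁻¹ ((F.autGroup Y).inv_mem hθΓ) ω₂ (hYP ω₂.2)
    (by rw [hω₂]; exact hi) (by rw [hθω₂, hω'c]; exact hωZ)
  have hnc₁ : g₁ * (ω₁ : Ω) ≠ (ω₁ : Ω) * g₁ := fun e => hg₁p (hex₁ g₁ hg₁P e)
  have hnc₂ : g₁ * (ω₂ : Ω) ≠ (ω₂ : Ω) * g₁ := fun e => hg₁p (hex₂ g₁ hg₁P e)
  have hVcomm : ∀ a b : ↥Y, a * b = b * a := fun a b => Subtype.ext (hYab a a.2 b b.2)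
  have hVexp : ∀ a : ↥Y, a ^ p = 1 := fun a => Subtype.ext (hYp a a.2)
  have ht : ∀ x : ↥Y, ∃ k : ℕ, t x = x * ω' ^ k := by
    intro x
    obtain ⟨k, hk⟩ := exists_pow_eq_of_card_prime Z₀ hZcard hωZ hg₁p
      (hcommZ g₁ hg₁P x (hYP x.2))
    refine ⟨k, ?_⟩
    rw [hVcomm x (ω' ^ k)]
    apply Subtype.ext
    rw [htapp]
    show g₁ * (x : Ω) * g₁⁻¹ = (ω' : Ω) ^ k * x
    rw [hω'c, hk]; group
  have htω : t ω' = ω' := by
    apply Subtype.ext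
    rw [htapp, hω'c]; group
  obtain ⟨α, hα⟩ := ht ω₁
  have hα1 : ω' ^ α ≠ 1 := by
    intro h
    rw [h, mul_one] at hα
    apply hnc₁
    have h1 := congrArg Subtype.val hα
    rw [htapp] at h1
    exact mul_inv_eq_iff_eq_mul.mp h1
  obtain ⟨s, hsdef⟩ : ∃ s : MulAut ↥Y, s = θ⁻¹ * t * θ := ⟨_, rfl⟩
  have hsω₁ : s ω₁ = ω₁ := by
    rw [hsdef, MulAut.mul_apply, MulAut.mul_apply, hθω₁, htω, ← hω₁]
  obtain ⟨β, hβ⟩ := ht ω₂
  have hsω : s ω' = ω' * ω₁ ^ β := by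
    rw [hsdef, MulAut.mul_apply, MulAut.mul_apply, ← hω₂, hβ, map_mul, map_pow, hθω₂, ← hω₁]
  have hβ1 : ω₁ ^ β ≠ 1 := by
    intro h
    have h1 : ω' ^ β = 1 := by
      have h0 := congrArg θ h
      rw [map_pow, hθω₁, map_one] at h0
      exact h0
    rw [h1, mul_one] at hβ
    apply hnc₂
    have h2 := congrArg Subtype.val hβ
    rw [htapp] at h2
    exact mul_inv_eq_iff_eq_mul.mp h2
  obtain ⟨ζ, hζcl, hζω, hζω₁⟩ :=
    exists_inverting hVcomm hVexp t s ω' ω₁ α β htω hα hα1 hsω₁ hsω hβ1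
  have hsΓ : s ∈ F.autGroup Y := by
    rw [hsdef]
    exact (F.autGroup Y).mul_mem ((F.autGroup Y).mul_mem ((F.autGroup Y).inv_mem hθΓ) htΓ) hθΓ
  have hζΓ : ζ ∈ F.autGroup Y := by
    have hle : Subgroup.closure ({t, s} : Set (MulAut ↥Y)) ≤ F.autGroup Y := by
      rw [Subgroup.closure_le]
      rintro x (hx | hx)
      · rw [hx]; exact htΓ
      · rw [Set.mem_singleton_iff] at hx
        rw [hx]; exact hsΓ
    exact hle hζcl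
  obtain ⟨L, hLdef⟩ : ∃ L : Subgroup ↥Y, L = Subgroup.zpowers ω' := ⟨_, rfl⟩
  have ht_fix : t ∈ fixSub L := by
    intro v hv
    rw [hLdef] at hv
    obtain ⟨k, rfl⟩ := Subgroup.mem_zpowers_iff.mp hv
    rw [map_zpow, htω]
  have ht_triv : t ∈ trivMod L := by
    intro v
    obtain ⟨k, hk⟩ := ht v
    rw [hk, hVcomm v, mul_inv_cancel_right, hLdef]
    exact Subgroup.pow_mem _ (Subgroup.mem_zpowers _) k
  have htp : t ^ p = 1 := pow_prime_eq_one_of_fix_triv hVexp L t ht_fix ht_triv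
  have hζL : ∀ v ∈ L, ζ v ∈ L := by
    intro v hv
    rw [hLdef] at hv ⊢
    obtain ⟨k, rfl⟩ := Subgroup.mem_zpowers_iff.mp hv
    rw [map_zpow, hζω]
    exact Subgroup.zpow_mem _ (Subgroup.inv_mem _ (Subgroup.mem_zpowers _)) k
  have hζinvω : ζ⁻¹ ω' = ω'⁻¹ := by
    have h1 : ζ (ω'⁻¹) = ω' := by rw [map_inv, hζω, inv_inv]
    calc ζ⁻¹ ω' = ζ⁻¹ (ζ ω'⁻¹) := by rw [h1]
      _ = ω'⁻¹ := MulAut.inv_apply_self _ _ _
  have hζinvL : ∀ v ∈ L, ζ⁻¹ v ∈ L := by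
    intro v hv
    rw [hLdef] at hv ⊢
    obtain ⟨k, rfl⟩ := Subgroup.mem_zpowers_iff.mp hv
    rw [map_zpow, hζinvω]
    exact Subgroup.zpow_mem _ (Subgroup.inv_mem _ (Subgroup.mem_zpowers _)) k
  obtain ⟨u, hudef⟩ : ∃ u : MulAut ↥Y, u = ζ * t * ζ⁻¹ := ⟨_, rfl⟩
  have hu_fix : u ∈ fixSub L := by
    rw [hudef]; exact conj_mem_fixSub L ζ t hζinvL ht_fix
  have hu_triv : u ∈ trivMod L := by
    rw [hudef]; exact conj_mem_trivMod L ζ t hζL ht_triv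
  have huΓ : u ∈ F.autGroup Y := by
    rw [hudef]
    exact (F.autGroup Y).mul_mem ((F.autGroup Y).mul_mem hζΓ htΓ) ((F.autGroup Y).inv_mem hζΓ)
  obtain ⟨H, hHdef⟩ : ∃ H : Subgroup (MulAut ↥Y),
      H = (fixSub L ⊓ trivMod L) ⊓ F.autGroup Y := ⟨_, rfl⟩
  have hHp : IsPGroup p H := by
    rintro ⟨h, hh⟩
    rw [hHdef] at hh
    have hh1 := Subgroup.mem_inf.mp (Subgroup.mem_inf.mp hh).1
    refine ⟨1, Subtype.ext ?_⟩
    show h ^ p ^ 1 = 1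
    rw [pow_one]
    exact pow_prime_eq_one_of_fix_triv hVexp L h hh1.1 hh1.2
  obtain ⟨δ, hδ, hδH⟩ := Cfsg.Agent.Lib.helper89.exists_conj_into_autS F hfa H
    (by rw [hHdef]; exact inf_le_right) hHp
  have h_t : δ * t * δ⁻¹ ∈ autInducedBy S Y := hδH t (by
    rw [hHdef]
    exact Subgroup.mem_inf.mpr ⟨Subgroup.mem_inf.mpr ⟨ht_fix, ht_triv⟩, htΓ⟩)
  have h_u : (δ * ζ) * t * (δ * ζ)⁻¹ ∈ autInducedBy S Y := by
    have e : (δ * ζ) * t * (δ * ζ)⁻¹ = δ * u * δ⁻¹ := by rw [hudef]; group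
    rw [e]
    exact hδH u (by
      rw [hHdef]
      exact Subgroup.mem_inf.mpr ⟨Subgroup.mem_inf.mpr ⟨hu_fix, hu_triv⟩, huΓ⟩)
  rw [htdef] at h_t h_u
  obtain ⟨b, hb1, hb2⟩ := C.normalizer_transvection hYP hYab hrec g₁ hg₁P hg₁N hgen hpm hYp
    hωY δ hδ h_t
  obtain ⟨b', hb1', hb2'⟩ := C.normalizer_transvection hYP hYab hrec g₁ hg₁P hg₁N hgen hpm hYp
    hωY (δ * ζ) ((F.autGroup Y).mul_mem hδ hζΓ) h_u
  rw [← htdef] at hb1 hb1'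
  have hb2c : δ ω' = ω' ^ b := by
    apply Subtype.ext
    rw [hω']; exact hb2
  have hb2c' : (δ * ζ) ω' = ω' ^ b' := by
    apply Subtype.ext
    rw [hω']; exact hb2'
  exact transvection_contra hp2 hVcomm hVexp t ζ δ ω' ω₁ α b b' htp htω hα hα1 hζω hζω₁
    hb1 hb2c hb1' hb2c'

end Cfsg.Agent.S5233
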