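import Cfsg.Statements.S5234
import Mathlib
import Cfsg.Agent.S5086
import Cfsg.Agent.Lib.helper86.NormalCrit
import Cfsg.Agent.Lib.helper86.Essential
import Cfsg.Agent.Lib.helper88.Saturated
import Cfsg.Agent.Lib.helper88.Saturated2
import Cfsg.Agent.Lib.helper88.NormalSub
import Cfsg.Agent.Lib.helper88.FusionBasic
import Cfsg.Agent.Lib.helper89.FusionClosed
import Cfsg.Agent.Lib.helper89.FusionSat
import Cfsg.Agent.Lib.helper65.RadKey
import Cfsg.Agent.Lib.helper65.MetaOmega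
-- import your own Cfsg.Agent.* helpers here

set_option autoImplicit false
open Cfsg

namespace Cfsg.Agent.S5234

open Cfsg.Agent.Lib.helper65

/-- Let p be an odd prime, F a saturated fusion system over a finite p-group S and P a metacyclic subgroup of S strongly closed in F. Then P is normal in F. -/
theorem result {Ω : Type*} [Group Ω] {S : Subgroup Ω} [Finite S] (p : ℕ) [Fact p.Prime] (hS : IsPGroup p S) (F : Cfsg.FusionSystem S) (hF : F.IsSaturated p) (P : Subgroup Ω) (hP : F.StronglyClosed P) (hp : p ≠ 2) (hm : Cfsg.IsMetacyclic ↥P) : F.IsNormal P := by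
  rw [Cfsg.Agent.S5086.result p hS F hF P]
  refine ⟨hP, ?_⟩
  intro E hcen hrad
  by_contra hPE
  have hPS : P ≤ S := hP.1
  have hES : E ≤ S := hcen.1
  obtain ⟨g, hgP, hgN, hgE⟩ := Cfsg.Agent.Lib.helper89.exists_normalizing_not_mem hS hPS hES
    (fun g hg t ht => Cfsg.Agent.Lib.helper89.conj_mem_of_stronglyClosed F hP hg ht) hPE
  have hgS : g ∈ S := hPS hgP
  have : Finite ↥E :=
    Finite.of_injective (Subgroup.inclusion hES) (Subgroup.inclusion_injective hES)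
  have hEp : IsPGroup p ↥E := hS.to_le hES
  obtain ⟨c, hcdef⟩ : ∃ c : MulAut ↥E, c = Cfsg.Agent.Lib.helper88.conjAut E g hgN := ⟨_, rfl⟩
  have hcapp : ∀ x : ↥E, ((c x : ↥E) : Ω) = g * (x : Ω) * g⁻¹ := by
    intro x; rw [hcdef]; rfl
  have hcΓ : c ∈ F.autGroup E := by
    rw [hcdef]
    exact Cfsg.Agent.Lib.helper88.autInducedBy_le_autGroup F hES
      (Cfsg.Agent.Lib.helper88.conjAut_mem S E g hgN hgS)
  obtain ⟨X, hXdef⟩ : ∃ X : Subgroup ↥E, X = P.subgroupOf E := ⟨_, rfl⟩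
  have hXmem : ∀ x : ↥E, x ∈ X ↔ (x : Ω) ∈ P := by
    intro x; rw [hXdef]; exact Subgroup.mem_subgroupOf
  have hcX : ∀ e : ↥E, c e * e⁻¹ ∈ X := by
    intro e
    rw [hXmem]
    show ((c e : ↥E) : Ω) * ((e : Ω))⁻¹ ∈ P
    rw [hcapp]
    have h1 : (e : Ω) * g⁻¹ * (e : Ω)⁻¹ ∈ P :=
      Cfsg.Agent.Lib.helper89.conj_mem_of_stronglyClosed F hP (hES e.2) (P.inv_mem hgP)
    have h2 : g * (e : Ω) * g⁻¹ * (e : Ω)⁻¹ = g * ((e : Ω) * g⁻¹ * (e : Ω)⁻¹) := by group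
    rw [h2]; exact P.mul_mem hgP h1
  obtain ⟨k, hk⟩ := hS ⟨g, hgS⟩
  have hgk : g ^ p ^ k = 1 := by
    have := congrArg Subtype.val hk
    simpa using this
  have hcpow : ∀ n : ℕ, ∀ x : ↥E, (((c ^ n) x : ↥E) : Ω) = g ^ n * (x : Ω) * (g ^ n)⁻¹ := by
    intro n
    induction n with
    | zero => intro x; simp
    | succ n ih =>
      intro x
      rw [pow_succ', MulAut.mul_apply, hcapp, ih, pow_succ']
      group
  have hck : c ^ p ^ k = 1 := by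
    ext x
    rw [hcpow, hgk]; simp
  have hmX : ∃ (N : Subgroup ↥X) (_ : N.Normal), IsCyclic N ∧ IsCyclic (↥X ⧸ N) := by
    let f : ↥X →* ↥P :=
      { toFun := fun x => ⟨((x : ↥E) : Ω), (hXmem x.1).mp x.2⟩
        map_one' := rfl
        map_mul' := fun a b => rfl }
    apply isMetacyclic_of_injective f _ hm
    intro a b hab
    apply Subtype.ext; apply Subtype.ext
    exact congrArg (fun q : ↥P => (q : Ω)) hab
  have hΓ : ∀ γ ∈ F.autGroup E, ∀ x ∈ X, γ x ∈ X := by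
    intro γ hγ x hx
    rw [hXmem] at hx ⊢
    exact Cfsg.Agent.Lib.helper89.aut_mem_of_stronglyClosed F hP hES hγ x hx
  obtain ⟨D, hDΓ, hDn, hDp, hcase⟩ := radKey hp hEp X hmX (F.autGroup E) hΓ c hcΓ hcX k hck
  have hDI : D ≤ Cfsg.Inn ↥E := Cfsg.Agent.Lib.helper86.le_inn_of_radical F hrad D hDΓ hDn hDp
  rcases hcase with hcD | ⟨ζ, hζΓ, hζinv, hζX, hζc, hcard⟩
  · exact Cfsg.Agent.Lib.helper86.not_mem_inn_of_centric F hcen hgS hgE hcapp (hDI hcD)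
  obtain ⟨e₀, he₀⟩ := hDI hζc
  have hrel : ∀ x : ↥E, ζ (c x) = e₀ * c (ζ x) * e₀⁻¹ := by
    intro x
    have h1 : ζ * c = MulAut.conj e₀ * c * ζ := by rw [he₀]; group
    have h2 := congrArg (fun α : MulAut ↥E => α x) h1
    exact h2
  obtain ⟨φ, hφdef⟩ : ∃ φ : ↥E →* Ω, φ = E.subtype.comp ζ.toMonoidHom := ⟨_, rfl⟩
  have hφapp : ∀ x : ↥E, φ x = ((ζ x : ↥E) : Ω) := by intro x; rw [hφdef]; rfl
  have hφF : φ ∈ F.Hom E := by
    rw [hφdef]; exact (Cfsg.Agent.Lib.helper88.mem_autGroup_iff' F hES ζ).mp hζΓ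
  have hφR : φ.range = E := by
    ext y
    constructor
    · rintro ⟨x, rfl⟩; rw [hφapp]; exact (ζ x).2
    · intro hy
      refine ⟨ζ⁻¹ ⟨y, hy⟩, ?_⟩
      rw [hφapp, MulAut.apply_inv_self]
  have hrec : F.IsReceptive E :=
    Cfsg.Agent.Lib.helper88.receptive_of_fullyCentralized hS F hF
      (Cfsg.Agent.Lib.helper88.fullyCentralized_of_centric hcen)
  have hext : ∃ Nn : Subgroup Ω, E ≤ Nn ∧ g ∈ Nn ∧ ∃ ψ ∈ F.Hom Nn,
      ∀ (x : Ω) (hxE : x ∈ E) (hxN : x ∈ Nn), ψ ⟨x, hxN⟩ = φ ⟨x, hxE⟩ := by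
    obtain ⟨ψ, hψF, hψ⟩ := Cfsg.Agent.Lib.helper89.exists_extension_closure F hrec hφF hφR
      ((E : Set Ω) ∪ {g}) (by
        intro y hy
        rcases hy with hy | hy
        · exact Cfsg.Agent.Lib.helper89.extender_cond_of_mem F hφF hy
        · rw [Set.mem_singleton_iff] at hy
          subst hy
          refine ⟨hgS, hgN, (e₀ : Ω) * y, S.mul_mem (hES e₀.2) hgS, ?_⟩
          intro x hx
          have h1 : (⟨y * (x : Ω) * y⁻¹, hx⟩ : ↥E) = c x := Subtype.ext (hcapp x).symm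
          rw [h1, hφapp, hφapp, hrel]
          show (e₀ : Ω) * ((c (ζ x) : ↥E) : Ω) * (e₀ : Ω)⁻¹ = _
          rw [hcapp]
          group)
    refine ⟨_, ?_, ?_, ψ, hψF, hψ⟩
    · intro x hx; exact Subgroup.subset_closure (Or.inl hx)
    · exact Subgroup.subset_closure (Or.inr rfl)
  obtain ⟨Nn, hENn, hgNn, ψ, hψF, hψ⟩ := hext
  have hψP : ∀ (y : Ω) (hyN : y ∈ Nn), y ∈ P → ψ ⟨y, hyN⟩ ∈ P := by
    intro y hyN hyP
    have hle : Nn ⊓ P ≤ Nn := inf_le_left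
    have h1 := Cfsg.Agent.Lib.helper88.restrict_mem F hle hψF
    exact hP.2 (Nn ⊓ P) inf_le_right _ h1 ⟨y, hyN, hyP⟩
  have hψg : ψ ⟨g, hgNn⟩ * g⁻¹ ∈ E := by
    have hz : (ψ ⟨g, hgNn⟩)⁻¹ * (e₀ : Ω) * g ∈ FusionSystem.centralizerIn S E := by
      refine ⟨S.mul_mem (S.mul_mem (S.inv_mem (hPS (hψP g hgNn hgP))) (hES e₀.2)) hgS,
        Subgroup.mem_centralizer_iff.mpr ?_⟩
      intro y hy
      obtain ⟨x, hx⟩ : ∃ x : ↥E, ζ x = ⟨y, hy⟩ := ⟨ζ⁻¹ ⟨y, hy⟩, MulAut.apply_inv_self _ _ _⟩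
      have h1 : ψ ⟨((c x : ↥E) : Ω), hENn (c x).2⟩ =
          (e₀ : Ω) * (g * y * g⁻¹) * (e₀ : Ω)⁻¹ := by
        rw [hψ _ (c x).2]
        show φ (c x) = _
        rw [hφapp, hrel, hx]
        show (e₀ : Ω) * ((c ⟨y, hy⟩ : ↥E) : Ω) * (e₀ : Ω)⁻¹ = _
        rw [hcapp]
      have h2 : (⟨((c x : ↥E) : Ω), hENn (c x).2⟩ : ↥Nn) =
          ⟨g, hgNn⟩ * ⟨(x : Ω), hENn x.2⟩ * ⟨g, hgNn⟩⁻¹ := by
        apply Subtype.ext
        rw [hcapp]; rfl
      rw [h2, map_mul, map_mul, map_inv, hψ _ x.2] at h1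
      have h3 : φ ⟨(x : Ω), x.2⟩ = y := by
        show φ x = y
        rw [hφapp, hx]
      rw [h3] at h1
      have h4 : y = (ψ ⟨g, hgNn⟩)⁻¹ * ((e₀ : Ω) * (g * y * g⁻¹) * (e₀ : Ω)⁻¹) * ψ ⟨g, hgNn⟩ := by
        rw [← h1]; group
      calc y * ((ψ ⟨g, hgNn⟩)⁻¹ * (e₀ : Ω) * g)
          = ((ψ ⟨g, hgNn⟩)⁻¹ * ((e₀ : Ω) * (g * y * g⁻¹) * (e₀ : Ω)⁻¹) * ψ ⟨g, hgNn⟩) *
              ((ψ ⟨g, hgNn⟩)⁻¹ * (e₀ : Ω) * g) := by rw [← h4]
        _ = (ψ ⟨g, hgNn⟩)⁻¹ * (e₀ : Ω) * g * y := by group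
    have hzE := hcen.2 E (Cfsg.Agent.Lib.helper88.isConj_refl F hES) hz
    have h5 : ψ ⟨g, hgNn⟩ * g⁻¹ =
        (e₀ : Ω) * (g * ((ψ ⟨g, hgNn⟩)⁻¹ * (e₀ : Ω) * g)⁻¹ * g⁻¹) := by group
    rw [h5]
    exact E.mul_mem e₀.2 ((Subgroup.mem_normalizer_iff.mp hgN _).mp (E.inv_mem hzE))
  have hPp : IsPGroup p ↥P := hS.to_le hPS
  have : Finite ↥P :=
    Finite.of_injective (Subgroup.inclusion hPS) (Subgroup.inclusion_injective hPS)
  classical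
  let f : ↥P → ↥P := fun q => if h : (q : Ω) ∈ Nn then ⟨ψ ⟨q, h⟩, hψP q h q.2⟩ else 1
  have hf : ∀ (q : ↥P) (h : (q : Ω) ∈ Nn), ((f q : ↥P) : Ω) = ψ ⟨q, h⟩ := by
    intro q h; simp only [f, dif_pos h]
  apply metacyclic_no_inverting hp hPp hm (E.subgroupOf P) (Nn.subgroupOf P) ?_ ⟨g, hgP⟩
    ?_ ?_ ?_ f ?_ ?_ ?_ ?_
  · intro q hq
    exact Subgroup.mem_subgroupOf.mpr (hENn (Subgroup.mem_subgroupOf.mp hq))
  · exact Subgroup.mem_subgroupOf.mpr hgNn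
  · intro h; exact hgE (Subgroup.mem_subgroupOf.mp h)
  · rw [Subgroup.mem_normalizer_iff]
    intro q
    rw [Subgroup.mem_subgroupOf, Subgroup.mem_subgroupOf]
    exact Subgroup.mem_normalizer_iff.mp hgN q
  · intro a ha b hb
    have ha' := Subgroup.mem_subgroupOf.mp ha
    have hb' := Subgroup.mem_subgroupOf.mp hb
    apply Subtype.ext
    rw [hf _ (Nn.mul_mem ha' hb')]
    show ψ ⟨((a * b : ↥P) : Ω), _⟩ = ((f a : ↥P) : Ω) * ((f b : ↥P) : Ω)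
    rw [hf a ha', hf b hb', ← map_mul]
    rfl
  · intro x hx
    have hx' := Subgroup.mem_subgroupOf.mp hx
    apply Subtype.ext
    rw [hf x (hENn hx'), hψ _ hx', hφapp, hζinv ⟨x, hx'⟩ ((hXmem _).mpr x.2)]
    rfl
  · rw [Subgroup.mem_subgroupOf]
    show ((f ⟨g, hgP⟩ : ↥P) : Ω) * g⁻¹ ∈ E
    rw [hf ⟨g, hgP⟩ hgNn]
    exact hψg
  · have h3 : Nat.card {x : ↥E // x ∈ X ∧ x ^ p = 1} =
        Nat.card {x : ↥P // x ∈ E.subgroupOf P ∧ x ^ p = 1} :=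
      Nat.card_congr
        { toFun := fun y => ⟨⟨y.1.1, (hXmem y.1).mp y.2.1⟩, Subgroup.mem_subgroupOf.mpr y.1.2,
            Subtype.ext (by have := congrArg Subtype.val y.2.2; simpa using this)⟩
          invFun := fun z => ⟨⟨z.1.1, Subgroup.mem_subgroupOf.mp z.2.1⟩, (hXmem _).mpr z.1.2,
            Subtype.ext (by have := congrArg Subtype.val z.2.2; simpa using this)⟩
          left_inv := fun y => rfl
          right_inv := fun z => rfl }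
    rw [← h3]; exact hcard

end Cfsg.Agent.S5234
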