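-- Statement S5236: normality of a strongly closed subgroup via a strongly closed central chain of Ω₁.
import Cfsg.Statements.S5236
import Cfsg.Agent.S0120
import Cfsg.Agent.Lib.helper89.FusionClosed
import Cfsg.Agent.Lib.helper89.FusionNormalizer
import Cfsg.Agent.Lib.helper89.StabChain

set_option autoImplicit false
open Cfsg

namespace Cfsg.Agent.S5236

open Cfsg.Agent.Lib.helper89 Cfsg.FusionSystem
open scoped commutatorElement

/-- `Ω₁(P) ≤ P`. -/
theorem omegaOne_le {Ω : Type*} [Group Ω] (p : ℕ) (P : Subgroup Ω) : Cfsg.omegaOne p P ≤ P := by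
  unfold Cfsg.omegaOne
  rw [Subgroup.closure_le]
  exact fun x hx => hx.1

/-- Automorphisms of `P` preserve `Ω₁(P)`. -/
theorem aut_mem_omegaOne {Ω : Type*} [Group Ω] (p : ℕ) (P : Subgroup Ω) (α : MulAut P) :
    ∀ x (_ : x ∈ Cfsg.omegaOne p P), ∃ hxP : x ∈ P, ((α ⟨x, hxP⟩ : P) : Ω) ∈ Cfsg.omegaOne p P := by
  intro x hx
  unfold Cfsg.omegaOne at hx
  refine Subgroup.closure_induction
    (p := fun x _ => ∃ hxP : x ∈ P, ((α ⟨x, hxP⟩ : P) : Ω) ∈ Cfsg.omegaOne p P) ?_ ?_ ?_ ?_ hx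
  · rintro y ⟨hyP, hyp⟩
    refine ⟨hyP, Subgroup.subset_closure ⟨(α ⟨y, hyP⟩).2, ?_⟩⟩
    have h1 : (⟨y, hyP⟩ : P) ^ p = 1 := Subtype.ext (by simpa using hyp)
    have h2 : (α ⟨y, hyP⟩) ^ p = 1 := by rw [← map_pow, h1, map_one]
    have h3 := congrArg (Subtype.val) h2
    simpa using h3
  · refine ⟨P.one_mem, ?_⟩
    have : (⟨1, P.one_mem⟩ : P) = 1 := rfl
    rw [this, map_one]
    exact Subgroup.one_mem _
  · rintro a b _ _ ⟨haP, ha⟩ ⟨hbP, hb⟩
    refine ⟨P.mul_mem haP hbP, ?_⟩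
    have : (⟨a * b, P.mul_mem haP hbP⟩ : P) = ⟨a, haP⟩ * ⟨b, hbP⟩ := rfl
    rw [this, map_mul]
    exact Subgroup.mul_mem _ ha hb
  · rintro a _ ⟨haP, ha⟩
    refine ⟨P.inv_mem haP, ?_⟩
    have : (⟨a⁻¹, P.inv_mem haP⟩ : P) = (⟨a, haP⟩ : P)⁻¹ := rfl
    rw [this, map_inv]
    exact Subgroup.inv_mem _ ha

/-- **Jump lemma** (`p` odd). If a power `δ ^ (p ^ k)` of an automorphism of a finite `p`-group fixes
all elements of order dividing `p` of a `δ`-invariant subgroup `M`, then some `δ ^ (p ^ k')` fixes `M`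
pointwise. -/
theorem unip_jump {R : Type*} [Group R] [Finite R] {p : ℕ} [Fact p.Prime] (hp : p ≠ 2)
    (hR : IsPGroup p R) (δ : MulAut R) (M : Subgroup R) (hδM : ∀ x ∈ M, δ x ∈ M)
    (h : ∃ k : ℕ, ∀ x ∈ M, x ^ p = 1 → (δ ^ (p ^ k)) x = x) :
    ∃ k : ℕ, ∀ x ∈ M, (δ ^ (p ^ k)) x = x := by
  obtain ⟨k, hk⟩ := h
  have hpowM : ∀ n : ℕ, ∀ x ∈ M, (δ ^ n) x ∈ M := by
    intro n
    induction n with
    | zero => intro x hx; simpa using hx
    | succ n ih =>
      intro x hx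
      rw [pow_succ, MulAut.mul_apply]
      exact ih _ (hδM x hx)
  set β : MulAut R := δ ^ (p ^ k) with hβ
  have hβM : ∀ x ∈ M, β x ∈ M := hpowM _
  let f : M →* M := (β.toMonoidHom.comp M.subtype).codRestrict M (fun x => hβM x x.2)
  have hf : ∀ x : M, ((f x : M) : R) = β x := fun x => rfl
  have hf_inj : Function.Injective f := by
    intro x y hxy
    have h1 : β x = β y := by rw [← hf x, ← hf y, hxy]
    exact Subtype.ext (β.injective h1)
  have hf_bij : Function.Bijective f := ⟨hf_inj, Finite.injective_iff_surjective.mp hf_inj⟩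
  let β' : MulAut M := MulEquiv.ofBijective f hf_bij
  have hβ' : ∀ x : M, ((β' x : M) : R) = β x := fun x => rfl
  have hpow : ∀ (n : ℕ) (x : M), (((β' ^ n) x : M) : R) = (β ^ n) x := by
    intro n
    induction n with
    | zero => intro x; simp
    | succ n ih =>
      intro x
      rw [pow_succ, MulAut.mul_apply, pow_succ, MulAut.mul_apply, ih, hβ']
  have hfinAut : Finite (MulAut M) := MulEquiv.finite_left
  have hpp : p.Prime := Fact.out
  obtain ⟨a, m, hm, hN⟩ := Nat.exists_eq_pow_mul_and_not_dvd (orderOf_pos β').ne' p hpp.ne_one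
  set γ : MulAut M := β' ^ (p ^ a) with hγ
  have hγm : γ ^ m = 1 := by rw [hγ, ← pow_mul, ← hN, pow_orderOf_eq_one]
  have hcop : (orderOf γ).Coprime p :=
    Nat.Coprime.coprime_dvd_left (orderOf_dvd_of_pow_eq_one hγm)
      ((Nat.Prime.coprime_iff_not_dvd hpp).mpr hm).symm
  have hβ'fix : ∀ x : M, x ^ p = 1 → β' x = x := by
    intro x hx
    apply Subtype.ext
    rw [hβ']
    refine hk x x.2 ?_
    have := congrArg Subtype.val hx
    simpa using this
  have hγfix : ∀ x : M, x ^ p = 1 → γ x = x := by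
    intro x hx
    have hiter : ∀ n : ℕ, (β' ^ n) x = x := by
      intro n
      induction n with
      | zero => simp
      | succ n ih => rw [pow_succ, MulAut.mul_apply, hβ'fix x hx, ih]
    exact hiter _
  have hγ1 : γ = 1 := Cfsg.Agent.S0120.result hp (hR.to_subgroup M) γ hcop hγfix
  refine ⟨k + a, fun x hx => ?_⟩
  have h1 : δ ^ (p ^ (k + a)) = β ^ (p ^ a) := by rw [hβ, ← pow_mul, pow_add]
  rw [h1, ← hpow (p ^ a) ⟨x, hx⟩]
  have h2 : (β' ^ (p ^ a)) ⟨x, hx⟩ = ⟨x, hx⟩ := by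
    rw [← hγ, hγ1]; rfl
  rw [h2]

/-- The forward direction. -/
theorem forward {Ω : Type*} [Group Ω] {S : Subgroup Ω} [Finite S] (p : ℕ) [Fact p.Prime]
    (hS : IsPGroup p S) (F : Cfsg.FusionSystem S) (P : Subgroup Ω) (hP : F.IsNormal P) :
    ∃ (n : ℕ) (Q : Fin (n + 1) → Subgroup Ω), Q 0 = ⊥ ∧ Q (Fin.last n) = Cfsg.omegaOne p P ∧
      Monotone Q ∧ (∀ i : Fin (n + 1), F.StronglyClosed (Q i)) ∧
      ∀ i : Fin n, ⁅Q i.succ, P⁆ ≤ Q i.castSucc := by
  obtain ⟨hPS, hext⟩ := (isNormal_iff_forall_normExt F P).mp hP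
  have hfinP : Finite P := finite_of_le hPS
  have hPp : IsPGroup p P := hS.to_le hPS
  have hnil : Group.IsNilpotent P := hPp.isNilpotent
  obtain ⟨n, hn⟩ := Group.IsNilpotent.nilpotent P
  have hΩP : Cfsg.omegaOne p P ≤ P := omegaOne_le p P
  refine ⟨n, fun i => Cfsg.omegaOne p P ⊓ (Subgroup.upperCentralSeries P i.val).map P.subtype,
    ?_, ?_, ?_, ?_, ?_⟩
  · simp
  · show Cfsg.omegaOne p P ⊓ (Subgroup.upperCentralSeries P n).map P.subtype = Cfsg.omegaOne p P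
    rw [hn]
    apply inf_eq_left.mpr
    intro x hx
    exact ⟨⟨x, hΩP hx⟩, Subgroup.mem_top _, rfl⟩
  · intro i j hij
    exact inf_le_inf_left _ (Subgroup.map_mono (Subgroup.upperCentralSeries_mono P hij))
  · intro i
    refine ⟨inf_le_left.trans (hΩP.trans hPS), fun R hR φ hφ x => ?_⟩
    obtain ⟨R', ψ, hψ, hRR', hPR', h1, h2⟩ := hext R φ hφ
    have hψP := Cfsg.Agent.Lib.helper88.restrict_mem F hPR' hψ
    obtain ⟨α, hα⟩ := exists_aut_of_mem F hψP (fun q => h2 q q.2 (hPR' q.2))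
    have hx := hR x.2
    obtain ⟨hxΩ, ⟨z, hz, hzx⟩⟩ := hx
    have hφx : φ x = ((α z : P) : Ω) := by
      rw [hα z, ← h1 (x : Ω) x.2 (hRR' x.2)]
      show ψ ⟨(x : Ω), _⟩ = ψ ⟨(z : Ω), _⟩
      congr 1
      exact Subtype.ext hzx.symm
    rw [hφx]
    refine ⟨?_, ?_⟩
    · obtain ⟨hxP, h3⟩ := aut_mem_omegaOne p P α (x : Ω) hxΩ
      have : (⟨(x : Ω), hxP⟩ : P) = z := Subtype.ext hzx.symm
      rw [this] at h3
      exact h3
    · have hchar : (Subgroup.upperCentralSeries P i.val).Characteristic := inferInstance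
      have hmap := Subgroup.characteristic_iff_map_eq.mp hchar α
      refine ⟨α z, ?_, rfl⟩
      rw [← hmap]
      exact ⟨z, hz, rfl⟩
  · intro i
    rw [Subgroup.commutator_le]
    rintro g₁ ⟨hg₁Ω, ⟨z, hz, rfl⟩⟩ g hg
    refine ⟨?_, ?_⟩
    · -- `Ω₁(P)` is normal in `P`
      obtain ⟨hxP, h3⟩ := aut_mem_omegaOne p P (MulAut.conj (⟨g, hg⟩ : P)) ((z : Ω)⁻¹)
        (Subgroup.inv_mem _ hg₁Ω)
      have h4 : ⁅(z : Ω), g⁆ = (z : Ω) * (g * (z : Ω)⁻¹ * g⁻¹) := by
        rw [commutatorElement_def]; group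
      show ⁅(z : Ω), g⁆ ∈ Cfsg.omegaOne p P
      rw [h4]
      refine Subgroup.mul_mem _ hg₁Ω ?_
      simpa using h3
    · have hz' : z ∈ Subgroup.upperCentralSeries P (i.val + 1) := hz
      have h1 : ⁅z, (⟨g, hg⟩ : P)⁆ ∈ Subgroup.upperCentralSeries P i.val :=
        (Subgroup.mem_upperCentralSeries_succ_iff.mp hz') ⟨g, hg⟩
      exact ⟨_, h1, rfl⟩

/-- The backward direction. -/
theorem backward {Ω : Type*} [Group Ω] {S : Subgroup Ω} [Finite S] (p : ℕ) [Fact p.Prime]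
    (hS : IsPGroup p S) (F : Cfsg.FusionSystem S) (hF : F.IsSaturated p) (hp : p ≠ 2)
    (P : Subgroup Ω) (hP : F.StronglyClosed P) (n : ℕ) (C : ℕ → Subgroup Ω) (hC0 : C 0 = ⊥)
    (hCn : C n = Cfsg.omegaOne p P) (hmono : Monotone C)
    (hsc : ∀ i ≤ n, F.StronglyClosed (C i)) (hcomm : ∀ i < n, ⁅C (i + 1), P⁆ ≤ C i) :
    F.IsNormal P := by
  have hPS : P ≤ S := hP.1
  have hPn : ∀ g ∈ S, ∀ q ∈ P, g * q * g⁻¹ ∈ P := fun g hg q hq => conj_mem_of_stronglyClosed F hP hg hq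
  have hSN : S ≤ normalizerIn S P := by
    intro g hg
    refine ⟨hg, ?_⟩
    show g ∈ Subgroup.normalizer (P : Set Ω)
    rw [Subgroup.mem_normalizer_iff]
    intro q
    constructor
    · exact hPn g hg q
    · intro h
      have h1 := hPn g⁻¹ (S.inv_mem hg) _ h
      have h2 : g⁻¹ * (g * q * g⁻¹) * g⁻¹⁻¹ = q := by group
      rw [h2] at h1
      exact h1
  set E : FusionSystem S := normalizerSystemOn F P S hPS hSN with hE
  have hmain : ∀ T : Subgroup Ω, F.Hom T ⊆ E.Hom T := by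
    refine saturated_induction F E hS hF ?_
    intro R hfa hrec hIH α hα
    have hRS : R ≤ S := hfa.1
    have hfinR : Finite R := finite_of_le hRS
    have hRp : IsPGroup p R := hS.to_le hRS
    have hαF : R.subtype.comp α.toMonoidHom ∈ F.Hom R := (mem_autGroup_iff F hRS α).mp hα
    refine ⟨hαF, hRS, fun x => hRS (α x).2, ?_⟩
    -- it suffices to extend `α` to a subgroup containing `P`
    have hsuff : ∀ (N : Subgroup Ω) (ψ : N →* Ω), ψ ∈ F.Hom N → R ≤ N → P ≤ N →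
        (∀ (x : R) (hxN : (x : Ω) ∈ N), ψ ⟨x, hxN⟩ = ((α x : R) : Ω)) →
        NormExt F P (R.subtype.comp α.toMonoidHom) := by
      intro N ψ hψ hRN hPN hψR
      refine ⟨N, ψ, hψ, hRN, hPN, fun x hx hN => hψR ⟨x, hx⟩ hN, ?_⟩
      intro q hq hN
      exact hP.2 P le_rfl _ (Cfsg.Agent.Lib.helper88.restrict_mem F hPN hψ) ⟨q, hq⟩
    by_cases hPR : P ≤ R
    · exact hsuff R _ hαF le_rfl hPR (fun x hxN => rfl)
    obtain ⟨w, hwP, hwN, hwR⟩ := exists_normalizing_not_mem hS hPS hRS hPn hPR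
    have hwS : w ∈ S := hPS hwP
    obtain ⟨c, hc⟩ := exists_conj_aut F hRS hwS
      (fun x hx => (Subgroup.mem_normalizer_iff.mp hwN x).mp hx)
    -- the pairs of the chain
    let K : ℕ → Subgroup R := fun j => (C j).subgroupOf R
    let PR : Subgroup R := P.subgroupOf R
    let Cs : Set (Subgroup R × Subgroup R) :=
      {MM' | MM' = (⊤, PR) ∨ ∃ j < n, MM' = (K (j + 1), K j)}
    have hinvP : ∀ a ∈ F.autGroup R, ∀ x ∈ PR, a x ∈ PR := fun a ha x hx =>
      Subgroup.mem_subgroupOf.mpr (aut_mem_of_stronglyClosed F hP hRS ha x (Subgroup.mem_subgroupOf.mp hx))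
    have hinvK : ∀ j ≤ n, ∀ a ∈ F.autGroup R, ∀ x ∈ K j, a x ∈ K j := fun j hj a ha x hx =>
      Subgroup.mem_subgroupOf.mpr (aut_mem_of_stronglyClosed F (hsc j hj) hRS ha x
        (Subgroup.mem_subgroupOf.mp hx))
    have hinv : ∀ a ∈ F.autGroup R, ∀ MM' ∈ Cs,
        (∀ x ∈ MM'.1, a x ∈ MM'.1) ∧ (∀ x ∈ MM'.2, a x ∈ MM'.2) := by
      rintro a ha MM' (rfl | ⟨j, hj, rfl⟩)
      · exact ⟨fun x _ => Subgroup.mem_top _, hinvP a ha⟩
      · exact ⟨hinvK (j + 1) (by omega) a ha, hinvK j (by omega) a ha⟩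
    set D : Subgroup (MulAut R) := stabilizerOfPairs (F.autGroup R) Cs hinv with hD
    have hDp : IsPGroup p D := by
      rintro ⟨δ, hδ, hδC⟩
      have hK0 : K 0 = ⊥ := by
        show (C 0).subgroupOf R = ⊥
        rw [hC0]
        exact Subgroup.bot_subgroupOf R
      have hKj : ∀ j ≤ n, ∃ k : ℕ, ∀ x ∈ K j, (δ ^ (p ^ k)) x = x := by
        intro j
        induction j with
        | zero => intro _; rw [hK0]; exact unip_bot δ
        | succ j ih =>
          intro hj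
          refine unip_step hRp δ (K j) (K (j + 1)) ?_ (ih (by omega))
            (hδC (K (j + 1), K j) (Or.inr ⟨j, by omega, rfl⟩))
          intro x hx
          exact Subgroup.mem_subgroupOf.mpr (hmono (Nat.le_succ j) (Subgroup.mem_subgroupOf.mp hx))
      have hPRk : ∃ k : ℕ, ∀ x ∈ PR, (δ ^ (p ^ k)) x = x := by
        refine unip_jump hp hRp δ PR (hinvP δ hδ) ?_
        obtain ⟨k, hk⟩ := hKj n le_rfl
        refine ⟨k, fun x hx hxp => hk x ?_⟩
        refine Subgroup.mem_subgroupOf.mpr ?_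
        rw [hCn]
        refine Subgroup.subset_closure ⟨Subgroup.mem_subgroupOf.mp hx, ?_⟩
        have := congrArg Subtype.val hxp
        simpa using this
      have htop : ∃ k : ℕ, ∀ x ∈ (⊤ : Subgroup R), (δ ^ (p ^ k)) x = x :=
        unip_step hRp δ PR ⊤ le_top hPRk (hδC (⊤, PR) (Or.inl rfl))
      obtain ⟨k, hk⟩ := exists_pow_eq_one_of_unip δ htop
      exact ⟨k, Subtype.ext hk⟩
    have hDS : D ≤ autInducedBy S R :=
      normal_pgroup_le_autS F hfa D (stabilizerOfPairs_le _ _ _)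
        (stabilizerOfPairs_conj_mem _ _ _) hDp
    -- conjugation by `w` lies in `D`
    have hcomm_elt : ∀ x : R, ((x⁻¹ * c x : R) : Ω) = ⁅(x : Ω)⁻¹, w⁆ := by
      intro x
      rw [commutatorElement_def]
      simp [hc x, mul_assoc]
    have hcD : c ∈ D := by
      refine ⟨autInducedBy_le_autGroup F hRS ((mem_autInducedBy_iff S R c).mpr ⟨w, hwS, hc⟩), ?_⟩
      rintro MM' (rfl | ⟨j, hj, rfl⟩)
      · intro x _
        refine Subgroup.mem_subgroupOf.mpr ?_
        have h1 : ((x⁻¹ * c x : R) : Ω) = ((x : Ω)⁻¹ * w * (x : Ω)⁻¹⁻¹) * w⁻¹ := by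
          simp [hc x, mul_assoc]
        rw [h1]
        exact P.mul_mem (hPn _ (S.inv_mem (hRS x.2)) w hwP) (P.inv_mem hwP)
      · intro x hx
        refine Subgroup.mem_subgroupOf.mpr ?_
        rw [hcomm_elt]
        have h1 : ⁅(x : Ω)⁻¹, w⁆ ∈ ⁅C (j + 1), P⁆ :=
          Subgroup.commutator_mem_commutator ((C (j + 1)).inv_mem (Subgroup.mem_subgroupOf.mp hx))
            hwP
        exact hcomm j hj h1
    have hconj : α * c * α⁻¹ ∈ autInducedBy S R :=
      hDS (stabilizerOfPairs_conj_mem _ _ _ α hα c hcD)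
    obtain ⟨N, hRN, ψ, hψ, hψR⟩ := exists_extension_of_conj_mem F hrec hα hwS hwN hwR hc hconj
    obtain ⟨-, -, -, R', ψ', hψ', hNR', hPR', hψ'N, -⟩ := hIH N hRN hψ
    refine hsuff R' ψ' hψ' (hRN.le.trans hNR') hPR' ?_
    intro x hxN
    rw [hψ'N x (hRN.le x.2) hxN]
    exact hψR x (hRN.le x.2)
  refine (isNormal_iff_forall_normExt F P).mpr ⟨hPS, fun T φ hφ => ?_⟩
  exact (hmain T hφ).2.2.2

/-- Let p be an odd prime, F a saturated fusion system over a finite p-group S and P a subgroup of S strongly closed in F. Then P is normal in F if and only if Ω₁(P) (the subgroup generated by the elements of order p of P) has a chain of subgroups 1 = Q₀ ≤ Q₁ ≤ ⋯ ≤ Qₙ = Ω₁(P), each strongly closed in F, with [Qᵢ₊₁, P] ≤ Qᵢ for all i. -/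
theorem result {Ω : Type*} [Group Ω] {S : Subgroup Ω} [Finite S] (p : ℕ) [Fact p.Prime] (hS : IsPGroup p S) (F : Cfsg.FusionSystem S) (hF : F.IsSaturated p) (hp : p ≠ 2) (P : Subgroup Ω) (hP : F.StronglyClosed P) : F.IsNormal P ↔ ∃ (n : ℕ) (Q : Fin (n + 1) → Subgroup Ω), Q 0 = ⊥ ∧ Q (Fin.last n) = Cfsg.omegaOne p P ∧ Monotone Q ∧ (∀ i : Fin (n + 1), F.StronglyClosed (Q i)) ∧ ∀ i : Fin n, ⁅Q i.succ, P⁆ ≤ Q i.castSucc := by
  constructor
  · exact forward p hS F P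
  · rintro ⟨n, C, hC0, hCn, hmono, hsc, hcomm⟩
    let C' : ℕ → Subgroup Ω := fun k => C ⟨min k n, Nat.lt_succ_of_le (Nat.min_le_right k n)⟩
    have hC'of : ∀ (k : ℕ) (hk : k ≤ n), C' k = C ⟨k, Nat.lt_succ_of_le hk⟩ := by
      intro k hk
      show C ⟨min k n, _⟩ = C ⟨k, _⟩
      congr 1
      exact Fin.ext (Nat.min_eq_left hk)
    refine backward p hS F hF hp P hP n C' ?_ ?_ ?_ ?_ ?_
    · rw [hC'of 0 (Nat.zero_le n)]
      exact hC0
    · rw [hC'of n le_rfl]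
      exact hCn
    · intro k l hkl
      apply hmono
      show (⟨min k n, _⟩ : Fin (n + 1)) ≤ ⟨min l n, _⟩
      exact Fin.mk_le_mk.mpr (min_le_min_right n hkl)
    · intro i hi
      rw [hC'of i hi]
      exact hsc ⟨i, _⟩
    · intro i hi
      rw [hC'of (i + 1) hi, hC'of i hi.le]
      exact hcomm ⟨i, hi⟩

end Cfsg.Agent.S5236
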