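-- Statement S5243.
import Cfsg.Statements.S5243
import Cfsg.Agent.Lib.helper88.PQ5

set_option autoImplicit false
open Cfsg

namespace Cfsg.Agent.S5243

open Cfsg.FusionSystem Cfsg.Agent.Lib.helper88

/-- Let F be a saturated fusion system over a finite p-group S, E a normal subsystem of F over T ≤ S, and χ a surjective homomorphism from Aut_F(T) onto a nontrivial finite group Δ of order prime to p whose kernel contains Aut_E(T). Then there is a proper normal subsystem F₀ of F over S containing E such that Aut_{F₀}(S) consists of those α ∈ Aut_F(S) whose restriction to T is an element of Aut_F(T) in the kernel of χ; moreover every p'-residual subsystem O^{p'}(F) of F is contained in F₀. -/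
theorem result {Ω : Type*} [Group Ω] {S : Subgroup Ω} [Finite S] (p : ℕ) [Fact p.Prime] (hS : IsPGroup p S) (F : Cfsg.FusionSystem S) (hF : F.IsSaturated p) {T : Subgroup Ω} (hTS : T ≤ S) (E : Cfsg.FusionSystem T) (hE : E.IsNormalIn F p) {Δ : Type*} [Group Δ] [Finite Δ] [Nontrivial Δ] (hΔ : (Nat.card Δ).Coprime p) (χ : ↥(F.autGroup T) →* Δ) (hχ : Function.Surjective χ) (hker : (E.autGroup T).subgroupOf (F.autGroup T) ≤ χ.ker) : ∃ F₀ : Cfsg.FusionSystem S, F₀.IsNormalIn F p ∧ ¬ (∀ P : Subgroup Ω, F₀.Hom P = F.Hom P) ∧ E.IsSubsystemOf F₀ ∧ (∀ α : MulAut ↥S, α ∈ F₀.autGroup S ↔ α ∈ F.autGroup S ∧ ∃ β : ↥(F.autGroup T), χ β = 1 ∧ ∀ t : ↥T, (((β : MulAut ↥T) t : ↥T) : Ω) = ((α ⟨(t : Ω), hTS t.2⟩ : ↥S) : Ω)) ∧ ∀ R : Cfsg.FusionSystem S, F.IsPPrimeResidual p R → R.IsSubsystemOf F₀ := by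
  classical
  obtain ⟨⟨hEsat, -, hinv⟩, -⟩ := hE
  have D : PQData p F E χ := ⟨hS, hF, hEsat, hinv, hΔ, hker⟩
  have hT := hinv.2.1
  have hsub := pqSys_sub F E χ
  have hfr := pq_frattini D hχ
  have hsat := pqSys_saturated D hχ
  have hidx := primeIndex_of_frattini hS F hF (pqSys F E χ) hsub hfr
  refine ⟨pqSys F E χ, ⟨⟨hsat, hF, hsub, Cfsg.Agent.Lib.helper87.stronglyClosed_top F,
    pq_autInvariant D, ?_⟩, ?_⟩, ?_, pq_contains D, ?_, ?_⟩
  · intro P _ φ hφ
    exact hfr P φ hφ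
  · exact Cfsg.Agent.Lib.helper87.centSub_ext' F (pqSys F E χ) hsub
  · intro hall
    obtain ⟨δ, hδ⟩ := exists_ne (1 : Δ)
    obtain ⟨β, hβ⟩ := hχ δ
    have hβF : T.subtype.comp (β : MulAut T).toMonoidHom ∈ F.Hom T :=
      (mem_autGroup_iff' F hTS _).mp β.2
    have hmem : T.subtype.comp (β : MulAut T).toMonoidHom ∈ (pqSys F E χ).Hom T := by
      rw [hall T]
      exact hβF
    have hTC := inC_self F hT
    have h1 := th_of_mem_pqSys D hTC hmem
    have h2 : Th F E χ (T.subtype.comp (β : MulAut T).toMonoidHom) (χ β) := by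
      refine ⟨β, rfl, T, fun y => ⟨fun hy => ⟨hy, hy⟩, fun hy => hy.1⟩, T.subtype,
        subtype_mem E le_rfl, ?_⟩
      intro x y t hy ht
      have h3 : t = y := Subtype.ext ht
      have h4 : y = x := Subtype.ext hy
      rw [h3, h4]
      rfl
    have h5 := th_unique D hTC hβF h2 h1
    rw [hβ] at h5
    exact hδ h5
  · intro α
    have hSC := inC_top F hT
    constructor
    · intro hα
      have hα₀ := (mem_autGroup_iff' (pqSys F E χ) le_rfl α).mp hα
      have hαF : α ∈ F.autGroup S := (mem_autGroup_iff' F le_rfl α).mpr (hsub S hα₀)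
      refine ⟨hαF, ?_⟩
      obtain ⟨β, hβ⟩ := exists_restrict_aut F hT hαF
      refine ⟨β, ?_, hβ⟩
      have h1 := th_of_restrict_aut E χ hTS β hβ
      exact th_unique D hSC (hsub S hα₀) h1 (th_of_mem_pqSys D hSC hα₀)
    · rintro ⟨hαF, β, hβ1, hβ⟩
      have h1 := th_of_restrict_aut E χ hTS β hβ
      rw [hβ1] at h1
      exact (mem_autGroup_iff' (pqSys F E χ) le_rfl α).mpr
        (mem_pqSys_of_th hSC ((mem_autGroup_iff' F le_rfl α).mp hαF) h1)
  · intro R hR
    exact hR.2.2 _ hsat hidx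

end Cfsg.Agent.S5243
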