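import Cfsg.Statements.S5244
import Cfsg.Agent.Lib.helper89.AbIdxC

set_option autoImplicit false
open Cfsg

namespace Cfsg.Agent.S5244

open Cfsg.Agent.Lib.helper89 Cfsg.FusionSystem commutatorElement in
/-- Let p be an odd prime, S a finite nonabelian p-group with a unique abelian subgroup A of index p, and F a saturated fusion system over S with no nontrivial normal subgroup (O_p(F) = 1) in which A is not F-essential. Then some subgroup Z(S)⟨x⟩ with x ∈ S outside A is F-essential, the centre Z(S) is contained in the commutator subgroup of S, and S has maximal nilpotency class (if S has order pⁿ with n ≥ 3, the term of index n − 2 of its lower central series, counting S itself as the term of index 0, is nontrivial). -/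
theorem result {Ω : Type*} [Group Ω] {S : Subgroup Ω} [Finite S] (p : ℕ) [Fact p.Prime] (hS : IsPGroup p S) (F : Cfsg.FusionSystem S) (hF : F.IsSaturated p) (hp : p ≠ 2) (hna : ¬ IsMulCommutative ↥S) (A : Subgroup Ω) (hA : A ≤ S ∧ IsMulCommutative ↥A ∧ (A.subgroupOf S).index = p) (huniq : ∀ B : Subgroup Ω, B ≤ S → IsMulCommutative ↥B → (B.subgroupOf S).index = p → B = A) (hcore : F.core = ⊥) (hAe : ¬ F.IsEssential p A) : (∃ x ∈ S, x ∉ A ∧ F.IsEssential p ((S ⊓ Subgroup.centralizer (S : Set Ω)) ⊔ Subgroup.zpowers x)) ∧ (S ⊓ Subgroup.centralizer (S : Set Ω)) ≤ (commutator ↥S).map S.subtype ∧ ∀ n : ℕ, Nat.card S = p ^ n → 3 ≤ n → Subgroup.lowerCentralSeries S (n - 2) ≠ ⊥ := by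
  obtain ⟨hAS, hAc, hAidx⟩ := hA
  have hcardsub : ∀ B : Subgroup Ω, B ≤ S → Nat.card (B.subgroupOf S) = Nat.card B := by
    intro B hBS
    rw [← Subgroup.card_subtype S (B.subgroupOf S), Subgroup.map_subgroupOf_eq_of_le hBS]
  have hcardA : Nat.card S = p * Nat.card A := by
    have h1 := Subgroup.card_mul_index (A.subgroupOf S)
    rw [hcardsub A hAS, hAidx] at h1
    rw [← h1, mul_comm]
  have H : AIHyp p F A :=
    { pS := hS
      sat := hF
      AS := hAS
      comm := fun u hu v hv => by
        have h1 := hAc.is_comm.comm (⟨u, hu⟩ : A) ⟨v, hv⟩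
        exact congrArg Subtype.val h1
      card := hcardA
      uniq := fun B hBS hBc hBcard => by
        apply huniq B hBS
        · exact ⟨⟨fun a b => Subtype.ext (hBc a a.2 b b.2)⟩⟩
        · have hfinB : Finite B := finite_of_le hBS
          have h1 := Subgroup.card_mul_index (B.subgroupOf S)
          rw [hcardsub B hBS, hBcard] at h1
          have hBpos : 0 < Nat.card B := Nat.card_pos
          apply Nat.eq_of_mul_eq_mul_left hBpos
          rw [h1, mul_comm]
      nonab := by
        by_contra hcon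
        apply hna
        refine ⟨⟨fun a b => ?_⟩⟩
        by_contra hne
        exact hcon ⟨a, a.2, b, b.2, fun h => hne (Subtype.ext h)⟩
      notEss := hAe }
  obtain ⟨⟨x, hxS, hxA, hess⟩, x', hx', s, hs, hZ, hpow⟩ := H.final hp hcore
  refine ⟨⟨x, hxS, hxA, hess⟩, ?_, ?_⟩
  · show centralizerIn S S ≤ _
    rw [hZ, Subgroup.zpowers_le]
    refine ⟨⁅(⟨x', hx'⟩ : S)⁻¹, ⟨s, hs⟩⁆, ?_, ?_⟩
    · rw [_root_.commutator_def]
      exact Subgroup.commutator_mem_commutator (Subgroup.mem_top _) (Subgroup.mem_top _)
    · simp [commutatorElement_def]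
  · intro n hn h3
    apply H.lcs_ne_bot ?_ n hn h3
    rw [hZ, Nat.card_zpowers]
    exact orderOf_le_of_pow_eq_one (Fact.out : p.Prime).pos hpow

end Cfsg.Agent.S5244
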