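-- Statement S5245: extremely sparse fusion systems.
import Cfsg.Statements.S5245
import Cfsg.Agent.Lib.helper89.AutSystem
import Cfsg.Agent.Lib.helper89.FusionNormalizer

set_option autoImplicit false
open Cfsg

namespace Cfsg.Agent.S5245

open Cfsg.Agent.Lib.helper89 Cfsg.FusionSystem

/-- A finite group that is not a `p`-group has an element of prime order `q ≠ p`. -/
theorem exists_prime_order_ne {A : Type*} [Group A] [Finite A] {p : ℕ} [Fact p.Prime]
    (h : ¬ IsPGroup p A) : ∃ (q : ℕ) (a : A), q.Prime ∧ q ≠ p ∧ orderOf a = q := by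
  have hpp : p.Prime := Fact.out
  have hcard : Nat.card A ≠ 0 := Nat.card_pos.ne'
  obtain ⟨e, n', hn', hN⟩ := Nat.exists_eq_pow_mul_and_not_dvd hcard p hpp.ne_one
  have hn1 : n' ≠ 1 := by
    intro h1
    apply h
    rw [IsPGroup.iff_card]
    exact ⟨e, by rw [hN, h1, mul_one]⟩
  obtain ⟨q, hq, hqn⟩ := Nat.exists_prime_and_dvd hn1
  have hqp : q ≠ p := by
    intro hqp
    rw [hqp] at hqn
    exact hn' hqn
  have hqA : q ∣ Nat.card A := by
    rw [hN]
    exact Dvd.dvd.mul_left hqn _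
  have : Fact q.Prime := ⟨hq⟩
  obtain ⟨a, ha⟩ := exists_prime_orderOf_dvd_card' q hqA
  exact ⟨q, a, hq, hqp, ha⟩

/-- Let F be an extremely sparse fusion system over a finite p-group S (saturated, not the inner system, and every saturated fusion system over any subgroup T of S contained in F is F itself or the inner system of T). Then S is normal in F, the focal and hyperfocal subgroups of F are both S, and Aut_F(S) is generated by the inner automorphisms of S together with a single automorphism of prime order q ≠ p (F is the fusion system of the semidirect product of S by a cyclic group of prime order). -/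
theorem result {Ω : Type*} [Group Ω] {S : Subgroup Ω} [Finite S] (p : ℕ) [Fact p.Prime] (hS : IsPGroup p S) (F : Cfsg.FusionSystem S) (hF : F.IsSaturated p) (hxs : ¬ (∀ P : Subgroup Ω, F.Hom P = (Cfsg.innerFusionSystem S).Hom P) ∧ ∀ (T : Subgroup Ω) (E : Cfsg.FusionSystem T), E.IsSaturated p → E.IsSubsystemOf F → (T = S ∧ ∀ P : Subgroup Ω, E.Hom P = F.Hom P) ∨ (∀ P : Subgroup Ω, E.Hom P = (Cfsg.innerFusionSystem T).Hom P)) : F.IsNormal S ∧ F.focalSubgroup = S ∧ F.hyperfocalSubgroup p = S ∧ ∃ (q : ℕ) (β : MulAut ↥S), q.Prime ∧ q ≠ p ∧ β ∈ F.autGroup S ∧ orderOf β = q ∧ (F.autGroup S : Subgroup (MulAut ↥S)) = Cfsg.Inn ↥S ⊔ Subgroup.zpowers β := by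
  have hpp : p.Prime := Fact.out
  obtain ⟨hnot, hsparse⟩ := hxs
  -- some `Aut_F(R)` is not a `p`-group
  have hex : ∃ R : Subgroup Ω, R ≤ S ∧ ¬ IsPGroup p (F.autGroup R) := by
    by_contra hcon
    push Not at hcon
    exact hnot (hom_eq_inner_of_aut_pgroups F hS hF hcon)
  obtain ⟨R, hRS, hRp⟩ := hex
  have hfinR : Finite R := finite_of_le hRS
  have hfinA : Finite ↥(F.autGroup R) := finite_autGroup F hRS
  obtain ⟨q, β₀, hq, hqp, hβ₀⟩ := exists_prime_order_ne hRp
  set β : MulAut R := (β₀ : MulAut R) with hβdef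
  have hβF : β ∈ F.autGroup R := β₀.2
  have hβq : orderOf β = q := by rw [hβdef, Subgroup.orderOf_coe]; exact hβ₀
  have hcop : q.Coprime p := (Nat.coprime_primes hq hpp).mpr hqp
  have hβpow : β ^ q = 1 := by rw [← hβq]; exact pow_orderOf_eq_one β
  set B : Subgroup (MulAut R) := Cfsg.Inn R ⊔ Subgroup.zpowers β with hBdef
  have hB : Cfsg.Inn R ≤ B := le_sup_left
  have hβB : β ∈ B := (le_sup_right : Subgroup.zpowers β ≤ B) (Subgroup.mem_zpowers β)
  have hBF : B ≤ F.autGroup R := sup_le (inn_le_autGroup F hRS) (by rw [Subgroup.zpowers_le]; exact hβF)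
  have hsat : (autSystem R B hB).IsSaturated p :=
    autSystem_saturated R (hS.to_le hRS) B hB q hcop (pow_mem_inn_of_mem_sup β q hβpow)
  have hsub : (autSystem R B hB).IsSubsystemOf F := autSystem_isSubsystemOf F R hRS B hB hBF
  rcases hsparse R (autSystem R B hB) hsat hsub with ⟨hRS', hEF⟩ | hinner
  swap
  · exact absurd hinner (autSystem_not_inner R (hS.to_le hRS) B hB hq hqp hβB hβq)
  subst hRS'
  -- now `R = S` and `F` is the system of `B`
  have hFB : F.autGroup R = B := by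
    ext α
    rw [mem_autGroup_iff F le_rfl, ← hEF R, ← mem_autGroup_iff (autSystem R B hB) le_rfl,
      autGroup_autSystem]
  have hnormal : F.IsNormal R := by
    refine (isNormal_iff_forall_normExt F R).mpr ⟨le_rfl, fun P φ hφ => ?_⟩
    rw [← hEF P] at hφ
    obtain ⟨hP, b, hb, hφb⟩ := hφ
    have hbF : R.subtype.comp b.toMonoidHom ∈ F.Hom R :=
      (mem_autGroup_iff F le_rfl b).mp (hBF hb)
    exact ⟨R, _, hbF, hP, le_rfl, fun x hx hR => (hφb ⟨x, hx⟩).symm, fun y hy hR => (b _).2⟩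
  -- the subgroup `M = [S, β]`
  set M : Subgroup Ω := Subgroup.closure {y : Ω | ∃ x : R, y = (x : Ω)⁻¹ * ((β x : R) : Ω)} with hM
  have hMR : M ≤ R := by
    rw [hM, Subgroup.closure_le]
    rintro y ⟨x, rfl⟩
    exact R.mul_mem (R.inv_mem x.2) (β x).2
  have hβM : ∀ (y : Ω) (_ : y ∈ M), ∃ hy : y ∈ R, ((β ⟨y, hy⟩ : R) : Ω) ∈ M := by
    intro y hy
    refine Subgroup.closure_induction
      (p := fun y _ => ∃ hy : y ∈ R, ((β ⟨y, hy⟩ : R) : Ω) ∈ M) ?_ ?_ ?_ ?_ hy
    · rintro y ⟨x, rfl⟩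
      refine ⟨R.mul_mem (R.inv_mem x.2) (β x).2, ?_⟩
      have h1 : (⟨(x : Ω)⁻¹ * ((β x : R) : Ω), R.mul_mem (R.inv_mem x.2) (β x).2⟩ : R) =
          x⁻¹ * β x := rfl
      rw [h1, map_mul, map_inv]
      exact Subgroup.subset_closure ⟨β x, rfl⟩
    · refine ⟨R.one_mem, ?_⟩
      have : (⟨1, R.one_mem⟩ : R) = 1 := rfl
      rw [this, map_one]
      exact M.one_mem
    · rintro a b _ _ ⟨haR, ha⟩ ⟨hbR, hb⟩
      refine ⟨R.mul_mem haR hbR, ?_⟩
      have : (⟨a * b, R.mul_mem haR hbR⟩ : R) = ⟨a, haR⟩ * ⟨b, hbR⟩ := rfl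
      rw [this, map_mul]
      exact M.mul_mem ha hb
    · rintro a _ ⟨haR, ha⟩
      refine ⟨R.inv_mem haR, ?_⟩
      have : (⟨a⁻¹, R.inv_mem haR⟩ : R) = (⟨a, haR⟩ : R)⁻¹ := rfl
      rw [this, map_inv]
      exact M.inv_mem ha
  have hfinM : Finite M := finite_of_le hMR
  -- the restriction of `β` to `M`
  let f : M →* M := ((R.subtype.comp β.toMonoidHom).comp (Subgroup.inclusion hMR)).codRestrict M
    (fun y => (hβM y y.2).2)
  have hf : ∀ y : M, ((f y : M) : Ω) = ((β ⟨y, hMR y.2⟩ : R) : Ω) := fun y => rfl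
  have hf_inj : Function.Injective f := by
    intro x y hxy
    have h1 : ((β ⟨x, hMR x.2⟩ : R) : Ω) = ((β ⟨y, hMR y.2⟩ : R) : Ω) := by
      rw [← hf x, ← hf y, hxy]
    have h2 := β.injective (Subtype.ext h1)
    exact Subtype.ext (congrArg (fun z : R => (z : Ω)) h2)
  have hf_bij : Function.Bijective f := ⟨hf_inj, Finite.injective_iff_surjective.mp hf_inj⟩
  let βM : MulAut M := MulEquiv.ofBijective f hf_bij
  have hβM' : ∀ y : M, ((βM y : M) : Ω) = ((β ⟨y, hMR y.2⟩ : R) : Ω) := fun y => rfl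
  have hpowM : ∀ (n : ℕ) (y : M), (((βM ^ n) y : M) : Ω) = (((β ^ n) ⟨y, hMR y.2⟩ : R) : Ω) := by
    intro n
    induction n with
    | zero => intro y; simp
    | succ n ih =>
      intro y
      rw [pow_succ, MulAut.mul_apply, ih, pow_succ, MulAut.mul_apply]
      congr 2
  have hβMq : βM ^ q = 1 := by
    ext y
    rw [hpowM, hβpow]
    rfl
  have hβM1 : βM ≠ 1 := by
    intro h1
    -- `β` fixes `M` pointwise and acts trivially on `R / M`: it is a `p`-element
    have hfix : ∃ k : ℕ, ∀ x ∈ M.subgroupOf R, (β ^ (p ^ k)) x = x := by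
      refine ⟨0, fun x hx => ?_⟩
      have h2 := hβM' ⟨(x : Ω), Subgroup.mem_subgroupOf.mp hx⟩
      rw [h1] at h2
      rw [pow_zero, pow_one]
      exact Subtype.ext h2.symm
    have htop : ∃ k : ℕ, ∀ x ∈ (⊤ : Subgroup R), (β ^ (p ^ k)) x = x := by
      refine unip_step (hS) β (M.subgroupOf R) ⊤ le_top hfix ?_
      intro x _
      exact Subgroup.mem_subgroupOf.mpr (Subgroup.subset_closure ⟨x, rfl⟩)
    obtain ⟨k, hk⟩ := exists_pow_eq_one_of_unip β htop
    have hdvd : q ∣ p ^ k := hβq ▸ orderOf_dvd_of_pow_eq_one hk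
    exact hqp ((Nat.prime_dvd_prime_iff_eq hq hpp).mp (hq.dvd_of_dvd_pow hdvd))
  have : Fact q.Prime := ⟨hq⟩
  have hβMord : orderOf βM = q := orderOf_eq_prime hβMq hβM1
  set B₂ : Subgroup (MulAut M) := Cfsg.Inn M ⊔ Subgroup.zpowers βM with hB₂def
  have hB₂ : Cfsg.Inn M ≤ B₂ := le_sup_left
  have hβMB : βM ∈ B₂ := (le_sup_right : Subgroup.zpowers βM ≤ B₂) (Subgroup.mem_zpowers βM)
  have hβMF : βM ∈ F.autGroup M := by
    rw [mem_autGroup_iff F hMR]
    have h1 : R.subtype.comp β.toMonoidHom ∈ F.Hom R := (mem_autGroup_iff F le_rfl β).mp hβF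
    have h2 := Cfsg.Agent.Lib.helper88.restrict_mem F hMR h1
    have h3 : (R.subtype.comp β.toMonoidHom).comp (Subgroup.inclusion hMR) =
        M.subtype.comp βM.toMonoidHom := by
      ext y
      rfl
    rw [h3] at h2
    exact h2
  have hB₂F : B₂ ≤ F.autGroup M :=
    sup_le (inn_le_autGroup F hMR) (by rw [Subgroup.zpowers_le]; exact hβMF)
  have hsat₂ : (autSystem M B₂ hB₂).IsSaturated p :=
    autSystem_saturated M (hS.to_le hMR) B₂ hB₂ q hcop (pow_mem_inn_of_mem_sup βM q hβMq)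
  have hsub₂ : (autSystem M B₂ hB₂).IsSubsystemOf F := autSystem_isSubsystemOf F M hMR B₂ hB₂ hB₂F
  have hMeq : M = R := by
    rcases hsparse M (autSystem M B₂ hB₂) hsat₂ hsub₂ with ⟨hMS, -⟩ | hinner
    · exact hMS
    · exact absurd hinner (autSystem_not_inner M (hS.to_le hMR) B₂ hB₂ hq hqp hβMB hβMord)
  refine ⟨hnormal, ?_, ?_, q, β, hq, hqp, hβF, hβq, hFB⟩
  · -- focal subgroup
    apply le_antisymm
    · unfold FusionSystem.focalSubgroup
      rw [Subgroup.closure_le]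
      rintro y ⟨P, φ, x, hφ, rfl⟩
      exact R.mul_mem (R.inv_mem ((F.le_of_mem hφ).1 x.2)) ((F.le_of_mem hφ).2 x)
    · refine (le_of_eq hMeq.symm).trans ?_
      rw [hM, Subgroup.closure_le]
      rintro y ⟨x, rfl⟩
      exact Subgroup.subset_closure ⟨R, R.subtype.comp β.toMonoidHom, x,
        (mem_autGroup_iff F le_rfl β).mp hβF, rfl⟩
  · -- hyperfocal subgroup
    apply le_antisymm
    · unfold FusionSystem.hyperfocalSubgroup
      rw [Subgroup.closure_le]
      rintro y ⟨P, α, x, hP, -, rfl⟩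
      exact R.mul_mem (R.inv_mem (hP x.2)) (hP (_ : P).2)
    · refine (le_of_eq hMeq.symm).trans ?_
      rw [hM, Subgroup.closure_le]
      rintro y ⟨x, rfl⟩
      refine Subgroup.subset_closure ⟨R, ⟨β, hβF⟩, x, le_rfl, ?_, rfl⟩
      refine Subgroup.subset_closure ?_
      show (orderOf (⟨β, hβF⟩ : F.autGroup R)).Coprime p
      rw [← Subgroup.orderOf_coe]
      show (orderOf β).Coprime p
      rw [hβq]
      exact hcop

end Cfsg.Agent.S5245
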