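import Cfsg.Statements.S5247
import Cfsg.Agent.Lib.helper87.PStab
import Cfsg.Agent.Lib.helper88.GT3

set_option autoImplicit false
open Cfsg

namespace Cfsg.Agent.S5247

/-- Let p be an odd prime and F a saturated fusion system over a finite p-group S. Call a fusion system E (over any subgroup) p-stable when, for every fully E-normalized subgroup Q and every χ ∈ Aut_E(Q) with χ(a⁻¹)·a·χ(a⁻¹)·χ(χ(a)) = 1 for all a ∈ Q (χ acts quadratically), χ lies in O_p(Aut_E(Q)). Then F is p-stable if and only if every normalizer fusion system N_F(R) of every non-cyclic fully F-normalized subgroup R of S is p-stable. -/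
theorem result {Ω : Type*} [Group Ω] {S : Subgroup Ω} [Finite S] (p : ℕ) [Fact p.Prime] (hS : IsPGroup p S) (F : Cfsg.FusionSystem S) (hF : F.IsSaturated p) (hp : p ≠ 2) : (∀ Q : Subgroup Ω, F.IsFullyNormalized Q → ∀ χ : MulAut ↥Q, χ ∈ F.autGroup Q → (∀ a : ↥Q, (χ a⁻¹) * a * (χ a⁻¹) * (χ (χ a)) = 1) → χ ∈ ((Cfsg.pCore p ↥(F.autGroup Q)).map (F.autGroup Q).subtype : Subgroup (MulAut ↥Q))) ↔ ∀ R : Subgroup Ω, F.IsFullyNormalized R → ¬ IsCyclic ↥R → ∀ N : Cfsg.FusionSystem (Cfsg.FusionSystem.normalizerIn S R), F.IsNormalizerSystem R N → (∀ Q : Subgroup Ω, N.IsFullyNormalized Q → ∀ χ : MulAut ↥Q, χ ∈ N.autGroup Q → (∀ a : ↥Q, (χ a⁻¹) * a * (χ a⁻¹) * (χ (χ a)) = 1) → χ ∈ ((Cfsg.pCore p ↥(N.autGroup Q)).map (N.autGroup Q).subtype : Subgroup (MulAut ↥Q))) := by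
  classical
  constructor
  · intro hst R _ _ N hN
    exact Cfsg.Agent.Lib.helper87.psStable_of_le F (inf_le_left : Cfsg.FusionSystem.normalizerIn S R ≤ S) N
      (fun P φ hφ => Cfsg.Agent.Lib.helper88.hom_of_isNormalizerSystem hN hφ) hst
  · intro h Q hQfn χ hχ hq
    have hQS := hQfn.1
    have hfinQ : Finite Q := Cfsg.Agent.Lib.helper88.finite_of_le hQS
    by_cases hcyc : IsCyclic ↥Q
    · have hcomm : ∀ a ∈ F.autGroup Q, ∀ b ∈ F.autGroup Q, a * b = b * a := by
        intro a _ b _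
        apply (IsCyclic.mulAutMulEquiv Q).injective
        rw [map_mul, map_mul, mul_comm]
      obtain ⟨k, hk⟩ := (hS.to_le hQS).exists_card_eq
      have hpow := Cfsg.Agent.Lib.helper87.psQuad_pow_card (χ := χ) hq
      rw [hk] at hpow
      exact Cfsg.Agent.Lib.helper87.psOp_of_comm p (F.autGroup Q) hcomm hχ hpow
    · have hN := Cfsg.Agent.Lib.helper89.isNormalizerSystem_normalizerSystem F Q hQS
      have hstN := h Q hQfn hcyc _ hN
      have hfinT : Finite (Cfsg.FusionSystem.normalizerIn S Q) :=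
        Cfsg.Agent.Lib.helper88.finite_of_le (inf_le_left : Cfsg.FusionSystem.normalizerIn S Q ≤ S)
      have hQfnN : (Cfsg.Agent.Lib.helper89.normalizerSystem F Q hQS).IsFullyNormalized Q :=
        Cfsg.Agent.Lib.helper88.fullyNormalized_of_le_normalizer _
          (Cfsg.Agent.Lib.helper89.le_normalizerIn hQS)
          (inf_le_right : Cfsg.FusionSystem.normalizerIn S Q ≤ Subgroup.normalizer (Q : Set Ω))
      have hχN : χ ∈ (Cfsg.Agent.Lib.helper89.normalizerSystem F Q hQS).autGroup Q := by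
        rw [Cfsg.Agent.Lib.helper88.autGroup_normalizerSystem F hQS _ hN]
        exact hχ
      have h1 := hstN Q hQfnN χ hχN hq
      rw [Cfsg.Agent.Lib.helper88.autGroup_normalizerSystem F hQS _ hN] at h1
      exact h1

end Cfsg.Agent.S5247
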