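import Cfsg.Statements.S5249
import Cfsg.Agent.Lib.helper3.QdChain
import Cfsg.Agent.Lib.helper88.Solvable
import Cfsg.Agent.Lib.helper88.GroupSat

set_option autoImplicit false
open Cfsg

namespace Cfsg.Agent.S5249

open Cfsg.FusionSystem Cfsg.Agent.Lib.helper3 Cfsg.Agent.Lib.helper88

/-- Strong closure with respect to the group gives strong closure in the fusion system. -/
theorem stronglyClosed_of_isStronglyClosed {G : Type*} [Group G] {P T : Subgroup G}
    (h : Cfsg.IsStronglyClosed T P) : (Cfsg.groupFusionSystem P).StronglyClosed T := by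
  refine ⟨h.1, fun R hR φ hφ x => ?_⟩
  obtain ⟨-, hφP, g, hg⟩ := hφ
  have h1 := hφP x
  rw [hg] at h1 ⊢
  exact h.2 _ (hR x.2) g h1

/-- Let p be an odd prime, G a finite group in which Qd(p) (the natural semidirect product of an elementary abelian group of order p² by SL₂(p)) is not involved, and P a Sylow p-subgroup of G. Then the fusion system of G on P is a solvable fusion system. -/
theorem result {G : Type*} [Group G] [Finite G] {p : ℕ} [Fact p.Prime] (hp : p ≠ 2) (hqd : ¬ Cfsg.Involves ↥(Cfsg.qd p) G) (P : Sylow p G) : (Cfsg.groupFusionSystem (P : Subgroup G)).IsSolvableSystem := by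
  intro R hR hne _ E hE
  obtain ⟨n, T, hT0, hTl, hTsc, hTc⟩ := (scReach_of_qd_free hp _ G P rfl hqd).exists_chain
  have hS' : IsPGroup p ↥(⊤ : Subgroup (↥(P : Subgroup G) ⧸ R.subgroupOf (P : Subgroup G))) := by
    have h1 : IsPGroup p (↥(P : Subgroup G) ⧸ R.subgroupOf (P : Subgroup G)) :=
      P.isPGroup'.to_quotient _
    exact h1.to_subgroup _
  exact core_ne_bot_of_chain P.isPGroup' (Cfsg.groupFusionSystem (P : Subgroup G))
    (groupFusionSystem_saturated P) T hT0 hTl
    (fun i => stronglyClosed_of_isStronglyClosed (hTsc i)) hTc hR hne hS'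
    (QuotientGroup.mk' (R.subgroupOf (P : Subgroup G))) E hE

end Cfsg.Agent.S5249
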