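import Cfsg.Statements.S5254
import Cfsg.Agent.Lib.helper89.AbJB

set_option autoImplicit false
open Cfsg

namespace Cfsg.Agent.S5254

open Cfsg.Agent.Lib.helper89 Cfsg.FusionSystem in
/-- Let p be an odd prime, S a finite nonabelian p-group with a unique abelian subgroup A of index p, and F a saturated fusion system over S. Then every F-essential subgroup P is A, or Z(S)⟨x⟩ for some x ∈ S outside A, or (when the second centre Z₂(S) lies in A) Z₂(S)⟨x⟩ for some x ∈ S outside A; and P has index p in its normalizer in S. -/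
theorem result {Ω : Type*} [Group Ω] {S : Subgroup Ω} [Finite S] (p : ℕ) [Fact p.Prime] (hS : IsPGroup p S) (F : Cfsg.FusionSystem S) (hF : F.IsSaturated p) (hp : p ≠ 2) (hna : ¬ IsMulCommutative ↥S) (A : Subgroup Ω) (hA : A ≤ S ∧ IsMulCommutative ↥A ∧ (A.subgroupOf S).index = p) (huniq : ∀ B : Subgroup Ω, B ≤ S → IsMulCommutative ↥B → (B.subgroupOf S).index = p → B = A) (P : Subgroup Ω) (hP : F.IsEssential p P) : (P = A ∨ (∃ x ∈ S, x ∉ A ∧ P = (S ⊓ Subgroup.centralizer (S : Set Ω)) ⊔ Subgroup.zpowers x) ∨ (((upperCentralSeries ↥S 2).map S.subtype) ≤ A ∧ ∃ x ∈ S, x ∉ A ∧ P = ((upperCentralSeries ↥S 2).map S.subtype) ⊔ Subgroup.zpowers x)) ∧ (P.subgroupOf (S ⊓ Subgroup.normalizer (P : Set Ω))).index = p := by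
  obtain ⟨hAS, hAc, hAidx⟩ := hA
  have hcardsub : ∀ B : Subgroup Ω, B ≤ S → Nat.card (B.subgroupOf S) = Nat.card B := by
    intro B hBS
    rw [← Subgroup.card_subtype S (B.subgroupOf S), Subgroup.map_subgroupOf_eq_of_le hBS]
  have hcardA : Nat.card S = p * Nat.card A := by
    have h1 := Subgroup.card_mul_index (A.subgroupOf S)
    rw [hcardsub A hAS, hAidx] at h1
    rw [← h1, mul_comm]
  have H : AJHyp p F A :=
    { pS := hS
      sat := hF
      AS := hAS
      comm := fun u hu v hv => by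
        have h1 := hAc.is_comm.comm (⟨u, hu⟩ : A) ⟨v, hv⟩
        exact congrArg Subtype.val h1
      card := hcardA
      uniq := fun B hBS hBc hBcard => by
        apply huniq B hBS
        · exact ⟨⟨fun a b => Subtype.ext (hBc a a.2 b b.2)⟩⟩
        · have hfinB : Finite B := finite_of_le hBS
          have h1 := Subgroup.card_mul_index (B.subgroupOf S)
          rw [hcardsub B hBS, hBcard] at h1
          have hBpos : 0 < Nat.card B := Nat.card_pos
          apply Nat.eq_of_mul_eq_mul_left hBpos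
          rw [h1, mul_comm]
      nonab := by
        by_contra hcon
        apply hna
        refine ⟨⟨fun a b => ?_⟩⟩
        by_contra hne
        exact hcon ⟨a, a.2, b, b.2, fun h => hne (Subtype.ext h)⟩ }
  by_cases hPA : P = A
  · subst hPA
    refine ⟨Or.inl rfl, ?_⟩
    have h1 : S ⊓ Subgroup.normalizer (P : Set Ω) = S := inf_eq_left.mpr H.normal
    rw [h1]
    exact hAidx
  · have hPS : P ≤ S := hP.1.1
    obtain ⟨x, hxP, hxA⟩ := H.exists_not_mem hP hPA
    have hfinK : Finite ↥(S ⊓ Subgroup.normalizer (P : Set Ω)) := finite_of_le inf_le_left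
    have hidx : (P.subgroupOf (S ⊓ Subgroup.normalizer (P : Set Ω))).index = p :=
      index_subgroupOf_of_card (le_inf hPS Subgroup.le_normalizer) (H.card_normalizer hP hPA)
    refine ⟨Or.inr ?_, hidx⟩
    by_cases hab : ∀ u ∈ P, ∀ v ∈ P, u * v = v * u
    · left
      exact ⟨x, hPS hxP, hxA, H.ess_eq hP hPA hab hxP hxA⟩
    · right
      obtain ⟨h1, h2, -⟩ := H.ess_nonab hP hab hxP hxA
      exact ⟨h1, x, hPS hxP, hxA, h2⟩

end Cfsg.Agent.S5254
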