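-- Statement S5255: for a strongly closed `T`, the subgroup `T C_S(T)` is strongly closed.
import Cfsg.Statements.S5255
import Cfsg.Agent.Lib.helper89.FusionClosed

set_option autoImplicit false
open Cfsg

namespace Cfsg.Agent.S5255

open Cfsg.Agent.Lib.helper89 Cfsg.FusionSystem

variable {Ω : Type*} [Group Ω]

/-- The elements of `S` acting on `T` as an inner automorphism of `T`, as a subgroup. -/
def innerActing (S T : Subgroup Ω) : Subgroup Ω where
  carrier := {x | x ∈ S ∧ ∃ t ∈ T, t⁻¹ * x ∈ Subgroup.centralizer (T : Set Ω)}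
  one_mem' := ⟨S.one_mem, 1, T.one_mem, by simp⟩
  mul_mem' := by
    rintro x y ⟨hx, t, ht, hxt⟩ ⟨hy, u, hu, hyu⟩
    refine ⟨S.mul_mem hx hy, t * u, T.mul_mem ht hu, ?_⟩
    have h1 : u * (t⁻¹ * x) = (t⁻¹ * x) * u := hxt u hu
    have h2 : (t * u)⁻¹ * (x * y) = (t⁻¹ * x) * (u⁻¹ * y) := by
      calc (t * u)⁻¹ * (x * y) = u⁻¹ * ((t⁻¹ * x) * u) * (u⁻¹ * y) := by group
        _ = u⁻¹ * (u * (t⁻¹ * x)) * (u⁻¹ * y) := by rw [h1]
        _ = (t⁻¹ * x) * (u⁻¹ * y) := by group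
    rw [h2]
    exact Subgroup.mul_mem _ hxt hyu
  inv_mem' := by
    rintro x ⟨hx, t, ht, hxt⟩
    refine ⟨S.inv_mem hx, t⁻¹, T.inv_mem ht, ?_⟩
    have h1 : t * (t⁻¹ * x) = (t⁻¹ * x) * t := hxt t ht
    have h2 : t⁻¹⁻¹ * x⁻¹ = (t⁻¹ * x)⁻¹ := by
      have h3 : x * t⁻¹ = t⁻¹ * x := by
        calc x * t⁻¹ = (t * (t⁻¹ * x)) * t⁻¹ := by group
          _ = ((t⁻¹ * x) * t) * t⁻¹ := by rw [h1]
          _ = t⁻¹ * x := by group
      calc t⁻¹⁻¹ * x⁻¹ = (x * t⁻¹)⁻¹ := by group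
        _ = (t⁻¹ * x)⁻¹ := by rw [h3]
    rw [h2]
    exact Subgroup.inv_mem _ hxt

theorem mem_innerActing {S T : Subgroup Ω} {x : Ω} :
    x ∈ innerActing S T ↔ x ∈ S ∧ ∃ t ∈ T, t⁻¹ * x ∈ Subgroup.centralizer (T : Set Ω) := Iff.rfl

theorem sup_eq_innerActing {S T : Subgroup Ω} (hTS : T ≤ S) :
    T ⊔ centralizerIn S T = innerActing S T := by
  apply le_antisymm
  · refine sup_le ?_ ?_
    · intro t ht
      exact ⟨hTS ht, t, ht, by simp⟩
    · intro c hc
      exact ⟨hc.1, 1, T.one_mem, by simpa using hc.2⟩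
  · rintro x ⟨hx, t, ht, hxt⟩
    have h1 : x = t * (t⁻¹ * x) := by group
    rw [h1]
    refine Subgroup.mul_mem _ (Subgroup.mem_sup_left ht) (Subgroup.mem_sup_right ⟨?_, hxt⟩)
    exact S.mul_mem (S.inv_mem (hTS ht)) hx

/-- Let F be a saturated fusion system over a finite p-group S and T a subgroup of S strongly closed in F. Then T·C_S(T) is strongly closed in F. -/
theorem result {Ω : Type*} [Group Ω] {S : Subgroup Ω} [Finite S] (p : ℕ) [Fact p.Prime] (hS : IsPGroup p S) (F : Cfsg.FusionSystem S) (hF : F.IsSaturated p) (T : Subgroup Ω) (hT : F.StronglyClosed T) : F.StronglyClosed (T ⊔ Cfsg.FusionSystem.centralizerIn S T) := by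
  have hTS : T ≤ S := hT.1
  have hTn : ∀ g ∈ S, ∀ t ∈ T, g * t * g⁻¹ ∈ T := fun g hg t ht => conj_mem_of_stronglyClosed F hT hg ht
  rw [sup_eq_innerActing hTS]
  set X : Subgroup Ω := innerActing S T with hXdef
  have hXS : X ≤ S := fun x hx => hx.1
  have hTX : T ≤ X := fun t ht => ⟨hTS ht, t, ht, by simp⟩
  -- `X` is normalized by `S`
  have hXn1 : ∀ g ∈ S, ∀ x : Ω, x ∈ X → g * x * g⁻¹ ∈ X := by
    rintro g hg x ⟨hx, t, ht, hxt⟩
    refine ⟨S.mul_mem (S.mul_mem hg hx) (S.inv_mem hg), g * t * g⁻¹, hTn g hg t ht, ?_⟩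
    have h1 : (g * t * g⁻¹)⁻¹ * (g * x * g⁻¹) = g * (t⁻¹ * x) * g⁻¹ := by group
    rw [h1, Subgroup.mem_centralizer_iff]
    intro u hu
    have hu' : g⁻¹ * u * g⁻¹⁻¹ ∈ T := hTn g⁻¹ (S.inv_mem hg) u hu
    have h2 := hxt _ hu'
    calc u * (g * (t⁻¹ * x) * g⁻¹) = g * ((g⁻¹ * u * g⁻¹⁻¹) * (t⁻¹ * x)) * g⁻¹ := by group
      _ = g * ((t⁻¹ * x) * (g⁻¹ * u * g⁻¹⁻¹)) * g⁻¹ := by rw [h2]
      _ = g * (t⁻¹ * x) * g⁻¹ * u := by group
  have hXn : ∀ g ∈ S, ∀ x : Ω, x ∈ (X : Set Ω) ↔ g * x * g⁻¹ ∈ (X : Set Ω) := by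
    intro g hg x
    constructor
    · exact hXn1 g hg x
    · intro h
      have h1 := hXn1 g⁻¹ (S.inv_mem hg) _ h
      have h2 : g⁻¹ * (g * x * g⁻¹) * g⁻¹⁻¹ = x := by group
      rw [h2] at h1
      exact h1
  set E : FusionSystem S := preservingSystem F (X : Set Ω) hXn with hEdef
  have hmain : ∀ P : Subgroup Ω, F.Hom P ⊆ E.Hom P := by
    refine saturated_induction F E hS hF ?_
    intro R hfa hrec hIH α hα
    have hRS : R ≤ S := hfa.1
    have hfinR : Finite R := finite_of_le hRS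
    -- it suffices to show that `F`-automorphisms of `R` map `R ∩ X` into `X`
    have hstar : ∀ γ : MulAut R, γ ∈ F.autGroup R → ∀ x : R, (x : Ω) ∈ X → ((γ x : R) : Ω) ∈ X := by
      intro γ hγ x hx
      by_cases hTR : T ≤ R
      · -- case `T ≤ R`
        obtain ⟨hxS, t, ht, hxt⟩ := hx
        set t' : R := ⟨t, hTR ht⟩ with ht'
        set c' : R := t'⁻¹ * x with hc'
        have hxtc : x = t' * c' := by rw [hc']; group
        have hγt : ((γ t' : R) : Ω) ∈ T := aut_mem_of_stronglyClosed F hT hRS hγ t' ht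
        refine ⟨hRS (γ x).2, ((γ t' : R) : Ω), hγt, ?_⟩
        have h1 : ((γ t' : R) : Ω)⁻¹ * ((γ x : R) : Ω) = ((γ c' : R) : Ω) := by
          rw [hxtc, map_mul]
          simp
        rw [h1, Subgroup.mem_centralizer_iff]
        intro u hu
        -- `u = γ u'` with `u' ∈ T`
        have hγinv : γ⁻¹ ∈ F.autGroup R := (F.autGroup R).inv_mem hγ
        set u' : R := γ⁻¹ ⟨u, hTR hu⟩ with hu'
        have hu'T : (u' : Ω) ∈ T := aut_mem_of_stronglyClosed F hT hRS hγinv ⟨u, hTR hu⟩ hu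
        have hγu' : γ u' = ⟨u, hTR hu⟩ := by simp [hu']
        have hcomm : u' * c' = c' * u' := by
          apply Subtype.ext
          exact hxt (u' : Ω) hu'T
        have h2 : γ u' * γ c' = γ c' * γ u' := by rw [← map_mul, ← map_mul, hcomm]
        rw [hγu'] at h2
        have := congrArg (fun z : R => (z : Ω)) h2
        simpa using this
      · -- case `T ≰ R`
        obtain ⟨w, hwT, hwN, hwR⟩ := exists_normalizing_not_mem hS hTS hRS hTn hTR
        have hwS : w ∈ S := hTS hwT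
        obtain ⟨c, hc⟩ := exists_conj_aut F hRS hwS
          (fun x hx => (Subgroup.mem_normalizer_iff.mp hwN x).mp hx)
        have hcT : c ∈ autInducedBy T R := (mem_autInducedBy_iff T R c).mpr ⟨w, hwT, hc⟩
        -- the normal subgroup `D` of `Aut_F(R)` of automorphisms acting trivially modulo `T`
        let D : Subgroup (MulAut R) :=
          { carrier := {δ | δ ∈ F.autGroup R ∧ ∀ x : R, ((δ x : R) : Ω) * (x : Ω)⁻¹ ∈ T}
            one_mem' := ⟨(F.autGroup R).one_mem, fun x => by simp [T.one_mem]⟩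
            mul_mem' := by
              rintro δ ε ⟨hδ, hδT⟩ ⟨hε, hεT⟩
              refine ⟨(F.autGroup R).mul_mem hδ hε, fun x => ?_⟩
              have h1 : (((δ * ε) x : R) : Ω) * (x : Ω)⁻¹ =
                  (((δ (ε x) : R) : Ω) * ((ε x : R) : Ω)⁻¹) * (((ε x : R) : Ω) * (x : Ω)⁻¹) := by
                rw [MulAut.mul_apply]; group
              rw [h1]
              exact T.mul_mem (hδT _) (hεT _)
            inv_mem' := by
              rintro δ ⟨hδ, hδT⟩
              refine ⟨(F.autGroup R).inv_mem hδ, fun x => ?_⟩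
              have h1 := hδT (δ⁻¹ x)
              have h2 : δ (δ⁻¹ x) = x := by simp
              rw [h2] at h1
              have h3 : ((δ⁻¹ x : R) : Ω) * (x : Ω)⁻¹ = ((x : Ω) * ((δ⁻¹ x : R) : Ω)⁻¹)⁻¹ := by group
              rw [h3]
              exact T.inv_mem h1 }
        have hDA : D ≤ F.autGroup R := fun δ hδ => hδ.1
        have hDn : ∀ a ∈ F.autGroup R, ∀ d ∈ D, a * d * a⁻¹ ∈ D := by
          rintro a ha d ⟨hd, hdT⟩
          refine ⟨(F.autGroup R).mul_mem ((F.autGroup R).mul_mem ha hd) ((F.autGroup R).inv_mem ha),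
            fun x => ?_⟩
          set y : R := a⁻¹ x with hy
          have hx : x = a y := by simp [hy]
          have h1 : ((a * d * a⁻¹) x : R) = a (d y * y⁻¹) * x := by
            rw [hx]
            simp [MulAut.mul_apply]
          have h2 : (((a * d * a⁻¹) x : R) : Ω) * (x : Ω)⁻¹ = ((a (d y * y⁻¹) : R) : Ω) := by
            rw [h1]
            simp
          rw [h2]
          exact aut_mem_of_stronglyClosed F hT hRS ha (d y * y⁻¹) (hdT y)
        have hATD : autInducedBy T R ≤ D := by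
          intro δ hδ
          refine ⟨autInducedBy_le_autGroup F hRS (autInducedBy_mono hTS R hδ), fun x => ?_⟩
          obtain ⟨v, hv, hδv⟩ := (mem_autInducedBy_iff T R δ).mp hδ
          rw [hδv]
          have h1 : v * (x : Ω) * v⁻¹ * (x : Ω)⁻¹ = v * ((x : Ω) * v⁻¹ * (x : Ω)⁻¹) := by group
          rw [h1]
          exact T.mul_mem hv (hTn _ (hRS x.2) _ (T.inv_mem hv))
        -- elements of `D` map `R ∩ X` into `X`
        have hDX : ∀ d ∈ D, ∀ x : R, (x : Ω) ∈ X → ((d x : R) : Ω) ∈ X := by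
          rintro d ⟨-, hdT⟩ x hx
          have h1 : ((d x : R) : Ω) = (((d x : R) : Ω) * (x : Ω)⁻¹) * (x : Ω) := by group
          rw [h1]
          exact X.mul_mem (hTX (hdT x)) hx
        -- conjugate `γ Aut_T(R) γ⁻¹` into `Aut_S(R)` by an element of `D`
        set H : Subgroup (MulAut R) := (autInducedBy T R).map (MulAut.conj γ).toMonoidHom with hH
        have hHD : H ≤ D := by
          rintro _ ⟨δ, hδ, rfl⟩
          exact hDn γ hγ δ (hATD hδ)
        have hHp : IsPGroup p H := (isPGroup_autInducedBy hS hTS R).map _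
        obtain ⟨k, hk, hkH⟩ := exists_conj_into_autS_of_normal F hfa D hDA hDn H hHD hHp
        set β : MulAut R := k * γ with hβ
        have hβA : β ∈ F.autGroup R := (F.autGroup R).mul_mem (hDA hk) hγ
        have hconj : β * c * β⁻¹ ∈ autInducedBy S R := by
          have h1 : β * c * β⁻¹ = k * (γ * c * γ⁻¹) * k⁻¹ := by rw [hβ]; group
          rw [h1]
          exact hkH _ (Subgroup.mem_map_of_mem _ hcT)
        obtain ⟨N, hRN, ψ, hψ, hψR⟩ := exists_extension_of_conj_mem F hrec hβA hwS hwN hwR hc hconj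
        have hψE : ψ ∈ E.Hom N := hIH N hRN hψ
        have hβx : ((β x : R) : Ω) ∈ X := by
          rw [← hψR x (hRN.le x.2)]
          exact (hψE.2 ⟨(x : Ω), hRN.le x.2⟩).mp hx
        have hkinv : k⁻¹ ∈ D := D.inv_mem hk
        have h2 := hDX k⁻¹ hkinv (β x) hβx
        have h3 : k⁻¹ (β x) = γ x := by simp [hβ, MulAut.mul_apply]
        rw [h3] at h2
        exact h2
    refine ⟨(mem_autGroup_iff F hRS α).mp hα, fun x => ⟨fun hx => hstar α hα x hx, fun hx => ?_⟩⟩
    have h1 := hstar α⁻¹ ((F.autGroup R).inv_mem hα) (α x) hx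
    have h2 : α⁻¹ (α x) = x := by simp
    rw [h2] at h1
    exact h1
  exact ⟨hXS, fun R' hR'X φ hφ x => ((hmain R' hφ).2 x).mp (hR'X x.2)⟩

end Cfsg.Agent.S5255
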