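-- Statement S5256: the hyperfocal subgroup of a factor system.
import Cfsg.Statements.S5256
import Cfsg.Agent.Lib.helper89.FusionQuotient

set_option autoImplicit false
open Cfsg

namespace Cfsg.Agent.S5256

open Cfsg.Agent.Lib.helper89 Cfsg.FusionSystem

section moves

variable {Ω' : Type*} [Group Ω'] {P' : Subgroup Ω'}

theorem moves_mul (H : Subgroup Ω') (α β : MulAut P')
    (hα : ∀ x : P', (x : Ω')⁻¹ * ((α x : P') : Ω') ∈ H)
    (hβ : ∀ x : P', (x : Ω')⁻¹ * ((β x : P') : Ω') ∈ H) :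
    ∀ x : P', (x : Ω')⁻¹ * (((α * β) x : P') : Ω') ∈ H := by
  intro x
  have h1 : (x : Ω')⁻¹ * (((α * β) x : P') : Ω') =
      ((x : Ω')⁻¹ * ((β x : P') : Ω')) * (((β x : P') : Ω')⁻¹ * ((α (β x) : P') : Ω')) := by
    rw [MulAut.mul_apply]; group
  rw [h1]
  exact H.mul_mem (hβ x) (hα (β x))

theorem moves_inv (H : Subgroup Ω') (α : MulAut P')
    (hα : ∀ x : P', (x : Ω')⁻¹ * ((α x : P') : Ω') ∈ H) :
    ∀ x : P', (x : Ω')⁻¹ * ((α⁻¹ x : P') : Ω') ∈ H := by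
  intro x
  have h1 := hα (α⁻¹ x)
  have h2 : α (α⁻¹ x) = x := by simp
  rw [h2] at h1
  have h3 : (x : Ω')⁻¹ * ((α⁻¹ x : P') : Ω') = (((α⁻¹ x : P') : Ω')⁻¹ * (x : Ω'))⁻¹ := by group
  rw [h3]
  exact H.inv_mem h1

theorem moves_one (H : Subgroup Ω') :
    ∀ x : P', (x : Ω')⁻¹ * (((1 : MulAut P') x : P') : Ω') ∈ H := by
  intro x
  simp [H.one_mem]

theorem moves_pow (H : Subgroup Ω') (α : MulAut P')
    (hα : ∀ x : P', (x : Ω')⁻¹ * ((α x : P') : Ω') ∈ H) (j : ℕ) :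
    ∀ x : P', (x : Ω')⁻¹ * (((α ^ j) x : P') : Ω') ∈ H := by
  induction j with
  | zero => rw [pow_zero]; exact moves_one H
  | succ j ih => rw [pow_succ]; exact moves_mul H _ _ ih hα

/-- If every generator of `O^p(A)` (element of order prime to `p`) moves the elements of `P'` by
elements of `H`, so does every element of `O^p(A)`. -/
theorem moves_pResidual (p : ℕ) (A : Subgroup (MulAut P')) (H : Subgroup Ω')
    (h : ∀ a : A, Nat.Coprime (orderOf a) p →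
      ∀ x : P', (x : Ω')⁻¹ * (((a : MulAut P') x : P') : Ω') ∈ H) :
    ∀ a : A, a ∈ Cfsg.pResidual p A →
      ∀ x : P', (x : Ω')⁻¹ * (((a : MulAut P') x : P') : Ω') ∈ H := by
  intro a ha
  unfold Cfsg.pResidual at ha
  refine Subgroup.closure_induction
    (p := fun (a : A) _ => ∀ x : P', (x : Ω')⁻¹ * (((a : MulAut P') x : P') : Ω') ∈ H)
    ?_ ?_ ?_ ?_ ha
  · intro b hb
    exact h b hb
  · exact moves_one H
  · intro b c _ _ hb hc
    exact moves_mul H _ _ hb hc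
  · intro b _ hb
    exact moves_inv H _ hb

end moves

variable {Ω : Type*} [Group Ω] {S : Subgroup Ω} {Ω' : Type*} [Group Ω'] {S' : Subgroup Ω'}

theorem mem_preimageAlong (θ : S →* Ω') (K : Subgroup Ω') (y : Ω) :
    y ∈ preimageAlong θ K ↔ ∃ hy : y ∈ S, θ ⟨y, hy⟩ ∈ K := by
  constructor
  · rintro ⟨s, hs, rfl⟩
    exact ⟨s.2, hs⟩
  · rintro ⟨hy, h⟩
    exact ⟨⟨y, hy⟩, h, rfl⟩

theorem preimageAlong_le (θ : S →* Ω') (K : Subgroup Ω') : preimageAlong θ K ≤ S := by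
  intro y hy
  exact ((mem_preimageAlong θ K y).mp hy).1

theorem mem_imageAlong (θ : S →* Ω') (P : Subgroup Ω) (y : Ω') :
    y ∈ imageAlong θ P ↔ ∃ (x : Ω) (hx : x ∈ S), x ∈ P ∧ θ ⟨x, hx⟩ = y := by
  constructor
  · rintro ⟨s, hs, rfl⟩
    exact ⟨s, s.2, Subgroup.mem_subgroupOf.mp hs, rfl⟩
  · rintro ⟨x, hx, hxP, rfl⟩
    exact ⟨⟨x, hx⟩, Subgroup.mem_subgroupOf.mpr hxP, rfl⟩

/-- Lifting automorphisms of the factor system. -/
theorem exists_lift_aut [Finite S] (F : FusionSystem S) (T : Subgroup Ω) (θ : S →* Ω')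
    (E : FusionSystem S') (hE : F.IsFactorSystem T θ E) (P' : Subgroup Ω') (hP' : P' ≤ S')
    (α' : MulAut P') (hα' : α' ∈ E.autGroup P') :
    ∃ α ∈ F.autGroup (preimageAlong θ P'),
      ∀ (x : ↥(preimageAlong θ P')) (hxS : (x : Ω) ∈ S) (hx' : θ ⟨x, hxS⟩ ∈ P')
        (hαS : ((α x : ↥(preimageAlong θ P')) : Ω) ∈ S),
        ((α' ⟨θ ⟨x, hxS⟩, hx'⟩ : P') : Ω') = θ ⟨((α x : ↥(preimageAlong θ P')) : Ω), hαS⟩ := by
  obtain ⟨hTS, hker, hrange, hhom⟩ := hE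
  have hφ' : P'.subtype.comp α'.toMonoidHom ∈ E.Hom P' := (mem_autGroup_iff E hP' α').mp hα'
  obtain ⟨-, φ, hφ, hP, hφS, hPP', hind⟩ := (hhom P' _).mp hφ'
  have hmaps : ∀ x : ↥(preimageAlong θ P'), φ x ∈ preimageAlong θ P' := by
    intro x
    rw [mem_preimageAlong]
    refine ⟨hφS x, ?_⟩
    rw [← hind x]
    exact (α' _).2
  obtain ⟨α, hα⟩ := exists_aut_of_mem F hφ hmaps
  refine ⟨α, ?_, ?_⟩
  · rw [mem_autGroup_iff F (preimageAlong_le θ P')]
    have : (preimageAlong θ P').subtype.comp α.toMonoidHom = φ := by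
      ext x
      exact hα x
    rw [this]
    exact hφ
  · intro x hxS hx' hαS
    have h1 := hind x
    have h2 : (⟨((α x : ↥(preimageAlong θ P')) : Ω), hαS⟩ : S) = ⟨φ x, hφS x⟩ :=
      Subtype.ext (hα x)
    rw [h2, ← h1]
    rfl

/-- Automorphisms of `F` induce automorphisms of the factor system (`F` saturated, `T` strongly
closed). -/
theorem exists_induced_aut [Finite S] {p : ℕ} [Fact p.Prime] (hS : IsPGroup p S)
    (F : FusionSystem S) (hF : F.IsSaturated p) (T : Subgroup Ω) (hT : F.StronglyClosed T)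
    (θ : S →* Ω') (E : FusionSystem S') (hE : F.IsFactorSystem T θ E) (P : Subgroup Ω) (hP : P ≤ S)
    (α : MulAut P) (hα : α ∈ F.autGroup P) :
    ∃ α' ∈ E.autGroup (imageAlong θ P), ∀ (x : P) (hx' : θ ⟨x, hP x.2⟩ ∈ imageAlong θ P),
      ((α' ⟨θ ⟨x, hP x.2⟩, hx'⟩ : ↥(imageAlong θ P)) : Ω') = θ ⟨((α x : P) : Ω), hP (α x).2⟩ := by
  obtain ⟨hTS, hker, hrange, hhom⟩ := hE
  have hfinS' : Finite S' := by
    have : Finite θ.range := Finite.of_surjective _ θ.rangeRestrict_surjective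
    exact hrange ▸ this
  have hφ : P.subtype.comp α.toMonoidHom ∈ F.Hom P := (mem_autGroup_iff F hP α).mp hα
  obtain ⟨N, ψ, hψ, hPN, hTN, hψP⟩ := quotExt_of_saturated F hS hF T hT P _ hφ
  have hNS : N ≤ S := le_of_hom F hψ
  have hψS : ∀ x : N, ψ x ∈ S := (F.le_of_mem hψ).2
  set P' : Subgroup Ω' := imageAlong θ P with hP'def
  have hP'S' : P' ≤ S' := by
    rintro _ ⟨s, -, rfl⟩
    rw [← hrange]
    exact ⟨s, rfl⟩
  have himg : ∀ (x : Ω) (hx : x ∈ P), θ ⟨x, hP hx⟩ ∈ P' := fun x hx =>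
    (mem_imageAlong θ P _).mpr ⟨x, hP hx, hx, rfl⟩
  have hPhatN : preimageAlong θ P' ≤ N := by
    intro y hy
    obtain ⟨hyS, hy'⟩ := (mem_preimageAlong θ P' y).mp hy
    obtain ⟨z, hzS, hzP, hz⟩ := (mem_imageAlong θ P _).mp hy'
    have h1 : θ (⟨z, hzS⟩⁻¹ * ⟨y, hyS⟩) = 1 := by
      rw [map_mul, map_inv, hz, inv_mul_cancel]
    have h2 : z⁻¹ * y ∈ T := (hker _).mp h1
    have h3 : y = z * (z⁻¹ * y) := by group
    rw [h3]
    exact N.mul_mem (hPN hzP) (hTN h2)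
  have hPhatS : preimageAlong θ P' ≤ S := preimageAlong_le θ P'
  have hψhat := Cfsg.Agent.Lib.helper88.restrict_mem F hPhatN hψ
  set ψhat : ↥(preimageAlong θ P') →* Ω := ψ.comp (Subgroup.inclusion hPhatN) with hψhatdef
  have hψhatS : ∀ x : ↥(preimageAlong θ P'), ψhat x ∈ S := fun x => hψS _
  -- the key congruence: `θ (ψ x) = θ (α x)` for `x ∈ P`
  have hcong : ∀ (x : Ω) (hx : x ∈ P),
      θ ⟨ψ ⟨x, hPN hx⟩, hψS _⟩ = θ ⟨((α ⟨x, hx⟩ : P) : Ω), hP (α ⟨x, hx⟩).2⟩ := by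
    intro x hx
    have h1 := hψP x hx (hPN hx)
    have h2 : θ (⟨((α ⟨x, hx⟩ : P) : Ω), hP (α ⟨x, hx⟩).2⟩ * (⟨ψ ⟨x, hPN hx⟩, hψS _⟩ : S)⁻¹) = 1 :=
      (hker _).mpr h1
    rw [map_mul, map_inv, mul_inv_eq_one] at h2
    exact h2.symm
  let f : ↥(preimageAlong θ P') →* P' :=
    (θ.comp (Subgroup.inclusion hPhatS)).codRestrict P'
      (fun x => ((mem_preimageAlong θ P' x).mp x.2).2)
  have hf : Function.Surjective f := by
    rintro ⟨y, hy⟩
    obtain ⟨z, hzS, hzP, hz⟩ := (mem_imageAlong θ P _).mp hy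
    refine ⟨⟨z, (mem_preimageAlong θ P' z).mpr ⟨hzS, himg z hzP⟩⟩, ?_⟩
    exact Subtype.ext hz
  let g : ↥(preimageAlong θ P') →* Ω' := θ.comp (ψhat.codRestrict S hψhatS)
  have hfg : f.ker ≤ g.ker := by
    intro x hx
    rw [MonoidHom.mem_ker] at hx ⊢
    have h1 : θ ⟨(x : Ω), hPhatS x.2⟩ = 1 := congrArg Subtype.val hx
    have h2 : (x : Ω) ∈ T := (hker _).mp h1
    have h3 : ψ ⟨(x : Ω), hTN h2⟩ ∈ T := hom_mem_of_stronglyClosed F hT hψ hTN _ h2
    exact (hker ⟨ψ ⟨(x : Ω), hTN h2⟩, hψS _⟩).mpr h3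
  set φ' : P' →* Ω' := f.liftOfSurjective hf ⟨g, hfg⟩ with hφ'def
  have hφ'f : ∀ x : ↥(preimageAlong θ P'), φ' (f x) = g x := fun x =>
    MonoidHom.liftOfRightInverse_comp_apply _ _ _ ⟨g, hfg⟩ x
  have hφ'E : φ' ∈ E.Hom P' := by
    refine (hhom P' φ').mpr ⟨hP'S', ψhat, hψhat, hPhatS, hψhatS,
      fun x => ((mem_preimageAlong θ P' x).mp x.2).2, fun x => ?_⟩
    exact hφ'f x
  -- values of `φ'` on images of elements of `P`
  have hφ'P : ∀ (x : Ω) (hx : x ∈ P),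
      φ' ⟨θ ⟨x, hP hx⟩, himg x hx⟩ = θ ⟨((α ⟨x, hx⟩ : P) : Ω), hP (α ⟨x, hx⟩).2⟩ := by
    intro x hx
    have h1 := hφ'f ⟨x, (mem_preimageAlong θ P' x).mpr ⟨hP hx, himg x hx⟩⟩
    rw [← hcong x hx]
    exact h1
  have hmaps : ∀ y : P', φ' y ∈ P' := by
    rintro ⟨y, hy⟩
    obtain ⟨z, hzS, hzP, hz⟩ := (mem_imageAlong θ P _).mp hy
    have h1 : (⟨y, hy⟩ : P') = ⟨θ ⟨z, hP hzP⟩, himg z hzP⟩ := Subtype.ext hz.symm
    rw [h1, hφ'P z hzP]
    exact himg _ (α ⟨z, hzP⟩).2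
  obtain ⟨α', hα'⟩ := exists_aut_of_mem E hφ'E hmaps
  refine ⟨α', ?_, ?_⟩
  · rw [mem_autGroup_iff E hP'S']
    have : P'.subtype.comp α'.toMonoidHom = φ' := by
      ext x
      exact hα' x
    rw [this]
    exact hφ'E
  · intro x hx'
    rw [hα']
    exact hφ'P x x.2

/-- Let F be a saturated fusion system over a finite p-group S, T a subgroup of S strongly closed in F, and E a factor system F/T realised along a homomorphism θ of S with kernel T. Then the hyperfocal subgroup of E is the image under θ of the hyperfocal subgroup of F (hyp(F/T) = T·hyp(F)/T). -/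
theorem result {Ω : Type*} [Group Ω] {S : Subgroup Ω} [Finite S] (p : ℕ) [Fact p.Prime] (hS : IsPGroup p S) (F : Cfsg.FusionSystem S) (hF : F.IsSaturated p) (T : Subgroup Ω) (hT : F.StronglyClosed T) {Ω' : Type*} [Group Ω'] {S' : Subgroup Ω'} (θ : ↥S →* Ω') (E : Cfsg.FusionSystem S') (hE : F.IsFactorSystem T θ E) : E.hyperfocalSubgroup p = ((F.hyperfocalSubgroup p).subgroupOf S).map θ := by
  have hpp : p.Prime := Fact.out
  have hrange : θ.range = S' := hE.2.2.1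
  have hhypS : F.hyperfocalSubgroup p ≤ S := by
    unfold FusionSystem.hyperfocalSubgroup
    rw [Subgroup.closure_le]
    rintro y ⟨P, α, x, hP, -, rfl⟩
    exact S.mul_mem (S.inv_mem (hP x.2)) (hP (_ : P).2)
  apply le_antisymm
  · -- `hyp(E) ≤ θ(hyp(F))`
    set H' : Subgroup Ω' := ((F.hyperfocalSubgroup p).subgroupOf S).map θ with hH'
    unfold FusionSystem.hyperfocalSubgroup
    rw [Subgroup.closure_le]
    rintro y ⟨P', α', x', hP', hα', rfl⟩
    refine moves_pResidual p (E.autGroup P') H' ?_ α' hα' x'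
    intro a ha
    set Phat : Subgroup Ω := preimageAlong θ P' with hPhat
    obtain ⟨α, hα, hind⟩ := exists_lift_aut F T θ E hE P' hP' (a : MulAut P') a.2
    have hPhatS : Phat ≤ S := preimageAlong_le θ P'
    have hfinPhat : Finite Phat := finite_of_le hPhatS
    have hfinAut : Finite (MulAut Phat) := MulEquiv.finite_left
    obtain ⟨k, m, hm, hN⟩ := Nat.exists_eq_pow_mul_and_not_dvd (orderOf_pos α).ne' p hpp.ne_one
    -- `α ^ (p ^ k)` has order prime to `p`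
    set α₁ : F.autGroup Phat := ⟨α, hα⟩ ^ (p ^ k) with hα₁
    have hα₁m : α₁ ^ m = 1 := by
      rw [hα₁, ← pow_mul, ← hN]
      apply Subtype.ext
      simp [pow_orderOf_eq_one]
    have hcop : (orderOf α₁).Coprime p :=
      Nat.Coprime.coprime_dvd_left (orderOf_dvd_of_pow_eq_one hα₁m)
        ((Nat.Prime.coprime_iff_not_dvd hpp).mpr hm).symm
    have hα₁res : α₁ ∈ Cfsg.pResidual p (F.autGroup Phat) := Subgroup.subset_closure hcop
    have hα₁val : (α₁ : MulAut Phat) = α ^ (p ^ k) := by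
      rw [hα₁]; simp
    -- induced relation for powers
    have hpow : ∀ (j : ℕ) (x : Phat) (hxS : (x : Ω) ∈ S) (hx' : θ ⟨x, hxS⟩ ∈ P')
        (hαS : (((α ^ j) x : Phat) : Ω) ∈ S),
        ((((a : MulAut P') ^ j) ⟨θ ⟨x, hxS⟩, hx'⟩ : P') : Ω') = θ ⟨(((α ^ j) x : Phat) : Ω), hαS⟩ := by
      intro j
      induction j with
      | zero => intro x hxS hx' hαS; simp
      | succ j ih =>
        intro x hxS hx' hαS
        have hαxS : ((α x : Phat) : Ω) ∈ S := hPhatS (α x).2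
        have hαx' : θ ⟨((α x : Phat) : Ω), hαxS⟩ ∈ P' :=
          ((mem_preimageAlong θ P' _).mp (α x).2).2
        have h1 : ((a : MulAut P') ⟨θ ⟨x, hxS⟩, hx'⟩ : P') = ⟨θ ⟨((α x : Phat) : Ω), hαxS⟩, hαx'⟩ :=
          Subtype.ext (hind x hxS hx' hαxS)
        rw [pow_succ, MulAut.mul_apply, h1]
        have h2 := ih (α x) hαxS hαx' (by
          have : (α ^ (j + 1)) x = (α ^ j) (α x) := by rw [pow_succ, MulAut.mul_apply]
          rw [← this]; exact hαS)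
        rw [h2]
        congr 1
    -- `a ^ (p ^ k)` moves elements by elements of `H'`
    have hmove : ∀ x : P', (x : Ω')⁻¹ * ((((a : MulAut P') ^ (p ^ k)) x : P') : Ω') ∈ H' := by
      rintro ⟨y, hy⟩
      have hyS' : y ∈ θ.range := by rw [hrange]; exact hP' hy
      obtain ⟨s, rfl⟩ := hyS'
      have hsPhat : (s : Ω) ∈ Phat := (mem_preimageAlong θ P' _).mpr ⟨s.2, hy⟩
      have hαS : (((α ^ (p ^ k)) ⟨(s : Ω), hsPhat⟩ : Phat) : Ω) ∈ S := hPhatS (_ : Phat).2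
      have h1 := hpow (p ^ k) ⟨(s : Ω), hsPhat⟩ s.2 hy hαS
      have h2 : (s : Ω)⁻¹ * (((α ^ (p ^ k)) ⟨(s : Ω), hsPhat⟩ : Phat) : Ω) ∈
          F.hyperfocalSubgroup p := by
        refine Subgroup.subset_closure ⟨Phat, α₁, ⟨(s : Ω), hsPhat⟩, hPhatS, hα₁res, ?_⟩
        rw [hα₁val]
      refine ⟨⟨(s : Ω)⁻¹ * (((α ^ (p ^ k)) ⟨(s : Ω), hsPhat⟩ : Phat) : Ω), hhypS h2⟩,
        Subgroup.mem_subgroupOf.mpr h2, ?_⟩
      have h3 : (⟨(s : Ω)⁻¹ * (((α ^ (p ^ k)) ⟨(s : Ω), hsPhat⟩ : Phat) : Ω), hhypS h2⟩ : S) =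
          s⁻¹ * ⟨(((α ^ (p ^ k)) ⟨(s : Ω), hsPhat⟩ : Phat) : Ω), hαS⟩ := rfl
      rw [h3, map_mul, map_inv, ← h1]
    -- `a` is a power of `a ^ (p ^ k)`
    have hcop' : (p ^ k).Coprime (orderOf (a : MulAut P')) := by
      rw [Subgroup.orderOf_coe]
      exact (Nat.Coprime.pow_right k ha).symm
    obtain ⟨j, hj⟩ := exists_pow_eq_self_of_coprime hcop'
    have := moves_pow H' _ hmove j
    rw [hj] at this
    exact this
  · -- `θ(hyp(F)) ≤ hyp(E)`
    set H₀ : Subgroup Ω := preimageAlong θ (E.hyperfocalSubgroup p) with hH₀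
    have hle : F.hyperfocalSubgroup p ≤ H₀ := by
      unfold FusionSystem.hyperfocalSubgroup
      rw [Subgroup.closure_le]
      rintro y ⟨P, α, x, hP, hα, rfl⟩
      refine moves_pResidual p (F.autGroup P) H₀ ?_ α hα x
      intro a ha x
      obtain ⟨α', hα', hind⟩ := exists_induced_aut hS F hF T hT θ E hE P hP (a : MulAut P) a.2
      have himg : ∀ z : P, θ ⟨z, hP z.2⟩ ∈ imageAlong θ P := fun z =>
        (mem_imageAlong θ P _).mpr ⟨z, hP z.2, z.2, rfl⟩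
      have hP'S' : imageAlong θ P ≤ S' := by
        rintro _ ⟨s, -, rfl⟩
        rw [← hrange]
        exact ⟨s, rfl⟩
      -- powers
      have hpow : ∀ (j : ℕ) (z : P),
          (((α' ^ j) ⟨θ ⟨z, hP z.2⟩, himg z⟩ : ↥(imageAlong θ P)) : Ω') =
            θ ⟨((((a : MulAut P) ^ j) z : P) : Ω), hP (_ : P).2⟩ := by
        intro j
        induction j with
        | zero => intro z; simp
        | succ j ih =>
          intro z
          have h1 : (α' ⟨θ ⟨z, hP z.2⟩, himg z⟩ : ↥(imageAlong θ P)) =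
              ⟨θ ⟨(((a : MulAut P) z : P) : Ω), hP (_ : P).2⟩, himg _⟩ :=
            Subtype.ext (hind z (himg z))
          rw [pow_succ, MulAut.mul_apply, h1, ih, pow_succ, MulAut.mul_apply]
      -- the order of `α'` divides the order of `a`
      have hα'ord : α' ^ orderOf (a : MulAut P) = 1 := by
        ext ⟨y, hy⟩
        obtain ⟨z, hzS, hzP, hz⟩ := (mem_imageAlong θ P _).mp hy
        have h1 : (⟨y, hy⟩ : ↥(imageAlong θ P)) = ⟨θ ⟨z, hP hzP⟩, himg ⟨z, hzP⟩⟩ :=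
          Subtype.ext hz.symm
        rw [h1, hpow _ ⟨z, hzP⟩, pow_orderOf_eq_one]
        rfl
      have hcop : (orderOf (⟨α', hα'⟩ : E.autGroup (imageAlong θ P))).Coprime p := by
        rw [← Subgroup.orderOf_coe]
        refine Nat.Coprime.coprime_dvd_left (orderOf_dvd_of_pow_eq_one hα'ord) ?_
        rw [Subgroup.orderOf_coe]
        exact ha
      have hres : (⟨α', hα'⟩ : E.autGroup (imageAlong θ P)) ∈
          Cfsg.pResidual p (E.autGroup (imageAlong θ P)) := Subgroup.subset_closure hcop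
      rw [hH₀, mem_preimageAlong]
      refine ⟨S.mul_mem (S.inv_mem (hP x.2)) (hP (_ : P).2), ?_⟩
      have h3 : (⟨(x : Ω)⁻¹ * (((a : MulAut P) x : P) : Ω),
          S.mul_mem (S.inv_mem (hP x.2)) (hP (_ : P).2)⟩ : S) =
          (⟨x, hP x.2⟩ : S)⁻¹ * ⟨(((a : MulAut P) x : P) : Ω), hP (_ : P).2⟩ := rfl
      rw [h3, map_mul, map_inv, ← hind x (himg x)]
      exact Subgroup.subset_closure ⟨imageAlong θ P, ⟨α', hα'⟩, ⟨θ ⟨x, hP x.2⟩, himg x⟩, hP'S',
        hres, rfl⟩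
    rintro _ ⟨z, hz, rfl⟩
    have h1 : (z : Ω) ∈ H₀ := hle (Subgroup.mem_subgroupOf.mp hz)
    obtain ⟨hzS, h2⟩ := (mem_preimageAlong θ _ _).mp h1
    exact h2

end Cfsg.Agent.S5256
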