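import Cfsg.Statements.S5257
import Cfsg.Agent.Lib.helper89.AbJC

set_option autoImplicit false
open Cfsg

namespace Cfsg.Agent.S5257

open Cfsg.Agent.Lib.helper89 Cfsg.FusionSystem in
/-- Let p be an odd prime, S a finite nonabelian p-group with a unique abelian subgroup A of index p, and F a saturated fusion system over S having an F-essential subgroup other than A. Then the second centre Z₂(S) lies in A; Z(S) ∩ [S, S] has order p; Z(S)[S, S] has index p in A; Z(S) has index p in Z₂(S); and S/Z(S) has maximal nilpotency class (if S/Z(S) has order pᵐ with m ≥ 3 then the term of index m − 2 of the lower central series of S, counting S as index 0, is not contained in Z(S)). -/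
theorem result {Ω : Type*} [Group Ω] {S : Subgroup Ω} [Finite S] (p : ℕ) [Fact p.Prime] (hS : IsPGroup p S) (F : Cfsg.FusionSystem S) (hF : F.IsSaturated p) (hp : p ≠ 2) (hna : ¬ IsMulCommutative ↥S) (A : Subgroup Ω) (hA : A ≤ S ∧ IsMulCommutative ↥A ∧ (A.subgroupOf S).index = p) (huniq : ∀ B : Subgroup Ω, B ≤ S → IsMulCommutative ↥B → (B.subgroupOf S).index = p → B = A) (P : Subgroup Ω) (hP : F.IsEssential p P) (hPA : P ≠ A) : ((upperCentralSeries ↥S 2).map S.subtype) ≤ A ∧ Nat.card ↥((S ⊓ Subgroup.centralizer (S : Set Ω)) ⊓ ((commutator ↥S).map S.subtype)) = p ∧ (((S ⊓ Subgroup.centralizer (S : Set Ω)) ⊔ ((commutator ↥S).map S.subtype)).subgroupOf A).index = p ∧ (((S ⊓ Subgroup.centralizer (S : Set Ω))).subgroupOf ((upperCentralSeries ↥S 2).map S.subtype)).index = p ∧ ∀ m : ℕ, ((S ⊓ Subgroup.centralizer (S : Set Ω)).subgroupOf S).index = p ^ m → 3 ≤ m → ¬ Subgroup.lowerCentralSeries S (m - 2) ≤ (S ⊓ Subgroup.centralizer (S : Set Ω)) := by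
  obtain ⟨hAS, hAc, hAidx⟩ := hA
  have hcardsub : ∀ B : Subgroup Ω, B ≤ S → Nat.card (B.subgroupOf S) = Nat.card B := by
    intro B hBS
    rw [← Subgroup.card_subtype S (B.subgroupOf S), Subgroup.map_subgroupOf_eq_of_le hBS]
  have hcardA : Nat.card S = p * Nat.card A := by
    have h1 := Subgroup.card_mul_index (A.subgroupOf S)
    rw [hcardsub A hAS, hAidx] at h1
    rw [← h1, mul_comm]
  have H : AJHyp p F A :=
    { pS := hS
      sat := hF
      AS := hAS
      comm := fun u hu v hv => by
        have h1 := hAc.is_comm.comm (⟨u, hu⟩ : A) ⟨v, hv⟩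
        exact congrArg Subtype.val h1
      card := hcardA
      uniq := fun B hBS hBc hBcard => by
        apply huniq B hBS
        · exact ⟨⟨fun a b => Subtype.ext (hBc a a.2 b b.2)⟩⟩
        · have hfinB : Finite B := finite_of_le hBS
          have h1 := Subgroup.card_mul_index (B.subgroupOf S)
          rw [hcardsub B hBS, hBcard] at h1
          have hBpos : 0 < Nat.card B := Nat.card_pos
          apply Nat.eq_of_mul_eq_mul_left hBpos
          rw [h1, mul_comm]
      nonab := by
        by_contra hcon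
        apply hna
        refine ⟨⟨fun a b => ?_⟩⟩
        by_contra hne
        exact hcon ⟨a, a.2, b, b.2, fun h => hne (Subtype.ext h)⟩ }
  obtain ⟨hzA, a₀, ha₀, ha₀z, ha₀Z, ha₀p, hgen⟩ := H.exists_gen hP hPA
  have hS' : (commutator ↥S).map S.subtype = ⁅S, S⁆ := by
    rw [_root_.commutator_def, Subgroup.map_commutator, ← MonoidHom.range_eq_map,
      Subgroup.range_subtype]
  obtain ⟨h2, h3, h5⟩ := H.structure_of_gen ha₀ ha₀z ha₀Z ha₀p hgen
  rw [hS']
  exact ⟨hzA, h2, h3, H.index_zc_zc2 ha₀z ha₀Z ha₀p hzA hgen, h5⟩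

end Cfsg.Agent.S5257
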