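import Cfsg.Statements.S5265
import Cfsg.Agent.Lib.helper89.SmallCenterF
import Cfsg.Agent.Lib.helper59.TwoGroups

set_option autoImplicit false
open Cfsg

namespace Cfsg.Agent.S5265

open Cfsg.FusionSystem Cfsg.Agent.Lib.helper89 in
/-- Let p be a prime, S a nontrivial finite p-group whose centre has index at most p², and F a saturated fusion system over S with no nontrivial normal subgroup and with hyperfocal subgroup equal to S. Then S is extraspecial of order p³; for odd p it has exponent p, and for p = 2 it is dihedral of order 8. -/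
theorem result {Ω : Type*} [Group Ω] {S : Subgroup Ω} [Finite S] (p : ℕ) [Fact p.Prime] (hS : IsPGroup p ↥S) (F : Cfsg.FusionSystem S) (hF : F.IsSaturated p) (hS1 : S ≠ ⊥) (hcore : F.core = ⊥) (hhyp : F.hyperfocalSubgroup p = S) (hZ : (Subgroup.center ↥S).index ≤ p ^ 2) : Cfsg.IsExtraspecial p ↥S ∧ Nat.card S = p ^ 3 ∧ (p ≠ 2 → Monoid.exponent ↥S = p) ∧ (p = 2 → Nonempty (↥S ≃* DihedralGroup 4)) := by
  have H : SCHyp p F := ⟨hS, hF, card_le_of_center_index hZ⟩
  -- an essential subgroup exists, since `S` is not normal in `F`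
  have hex : ∃ E, F.IsEssential p E := by
    by_contra hno
    push Not at hno
    have hnorm : F.IsNormal S := by
      apply Cfsg.Agent.Lib.helper86.isNormal_of_aut_invariant hS F hF
      intro P hP
      rcases hP with h | hess
      · rw [h]
        exact ⟨le_rfl, fun α hα x hx => (α x).2⟩
      · exact absurd hess (hno P)
    have h2 : S ≤ F.core := le_sSup hnorm
    rw [hcore] at h2
    exact hS1 (le_bot_iff.mp h2)
  obtain ⟨E, hE⟩ := hex
  obtain ⟨V, x, h⟩ := H.exists_essFacts hE
  have hCbot : essCore F E = ⊥ := by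
    by_cases hp2 : p = 2
    · subst hp2
      exact H.essCore_eq_bot_two hcore hhyp h
    · exact H.essCore_eq_bot_odd hp2 hcore h
  have hZD : centralizerIn S S ≤ commSub S := by
    intro z hz
    obtain ⟨d, hd, c, hc, hzdc⟩ := h.dec z hz
    rw [hCbot, Subgroup.mem_bot] at hc
    rw [hzdc, hc, mul_one]
    exact hd
  have hcardZ := H.card_zc_eq h hZD
  have hcardS : Nat.card S = p ^ 3 := by
    rw [(H.card_ess hE).2, (H.card_ess hE).1, hcardZ]
    ring
  refine ⟨H.isExtraspecial_of h hZD, hcardS, ?_, ?_⟩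
  · intro hp2
    have hpow := H.pow_eq_one_odd hp2 hcore h hZD
    have : Nontrivial ↥S := (Subgroup.nontrivial_iff_ne_bot S).mpr hS1
    rw [Monoid.exponent_eq_prime_iff (Fact.out : p.Prime)]
    intro g hg
    apply orderOf_eq_prime
    · apply Subtype.ext
      rw [Subgroup.coe_pow]
      exact hpow g g.2
    · exact hg
  · intro hp2
    subst hp2
    obtain ⟨c, hcS, hc2, hc4, hrel⟩ := H.exists_dihedral_gens h hZD
    have hxS := h.xS
    have hord : orderOf (⟨c, hcS⟩ : S) = 4 := by
      have h1 : ¬ (⟨c, hcS⟩ : S) ^ 2 ^ 1 = 1 := by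
        intro h0
        apply hc2
        have h3 := congrArg Subtype.val h0
        simpa using h3
      have h2 : (⟨c, hcS⟩ : S) ^ 2 ^ (1 + 1) = 1 := by
        apply Subtype.ext
        rw [Subgroup.coe_pow]
        exact hc4
      exact orderOf_eq_prime_pow h1 h2
    refine Cfsg.Agent.Lib.helper59.dihedral_equiv_of_rel 4 ⟨c, hcS⟩ ⟨x, hxS⟩ hord ?_ ?_ ?_ ?_
    · rw [hcardS]
      norm_num
    · intro hmem
      obtain ⟨k, hk⟩ := Subgroup.mem_zpowers_iff.mp hmem
      have hcomm : (⟨x, hxS⟩ : S) * ⟨c, hcS⟩ = ⟨c, hcS⟩ * ⟨x, hxS⟩ := by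
        rw [← hk]
        exact (Commute.zpow_left (Commute.refl _) k).eq
      have h3 : x * c = c * x := congrArg Subtype.val hcomm
      apply hc2
      have h4 : x * c * x⁻¹ = c := by rw [h3, mul_inv_cancel_right]
      rw [h4] at hrel
      have h5 : c * c = 1 := by
        nth_rewrite 2 [hrel]
        exact mul_inv_cancel c
      rw [pow_two]
      exact h5
    · apply Subtype.ext
      rw [Subgroup.coe_pow]
      exact h.xp
    · apply Subtype.ext
      exact hrel

end Cfsg.Agent.S5265
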