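import Cfsg.Statements.S5270
import Cfsg.Agent.Lib.helper86.Essential
import Cfsg.Agent.Lib.helper88.GT3
import Cfsg.Agent.Lib.helper90.NormSys
import Cfsg.Agent.Lib.helper87.MaxClassUp

set_option autoImplicit false
open Cfsg

namespace Cfsg.Agent.S5270

theorem aux {Ω : Type*} [Group Ω] {S : Subgroup Ω} [Finite S] (p : ℕ) [Fact p.Prime]
    (hS : IsPGroup p ↥S) (F : Cfsg.FusionSystem S) (hF : F.IsSaturated p)
    (Z2 Zc : Subgroup Ω) (hZ2 : Z2 = (Subgroup.upperCentralSeries ↥S 2).map S.subtype)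
    (hZc : Zc = (Subgroup.center ↥S).map S.subtype)
    (hZ2card : Nat.card (Subgroup.upperCentralSeries ↥S 2) = p ^ 2)
    (hCidx : (Subgroup.centralizer
      ((Subgroup.upperCentralSeries ↥S 2 : Subgroup ↥S) : Set ↥S)).index = p)
    (φ : Z2 →* Ω) (hφ : φ ∈ F.Hom Z2) (hφZ : φ.range = Z2)
    (hmove : ∃ (z : Ω) (hz : z ∈ Z2), z ∈ Zc ∧ φ ⟨z, hz⟩ ∉ Zc) :
    F.IsEssential p (S ⊓ Subgroup.centralizer (Z2 : Set Ω)) := by
  classical
  have hZ2comm : ∀ a b : Subgroup.upperCentralSeries ↥S 2, a * b = b * a :=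
    IsPGroup.commutative_of_card_eq_prime_sq hZ2card
  obtain ⟨R, hR⟩ : ∃ R : Subgroup Ω, R = S ⊓ Subgroup.centralizer (Z2 : Set Ω) := ⟨_, rfl⟩
  rw [← hR]
  have hZ2S : Z2 ≤ S := by rw [hZ2]; exact Subgroup.map_subtype_le _
  have hRS : R ≤ S := by rw [hR]; exact inf_le_left
  have hfinZ2 : Finite Z2 := Cfsg.Agent.Lib.helper88.finite_of_le hZ2S
  have hfinR : Finite R := Cfsg.Agent.Lib.helper88.finite_of_le hRS
  have hmemZ2 : ∀ x : Ω, x ∈ Z2 ↔ ∃ hx : x ∈ S, (⟨x, hx⟩ : S) ∈ Subgroup.upperCentralSeries ↥S 2 := by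
    intro x
    rw [hZ2]
    constructor
    · rintro ⟨u, hu, rfl⟩
      exact ⟨u.2, hu⟩
    · rintro ⟨hx, hu⟩
      exact ⟨⟨x, hx⟩, hu, rfl⟩
  have hmemZc : ∀ x : Ω, x ∈ Zc ↔ x ∈ S ∧ ∀ s ∈ S, s * x = x * s := by
    intro x
    rw [hZc]
    constructor
    · rintro ⟨u, hu, rfl⟩
      refine ⟨u.2, fun s hs => ?_⟩
      have h1 := Subgroup.mem_center_iff.mp hu ⟨s, hs⟩
      exact congrArg Subtype.val h1
    · rintro ⟨hx, hu⟩
      refine ⟨⟨x, hx⟩, Subgroup.mem_center_iff.mpr (fun s => ?_), rfl⟩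
      exact Subtype.ext (hu s s.2)
  -- `Z₂` is normal in `S` and abelian
  have hZ2conj : ∀ s ∈ S, ∀ x ∈ Z2, s * x * s⁻¹ ∈ Z2 := by
    intro s hs x hx
    obtain ⟨hxS, hxu⟩ := (hmemZ2 x).mp hx
    rw [hmemZ2]
    refine ⟨S.mul_mem (S.mul_mem hs hxS) (S.inv_mem hs), ?_⟩
    have hnorm : (Subgroup.upperCentralSeries ↥S 2).Normal := inferInstance
    exact hnorm.conj_mem _ hxu ⟨s, hs⟩
  have hSZ2 : S ≤ Subgroup.normalizer (Z2 : Set Ω) := fun s hs =>
    Cfsg.Agent.Lib.helper88.mem_normalizer_of_conj_mem (hZ2conj s hs)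
  have hZ2ab : ∀ x ∈ Z2, ∀ y ∈ Z2, x * y = y * x := by
    intro x hx y hy
    obtain ⟨hxS, hxu⟩ := (hmemZ2 x).mp hx
    obtain ⟨hyS, hyu⟩ := (hmemZ2 y).mp hy
    have h1 := hZ2comm ⟨⟨x, hxS⟩, hxu⟩ ⟨⟨y, hyS⟩, hyu⟩
    have h2 := congrArg (fun u : Subgroup.upperCentralSeries ↥S 2 => ((u : S) : Ω)) h1
    exact h2
  have hmemR : ∀ x : Ω, x ∈ R ↔ x ∈ S ∧ ∀ y ∈ Z2, y * x = x * y := by
    intro x
    rw [hR, Subgroup.mem_inf, Subgroup.mem_centralizer_iff]
    rfl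
  have hZ2R : Z2 ≤ R := fun x hx => (hmemR x).mpr ⟨hZ2S hx, fun y hy => hZ2ab y hy x hx⟩
  have hZcR : Zc ≤ R := fun x hx => by
    obtain ⟨hxS, hxc⟩ := (hmemZc x).mp hx
    exact (hmemR x).mpr ⟨hxS, fun y hy => hxc y (hZ2S hy)⟩
  have hRconj : ∀ s ∈ S, ∀ x ∈ R, s * x * s⁻¹ ∈ R := by
    intro s hs x hx
    obtain ⟨hxS, hxc⟩ := (hmemR x).mp hx
    rw [hmemR]
    refine ⟨S.mul_mem (S.mul_mem hs hxS) (S.inv_mem hs), fun y hy => ?_⟩
    have h1 : s⁻¹ * y * s⁻¹⁻¹ ∈ Z2 := hZ2conj s⁻¹ (S.inv_mem hs) y hy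
    have h2 := hxc _ h1
    calc y * (s * x * s⁻¹) = s * ((s⁻¹ * y * s⁻¹⁻¹) * x) * s⁻¹ := by group
      _ = s * (x * (s⁻¹ * y * s⁻¹⁻¹)) * s⁻¹ := by rw [h2]
      _ = s * x * s⁻¹ * y := by group
  have hSR : S ≤ Subgroup.normalizer (R : Set Ω) := fun s hs =>
    Cfsg.Agent.Lib.helper88.mem_normalizer_of_conj_mem (hRconj s hs)
  -- `R` corresponds to the centralizer of `Z₂` inside `↥S`
  have hRsub : R.subgroupOf S = Subgroup.centralizer
      ((Subgroup.upperCentralSeries ↥S 2 : Subgroup ↥S) : Set ↥S) := by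
    ext x
    rw [Subgroup.mem_subgroupOf, hmemR, Subgroup.mem_centralizer_iff]
    constructor
    · rintro ⟨-, h⟩ u hu
      exact Subtype.ext (h u ((hmemZ2 u).mpr ⟨u.2, hu⟩))
    · intro h
      refine ⟨x.2, fun y hy => ?_⟩
      obtain ⟨hyS, hyu⟩ := (hmemZ2 y).mp hy
      exact congrArg Subtype.val (h ⟨y, hyS⟩ hyu)
  have hRidx : (R.subgroupOf S).index = p := by rw [hRsub]; exact hCidx
  have hRlt : R < S := by
    refine lt_of_le_of_ne hRS (fun h => ?_)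
    have h1 : R.subgroupOf S = ⊤ := by rw [h]; exact Subgroup.subgroupOf_self S
    rw [h1, Subgroup.index_top] at hRidx
    exact (Fact.out : p.Prime).one_lt.ne hRidx
  have hQtop : ∀ Q : Subgroup Ω, R < Q → Q ≤ S → Q = S := by
    intro Q hRQ hQS
    have hlt : R.subgroupOf S < Q.subgroupOf S := by
      refine lt_of_le_of_ne (fun x hx => hRQ.le hx) (fun h => ?_)
      apply hRQ.ne
      apply le_antisymm hRQ.le
      intro x hx
      have h1 : (⟨x, hQS hx⟩ : S) ∈ Q.subgroupOf S := hx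
      rw [← h] at h1
      exact h1
    have h1 := Cfsg.Agent.Lib.helper87.mcu_card_mul_le_of_lt hS hlt
    have h2 := Subgroup.card_mul_index (R.subgroupOf S)
    rw [hRidx] at h2
    have h3 : Nat.card (Q.subgroupOf S) = Nat.card S := by
      apply le_antisymm (Subgroup.card_le_card_group _)
      rw [← h2, mul_comm]
      exact h1
    have h4 : Q.subgroupOf S = ⊤ := (Subgroup.card_eq_iff_eq_top _).mp h3
    apply le_antisymm hQS
    intro x hx
    have h5 : (⟨x, hx⟩ : S) ∈ Q.subgroupOf S := by rw [h4]; exact Subgroup.mem_top _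
    exact h5
  -- full normalization, receptivity
  have hfnZ : F.IsFullyNormalized Z2 :=
    Cfsg.Agent.Lib.helper88.fullyNormalized_of_le_normalizer F hZ2S hSZ2
  have hrecZ : F.IsReceptive Z2 :=
    (Cfsg.Agent.Lib.helper88.fullyAutomized_receptive_of_fullyNormalized hS F hF hfnZ).2
  have hfnR : F.IsFullyNormalized R :=
    Cfsg.Agent.Lib.helper88.fullyNormalized_of_le_normalizer F hRS hSR
  obtain ⟨hfaR, hrecR⟩ :=
    Cfsg.Agent.Lib.helper88.fullyAutomized_receptive_of_fullyNormalized hS F hF hfnR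
  -- extend `φ` to `R`
  obtain ⟨ψ, hψ, hψφ⟩ := Cfsg.Agent.Lib.helper89.exists_extension F hrecZ hφ hφZ R (by
    intro g hg
    obtain ⟨hgS, hgc⟩ := (hmemR g).mp hg
    refine ⟨hgS, hSZ2 hgS, 1, S.one_mem, fun x hx => ?_⟩
    have h1 : (⟨g * (x : Ω) * g⁻¹, hx⟩ : Z2) = x := by
      apply Subtype.ext
      show g * (x : Ω) * g⁻¹ = x
      rw [← hgc x x.2]
      group
    rw [h1]
    simp)
  have hψR : ∀ x : R, ψ x ∈ R := by
    intro x
    rw [hmemR]
    refine ⟨(F.le_of_mem hψ).2 x, fun y hy => ?_⟩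
    have hy' : y ∈ φ.range := by rw [hφZ]; exact hy
    obtain ⟨y₀, rfl⟩ := hy'
    have h1 := hψφ (y₀ : Ω) y₀.2 (hZ2R y₀.2)
    rw [← h1, ← map_mul, ← map_mul]
    congr 1
    apply Subtype.ext
    exact ((hmemR x).mp x.2).2 _ y₀.2
  obtain ⟨β, hβ⟩ := Cfsg.Agent.Lib.helper89.exists_aut_of_mem F hψ hψR
  have hβF : β ∈ F.autGroup R := by
    rw [Cfsg.Agent.Lib.helper88.mem_autGroup_iff' F hRS]
    have h1 : R.subtype.comp β.toMonoidHom = ψ := by
      ext x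
      exact hβ x
    rw [h1]
    exact hψ
  -- the automorphisms of `R` preserving `Z(S)`
  obtain ⟨K, hK⟩ : ∃ K : Subgroup (MulAut R), ∀ α : MulAut R,
      α ∈ K ↔ ∀ x : R, ((α x : R) : Ω) ∈ Zc ↔ (x : Ω) ∈ Zc := by
    refine ⟨{ carrier := {α | ∀ x : R, ((α x : R) : Ω) ∈ Zc ↔ (x : Ω) ∈ Zc}
              mul_mem' := ?_
              one_mem' := ?_
              inv_mem' := ?_ }, fun α => Iff.rfl⟩
    · intro a b ha hb x
      rw [MulAut.mul_apply, ha (b x), hb x]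
    · intro x
      rfl
    · intro a ha x
      have h1 := ha (a⁻¹ x)
      rw [MulAut.apply_inv_self] at h1
      exact h1.symm
  have hext : Subgroup.closure (Cfsg.Agent.Lib.helper86.extSet F R) ≤ K := by
    rw [Subgroup.closure_le]
    rintro α ⟨Q, hRQ, φ', hφ', hα⟩
    rw [SetLike.mem_coe, hK]
    have hQS : Q ≤ S := (F.le_of_mem hφ').1
    have hQeq : Q = S := hQtop Q hRQ hQS
    have hinj := F.injective_of_mem hφ'
    have hrange : φ'.range = Q := by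
      apply Cfsg.Agent.Lib.helper90.range_eq_of_forall_mem F hφ'
      intro x
      exact hQeq.ge ((F.le_of_mem hφ').2 x)
    intro x
    rw [← hα x, hmemZc, hmemZc]
    constructor
    · rintro ⟨-, h⟩
      refine ⟨hRS x.2, fun s hs => ?_⟩
      have hsQ : s ∈ Q := by rw [hQeq]; exact hs
      have h1 := h (φ' ⟨s, hsQ⟩) ((F.le_of_mem hφ').2 _)
      rw [← map_mul, ← map_mul] at h1
      have h2 := hinj h1
      exact congrArg Subtype.val h2
    · rintro ⟨-, h⟩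
      refine ⟨(F.le_of_mem hφ').2 _, fun s hs => ?_⟩
      have hs' : s ∈ φ'.range := by rw [hrange, hQeq]; exact hs
      obtain ⟨s₀, rfl⟩ := hs'
      rw [← map_mul, ← map_mul]
      congr 1
      apply Subtype.ext
      exact h s₀ (hQS s₀.2)
  have hβK : β ∉ K := by
    intro hβK
    obtain ⟨z, hz, hzZ, hφz⟩ := hmove
    have h1 := ((hK β).mp hβK) ⟨z, hZ2R hz⟩
    apply hφz
    rw [← hψφ z hz (hZ2R hz), ← hβ]
    exact h1.mpr hzZ
  by_contra hess
  exact hβK (hext (Cfsg.Agent.Lib.helper86.le_closure_extSet_of_not_essential hS F hfaR hrecR hRlt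
    hess hβF))

/-- Let p ≥ 5 be a prime, S a finite p-group of maximal class of order p^n with n ≥ 4, and F a saturated fusion system over S. If some map of F defined on the second centre Z₂(S) with image Z₂(S) does not carry Z(S) into itself, then the centralizer C_S(Z₂(S)) is an F-essential subgroup. -/
theorem result {Ω : Type*} [Group Ω] {S : Subgroup Ω} [Finite S] (p : ℕ) [Fact p.Prime] (hS : IsPGroup p ↥S) (n : ℕ) (hn : Nat.card S = p ^ n) (h4 : 4 ≤ n) (hmax : Subgroup.lowerCentralSeries S (n - 2) ≠ ⊥) (F : Cfsg.FusionSystem S) (hF : F.IsSaturated p) (hp : 5 ≤ p) (φ : ↥((Subgroup.upperCentralSeries ↥S 2).map S.subtype) →* Ω) (hφ : φ ∈ F.Hom ((Subgroup.upperCentralSeries ↥S 2).map S.subtype)) (hφZ : φ.range = ((Subgroup.upperCentralSeries ↥S 2).map S.subtype)) (hmove : ∃ (z : Ω) (hz : z ∈ ((Subgroup.upperCentralSeries ↥S 2).map S.subtype)), z ∈ ((Subgroup.center ↥S).map S.subtype) ∧ φ ⟨z, hz⟩ ∉ ((Subgroup.center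 ↥S).map S.subtype)) : F.IsEssential p (S ⊓ Subgroup.centralizer (((Subgroup.upperCentralSeries ↥S 2).map S.subtype) : Set Ω)) := by
  classical
  have htop : (⊤ : Subgroup S).lowerCentralSeries (n - 2) ≠ ⊥ := by
    intro h
    apply hmax
    rw [← Subgroup.top_subtype_lowerCentralSeries, h, Subgroup.map_bot]
  obtain ⟨hZ1card, hZ2card⟩ := Cfsg.Agent.Lib.helper87.mcu_card_upper hn h4 htop
  have hCidx := Cfsg.Agent.Lib.helper87.mcu_index_centralizer hS hZ1card hZ2card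
  exact aux p hS F hF _ _ rfl rfl hZ2card hCidx φ hφ hφZ hmove

end Cfsg.Agent.S5270
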