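import Cfsg.Statements.S5271
import Cfsg.Agent.Lib.helper89.WeakEmbC

set_option autoImplicit false
open Cfsg

namespace Cfsg.Agent.S5271

/-- A nilpotency criterion for fusion systems. Let F be a saturated fusion system over a finite p-group S of order at least p². Call a subgroup Q of S weakly embedded in F when there is a subgroup P of S strongly closed in F such that both the product QP and the intersection Q ∩ P are strongly closed in F. Then F is the inner fusion system of S if and only if there is a subgroup D of S with 1 < D < S such that every subgroup of S of the same order as D is weakly embedded in F and, for every fully normalized subgroup H of S of that order, the normalizer fusion system of H in F is the inner fusion system of N_S(H). -/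
theorem result {Ω : Type*} [Group Ω] {S : Subgroup Ω} [Finite S] (p : ℕ) [Fact p.Prime] (hS : IsPGroup p ↥S) (F : Cfsg.FusionSystem S) (hF : F.IsSaturated p) (hcard : p ^ 2 ≤ Nat.card S) : (∀ P : Subgroup Ω, F.Hom P = (Cfsg.innerFusionSystem S).Hom P) ↔ ∃ D : Subgroup Ω, ⊥ < D ∧ D < S ∧ (∀ Q : Subgroup Ω, Q ≤ S → Nat.card ↥Q = Nat.card ↥D → ∃ P : Subgroup Ω, F.StronglyClosed P ∧ F.StronglyClosed (Q ⊔ P) ∧ F.StronglyClosed (Q ⊓ P)) ∧ (∀ H : Subgroup Ω, F.IsFullyNormalized H → Nat.card ↥H = Nat.card ↥D → ∀ N : Cfsg.FusionSystem (Cfsg.FusionSystem.normalizerIn S H), F.IsNormalizerSystem H N → ∀ P : Subgroup Ω, N.Hom P = (Cfsg.innerFusionSystem (Cfsg.FusionSystem.normalizerIn S H)).Hom P) := by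
  have hp : p.Prime := Fact.out
  constructor
  · -- inner ⟹ a subgroup of index `p` works
    intro hinn
    obtain ⟨n, hn⟩ := IsPGroup.iff_card.mp hS
    have hn2 : 2 ≤ n := by
      rw [hn] at hcard
      exact (Nat.pow_le_pow_iff_right hp.one_lt).mp hcard
    have hdvd : p ^ (n - 1) ∣ Nat.card S := by
      rw [hn]
      exact pow_dvd_pow p (Nat.sub_le n 1)
    obtain ⟨K, hKc⟩ := Sylow.exists_subgroup_card_pow_prime p hdvd
    have hDc : Nat.card ↥(K.map S.subtype) = p ^ (n - 1) := by
      rw [Subgroup.card_map_of_injective S.subtype_injective]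
      exact hKc
    have hDS : K.map S.subtype ≤ S := Subgroup.map_subtype_le K
    have hlt1 : 1 < p ^ (n - 1) := Nat.one_lt_pow (by omega) hp.one_lt
    have hlt2 : p ^ (n - 1) < p ^ n := Nat.pow_lt_pow_right hp.one_lt (by omega)
    -- subgroups of that order are normalized by `S`
    have hnormal : ∀ Q : Subgroup Ω, Q ≤ S → Nat.card Q = p ^ (n - 1) →
        ∀ g ∈ S, ∀ x ∈ Q, g * x * g⁻¹ ∈ Q := by
      intro Q hQS hQc
      have h3 : Nat.card (Q.subgroupOf S) = p ^ (n - 1) := by
        rw [← hQc]
        exact Nat.card_congr (Subgroup.subgroupOfEquivOfLe hQS).toEquiv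
      have h4 := Subgroup.card_mul_index (Q.subgroupOf S)
      have hidx : (Q.subgroupOf S).index = p := by
        have h5 : p ^ n = p ^ (n - 1) * p := by
          rw [← pow_succ]
          congr 1
          omega
        rw [h3, hn, h5] at h4
        exact Nat.eq_of_mul_eq_mul_left (Nat.pos_of_ne_zero (by positivity)) h4
      have hnorm : (Q.subgroupOf S).Normal := by
        apply Subgroup.normal_of_index_eq_minFac_card
        rw [hidx, hn, Nat.Prime.pow_minFac hp (by omega)]
      intro g hg x hx
      have h6 := hnorm.conj_mem ⟨x, hQS hx⟩ (Subgroup.mem_subgroupOf.mpr hx) ⟨g, hg⟩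
      exact Subgroup.mem_subgroupOf.mp h6
    have hbot : F.StronglyClosed ⊥ := by
      refine ⟨bot_le, fun R hR φ _ x => ?_⟩
      have h3 : x = 1 := Subtype.ext (Subgroup.mem_bot.mp (hR x.2))
      rw [h3, map_one]
      exact Subgroup.one_mem _
    refine ⟨K.map S.subtype, ?_, ?_, ?_, ?_⟩
    · rw [bot_lt_iff_ne_bot]
      intro h
      rw [h, Subgroup.card_bot] at hDc
      omega
    · refine lt_of_le_of_ne hDS (fun h => ?_)
      rw [h, hn] at hDc
      omega
    · intro Q hQS hQc
      rw [hDc] at hQc
      refine ⟨⊥, hbot, ?_, ?_⟩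
      · rw [sup_bot_eq]
        refine ⟨hQS, fun R hR φ hφ x => ?_⟩
        rw [hinn R] at hφ
        obtain ⟨-, g, hg, hgx⟩ := hφ
        rw [hgx]
        exact hnormal Q hQS hQc g hg _ (hR x.2)
      · rw [inf_bot_eq]
        exact hbot
    · intro H hH hHc N hN P
      rw [hDc] at hHc
      have hHS : H ≤ S := hH.1
      have hHn := hnormal H hHS hHc
      have hnormH : ∀ g ∈ S, g ∈ Subgroup.normalizer (H : Set Ω) := by
        intro g hg
        rw [Subgroup.mem_normalizer_iff]
        intro h
        constructor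
        · intro hh
          exact hHn g hg h hh
        · intro hh
          have h3 := hHn g⁻¹ (S.inv_mem hg) _ hh
          have e : g⁻¹ * (g * h * g⁻¹) * g⁻¹⁻¹ = h := by group
          rwa [e] at h3
      rw [hN P]
      ext φ
      constructor
      · rintro ⟨hφ, hPN, -, -⟩
        rw [hinn P] at hφ
        obtain ⟨-, g, hg, hgx⟩ := hφ
        exact ⟨hPN, g, ⟨hg, hnormH g hg⟩, hgx⟩
      · rintro ⟨hPN, g, hg, hgx⟩
        rw [Cfsg.Agent.Lib.helper89.mem_normalizerHom_iff]
        have hPS : P ≤ S := hPN.trans inf_le_left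
        refine ⟨?_, hPN, ?_, ?_⟩
        · rw [hinn P]
          exact ⟨hPS, g, hg.1, hgx⟩
        · intro x
          rw [hgx]
          exact Subgroup.mul_mem _ (Subgroup.mul_mem _ hg (hPN x.2)) (Subgroup.inv_mem _ hg)
        · refine ⟨P ⊔ H, conjHom (P ⊔ H) g, F.conj_mem (sup_le hPS hHS) hg.1, le_sup_left,
            le_sup_right, fun x hx hR => ?_, fun q hq hR => ?_⟩
          · rw [hgx]
            simp [conjHom]
          · have h3 : g * q * g⁻¹ ∈ H := hHn g hg.1 q hq
            simpa [conjHom] using h3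
  · -- the converse: the main theorem
    rintro ⟨D, hD1, hDS, h1, h2⟩
    have hDfin : Finite D := Cfsg.Agent.Lib.helper89.finite_of_le hDS.le
    have hDp : IsPGroup p D :=
      hS.of_injective (Subgroup.inclusion hDS.le) (Subgroup.inclusion_injective hDS.le)
    obtain ⟨d, hd⟩ := IsPGroup.iff_card.mp hDp
    have hd1 : 1 ≤ d := by
      rw [Nat.one_le_iff_ne_zero]
      intro h0
      rw [h0, pow_zero] at hd
      exact (bot_lt_iff_ne_bot.mp hD1) (Subgroup.eq_bot_of_card_eq D hd)
    have hlt : p ^ d < Nat.card S := by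
      rw [← hd]
      exact Cfsg.Agent.Lib.helper89.card_lt_of_lt hDS le_rfl
    have h1' : Cfsg.Agent.Lib.helper89.WeH1 F (p ^ d) := by
      intro Q hQS hQc
      exact h1 Q hQS (hQc.trans hd.symm)
    have h2' : Cfsg.Agent.Lib.helper89.WeH2 F (p ^ d) := by
      intro H hH hHc P φ hφ
      have h3 := h2 H hH (hHc.trans hd.symm) (Cfsg.Agent.Lib.helper89.normalizerSystem F H hH.1)
        (Cfsg.Agent.Lib.helper89.isNormalizerSystem_normalizerSystem F H hH.1) P
      have hφN : φ ∈ (Cfsg.Agent.Lib.helper89.normalizerSystem F H hH.1).Hom P := by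
        rw [Cfsg.Agent.Lib.helper89.isNormalizerSystem_normalizerSystem F H hH.1 P]
        exact hφ
      rw [h3] at hφN
      obtain ⟨-, g, hg, hgx⟩ := hφN
      exact ⟨g, hg.1, hgx⟩
    exact Cfsg.Agent.Lib.helper89.hom_eq_inner_of_weH p (Nat.card S) S rfl hS F hF d hd1 hlt
      h1' h2'

end Cfsg.Agent.S5271
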