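import Cfsg.Statements.S5272
import Cfsg.Agent.Lib.helper52.AxFus
import Cfsg.Agent.S5083

set_option autoImplicit false
open Cfsg

namespace Cfsg.Agent.S5272

open Cfsg.FusionSystem Cfsg.Agent.Lib.helper88 Cfsg.Agent.Lib.helper52

/-- An axiomatic Glauberman–Thompson nilpotency criterion for fusion systems. Let p be an odd prime, F a saturated fusion system over a finite p-group S, and 𝒜 a nonempty family of abelian subgroups of S. For Q ≤ S write I(Q) for the intersection of the members of 𝒜 contained in Q. Assume (invariance) that for every Q ≤ S containing a member of 𝒜, every F-automorphism of Q maps I(Q) into itself, and (replacement) that for every subgroup B of S of nilpotency class at most 2, if some member of 𝒜 contains [B,B] but not B, then B normalizes some member of 𝒜 that contains [B,B] but not B. Then F is the inner fusion system of S if and only if the normalizer fusion system of I(S) in F is the inner fusion system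 of N_S(I(S)). -/
theorem result {Ω : Type*} [Group Ω] {S : Subgroup Ω} [Finite S] (p : ℕ) [Fact p.Prime] (hS : IsPGroup p ↥S) (F : Cfsg.FusionSystem S) (hF : F.IsSaturated p) (hp : p ≠ 2) (𝒜 : Set (Subgroup Ω)) (h𝒜 : ∀ A ∈ 𝒜, A ≤ S ∧ IsMulCommutative ↥A) (hne : 𝒜.Nonempty) (hinv : ∀ Q : Subgroup Ω, Q ≤ S → (∃ A ∈ 𝒜, A ≤ Q) → ∀ α ∈ F.autGroup Q, ∀ x : ↥Q, (x : Ω) ∈ (⨅ A ∈ {A : Subgroup Ω | A ∈ 𝒜 ∧ A ≤ Q}, A) → (((α : MulAut ↥Q) x : ↥Q) : Ω) ∈ (⨅ A ∈ {A : Subgroup Ω | A ∈ 𝒜 ∧ A ≤ Q}, A)) (hrep : ∀ B : Subgroup Ω, B ≤ S → ⁅⁅B, B⁆, B⁆ = ⊥ → (∃ A ∈ 𝒜, ⁅B, B⁆ ≤ A ∧ ¬ B ≤ A) → ∃ A ∈ 𝒜, ⁅B, B⁆ ≤ A ∧ ¬ B ≤ A ∧ B ≤ Subgroup.normalizer (A : Set Ω)) : (∀ P : Subgroup Ω, F.Hom P = (Cfsg.innerFusionSystem S).Hom P) ↔ ∀ N : Cfsg.FusionSystem (Cfsg.FusionSystem.normalizerIn S (⨅ A ∈ 𝒜, A)), F.IsNormalizerSystem (⨅ A ∈ 𝒜, A) N → ∀ P : Subgroup Ω, N.Hom P = (Cfsg.innerFusionSystem (Cfsg.FusionSystem.normalizerIn S (⨅ A ∈ 𝒜, A))).Hom P := by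
  have hAx : AxFus F 𝒜 := by
    refine ⟨fun A hA => (h𝒜 A hA).1, ?_, hne, ?_, hrep⟩
    · intro A hA x hx y hy
      have := (h𝒜 A hA).2
      have h := mul_comm' (⟨x, hx⟩ : A) ⟨y, hy⟩
      exact congrArg Subtype.val h
    · intro Q hQ hex α hα x hx A hA hAQ
      have h1 := hinv Q hQ hex α (Subgroup.subset_closure hα) x (by
        simp only [Subgroup.mem_iInf]
        intro A' hA'
        exact hx A' hA'.1 hA'.2)
      simp only [Subgroup.mem_iInf] at h1
      exact h1 A ⟨hA, hAQ⟩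
  have hW : (⨅ A ∈ 𝒜, A) = sInf 𝒜 := sInf_eq_iInf.symm
  rw [hW]
  have hWS : sInf 𝒜 ≤ S := hAx.sInf_le
  have hSN : S ≤ Subgroup.normalizer ((sInf 𝒜 : Subgroup Ω) : Set Ω) := hAx.le_normalizer
  constructor
  · intro hin N hN P
    ext φ
    constructor
    · intro hφ
      have hP := (N.le_of_mem hφ).1
      rw [hN P] at hφ
      have h1 := hφ.1
      rw [hin P] at h1
      obtain ⟨-, g, hg, h⟩ := h1
      exact ⟨hP, g, ⟨hg, hSN hg⟩, h⟩
    · rintro ⟨hP, g, hg, h⟩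
      have h1 : φ = conjHom P g := by
        ext x
        exact h x
      rw [h1]
      exact N.conj_mem hP hg
  · intro hN
    have hpg : ∀ P : Subgroup Ω, P ≤ S → IsPGroup p (F.autGroup P) := by
      intro P hP
      by_contra hnp
      have h1 : NonInner p F := nonInner_of_not_isPGroup F hP hnp
      have h2 := ax_fusion hp hS F hF 𝒜 hAx h1
      have hE := Cfsg.Agent.Lib.helper89.isNormalizerSystem_normalizerSystem F
        (sInf 𝒜) hWS
      have h3 := (nonInner_iff_of_isNormalizerSystem F _ _ hE).mpr h2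
      obtain ⟨P₁, α, hα, hk⟩ := h3
      rw [hN _ hE P₁] at hα
      obtain ⟨-, g, hg, h⟩ := hα
      obtain ⟨k, hgk⟩ := hS ⟨g, hg.1⟩
      have hgk' : g ^ (p ^ k) = 1 := congrArg Subtype.val hgk
      apply hk k
      apply pow_eq_one_of_semiconj_inj P₁.subtype P₁.subtype_injective α (MulAut.conj g)
      · intro x
        exact h x
      · rw [← map_pow, hgk', map_one]
    have hFeq := Cfsg.Agent.S5083.result p hS F hF hpg
    intro P
    rw [hFeq]

end Cfsg.Agent.S5272
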