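import Cfsg.Statements.S5274
-- import your own Cfsg.Agent.* helpers here
import Cfsg.Agent.Lib.helper36.FusCH

set_option autoImplicit false
open Cfsg

namespace Cfsg.Agent.S5274

/-- Let F be a saturated fusion system over a finite 2-group S. Suppose that every element of S is F-conjugate to an element of the centre Z(S) (some map of F defined on the cyclic subgroup it generates sends it into Z(S)). Then S is abelian. -/
theorem result {Ω : Type*} [Group Ω] {S : Subgroup Ω} [Finite S] (hS : IsPGroup 2 ↥S) (F : Cfsg.FusionSystem S) (hF : F.IsSaturated 2) (h : ∀ x ∈ S, ∃ z ∈ S ⊓ Subgroup.centralizer (S : Set Ω), F.IsConjElt x z) : IsMulCommutative ↥S := by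
  classical
  haveI : Fact (Nat.Prime 2) := ⟨Nat.prime_two⟩
  have hcen := Cfsg.Agent.Lib.helper36.fusch_invol_central hS F hF h
  by_contra hnc
  have hne : Subgroup.center ↥S ≠ ⊤ := by
    intro htop
    apply hnc
    refine ⟨⟨fun a b => ?_⟩⟩
    have ha : a ∈ Subgroup.center ↥S := htop ▸ Subgroup.mem_top a
    exact (Subgroup.mem_center_iff.mp ha b).symm
  haveI : Nontrivial (↥S ⧸ Subgroup.center ↥S) := by
    by_contra hnt
    rw [not_nontrivial_iff_subsingleton] at hnt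
    exact hne (QuotientGroup.subgroup_eq_top_of_subsingleton _ hnt)
  have hQ : IsPGroup 2 (↥S ⧸ Subgroup.center ↥S) := hS.to_quotient _
  haveI := hQ.center_nontrivial
  obtain ⟨⟨q, hq⟩, hq1⟩ := exists_ne (1 : Subgroup.center (↥S ⧸ Subgroup.center ↥S))
  obtain ⟨y, rfl⟩ := QuotientGroup.mk_surjective q
  have hy1 : y ∉ Subgroup.center ↥S := by
    intro hy
    apply hq1
    apply Subtype.ext
    exact (QuotientGroup.eq_one_iff y).mpr hy
  have hyc : ∀ g : ↥S, g * y * g⁻¹ * y⁻¹ ∈ Subgroup.center ↥S := by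
    intro g
    rw [← QuotientGroup.eq_one_iff]
    have h1 := Subgroup.mem_center_iff.mp hq (QuotientGroup.mk g)
    have h2 : ((g * y * g⁻¹ * y⁻¹ : ↥S) : ↥S ⧸ Subgroup.center ↥S)
        = (g : ↥S ⧸ Subgroup.center ↥S) * (y : ↥S ⧸ Subgroup.center ↥S)
          * (g : ↥S ⧸ Subgroup.center ↥S)⁻¹ * (y : ↥S ⧸ Subgroup.center ↥S)⁻¹ := rfl
    rw [h2, h1]; group
  obtain ⟨g0, hg0⟩ : ∃ g : ↥S, g * y ≠ y * g := by
    by_contra hall
    push_neg at hall
    exact hy1 (Subgroup.mem_center_iff.mpr hall)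
  obtain ⟨w, hw⟩ : ∃ w : ↥S, w = g0 * y * g0⁻¹ * y⁻¹ := ⟨_, rfl⟩
  have hwc : w ∈ Subgroup.center ↥S := hw ▸ hyc g0
  have hw1 : w ≠ 1 := by
    intro h1
    apply hg0
    rw [hw] at h1
    calc g0 * y = (g0 * y * g0⁻¹ * y⁻¹) * (y * g0) := by group
      _ = y * g0 := by rw [h1, one_mul]
  have hpow : ∀ n : ℕ, g0 ^ n * y * (g0 ^ n)⁻¹ = w ^ n * y := by
    intro n
    induction n with
    | zero => simp
    | succ n ih =>
      have hwn : w ^ n ∈ Subgroup.center ↥S := Subgroup.pow_mem _ hwc n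
      have hcomm := Subgroup.mem_center_iff.mp hwn g0
      calc g0 ^ (n + 1) * y * (g0 ^ (n + 1))⁻¹ = g0 * (g0 ^ n * y * (g0 ^ n)⁻¹) * g0⁻¹ := by
            rw [pow_succ']; group
        _ = g0 * (w ^ n * y) * g0⁻¹ := by rw [ih]
        _ = (g0 * w ^ n) * y * g0⁻¹ := by group
        _ = w ^ n * g0 * y * g0⁻¹ := by rw [hcomm]
        _ = w ^ n * (g0 * y * g0⁻¹ * y⁻¹) * y := by group
        _ = w ^ (n + 1) * y := by rw [← hw, pow_succ]
  obtain ⟨k0, hk0⟩ := (IsPGroup.iff_orderOf.mp hS) w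
  have hk0pos : k0 ≠ 0 := by
    rintro rfl
    rw [pow_zero, orderOf_eq_one_iff] at hk0
    exact hw1 hk0
  obtain ⟨k, rfl⟩ : ∃ k, k0 = k + 1 := Nat.exists_eq_succ_of_ne_zero hk0pos
  have hb1 : w ^ (2 ^ k) ≠ 1 := by
    intro h1
    have hd := orderOf_dvd_of_pow_eq_one h1
    rw [hk0] at hd
    have h3 := Nat.le_of_dvd (by positivity) hd
    have h2 : 2 ^ k < 2 ^ (k + 1) := Nat.pow_lt_pow_right (by norm_num) (Nat.lt_succ_self k)
    omega
  have hb2 : w ^ (2 ^ k) * w ^ (2 ^ k) = 1 := by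
    rw [← pow_add, ← two_mul, ← pow_succ', ← hk0, pow_orderOf_eq_one]
  obtain ⟨hh, hhdef⟩ : ∃ hh : ↥S, hh = g0 ^ (2 ^ k) := ⟨_, rfl⟩
  obtain ⟨b, hbdef⟩ : ∃ b : ↥S, b = w ^ (2 ^ k) := ⟨_, rfl⟩
  have hconj : hh * y * hh⁻¹ = b * y := by rw [hhdef, hbdef]; exact hpow _
  have hbΩ1 : (b : Ω) ≠ 1 := fun h1 => hb1 (by rw [← hbdef]; exact Subtype.ext h1)
  have hbΩ2 : (b : Ω) * (b : Ω) = 1 := by
    have h1 := hb2
    rw [← hbdef] at h1
    exact congrArg Subtype.val h1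
  have hconjΩ : (hh : Ω) * (y : Ω) * (hh : Ω)⁻¹ = (b : Ω) * (y : Ω) := congrArg Subtype.val hconj
  have hbc : ∀ s ∈ S, (b : Ω) * s = s * (b : Ω) := hcen (b : Ω) b.2 hbΩ2
  obtain ⟨z0, hz0, φ, hφ, hφx⟩ := h (y : Ω) y.2
  have hz0c : ∀ s ∈ S, s * z0 = z0 * s :=
    fun s hs => Subgroup.mem_centralizer_iff.mp hz0.2 s hs
  have hrc : ∀ z ∈ φ.range, ∀ s ∈ S, s * z = z * s := by
    rintro _ ⟨t, rfl⟩ s hs
    obtain ⟨n, hn⟩ := Subgroup.mem_zpowers_iff.mp t.2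
    have ht : t = (⟨(y : Ω), Subgroup.mem_zpowers _⟩ : Subgroup.zpowers (y : Ω)) ^ n := by
      apply Subtype.ext
      simp [hn]
    rw [ht, map_zpow, hφx]
    exact (show Commute s z0 from hz0c s hs).zpow_right n
  have hrec : F.IsReceptive φ.range :=
    Cfsg.Agent.Lib.helper36.fusch_central_receptive hS F hF
      (Cfsg.Agent.Lib.helper89.range_le_of_hom F hφ) hrc
  have hUS : Subgroup.closure ({(y : Ω), (b : Ω)} : Set Ω) ≤ S := by
    rw [Subgroup.closure_le]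
    rintro t (rfl | rfl)
    · exact y.2
    · exact b.2
  have hUc : ∀ g ∈ Subgroup.closure ({(y : Ω), (b : Ω)} : Set Ω),
      ∀ t ∈ Subgroup.zpowers (y : Ω), g * t * g⁻¹ = t := by
    have hle : Subgroup.closure ({(y : Ω), (b : Ω)} : Set Ω)
        ≤ Subgroup.centralizer (Subgroup.zpowers (y : Ω) : Set Ω) := by
      rw [Subgroup.closure_le]
      rintro t (rfl | rfl)
      · rw [SetLike.mem_coe, Subgroup.mem_centralizer_iff]
        intro u hu
        obtain ⟨n, rfl⟩ := Subgroup.mem_zpowers_iff.mp hu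
        exact ((Commute.refl (y : Ω)).zpow_left n).eq
      · rw [SetLike.mem_coe, Subgroup.mem_centralizer_iff]
        intro u hu
        have huS : u ∈ S := (Subgroup.zpowers_le.mpr y.2) hu
        exact (hbc u huS).symm
    intro g hg t ht
    have h1 := Subgroup.mem_centralizer_iff.mp (hle hg) t ht
    rw [← h1]; group
  obtain ⟨ψ, hψ, hψφ⟩ := Cfsg.Agent.Lib.helper89.exists_extension F hrec hφ rfl
    (Subgroup.closure ({(y : Ω), (b : Ω)} : Set Ω)) (by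
      intro g hg
      refine ⟨hUS hg, ?_, 1, S.one_mem, ?_⟩
      · haveI : Finite (Subgroup.zpowers (y : Ω)) :=
          Cfsg.Agent.Lib.helper89.finite_of_le (Subgroup.zpowers_le.mpr y.2)
        apply Cfsg.Agent.Lib.helper88.mem_normalizer_of_conj_mem
        intro t ht
        rw [hUc g hg t ht]; exact ht
      · intro t ht
        have h1 : (⟨g * (t : Ω) * g⁻¹, ht⟩ : Subgroup.zpowers (y : Ω)) = t :=
          Subtype.ext (hUc g hg t t.2)
        rw [h1]; simp)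
  have hyU : (y : Ω) ∈ Subgroup.closure ({(y : Ω), (b : Ω)} : Set Ω) :=
    Subgroup.subset_closure (Set.mem_insert _ _)
  have hbU : (b : Ω) ∈ Subgroup.closure ({(y : Ω), (b : Ω)} : Set Ω) :=
    Subgroup.subset_closure (Set.mem_insert_of_mem _ rfl)
  have hcent : ∀ t : Subgroup.closure ({(y : Ω), (b : Ω)} : Set Ω),
      ∀ s ∈ S, s * ψ t = ψ t * s := by
    rintro ⟨t, ht⟩
    refine Subgroup.closure_induction
      (p := fun t ht => ∀ s ∈ S, s * ψ ⟨t, ht⟩ = ψ ⟨t, ht⟩ * s) ?_ ?_ ?_ ?_ ht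
    · intro t ht s hs
      rcases ht with rfl | ht
      · rw [hψφ _ (Subgroup.mem_zpowers _) _, hφx]; exact hz0c s hs
      · have htb : t = (b : Ω) := ht
        subst htb
        have h1 : ψ ⟨(b : Ω), hbU⟩ * ψ ⟨(b : Ω), hbU⟩ = 1 := by
          rw [← map_mul]
          have h2 : (⟨(b : Ω), hbU⟩ : Subgroup.closure ({(y : Ω), (b : Ω)} : Set Ω))
              * ⟨(b : Ω), hbU⟩ = 1 := Subtype.ext hbΩ2
          rw [h2, map_one]
        exact (hcen _ (Cfsg.Agent.Lib.helper89.range_le_of_hom F hψ ⟨_, rfl⟩) h1 s hs).symm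
    · intro s hs
      have h1 : ψ ⟨1, Subgroup.one_mem _⟩ = 1 := map_one ψ
      rw [h1, mul_one, one_mul]
    · intro a c ha hc iha ihc s hs
      have h1 : ψ ⟨a * c, Subgroup.mul_mem _ ha hc⟩ = ψ ⟨a, ha⟩ * ψ ⟨c, hc⟩ :=
        map_mul ψ ⟨a, ha⟩ ⟨c, hc⟩
      rw [h1, ← mul_assoc, iha s hs, mul_assoc, ihc s hs, mul_assoc]
    · intro a ha iha s hs
      have h1 : ψ ⟨a⁻¹, Subgroup.inv_mem _ ha⟩ = (ψ ⟨a, ha⟩)⁻¹ := map_inv ψ ⟨a, ha⟩
      rw [h1]
      have h2 := iha s hs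
      calc s * (ψ ⟨a, ha⟩)⁻¹ = (ψ ⟨a, ha⟩)⁻¹ * (ψ ⟨a, ha⟩ * s) * (ψ ⟨a, ha⟩)⁻¹ := by group
        _ = (ψ ⟨a, ha⟩)⁻¹ * (s * ψ ⟨a, ha⟩) * (ψ ⟨a, ha⟩)⁻¹ := by rw [h2]
        _ = (ψ ⟨a, ha⟩)⁻¹ * s := by group
  have hhb : (hh : Ω) * (b : Ω) * (hh : Ω)⁻¹ = (b : Ω) := by
    rw [← hbc _ hh.2]; group
  have hgT : ∀ t ∈ Subgroup.closure ({(y : Ω), (b : Ω)} : Set Ω),
      (hh : Ω) * t * (hh : Ω)⁻¹ ∈ Subgroup.closure ({(y : Ω), (b : Ω)} : Set Ω) := by
    have hle : Subgroup.closure ({(y : Ω), (b : Ω)} : Set Ω)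
        ≤ (Subgroup.closure ({(y : Ω), (b : Ω)} : Set Ω)).comap
          (MulAut.conj (hh : Ω)).toMonoidHom := by
      rw [Subgroup.closure_le]
      rintro t (rfl | ht)
      · show (hh : Ω) * (y : Ω) * (hh : Ω)⁻¹ ∈ Subgroup.closure ({(y : Ω), (b : Ω)} : Set Ω)
        rw [hconjΩ]
        exact Subgroup.mul_mem _ hbU hyU
      · have htb : t = (b : Ω) := ht
        subst htb
        show (hh : Ω) * (b : Ω) * (hh : Ω)⁻¹ ∈ Subgroup.closure ({(y : Ω), (b : Ω)} : Set Ω)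
        rw [hhb]
        exact hbU
    intro t ht
    exact hle ht
  have hsq : ∀ t ∈ Subgroup.closure ({(y : Ω), (b : Ω)} : Set Ω),
      (hh : Ω) * ((hh : Ω) * t * (hh : Ω)⁻¹) * (hh : Ω)⁻¹ = t := by
    have heq : Set.EqOn ((MulAut.conj (hh : Ω) * MulAut.conj (hh : Ω)).toMonoidHom)
        (MonoidHom.id Ω) (Subgroup.closure ({(y : Ω), (b : Ω)} : Set Ω)) := by
      apply MonoidHom.eqOn_closure
      rintro t (rfl | ht)
      · show (hh : Ω) * ((hh : Ω) * (y : Ω) * (hh : Ω)⁻¹) * (hh : Ω)⁻¹ = (y : Ω)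
        rw [hconjΩ]
        calc (hh : Ω) * ((b : Ω) * (y : Ω)) * (hh : Ω)⁻¹
            = ((hh : Ω) * (b : Ω) * (hh : Ω)⁻¹) * ((hh : Ω) * (y : Ω) * (hh : Ω)⁻¹) := by group
          _ = (b : Ω) * ((b : Ω) * (y : Ω)) := by rw [hhb, hconjΩ]
          _ = ((b : Ω) * (b : Ω)) * (y : Ω) := by group
          _ = (y : Ω) := by rw [hbΩ2, one_mul]
      · have htb : t = (b : Ω) := ht
        subst htb
        show (hh : Ω) * ((hh : Ω) * (b : Ω) * (hh : Ω)⁻¹) * (hh : Ω)⁻¹ = (b : Ω)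
        rw [hhb, hhb]
    intro t ht
    exact heq ht
  have hfix := Cfsg.Agent.Lib.helper36.fusch_conj_fix hS F hF hψ hh.2 hgT hsq hcent (y : Ω) hyU
  rw [hconjΩ] at hfix
  exact hbΩ1 (mul_eq_right.mp hfix)

end Cfsg.Agent.S5274
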