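import Cfsg.Statements.S5276
import Cfsg.Agent.Lib.helper86.TateApp

set_option autoImplicit false
open Cfsg

namespace Cfsg.Agent.S5276

open Cfsg.FusionSystem Cfsg.Agent.Lib.helper86 Cfsg.Agent.Lib.helper88 Cfsg.Agent.Lib
open scoped commutatorElement

/-- Let p be a prime and F a saturated fusion system over a finite p-group S. Then F is the inner fusion system of S if and only if the normalizer fusion system of S itself in F is the inner fusion system (equivalently, Aut_F(S) is induced by S) and the Frattini subgroup Φ(S) is strongly closed in F. -/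
theorem result {Ω : Type*} [Group Ω] {S : Subgroup Ω} [Finite S] (p : ℕ) [Fact p.Prime] (hS : IsPGroup p ↥S) (F : Cfsg.FusionSystem S) (hF : F.IsSaturated p) : (∀ P : Subgroup Ω, F.Hom P = (Cfsg.innerFusionSystem S).Hom P) ↔ (∀ N : Cfsg.FusionSystem (Cfsg.FusionSystem.normalizerIn S S), F.IsNormalizerSystem S N → ∀ P : Subgroup Ω, N.Hom P = (Cfsg.innerFusionSystem (Cfsg.FusionSystem.normalizerIn S S)).Hom P) ∧ F.StronglyClosed ((frattini ↥S).map S.subtype) := by
  have hle : S ≤ normalizerIn S S := fun s hs => ⟨hs, Subgroup.le_normalizer hs⟩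
  constructor
  · intro hin
    refine ⟨fun N hN P => ?_, ?_⟩
    · ext φ
      constructor
      · intro hφ
        have hP := (N.le_of_mem hφ).1
        rw [hN P] at hφ
        have h1 := hφ.1
        rw [hin P] at h1
        obtain ⟨-, g, hg, h⟩ := h1
        exact ⟨hP, g, hle hg, h⟩
      · rintro ⟨hP, g, hg, h⟩
        have h1 : φ = conjHom P g := by
          ext x
          exact h x
        rw [h1]
        exact N.conj_mem hP hg
    · refine ⟨Subgroup.map_subtype_le _, fun R hR φ hφ x => ?_⟩
      rw [hin R] at hφ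
      obtain ⟨-, g, hg, h⟩ := hφ
      rw [h x]
      obtain ⟨y, hy, hyx⟩ := hR x.2
      refine ⟨⟨g, hg⟩ * y * ⟨g, hg⟩⁻¹, ?_, ?_⟩
      · exact (inferInstance : (frattini S).Normal).conj_mem y hy _
      · rw [← hyx]
        rfl
  · rintro ⟨hN, hΦ⟩
    apply hom_eq_inner_of_focal_le_frattini hS F hF
    apply focal_le_of_forall_aut hS F hF _ hΦ
    · intro x hx y hy
      refine ⟨⁅(⟨x, hx⟩ : S), ⟨y, hy⟩⁆, helper3.commutator_le_frattini hS ?_, ?_⟩
      · exact Subgroup.commutator_mem_commutator (Subgroup.mem_top _) (Subgroup.mem_top _)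
      · rw [commutatorElement_def]
        rfl
    · intro ψ hψ s
      obtain ⟨g, hg, h⟩ := exists_conj_of_normalizerSystem_inner F hN hψ
      rw [h s]
      refine ⟨⁅s⁻¹, (⟨g, hg⟩ : S)⁆, helper3.commutator_le_frattini hS ?_, ?_⟩
      · exact Subgroup.commutator_mem_commutator (Subgroup.mem_top _) (Subgroup.mem_top _)
      · rw [commutatorElement_def]
        simp [mul_assoc]

end Cfsg.Agent.S5276
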