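import Cfsg.Statements.S5281
import Cfsg.Agent.Lib.helper87.PStab2
import Cfsg.Agent.Lib.helper88.GT3

set_option autoImplicit false
open Cfsg

namespace Cfsg.Agent.S5281

/-- Let p be an odd prime and F a saturated fusion system over a finite p-group S. Call a fusion system E (over any subgroup) p-stable when, for every fully E-normalized subgroup Q and every χ in Aut_E(Q) with χ(a⁻¹)·a·χ(a⁻¹)·χ(χ(a)) = 1 for all a in Q (χ acts quadratically), χ lies in O_p(Aut_E(Q)). Then F is p-stable if and only if the normalizer fusion system of R in F is p-stable for every fully F-normalized, F-centric, F-radical subgroup R of S. -/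
theorem result {Ω : Type*} [Group Ω] {S : Subgroup Ω} [Finite S] (p : ℕ) [Fact p.Prime] (hS : IsPGroup p ↥S) (F : Cfsg.FusionSystem S) (hF : F.IsSaturated p) (hp : p ≠ 2) : (∀ Q : Subgroup Ω, F.IsFullyNormalized Q → ∀ χ : MulAut ↥Q, χ ∈ F.autGroup Q → (∀ a : ↥Q, (χ a⁻¹) * a * (χ a⁻¹) * (χ (χ a)) = 1) → χ ∈ ((Cfsg.pCore p ↥(F.autGroup Q)).map (F.autGroup Q).subtype : Subgroup (MulAut ↥Q))) ↔ ∀ R : Subgroup Ω, F.IsFullyNormalized R → F.IsCentric R → F.IsRadical p R → ∀ N : Cfsg.FusionSystem (Cfsg.FusionSystem.normalizerIn S R), F.IsNormalizerSystem R N → (∀ Q : Subgroup Ω, N.IsFullyNormalized Q → ∀ χ : MulAut ↥Q, χ ∈ N.autGroup Q → (∀ a : ↥Q, (χ a⁻¹) * a * (χ a⁻¹) * (χ (χ a)) = 1) → χ ∈ ((Cfsg.pCore p ↥(N.autGroup Q)).map (N.autGroup Q).subtype : Subgroup (MulAut ↥Q))) := by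
  classical
  constructor
  · intro hst R _ _ _ N hN
    exact Cfsg.Agent.Lib.helper87.psStable_of_le F (inf_le_left : Cfsg.FusionSystem.normalizerIn S R ≤ S) N
      (fun P φ hφ => Cfsg.Agent.Lib.helper88.hom_of_isNormalizerSystem hN hφ) hst
  · intro h Q hQfn χ hχ hq
    obtain ⟨R₀, hadm₀⟩ := Cfsg.Agent.Lib.helper87.psAdm_init hS F hF hQfn
    obtain ⟨R₁, hadm₁, hmax₁⟩ : ∃ R, Cfsg.Agent.Lib.helper87.PsAdm F Q R ∧
        ∀ R', Cfsg.Agent.Lib.helper87.PsAdm F Q R' → Nat.card R' ≤ Nat.card R := by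
      have hfin : {R | Cfsg.Agent.Lib.helper87.PsAdm F Q R}.Finite :=
        (Cfsg.Agent.Lib.helper88.finite_le (S := S)).subset (fun R hR => hR.1.1)
      obtain ⟨R, hR, hmax⟩ := Set.exists_max_image _ (fun R : Subgroup Ω => Nat.card R) hfin
        ⟨R₀, hadm₀⟩
      exact ⟨R, hR, fun R' h' => hmax R' h'⟩
    obtain ⟨R, hfn, hadm, hcard⟩ := Cfsg.Agent.Lib.helper87.psAdm_fn F hadm₁
    have hmax : ∀ R', Cfsg.Agent.Lib.helper87.PsAdm F Q R' → Nat.card R' ≤ Nat.card R := by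
      rw [hcard]
      exact hmax₁
    have hrad := Cfsg.Agent.Lib.helper87.psAdm_radical hS F hF hfn hadm hmax
    obtain ⟨hcen, Q', e, he, hQ'R, hext⟩ := hadm
    have hRS : R ≤ S := hcen.1
    have hN := Cfsg.Agent.Lib.helper89.isNormalizerSystem_normalizerSystem F R hRS
    have hstN := h R hfn hcen hrad _ hN
    have hfinT : Finite (Cfsg.FusionSystem.normalizerIn S R) :=
      Cfsg.Agent.Lib.helper88.finite_of_le (inf_le_left : Cfsg.FusionSystem.normalizerIn S R ≤ S)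
    have hQ'S : Q' ≤ S := hQ'R.trans hRS
    have hQ'T : Q' ≤ Cfsg.FusionSystem.normalizerIn S R :=
      hQ'R.trans (Cfsg.Agent.Lib.helper89.le_normalizerIn hRS)
    have hχ' : MulAut.congr e χ ∈ F.autGroup Q' := Cfsg.Agent.Lib.helper87.mem_autGroup_congr F he hχ
    have hq' : Cfsg.Agent.Lib.helper87.PsQuad (MulAut.congr e χ) :=
      Cfsg.Agent.Lib.helper87.psQuad_congr e hq
    have hAut : (Cfsg.Agent.Lib.helper89.normalizerSystem F R hRS).autGroup Q' = F.autGroup Q' := by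
      apply le_antisymm
      · intro α hα
        rw [Cfsg.Agent.Lib.helper88.mem_autGroup_iff' _ hQ'T] at hα
        rw [Cfsg.Agent.Lib.helper88.mem_autGroup_iff' F hQ'S]
        exact Cfsg.Agent.Lib.helper88.hom_of_isNormalizerSystem hN hα
      · intro α hα
        rw [Cfsg.Agent.Lib.helper88.mem_autGroup_iff' _ hQ'T]
        obtain ⟨β, hβ, hβx⟩ := hext α hα
        rw [hN Q', Cfsg.Agent.Lib.helper89.mem_normalizerHom_iff]
        exact ⟨(Cfsg.Agent.Lib.helper88.mem_autGroup_iff' F hQ'S α).mp hα, hQ'T,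
          fun x => hQ'T (α x).2, R, R.subtype.comp β.toMonoidHom,
          (Cfsg.Agent.Lib.helper88.mem_autGroup_iff' F hRS β).mp hβ, hQ'R, le_rfl,
          fun x hx hR => hβx x hx hR, fun q _ hR => (β ⟨q, hR⟩).2⟩
    have hgoodN : Cfsg.Agent.Lib.helper87.PsGood (Cfsg.Agent.Lib.helper89.normalizerSystem F R hRS) p Q'
        (MulAut.congr e χ) :=
      Cfsg.Agent.Lib.helper87.psGood_of_stable _ hstN hQ'T (by rw [hAut]; exact hχ') hq'
    have hgoodF : Cfsg.Agent.Lib.helper87.PsGood F p Q' (MulAut.congr e χ) := by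
      unfold Cfsg.Agent.Lib.helper87.PsGood at hgoodN ⊢
      rw [hAut] at hgoodN
      exact hgoodN
    exact Cfsg.Agent.Lib.helper87.psGood_of_congr F he hgoodF

end Cfsg.Agent.S5281
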