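import Cfsg.Statements.S5283
import Mathlib
import Cfsg.Agent.S5301
import Cfsg.Agent.Lib.helper88.FusionBasic
import Cfsg.Agent.Lib.helper89.SuperSol
import Cfsg.Agent.Lib.helper89.AutSystem
import Cfsg.Agent.Lib.helper89.StabChain
import Cfsg.Agent.Lib.helper89.FusionClosed
import Cfsg.Agent.Lib.helper89.FusionNormalizer
import Cfsg.Agent.Lib.helper89.FusionSat
import Cfsg.Agent.Lib.helper90.AbelianFusion

set_option autoImplicit false
open Cfsg

namespace Cfsg.Agent.S5283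

universe u

open Cfsg.FusionSystem Cfsg.Agent.Lib.helper89

/-- The image in `S / C` of a section `(C ⊔ ⟨x₁⟩) ∩ P` is cyclic: it has a generator. -/
theorem section_setup {Ω : Type*} [Group Ω] {S : Subgroup Ω} (C : Subgroup Ω) (hCS : C ≤ S)
    [hCn : (C.subgroupOf S).Normal] {x₁ : Ω} (hx₁ : x₁ ∈ S) {P : Subgroup Ω} (hPS : P ≤ S)
    (D : Subgroup Ω) (hD : D = C ⊔ Subgroup.zpowers x₁) :
    ∃ y₀ ∈ D.subgroupOf P, ∀ y ∈ D.subgroupOf P,
      ((QuotientGroup.mk' (C.subgroupOf S)).comp (Subgroup.inclusion hPS)) y ∈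
        Subgroup.zpowers
          (((QuotientGroup.mk' (C.subgroupOf S)).comp (Subgroup.inclusion hPS)) y₀) := by
  apply exists_gen_of_le_zpowers _ _ (QuotientGroup.mk' (C.subgroupOf S) ⟨x₁, hx₁⟩)
  intro y hy
  have hle : D ≤ ((Subgroup.zpowers (QuotientGroup.mk' (C.subgroupOf S) ⟨x₁, hx₁⟩)).comap
      (QuotientGroup.mk' (C.subgroupOf S))).map S.subtype := by
    rw [hD]
    refine sup_le ?_ ?_
    · intro t ht
      refine ⟨⟨t, hCS ht⟩, Subgroup.mem_comap.mpr ?_, rfl⟩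
      have h1 : QuotientGroup.mk' (C.subgroupOf S) ⟨t, hCS ht⟩ = 1 :=
        (QuotientGroup.eq_one_iff _).mpr (Subgroup.mem_subgroupOf.mpr ht)
      rw [h1]
      exact Subgroup.one_mem _
    · rw [Subgroup.zpowers_le]
      exact ⟨⟨x₁, hx₁⟩, Subgroup.mem_zpowers _, rfl⟩
  obtain ⟨s, hs, hsy⟩ := hle (Subgroup.mem_subgroupOf.mp hy)
  have h2 : Subgroup.inclusion hPS y = s := Subtype.ext hsy.symm
  rw [MonoidHom.comp_apply, h2]
  exact Subgroup.mem_comap.mp hs

/-- A chain of strongly closed subgroups with cyclic steps forces `S` to be normal. -/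
theorem normal_of_chain {Ω : Type u} [Group Ω] {S : Subgroup Ω} [Finite S] (p : ℕ) [Fact p.Prime]
    (hS : IsPGroup p S) (F : FusionSystem S) (hF : F.IsSaturated p) (m : ℕ)
    (c : Fin (m + 1) → Subgroup Ω) (h0 : c 0 = ⊥) (hl : c (Fin.last m) = S)
    (hsc : ∀ i, F.StronglyClosed (c i))
    (hstep : ∀ i : Fin m, c i.castSucc ≤ c i.succ ∧
      ∃ x ∈ S, c i.succ = c i.castSucc ⊔ Subgroup.zpowers x) : F.IsNormal S := by
  apply Cfsg.Agent.S5301.result p hS F hF
  intro P hPfn _ _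
  have hPS : P ≤ S := hPfn.1
  have hfinP : Finite P := finite_of_le hPS
  have hfinA : Finite ↥(F.autGroup P) := finite_autGroup F hPS
  have hinvc : ∀ (i : Fin (m + 1)), ∀ a ∈ F.autGroup P, ∀ x ∈ (c i).subgroupOf P,
      a x ∈ (c i).subgroupOf P := by
    intro i a ha x hx
    have h1 := (mem_autGroup_iff F hPS a).mp ha
    have h2 := Cfsg.Agent.Lib.helper88.restrict_mem F (inf_le_right : c i ⊓ P ≤ P) h1
    exact (hsc i).2 (c i ⊓ P) inf_le_left _ h2 ⟨x, ⟨hx, x.2⟩⟩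
  obtain ⟨Cs, hCs⟩ : ∃ Cs : Set (Subgroup P × Subgroup P), ∀ MM', MM' ∈ Cs ↔
      ∃ i : Fin m, MM' = ((c i.succ).subgroupOf P, (c i.castSucc).subgroupOf P) :=
    ⟨{MM' | ∃ i : Fin m, MM' = ((c i.succ).subgroupOf P, (c i.castSucc).subgroupOf P)},
      fun _ => Iff.rfl⟩
  have hinv : ∀ a ∈ F.autGroup P, ∀ MM' ∈ Cs,
      (∀ x ∈ MM'.1, a x ∈ MM'.1) ∧ (∀ x ∈ MM'.2, a x ∈ MM'.2) := by
    intro a ha MM' hMM'
    obtain ⟨i, rfl⟩ := (hCs MM').mp hMM'
    exact ⟨hinvc i.succ a ha, hinvc i.castSucc a ha⟩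
  have hKp : IsPGroup p (stabilizerOfPairs (F.autGroup P) Cs hinv) := by
    refine isPGroup_stabilizerOfPairs (hS.to_le hPS) _ Cs hinv ?_
    intro Pr hbot hstepPr
    have hall : ∀ i : Fin (m + 1), Pr ((c i).subgroupOf P) := by
      intro i
      induction i using Fin.induction with
      | zero =>
        rw [h0, Subgroup.bot_subgroupOf]
        exact hbot
      | succ i ih =>
        exact hstepPr _ _ ((hCs _).mpr ⟨i, rfl⟩) (fun x hx => (hstep i).1 hx) ih
    have h1 := hall (Fin.last m)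
    rw [hl, Subgroup.subgroupOf_eq_top.mpr hPS] at h1
    exact h1
  have hcomm : ∀ a ∈ F.autGroup P, ∀ b ∈ F.autGroup P,
      a * b * a⁻¹ * b⁻¹ ∈ stabilizerOfPairs (F.autGroup P) Cs hinv := by
    intro a ha b hb
    refine mem_stabilizerOfPairs.mpr ⟨?_, ?_⟩
    · exact Subgroup.mul_mem _ (Subgroup.mul_mem _ (Subgroup.mul_mem _ ha hb)
        (Subgroup.inv_mem _ ha)) (Subgroup.inv_mem _ hb)
    · intro MM' hMM'
      obtain ⟨i, rfl⟩ := (hCs MM').mp hMM'
      intro x hx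
      show x⁻¹ * (a * b * a⁻¹ * b⁻¹) x ∈ (c i.castSucc).subgroupOf P
      obtain ⟨x₁, hx₁S, hx₁⟩ := (hstep i).2
      have hCS : c i.castSucc ≤ S := (hsc i.castSucc).1
      have hCn : ((c i.castSucc).subgroupOf S).Normal := ⟨fun n hn g => by
        rw [Subgroup.mem_subgroupOf] at hn ⊢
        exact conj_mem_of_stronglyClosed F (hsc i.castSucc) g.2 hn⟩
      obtain ⟨y₀, hy₀, hcyc⟩ := section_setup (c i.castSucc) hCS hx₁S hPS (c i.succ) hx₁
      have hρ : ∀ y : P, ((QuotientGroup.mk' ((c i.castSucc).subgroupOf S)).comp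
          (Subgroup.inclusion hPS)) y = 1 ↔ y ∈ (c i.castSucc).subgroupOf P := by
        intro y
        show QuotientGroup.mk' ((c i.castSucc).subgroupOf S) (Subgroup.inclusion hPS y) = 1 ↔ _
        rw [QuotientGroup.mk'_apply, QuotientGroup.eq_one_iff]
        rfl
      have h1 := section_comm _ _ hy₀ hcyc (F.autGroup P) (hinvc i.succ)
        (fun a' ha' y hy => (hρ _).mpr (hinvc i.castSucc a' ha' y ((hρ y).mp hy))) ha hb x hx
      rw [← hρ, map_mul, map_inv, h1, inv_mul_cancel]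
  exact exists_normal_sylow_of_comm
    ((stabilizerOfPairs (F.autGroup P) Cs hinv).subgroupOf (F.autGroup P)) hKp.comap_subtype
    (fun a b => hcomm a.1 a.2 b.1 b.2)

/-- If every saturated fusion system over `S` has such a chain, the `p'`-subgroups of `Aut(S)` are
abelian of exponent dividing `p - 1`. -/
theorem aut_of_chain {Ω : Type u} [Group Ω] {S : Subgroup Ω} [Finite S] (p : ℕ) [Fact p.Prime]
    (hS : IsPGroup p S)
    (hall : ∀ F : FusionSystem S, F.IsSaturated p → ∃ (m : ℕ) (c : Fin (m + 1) → Subgroup Ω),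
      c 0 = ⊥ ∧ c (Fin.last m) = S ∧ (∀ i : Fin (m + 1), F.StronglyClosed (c i)) ∧
      ∀ i : Fin m, c i.castSucc ≤ c i.succ ∧ ∃ x ∈ S, c i.succ = c i.castSucc ⊔ Subgroup.zpowers x)
    (H : Subgroup (MulAut S)) (hH : (Nat.card H).Coprime p) :
    IsMulCommutative ↥H ∧ ∀ h ∈ H, h ^ (p - 1) = 1 := by
  have hp : p.Prime := Fact.out
  obtain ⟨B, hB⟩ : ∃ B : Subgroup (MulAut S), B = Cfsg.Inn S ⊔ H := ⟨_, rfl⟩
  have hInnB : Cfsg.Inn S ≤ B := by rw [hB]; exact le_sup_left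
  have hHB : H ≤ B := by rw [hB]; exact le_sup_right
  have hpowH : ∀ h ∈ H, h ^ Nat.card H = 1 := by
    intro h hh
    have h1 := pow_card_eq_one' (G := ↥H) (x := ⟨h, hh⟩)
    exact congrArg Subtype.val h1
  have hBm : ∀ b ∈ B, b ^ Nat.card H ∈ Cfsg.Inn S := by
    intro b hb
    have hle : B ≤ (H.map (QuotientGroup.mk' (Cfsg.Inn S))).comap
        (QuotientGroup.mk' (Cfsg.Inn S)) := by
      rw [hB]
      refine sup_le ?_ (Subgroup.le_comap_map _ H)
      intro c' hc'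
      rw [Subgroup.mem_comap]
      have h1 : QuotientGroup.mk' (Cfsg.Inn S) c' = 1 := (QuotientGroup.eq_one_iff c').mpr hc'
      rw [h1]
      exact Subgroup.one_mem _
    obtain ⟨h, hh, hπ⟩ := hle hb
    have h1 : QuotientGroup.mk' (Cfsg.Inn S) (b ^ Nat.card H) = 1 := by
      rw [map_pow, ← hπ, ← map_pow, hpowH h hh, map_one]
    exact (QuotientGroup.eq_one_iff _).mp h1
  have hsat := autSystem_saturated S hS B hInnB (Nat.card H) hH hBm
  obtain ⟨m, c, h0, hl, hsc, hstep⟩ := hall _ hsat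
  have hinvc : ∀ (i : Fin (m + 1)), ∀ a ∈ H, ∀ x ∈ (c i).subgroupOf S,
      a x ∈ (c i).subgroupOf S := by
    intro i a ha x hx
    have hci : c i ≤ S := (hsc i).1
    have h2 : (S.subtype.comp a.toMonoidHom).comp (Subgroup.inclusion hci) ∈
        (autSystem S B hInnB).Hom (c i) := ⟨hci, a, hHB ha, fun y => rfl⟩
    exact (hsc i).2 (c i) le_rfl _ h2 ⟨(x : Ω), hx⟩
  obtain ⟨Cs, hCs⟩ : ∃ Cs : Set (Subgroup S × Subgroup S), ∀ MM', MM' ∈ Cs ↔
      ∃ i : Fin m, MM' = ((c i.succ).subgroupOf S, (c i.castSucc).subgroupOf S) :=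
    ⟨{MM' | ∃ i : Fin m, MM' = ((c i.succ).subgroupOf S, (c i.castSucc).subgroupOf S)},
      fun _ => Iff.rfl⟩
  have hinv : ∀ a ∈ H, ∀ MM' ∈ Cs,
      (∀ x ∈ MM'.1, a x ∈ MM'.1) ∧ (∀ x ∈ MM'.2, a x ∈ MM'.2) := by
    intro a ha MM' hMM'
    obtain ⟨i, rfl⟩ := (hCs MM').mp hMM'
    exact ⟨hinvc i.succ a ha, hinvc i.castSucc a ha⟩
  have hKp : IsPGroup p (stabilizerOfPairs H Cs hinv) := by
    refine isPGroup_stabilizerOfPairs hS H Cs hinv ?_
    intro Pr hbot hstepPr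
    have hall' : ∀ i : Fin (m + 1), Pr ((c i).subgroupOf S) := by
      intro i
      induction i using Fin.induction with
      | zero =>
        rw [h0, Subgroup.bot_subgroupOf]
        exact hbot
      | succ i ih =>
        exact hstepPr _ _ ((hCs _).mpr ⟨i, rfl⟩) (fun x hx => (hstep i).1 hx) ih
    have h1 := hall' (Fin.last m)
    rw [hl, Subgroup.subgroupOf_self] at h1
    exact h1
  have htriv : ∀ d ∈ stabilizerOfPairs H Cs hinv, d = 1 := by
    intro d hd
    obtain ⟨j, hj⟩ := hKp ⟨d, hd⟩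
    have hj' : d ^ p ^ j = 1 := congrArg Subtype.val hj
    have h1 : orderOf d ∣ p ^ j := orderOf_dvd_of_pow_eq_one hj'
    have h2 : orderOf d ∣ Nat.card H := orderOf_dvd_of_pow_eq_one (hpowH d hd.1)
    have h3 : (orderOf d).Coprime (Nat.card H) :=
      Nat.Coprime.coprime_dvd_left h1 (Nat.Coprime.pow_left j hH.symm)
    exact orderOf_eq_one_iff.mp (Nat.Coprime.eq_one_of_dvd h3 h2)
  obtain ⟨k, hk⟩ := IsPGroup.iff_card.mp hS
  have hsec : ∀ i : Fin m,
      (∀ a ∈ H, ∀ b ∈ H, ActsTriviallyOn (a * b * a⁻¹ * b⁻¹) ((c i.succ).subgroupOf S)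
        ((c i.castSucc).subgroupOf S)) ∧
      (∀ a ∈ H, ActsTriviallyOn (a ^ ((p - 1) * p ^ k)) ((c i.succ).subgroupOf S)
        ((c i.castSucc).subgroupOf S)) := by
    intro i
    obtain ⟨x₁, hx₁S, hx₁⟩ := (hstep i).2
    have hCS : c i.castSucc ≤ S := (hsc i.castSucc).1
    have hCn : ((c i.castSucc).subgroupOf S).Normal := ⟨fun n hn g => by
      rw [Subgroup.mem_subgroupOf] at hn ⊢
      exact conj_mem_of_stronglyClosed _ (hsc i.castSucc) g.2 hn⟩
    obtain ⟨y₀, hy₀, hcyc⟩ := section_setup (c i.castSucc) hCS hx₁S (le_refl S) (c i.succ) hx₁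
    have hρ : ∀ y : S, ((QuotientGroup.mk' ((c i.castSucc).subgroupOf S)).comp
        (Subgroup.inclusion (le_refl S))) y = 1 ↔ y ∈ (c i.castSucc).subgroupOf S := by
      intro y
      show QuotientGroup.mk' ((c i.castSucc).subgroupOf S)
        (Subgroup.inclusion (le_refl S) y) = 1 ↔ _
      rw [QuotientGroup.mk'_apply, QuotientGroup.eq_one_iff]
      rfl
    have hpk : ((QuotientGroup.mk' ((c i.castSucc).subgroupOf S)).comp
        (Subgroup.inclusion (le_refl S))) y₀ ^ (p ^ k) = 1 := by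
      rw [← map_pow, ← hk, pow_card_eq_one', map_one]
    have hAK : ∀ a' ∈ H, ∀ y, ((QuotientGroup.mk' ((c i.castSucc).subgroupOf S)).comp
        (Subgroup.inclusion (le_refl S))) y = 1 → ((QuotientGroup.mk' ((c i.castSucc).subgroupOf S)).comp
        (Subgroup.inclusion (le_refl S))) (a' y) = 1 :=
      fun a' ha' y hy => (hρ _).mpr (hinvc i.castSucc a' ha' y ((hρ y).mp hy))
    refine ⟨fun a ha b hb x hx => ?_, fun a ha x hx => ?_⟩
    · have h1 := section_comm _ _ hy₀ hcyc H (hinvc i.succ) hAK ha hb x hx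
      rw [← hρ, map_mul, map_inv, h1, inv_mul_cancel]
    · have h1 := section_exp (p := p) _ _ hy₀ hcyc k hpk H (hinvc i.succ) hAK ha x hx
      rw [← hρ, map_mul, map_inv, h1, inv_mul_cancel]
  have hcommH : ∀ a ∈ H, ∀ b ∈ H, a * b = b * a := by
    intro a ha b hb
    have h1 : a * b * a⁻¹ * b⁻¹ ∈ stabilizerOfPairs H Cs hinv := by
      refine mem_stabilizerOfPairs.mpr
        ⟨H.mul_mem (H.mul_mem (H.mul_mem ha hb) (H.inv_mem ha)) (H.inv_mem hb), ?_⟩
      intro MM' hMM'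
      obtain ⟨i, rfl⟩ := (hCs MM').mp hMM'
      exact (hsec i).1 a ha b hb
    have h2 := htriv _ h1
    have h3 : a * b * a⁻¹ = b := mul_inv_eq_one.mp h2
    exact mul_inv_eq_iff_eq_mul.mp h3
  refine ⟨isMulCommutative_iff.mpr (fun a b => Subtype.ext (hcommH a.1 a.2 b.1 b.2)),
    fun a ha => ?_⟩
  have h1 : a ^ ((p - 1) * p ^ k) ∈ stabilizerOfPairs H Cs hinv := by
    refine mem_stabilizerOfPairs.mpr ⟨H.pow_mem ha _, ?_⟩
    intro MM' hMM'
    obtain ⟨i, rfl⟩ := (hCs MM').mp hMM'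
    exact (hsec i).2 a ha
  have h2 := htriv _ h1
  have h3 : orderOf a ∣ (p - 1) * p ^ k := orderOf_dvd_of_pow_eq_one h2
  have h4 : orderOf a ∣ Nat.card H := orderOf_dvd_of_pow_eq_one (hpowH a ha)
  have h5 : (orderOf a).Coprime (p ^ k) :=
    Nat.Coprime.coprime_dvd_left h4 (Nat.Coprime.pow_right k hH)
  exact orderOf_dvd_iff_pow_eq_one.mp (h5.dvd_of_dvd_mul_right h3)

/-- If `S` is normal in `F` and the `p'`-subgroups of `Aut(S)` are abelian of exponent dividing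
`p - 1`, then `F` is supersoluble. -/
theorem chain_of_normal {Ω : Type u} [Group Ω] {S : Subgroup Ω} [Finite S] (p : ℕ) [Fact p.Prime]
    (hS : IsPGroup p S)
    (hH : ∀ H : Subgroup (MulAut S), (Nat.card H).Coprime p →
      IsMulCommutative ↥H ∧ ∀ h ∈ H, h ^ (p - 1) = 1)
    (F : FusionSystem S) (hF : F.IsSaturated p) (hN : F.IsNormal S) :
    ∃ (m : ℕ) (c : Fin (m + 1) → Subgroup Ω), c 0 = ⊥ ∧ c (Fin.last m) = S ∧
      (∀ i : Fin (m + 1), F.StronglyClosed (c i)) ∧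
      ∀ i : Fin m, c i.castSucc ≤ c i.succ ∧
        ∃ x ∈ S, c i.succ = c i.castSucc ⊔ Subgroup.zpowers x := by
  have hp : p.Prime := Fact.out
  have hfinA : Finite ↥(F.autGroup S) := finite_autGroup F le_rfl
  obtain ⟨Q, ⟨χ, hχ, hχQ⟩, hfa, -⟩ := hF S le_rfl
  have hQS : Q = S := by
    have h1 : Q ≤ S := by
      rw [← hχQ]
      rintro _ ⟨x, rfl⟩
      exact (F.le_of_mem hχ).2 x
    refine Subgroup.eq_of_le_of_card_ge h1 ?_
    rw [← hχQ]
    exact le_of_eq (Nat.card_congr (MonoidHom.ofInjective (F.injective_of_mem hχ)).toEquiv)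
  rw [hQS] at hfa
  obtain ⟨-, R, hR⟩ := hfa
  have hRn : (R : Subgroup (F.autGroup S)).Normal := by
    rw [hR]
    constructor
    intro n hn g
    rw [Subgroup.mem_subgroupOf] at hn ⊢
    obtain ⟨h, hh, hnh⟩ := (mem_autInducedBy_iff S S _).mp hn
    refine (mem_autInducedBy_iff S S _).mpr
      ⟨((g : MulAut S) ⟨h, hh⟩ : S), ((g : MulAut S) ⟨h, hh⟩).2, fun x => ?_⟩
    have h1 : ((g * n * g⁻¹ : F.autGroup S) : MulAut S) x
        = (g : MulAut S) ((n : MulAut S) ((g : MulAut S)⁻¹ x)) := rfl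
    have h2 : (n : MulAut S) ((g : MulAut S)⁻¹ x)
        = ⟨h, hh⟩ * ((g : MulAut S)⁻¹ x) * (⟨h, hh⟩ : S)⁻¹ := Subtype.ext (hnh _)
    rw [h1, h2, map_mul, map_mul, map_inv]
    simp
  have hcop : (Nat.card (R : Subgroup (F.autGroup S))).Coprime
      (R : Subgroup (F.autGroup S)).index := Sylow.card_coprime_index R
  obtain ⟨H₀, hH₀⟩ := Subgroup.exists_right_complement'_of_coprime hcop
  obtain ⟨H, hHdef⟩ : ∃ H : Subgroup (MulAut S), H = H₀.map (F.autGroup S).subtype := ⟨_, rfl⟩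
  have hHcard : (Nat.card H).Coprime p := by
    have h1 : Nat.card H = Nat.card H₀ := by
      rw [hHdef]
      exact Subgroup.card_map_of_injective (Subgroup.subtype_injective _)
    have h2 := hH₀.card_mul_card
    have h3 := Subgroup.card_mul_index (R : Subgroup (F.autGroup S))
    have h4 : Nat.card H₀ = (R : Subgroup (F.autGroup S)).index := by
      have h5 : 0 < Nat.card (R : Subgroup (F.autGroup S)) := Nat.card_pos
      exact Nat.eq_of_mul_eq_mul_left h5 (h2.trans h3.symm)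
    rw [h1, h4]
    exact ((Nat.Prime.coprime_iff_not_dvd hp).mpr (Sylow.not_dvd_index R)).symm
  obtain ⟨hHc, hHe⟩ := hH H hHcard
  have hcommH : ∀ a ∈ H, ∀ b ∈ H, a * b = b * a := by
    intro a ha b hb
    exact congrArg Subtype.val (isMulCommutative_iff.mp hHc ⟨a, ha⟩ ⟨b, hb⟩)
  have hr := cycReach_bot_top (p := p) (Nat.card S) ↥S rfl hS (H : Set (MulAut S)) hcommH hHe
  obtain ⟨m, c', h0, hl, hP, hs⟩ := hr.exists_chain
  have hAinv : ∀ i : Fin (m + 1), ∀ α ∈ F.autGroup S, ∀ y ∈ c' i, α y ∈ c' i := by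
    intro i α hα y hy
    have htop : (⟨α, hα⟩ : F.autGroup S) ∈ (R : Subgroup (F.autGroup S)) ⊔ H₀ := by
      rw [hH₀.sup_eq_top]
      exact Subgroup.mem_top _
    obtain ⟨n, hn, h, hh, hnh⟩ := Subgroup.mem_sup_of_normal_left.mp htop
    have hnR : (n : MulAut S) ∈ autInducedBy S S := by
      have h1 : n ∈ (autInducedBy S S).subgroupOf (F.autGroup S) := by
        rw [← hR]
        exact hn
      exact Subgroup.mem_subgroupOf.mp h1
    obtain ⟨g, hg, hgx⟩ := (mem_autInducedBy_iff S S _).mp hnR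
    have hhH : (h : MulAut S) ∈ H := by
      rw [hHdef]
      exact ⟨h, hh, rfl⟩
    have hαeq : α = (n : MulAut S) * (h : MulAut S) := (congrArg Subtype.val hnh).symm
    have h1 : (h : MulAut S) y ∈ c' i := (hP i).2 _ hhH y hy
    have h2 : α y = ⟨g, hg⟩ * ((h : MulAut S) y) * (⟨g, hg⟩ : S)⁻¹ := by
      rw [hαeq, MulAut.mul_apply]
      exact Subtype.ext (hgx _)
    rw [h2]
    exact (hP i).1.conj_mem _ h1 _
  have hext := ((isNormal_iff_forall_normExt F S).mp hN).2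
  refine ⟨m, fun i => (c' i).map S.subtype, ?_, ?_, ?_, ?_⟩
  · show (c' 0).map S.subtype = ⊥
    rw [h0, Subgroup.map_bot]
  · show (c' (Fin.last m)).map S.subtype = S
    rw [hl, ← MonoidHom.range_eq_map, Subgroup.range_subtype]
  · intro i
    refine ⟨?_, fun R₁ hR₁ φ hφ x => ?_⟩
    · rintro _ ⟨y, -, rfl⟩
      exact y.2
    · obtain ⟨R', ψ, hψ, hRR', hSR', h1, -⟩ := hext R₁ φ hφ
      obtain ⟨α, hα, hαψ⟩ := Cfsg.Agent.Lib.helper90.exists_autGroup_of_hom_top F
        (Cfsg.Agent.Lib.helper88.restrict_mem F hSR' hψ)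
      have hx' : (x : Ω) ∈ (c' i).map S.subtype := hR₁ x.2
      obtain ⟨y, hy, hyx⟩ := hx'
      have h2 : φ x = ψ ⟨(x : Ω), hRR' x.2⟩ := (h1 (x : Ω) x.2 (hRR' x.2)).symm
      have h3 : (⟨(x : Ω), hRR' x.2⟩ : R') = Subgroup.inclusion hSR' y := Subtype.ext hyx.symm
      have h4 : ψ (Subgroup.inclusion hSR' y) = ((α y : S) : Ω) := (hαψ y).symm
      show φ x ∈ (c' i).map S.subtype
      rw [h2, h3, h4]
      exact ⟨α y, hAinv i α hα y hy, rfl⟩
  · intro i
    obtain ⟨hle, x, hx⟩ := hs i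
    refine ⟨Subgroup.map_mono hle, (x : Ω), x.2, ?_⟩
    show (c' i.succ).map S.subtype = (c' i.castSucc).map S.subtype ⊔ Subgroup.zpowers (x : Ω)
    rw [hx, Subgroup.map_sup, MonoidHom.map_zpowers]
    try rfl


/-- Call a saturated fusion system F over a finite p-group S supersoluble when S has a chain of subgroups 1 = S_0 ≤ S_1 ≤ … ≤ S_m = S, each strongly closed in F, with each S_{i+1} generated by S_i together with one further element (cyclic steps). Then every saturated fusion system over S is supersoluble if and only if S is normal in every saturated fusion system over S (S is resistant) and every subgroup of Aut(S) of order prime to p is abelian of exponent dividing p − 1. -/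
theorem result {Ω : Type*} [Group Ω] {S : Subgroup Ω} [Finite S] (p : ℕ) [Fact p.Prime] (hS : IsPGroup p ↥S) : (∀ F : Cfsg.FusionSystem S, F.IsSaturated p → (∃ (m : ℕ) (c : Fin (m + 1) → Subgroup Ω), c 0 = ⊥ ∧ c (Fin.last m) = S ∧ (∀ i : Fin (m + 1), F.StronglyClosed (c i)) ∧ ∀ i : Fin m, c i.castSucc ≤ c i.succ ∧ ∃ x ∈ S, c i.succ = c i.castSucc ⊔ Subgroup.zpowers x)) ↔ (∀ F : Cfsg.FusionSystem S, F.IsSaturated p → F.IsNormal S) ∧ ∀ H : Subgroup (MulAut ↥S), (Nat.card ↥H).Coprime p → IsMulCommutative ↥H ∧ ∀ h ∈ H, h ^ (p - 1) = 1 := by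
  constructor
  · intro hall
    refine ⟨fun F hF => ?_, fun H hH => aut_of_chain p hS hall H hH⟩
    obtain ⟨m, c, h0, hl, hsc, hstep⟩ := hall F hF
    exact normal_of_chain p hS F hF m c h0 hl hsc hstep
  · rintro ⟨hN, hH⟩ F hF
    exact chain_of_normal p hS hH F hF (hN F hF)

end Cfsg.Agent.S5283
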