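-- Statement S5290: `Q` is normal in `F` iff the inner system of `Q` is weakly normal in `F`.
import Cfsg.Statements.S5290
import Cfsg.Agent.S5226
import Cfsg.Agent.Lib.helper89.AutSystem

set_option autoImplicit false
open Cfsg

namespace Cfsg.Agent.S5290

open Cfsg.Agent.Lib.helper89 Cfsg.FusionSystem
open scoped commutatorElement

/-- Two fusion systems over the same subgroup with the same maps are equal. -/
theorem fusionSystem_eq_of_hom_eq {Ω : Type*} [Group Ω] {S : Subgroup Ω} (X Y : FusionSystem S)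
    (h : ∀ P : Subgroup Ω, X.Hom P = Y.Hom P) : X = Y := by
  cases X
  cases Y
  simp only [FusionSystem.mk.injEq]
  funext P
  exact h P

/-- The inner fusion system of `Q` is the system of the group `Inn(Q)`. -/
theorem autSystem_inn_eq {Ω : Type*} [Group Ω] (Q : Subgroup Ω) :
    autSystem Q (Cfsg.Inn Q) le_rfl = innerFusionSystem Q := by
  apply fusionSystem_eq_of_hom_eq
  intro P
  ext φ
  constructor
  · rintro ⟨hP, b, ⟨g, rfl⟩, h⟩
    exact ⟨hP, (g : Ω), g.2, fun x => h x⟩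
  · rintro ⟨hP, g, hg, h⟩
    exact ⟨hP, MulAut.conj ⟨g, hg⟩, ⟨⟨g, hg⟩, rfl⟩, fun x => h x⟩

/-- The inner fusion system of a finite `p`-group is saturated. -/
theorem innerFusionSystem_saturated {Ω : Type*} [Group Ω] (Q : Subgroup Ω) [Finite Q] {p : ℕ}
    [Fact p.Prime] (hQ : IsPGroup p Q) : (innerFusionSystem Q).IsSaturated p := by
  have hpp : p.Prime := Fact.out
  rw [← autSystem_inn_eq Q]
  exact autSystem_saturated Q hQ (Cfsg.Inn Q) le_rfl 1 (Nat.coprime_one_left p)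
    (fun b hb => by rw [pow_one]; exact hb)

/-- Let F be a saturated fusion system over a finite p-group S and Q a subgroup of S. Then Q is normal in F (F = N_F(Q)) if and only if the inner fusion system of Q, consisting of the conjugations by elements of Q on subgroups of Q, is a weakly normal subsystem of F (both saturated, Q strongly closed, invariant under F-conjugation, with the Frattini property). -/
theorem result {Ω : Type*} [Group Ω] {S : Subgroup Ω} [Finite S] (p : ℕ) [Fact p.Prime] (hS : IsPGroup p S)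
    (F : Cfsg.FusionSystem S) (hF : F.IsSaturated p)
    (Q : Subgroup Ω) (hQ : Q ≤ S) :
    F.IsNormal Q ↔ (Cfsg.innerFusionSystem Q).IsWeaklyNormalIn F p := by
  have hfinQ : Finite Q := finite_of_le hQ
  have hQp : IsPGroup p Q := hS.to_le hQ
  constructor
  · intro hQn
    obtain ⟨-, hext⟩ := (isNormal_iff_forall_normExt F Q).mp hQn
    have hsc : F.StronglyClosed Q := (Cfsg.Agent.S5226.forward p hS F Q hQn).1
    refine ⟨innerFusionSystem_saturated Q hQp, hF, ?_, hsc, ?_, ?_⟩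
    · -- subsystem
      rintro P φ ⟨hP, g, hg, h⟩
      have h1 : conjHom P g ∈ F.Hom P := F.conj_mem (hP.trans hQ) (hQ hg)
      have h2 : φ = conjHom P g := by
        ext x
        exact h x
      rw [h2]
      exact h1
    · -- invariance
      rintro P hPQ φ ⟨-, g, hg, hφ⟩ α hα
      set P' : Subgroup Ω := (P.subgroupOf Q).map (Q.subtype.comp α.toMonoidHom) with hP'
      have hP'Q : P' ≤ Q := by
        rintro _ ⟨y, -, rfl⟩
        exact (α y).2
      refine ⟨conjHom P' ((α ⟨g, hg⟩ : Q) : Ω), ⟨hP'Q, ((α ⟨g, hg⟩ : Q) : Ω), (α ⟨g, hg⟩).2,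
        fun y => rfl⟩, ?_⟩
      intro x hφx hαx
      show ((α ⟨g, hg⟩ : Q) : Ω) * ((α ⟨x, hPQ x.2⟩ : Q) : Ω) * ((α ⟨g, hg⟩ : Q) : Ω)⁻¹ = _
      have h1 : (⟨φ x, hφx⟩ : Q) = ⟨g, hg⟩ * ⟨x, hPQ x.2⟩ * (⟨g, hg⟩ : Q)⁻¹ :=
        Subtype.ext (hφ x)
      rw [h1, map_mul, map_mul, map_inv]
      rfl
    · -- Frattini
      intro P hPQ φ hφ
      obtain ⟨R', ψ, hψ, hPR', hQR', h1, h2⟩ := hext P φ hφ
      have hψQ := Cfsg.Agent.Lib.helper88.restrict_mem F hQR' hψ
      obtain ⟨α, hα⟩ := exists_aut_of_mem F hψQ (fun q => h2 q q.2 (hQR' q.2))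
      have hαF : α ∈ F.autGroup Q := by
        rw [mem_autGroup_iff F hQ]
        have : Q.subtype.comp α.toMonoidHom = ψ.comp (Subgroup.inclusion hQR') := by
          ext x
          exact hα x
        rw [this]
        exact hψQ
      refine ⟨α, hαF, P.subtype, ⟨hPQ, 1, Q.one_mem, fun x => by simp⟩, ?_⟩
      intro x hx
      rw [hα]
      exact (h1 x x.2 (hPR' x.2)).symm
  · rintro ⟨-, -, -, hsc, -, hfr⟩
    have hnil : Group.IsNilpotent Q := hQp.isNilpotent
    obtain ⟨n, hn⟩ := Group.IsNilpotent.nilpotent Q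
    refine Cfsg.Agent.S5226.backward p hS F hF Q hsc n
      (fun i => (Subgroup.upperCentralSeries Q i).map Q.subtype) ?_ ?_ ?_ ?_ ?_
    · simp
    · ext y
      simp [hn]
    · intro i j hij
      exact Subgroup.map_mono (Subgroup.upperCentralSeries_mono Q hij)
    · intro i _
      rw [Subgroup.commutator_le]
      rintro _ ⟨z, hz, rfl⟩ g hg
      have hz' : z ∈ Subgroup.upperCentralSeries Q (i + 1) := hz
      have h1 : ⁅z, (⟨g, hg⟩ : Q)⁆ ∈ Subgroup.upperCentralSeries Q i :=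
        (Subgroup.mem_upperCentralSeries_succ_iff.mp hz') ⟨g, hg⟩
      exact ⟨_, h1, rfl⟩
    · intro i _
      set C : Subgroup Ω := (Subgroup.upperCentralSeries Q i).map Q.subtype with hC
      have hCQ : C ≤ Q := Subgroup.map_subtype_le _
      refine ⟨hCQ.trans hQ, fun φ hφ => ?_⟩
      obtain ⟨α, hα, φ₀, ⟨-, g, hg, hφ₀⟩, hφα⟩ := hfr C hCQ φ hφ
      have hchar : (Subgroup.upperCentralSeries Q i).Characteristic := inferInstance
      have hnormal : (Subgroup.upperCentralSeries Q i).Normal := inferInstance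
      have hmap := Subgroup.characteristic_iff_map_eq.mp hchar α
      -- conjugation by `g` preserves `C`
      have hconj : ∀ (w : Ω) (k : Ω), k ∈ Q → w ∈ C → k * w * k⁻¹ ∈ C := by
        rintro _ k hk ⟨z, hz, rfl⟩
        exact ⟨⟨k, hk⟩ * z * ⟨k, hk⟩⁻¹, hnormal.conj_mem z hz ⟨k, hk⟩, rfl⟩
      have hφ₀Q : ∀ x : C, φ₀ x ∈ Q := fun x => by
        rw [hφ₀]
        exact hCQ (hconj x g hg x.2)
      ext y
      constructor
      · rintro ⟨x, rfl⟩
        rw [hφα x (hφ₀Q x)]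
        have h1 : φ₀ x ∈ C := by rw [hφ₀]; exact hconj x g hg x.2
        obtain ⟨z, hz, hzx⟩ := h1
        have h2 : (⟨φ₀ x, hφ₀Q x⟩ : Q) = z := Subtype.ext hzx.symm
        rw [h2]
        refine ⟨α z, ?_, rfl⟩
        rw [← hmap]
        exact ⟨z, hz, rfl⟩
      · rintro ⟨z', hz', rfl⟩
        rw [← hmap] at hz'
        obtain ⟨z, hz, rfl⟩ := hz'
        -- `x = g⁻¹ z g`
        have hx : g⁻¹ * (z : Ω) * g⁻¹⁻¹ ∈ C := hconj (z : Ω) g⁻¹ (Q.inv_mem hg) ⟨z, hz, rfl⟩
        refine ⟨⟨g⁻¹ * (z : Ω) * g⁻¹⁻¹, hx⟩, ?_⟩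
        rw [hφα _ (hφ₀Q _)]
        have h3 : (⟨φ₀ ⟨g⁻¹ * (z : Ω) * g⁻¹⁻¹, hx⟩, hφ₀Q _⟩ : Q) = z := by
          apply Subtype.ext
          show φ₀ ⟨g⁻¹ * (z : Ω) * g⁻¹⁻¹, hx⟩ = z
          rw [hφ₀]
          show g * (g⁻¹ * (z : Ω) * g⁻¹⁻¹) * g⁻¹ = z
          group
        rw [h3]
        rfl

end Cfsg.Agent.S5290
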