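-- Statement S5291: the product of the `F`-conjugates of a subgroup normal in a weakly normal
-- subsystem is normal in `F`.
import Cfsg.Statements.S5291
import Cfsg.Agent.S5226

set_option autoImplicit false
open Cfsg

namespace Cfsg.Agent.S5291

open Cfsg.Agent.Lib.helper89 Cfsg.FusionSystem
open scoped commutatorElement

variable {Ω : Type*} [Group Ω]

/-- **Normality criterion.** Let `Q` be strongly closed in the saturated system `F`, and suppose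
every map of `F` between subgroups of `Q` is the restriction of an automorphism of the group `Q`.
Then `Q` is normal in `F`. -/
theorem isNormal_of_restrict_aut {S : Subgroup Ω} [Finite S] (p : ℕ) [Fact p.Prime]
    (hS : IsPGroup p S) (F : FusionSystem S) (hF : F.IsSaturated p) (Q : Subgroup Ω)
    (hsc : F.StronglyClosed Q)
    (h : ∀ (P : Subgroup Ω) (hPQ : P ≤ Q) (φ : P →* Ω), φ ∈ F.Hom P →
      ∃ a : MulAut Q, ∀ x : P, φ x = ((a ⟨x, hPQ x.2⟩ : Q) : Ω)) : F.IsNormal Q := by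
  have hQ : Q ≤ S := hsc.1
  have hfinQ : Finite Q := finite_of_le hQ
  have hQp : IsPGroup p Q := hS.to_le hQ
  have hnil : Group.IsNilpotent Q := hQp.isNilpotent
  obtain ⟨n, hn⟩ := Group.IsNilpotent.nilpotent Q
  refine Cfsg.Agent.S5226.backward p hS F hF Q hsc n
    (fun i => (Subgroup.upperCentralSeries Q i).map Q.subtype) ?_ ?_ ?_ ?_ ?_
  · simp
  · ext y
    simp [hn]
  · intro i j hij
    exact Subgroup.map_mono (Subgroup.upperCentralSeries_mono Q hij)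
  · intro i _
    rw [Subgroup.commutator_le]
    rintro _ ⟨z, hz, rfl⟩ g hg
    have hz' : z ∈ Subgroup.upperCentralSeries Q (i + 1) := hz
    have h1 : ⁅z, (⟨g, hg⟩ : Q)⁆ ∈ Subgroup.upperCentralSeries Q i :=
      (Subgroup.mem_upperCentralSeries_succ_iff.mp hz') ⟨g, hg⟩
    exact ⟨_, h1, rfl⟩
  · intro i _
    set C : Subgroup Ω := (Subgroup.upperCentralSeries Q i).map Q.subtype with hC
    have hCQ : C ≤ Q := Subgroup.map_subtype_le _
    refine ⟨hCQ.trans hQ, fun φ hφ => ?_⟩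
    obtain ⟨a, ha⟩ := h C hCQ φ hφ
    have hchar : (Subgroup.upperCentralSeries Q i).Characteristic := inferInstance
    have hmap := Subgroup.characteristic_iff_map_eq.mp hchar a
    ext y
    constructor
    · rintro ⟨⟨_, z, hz, rfl⟩, rfl⟩
      rw [ha]
      refine ⟨a z, ?_, rfl⟩
      rw [← hmap]
      exact ⟨z, hz, rfl⟩
    · rintro ⟨z', hz', rfl⟩
      rw [← hmap] at hz'
      obtain ⟨z, hz, rfl⟩ := hz'
      refine ⟨⟨(z : Ω), ⟨z, hz, rfl⟩⟩, ?_⟩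
      rw [ha]
      rfl

/-- Membership in the image of `P ≤ T` under an automorphism of `T`. -/
theorem mem_map_aut {T : Subgroup Ω} (α : MulAut T) {P : Subgroup Ω} (hPT : P ≤ T) {y : Ω} :
    y ∈ (P.subgroupOf T).map (T.subtype.comp α.toMonoidHom) ↔
      ∃ (x : Ω) (hx : x ∈ P), ((α ⟨x, hPT hx⟩ : T) : Ω) = y := by
  constructor
  · rintro ⟨x, hx, rfl⟩
    exact ⟨(x : Ω), Subgroup.mem_subgroupOf.mp hx, rfl⟩
  · rintro ⟨x, hx, rfl⟩
    exact ⟨⟨x, hPT hx⟩, Subgroup.mem_subgroupOf.mpr hx, rfl⟩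

theorem map_aut_le {T : Subgroup Ω} (α : MulAut T) (P : Subgroup Ω) :
    (P.subgroupOf T).map (T.subtype.comp α.toMonoidHom) ≤ T := by
  rintro _ ⟨x, -, rfl⟩
  exact (α x).2

/-- Transport of normality along an `F`-automorphism of `T`, for a subsystem `E` over `T` invariant
under `Aut_F(T)`. -/
theorem isNormal_map_aut {S T : Subgroup Ω} (F : FusionSystem S) (E : FusionSystem T) [Finite T]
    (hinv : ∀ (P : Subgroup Ω) (hPT : P ≤ T) (φ : P →* Ω), φ ∈ E.Hom P → ∀ α ∈ F.autGroup T,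
      ∃ χ ∈ E.Hom ((P.subgroupOf T).map (T.subtype.comp α.toMonoidHom)),
        ∀ (x : P) (hφx : φ x ∈ T)
          (hαx : ((α ⟨x, hPT x.2⟩ : T) : Ω) ∈ (P.subgroupOf T).map (T.subtype.comp α.toMonoidHom)),
          χ ⟨(α ⟨x, hPT x.2⟩ : T), hαx⟩ = ((α ⟨φ x, hφx⟩ : T) : Ω))
    (R : Subgroup Ω) (hR : E.IsNormal R) (α : MulAut T) (hα : α ∈ F.autGroup T) :
    E.IsNormal ((R.subgroupOf T).map (T.subtype.comp α.toMonoidHom)) := by
  obtain ⟨hRT, hext⟩ := (isNormal_iff_forall_normExt E R).mp hR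
  refine (isNormal_iff_forall_normExt E _).mpr ⟨map_aut_le α R, fun P φ hφ => ?_⟩
  have hPT : P ≤ T := le_of_hom E hφ
  have hφT : ∀ x : P, φ x ∈ T := (E.le_of_mem hφ).2
  have hαinv : α⁻¹ ∈ F.autGroup T := (F.autGroup T).inv_mem hα
  -- transport `φ` by `α⁻¹`
  set P₁ : Subgroup Ω := (P.subgroupOf T).map (T.subtype.comp (α⁻¹).toMonoidHom) with hP₁
  obtain ⟨χ, hχ, hχeq⟩ := hinv P hPT φ hφ α⁻¹ hαinv
  obtain ⟨N', ψ', hψ', hP₁N', hRN', hψ'P₁, hψ'R⟩ := hext P₁ χ hχ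
  have hN'T : N' ≤ T := le_of_hom E hψ'
  have hψ'T : ∀ y : N', ψ' y ∈ T := (E.le_of_mem hψ').2
  -- transport `ψ'` back by `α`
  set N : Subgroup Ω := (N'.subgroupOf T).map (T.subtype.comp α.toMonoidHom) with hN
  obtain ⟨χ', hχ', hχ'eq⟩ := hinv N' hN'T ψ' hψ' α hα
  -- elements of `P` are images under `α` of elements of `P₁`
  have hP₁mem : ∀ x : P, ((α⁻¹ ⟨x, hPT x.2⟩ : T) : Ω) ∈ P₁ := fun x =>
    (mem_map_aut α⁻¹ hPT).mpr ⟨x, x.2, rfl⟩
  have hPN : P ≤ N := by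
    intro x hx
    refine (mem_map_aut α hN'T).mpr ⟨((α⁻¹ ⟨x, hPT hx⟩ : T) : Ω), hP₁N' (hP₁mem ⟨x, hx⟩), ?_⟩
    simp
  have hRN : (R.subgroupOf T).map (T.subtype.comp α.toMonoidHom) ≤ N := by
    intro y hy
    obtain ⟨r, hr, rfl⟩ := (mem_map_aut α hRT).mp hy
    exact (mem_map_aut α hN'T).mpr ⟨r, hRN' hr, rfl⟩
  refine ⟨N, χ', hχ', hPN, hRN, ?_, ?_⟩
  · intro x hx hxN
    -- `x = α y` with `y = α⁻¹ x ∈ P₁`
    set y : T := α⁻¹ ⟨x, hPT hx⟩ with hy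
    have hyP₁ : (y : Ω) ∈ P₁ := hP₁mem ⟨x, hx⟩
    have hyN' : (y : Ω) ∈ N' := hP₁N' hyP₁
    have hαy : α ⟨(y : Ω), hN'T hyN'⟩ = ⟨x, hPT hx⟩ := by
      have : (⟨(y : Ω), hN'T hyN'⟩ : T) = y := rfl
      rw [this, hy]
      simp
    have hxeq : (⟨x, hxN⟩ : N) = ⟨((α ⟨(y : Ω), hN'T hyN'⟩ : T) : Ω),
        (mem_map_aut α hN'T).mpr ⟨(y : Ω), hyN', rfl⟩⟩ := by
      apply Subtype.ext
      exact (congrArg Subtype.val hαy).symm
    rw [hxeq, hχ'eq ⟨(y : Ω), hyN'⟩ (hψ'T _)]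
    have h1 : ψ' ⟨(y : Ω), hyN'⟩ = χ ⟨(y : Ω), hyP₁⟩ := hψ'P₁ (y : Ω) hyP₁ hyN'
    have h2 := hχeq ⟨x, hx⟩ (hφT _) hyP₁
    have h3 : (⟨ψ' ⟨(y : Ω), hyN'⟩, hψ'T _⟩ : T) = α⁻¹ ⟨φ ⟨x, hx⟩, hφT _⟩ := by
      apply Subtype.ext
      exact h1.trans h2
    rw [h3]
    simp
  · intro q hq hqN
    obtain ⟨r, hr, rfl⟩ := (mem_map_aut α hRT).mp hq
    have hrN' : r ∈ N' := hRN' hr
    rw [hχ'eq ⟨r, hrN'⟩ (hψ'T _)]
    refine (mem_map_aut α hRT).mpr ⟨ψ' ⟨r, hrN'⟩, hψ'R r hr hrN', rfl⟩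

/-- Let F be a saturated fusion system over a finite p-group S and E a weakly normal subsystem of F over a subgroup T. Suppose a subgroup R of T is normal in E (E = N_E(R)), and let R* be the subgroup of T generated by the images of R under all maps of F with source R. Then R* is normal in F (F = N_F(R*)). -/
theorem result {Ω : Type*} [Group Ω] {S : Subgroup Ω} [Finite S] (p : ℕ) [Fact p.Prime] (hS : IsPGroup p S)
    (F : Cfsg.FusionSystem S) (hF : F.IsSaturated p)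
    {T : Subgroup Ω} (E : Cfsg.FusionSystem T) (hE : E.IsWeaklyNormalIn F p)
    (R : Subgroup Ω) (hR : E.IsNormal R) :
    F.IsNormal (Subgroup.closure {x : Ω | ∃ φ ∈ F.Hom R, ∃ r : R, x = φ r}) := by
  obtain ⟨hEsat, -, hsub, hTsc, hinv, hfr⟩ := hE
  have hTS : T ≤ S := hTsc.1
  have hfinT : Finite T := finite_of_le hTS
  have hTp : IsPGroup p T := hS.to_le hTS
  have hRT : R ≤ T := hR.1
  set Rs : Subgroup Ω := Subgroup.closure {x : Ω | ∃ φ ∈ F.Hom R, ∃ r : R, x = φ r} with hRs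
  have hRsT : Rs ≤ T := by
    rw [hRs, Subgroup.closure_le]
    rintro x ⟨φ, hφ, r, rfl⟩
    exact hTsc.2 R hRT φ hφ r
  -- restrictions of `F`-automorphisms of `T`
  have hαres : ∀ (α : MulAut T), α ∈ F.autGroup T → ∀ (P : Subgroup Ω) (hPT : P ≤ T),
      (T.subtype.comp α.toMonoidHom).comp (Subgroup.inclusion hPT) ∈ F.Hom P := by
    intro α hα P hPT
    exact Cfsg.Agent.Lib.helper88.restrict_mem F hPT ((mem_autGroup_iff F hTS α).mp hα)
  -- the images `α(R)` lie in `Rs`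
  have himg_le : ∀ (α : MulAut T), α ∈ F.autGroup T →
      (R.subgroupOf T).map (T.subtype.comp α.toMonoidHom) ≤ Rs := by
    intro α hα y hy
    obtain ⟨r, hr, rfl⟩ := (mem_map_aut α hRT).mp hy
    exact Subgroup.subset_closure ⟨_, hαres α hα R hRT, ⟨r, hr⟩, rfl⟩
  -- `Rs` is invariant under `Aut_F(T)`
  have hRsinv : ∀ (α : MulAut T), α ∈ F.autGroup T → ∀ (y : Ω) (_ : y ∈ Rs),
      ∃ hyT : y ∈ T, ((α ⟨y, hyT⟩ : T) : Ω) ∈ Rs := by
    intro α hα y hy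
    refine Subgroup.closure_induction
      (p := fun y _ => ∃ hyT : y ∈ T, ((α ⟨y, hyT⟩ : T) : Ω) ∈ Rs) ?_ ?_ ?_ ?_ hy
    · rintro y ⟨φ, hφ, r, rfl⟩
      have hφT : ∀ x : R, φ x ∈ T := fun x => hTsc.2 R hRT φ hφ x
      refine ⟨hφT r, ?_⟩
      have h1 := F.comp_mem hφ ((mem_autGroup_iff F hTS α).mp hα) hφT
      exact Subgroup.subset_closure ⟨_, h1, r, rfl⟩
    · refine ⟨T.one_mem, ?_⟩
      have : (⟨1, T.one_mem⟩ : T) = 1 := rfl
      rw [this, map_one]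
      exact Rs.one_mem
    · rintro a b _ _ ⟨haT, ha⟩ ⟨hbT, hb⟩
      refine ⟨T.mul_mem haT hbT, ?_⟩
      have : (⟨a * b, T.mul_mem haT hbT⟩ : T) = ⟨a, haT⟩ * ⟨b, hbT⟩ := rfl
      rw [this, map_mul]
      exact Rs.mul_mem ha hb
    · rintro a _ ⟨haT, ha⟩
      refine ⟨T.inv_mem haT, ?_⟩
      have : (⟨a⁻¹, T.inv_mem haT⟩ : T) = (⟨a, haT⟩ : T)⁻¹ := rfl
      rw [this, map_inv]
      exact Rs.inv_mem ha
  -- `Rs` is normal in `E`
  have hRsE : E.IsNormal Rs := by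
    set A : Set (Subgroup Ω) := {Q | E.IsNormal Q ∧ Q ≤ Rs} with hA
    have h1 : sSup A ∈ A := by
      refine Cfsg.Agent.Lib.helper88.sSup_mem_of_finite ?_ ?_ ?_
      · exact Set.Finite.subset Cfsg.Agent.Lib.helper88.finite_le (fun Q hQ => hQ.1.1)
      · exact ⟨(Cfsg.Agent.Lib.helper88.isNormal_iff_normalExt E ⊥).mpr
          (Cfsg.Agent.Lib.helper88.normalExt_bot E), bot_le⟩
      · rintro a ⟨ha, haR⟩ b ⟨hb, hbR⟩
        exact ⟨(Cfsg.Agent.Lib.helper88.isNormal_iff_normalExt E _).mpr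
          (Cfsg.Agent.Lib.helper88.normalExt_sup E
            ((Cfsg.Agent.Lib.helper88.isNormal_iff_normalExt E a).mp ha)
            ((Cfsg.Agent.Lib.helper88.isNormal_iff_normalExt E b).mp hb)), sup_le haR hbR⟩
    have h2 : sSup A = Rs := by
      apply le_antisymm h1.2
      rw [hRs, Subgroup.closure_le]
      rintro x ⟨φ, hφ, r, rfl⟩
      obtain ⟨α, hα, φ₀, hφ₀, hφα⟩ := hfr R hRT φ hφ
      have hmem : (R.subgroupOf T).map (T.subtype.comp α.toMonoidHom) ∈ A :=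
        ⟨isNormal_map_aut F E hinv R hR α hα, himg_le α hα⟩
      refine (le_sSup hmem) ?_
      -- `φ₀ r ∈ R`
      obtain ⟨-, hextR⟩ := (isNormal_iff_forall_normExt E R).mp hR
      obtain ⟨R', ψ, hψ, hRR', -, h3, h4⟩ := hextR R φ₀ hφ₀
      have hφ₀R : φ₀ r ∈ R := by
        rw [← h3 r r.2 (hRR' r.2)]
        exact h4 r r.2 _
      rw [hφα r (hRT hφ₀R)]
      exact (mem_map_aut α hRT).mpr ⟨φ₀ r, hφ₀R, rfl⟩
    rw [← h2]
    exact h1.1
  obtain ⟨-, hextRs⟩ := (isNormal_iff_forall_normExt E Rs).mp hRsE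
  -- `Rs` is strongly closed in `F`
  have hsc : F.StronglyClosed Rs := by
    refine ⟨hRsT.trans hTS, fun P hP φ hφ x => ?_⟩
    obtain ⟨α, hα, φ₀, hφ₀, hφα⟩ := hfr P (hP.trans hRsT) φ hφ
    obtain ⟨R', ψ, hψ, hPR', hRsR', h3, h4⟩ := hextRs P φ₀ hφ₀
    have hφ₀R : φ₀ x ∈ Rs := by
      rw [← h3 x x.2 (hPR' x.2)]
      exact h4 x (hP x.2) _
    rw [hφα x (hRsT hφ₀R)]
    exact (hRsinv α hα _ hφ₀R).2
  refine isNormal_of_restrict_aut p hS F hF Rs hsc ?_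
  intro P hPRs φ hφ
  obtain ⟨α, hα, φ₀, hφ₀, hφα⟩ := hfr P (hPRs.trans hRsT) φ hφ
  obtain ⟨R', ψ, hψ, hPR', hRsR', h3, h4⟩ := hextRs P φ₀ hφ₀
  -- `ψ` restricted to `Rs` is an automorphism `a₁` of `Rs`
  have hψRs := Cfsg.Agent.Lib.helper88.restrict_mem E hRsR' hψ
  obtain ⟨a₁, ha₁⟩ := exists_aut_of_mem E hψRs (fun q => h4 q q.2 (hRsR' q.2))
  -- `α` restricted to `Rs` is an automorphism `a₂` of `Rs`
  obtain ⟨a₂, ha₂⟩ := exists_aut_of_mem F (hαres α hα Rs hRsT) (fun q => (hRsinv α hα q q.2).2)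
  refine ⟨a₂ * a₁, fun x => ?_⟩
  have hφ₀x : φ₀ x = ((a₁ ⟨x, hPRs x.2⟩ : Rs) : Ω) := by
    rw [ha₁]
    exact (h3 x x.2 (hPR' x.2)).symm
  have hφ₀Rs : φ₀ x ∈ Rs := by rw [hφ₀x]; exact (a₁ _).2
  rw [hφα x (hRsT hφ₀Rs), MulAut.mul_apply, ha₂]
  show ((α ⟨φ₀ x, _⟩ : T) : Ω) = ((α ⟨((a₁ ⟨x, hPRs x.2⟩ : Rs) : Ω), _⟩ : T) : Ω)
  congr 2
  exact Subtype.ext hφ₀x

end Cfsg.Agent.S5291
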