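import Cfsg.Statements.S5292
import Cfsg.Agent.Lib.helper88.ModelU3
import Cfsg.Agent.Lib.helper88.SecFree2
import Cfsg.Agent.Lib.helper38.HallHigman2
import Cfsg.Agent.Lib.helper74.Exp6
import Cfsg.Agent.Lib.helper87.QdFac1
import Cfsg.Agent.S5103

set_option autoImplicit false
universe u
open Cfsg

namespace Cfsg.Agent.S5292

open Cfsg.FusionSystem

/-- Let F be a saturated fusion system over a finite p-group S. Then F is the fusion system of some finite p-solvable group on a Sylow p-subgroup if and only if F is constrained (some subgroup normal in F is centric in F) and the group of automorphisms that F induces on its largest normal subgroup O_p(F) is p-solvable. -/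
theorem result {Ω : Type u} [Group Ω] {S : Subgroup Ω} [Finite S] (p : ℕ) [Fact p.Prime] (hS : IsPGroup p S)
    (F : Cfsg.FusionSystem S) (hF : F.IsSaturated p) :
    (∃ (G : Type u) (_ : Group G) (_ : Finite G) (ι : S →* G), Cfsg.IsPSolvable p G ∧ F.IsRealizedBy ι ∧
        ∃ T : Sylow p G, (T : Subgroup G) = ι.range) ↔
      (F.IsConstrained p ∧ Cfsg.IsPSolvable p ↥(F.autGroup F.core)) := by
  classical
  have hQn : F.IsNormal F.core := Cfsg.Agent.Lib.helper88.isNormal_core F
  have hQS : F.core ≤ S := hQn.1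
  constructor
  · rintro ⟨G, _, hfin, ι, hsolv, hreal, T, hT⟩
    have hNn : (pPrimeCore p G).Normal := Cfsg.Agent.Lib.helper40.pPrimeCore_normal' p G
    have hNcop : (Nat.card (pPrimeCore p G)).Coprime p :=
      Cfsg.Agent.Lib.helper40.pPrimeCore_card_coprime p G
    have hinj := hreal.1
    have hmeet : ∀ s : S, ι s ∈ pPrimeCore p G → s = 1 := by
      intro s hs
      obtain ⟨k, hk⟩ := hS s
      have h1 : (ι s) ^ (p ^ k) = 1 := by rw [← map_pow, hk, map_one]
      have h2 : (⟨ι s, hs⟩ : pPrimeCore p G) ^ (Nat.card (pPrimeCore p G)) = 1 :=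
        pow_card_eq_one'
      have hcop : (p ^ k).Coprime (Nat.card ↥(pPrimeCore p G)) :=
        Nat.Coprime.pow_left k hNcop.symm
      have h3 : (⟨ι s, hs⟩ : pPrimeCore p G) ^ (p ^ k) = 1 := Subtype.ext h1
      have h4 : (⟨ι s, hs⟩ : pPrimeCore p G) = 1 := by
        have hd1 := orderOf_dvd_of_pow_eq_one h3
        have hd2 := orderOf_dvd_of_pow_eq_one h2
        exact orderOf_eq_one_iff.mp (Nat.eq_one_of_dvd_coprimes hcop hd1 hd2)
      have h5 : ι s = 1 := congrArg Subtype.val h4
      exact hinj (by rw [h5, map_one])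
    have hmodN : ∀ a b : G, (QuotientGroup.mk' (pPrimeCore p G)) a =
        (QuotientGroup.mk' (pPrimeCore p G)) b → a⁻¹ * b ∈ pPrimeCore p G := by
      intro a b hab
      exact QuotientGroup.eq.mp hab
    have hM : F.IsModel p (G ⧸ pPrimeCore p G) ((QuotientGroup.mk' (pPrimeCore p G)).comp ι) := by
      refine ⟨inferInstance, ⟨?_, ?_⟩, ?_, ?_⟩
      · intro a b hab
        have h2 : (ι a)⁻¹ * ι b ∈ pPrimeCore p G := hmodN _ _ hab
        have h3 : ι (a⁻¹ * b) ∈ pPrimeCore p G := by rwa [map_mul, map_inv]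
        exact inv_mul_eq_one.mp (hmeet _ h3)
      · intro P hP φ hφ
        rw [hreal.2 P hP φ hφ]
        constructor
        · rintro ⟨g, hg⟩
          refine ⟨(QuotientGroup.mk' (pPrimeCore p G)) g, fun x => ?_⟩
          show (QuotientGroup.mk' (pPrimeCore p G)) (ι ⟨φ x, hφ x⟩) = _
          rw [hg x, map_mul, map_mul, map_inv]
          rfl
        · rintro ⟨gb, hgb⟩
          obtain ⟨g, rfl⟩ := QuotientGroup.mk'_surjective (pPrimeCore p G) gb
          have hcong : ∀ x : P, (ι ⟨φ x, hφ x⟩)⁻¹ * (g * ι ⟨x, hP x.2⟩ * g⁻¹) ∈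
              pPrimeCore p G := by
            intro x
            apply hmodN
            have h1 := hgb x
            rw [map_mul, map_mul, map_inv]
            exact h1
          obtain ⟨A, hA⟩ : ∃ A : Subgroup G,
              A = ((P.subgroupOf S).map ι).map (MulAut.conj g).toMonoidHom := ⟨_, rfl⟩
          have hAp : IsPGroup p A := by
            rw [hA]
            exact ((hS.to_subgroup (P.subgroupOf S)).map ι).map _
          have hmemA : ∀ x : P, g * ι ⟨x, hP x.2⟩ * g⁻¹ ∈ A := by
            intro x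
            rw [hA]
            exact ⟨ι ⟨x, hP x.2⟩, ⟨⟨x, hP x.2⟩, Subgroup.mem_subgroupOf.mpr x.2, rfl⟩, rfl⟩
          have hle : A ≤ (T : Subgroup G) ⊔ pPrimeCore p G := by
            rw [hA]
            rintro _ ⟨_, ⟨s, hs, rfl⟩, rfl⟩
            have hsP : (s : Ω) ∈ P := Subgroup.mem_subgroupOf.mp hs
            have h2 := hcong ⟨s, hsP⟩
            show g * ι s * g⁻¹ ∈ (T : Subgroup G) ⊔ pPrimeCore p G
            have h3 : g * ι s * g⁻¹ = ι ⟨φ ⟨s, hsP⟩, hφ _⟩ *
                ((ι ⟨φ ⟨s, hsP⟩, hφ _⟩)⁻¹ * (g * ι s * g⁻¹)) := by group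
            rw [h3]
            exact Subgroup.mul_mem_sup (by rw [hT]; exact ⟨_, rfl⟩) h2
          obtain ⟨k, hk, hkA⟩ := Cfsg.Agent.Lib.helper87.exists_conj_mem_sylow_of_le_sup T
            (pPrimeCore p G) A hAp hle
          refine ⟨k * g, fun x => ?_⟩
          have h1 := hkA _ (hmemA x)
          rw [hT] at h1
          obtain ⟨t, ht⟩ := h1
          have h3 : ι ((⟨φ x, hφ x⟩ : S)⁻¹ * t) ∈ pPrimeCore p G := by
            rw [map_mul, map_inv, ht]
            have h4 := hcong x
            have h5 : (ι ⟨φ x, hφ x⟩)⁻¹ * (k * (g * ι ⟨x, hP x.2⟩ * g⁻¹) * k⁻¹) =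
                ((ι ⟨φ x, hφ x⟩)⁻¹ * k * (ι ⟨φ x, hφ x⟩)⁻¹⁻¹) *
                ((ι ⟨φ x, hφ x⟩)⁻¹ * (g * ι ⟨x, hP x.2⟩ * g⁻¹)) * k⁻¹ := by group
            rw [h5]
            exact mul_mem (mul_mem (hNn.conj_mem k hk _) h4) (inv_mem hk)
          have h7 : (⟨φ x, hφ x⟩ : S) = t := inv_mul_eq_one.mp (hmeet _ h3)
          rw [h7, ht]
          group
      · refine ⟨T.mapSurjective (QuotientGroup.mk'_surjective (pPrimeCore p G)), ?_⟩
        rw [Sylow.coe_mapSurjective, hT, MonoidHom.map_range]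
      · exact Cfsg.Agent.Lib.helper38.centralizer_pCore_le_of_isPSolvable
          (Cfsg.Agent.Lib.helper38.isPSolvable_quotient _ hsolv)
          (Cfsg.Agent.Lib.helper38.pPrimeCore_quotient_pPrimeCore p G)
    refine ⟨Cfsg.Agent.S5103.result p hS F _ hM, ?_⟩
    have hsurj : Function.Surjective ((Cfsg.Agent.Lib.helper88.modelAct hM hQn).codRestrict
        (F.autGroup F.core) (Cfsg.Agent.Lib.helper88.modelAct_mem hM hQn)) := by
      intro α
      have hα : F.core.subtype.comp (α : MulAut F.core).toMonoidHom ∈ F.Hom F.core :=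
        (Cfsg.Agent.Lib.helper88.mem_autGroup_iff' F hQS _).mp α.2
      obtain ⟨g, hg⟩ := (hM.2.1.2 F.core hQS _ (fun x => hQS ((α : MulAut F.core) x).2)).mp hα
      refine ⟨g, ?_⟩
      apply Subtype.ext
      ext x
      have h1 := Cfsg.Agent.Lib.helper88.modelAct_spec hM hQn g x
      rw [← hg x] at h1
      have h3 := hM.2.1.1 h1
      exact congrArg (fun z : S => (z : Ω)) h3
    exact Cfsg.Agent.Lib.helper38.isPSolvable_of_surjective _ hsurj
      (Cfsg.Agent.Lib.helper38.isPSolvable_quotient _ hsolv)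
  · rintro ⟨hcon, hsolv⟩
    obtain ⟨G, _, ι, hM⟩ := Cfsg.Agent.Lib.helper88.exists_model hS F hcon
    have hfin : Finite G := hM.1
    refine ⟨G, inferInstance, hM.1, ι, ?_, hM.2.1, hM.2.2.1⟩
    obtain ⟨c, hc⟩ : ∃ c : G →* MulAut F.core, c = Cfsg.Agent.Lib.helper88.modelAct hM hQn :=
      ⟨_, rfl⟩
    have hrange : c.range = F.autGroup F.core := by
      apply le_antisymm
      · rintro _ ⟨g, rfl⟩
        rw [hc]
        exact Cfsg.Agent.Lib.helper88.modelAct_mem hM hQn g
      · intro α hα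
        have hα' : F.core.subtype.comp α.toMonoidHom ∈ F.Hom F.core :=
          (Cfsg.Agent.Lib.helper88.mem_autGroup_iff' F hQS _).mp hα
        obtain ⟨g, hg⟩ := (hM.2.1.2 F.core hQS _ (fun x => hQS (α x).2)).mp hα'
        refine ⟨g, ?_⟩
        ext x
        have h1 := Cfsg.Agent.Lib.helper88.modelAct_spec hM hQn g x
        rw [← hg x] at h1
        have h3 := hM.2.1.1 h1
        rw [hc]
        exact congrArg (fun z : S => (z : Ω)) h3
    have hQc : F.IsCentric F.core := by
      obtain ⟨-, Q₀, hQ₀n, hQ₀c⟩ := hcon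
      exact Cfsg.Agent.Lib.helper88.IsCentric.of_le hQ₀c (le_sSup hQ₀n) hQS
    have hker : c.ker ≤ (F.core.subgroupOf S).map ι := by
      intro g hg
      obtain ⟨t, ht, htg⟩ := Cfsg.Agent.Lib.helper88.model_centralizer_le hS hF hM hQn hQc g
        (fun r hr => by
          have h1 := Cfsg.Agent.Lib.helper88.modelAct_spec hM hQn g ⟨r, hr⟩
          have h2 : Cfsg.Agent.Lib.helper88.modelAct hM hQn g = 1 := by
            rw [← hc]
            exact hg
          rw [h2] at h1
          exact h1.symm)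
      exact ⟨t, Subgroup.mem_subgroupOf.mpr ht, htg⟩
    have hkerp : IsPGroup p c.ker := ((hS.to_subgroup (F.core.subgroupOf S)).map ι).to_le hker
    obtain ⟨m, hm⟩ := hkerp.exists_card_eq
    apply Cfsg.Agent.Lib.helper74.isPSolvable_of_normal_of_quotient p c.ker (Or.inl ⟨m, hm⟩)
    exact Cfsg.Agent.Lib.helper38.isPSolvable_of_surjective
      ((QuotientGroup.quotientKerEquivRange c).trans (MulEquiv.subgroupCongr hrange)).symm.toMonoidHom
      ((QuotientGroup.quotientKerEquivRange c).trans (MulEquiv.subgroupCongr hrange)).symm.surjective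
      hsolv

end Cfsg.Agent.S5292
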