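import Cfsg.Statements.S5297
import Cfsg.Agent.S5301
import Cfsg.Agent.Lib.helper88.Residual
import Cfsg.Agent.Lib.helper90.AbelianFusion
import Cfsg.Agent.Lib.helper90.SmallFusion

set_option autoImplicit false
universe u
open Cfsg

namespace Cfsg.Agent.S5297

open Cfsg.FusionSystem Cfsg.Agent.Lib.helper90
open scoped commutatorElement

/-- Let F be a saturated fusion system over a finite p-group S. If every map of F between cyclic subgroups of the hyperfocal subgroup of F of order p or 4 is a map of the normalizer system of S (it extends to a map of F defined on all of S), then S is normal in F. -/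
theorem result {Ω : Type u} [Group Ω] {S : Subgroup Ω} [Finite S] (p : ℕ) [Fact p.Prime] (hS : IsPGroup p S)
    (F : Cfsg.FusionSystem S) (hF : F.IsSaturated p)
    (h : ∀ A B : Subgroup Ω, A ≤ (F.hyperfocalSubgroup p) → B ≤ (F.hyperfocalSubgroup p) → IsCyclic ↥A → (Nat.card ↥A = p ∨ Nat.card ↥A = 4) → IsCyclic ↥B → (Nat.card ↥B = p ∨ Nat.card ↥B = 4) →
      F.homSet A B ⊆ F.normalizerHom S A) :
    F.IsNormal S := by
  have hpp : p.Prime := Fact.out
  -- maps between small cyclic subgroups of the hyperfocal subgroup preserve the lower central series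
  have hγ : ∀ x ∈ F.hyperfocalSubgroup p, (x ^ p = 1 ∨ (p = 2 ∧ x ^ 4 = 1)) → x ≠ 1 →
      ∀ φ ∈ F.Hom (Subgroup.zpowers x), φ ⟨x, Subgroup.mem_zpowers x⟩ ∈ F.hyperfocalSubgroup p →
      ∀ n : ℕ, x ∈ S.lowerCentralSeries n →
        φ ⟨x, Subgroup.mem_zpowers x⟩ ∈ S.lowerCentralSeries n := by
    intro x hxH hsm hx1 φ hφ hφH n hxΓ
    obtain ⟨hmem, hc1, hc2⟩ := small_cyclic_homSet F hsm hx1 hφ
    have h1 := h (Subgroup.zpowers x) (Subgroup.zpowers (φ ⟨x, Subgroup.mem_zpowers x⟩))
      (by rw [Subgroup.zpowers_le]; exact hxH) (by rw [Subgroup.zpowers_le]; exact hφH)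
      inferInstance hc1 inferInstance hc2 hmem
    obtain ⟨-, -, -, ψ, hψ, hψφ, -⟩ := h1
    have hxS : x ∈ S := Cfsg.Agent.Lib.helper88.hyperfocal_le F p hxH
    have hψ' := Cfsg.Agent.Lib.helper88.restrict_mem F
      (le_sup_right : S ≤ Subgroup.zpowers x ⊔ S) hψ
    obtain ⟨θ, hθ, hθx⟩ := exists_autGroup_of_hom_top F hψ'
    have h2 : ((θ ⟨x, hxS⟩ : S) : Ω) = φ ⟨x, Subgroup.mem_zpowers x⟩ := by
      rw [hθx, ← hψφ]
      rfl
    rw [← h2]
    rw [← Subgroup.top_subtype_lowerCentralSeries S n] at hxΓ ⊢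
    obtain ⟨y, hy, hyx⟩ := hxΓ
    have hy' : y = ⟨x, hxS⟩ := Subtype.ext hyx
    rw [hy'] at hy
    refine ⟨θ ⟨x, hxS⟩, ?_, rfl⟩
    have hchar : ((⊤ : Subgroup S).lowerCentralSeries n).Characteristic := inferInstance
    have hfix := hchar.fixed θ
    have h3 : (⟨x, hxS⟩ : S) ∈ ((⊤ : Subgroup S).lowerCentralSeries n).comap θ.toMonoidHom := by
      rw [hfix]
      exact hy
    exact h3
  apply Cfsg.Agent.S5301.result p hS F hF
  intro P hfn hcen hrad
  have hP : P ≤ S := hfn.1
  have hfin : Finite (F.autGroup P) := Cfsg.Agent.Lib.helper89.finite_autGroup F hP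
  obtain ⟨-, R₀, hR₀⟩ :=
    (Cfsg.Agent.Lib.helper88.fullyAutomized_receptive_of_fullyNormalized hS F hF hfn).1
  refine ⟨R₀, ?_⟩
  have hKn : (Subgroup.normalClosure ((R₀ : Subgroup (F.autGroup P)) : Set (F.autGroup P))).Normal :=
    Subgroup.normalClosure_normal
  refine sylow_normal_of_coprime_trivial R₀
    (Subgroup.normalClosure ((R₀ : Subgroup (F.autGroup P)) : Set (F.autGroup P)))
    Subgroup.subset_normalClosure ?_
  intro k hk hko
  have htriv := aut_family_trivial hS F hγ hP
    {α | ∃ hα : α ∈ F.autGroup P, (⟨α, hα⟩ : F.autGroup P) ∈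
      Subgroup.normalClosure ((R₀ : Subgroup (F.autGroup P)) : Set (F.autGroup P)) ∧
      (orderOf α).Coprime p}
    (fun α hα => hα.1) (fun α hα => hα.2.2) ?_ ?_
  · have h1 := htriv (k : MulAut P) ⟨k.2, hk, by rw [Subgroup.orderOf_coe]; exact hko⟩
    exact Subtype.ext h1
  · rintro g hg α ⟨hα, hαK, hαo⟩
    refine ⟨(F.autGroup P).mul_mem ((F.autGroup P).mul_mem hg hα) ((F.autGroup P).inv_mem hg),
      ?_, ?_⟩
    · exact hKn.conj_mem ⟨α, hα⟩ hαK ⟨g, hg⟩
    · have h1 := MulEquiv.orderOf_eq (MulAut.conj g) α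
      rw [MulAut.conj_apply] at h1
      rw [h1]
      exact hαo
  · intro R i hinv hi1 hhyp hsm hGi α hα x hx
    obtain ⟨hαA, hαK, hαo⟩ := hα
    -- the automorphisms acting trivially on `R` modulo the next term of the lower central series
    let C : Subgroup (F.autGroup P) :=
      { carrier := {g | ∀ x ∈ R, ((x⁻¹ * (g : MulAut P) x : P) : Ω) ∈ S.lowerCentralSeries (i + 1)}
        one_mem' := by
          intro x _
          simp
        mul_mem' := by
          intro a b ha hb x hx
          have h1 := hb x hx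
          have h2 := ha ((b : MulAut P) x) (hinv b b.2 x hx)
          have h3 : ((x⁻¹ * ((a * b : F.autGroup P) : MulAut P) x : P) : Ω) =
              ((x⁻¹ * (b : MulAut P) x : P) : Ω) *
                ((((b : MulAut P) x)⁻¹ * (a : MulAut P) ((b : MulAut P) x) : P) : Ω) := by
            simp [MulAut.mul_apply]
          rw [h3]
          exact Subgroup.mul_mem _ h1 h2
        inv_mem' := by
          intro a ha x hx
          have h1 := ha (((a⁻¹ : F.autGroup P) : MulAut P) x) (hinv _ (a⁻¹).2 x hx)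
          have h3 : ((x⁻¹ * ((a⁻¹ : F.autGroup P) : MulAut P) x : P) : Ω) =
              (((((a⁻¹ : F.autGroup P) : MulAut P) x)⁻¹ *
                (a : MulAut P) (((a⁻¹ : F.autGroup P) : MulAut P) x) : P) : Ω)⁻¹ := by
            simp
          rw [h3]
          exact Subgroup.inv_mem _ h1 }
    have hCn : C.Normal := by
      refine ⟨fun g hg a => ?_⟩
      intro x hx
      have hyR : ((a⁻¹ : F.autGroup P) : MulAut P) x ∈ R := hinv _ (a⁻¹).2 x hx
      have h1 := hg _ hyR
      have h2 := hGi (a : MulAut P) a.2 _ (R.mul_mem (R.inv_mem hyR) (hinv g g.2 _ hyR)) h1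
      have h3 : (a : MulAut P) ((((a⁻¹ : F.autGroup P) : MulAut P) x)⁻¹ *
          (g : MulAut P) (((a⁻¹ : F.autGroup P) : MulAut P) x)) =
          x⁻¹ * ((a * g * a⁻¹ : F.autGroup P) : MulAut P) x := by
        simp [MulAut.mul_apply]
      rw [h3] at h2
      exact h2
    have hRC : ((R₀ : Subgroup (F.autGroup P)) : Set (F.autGroup P)) ⊆ C := by
      intro t ht
      have ht' : t ∈ (autInducedBy S P).subgroupOf (F.autGroup P) := by
        rw [← hR₀]
        exact ht
      rw [Subgroup.mem_subgroupOf] at ht'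
      obtain ⟨s, hs, hts⟩ :=
        (Cfsg.Agent.Lib.helper89.mem_autInducedBy_iff S P (t : MulAut P)).mp ht'
      intro x hx
      have h1 : ((x⁻¹ * (t : MulAut P) x : P) : Ω) = ⁅(x : Ω)⁻¹, s⁆ := by
        rw [commutatorElement_def, Subgroup.coe_mul, Subgroup.coe_inv, hts]
        group
      rw [h1]
      exact Subgroup.commutator_mem_commutator (Subgroup.inv_mem _ (hi1 x hx)) hs
    have hle := Subgroup.normalClosure_le_normal hRC
    exact hle hαK x hx

end Cfsg.Agent.S5297
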