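import Cfsg.Statements.S5298
import Cfsg.Agent.S5083
import Cfsg.Agent.Lib.helper90.SmallFusion

set_option autoImplicit false
universe u
open Cfsg

namespace Cfsg.Agent.S5298

open Cfsg.FusionSystem Cfsg.Agent.Lib.helper90
open scoped commutatorElement

/-- Let F be a saturated fusion system over a finite p-group S. If every map of F between cyclic subgroups of the hyperfocal subgroup of F of order p or 4 is conjugation by an element of S, then F is the inner fusion system of S. -/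
theorem result {Ω : Type u} [Group Ω] {S : Subgroup Ω} [Finite S] (p : ℕ) [Fact p.Prime] (hS : IsPGroup p S)
    (F : Cfsg.FusionSystem S) (hF : F.IsSaturated p)
    (h : ∀ A B : Subgroup Ω, A ≤ (F.hyperfocalSubgroup p) → B ≤ (F.hyperfocalSubgroup p) → IsCyclic ↥A → (Nat.card ↥A = p ∨ Nat.card ↥A = 4) → IsCyclic ↥B → (Nat.card ↥B = p ∨ Nat.card ↥B = 4) →
      F.homSet A B ⊆ (Cfsg.innerFusionSystem S).Hom A) :
    ∀ P : Subgroup Ω, F.Hom P = (Cfsg.innerFusionSystem S).Hom P := by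
  have hpp : p.Prime := Fact.out
  -- maps between small cyclic subgroups of the hyperfocal subgroup are conjugations
  have hconjS : ∀ x ∈ F.hyperfocalSubgroup p, (x ^ p = 1 ∨ (p = 2 ∧ x ^ 4 = 1)) → x ≠ 1 →
      ∀ φ ∈ F.Hom (Subgroup.zpowers x), φ ⟨x, Subgroup.mem_zpowers x⟩ ∈ F.hyperfocalSubgroup p →
      ∃ g ∈ S, φ ⟨x, Subgroup.mem_zpowers x⟩ = g * x * g⁻¹ := by
    intro x hxH hsm hx1 φ hφ hφH
    obtain ⟨hmem, hc1, hc2⟩ := small_cyclic_homSet F hsm hx1 hφ
    have h1 := h (Subgroup.zpowers x) (Subgroup.zpowers (φ ⟨x, Subgroup.mem_zpowers x⟩))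
      (by rw [Subgroup.zpowers_le]; exact hxH) (by rw [Subgroup.zpowers_le]; exact hφH)
      inferInstance hc1 inferInstance hc2 hmem
    obtain ⟨-, g, hg, hgx⟩ := h1
    exact ⟨g, hg, hgx _⟩
  have hγ : ∀ x ∈ F.hyperfocalSubgroup p, (x ^ p = 1 ∨ (p = 2 ∧ x ^ 4 = 1)) → x ≠ 1 →
      ∀ φ ∈ F.Hom (Subgroup.zpowers x), φ ⟨x, Subgroup.mem_zpowers x⟩ ∈ F.hyperfocalSubgroup p →
      ∀ n : ℕ, x ∈ S.lowerCentralSeries n →
        φ ⟨x, Subgroup.mem_zpowers x⟩ ∈ S.lowerCentralSeries n := by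
    intro x hxH hsm hx1 φ hφ hφH n hxΓ
    obtain ⟨g, hg, hgx⟩ := hconjS x hxH hsm hx1 φ hφ hφH
    rw [hgx]
    have hnorm := S.self_le_normalizer_lowerCentralSeries n hg
    exact (Subgroup.mem_normalizer_iff.mp hnorm x).mp hxΓ
  have hPG : ∀ P : Subgroup Ω, P ≤ S → IsPGroup p (F.autGroup P) := by
    intro P hP
    have hfin : Finite (F.autGroup P) := Cfsg.Agent.Lib.helper89.finite_autGroup F hP
    have htriv := aut_family_trivial hS F hγ hP {α | α ∈ F.autGroup P ∧ (orderOf α).Coprime p}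
      (fun α hα => hα.1) (fun α hα => hα.2) ?_ ?_
    · apply isPGroup_of_coprime_trivial_top
      intro k hk
      have h1 := htriv (k : MulAut P) ⟨k.2, by rw [Subgroup.orderOf_coe]; exact hk⟩
      exact Subtype.ext h1
    · rintro g hg α ⟨hα, hαo⟩
      refine ⟨(F.autGroup P).mul_mem ((F.autGroup P).mul_mem hg hα) ((F.autGroup P).inv_mem hg), ?_⟩
      have h1 := MulEquiv.orderOf_eq (MulAut.conj g) α
      rw [MulAut.conj_apply] at h1
      rw [h1]
      exact hαo
    · intro R i hinv hi1 hhyp hsm hGi α hα x hx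
      by_cases hx1 : (x : Ω) = 1
      · have hx1' : x = 1 := Subtype.ext hx1
        rw [hx1', map_one, inv_one, one_mul]
        exact Subgroup.one_mem _
      · obtain ⟨φ, hφ, hφx⟩ := exists_restrict_zpowers F hP hα.1 x
        obtain ⟨g, hg, hgx⟩ := hconjS (x : Ω) (hhyp x hx) (small_coe (hsm x hx)) hx1 φ hφ
          (by rw [hφx]; exact hhyp _ (hinv α hα.1 x hx))
        rw [hφx] at hgx
        have h1 : ((x⁻¹ * α x : P) : Ω) = ⁅(x : Ω)⁻¹, g⁆ := by
          rw [commutatorElement_def, Subgroup.coe_mul, Subgroup.coe_inv, hgx]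
          group
        rw [h1]
        exact Subgroup.commutator_mem_commutator (Subgroup.inv_mem _ (hi1 x hx)) hg
  have hF' := Cfsg.Agent.S5083.result p hS F hF hPG
  intro P
  rw [hF']

end Cfsg.Agent.S5298
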