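import Cfsg.Statements.S5299
-- import your own Cfsg.Agent.* helpers here

set_option autoImplicit false
universe u
open Cfsg

namespace Cfsg.Agent.S5299

/-- a surjective homomorphism from a subgroup gives a section -/
theorem involves_of_surj {H : Type*} [Group H] {L : Type*} [Group L] (K : Subgroup L) (f : K →* H)
    (hf : Function.Surjective f) : Cfsg.Involves H L := by
  have key : ∀ N : Subgroup K, N = f.ker → ∃ (_ : N.Normal), Nonempty (K ⧸ N ≃* H) := by
    intro N hN
    subst hN
    exact ⟨inferInstance, ⟨QuotientGroup.quotientKerEquivOfSurjective f hf⟩⟩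
  refine ⟨K, (f.ker).map K.subtype, ?_⟩
  exact key _ (Subgroup.comap_map_eq_self_of_injective (Subgroup.subtype_injective K) _)

/-- in a p-group every Sylow p-subgroup is the whole group -/
theorem sylow_eq_top {P : Type*} [Group P] (p : ℕ) (hP : IsPGroup p P) (T : Sylow p P) :
    (T : Subgroup P) = ⊤ := by
  have h : IsPGroup p (⊤ : Subgroup P) := by
    intro g
    obtain ⟨k, hk⟩ := hP (g : P)
    exact ⟨k, Subtype.ext (by simpa using hk)⟩
  exact (T.is_maximal' h le_top).symm

/-- Let F be a saturated fusion system over a finite p-group S, H a finite group and Q a p-subgroup of H. If Q is not involved in S (no section of S is isomorphic to Q), then F is H-free: H is involved in no model of the normalizer system of a fully normalized centric subgroup. -/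
theorem result {Ω : Type u} [Group Ω] {S : Subgroup Ω} [Finite S] (p : ℕ) [Fact p.Prime] (hS : IsPGroup p S)
    (F : Cfsg.FusionSystem S) (hF : F.IsSaturated p) (H : Type*) [Group H] [Finite H] (Q : Subgroup H) (hQ : IsPGroup p Q)
    (hfree : ¬ Cfsg.Involves (↥Q) (↥S)) : F.IsSectionFree p H := by
  intro Q' _ _ N _ L _ ι hmodel hinv
  obtain ⟨hLfin, ⟨hιinj, -⟩, ⟨T, hT⟩, -⟩ := hmodel
  obtain ⟨K, R, hnorm, ⟨e⟩⟩ := hinv
  apply hfree
  -- the surjection K → H
  let f : K →* H := e.toMonoidHom.comp (QuotientGroup.mk' (R.subgroupOf K))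
  have hf : Function.Surjective f := e.surjective.comp (QuotientGroup.mk'_surjective _)
  -- preimage of Q
  let K₀ : Subgroup K := Q.comap f
  let f₀ : K₀ →* Q := (f.comp K₀.subtype).codRestrict Q (fun x => x.2)
  have hf₀ : Function.Surjective f₀ := by
    rintro ⟨q, hq⟩
    obtain ⟨k, rfl⟩ := hf q
    exact ⟨⟨k, hq⟩, rfl⟩
  -- a Sylow p-subgroup of K₀ maps onto Q
  have : Finite K₀ := inferInstance
  obtain ⟨T₁⟩ : Nonempty (Sylow p K₀) := Sylow.nonempty
  have hmap : (T₁ : Subgroup K₀).map f₀ = ⊤ := by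
    have := sylow_eq_top p hQ (T₁.mapSurjective hf₀)
    rwa [Sylow.coe_mapSurjective] at this
  -- view T₁ inside L
  let incl : K₀ →* L := K.subtype.comp K₀.subtype
  have hincl : Function.Injective incl :=
    (Subgroup.subtype_injective K).comp (Subgroup.subtype_injective K₀)
  have hpL : IsPGroup p ((T₁ : Subgroup K₀).map incl) := T₁.isPGroup'.map incl
  obtain ⟨T₂, hT₂⟩ := hpL.exists_le_sylow
  obtain ⟨g, hg⟩ := MulAction.exists_smul_eq L T₂ T
  -- conjugate into ι.range
  have hmem : ∀ x : (T₁ : Subgroup K₀), g * incl (x : K₀) * g⁻¹ ∈ ι.range := by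
    intro x
    rw [← hT, ← hg, Sylow.coe_subgroup_smul]
    exact ⟨incl (x : K₀), hT₂ ⟨(x : K₀), x.2, rfl⟩, rfl⟩
  let c : (T₁ : Subgroup K₀) →* ι.range :=
    (((MulAut.conj g).toMonoidHom.comp incl).comp (T₁ : Subgroup K₀).subtype).codRestrict ι.range hmem
  have hc : Function.Injective c := by
    intro x y hxy
    have h1 : g * incl (x : K₀) * g⁻¹ = g * incl (y : K₀) * g⁻¹ := congrArg Subtype.val hxy
    have h2 : incl (x : K₀) = incl (y : K₀) := by simpa using h1
    exact Subtype.ext (hincl h2)
  let eι : ↥(Cfsg.FusionSystem.normalizerIn S Q') ≃* ι.range := MonoidHom.ofInjective hιinj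
  have hle : Cfsg.FusionSystem.normalizerIn S Q' ≤ S := inf_le_left
  let j : (T₁ : Subgroup K₀) →* S := ((Subgroup.inclusion hle).comp eι.symm.toMonoidHom).comp c
  have hj : Function.Injective j := by
    intro x y hxy
    apply hc
    apply eι.symm.injective
    exact Subgroup.inclusion_injective hle hxy
  let ej : (T₁ : Subgroup K₀) ≃* j.range := MonoidHom.ofInjective hj
  let fS : j.range →* Q := (f₀.comp (T₁ : Subgroup K₀).subtype).comp ej.symm.toMonoidHom
  have hfS : Function.Surjective fS := by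
    intro q
    have hq : q ∈ (T₁ : Subgroup K₀).map f₀ := by rw [hmap]; trivial
    obtain ⟨x, hx, rfl⟩ := hq
    refine ⟨ej ⟨x, hx⟩, ?_⟩
    show f₀ ((ej.symm (ej ⟨x, hx⟩) : (T₁ : Subgroup K₀)) : K₀) = f₀ x
    rw [MulEquiv.symm_apply_apply]
  exact involves_of_surj j.range fS hfS

end Cfsg.Agent.S5299
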