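import Cfsg.Statements.S5300
import Cfsg.Agent.S5301
import Cfsg.Agent.Lib.helper90.SmallFusion
import Cfsg.Agent.Lib.helper90.SmallConj

set_option autoImplicit false
universe u
open Cfsg

namespace Cfsg.Agent.S5300

open Cfsg.FusionSystem Cfsg.Agent.Lib.helper90

/-- Let F be a saturated fusion system over a finite p-group S. If every cyclic subgroup of the focal subgroup of F of order p (of order 2 or 4 when p = 2) is normal in S, then S is normal in F. -/
theorem result {Ω : Type u} [Group Ω] {S : Subgroup Ω} [Finite S] (p : ℕ) [Fact p.Prime] (hS : IsPGroup p S)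
    (F : Cfsg.FusionSystem S) (hF : F.IsSaturated p)
    (hnorm : ∀ x ∈ F.focalSubgroup, (x ^ p = 1 ∨ (p = 2 ∧ x ^ 4 = 1)) → ∀ s ∈ S, s * x * s⁻¹ ∈ Subgroup.zpowers x) :
    F.IsNormal S := by
  have hpp : p.Prime := Fact.out
  apply Cfsg.Agent.S5301.result p hS F hF
  intro P hfn hcen hrad
  have hP : P ≤ S := hfn.1
  have hfinP : Finite P :=
    Finite.of_injective (Subgroup.inclusion hP) (Subgroup.inclusion_injective hP)
  have hfin : Finite (F.autGroup P) := Cfsg.Agent.Lib.helper89.finite_autGroup F hP
  obtain ⟨-, R₀, hR₀⟩ :=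
    (Cfsg.Agent.Lib.helper88.fullyAutomized_receptive_of_fullyNormalized hS F hF hfn).1
  refine ⟨R₀, ?_⟩
  -- commutators with automorphisms lie in the focal subgroup
  have hfoc : ∀ (g : MulAut P), g ∈ F.autGroup P → ∀ x : P,
      ((x⁻¹ * g x : P) : Ω) ∈ F.focalSubgroup := by
    intro g hg x
    have h1 := (Cfsg.Agent.Lib.helper89.mem_autGroup_iff F hP g).mp hg
    exact Subgroup.subset_closure ⟨P, _, x, h1, by simp⟩
  -- the automorphisms fixing or inverting the small elements of the focal subgroup
  let K : Subgroup (F.autGroup P) :=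
    { carrier := {g | ∀ x : P, (x : Ω) ∈ F.focalSubgroup → (x ^ p = 1 ∨ (p = 2 ∧ x ^ 4 = 1)) →
        ((g : MulAut P) x = x ∨ (p = 2 ∧ (g : MulAut P) x = x⁻¹))}
      one_mem' := fun x _ _ => Or.inl rfl
      mul_mem' := by
        intro a b ha hb x hx hsm
        rcases hb x hx hsm with h1 | ⟨h2, h1⟩
        · have h3 : ((a * b : F.autGroup P) : MulAut P) x = (a : MulAut P) x := by
            simp [MulAut.mul_apply, h1]
          rw [h3]
          exact ha x hx hsm
        · have h3 : ((a * b : F.autGroup P) : MulAut P) x = ((a : MulAut P) x)⁻¹ := by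
            simp [MulAut.mul_apply, h1]
          rw [h3]
          rcases ha x hx hsm with h4 | ⟨_, h4⟩
          · right
            exact ⟨h2, by rw [h4]⟩
          · left
            rw [h4, inv_inv]
      inv_mem' := by
        intro a ha x hx hsm
        rcases ha x hx hsm with h1 | ⟨h2, h1⟩
        · left
          have h3 : ((a⁻¹ : F.autGroup P) : MulAut P) x = x := by
            conv_lhs => rw [← h1]
            simp
          exact h3
        · right
          refine ⟨h2, ?_⟩
          have h3 : (a : MulAut P) x⁻¹ = x := by rw [map_inv, h1, inv_inv]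
          have h4 : ((a⁻¹ : F.autGroup P) : MulAut P) x = x⁻¹ := by
            conv_lhs => rw [← h3]
            simp
          exact h4 }
  have hKn : K.Normal := by
    refine ⟨fun g hg a => ?_⟩
    intro x hx hsm
    have hy : ((((a⁻¹ : F.autGroup P) : MulAut P) x : P) : Ω) ∈ F.focalSubgroup := by
      have h1 := hfoc _ (a⁻¹).2 x
      have h2 : ((((a⁻¹ : F.autGroup P) : MulAut P) x : P) : Ω) =
          (x : Ω) * ((x⁻¹ * ((a⁻¹ : F.autGroup P) : MulAut P) x : P) : Ω) := by simp
      rw [h2]
      exact Subgroup.mul_mem _ hx h1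
    have hysm : (((a⁻¹ : F.autGroup P) : MulAut P) x) ^ p = 1 ∨
        (p = 2 ∧ (((a⁻¹ : F.autGroup P) : MulAut P) x) ^ 4 = 1) := by
      rcases hsm with h1 | ⟨h2, h1⟩
      · left
        rw [← map_pow, h1, map_one]
      · right
        exact ⟨h2, by rw [← map_pow, h1, map_one]⟩
    have hax : (a : MulAut P) (((a⁻¹ : F.autGroup P) : MulAut P) x) = x := by simp
    rcases hg _ hy hysm with h1 | ⟨h2, h1⟩
    · left
      have h3 : ((a * g * a⁻¹ : F.autGroup P) : MulAut P) x =
          (a : MulAut P) ((g : MulAut P) (((a⁻¹ : F.autGroup P) : MulAut P) x)) := by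
        simp [MulAut.mul_apply]
      rw [h3, h1, hax]
    · right
      refine ⟨h2, ?_⟩
      have h3 : ((a * g * a⁻¹ : F.autGroup P) : MulAut P) x =
          (a : MulAut P) ((g : MulAut P) (((a⁻¹ : F.autGroup P) : MulAut P) x)) := by
        simp [MulAut.mul_apply]
      rw [h3, h1, map_inv, hax]
  have hRK : (R₀ : Subgroup (F.autGroup P)) ≤ K := by
    intro t ht
    have ht' : t ∈ (autInducedBy S P).subgroupOf (F.autGroup P) := by
      rw [← hR₀]
      exact ht
    rw [Subgroup.mem_subgroupOf] at ht'
    obtain ⟨s, hs, hts⟩ :=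
      (Cfsg.Agent.Lib.helper89.mem_autInducedBy_iff S P (t : MulAut P)).mp ht'
    intro x hx hsm
    have hsp : ∃ j : ℕ, s ^ (p ^ j) = 1 := by
      obtain ⟨j, hj⟩ := hS ⟨s, hs⟩
      exact ⟨j, congrArg Subtype.val hj⟩
    have hz := hnorm (x : Ω) hx (small_coe hsm) s hs
    rcases hsm with h1 | ⟨h2, h1⟩
    · left
      have h3 : (x : Ω) ^ p = 1 := by
        have := congrArg (fun y : P => (y : Ω)) h1
        simpa using this
      apply Subtype.ext
      rw [hts]
      exact conj_eq_of_mem_zpowers hsp h3 hz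
    · have h3 : (x : Ω) ^ 4 = 1 := by
        have := congrArg (fun y : P => (y : Ω)) h1
        simpa using this
      rcases conj_eq_or_inv_of_mem_zpowers h3 hz with h4 | h4
      · left
        apply Subtype.ext
        rw [hts]
        exact h4
      · right
        refine ⟨h2, ?_⟩
        apply Subtype.ext
        rw [hts, h4]
        rfl
  refine sylow_normal_of_coprime_trivial R₀ K hRK ?_
  intro k hk hko
  have hko' : (orderOf (k : MulAut P)).Coprime p := by rw [Subgroup.orderOf_coe]; exact hko
  -- `k` fixes the small elements of the focal subgroup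
  have hkfix : ∀ x : P, (x : Ω) ∈ F.focalSubgroup → (x ^ p = 1 ∨ (p = 2 ∧ x ^ 4 = 1)) →
      (k : MulAut P) x = x := by
    intro x hx hsm
    rcases hk x hx hsm with h1 | ⟨h2, h1⟩
    · exact h1
    · rw [h2] at hko'
      exact fix_of_inv_of_odd _ hko' x h1
  have key := coprime_family_trivial (hS.to_le hP) {(k : MulAut P).toMonoidHom}
    {(k : MulAut P).toMonoidHom} (fun _ h => h) ?_ ?_ ?_
  · apply Subtype.ext
    apply MulEquiv.ext
    intro x
    exact key _ rfl x
  · rintro f rfl
    refine ⟨orderOf (k : MulAut P), hko', fun x => ?_⟩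
    show (⇑(k : MulAut P))^[orderOf (k : MulAut P)] x = x
    rw [← mulAut_pow_apply, pow_orderOf_eq_one]
    rfl
  · rintro g rfl α rfl
    exact ⟨_, rfl, fun x => rfl⟩
  · intro R hbot hinv hsm hgen
    have hfocR : ∀ x ∈ R, (x : Ω) ∈ F.focalSubgroup := by
      have hle : Subgroup.closure {y | ∃ α ∈ ({(k : MulAut P).toMonoidHom} : Set (P →* P)),
          ∃ x ∈ R, y = x⁻¹ * α x} ≤ (F.focalSubgroup).comap P.subtype := by
        rw [Subgroup.closure_le]
        rintro _ ⟨_, rfl, x, hx, rfl⟩
        rw [SetLike.mem_coe, Subgroup.mem_comap]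
        exact hfoc _ k.2 x
      intro x hx
      exact hle (hgen hx)
    refine ⟨⊥, bot_le, fun h => hbot h.symm, ?_, ?_⟩
    · rintro g rfl x hx
      rw [Subgroup.mem_bot] at hx ⊢
      rw [hx, map_one]
    · rintro α rfl x hx
      rw [Subgroup.mem_bot]
      have h1 : (k : MulAut P) x = x := hkfix x (hfocR x hx) (hsm x hx)
      show x⁻¹ * (k : MulAut P) x = 1
      rw [h1, inv_mul_cancel]

end Cfsg.Agent.S5300
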