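import Cfsg.Statements.S5315
import Cfsg.Agent.Lib.helper90.CentralCrit
import Cfsg.Agent.Lib.helper88.AbelianSimple
import Cfsg.Agent.Lib.helper87.Factor
import Cfsg.Agent.Lib.helper88.SatCrit

set_option autoImplicit false
open Cfsg

namespace Cfsg.Agent.S5315

open Cfsg.FusionSystem Cfsg.Agent.Lib

/-- An analogue of Grün's lemma for fusion systems. Let F be a saturated fusion system over a finite p-group S that is perfect in the sense that its hyperfocal subgroup is all of S (F coincides with its p-residual subsystem). Then the second centre of F equals its centre: every fusion system over S/(Z(F) ∩ S) that is the factor system of F modulo its centre Z(F), read through the quotient map, has trivial centre. -/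
theorem result {Ω : Type*} [Group Ω] {S : Subgroup Ω} [Finite S] (p : ℕ) [Fact p.Prime] (hS : IsPGroup p S) (F : Cfsg.FusionSystem S) (hF : F.IsSaturated p)
    (hperf : F.hyperfocalSubgroup p = S)
    (E : Cfsg.FusionSystem (⊤ : Subgroup (↥S ⧸ (F.center).subgroupOf S)))
    (hE : F.IsFactorSystem F.center (QuotientGroup.mk' ((F.center).subgroupOf S)) E) : E.center = ⊥ := by
  classical
  obtain ⟨hZS, hker, hrange, hiff⟩ := hE
  have hE' : F.IsFactorSystem F.center (QuotientGroup.mk' ((F.center).subgroupOf S)) E :=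
    ⟨hZS, hker, hrange, hiff⟩
  have hZc := helper88.isCentral_center F
  have hZfix : ∀ (P : Subgroup Ω) (φ : P →* Ω), φ ∈ F.Hom P → ∀ (z : Ω) (_ : z ∈ F.center)
      (hzP : z ∈ P), φ ⟨z, hzP⟩ = z := by
    intro P φ hφ z hz hzP
    obtain ⟨R, Ψ, hΨ, hPR, hZR, h1, h2⟩ :=
      ((helper88.isCentral_iff_centralExt F F.center).mp hZc).2 P φ hφ
    rw [← h1 z hzP (hPR hzP)]
    exact h2 z hz (hPR hzP)
  have hZcomm : ∀ z ∈ F.center, ∀ s ∈ S, s * z * s⁻¹ = z := by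
    intro z hz s hs
    exact hZfix S (conjHom S s) (F.conj_mem le_rfl hs) z hz (hZS hz)
  rw [show E.center = sSup {Q | E.IsCentral Q} from rfl, sSup_eq_bot]
  intro Qb hQb
  have hQbfix : ∀ (P' : Subgroup (↥S ⧸ (F.center).subgroupOf S))
      (φ' : P' →* (↥S ⧸ (F.center).subgroupOf S)), φ' ∈ E.Hom P' →
      ∀ (q : ↥S ⧸ (F.center).subgroupOf S) (_ : q ∈ Qb) (hq : q ∈ P'), φ' ⟨q, hq⟩ = q := by
    intro P' φ' hφ' q hq hqP
    obtain ⟨R, Ψ, hΨ, hPR, hQR, h1, h2⟩ :=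
      ((helper88.isCentral_iff_centralExt E Qb).mp hQb).2 P' φ' hφ'
    rw [← h1 q hqP (hPR hqP)]
    exact h2 q hq (hPR hqP)
  obtain ⟨θ, hθ⟩ : ∃ θ : ↥S →* ↥S ⧸ (F.center).subgroupOf S,
      θ = QuotientGroup.mk' ((F.center).subgroupOf S) := ⟨_, rfl⟩
  rw [← hθ] at hker hrange hiff hE'
  obtain ⟨Q, hQdef⟩ : ∃ Q : Subgroup Ω, Q = preimageAlong θ Qb := ⟨_, rfl⟩
  have hmemQ : ∀ x, x ∈ Q ↔ ∃ h : x ∈ S, θ ⟨x, h⟩ ∈ Qb := by
    intro x
    rw [hQdef]
    exact helper87.mem_preimageAlong θ Qb x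
  have hQS : Q ≤ S := by
    rw [hQdef]
    exact helper87.preimageAlong_le θ Qb
  -- (A)
  have hA : ∀ (M : Subgroup Ω) (ψ : M →* Ω), ψ ∈ F.Hom M → F.center ≤ M → ∀ (x : M),
      (x : Ω) ∈ Q → (x : Ω)⁻¹ * ψ x ∈ F.center := by
    intro M ψ hψ hZM x hxQ
    have hMS := (F.le_of_mem hψ).1
    have hψS := (F.le_of_mem hψ).2
    have hψZ : ∀ z : M, (z : Ω) ∈ F.center → ψ z ∈ F.center := by
      intro z hz
      have h0 : ψ z = z := hZfix M ψ hψ z hz z.2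
      rw [h0]
      exact hz
    obtain ⟨φ', hφ', hind⟩ :=
      helper88.exists_induced_of_factorSystem F F.center θ E hE' hψ hZM hψZ
    have hm' : θ ⟨x, hMS x.2⟩ ∈ imageAlong θ M :=
      ⟨⟨x, hMS x.2⟩, Subgroup.mem_subgroupOf.mpr x.2, rfl⟩
    have h1 := hind x hm'
    obtain ⟨hxS, hxQb⟩ := (hmemQ x).mp hxQ
    have h2 := hQbfix _ φ' hφ' (θ ⟨x, hMS x.2⟩) hxQb hm'
    have h3 : θ ((⟨x, hMS x.2⟩ : S)⁻¹ * ⟨ψ x, hψS x⟩) = 1 := by
      rw [map_mul, map_inv, ← h1, h2, inv_mul_cancel]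
    exact (hker _).mp h3
  have hcen : ∀ a b : S, (a : Ω)⁻¹ * (b : Ω) ∈ F.center → a⁻¹ * b ∈ Subgroup.center S := by
    intro a b hz
    rw [Subgroup.mem_center_iff]
    intro g
    apply Subtype.ext
    have h := hZcomm _ hz g g.2
    show (g : Ω) * ((a : Ω)⁻¹ * (b : Ω)) = (a : Ω)⁻¹ * (b : Ω) * g
    calc (g : Ω) * ((a : Ω)⁻¹ * (b : Ω))
        = (g : Ω) * ((a : Ω)⁻¹ * (b : Ω)) * (g : Ω)⁻¹ * g := by group
      _ = (a : Ω)⁻¹ * (b : Ω) * g := by rw [h]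
  -- (B)
  have hB : ∀ x ∈ Q, ∀ (P : Subgroup Ω) (φ : P →* Ω), φ ∈ F.Hom P → ∀ u : P,
      φ u * x * (φ u)⁻¹ = (u : Ω) * x * (u : Ω)⁻¹ := by
    intro x hxQ P φ hφ u
    have hPS := (F.le_of_mem hφ).1
    have hφS := (F.le_of_mem hφ).2
    obtain ⟨hxS, hxQb⟩ := (hmemQ x).mp hxQ
    obtain ⟨φt, hφt, hφtP, hφtZ⟩ := hZc.2 P φ hφ
    have hφtZ' : ∀ z : ↥(P ⊔ F.center), (z : Ω) ∈ F.center → φt z ∈ F.center := by
      intro z hz
      have h0 : φt z = z := hZfix _ φt hφt z hz z.2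
      rw [h0]
      exact hz
    obtain ⟨φ', hφ', hind⟩ :=
      helper88.exists_induced_of_factorSystem F F.center θ E hE' hφt le_sup_right hφtZ'
    obtain ⟨χ', hχ', hχP, hχQ⟩ := hQb.2 _ φ' hφ'
    obtain ⟨-, χ, hχ, hDS, hχS, hD', hχind⟩ := (hiff _ χ').mp hχ'
    have hmemD : ∀ y, y ∈ preimageAlong θ (imageAlong θ (P ⊔ F.center) ⊔ Qb) ↔
        ∃ h : y ∈ S, θ ⟨y, h⟩ ∈ imageAlong θ (P ⊔ F.center) ⊔ Qb :=
      fun y => helper87.mem_preimageAlong θ _ y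
    have huM : θ ⟨u, hPS u.2⟩ ∈ imageAlong θ (P ⊔ F.center) :=
      ⟨⟨u, hPS u.2⟩, Subgroup.mem_subgroupOf.mpr (Subgroup.mem_sup_left u.2), rfl⟩
    have huD : (u : Ω) ∈ preimageAlong θ (imageAlong θ (P ⊔ F.center) ⊔ Qb) :=
      (hmemD _).mpr ⟨hPS u.2, Subgroup.mem_sup_left huM⟩
    have hxD : x ∈ preimageAlong θ (imageAlong θ (P ⊔ F.center) ⊔ Qb) :=
      (hmemD _).mpr ⟨hxS, Subgroup.mem_sup_right hxQb⟩
    have hZD : F.center ≤ preimageAlong θ (imageAlong θ (P ⊔ F.center) ⊔ Qb) :=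
      helper87.le_preimageAlong θ hZS hker _
    have h1 : θ ⟨χ ⟨u, huD⟩, hχS _⟩ = θ ⟨φ u, hφS u⟩ := by
      have e1 := hχind ⟨u, huD⟩
      have e2 := hχP ⟨θ ⟨u, hPS u.2⟩, huM⟩
      have e3 := hind (Subgroup.inclusion le_sup_left u) huM
      have e4 := hφtP u
      rw [← e1]
      refine Eq.trans e2 (Eq.trans e3 ?_)
      congr 1
      exact Subtype.ext e4
    have h2 : θ ⟨χ ⟨x, hxD⟩, hχS _⟩ = θ ⟨x, hxS⟩ := by
      have e1 := hχind ⟨x, hxD⟩
      have e2 := hχQ ⟨θ ⟨x, hxS⟩, hxQb⟩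
      rw [← e1]
      exact e2
    have hz₁ : (φ u)⁻¹ * χ ⟨u, huD⟩ ∈ F.center := by
      have h3 : θ ((⟨φ u, hφS u⟩ : S)⁻¹ * ⟨χ ⟨u, huD⟩, hχS _⟩) = 1 := by
        rw [map_mul, map_inv, h1, inv_mul_cancel]
      exact (hker _).mp h3
    have hz₂ : x⁻¹ * χ ⟨x, hxD⟩ ∈ F.center := by
      have h3 : θ ((⟨x, hxS⟩ : S)⁻¹ * ⟨χ ⟨x, hxD⟩, hχS _⟩) = 1 := by
        rw [map_mul, map_inv, h2, inv_mul_cancel]
      exact (hker _).mp h3
    have hw : x⁻¹ * ((u : Ω) * x * (u : Ω)⁻¹) ∈ F.center :=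
      hA S (conjHom S u) (F.conj_mem le_rfl (hPS u.2)) hZS ⟨x, hxS⟩ hxQ
    have hχw := hZfix _ χ hχ _ hw (hZD hw)
    have hχw' : χ ⟨x⁻¹ * ((u : Ω) * x * (u : Ω)⁻¹), hZD hw⟩ =
        (χ ⟨x, hxD⟩)⁻¹ * (χ ⟨u, huD⟩ * χ ⟨x, hxD⟩ * (χ ⟨u, huD⟩)⁻¹) := by
      have e : (⟨x⁻¹ * ((u : Ω) * x * (u : Ω)⁻¹), hZD hw⟩ :
          ↥(preimageAlong θ (imageAlong θ (P ⊔ F.center) ⊔ Qb))) =
          (⟨x, hxD⟩)⁻¹ * (⟨u, huD⟩ * ⟨x, hxD⟩ * (⟨u, huD⟩)⁻¹) := Subtype.ext rfl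
      rw [e, map_mul, map_inv, map_mul, map_mul, map_inv]
    have hcomp := helper90.comm_of_central (hcen ⟨x, hxS⟩ ⟨χ ⟨x, hxD⟩, hχS _⟩ hz₂)
      (hcen ⟨φ u, hφS u⟩ ⟨χ ⟨u, huD⟩, hχS _⟩ hz₁)
    have hcomp' : (χ ⟨x, hxD⟩)⁻¹ * (χ ⟨u, huD⟩ * χ ⟨x, hxD⟩ * (χ ⟨u, huD⟩)⁻¹) =
        x⁻¹ * (φ u * x * (φ u)⁻¹) := congrArg Subtype.val hcomp
    have hfin : x⁻¹ * (φ u * x * (φ u)⁻¹) = x⁻¹ * ((u : Ω) * x * (u : Ω)⁻¹) := by
      rw [← hcomp', ← hχw', hχw]
    exact mul_left_cancel hfin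
  -- Q ≤ Z(S)
  have hQc : ∀ x ∈ Q, ∀ s ∈ S, s * x * s⁻¹ = x := by
    intro x hxQ s hs
    have hle : F.hyperfocalSubgroup p ≤ Subgroup.centralizer {x} := by
      unfold FusionSystem.hyperfocalSubgroup
      rw [Subgroup.closure_le]
      rintro _ ⟨P, α, u, hP, -, rfl⟩
      have hα := (helper89.mem_autGroup_iff F hP (α : MulAut P)).mp α.2
      have h' : (((α : MulAut P) u : P) : Ω) * x * (((α : MulAut P) u : P) : Ω)⁻¹ =
          (u : Ω) * x * (u : Ω)⁻¹ := hB x hxQ P _ hα u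
      rw [SetLike.mem_coe, Subgroup.mem_centralizer_iff]
      intro g hg
      rw [Set.mem_singleton_iff] at hg
      rw [hg]
      calc x * ((u : Ω)⁻¹ * (((α : MulAut P) u : P) : Ω))
          = (u : Ω)⁻¹ * ((u : Ω) * x * (u : Ω)⁻¹) * (((α : MulAut P) u : P) : Ω) := by group
        _ = (u : Ω)⁻¹ * ((((α : MulAut P) u : P) : Ω) * x * (((α : MulAut P) u : P) : Ω)⁻¹) *
            (((α : MulAut P) u : P) : Ω) := by rw [h']
        _ = (u : Ω)⁻¹ * (((α : MulAut P) u : P) : Ω) * x := by group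
    rw [hperf] at hle
    have h1 := Subgroup.mem_centralizer_iff.mp (hle hs) x (Set.mem_singleton x)
    calc s * x * s⁻¹ = (x * s) * s⁻¹ := by rw [h1]
      _ = x := by group
  -- (C)
  have hC : ∀ P : Subgroup Ω, (P = S ∨ F.IsEssential p P) → ∀ α ∈ F.autGroup P, ∀ x : P,
      (x : Ω) ∈ Q → ((α x : P) : Ω) = x := by
    intro P hP
    have hPS : P ≤ S := by
      rcases hP with rfl | hP
      · exact le_rfl
      · exact hP.1.1
    have hcenP : ∀ y ∈ S, (∀ s ∈ S, s * y * s⁻¹ = y) → y ∈ P := by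
      intro y hy hyc
      rcases hP with rfl | hP
      · exact hy
      · apply hP.1.2 P (helper88.isConj_refl F hPS)
        refine ⟨hy, ?_⟩
        show y ∈ Subgroup.centralizer (P : Set Ω)
        rw [Subgroup.mem_centralizer_iff]
        intro g hg
        have h0 := hyc g (hPS hg)
        calc g * y = g * y * g⁻¹ * g := by group
          _ = y * g := by rw [h0]
    have hZP : F.center ≤ P := fun z hz => hcenP z (hZS hz) (hZcomm z hz)
    have hfa : F.IsFullyAutomized p P := by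
      rcases hP with rfl | hP
      · exact ((helper88.isSaturated_iff_fullyAutomized_top_and_receptive hS F).mp hF).1
      · exact (helper88.fullyAutomized_receptive_of_fullyNormalized hS F hF hP.2.1).1
    obtain ⟨-, R, hR⟩ := hfa
    intro α hα x hxQ
    have hPfin : Finite P := Finite.of_injective (Subgroup.inclusion hPS)
      (Subgroup.inclusion_injective hPS)
    have hδ : ∀ β ∈ F.autGroup P, ∀ γ ∈ F.autGroup P, β (x⁻¹ * γ x) = x⁻¹ * γ x := by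
      intro β hβ γ hγ
      apply Subtype.ext
      have hd : ((x⁻¹ * γ x : P) : Ω) ∈ F.center :=
        hA P _ ((helper89.mem_autGroup_iff F hPS γ).mp hγ) hZP x hxQ
      exact hZfix P _ ((helper89.mem_autGroup_iff F hPS β).mp hβ) _ hd (x⁻¹ * γ x).2
    have hRker : (R : Subgroup (F.autGroup P)) ≤ (helper90.deltaHom (F.autGroup P) x hδ).ker := by
      rw [hR]
      intro β hβ
      rw [Subgroup.mem_subgroupOf] at hβ
      have hst : autInducedBy S P ≤ MulAction.stabilizer (MulAut P) x := by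
        unfold autInducedBy
        rw [Subgroup.closure_le]
        rintro c ⟨g, hg, hc⟩
        rw [SetLike.mem_coe, MulAction.mem_stabilizer_iff]
        apply Subtype.ext
        show ((c x : P) : Ω) = x
        rw [hc]
        exact hQc x hxQ g hg
      have h0 := hst hβ
      rw [MulAction.mem_stabilizer_iff] at h0
      have h0' : (β : MulAut P) x = x := h0
      rw [MonoidHom.mem_ker, helper90.deltaHom_apply, h0', inv_mul_cancel]
    have hprange : IsPGroup p (helper90.deltaHom (F.autGroup P) x hδ).range :=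
      (hS.to_le hPS).to_subgroup _
    have h1 := helper90.hom_trivial_of_sylow_le_ker p (helper90.deltaHom (F.autGroup P) x hδ) R
      hRker hprange ⟨α, hα⟩
    rw [helper90.deltaHom_apply] at h1
    have h2 : α x = x := inv_mul_eq_one.mp h1 |>.symm
    rw [h2]
  have hQcentral : F.IsCentral Q := helper90.isCentral_of_aut_fixed p hS F hF Q hQS hQc hC
  have hQZ : Q ≤ F.center := le_sSup hQcentral
  rw [eq_bot_iff]
  intro q hq
  obtain ⟨s, rfl⟩ := QuotientGroup.mk_surjective q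
  rw [Subgroup.mem_bot]
  have hsQ : (s : Ω) ∈ Q := (hmemQ _).mpr ⟨s.2, by rw [hθ]; exact hq⟩
  have h3 := (hker s).mpr (hQZ hsQ)
  rw [hθ] at h3
  exact h3

end Cfsg.Agent.S5315
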