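import Cfsg.Statements.S5317
import Mathlib
import Cfsg.Agent.Lib.helper47.FusionSimple
import Cfsg.Agent.Lib.helper47.DihedralLike
import Cfsg.Agent.Lib.helper47.PSL2Invol
import Cfsg.Agent.Lib.helper47.NormTorus
import Cfsg.Agent.Lib.helper7.CardSL

set_option autoImplicit false
set_option linter.unusedVariables false
set_option linter.style.haveILetI false
open Cfsg
open Cfsg.Agent.Lib.helper47.FusionSimple Cfsg.Agent.Lib.helper47.DihedralLike
  Cfsg.Agent.Lib.helper47.PSL2Invol

namespace Cfsg.Agent.S5317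

/-- Let F be a finite field of odd order q with q² ≡ 1 mod 16 (so that a Sylow 2-subgroup of PSL(2,q), dihedral of order the 2-part of (q²−1)/2, has order at least 8). Then the 2-fusion system of PSL(2,F) on a Sylow 2-subgroup is simple: saturated, over a nontrivial 2-group, with no normal subsystem other than the trivial one and itself. -/
theorem result {F : Type*} [Field F] [Fintype F] (hodd : Fintype.card F % 2 = 1) (h16 : 16 ∣ Fintype.card F ^ 2 - 1)
    (S : Sylow 2 (Matrix.ProjectiveSpecialLinearGroup (Fin 2) F)) :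
    (Cfsg.groupFusionSystem (S : Subgroup (Matrix.ProjectiveSpecialLinearGroup (Fin 2) F))).IsSimple 2 := by
  classical
  haveI : Fact (Nat.Prime 2) := ⟨Nat.prime_two⟩
  have hF : Odd (Fintype.card F) := Nat.odd_iff.mpr hodd
  have h2 : (2 : F) ≠ 0 := Cfsg.Agent.Lib.helper47.two_ne_zero_of_card_odd hodd
  have hcard := Cfsg.Agent.Lib.helper7.two_mul_card_PSL2 (F := F) rfl h2
  have h8G : 2 ^ 3 ∣ Nat.card (Matrix.ProjectiveSpecialLinearGroup (Fin 2) F) := by
    have h1 : 16 ∣ 2 * Nat.card (Matrix.ProjectiveSpecialLinearGroup (Fin 2) F) := by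
      rw [hcard]; exact Dvd.dvd.mul_left h16 _
    obtain ⟨k, hk⟩ := h1
    exact ⟨k, by omega⟩
  have h8S : 8 ≤ Nat.card (S : Subgroup (Matrix.ProjectiveSpecialLinearGroup (Fin 2) F)) := by
    have := S.pow_dvd_card_of_pow_dvd_card h8G
    exact Nat.le_of_dvd Nat.card_pos this
  obtain ⟨hgen, hnorm⟩ := sylow_two_facts (exists_invStruct hF) S h8S
  apply isSimple_groupFusionSystem S
  · intro h
    rw [h, Subgroup.card_bot] at h8S
    omega
  · intro g hg
    exact ⟨g, hnorm g hg, fun x hx => rfl⟩
  · intro T hT hne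
    exact stronglyClosed_eq_of_conj S hgen
      (fun s t hs ht hs2 hs1 ht2 ht1 =>
        exists_conj_invol hF s t (by rw [← sq]; exact hs2) hs1 (by rw [← sq]; exact ht2) ht1)
      T hT hne


end Cfsg.Agent.S5317
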