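import Cfsg.Statements.S5328
import Cfsg.Agent.Lib.helper86.BisetRealize

set_option autoImplicit false
universe u
open Cfsg

namespace Cfsg.Agent.S5328

/-- Every fusion system over a finite p-group S, saturated or not, is realized inside some finite group: there is a finite group G and an injective homomorphism ι of S into G such that the maps of the system are exactly the homomorphisms between subgroups of S that become conjugations by elements of G (the image of S need not be a Sylow p-subgroup of G). -/
theorem result {Ω : Type u} [Group Ω] {S : Subgroup Ω} [Finite S] (p : ℕ) [Fact p.Prime] (hS : IsPGroup p S) (F : Cfsg.FusionSystem S) : ∃ (G : Type u) (_ : Group G) (_ : Finite G) (ι : ↥S →* G), F.IsRealizedBy ι := by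
  classical
  letI : Fintype (Subgroup (S × S)) := Fintype.ofFinite _
  obtain ⟨k, hk1, hk2, hk3⟩ := Lib.helper86.exists_uniform (Lib.helper86.twSet F)
    (Lib.helper86.tw S S S.subtype) (Lib.helper86.diag_mem_twSet F)
  haveI : Finite (Lib.helper86.Real k) := inferInstance
  exact ⟨↥(Lib.helper86.biAut S (Lib.helper86.Real k)), inferInstance, inferInstance,
    Lib.helper86.biIota S (Lib.helper86.Real k),
    Lib.helper86.isRealizedBy_biIota F k hk1 hk2 (fun Q χ χ' hχ hχ' =>
      hk3 _ ⟨Q, χ, hχ, rfl⟩ _ ⟨Q, χ', hχ', rfl⟩
        (by rw [Lib.helper86.card_tw F hχ, Lib.helper86.card_tw F hχ']))⟩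

end Cfsg.Agent.S5328
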