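import Cfsg.Statements.S5329
import Cfsg.Agent.Lib.helper86.BisetFocal

set_option autoImplicit false
open Cfsg
open scoped commutatorElement

namespace Cfsg.Agent.S5329

/-- For a saturated fusion system F over a finite p-group S, the focal subgroup and the derived subgroup of S meet the centre Z(F) of the system in the same subgroup: foc(F) ∩ Z(F) = S′ ∩ Z(F). -/
theorem result {Ω : Type*} [Group Ω] {S : Subgroup Ω} [Finite S] (p : ℕ) [Fact p.Prime] (hS : IsPGroup p S) (F : Cfsg.FusionSystem S) (hF : F.IsSaturated p) : F.focalSubgroup ⊓ F.center = ⁅(S : Subgroup Ω), (S : Subgroup Ω)⁆ ⊓ F.center := by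
  apply le_antisymm
  · rintro z ⟨hzf, hzc⟩
    refine ⟨?_, hzc⟩
    obtain ⟨τ, m, hm, hτ1, hτ2⟩ := Lib.helper86.exists_transfer hS F hF
      (Abelianization.of : S →* Abelianization S)
    have hcentral := Lib.helper88.isCentral_center F
    have hzS : z ∈ S := hcentral.1 hzc
    have hker : ∀ y ∈ F.focalSubgroup, ∃ hy : y ∈ S, τ ⟨y, hy⟩ = 1 := by
      intro y hy
      refine Subgroup.closure_induction (p := fun y _ => ∃ hy : y ∈ S, τ ⟨y, hy⟩ = 1)
        ?_ ?_ ?_ ?_ hy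
      · rintro _ ⟨P, φ, x, hφ, rfl⟩
        have hxS := (F.le_of_mem hφ).1 x.2
        have hφS := (F.le_of_mem hφ).2 x
        refine ⟨S.mul_mem (S.inv_mem hxS) hφS, ?_⟩
        have e : (⟨(x : Ω)⁻¹ * φ x, S.mul_mem (S.inv_mem hxS) hφS⟩ : S) =
            (⟨x, hxS⟩ : S)⁻¹ * ⟨φ x, hφS⟩ := rfl
        rw [e, map_mul, map_inv, hτ1 P φ hφ x, inv_mul_cancel]
      · exact ⟨S.one_mem, map_one τ⟩
      · rintro a b _ _ ⟨ha, ha'⟩ ⟨hb, hb'⟩
        refine ⟨S.mul_mem ha hb, ?_⟩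
        have e : (⟨a * b, S.mul_mem ha hb⟩ : S) = ⟨a, ha⟩ * ⟨b, hb⟩ := rfl
        rw [e, map_mul, ha', hb', one_mul]
      · rintro a _ ⟨ha, ha'⟩
        refine ⟨S.inv_mem ha, ?_⟩
        have e : (⟨a⁻¹, S.inv_mem ha⟩ : S) = (⟨a, ha⟩ : S)⁻¹ := rfl
        rw [e, map_inv, ha', inv_one]
    obtain ⟨_, hτz⟩ := hker z hzf
    have hev : τ ⟨z, hzS⟩ = ((Abelianization.of (⟨z, hzS⟩ : S))⁻¹) ^ m := by
      apply hτ2
      intro n Q χ b hb hχ e
      have hcz : χ ⟨(b : Ω)⁻¹, hb⟩ ∈ F.center := by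
        rw [e]
        exact F.center.pow_mem hzc n
      have h2 := Lib.helper86.central_fixed F hcentral hχ ⟨(b : Ω)⁻¹, hb⟩ hcz
      have h3 : (b : Ω)⁻¹ = z ^ n := by
        rw [← e]
        exact h2.symm
      have h4 : b = (⟨z, hzS⟩ : S)⁻¹ ^ n := by
        apply Subtype.ext
        show (b : Ω) = (z⁻¹) ^ n
        rw [inv_pow, ← h3, inv_inv]
      rw [h4, map_pow, map_inv]
    rw [hτz] at hev
    have hp : IsPGroup p (Abelianization S) :=
      IsPGroup.of_surjective hS Abelianization.of (QuotientGroup.mk'_surjective _)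
    have h5 : (Abelianization.of (⟨z, hzS⟩ : S)) ^ m = 1 := by
      rw [← inv_inj, ← inv_pow, ← hev, inv_one]
    obtain ⟨j, hj⟩ := hp (Abelianization.of (⟨z, hzS⟩ : S))
    have h6 : Abelianization.of (⟨z, hzS⟩ : S) = 1 := by
      have hcop : Nat.Coprime m (p ^ j) :=
        (Nat.Coprime.pow_left j ((Nat.Prime.coprime_iff_not_dvd (Fact.out)).2 hm)).symm
      have hd1 := orderOf_dvd_of_pow_eq_one h5
      have hd2 := orderOf_dvd_of_pow_eq_one hj
      have hd3 := Nat.dvd_gcd hd1 hd2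
      rw [hcop] at hd3
      exact orderOf_eq_one_iff.1 (Nat.dvd_one.1 hd3)
    have h7 : (⟨z, hzS⟩ : S) ∈ commutator S := by
      rw [← Abelianization.ker_of, MonoidHom.mem_ker]
      exact h6
    rw [← Subgroup.map_subtype_commutator]
    exact ⟨_, h7, rfl⟩
  · refine inf_le_inf_right _ ?_
    rw [Subgroup.commutator_le]
    intro a ha b hb
    exact Subgroup.subset_closure ⟨S, conjHom S b, ⟨a⁻¹, S.inv_mem ha⟩, F.conj_mem le_rfl hb, by
      simp [conjHom, commutatorElement_def, mul_assoc]⟩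

end Cfsg.Agent.S5329
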