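import Cfsg.Statements.S5331
import Cfsg.Agent.Lib.helper90.AbelianFusion

set_option autoImplicit false
open Cfsg

namespace Cfsg.Agent.S5331

open Cfsg.FusionSystem Cfsg.Agent.Lib.helper89 Cfsg.Agent.Lib.helper90

theorem zmod_two_smul {a : ℕ} (ha : 1 ≤ a) (t : ZMod (2 ^ a)) (h : 2 • t = 0) :
    t = 0 ∨ t = ((2 ^ (a - 1) : ℕ) : ZMod (2 ^ a)) := by
  have hv := ZMod.val_lt t
  have h1 : ((2 * t.val : ℕ) : ZMod (2 ^ a)) = 0 := by
    rw [Nat.cast_mul, ZMod.natCast_zmod_val, ← h, two_nsmul, Nat.cast_ofNat, two_mul]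
  rw [ZMod.natCast_eq_zero_iff] at h1
  have h2 : 2 ^ a = 2 * 2 ^ (a - 1) := by
    rw [← pow_succ']
    congr 1
    omega
  have h1' : 2 * 2 ^ (a - 1) ∣ 2 * t.val := by rw [← h2]; exact h1
  have hv' : t.val < 2 * 2 ^ (a - 1) := by rw [← h2]; exact hv
  have h3 : 2 ^ (a - 1) ∣ t.val := Nat.dvd_of_mul_dvd_mul_left (by norm_num) h1'
  obtain ⟨q, hq⟩ := h3
  have hpos : 0 < 2 ^ (a - 1) := by positivity
  have hq2 : q < 2 := by
    by_contra hcon
    have : 2 ≤ q := by omega
    have : 2 ^ (a - 1) * 2 ≤ 2 ^ (a - 1) * q := Nat.mul_le_mul_left _ this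
    omega
  have ht : t = ((t.val : ℕ) : ZMod (2 ^ a)) := (ZMod.natCast_zmod_val t).symm
  interval_cases q
  · left
    rw [ht, hq, Nat.mul_zero, Nat.cast_zero]
  · right
    rw [ht, hq, Nat.mul_one]

theorem zmod_div_step {a : ℕ} (ha : 1 ≤ a) (j : ℕ) (t : ZMod (2 ^ a)) (h : 2 • t = 0)
    (hj : ∃ u : ZMod (2 ^ a), t = 2 ^ j • u) (hne : a ≠ j + 1) :
    ∃ u : ZMod (2 ^ a), t = 2 ^ (j + 1) • u := by
  by_cases haj : a ≤ j
  · obtain ⟨u, rfl⟩ := hj
    refine ⟨0, ?_⟩
    rw [smul_zero, nsmul_eq_mul]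
    have : ((2 ^ j : ℕ) : ZMod (2 ^ a)) = 0 := by
      rw [ZMod.natCast_eq_zero_iff]
      exact pow_dvd_pow 2 haj
    rw [this, zero_mul]
  · rcases zmod_two_smul ha t h with h0 | h1
    · exact ⟨0, by rw [h0, smul_zero]⟩
    · refine ⟨((2 ^ (a - j - 2) : ℕ) : ZMod (2 ^ a)), ?_⟩
      rw [h1, nsmul_eq_mul, ← Nat.cast_mul, ← pow_add]
      congr 2
      omega

theorem zmod_add_eq_zero {a : ℕ} (ha : 1 ≤ a) (t t' : ZMod (2 ^ a)) (h : 2 • t = 0)
    (h' : 2 • t' = 0) (ht : t ≠ 0) (ht' : t' ≠ 0) : t + t' = 0 := by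
  rcases zmod_two_smul ha t h with h0 | h1
  · exact absurd h0 ht
  · rcases zmod_two_smul ha t' h' with h0' | h1'
    · exact absurd h0' ht'
    · rw [h1'] at h' ⊢
      rw [h1, ← two_nsmul]
      exact h'

/-- Let S be a finite abelian 2-group that is a direct product of cyclic groups of pairwise distinct orders 2^{a_1} < 2^{a_2} < ⋯ < 2^{a_n} (all a_i ≥ 1). Then every saturated fusion system over S is the inner one: its maps are exactly the conjugations by elements of S. -/
theorem result {Ω : Type*} [Group Ω] {S : Subgroup Ω} [Finite S] (n : ℕ) (a : Fin n → ℕ) (ha : StrictMono a) (ha1 : ∀ i, 1 ≤ a i) (e : ↥S ≃* Multiplicative ((i : Fin n) → ZMod (2 ^ a i))) (F : Cfsg.FusionSystem S) (hF : F.IsSaturated 2) (P : Subgroup Ω) : F.Hom P = (Cfsg.innerFusionSystem S).Hom P := by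
  classical
  have hab : ∀ x ∈ S, ∀ y ∈ S, x * y = y * x := by
    intro x hx y hy
    have h1 : (⟨x, hx⟩ : S) * ⟨y, hy⟩ = ⟨y, hy⟩ * ⟨x, hx⟩ := by
      apply e.injective
      rw [map_mul, map_mul, mul_comm]
    exact congrArg Subtype.val h1
  -- the group is killed by `2 ^ K`
  obtain ⟨K, hKdef⟩ : ∃ K : ℕ, K = ∑ i, a i := ⟨_, rfl⟩
  have hK : ∀ v : ((i : Fin n) → ZMod (2 ^ a i)), 2 ^ K • v = 0 := by
    intro v
    funext i
    rw [Pi.smul_apply, Pi.zero_apply, nsmul_eq_mul]
    have : ((2 ^ K : ℕ) : ZMod (2 ^ a i)) = 0 := by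
      rw [ZMod.natCast_eq_zero_iff]
      apply pow_dvd_pow 2
      rw [hKdef]
      exact Finset.single_le_sum (f := a) (fun _ _ => Nat.zero_le _) (Finset.mem_univ i)
    rw [this, zero_mul]
  have hS : IsPGroup 2 S := by
    intro g
    refine ⟨K, ?_⟩
    apply e.injective
    rw [map_pow, map_one]
    have := hK (Multiplicative.toAdd (e g))
    exact congrArg Multiplicative.ofAdd this
  have hres := abelian_hom_subset_restr F hS hF hab
  have hcop := abelian_autGroup_coprime F hF hab
  have hodd : Odd (Nat.card (F.autGroup S)) := Nat.coprime_two_left.mp hcop.symm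
  have hfin : Finite (F.autGroup S) := finite_autGroup F le_rfl
  -- the structural hypothesis on the product
  have hV : ∀ (j : ℕ) (y y' : (i : Fin n) → ZMod (2 ^ a i)), 2 • y = 0 → (∃ u, y = 2 ^ j • u) →
      (¬ ∃ u, y = 2 ^ (j + 1) • u) → 2 • y' = 0 → (∃ u, y' = 2 ^ j • u) →
      (¬ ∃ u, y' = 2 ^ (j + 1) • u) → ∃ u, y + y' = 2 ^ (j + 1) • u := by
    intro j y y' h2 hj hj1 h2' hj' hj1'
    have hcoord : ∀ (z : (i : Fin n) → ZMod (2 ^ a i)), 2 • z = 0 → (∃ u, z = 2 ^ j • u) →
        (¬ ∃ u, z = 2 ^ (j + 1) • u) → ∃ i, a i = j + 1 ∧ z i ≠ 0 := by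
      intro z hz2 hzj hzj1
      by_contra hcon
      apply hzj1
      have : ∀ i, ∃ u : ZMod (2 ^ a i), z i = 2 ^ (j + 1) • u := by
        intro i
        by_cases hai : a i = j + 1
        · have hzi : z i = 0 := by
            by_contra hne
            exact hcon ⟨i, hai, hne⟩
          exact ⟨0, by rw [hzi, smul_zero]⟩
        · obtain ⟨u, hu⟩ := hzj
          refine zmod_div_step (ha1 i) j (z i) ?_ ⟨u i, ?_⟩ hai
          · have := congrFun hz2 i
            rwa [Pi.smul_apply] at this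
          · have := congrFun hu i
            rwa [Pi.smul_apply] at this
      choose u hu using this
      exact ⟨u, funext (fun i => by rw [Pi.smul_apply]; exact hu i)⟩
    obtain ⟨i, hai, hyi⟩ := hcoord y h2 hj hj1
    obtain ⟨i', hai', hyi'⟩ := hcoord y' h2' hj' hj1'
    have hii : i' = i := ha.injective (hai'.trans hai.symm)
    subst hii
    have : ∀ k, ∃ u : ZMod (2 ^ a k), (y + y') k = 2 ^ (j + 1) • u := by
      intro k
      have hk2 : 2 • y k = 0 := by
        have := congrFun h2 k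
        rwa [Pi.smul_apply] at this
      have hk2' : 2 • y' k = 0 := by
        have := congrFun h2' k
        rwa [Pi.smul_apply] at this
      by_cases hk : k = i'
      · subst hk
        refine ⟨0, ?_⟩
        rw [smul_zero, Pi.add_apply]
        exact zmod_add_eq_zero (ha1 k) _ _ hk2 hk2' hyi hyi'
      · have hak : a k ≠ j + 1 := fun h => hk (ha.injective (h.trans hai'.symm))
        obtain ⟨u, hu⟩ := hj
        obtain ⟨u', hu'⟩ := hj'
        refine zmod_div_step (ha1 k) j _ ?_ ⟨u k + u' k, ?_⟩ hak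
        · rw [Pi.add_apply, smul_add, hk2, hk2', add_zero]
        · rw [Pi.add_apply, smul_add]
          have h1 := congrFun hu k
          have h1' := congrFun hu' k
          rw [Pi.smul_apply] at h1 h1'
          rw [h1, h1']
    choose u hu using this
    exact ⟨u, funext (fun k => by rw [Pi.smul_apply]; exact hu k)⟩
  -- every element of `Aut_F(S)` is trivial
  have htriv : ∀ α ∈ F.autGroup S, ∀ x : S, α x = x := by
    intro α hα
    obtain ⟨m, hmdef⟩ : ∃ m : ℕ, m = Nat.card (F.autGroup S) := ⟨_, rfl⟩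
    have hαm : α ^ m = 1 := by
      have h1 : (⟨α, hα⟩ : F.autGroup S) ^ m = 1 := by
        rw [hmdef]; exact pow_card_eq_one'
      exact congrArg Subtype.val h1
    let f : ((i : Fin n) → ZMod (2 ^ a i)) → ((i : Fin n) → ZMod (2 ^ a i)) :=
      fun x => Multiplicative.toAdd (e (α (e.symm (Multiplicative.ofAdd x))))
    have hf : ∀ x, f x = Multiplicative.toAdd (e (α (e.symm (Multiplicative.ofAdd x)))) :=
      fun x => rfl
    have hadd : ∀ x y, f (x + y) = f x + f y := by
      intro x y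
      rw [hf, hf, hf, ofAdd_add, map_mul, map_mul, map_mul, toAdd_mul]
    have hinj : Function.Injective f := by
      intro x y hxy
      rw [hf, hf] at hxy
      have h1 := Multiplicative.toAdd.injective hxy
      have h2 := e.injective h1
      have h3 := α.injective h2
      have h4 := e.symm.injective h3
      exact Multiplicative.ofAdd.injective h4
    have hiter : ∀ (k : ℕ) x, f^[k] x =
        Multiplicative.toAdd (e ((α ^ k) (e.symm (Multiplicative.ofAdd x)))) := by
      intro k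
      induction k with
      | zero =>
        intro x
        simp
      | succ k ih =>
        intro x
        rw [Function.iterate_succ_apply', ih, hf, pow_succ']
        simp
    have hfm : ∀ x, f^[m] x = x := by
      intro x
      rw [hiter, hαm]
      simp
    have hid := odd_aut_trivial K hK hV f hadd hinj m (hmdef ▸ hodd) hfm
    intro x
    have h1 := hid (Multiplicative.toAdd (e x))
    rw [hf] at h1
    have h2 := Multiplicative.toAdd.injective h1
    have h3 := e.injective h2
    simpa using h3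
  apply Set.Subset.antisymm
  · intro φ hφ
    obtain ⟨hP, ψ, hψ, hx⟩ := hres P hφ
    obtain ⟨α, hα, hαx⟩ := exists_autGroup_of_hom_top F hψ
    refine ⟨hP, 1, S.one_mem, fun x => ?_⟩
    rw [hx, ← hαx, htriv α hα]
    simp
  · exact inner_hom_subset F P

end Cfsg.Agent.S5331
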