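import Cfsg.Statements.S5343
import Cfsg.Agent.Lib.helper90.Realized

set_option autoImplicit false
universe u
open Cfsg

namespace Cfsg.Agent.S5343

/-- Let F be a simple saturated fusion system over a finite p-group S that is realized by some finite group on a Sylow p-subgroup. Then F is realized by a finite simple group on a Sylow p-subgroup. -/
theorem result {Ω : Type u} [Group Ω] {S : Subgroup Ω} [Finite S] (p : ℕ) [Fact p.Prime] (hS : IsPGroup p S) (F : Cfsg.FusionSystem S) (hsimple : F.IsSimple p) (hreal : F.IsRealizable p) : ∃ (G : Type u) (_ : Group G) (_ : Finite G) (_ : IsSimpleGroup G) (ι : ↥S →* G), F.IsRealizedBy ι ∧ ∃ T : Sylow p G, (T : Subgroup G) = ι.range := by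
  classical
  obtain ⟨hsat, hSne, hnorm⟩ := hsimple
  have hex : ∃ n : ℕ, ∃ (G : Type u) (_ : Group G) (_ : Finite G) (ι : S →* G),
      F.IsRealizedBy ι ∧ (∃ T : Sylow p G, (T : Subgroup G) = ι.range) ∧ Nat.card G = n := by
    obtain ⟨G, hG, hfin, ι, hR, hT⟩ := hreal
    exact ⟨Nat.card G, G, hG, hfin, ι, hR, hT, rfl⟩
  have hmin : ∀ m < Nat.find hex, ¬ ∃ (G : Type u) (_ : Group G) (_ : Finite G) (ι : S →* G),
      F.IsRealizedBy ι ∧ (∃ T : Sylow p G, (T : Subgroup G) = ι.range) ∧ Nat.card G = m :=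
    fun m hm => Nat.find_min hex hm
  obtain ⟨G, hG, hfin, ι, hR, ⟨T₀, hT₀⟩, hcard⟩ := Nat.find_spec hex
  have hnt : Nontrivial G := by
    by_contra h
    rw [not_nontrivial_iff_subsingleton] at h
    apply hSne
    rw [eq_bot_iff]
    intro s hs
    have h1 : (⟨s, hs⟩ : S) = 1 := hR.1 (Subsingleton.elim _ _)
    exact Subgroup.mem_bot.mpr (congrArg Subtype.val h1)
  refine ⟨G, hG, hfin, { toNontrivial := hnt, eq_bot_or_eq_top_of_normal := ?_ }, ι, hR, T₀, hT₀⟩
  intro N hN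
  by_contra hcon
  rw [not_or] at hcon
  obtain ⟨hN1, hN2⟩ := hcon
  rcases hnorm _ _ (Cfsg.Agent.Lib.helper90.normalSubsystem_isNormalIn hR T₀ hT₀ N) with
    hT | ⟨hT, hHom⟩
  · obtain ⟨hR', hT'⟩ := Cfsg.Agent.Lib.helper90.realizedBy_quotient hR T₀ hT₀ N hT
    refine hmin (Nat.card (G ⧸ N)) ?_ ⟨G ⧸ N, inferInstance, inferInstance, _, hR', hT', rfl⟩
    rw [← hcard, Subgroup.card_eq_card_quotient_mul_card_subgroup N]
    have h1 : 1 < Nat.card N := (Subgroup.one_lt_card_iff_ne_bot N).mpr hN1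
    have h2 : 0 < Nat.card (G ⧸ N) := Nat.card_pos
    nlinarith
  · obtain ⟨ι', hR', hT'⟩ := Cfsg.Agent.Lib.helper90.realizedBy_normal hR T₀ hT₀ N hT hHom
    refine hmin (Nat.card N) ?_ ⟨N, inferInstance, inferInstance, ι', hR', hT', rfl⟩
    rw [← hcard]
    have h1 : Nat.card N ≤ Nat.card G := Subgroup.card_le_card_group N
    have h2 : Nat.card N ≠ Nat.card G := fun h => hN2 ((Subgroup.card_eq_iff_eq_top N).mp h)
    omega

end Cfsg.Agent.S5343
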