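import Cfsg.Statements.S5344
-- import your own Cfsg.Agent.* helpers here

set_option autoImplicit false
open Cfsg

namespace Cfsg.Agent.S5344

set_option linter.unusedSimpArgs false

/-- the 24 shortlex normal-form words in three letters -/

def word {M : Type*} [Monoid M] (x y z : M) : Fin 24 → M :=
  ![1, x, y, z, x * y, x * z, y * x, y * z, z * y, x * (y * x), x * (y * z), x * (z * y), y * (x * z), y * (z * y), z * (y * x), x * (y * (x * z)), x * (y * (z * y)), x * (z * (y * x)), y * (x * (z * y)), y * (z * (y * x)), x * (y * (x * (z * y))), x * (y * (z * (y * x))), y * (x * (z * (y * x))), x * (y * (x * (z * (y * x))))]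

/-- left multiplication by the generator `a` on the indices of the normal forms -/

def ta : Fin 24 → Fin 24 :=
  ![1, 0, 4, 5, 2, 3, 9, 10, 11, 6, 7, 8, 15, 16, 17, 12, 13, 14, 20, 21, 18, 19, 23, 22]

/-- left multiplication by the generator `b` on the indices of the normal forms -/

def tb : Fin 24 → Fin 24 :=
  ![2, 6, 0, 7, 9, 12, 1, 3, 13, 4, 15, 18, 5, 8, 19, 10, 20, 22, 11, 14, 16, 23, 17, 21]

/-- left multiplication by the generator `c` on the indices of the normal forms -/

def tc : Fin 24 → Fin 24 :=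
  ![3, 5, 8, 0, 11, 1, 14, 13, 2, 17, 16, 4, 19, 7, 6, 21, 10, 9, 22, 12, 23, 15, 18, 20]

/-- first conjugator witness -/
def u1 : Fin 24 → Fin 24 :=
  ![0, 0, 6, 0, 0, 2, 0, 0, 0, 2, 2, 6, 6, 2, 2, 0, 0, 0, 0, 0, 0, 6, 0, 0]

/-- second conjugator witness -/
def u2 : Fin 24 → Fin 24 :=
  ![0, 18, 7, 18, 10, 4, 12, 9, 14, 12, 2, 6, 6, 12, 2, 2, 9, 11, 1, 2, 0, 7, 0, 1]

theorem word_ta {G : Type*} [Group G] (a b c : G) (ha : a * a = 1) (hb : b * b = 1) (hc : c * c = 1)
    (hac : c * a = a * c) (hab : b * (a * b) = a * (b * a)) (hbc : c * (b * c) = b * (c * b)) :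
    ∀ t : Fin 24, word a b c (ta t) = a * word a b c t := by
  have haT : ∀ x : G, a * (a * x) = x := fun x => by rw [← mul_assoc, ha, one_mul]
  have hbT : ∀ x : G, b * (b * x) = x := fun x => by rw [← mul_assoc, hb, one_mul]
  have hcT : ∀ x : G, c * (c * x) = x := fun x => by rw [← mul_assoc, hc, one_mul]
  have hacT : ∀ x : G, c * (a * x) = a * (c * x) := fun x => by rw [← mul_assoc, hac, mul_assoc]
  have habT : ∀ x : G, b * (a * (b * x)) = a * (b * (a * x)) := fun x => by
    rw [← mul_assoc a b x, ← mul_assoc b (a * b) x, hab]; simp only [mul_assoc]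
  have hbcT : ∀ x : G, c * (b * (c * x)) = b * (c * (b * x)) := fun x => by
    rw [← mul_assoc b c x, ← mul_assoc c (b * c) x, hbc]; simp only [mul_assoc]
  have h5 : c * (b * (a * c)) = b * (c * (b * a)) := by
    rw [← hac, ← mul_assoc b c a, ← mul_assoc c (b * c) a, hbc]; simp only [mul_assoc]
  have h5T : ∀ x : G, c * (b * (a * (c * x))) = b * (c * (b * (a * x))) := fun x => by
    rw [← hacT, hbcT]
  intro t
  fin_cases t
  · show a = a * 1
    simp only [mul_one, ha, hb, hc, hac, hab, hbc, h5, haT, hbT, hcT, hacT, habT, hbcT, h5T]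
  · show 1 = a * a
    simp only [mul_one, ha, hb, hc, hac, hab, hbc, h5, haT, hbT, hcT, hacT, habT, hbcT, h5T]
  · show a * b = a * b
    simp only [mul_one, ha, hb, hc, hac, hab, hbc, h5, haT, hbT, hcT, hacT, habT, hbcT, h5T]
  · show a * c = a * c
    simp only [mul_one, ha, hb, hc, hac, hab, hbc, h5, haT, hbT, hcT, hacT, habT, hbcT, h5T]
  · show b = a * (a * b)
    simp only [mul_one, ha, hb, hc, hac, hab, hbc, h5, haT, hbT, hcT, hacT, habT, hbcT, h5T]
  · show c = a * (a * c)
    simp only [mul_one, ha, hb, hc, hac, hab, hbc, h5, haT, hbT, hcT, hacT, habT, hbcT, h5T]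
  · show a * (b * a) = a * (b * a)
    simp only [mul_one, ha, hb, hc, hac, hab, hbc, h5, haT, hbT, hcT, hacT, habT, hbcT, h5T]
  · show a * (b * c) = a * (b * c)
    simp only [mul_one, ha, hb, hc, hac, hab, hbc, h5, haT, hbT, hcT, hacT, habT, hbcT, h5T]
  · show a * (c * b) = a * (c * b)
    simp only [mul_one, ha, hb, hc, hac, hab, hbc, h5, haT, hbT, hcT, hacT, habT, hbcT, h5T]
  · show b * a = a * (a * (b * a))
    simp only [mul_one, ha, hb, hc, hac, hab, hbc, h5, haT, hbT, hcT, hacT, habT, hbcT, h5T]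
  · show b * c = a * (a * (b * c))
    simp only [mul_one, ha, hb, hc, hac, hab, hbc, h5, haT, hbT, hcT, hacT, habT, hbcT, h5T]
  · show c * b = a * (a * (c * b))
    simp only [mul_one, ha, hb, hc, hac, hab, hbc, h5, haT, hbT, hcT, hacT, habT, hbcT, h5T]
  · show a * (b * (a * c)) = a * (b * (a * c))
    simp only [mul_one, ha, hb, hc, hac, hab, hbc, h5, haT, hbT, hcT, hacT, habT, hbcT, h5T]
  · show a * (b * (c * b)) = a * (b * (c * b))
    simp only [mul_one, ha, hb, hc, hac, hab, hbc, h5, haT, hbT, hcT, hacT, habT, hbcT, h5T]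
  · show a * (c * (b * a)) = a * (c * (b * a))
    simp only [mul_one, ha, hb, hc, hac, hab, hbc, h5, haT, hbT, hcT, hacT, habT, hbcT, h5T]
  · show b * (a * c) = a * (a * (b * (a * c)))
    simp only [mul_one, ha, hb, hc, hac, hab, hbc, h5, haT, hbT, hcT, hacT, habT, hbcT, h5T]
  · show b * (c * b) = a * (a * (b * (c * b)))
    simp only [mul_one, ha, hb, hc, hac, hab, hbc, h5, haT, hbT, hcT, hacT, habT, hbcT, h5T]
  · show c * (b * a) = a * (a * (c * (b * a)))
    simp only [mul_one, ha, hb, hc, hac, hab, hbc, h5, haT, hbT, hcT, hacT, habT, hbcT, h5T]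
  · show a * (b * (a * (c * b))) = a * (b * (a * (c * b)))
    simp only [mul_one, ha, hb, hc, hac, hab, hbc, h5, haT, hbT, hcT, hacT, habT, hbcT, h5T]
  · show a * (b * (c * (b * a))) = a * (b * (c * (b * a)))
    simp only [mul_one, ha, hb, hc, hac, hab, hbc, h5, haT, hbT, hcT, hacT, habT, hbcT, h5T]
  · show b * (a * (c * b)) = a * (a * (b * (a * (c * b))))
    simp only [mul_one, ha, hb, hc, hac, hab, hbc, h5, haT, hbT, hcT, hacT, habT, hbcT, h5T]
  · show b * (c * (b * a)) = a * (a * (b * (c * (b * a))))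
    simp only [mul_one, ha, hb, hc, hac, hab, hbc, h5, haT, hbT, hcT, hacT, habT, hbcT, h5T]
  · show a * (b * (a * (c * (b * a)))) = a * (b * (a * (c * (b * a))))
    simp only [mul_one, ha, hb, hc, hac, hab, hbc, h5, haT, hbT, hcT, hacT, habT, hbcT, h5T]
  · show b * (a * (c * (b * a))) = a * (a * (b * (a * (c * (b * a)))))
    simp only [mul_one, ha, hb, hc, hac, hab, hbc, h5, haT, hbT, hcT, hacT, habT, hbcT, h5T]

theorem word_tb {G : Type*} [Group G] (a b c : G) (ha : a * a = 1) (hb : b * b = 1) (hc : c * c = 1)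
    (hac : c * a = a * c) (hab : b * (a * b) = a * (b * a)) (hbc : c * (b * c) = b * (c * b)) :
    ∀ t : Fin 24, word a b c (tb t) = b * word a b c t := by
  have haT : ∀ x : G, a * (a * x) = x := fun x => by rw [← mul_assoc, ha, one_mul]
  have hbT : ∀ x : G, b * (b * x) = x := fun x => by rw [← mul_assoc, hb, one_mul]
  have hcT : ∀ x : G, c * (c * x) = x := fun x => by rw [← mul_assoc, hc, one_mul]
  have hacT : ∀ x : G, c * (a * x) = a * (c * x) := fun x => by rw [← mul_assoc, hac, mul_assoc]
  have habT : ∀ x : G, b * (a * (b * x)) = a * (b * (a * x)) := fun x => by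
    rw [← mul_assoc a b x, ← mul_assoc b (a * b) x, hab]; simp only [mul_assoc]
  have hbcT : ∀ x : G, c * (b * (c * x)) = b * (c * (b * x)) := fun x => by
    rw [← mul_assoc b c x, ← mul_assoc c (b * c) x, hbc]; simp only [mul_assoc]
  have h5 : c * (b * (a * c)) = b * (c * (b * a)) := by
    rw [← hac, ← mul_assoc b c a, ← mul_assoc c (b * c) a, hbc]; simp only [mul_assoc]
  have h5T : ∀ x : G, c * (b * (a * (c * x))) = b * (c * (b * (a * x))) := fun x => by
    rw [← hacT, hbcT]
  intro t
  fin_cases t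
  · show b = b * 1
    simp only [mul_one, ha, hb, hc, hac, hab, hbc, h5, haT, hbT, hcT, hacT, habT, hbcT, h5T]
  · show b * a = b * a
    simp only [mul_one, ha, hb, hc, hac, hab, hbc, h5, haT, hbT, hcT, hacT, habT, hbcT, h5T]
  · show 1 = b * b
    simp only [mul_one, ha, hb, hc, hac, hab, hbc, h5, haT, hbT, hcT, hacT, habT, hbcT, h5T]
  · show b * c = b * c
    simp only [mul_one, ha, hb, hc, hac, hab, hbc, h5, haT, hbT, hcT, hacT, habT, hbcT, h5T]
  · show a * (b * a) = b * (a * b)
    simp only [mul_one, ha, hb, hc, hac, hab, hbc, h5, haT, hbT, hcT, hacT, habT, hbcT, h5T]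
  · show b * (a * c) = b * (a * c)
    simp only [mul_one, ha, hb, hc, hac, hab, hbc, h5, haT, hbT, hcT, hacT, habT, hbcT, h5T]
  · show a = b * (b * a)
    simp only [mul_one, ha, hb, hc, hac, hab, hbc, h5, haT, hbT, hcT, hacT, habT, hbcT, h5T]
  · show c = b * (b * c)
    simp only [mul_one, ha, hb, hc, hac, hab, hbc, h5, haT, hbT, hcT, hacT, habT, hbcT, h5T]
  · show b * (c * b) = b * (c * b)
    simp only [mul_one, ha, hb, hc, hac, hab, hbc, h5, haT, hbT, hcT, hacT, habT, hbcT, h5T]
  · show a * b = b * (a * (b * a))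
    simp only [mul_one, ha, hb, hc, hac, hab, hbc, h5, haT, hbT, hcT, hacT, habT, hbcT, h5T]
  · show a * (b * (a * c)) = b * (a * (b * c))
    simp only [mul_one, ha, hb, hc, hac, hab, hbc, h5, haT, hbT, hcT, hacT, habT, hbcT, h5T]
  · show b * (a * (c * b)) = b * (a * (c * b))
    simp only [mul_one, ha, hb, hc, hac, hab, hbc, h5, haT, hbT, hcT, hacT, habT, hbcT, h5T]
  · show a * c = b * (b * (a * c))
    simp only [mul_one, ha, hb, hc, hac, hab, hbc, h5, haT, hbT, hcT, hacT, habT, hbcT, h5T]
  · show c * b = b * (b * (c * b))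
    simp only [mul_one, ha, hb, hc, hac, hab, hbc, h5, haT, hbT, hcT, hacT, habT, hbcT, h5T]
  · show b * (c * (b * a)) = b * (c * (b * a))
    simp only [mul_one, ha, hb, hc, hac, hab, hbc, h5, haT, hbT, hcT, hacT, habT, hbcT, h5T]
  · show a * (b * c) = b * (a * (b * (a * c)))
    simp only [mul_one, ha, hb, hc, hac, hab, hbc, h5, haT, hbT, hcT, hacT, habT, hbcT, h5T]
  · show a * (b * (a * (c * b))) = b * (a * (b * (c * b)))
    simp only [mul_one, ha, hb, hc, hac, hab, hbc, h5, haT, hbT, hcT, hacT, habT, hbcT, h5T]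
  · show b * (a * (c * (b * a))) = b * (a * (c * (b * a)))
    simp only [mul_one, ha, hb, hc, hac, hab, hbc, h5, haT, hbT, hcT, hacT, habT, hbcT, h5T]
  · show a * (c * b) = b * (b * (a * (c * b)))
    simp only [mul_one, ha, hb, hc, hac, hab, hbc, h5, haT, hbT, hcT, hacT, habT, hbcT, h5T]
  · show c * (b * a) = b * (b * (c * (b * a)))
    simp only [mul_one, ha, hb, hc, hac, hab, hbc, h5, haT, hbT, hcT, hacT, habT, hbcT, h5T]
  · show a * (b * (c * b)) = b * (a * (b * (a * (c * b))))
    simp only [mul_one, ha, hb, hc, hac, hab, hbc, h5, haT, hbT, hcT, hacT, habT, hbcT, h5T]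
  · show a * (b * (a * (c * (b * a)))) = b * (a * (b * (c * (b * a))))
    simp only [mul_one, ha, hb, hc, hac, hab, hbc, h5, haT, hbT, hcT, hacT, habT, hbcT, h5T]
  · show a * (c * (b * a)) = b * (b * (a * (c * (b * a))))
    simp only [mul_one, ha, hb, hc, hac, hab, hbc, h5, haT, hbT, hcT, hacT, habT, hbcT, h5T]
  · show a * (b * (c * (b * a))) = b * (a * (b * (a * (c * (b * a)))))
    simp only [mul_one, ha, hb, hc, hac, hab, hbc, h5, haT, hbT, hcT, hacT, habT, hbcT, h5T]

theorem word_tc {G : Type*} [Group G] (a b c : G) (ha : a * a = 1) (hb : b * b = 1) (hc : c * c = 1)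
    (hac : c * a = a * c) (hab : b * (a * b) = a * (b * a)) (hbc : c * (b * c) = b * (c * b)) :
    ∀ t : Fin 24, word a b c (tc t) = c * word a b c t := by
  have haT : ∀ x : G, a * (a * x) = x := fun x => by rw [← mul_assoc, ha, one_mul]
  have hbT : ∀ x : G, b * (b * x) = x := fun x => by rw [← mul_assoc, hb, one_mul]
  have hcT : ∀ x : G, c * (c * x) = x := fun x => by rw [← mul_assoc, hc, one_mul]
  have hacT : ∀ x : G, c * (a * x) = a * (c * x) := fun x => by rw [← mul_assoc, hac, mul_assoc]
  have habT : ∀ x : G, b * (a * (b * x)) = a * (b * (a * x)) := fun x => by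
    rw [← mul_assoc a b x, ← mul_assoc b (a * b) x, hab]; simp only [mul_assoc]
  have hbcT : ∀ x : G, c * (b * (c * x)) = b * (c * (b * x)) := fun x => by
    rw [← mul_assoc b c x, ← mul_assoc c (b * c) x, hbc]; simp only [mul_assoc]
  have h5 : c * (b * (a * c)) = b * (c * (b * a)) := by
    rw [← hac, ← mul_assoc b c a, ← mul_assoc c (b * c) a, hbc]; simp only [mul_assoc]
  have h5T : ∀ x : G, c * (b * (a * (c * x))) = b * (c * (b * (a * x))) := fun x => by
    rw [← hacT, hbcT]
  intro t
  fin_cases t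
  · show c = c * 1
    simp only [mul_one, ha, hb, hc, hac, hab, hbc, h5, haT, hbT, hcT, hacT, habT, hbcT, h5T]
  · show a * c = c * a
    simp only [mul_one, ha, hb, hc, hac, hab, hbc, h5, haT, hbT, hcT, hacT, habT, hbcT, h5T]
  · show c * b = c * b
    simp only [mul_one, ha, hb, hc, hac, hab, hbc, h5, haT, hbT, hcT, hacT, habT, hbcT, h5T]
  · show 1 = c * c
    simp only [mul_one, ha, hb, hc, hac, hab, hbc, h5, haT, hbT, hcT, hacT, habT, hbcT, h5T]
  · show a * (c * b) = c * (a * b)
    simp only [mul_one, ha, hb, hc, hac, hab, hbc, h5, haT, hbT, hcT, hacT, habT, hbcT, h5T]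
  · show a = c * (a * c)
    simp only [mul_one, ha, hb, hc, hac, hab, hbc, h5, haT, hbT, hcT, hacT, habT, hbcT, h5T]
  · show c * (b * a) = c * (b * a)
    simp only [mul_one, ha, hb, hc, hac, hab, hbc, h5, haT, hbT, hcT, hacT, habT, hbcT, h5T]
  · show b * (c * b) = c * (b * c)
    simp only [mul_one, ha, hb, hc, hac, hab, hbc, h5, haT, hbT, hcT, hacT, habT, hbcT, h5T]
  · show b = c * (c * b)
    simp only [mul_one, ha, hb, hc, hac, hab, hbc, h5, haT, hbT, hcT, hacT, habT, hbcT, h5T]
  · show a * (c * (b * a)) = c * (a * (b * a))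
    simp only [mul_one, ha, hb, hc, hac, hab, hbc, h5, haT, hbT, hcT, hacT, habT, hbcT, h5T]
  · show a * (b * (c * b)) = c * (a * (b * c))
    simp only [mul_one, ha, hb, hc, hac, hab, hbc, h5, haT, hbT, hcT, hacT, habT, hbcT, h5T]
  · show a * b = c * (a * (c * b))
    simp only [mul_one, ha, hb, hc, hac, hab, hbc, h5, haT, hbT, hcT, hacT, habT, hbcT, h5T]
  · show b * (c * (b * a)) = c * (b * (a * c))
    simp only [mul_one, ha, hb, hc, hac, hab, hbc, h5, haT, hbT, hcT, hacT, habT, hbcT, h5T]
  · show b * c = c * (b * (c * b))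
    simp only [mul_one, ha, hb, hc, hac, hab, hbc, h5, haT, hbT, hcT, hacT, habT, hbcT, h5T]
  · show b * a = c * (c * (b * a))
    simp only [mul_one, ha, hb, hc, hac, hab, hbc, h5, haT, hbT, hcT, hacT, habT, hbcT, h5T]
  · show a * (b * (c * (b * a))) = c * (a * (b * (a * c)))
    simp only [mul_one, ha, hb, hc, hac, hab, hbc, h5, haT, hbT, hcT, hacT, habT, hbcT, h5T]
  · show a * (b * c) = c * (a * (b * (c * b)))
    simp only [mul_one, ha, hb, hc, hac, hab, hbc, h5, haT, hbT, hcT, hacT, habT, hbcT, h5T]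
  · show a * (b * a) = c * (a * (c * (b * a)))
    simp only [mul_one, ha, hb, hc, hac, hab, hbc, h5, haT, hbT, hcT, hacT, habT, hbcT, h5T]
  · show b * (a * (c * (b * a))) = c * (b * (a * (c * b)))
    simp only [mul_one, ha, hb, hc, hac, hab, hbc, h5, haT, hbT, hcT, hacT, habT, hbcT, h5T]
  · show b * (a * c) = c * (b * (c * (b * a)))
    simp only [mul_one, ha, hb, hc, hac, hab, hbc, h5, haT, hbT, hcT, hacT, habT, hbcT, h5T]
  · show a * (b * (a * (c * (b * a)))) = c * (a * (b * (a * (c * b))))
    simp only [mul_one, ha, hb, hc, hac, hab, hbc, h5, haT, hbT, hcT, hacT, habT, hbcT, h5T]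
  · show a * (b * (a * c)) = c * (a * (b * (c * (b * a))))
    simp only [mul_one, ha, hb, hc, hac, hab, hbc, h5, haT, hbT, hcT, hacT, habT, hbcT, h5T]
  · show b * (a * (c * b)) = c * (b * (a * (c * (b * a))))
    simp only [mul_one, ha, hb, hc, hac, hab, hbc, h5, haT, hbT, hcT, hacT, habT, hbcT, h5T]
  · show a * (b * (a * (c * b))) = c * (a * (b * (a * (c * (b * a)))))
    simp only [mul_one, ha, hb, hc, hac, hab, hbc, h5, haT, hbT, hcT, hacT, habT, hbcT, h5T]

/-- the normal-form words evaluated on the adjacent transpositions of `S₄` -/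
def perm : Fin 24 → Equiv.Perm (Fin 4) :=
  word (Equiv.swap 0 1) (Equiv.swap 1 2) (Equiv.swap 2 3)

theorem perm_ta : ∀ t : Fin 24, perm (ta t) = Equiv.swap 0 1 * perm t := by decide

theorem perm_tb : ∀ t : Fin 24, perm (tb t) = Equiv.swap 1 2 * perm t := by decide

theorem perm_tc : ∀ t : Fin 24, perm (tc t) = Equiv.swap 2 3 * perm t := by decide

theorem perm_injective : Function.Injective perm := by
  have h : ∀ s t : Fin 24, perm s = perm t → s = t := by decide
  exact fun s t hst => h s t hst

theorem perm_bijective : Function.Bijective perm := by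
  rw [Fintype.bijective_iff_injective_and_card]
  refine ⟨perm_injective, ?_⟩
  rw [Fintype.card_perm, Fintype.card_fin]
  rfl

theorem perm_zero : perm 0 = 1 := rfl

theorem perm_witness : ∀ s : Fin 24, s ≠ 0 →
    perm (u1 s) * perm s * (perm (u1 s))⁻¹ * (perm (u2 s) * perm s * (perm (u2 s))⁻¹) =
      Equiv.swap 0 1 * Equiv.swap 2 3 := by decide

/-- the inverse of `perm` -/
noncomputable def code : Equiv.Perm (Fin 4) → Fin 24 := (Equiv.ofBijective perm perm_bijective).symm

theorem perm_code (σ : Equiv.Perm (Fin 4)) : perm (code σ) = σ :=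
  (Equiv.ofBijective perm perm_bijective).apply_symm_apply σ

theorem code_perm (t : Fin 24) : code (perm t) = t :=
  (Equiv.ofBijective perm perm_bijective).symm_apply_apply t

/-- the candidate homomorphism as a function -/
noncomputable def f {G : Type*} [Group G] (a b c : G) (σ : Equiv.Perm (Fin 4)) : G := word a b c (code σ)

section hom
variable {G : Type*} [Group G] (a b c : G) (ha : a * a = 1) (hb : b * b = 1) (hc : c * c = 1)
    (hac : c * a = a * c) (hab : b * (a * b) = a * (b * a)) (hbc : c * (b * c) = b * (c * b))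
include ha hb hc hac hab hbc

theorem f_a (σ : Equiv.Perm (Fin 4)) : f a b c (Equiv.swap 0 1 * σ) = a * f a b c σ := by
  unfold f
  rw [← word_ta a b c ha hb hc hac hab hbc]
  congr 1
  apply perm_injective
  rw [perm_code, perm_ta, perm_code]

theorem f_b (σ : Equiv.Perm (Fin 4)) : f a b c (Equiv.swap 1 2 * σ) = b * f a b c σ := by
  unfold f
  rw [← word_tb a b c ha hb hc hac hab hbc]
  congr 1
  apply perm_injective
  rw [perm_code, perm_tb, perm_code]

theorem f_c (σ : Equiv.Perm (Fin 4)) : f a b c (Equiv.swap 2 3 * σ) = c * f a b c σ := by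
  unfold f
  rw [← word_tc a b c ha hb hc hac hab hbc]
  congr 1
  apply perm_injective
  rw [perm_code, perm_tc, perm_code]

omit ha hb hc hac hab hbc in
theorem f_one : f a b c 1 = 1 := by
  unfold f
  have : code 1 = 0 := by rw [← perm_zero, code_perm]
  rw [this]
  rfl

theorem f_mul (τ σ : Equiv.Perm (Fin 4)) : f a b c (τ * σ) = f a b c τ * f a b c σ := by
  have hτ : τ ∈ Submonoid.closure (Set.range fun i : Fin 3 => Equiv.swap i.castSucc i.succ) := by
    rw [Equiv.Perm.mclosure_swap_castSucc_succ]; trivial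
  have fa1 : f a b c (Equiv.swap 0 1) = a := by
    have := f_a a b c ha hb hc hac hab hbc 1
    rwa [mul_one, f_one, mul_one] at this
  have fb1 : f a b c (Equiv.swap 1 2) = b := by
    have := f_b a b c ha hb hc hac hab hbc 1
    rwa [mul_one, f_one, mul_one] at this
  have fc1 : f a b c (Equiv.swap 2 3) = c := by
    have := f_c a b c ha hb hc hac hab hbc 1
    rwa [mul_one, f_one, mul_one] at this
  revert σ
  induction hτ using Submonoid.closure_induction with
  | mem x hx =>
    obtain ⟨i, rfl⟩ := hx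
    intro σ
    fin_cases i
    · show f a b c (Equiv.swap 0 1 * σ) = f a b c (Equiv.swap 0 1) * f a b c σ
      rw [fa1]; exact f_a a b c ha hb hc hac hab hbc σ
    · show f a b c (Equiv.swap 1 2 * σ) = f a b c (Equiv.swap 1 2) * f a b c σ
      rw [fb1]; exact f_b a b c ha hb hc hac hab hbc σ
    · show f a b c (Equiv.swap 2 3 * σ) = f a b c (Equiv.swap 2 3) * f a b c σ
      rw [fc1]; exact f_c a b c ha hb hc hac hab hbc σ
  | one =>
    intro σ
    rw [one_mul, f_one, one_mul]
  | mul x y _ _ ihx ihy =>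
    intro σ
    rw [mul_assoc, ihx, ihy, ihx, mul_assoc]

/-- the homomorphism from `S₄` determined by three involutions satisfying the Coxeter relations -/
noncomputable def hom : Equiv.Perm (Fin 4) →* G where
  toFun := f a b c
  map_one' := f_one a b c
  map_mul' := f_mul a b c ha hb hc hac hab hbc

theorem hom_a : hom a b c ha hb hc hac hab hbc (Equiv.swap 0 1) = a := by
  have := f_a a b c ha hb hc hac hab hbc 1
  rwa [mul_one, f_one, mul_one] at this

theorem hom_b : hom a b c ha hb hc hac hab hbc (Equiv.swap 1 2) = b := by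
  have := f_b a b c ha hb hc hac hab hbc 1
  rwa [mul_one, f_one, mul_one] at this

theorem hom_c : hom a b c ha hb hc hac hab hbc (Equiv.swap 2 3) = c := by
  have := f_c a b c ha hb hc hac hab hbc 1
  rwa [mul_one, f_one, mul_one] at this

theorem hom_injective (hne : a ≠ c) : Function.Injective (hom a b c ha hb hc hac hab hbc) := by
  rw [injective_iff_map_eq_one]
  intro σ hσ
  by_contra hσ1
  have hs : code σ ≠ 0 := by
    intro h0
    apply hσ1
    rw [← perm_code σ, h0, perm_zero]
  have hw := perm_witness (code σ) hs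
  rw [perm_code] at hw
  have := congrArg (hom a b c ha hb hc hac hab hbc) hw
  simp only [map_mul, map_inv, hσ, mul_one, mul_inv_cancel] at this
  rw [hom_a, hom_c] at this
  apply hne
  have h2 : a * c = c * c := by rw [← this, hc]
  exact mul_right_cancel h2

end hom

/-- In a set of 3-transpositions, let a, b, c be members with a and c different and commuting, while neither a nor c commutes with b (a 3-string). Then there is an injective homomorphism from the symmetric group of degree 4 into the ambient group sending the transpositions (0 1), (1 2), (2 3) to a, b, c; so a, b, c generate a copy of the symmetric group of degree 4 in which they are transpositions. -/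
theorem result {G : Type*} [Group G] {D : Set G} (hD : Cfsg.IsThreeTranspositionSet D) {a b c : G} (ha : a ∈ D) (hb : b ∈ D) (hc : c ∈ D) (hac : a ≠ c) (hac' : Commute a c) (hab : ¬ Commute a b) (hbc : ¬ Commute b c) : ∃ φ : Equiv.Perm (Fin 4) →* G, Function.Injective φ ∧ φ (Equiv.swap 0 1) = a ∧ φ (Equiv.swap 1 2) = b ∧ φ (Equiv.swap 2 3) = c := by
  obtain ⟨hord, hprod⟩ := hD
  have sq : ∀ d ∈ D, d * d = 1 := by
    intro d hd
    have h2 : d ^ 2 = 1 := by rw [← hord d hd]; exact pow_orderOf_eq_one d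
    rwa [pow_two] at h2
  have inv : ∀ d ∈ D, d⁻¹ = d := fun d hd => inv_eq_of_mul_eq_one_left (sq d hd)
  -- braid relation from non-commutation
  have braid : ∀ d ∈ D, ∀ e ∈ D, ¬ Commute d e → e * (d * e) = d * (e * d) := by
    intro d hd e he hnc
    have h3 : (d * e) ^ 3 = 1 := by
      rcases hprod d hd e he with h2 | h3
      · exfalso
        apply hnc
        show d * e = e * d
        have h4 : d * e * (d * e) = 1 := by rwa [pow_two] at h2
        have h5 : d * e = (d * e)⁻¹ := eq_inv_of_mul_eq_one_left h4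
        rw [h5, mul_inv_rev, inv d hd, inv e he]
      · exact h3
    have h6 : d * e * (d * e) = (d * e)⁻¹ := by
      apply eq_inv_of_mul_eq_one_left
      rw [← h3, pow_succ, pow_two]
    calc e * (d * e) = (d * d) * (e * (d * e)) := by rw [sq d hd, one_mul]
      _ = d * (d * e * (d * e)) := by simp only [mul_assoc]
      _ = d * (d * e)⁻¹ := by rw [h6]
      _ = d * (e * d) := by rw [mul_inv_rev, inv d hd, inv e he]
  have h1 : a * a = 1 := sq a ha
  have h2 : b * b = 1 := sq b hb
  have h3 : c * c = 1 := sq c hc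
  have h4 : c * a = a * c := hac'.eq.symm
  have h5 : b * (a * b) = a * (b * a) := braid a ha b hb hab
  have h6 : c * (b * c) = b * (c * b) := braid b hb c hc hbc
  exact ⟨hom a b c h1 h2 h3 h4 h5 h6, hom_injective a b c h1 h2 h3 h4 h5 h6 hac,
    hom_a a b c h1 h2 h3 h4 h5 h6, hom_b a b c h1 h2 h3 h4 h5 h6, hom_c a b c h1 h2 h3 h4 h5 h6⟩

end Cfsg.Agent.S5344
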