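import Cfsg.Statements.S5345
-- import your own Cfsg.Agent.* helpers here

set_option autoImplicit false
open Cfsg

namespace Cfsg.Agent.S5345

theorem sq_one_of_mem {G : Type*} [Group G] {D : Set G} (hD : Cfsg.IsThreeTranspositionSet D) {d : G} (hd : d ∈ D) :
    d * d = 1 := by
  have := hD.1 d hd
  have h2 : d ^ 2 = 1 := by rw [← this]; exact pow_orderOf_eq_one d
  rwa [pow_two] at h2

/-- two members of `D` inside a 2-group commute -/
theorem commute_of_mem_two_group {G : Type*} [Group G] {D : Set G} (hD : Cfsg.IsThreeTranspositionSet D)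
    (H : Subgroup G) (hH : IsPGroup 2 H) {d e : G} (hd : d ∈ D) (he : e ∈ D) (hdH : d ∈ H) (heH : e ∈ H) :
    Commute d e := by
  have hd2 := sq_one_of_mem hD hd
  have he2 := sq_one_of_mem hD he
  have hsq : (d * e) ^ 2 = 1 := by
    rcases hD.2 d hd e he with h2 | h3
    · exact h2
    · obtain ⟨k, hk⟩ := hH ⟨d * e, H.mul_mem hdH heH⟩
      have hk' : (d * e) ^ (2 ^ k) = 1 := by
        have := congrArg Subtype.val hk
        simpa using this
      have hdiv1 : orderOf (d * e) ∣ 2 ^ k := orderOf_dvd_of_pow_eq_one hk'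
      have hdiv3 : orderOf (d * e) ∣ 3 := orderOf_dvd_of_pow_eq_one h3
      have hcop : Nat.Coprime (2 ^ k) 3 := Nat.Coprime.pow_left _ (by norm_num)
      have := Nat.dvd_gcd hdiv1 hdiv3
      rw [hcop] at this
      have h1 : d * e = 1 := orderOf_eq_one_iff.mp (Nat.dvd_one.mp this)
      rw [h1, one_pow]
  show d * e = e * d
  have h4 : d * e * (d * e) = 1 := by rwa [pow_two] at hsq
  calc d * e = d * e * (d * e) * (e * d) := by
        have : d * e * (d * e) * (e * d) = d * e * (d * (e * e) * d) := by group
        rw [this, he2, mul_one, hd2, mul_one]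
    _ = e * d := by rw [h4, one_mul]

/-- the closure of a pairwise commuting set of involutions is a 2-group -/
theorem isPGroup_closure {G : Type*} [Group G] {E : Set G} (hinv : ∀ a ∈ E, a * a = 1)
    (hcomm : ∀ a ∈ E, ∀ b ∈ E, Commute a b) : IsPGroup 2 (Subgroup.closure E) := by
  have hcm : IsMulCommutative (Subgroup.closure E) :=
    Subgroup.isMulCommutative_closure (fun x hx y hy => hcomm x hx y hy)
  have key : ∀ x ∈ Subgroup.closure E, x * x = 1 := by
    intro x hx
    induction hx using Subgroup.closure_induction with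
    | mem x hx => exact hinv x hx
    | one => simp
    | mul x y hx hy ihx ihy =>
      have hc : x * y = y * x := by
        have := mul_comm' (⟨x, hx⟩ : Subgroup.closure E) ⟨y, hy⟩
        exact congrArg Subtype.val this
      calc x * y * (x * y) = x * y * (y * x) := by rw [hc]
        _ = x * (y * y) * x := by group
        _ = 1 := by rw [ihy, mul_one, ihx]
    | inv x hx ihx =>
      have : x⁻¹ * x⁻¹ = (x * x)⁻¹ := by group
      rw [this, ihx, inv_one]
  intro g
  refine ⟨1, ?_⟩
  apply Subtype.ext
  have := key g g.2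
  simpa [pow_two] using this

/-- Let D be a conjugation-invariant generating set of 3-transpositions of a finite group G and T a Sylow 2-subgroup of G. Then the members of D lying in T generate an abelian subgroup, and their number is the width of D (the largest number of pairwise commuting members of D). -/
theorem result {G : Type*} [Group G] [Finite G] {D : Set G} (hD : Cfsg.IsThreeTranspositionGroup D) (T : Sylow 2 G) : IsMulCommutative (Subgroup.closure {d : G | d ∈ D ∧ d ∈ T}) ∧ {d : G | d ∈ D ∧ d ∈ T}.ncard = Cfsg.commutingWidth D := by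
  obtain ⟨hD3, hconj, -⟩ := hD
  have hTp : IsPGroup 2 (T : Subgroup G) := T.isPGroup'
  have hA : ∀ a ∈ {d : G | d ∈ D ∧ d ∈ T}, ∀ b ∈ {d : G | d ∈ D ∧ d ∈ T}, Commute a b := by
    rintro a ⟨haD, haT⟩ b ⟨hbD, hbT⟩
    exact commute_of_mem_two_group hD3 (T : Subgroup G) hTp haD hbD haT hbT
  constructor
  · exact Subgroup.isMulCommutative_closure (fun x hx y hy => hA x hx y hy)
  · unfold Cfsg.commutingWidth
    apply le_antisymm
    · apply le_csSup
      · refine ⟨Nat.card G, ?_⟩
        rintro n ⟨E, -, -, -, rfl⟩
        rw [← Nat.card_coe_set_eq]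
        exact Finite.card_subtype_le _
      · exact ⟨{d : G | d ∈ D ∧ d ∈ T}, fun x hx => hx.1, Set.toFinite _, hA, rfl⟩
    · apply csSup_le
      · exact ⟨_, {d : G | d ∈ D ∧ d ∈ T}, fun x hx => hx.1, Set.toFinite _, hA, rfl⟩
      · rintro n ⟨E, hED, -, hEc, rfl⟩
        have hE2 : IsPGroup 2 (Subgroup.closure E) :=
          isPGroup_closure (fun a ha => sq_one_of_mem hD3 (hED ha)) hEc
        obtain ⟨Q, hQ⟩ := hE2.exists_le_sylow
        obtain ⟨g, hg⟩ := MulAction.exists_smul_eq G Q T
        apply Set.ncard_le_ncard_of_injOn (fun x => g * x * g⁻¹)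
        · intro a ha
          refine ⟨hconj g a (hED ha), ?_⟩
          have haQ : a ∈ (Q : Subgroup G) := hQ (Subgroup.subset_closure ha)
          have : g * a * g⁻¹ ∈ ((g • Q : Sylow 2 G) : Subgroup G) := by
            rw [Sylow.coe_subgroup_smul]
            exact ⟨a, haQ, rfl⟩
          rw [hg] at this
          exact this
        · intro a _ b _ hab
          simpa using hab

end Cfsg.Agent.S5345
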