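import Cfsg.Statements.S5346
import Cfsg.Agent.S5345
import Cfsg.Agent.Lib.helper91.WidthOne

set_option autoImplicit false
open Cfsg

namespace Cfsg.Agent.S5346

open Cfsg.Agent.Lib.helper91

/-- Let D be a conjugation-invariant generating set of 3-transpositions of a finite group G and d a member of D. Then D has width 1 (no two different members of D commute) if and only if G is the product of the subgroup generated by d with the largest normal 3-subgroup of G. -/
theorem result {G : Type*} [Group G] [Finite G] {D : Set G} (hD : Cfsg.IsThreeTranspositionGroup D) {d : G} (hd : d ∈ D) : Cfsg.commutingWidth D = 1 ↔ Subgroup.zpowers d ⊔ Cfsg.pCore 3 G = ⊤ := by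
  classical
  obtain ⟨hTT, hconj, hgen⟩ := hD
  have hdd : d * d = 1 := tt_sq hTT hd
  have hN3 : IsPGroup 3 (Cfsg.pCore 3 G) := pCore_isPGroup' 3 G
  have hNn : (Cfsg.pCore 3 G).Normal := pCore_normal'' 3 G
  constructor
  · intro hw
    have hnc : ∀ x ∈ D, ∀ y ∈ D, Commute x y → x = y := by
      intro x hx y hy hxy
      by_contra hne
      have hp : IsPGroup 2 (Subgroup.closure ({x, y} : Set G)) :=
        Cfsg.Agent.S5345.isPGroup_closure
          (by rintro a (rfl | rfl); exacts [tt_sq hTT hx, tt_sq hTT hy])
          (by rintro a (rfl | rfl) b (rfl | rfl); exacts [Commute.refl _, hxy, hxy.symm, Commute.refl _])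
      obtain ⟨T, hT⟩ := hp.exists_le_sylow
      have hres := (Cfsg.Agent.S5345.result ⟨hTT, hconj, hgen⟩ T).2
      rw [hw] at hres
      have hsub : ({x, y} : Set G) ⊆ {d : G | d ∈ D ∧ d ∈ T} := by
        rintro a (rfl | rfl)
        · exact ⟨hx, hT (Subgroup.subset_closure (by simp))⟩
        · exact ⟨hy, hT (Subgroup.subset_closure (by simp))⟩
      have hle := Set.ncard_le_ncard hsub (Set.toFinite _)
      rw [Set.ncard_pair hne, hres] at hle
      omega
    have hW : IsW1 D := isW1_of_tt hTT
      (fun x hx y hy => by have h := hconj x y hy; rwa [tt_inv hTT hx] at h) hnc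
    rw [eq_top_iff, ← hgen, Subgroup.closure_le]
    intro x hx
    have hmem : d * x ∈ Cfsg.pCore 3 G := mul_mem_pCore_three_of_isW1 hW hconj hd hx
    have hx' : x = d * (d * x) := by rw [← mul_assoc, hdd, one_mul]
    have hfin : d * (d * x) ∈ Subgroup.zpowers d ⊔ Cfsg.pCore 3 G :=
      Subgroup.mul_mem_sup (Subgroup.mem_zpowers d) hmem
    rw [← hx'] at hfin
    exact hfin
  · intro htop
    have hpow : ∀ k : ℤ, d ^ k = 1 ∨ d ^ k = d := by
      intro k
      rcases Int.even_or_odd' k with ⟨m, rfl | rfl⟩
      · left
        rw [zpow_mul, zpow_two, hdd, one_zpow]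
      · right
        rw [zpow_add, zpow_mul, zpow_two, hdd, one_zpow, one_mul, zpow_one]
    have hp : IsPGroup 2 (Subgroup.closure ({d} : Set G)) :=
      Cfsg.Agent.S5345.isPGroup_closure (by rintro a rfl; exact hdd)
        (by rintro a rfl b rfl; exact Commute.refl _)
    obtain ⟨T, hT⟩ := hp.exists_le_sylow
    have hdT : d ∈ T := hT (Subgroup.subset_closure rfl)
    have hres := (Cfsg.Agent.S5345.result ⟨hTT, hconj, hgen⟩ T).2
    rw [← hres]
    have hset : {x : G | x ∈ D ∧ x ∈ T} = {d} := by
      ext e
      constructor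
      · rintro ⟨heD, heT⟩
        have hcomm : Commute d e :=
          Cfsg.Agent.S5345.commute_of_mem_two_group hTT T T.isPGroup' hd heD hdT heT
        have he : e ∈ Subgroup.zpowers d ⊔ Cfsg.pCore 3 G := by rw [htop]; exact Subgroup.mem_top e
        obtain ⟨y, hy, n, hn, hyn⟩ := Subgroup.mem_sup_of_normal_right.mp he
        obtain ⟨k, rfl⟩ := Subgroup.mem_zpowers_iff.mp hy
        rcases hpow k with hk | hk
        · rw [hk, one_mul] at hyn
          subst hyn
          exact absurd (eq_one_of_mem_three_group_of_sq hN3 hn (tt_sq hTT heD)) (tt_ne_one hTT heD)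
        · rw [hk] at hyn
          have hde : d * e = n := by rw [← hyn, ← mul_assoc, hdd, one_mul]
          have hn1 : n = 1 := by
            apply eq_one_of_mem_three_group_of_sq hN3 hn
            rw [← hde]
            exact tt_sq_of_commute hTT hd heD hcomm
          rw [hn1, mul_one] at hyn
          exact hyn.symm
      · rintro rfl
        exact ⟨hd, hdT⟩
    rw [hset, Set.ncard_singleton]

end Cfsg.Agent.S5346
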