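import Cfsg.Statements.S5347
-- import your own Cfsg.Agent.* helpers here

set_option autoImplicit false
open Cfsg

namespace Cfsg.Agent.S5347

/-- Let D be a conjugation-invariant generating set of 3-transpositions of a finite group G, p a prime bigger than 3, and P a p-subgroup of G. If a member d of D normalizes P then d centralizes P. -/
theorem result {G : Type*} [Group G] [Finite G] {D : Set G} (hD : Cfsg.IsThreeTranspositionGroup D) {p : ℕ} (hp : p.Prime) (hp3 : 3 < p) (P : Subgroup G) (hP : IsPGroup p P) {d : G} (hd : d ∈ D) (hnorm : d ∈ Subgroup.normalizer (P : Set G)) : ∀ x ∈ P, Commute d x := by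
  intro x hx
  obtain ⟨⟨hord, hprod⟩, hconj, -⟩ := hD
  have hd2 : d * d = 1 := by
    have := hord d hd
    have h2 : d ^ 2 = 1 := by rw [← this]; exact pow_orderOf_eq_one d
    rwa [pow_two] at h2
  have hdinv : d⁻¹ = d := inv_eq_of_mul_eq_one_left hd2
  -- e = x⁻¹ d x lies in D
  have he : x⁻¹ * d * x ∈ D := by
    have := hconj x⁻¹ d hd
    rwa [inv_inv] at this
  -- y = e * d lies in P
  have hdx : d * x * d ∈ P := by
    have := (Subgroup.mem_normalizer_iff.mp hnorm x).mp hx
    rwa [hdinv] at this
  have hy : x⁻¹ * d * x * d ∈ P := by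
    have : x⁻¹ * d * x * d = x⁻¹ * (d * x * d) := by group
    rw [this]
    exact P.mul_mem (P.inv_mem hx) hdx
  obtain ⟨k, hk⟩ := hP ⟨x⁻¹ * d * x * d, hy⟩
  have hk' : (x⁻¹ * d * x * d) ^ (p ^ k) = 1 := by
    have := congrArg Subtype.val hk
    simpa using this
  have hy1 : x⁻¹ * d * x * d = 1 := by
    have hdiv1 : orderOf (x⁻¹ * d * x * d) ∣ p ^ k := orderOf_dvd_of_pow_eq_one hk'
    rcases hprod _ he d hd with h2 | h3
    · have hdiv2 : orderOf (x⁻¹ * d * x * d) ∣ 2 := orderOf_dvd_of_pow_eq_one h2
      have hcop : Nat.Coprime (p ^ k) 2 := by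
        apply Nat.Coprime.pow_left
        rw [Nat.coprime_primes hp Nat.prime_two]
        omega
      have := Nat.dvd_gcd hdiv1 hdiv2
      rw [hcop] at this
      exact orderOf_eq_one_iff.mp (Nat.dvd_one.mp this)
    · have hdiv3 : orderOf (x⁻¹ * d * x * d) ∣ 3 := orderOf_dvd_of_pow_eq_one h3
      have hcop : Nat.Coprime (p ^ k) 3 := by
        apply Nat.Coprime.pow_left
        rw [Nat.coprime_primes hp Nat.prime_three]
        omega
      have := Nat.dvd_gcd hdiv1 hdiv3
      rw [hcop] at this
      exact orderOf_eq_one_iff.mp (Nat.dvd_one.mp this)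
  -- conclude d x = x d
  show d * x = x * d
  have h1 : d * x * d = x := by
    have : d * x * d = x * (x⁻¹ * d * x * d) := by group
    rw [this, hy1, mul_one]
  calc d * x = d * x * (d * d) := by rw [hd2, mul_one]
    _ = d * x * d * d := by group
    _ = x * d := by rw [h1]

end Cfsg.Agent.S5347
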