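import Cfsg.Statements.S5349
import Cfsg.Agent.Lib.helper91.ThreeTrans

set_option autoImplicit false
open Cfsg

namespace Cfsg.Agent.S5349

/-- Let D be a conjugacy class of 3-transpositions generating the finite group G, with at least two members, and d a member of D. Then the set of members of D commuting with exactly the same members of D as d coincides with the set of members of D lying in the coset of d modulo the largest normal 2-subgroup of G, and also with the orbit of d under conjugation by that normal 2-subgroup. -/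
theorem result {G : Type*} [Group G] [Finite G] {D : Set G} (hD : Cfsg.IsThreeTranspositionClass D) (hD2 : ∃ a ∈ D, ∃ b ∈ D, a ≠ b) {d : G} (hd : d ∈ D) : {v : G | v ∈ D ∧ ∀ e ∈ D, Commute v e ↔ Commute d e} = {v : G | v ∈ D ∧ d⁻¹ * v ∈ Cfsg.pCore 2 G} ∧ {v : G | v ∈ D ∧ ∀ e ∈ D, Commute v e ↔ Commute d e} = {v : G | ∃ g ∈ Cfsg.pCore 2 G, v = g * d * g⁻¹} := by
  have hconj : ∀ g : G, ∀ d ∈ D, g * d * g⁻¹ ∈ D :=
    fun g d hd => Cfsg.Agent.Lib.helper91.tt_class_conj_mem hD g hd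
  have hVB : ∀ v, (v ∈ D ∧ ∀ e ∈ D, Commute v e ↔ Commute d e) →
      ∃ g ∈ Cfsg.pCore 2 G, v = g * d * g⁻¹ :=
    fun v hv => Cfsg.Agent.Lib.helper91.samePerp_exists_pCore_conj hD hD2 hd hv
  have hBA : ∀ v, (∃ g ∈ Cfsg.pCore 2 G, v = g * d * g⁻¹) →
      v ∈ D ∧ d⁻¹ * v ∈ Cfsg.pCore 2 G := by
    rintro v ⟨g, hg, rfl⟩
    exact ⟨hconj g d hd, Cfsg.Agent.Lib.helper91.conj_mem_coset_pCore 2 hg⟩
  have hAV : ∀ v, (v ∈ D ∧ d⁻¹ * v ∈ Cfsg.pCore 2 G) →
      (v ∈ D ∧ ∀ e ∈ D, Commute v e ↔ Commute d e) :=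
    fun v hv => Cfsg.Agent.Lib.helper91.samePerp_of_mem_pCore hD.1 hd hv.1 hv.2
  constructor
  · ext v
    exact ⟨fun h => hBA v (hVB v h), hAV v⟩
  · ext v
    exact ⟨hVB v, fun h => hAV v (hBA v h)⟩

end Cfsg.Agent.S5349
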