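import Cfsg.Statements.S5350
import Cfsg.Agent.Lib.helper91.Theta

set_option autoImplicit false
open Cfsg

namespace Cfsg.Agent.S5350

open Cfsg.Agent.Lib.helper91


/-- Let D be a conjugacy class of 3-transpositions generating the finite group G, with at least two members, and d a member of D. Then the set of members w of D whose commuting partners in D (other than w) are exactly those of d (other than d) coincides with the set of members of D lying in the coset of d modulo the largest normal 3-subgroup of G, and also with the orbit of d under conjugation by that normal 3-subgroup. -/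
theorem result {G : Type*} [Group G] [Finite G] {D : Set G} (hD : Cfsg.IsThreeTranspositionClass D) (hD2 : ∃ a ∈ D, ∃ b ∈ D, a ≠ b) {d : G} (hd : d ∈ D) : {w : G | w ∈ D ∧ {y : G | y ∈ D ∧ y ≠ d ∧ Commute d y} = {y : G | y ∈ D ∧ y ≠ w ∧ Commute w y}} = {w : G | w ∈ D ∧ d⁻¹ * w ∈ Cfsg.pCore 3 G} ∧ {w : G | w ∈ D ∧ {y : G | y ∈ D ∧ y ≠ d ∧ Commute d y} = {y : G | y ∈ D ∧ y ≠ w ∧ Commute w y}} = {w : G | ∃ g ∈ Cfsg.pCore 3 G, w = g * d * g⁻¹} := by
  have hTT := hD.1
  have hconj : ∀ g : G, ∀ x ∈ D, g * x * g⁻¹ ∈ D := fun g x hx => tt_class_conj_mem hD g hx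
  have hN3 : IsPGroup 3 (Cfsg.pCore 3 G) := pCore_isPGroup' 3 G
  have hNn : (Cfsg.pCore 3 G).Normal := pCore_normal'' 3 G
  have sd := tt_sq hTT hd
  have id := tt_inv hTT hd
  -- membership characterisations
  have hAB : ∀ w : G, (w ∈ D ∧ {y : G | y ∈ D ∧ y ≠ d ∧ Commute d y} = {y : G | y ∈ D ∧ y ≠ w ∧ Commute w y})
      ↔ (w ∈ D ∧ d⁻¹ * w ∈ Cfsg.pCore 3 G) := by
    intro w
    constructor
    · rintro ⟨hw, heq⟩
      refine ⟨hw, ?_⟩
      rw [id]
      exact th_mul_mem_pCore hTT hconj (⟨hd, hw, heq⟩ : Th D d w)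
    · rintro ⟨hw, hmem⟩
      refine ⟨hw, Set.Subset.antisymm (dp_subset_of_mem_pCore hTT hd hw hmem) ?_⟩
      have h2 : w⁻¹ * d ∈ Cfsg.pCore 3 G := by
        have := inv_mem hmem
        rwa [mul_inv_rev, inv_inv] at this
      exact dp_subset_of_mem_pCore hTT hw hd h2
  have hAC : ∀ w : G, (w ∈ D ∧ {y : G | y ∈ D ∧ y ≠ d ∧ Commute d y} = {y : G | y ∈ D ∧ y ≠ w ∧ Commute w y})
      ↔ (∃ g ∈ Cfsg.pCore 3 G, w = g * d * g⁻¹) := by
    intro w
    constructor
    · rintro ⟨hw, heq⟩
      have hth : Th D d w := ⟨hd, hw, heq⟩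
      by_cases hdw : d = w
      · exact ⟨1, one_mem _, by rw [← hdw]; group⟩
      · have hnc := th_not_commute hth hdw
        have hb : d * w * d = w * d * w := tt_braid hTT hd hw hnc
        have sw := tt_sq hTT hw
        have iw := tt_inv hTT hw
        refine ⟨d * w, th_mul_mem_pCore hTT hconj hth, ?_⟩
        rw [mul_inv_rev, id, iw]
        symm
        calc d * w * d * (w * d) = (d * w * d) * w * d := by group
          _ = (w * d * w) * w * d := by rw [hb]
          _ = w * d * (w * w) * d := by group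
          _ = w := by rw [sw, mul_one, mul_assoc, sd, mul_one]
    · rintro ⟨g, hg, rfl⟩
      have hw : g * d * g⁻¹ ∈ D := hconj g d hd
      apply (hAB _).mpr
      refine ⟨hw, ?_⟩
      have heq : d⁻¹ * (g * d * g⁻¹) = (d⁻¹ * g * d⁻¹⁻¹) * g⁻¹ := by group
      rw [heq]
      exact mul_mem (hNn.conj_mem g hg d⁻¹) (inv_mem hg)
  constructor
  · ext w
    exact hAB w
  · ext w
    exact hAC w

end Cfsg.Agent.S5350
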