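import Cfsg.Statements.S5354
import Cfsg.Agent.Lib.helper91.TTMax

set_option autoImplicit false
open Cfsg

namespace Cfsg.Agent.S5354

open Cfsg.Agent.Lib.helper91


/-- Let D be a conjugation-invariant generating set of 3-transpositions of the finite group G on which G acts primitively by conjugation, and suppose two different members of D commute (width at least 2). Then G has a quasisimple normal subgroup L of index at most 2 with the generalized Fitting subgroup of G equal to L times the centre, the commuting graph of D is connected, and for d in D the subgroup generated by the members of D commuting with d is a maximal D-subgroup: it is proper, and every subgroup generated by members of D that contains it is either it or G. -/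
theorem result {G : Type*} [Group G] [Finite G] {D : Set G} (hD : Cfsg.IsThreeTranspositionGroup D) (hprim : Cfsg.IsPrimitiveUnderConj D) (hw : ∃ a ∈ D, ∃ b ∈ D, a ≠ b ∧ Commute a b) : (∃ L : Subgroup G, L.Normal ∧ Cfsg.IsQuasisimple L ∧ L.index ≤ 2 ∧ Cfsg.generalizedFittingSubgroup G = L ⊔ Subgroup.center G) ∧ (Cfsg.commutingGraph D).Connected ∧ ∀ d ∈ D, Subgroup.closure {y : G | y ∈ D ∧ Commute d y} ≠ ⊤ ∧ ∀ H : Subgroup G, Cfsg.IsDSubgroup D H → Subgroup.closure {y : G | y ∈ D ∧ Commute d y} ≤ H → H = Subgroup.closure {y : G | y ∈ D ∧ Commute d y} ∨ H = ⊤ := by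
  classical
  obtain ⟨hTT, hconj, hgen⟩ := hD
  have hD2 : ∃ a ∈ D, ∃ b ∈ D, a ≠ b := hprim.2.1
  have hcls : Cfsg.IsThreeTranspositionClass D := by
    obtain ⟨a₀, ha₀, -⟩ := hD2
    refine ⟨hTT, ⟨a₀, ha₀, ?_⟩, hgen⟩
    ext x
    constructor
    · intro hx
      obtain ⟨g, hg⟩ := hprim.1 a₀ ha₀ x hx
      exact (isConj_iff.mpr ⟨g, hg⟩ : IsConj a₀ x)
    · intro hx
      have hx' : IsConj a₀ x := hx
      obtain ⟨g, hg⟩ := isConj_iff.mp hx'
      rw [← hg]; exact hconj g a₀ ha₀
  have h2 := prim_pCore_two_le_center hcls hD2 hprim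
  have h3 := prim_pCore_three_le_center hcls hw hprim
  have hconn := prim_connected hconj hw hprim
  obtain ⟨K, hK, hKn, hF⟩ := tt_exists_component_data hcls hD2 h2 h3
  refine ⟨⟨K, hKn, hK.2, tt_index_le_two_of_connected hcls hK hKn hconn, hF⟩, hconn, ?_⟩
  intro d hd
  constructor
  · intro htop
    have hle : Subgroup.closure {y : G | y ∈ D ∧ Commute d y} ≤ Subgroup.centralizer {d} := by
      rw [Subgroup.closure_le]
      rintro y ⟨-, hy⟩
      exact Subgroup.mem_centralizer_iff.mpr (by rintro _ rfl; exact hy.eq)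
    rw [htop] at hle
    obtain ⟨a, ha, b, hb, hab⟩ := hD2
    have hall : ∀ x ∈ D, x = d := by
      intro x hx
      obtain ⟨g, hg⟩ := hprim.1 d hd x hx
      have hgc : g ∈ Subgroup.centralizer {d} := hle (Subgroup.mem_top g)
      have := Subgroup.mem_centralizer_iff.mp hgc d rfl
      rw [← hg, ← this, mul_inv_cancel_right]
    exact hab ((hall a ha).trans (hall b hb).symm)
  · intro H hH hMH
    by_cases hall : ∀ e ∈ D, e ∈ H → Commute d e
    · left
      apply le_antisymm _ hMH
      have hH' : Subgroup.closure {e : G | e ∈ D ∧ e ∈ H} = H := hH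
      exact hH'.symm.le.trans (Subgroup.closure_mono (fun e he => ⟨he.1, hall e he.1 he.2⟩))
    · right
      push Not at hall
      obtain ⟨a, -, haH, hda⟩ := hall
      exact prim_eq_top_of_not_commute hTT hconj hgen hprim hconn hd
        (fun y hy hc => hMH (Subgroup.subset_closure ⟨hy, hc⟩)) haH hda

end Cfsg.Agent.S5354
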