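import Cfsg.Statements.S5355
import Cfsg.Agent.Lib.helper91.ThreeTrans
import Cfsg.Agent.S5344

set_option autoImplicit false
open Cfsg

namespace Cfsg.Agent.S5355

open Cfsg.Agent.Lib.helper91 in
theorem word_comm {G : Type*} [Group G] {d e z : G} (hde : d * e = e * d)
    (hdz : d * z * d = z * d * z) (hez : e * z * e = z * e * z) :
    z * (d * e * z * e * d) = (d * e * z * e * d) * z := by
  calc z * (d * e * z * e * d) = z * (d * (e * z * e) * d) := by group
    _ = z * (d * (z * e * z) * d) := by rw [hez]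
    _ = (z * d * z) * e * z * d := by group
    _ = (d * z * d) * e * z * d := by rw [← hdz]
    _ = d * z * (d * e) * z * d := by group
    _ = d * z * (e * d) * z * d := by rw [hde]
    _ = d * z * e * (d * z * d) := by group
    _ = d * z * e * (z * d * z) := by rw [hdz]
    _ = d * (z * e * z) * d * z := by group
    _ = d * (e * z * e) * d * z := by rw [← hez]
    _ = (d * e * z * e * d) * z := by group

/-- the pair `p, q` moves every other member of `D` to a different member commuting with it -/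
def PiProp {G : Type*} [Group G] (D : Set G) (p q : G) : Prop :=
  ∀ z ∈ D, z ≠ p → z ≠ q →
    Commute z ((p * q) * z * (p * q)⁻¹) ∧ (p * q) * z * (p * q)⁻¹ ≠ z

theorem piProp_conj {G : Type*} [Group G] {D : Set G}
    (hconj : ∀ g : G, ∀ y ∈ D, g * y * g⁻¹ ∈ D) (g p q : G) (h : PiProp D p q) :
    PiProp D (g * p * g⁻¹) (g * q * g⁻¹) := by
  intro z hz hzp hzq
  have hz' : g⁻¹ * z * g ∈ D := by simpa using hconj g⁻¹ z hz
  have h1 : g⁻¹ * z * g ≠ p := by
    intro h'; apply hzp; rw [← h']; group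
  have h2 : g⁻¹ * z * g ≠ q := by
    intro h'; apply hzq; rw [← h']; group
  obtain ⟨hc, hne⟩ := h _ hz' h1 h2
  have key : (g * p * g⁻¹ * (g * q * g⁻¹)) * z * (g * p * g⁻¹ * (g * q * g⁻¹))⁻¹
      = g * ((p * q) * (g⁻¹ * z * g) * (p * q)⁻¹) * g⁻¹ := by group
  rw [key]
  constructor
  · have hc' := hc.eq
    show z * (g * ((p * q) * (g⁻¹ * z * g) * (p * q)⁻¹) * g⁻¹)
      = g * ((p * q) * (g⁻¹ * z * g) * (p * q)⁻¹) * g⁻¹ * z
    calc z * (g * ((p * q) * (g⁻¹ * z * g) * (p * q)⁻¹) * g⁻¹)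
        = g * ((g⁻¹ * z * g) * ((p * q) * (g⁻¹ * z * g) * (p * q)⁻¹)) * g⁻¹ := by group
      _ = g * (((p * q) * (g⁻¹ * z * g) * (p * q)⁻¹) * (g⁻¹ * z * g)) * g⁻¹ := by rw [hc']
      _ = g * ((p * q) * (g⁻¹ * z * g) * (p * q)⁻¹) * g⁻¹ * z := by group
  · intro h'
    apply hne
    calc (p * q) * (g⁻¹ * z * g) * (p * q)⁻¹
        = g⁻¹ * (g * ((p * q) * (g⁻¹ * z * g) * (p * q)⁻¹) * g⁻¹) * g := by group
      _ = g⁻¹ * z * g := by rw [h']

theorem perm_facts :
    ((1 : Equiv.Perm (Fin 4)) * Equiv.swap 0 1 * 1⁻¹) * (1 * Equiv.swap 2 3 * 1⁻¹)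
      = Equiv.swap 0 1 * Equiv.swap 2 3 ∧
    ((Equiv.swap 1 2 : Equiv.Perm (Fin 4)) * Equiv.swap 0 1 * (Equiv.swap 1 2)⁻¹)
      * (Equiv.swap 1 2 * Equiv.swap 2 3 * (Equiv.swap 1 2)⁻¹) = Equiv.swap 0 2 * Equiv.swap 1 3 ∧
    ((Equiv.swap 1 3 : Equiv.Perm (Fin 4)) * Equiv.swap 0 1 * (Equiv.swap 1 3)⁻¹)
      * (Equiv.swap 1 3 * Equiv.swap 2 3 * (Equiv.swap 1 3)⁻¹)
      = (Equiv.swap 0 2 * Equiv.swap 1 3)⁻¹ * (Equiv.swap 0 1 * Equiv.swap 2 3) := by
  decide

/-- Let D be a conjugacy class of 3-transpositions generating the finite group G, with at least two members, and d a member of D. Suppose that every member of D commuting with d commutes with exactly the same members of D as d does, and that exactly one member of D other than d commutes with d. Then G is isomorphic to the symmetric group of degree 4. -/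
theorem result {G : Type*} [Group G] [Finite G] {D : Set G} (hD : Cfsg.IsThreeTranspositionClass D) (hD2 : ∃ a ∈ D, ∃ b ∈ D, a ≠ b) {d : G} (hd : d ∈ D) (hV : {y : G | y ∈ D ∧ Commute d y} = {v : G | v ∈ D ∧ ∀ e ∈ D, Commute v e ↔ Commute d e}) (hm : {y : G | y ∈ D ∧ Commute d y}.ncard = 2) : Nonempty (G ≃* Equiv.Perm (Fin 4)) := by
  have hT := hD.1
  have hgen := hD.2.2
  have hconj : ∀ g : G, ∀ y ∈ D, g * y * g⁻¹ ∈ D :=
    fun g y hy => Cfsg.Agent.Lib.helper91.tt_class_conj_mem hD g hy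
  have hdS : d ∈ {y : G | y ∈ D ∧ Commute d y} := ⟨hd, Commute.refl d⟩
  obtain ⟨e, he, hed, hcde, hi⟩ :
      ∃ e ∈ D, e ≠ d ∧ Commute d e ∧ ∀ y ∈ D, Commute d y → y = d ∨ y = e := by
    obtain ⟨p, q, hpq, hS⟩ := Set.ncard_eq_two.mp hm
    have hp : p ∈ {y : G | y ∈ D ∧ Commute d y} := by rw [hS]; simp
    have hq : q ∈ {y : G | y ∈ D ∧ Commute d y} := by rw [hS]; simp
    rw [hS] at hdS
    rcases hdS with h | h
    · refine ⟨q, hq.1, ?_, hq.2, ?_⟩
      · rw [h]; exact hpq.symm
      · intro y hy hc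
        have h3 : y ∈ ({p, q} : Set G) := by rw [← hS]; exact ⟨hy, hc⟩
        rcases h3 with h4 | h4
        · left; rw [h4, h]
        · right; exact h4
    · have h' : d = q := h
      refine ⟨p, hp.1, ?_, hp.2, ?_⟩
      · rw [h']; exact hpq
      · intro y hy hc
        have h3 : y ∈ ({p, q} : Set G) := by rw [← hS]; exact ⟨hy, hc⟩
        rcases h3 with h4 | h4
        · right; exact h4
        · left; rw [h']; exact h4
  have hii : ∀ z ∈ D, Commute e z ↔ Commute d z := by
    have h1 : e ∈ {v : G | v ∈ D ∧ ∀ e ∈ D, Commute v e ↔ Commute d e} := by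
      rw [← hV]; exact ⟨he, hcde⟩
    exact h1.2
  have hP : PiProp D d e := by
    intro z hz hzd hze
    have hndz : ¬ Commute d z := fun h => by
      rcases hi z hz h with h | h
      · exact hzd h
      · exact hze h
    have hnez : ¬ Commute e z := fun h => hndz ((hii z hz).mp h)
    have bdz := Cfsg.Agent.Lib.helper91.tt_braid hT hd hz hndz
    have bez := Cfsg.Agent.Lib.helper91.tt_braid hT he hz hnez
    have hinv : (d * e)⁻¹ = e * d := by
      rw [mul_inv_rev, Cfsg.Agent.Lib.helper91.tt_inv hT hd, Cfsg.Agent.Lib.helper91.tt_inv hT he]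
    have hw : (d * e) * z * (d * e)⁻¹ = d * e * z * e * d := by rw [hinv]; group
    rw [hw]
    constructor
    · exact word_comm hcde.eq bdz bez
    · intro h
      apply hed
      have dd := Cfsg.Agent.Lib.helper91.tt_sq hT hd
      have h1 : e * z * e = d * z * d := by
        calc e * z * e = (d * d) * e * z * e * (d * d) := by rw [dd]; group
          _ = d * (d * e * z * e * d) * d := by group
          _ = d * z * d := by rw [h]
      rw [bdz, bez] at h1
      exact mul_left_cancel (mul_right_cancel h1)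
  have hB : ∀ y ∈ D, ∀ w ∈ D, ∀ w' ∈ D, Commute y w → w ≠ y → Commute y w' → w' ≠ y →
      w = w' := by
    intro y hy w hw w' hw' hc hne hc' hne'
    obtain ⟨g, hg⟩ := isConj_iff.mp (Cfsg.Agent.Lib.helper91.tt_class_isConj hD hd hy)
    have aux : ∀ u ∈ D, Commute y u → u ≠ y → g⁻¹ * u * g = e := by
      intro u hu hcu hneu
      have hu' : g⁻¹ * u * g ∈ D := by simpa using hconj g⁻¹ u hu
      have hcd : Commute d (g⁻¹ * u * g) := by
        rw [← hg] at hcu
        exact (Cfsg.Agent.Lib.helper91.commute_conj_iff g d u).mp hcu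
      rcases hi _ hu' hcd with h | h
      · exfalso; apply hneu; rw [← hg, ← h]; group
      · exact h
    have h1 := aux w hw hc hne
    have h2 := aux w' hw' hc' hne'
    calc w = g * (g⁻¹ * w * g) * g⁻¹ := by group
      _ = g * (g⁻¹ * w' * g) * g⁻¹ := by rw [h1, h2]
      _ = w' := by group
  obtain ⟨x, hx, hxd, hxe⟩ : ∃ x ∈ D, x ≠ d ∧ x ≠ e := by
    by_contra hcon
    push Not at hcon
    obtain ⟨a, ha, b, hb, hab⟩ := hD2
    have hall : ∀ u ∈ D, ∀ v ∈ D, Commute u v := by
      intro u hu v hv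
      have hu' : u = d ∨ u = e := by
        by_cases h : u = d
        · exact Or.inl h
        · exact Or.inr (hcon u hu h)
      have hv' : v = d ∨ v = e := by
        by_cases h : v = d
        · exact Or.inl h
        · exact Or.inr (hcon v hv h)
      rcases hu' with h | h <;> rcases hv' with h' | h' <;> rw [h, h']
      · exact hcde
      · exact hcde.symm
    have hcent : ∀ g : G, Commute g a := by
      intro g
      have hg : g ∈ Subgroup.closure D := by rw [hgen]; trivial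
      refine Subgroup.closure_induction (p := fun g _ => Commute g a) ?_ ?_ ?_ ?_ hg
      · intro u hu; exact hall u hu a ha
      · exact Commute.one_left a
      · intro u v _ _ hu hv; exact hu.mul_left hv
      · intro u _ hu; exact hu.inv_left
    obtain ⟨g, hg⟩ := isConj_iff.mp (Cfsg.Agent.Lib.helper91.tt_class_isConj hD ha hb)
    apply hab
    rw [← hg, (hcent g).eq]; group
  have hndx : ¬ Commute d x := fun h => by
    rcases hi x hx h with h | h
    · exact hxd h
    · exact hxe h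
  have hnxe : ¬ Commute x e := fun h => hndx ((hii x hx).mp h.symm)
  obtain ⟨φ, hφinj, h01, h12, h23⟩ :=
    Cfsg.Agent.S5344.result hT hd hx he (Ne.symm hed) hcde hndx hnxe
  have hPiσ : ∀ σ : Equiv.Perm (Fin 4),
      PiProp D (φ (σ * Equiv.swap 0 1 * σ⁻¹)) (φ (σ * Equiv.swap 2 3 * σ⁻¹)) := by
    intro σ
    have h1 := piProp_conj hconj (φ σ) d e hP
    simp only [map_mul, map_inv, h01, h23]
    exact h1
  have hrange : ∀ y ∈ D, y ∈ φ.range := by
    intro y hy
    by_contra hnr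
    have hne : ∀ σ : Equiv.Perm (Fin 4), y ≠ φ σ := fun σ h => hnr ⟨σ, h.symm⟩
    have p1 := hPiσ 1 y hy (hne _) (hne _)
    have p2 := hPiσ (Equiv.swap 1 2) y hy (hne _) (hne _)
    have p3 := hPiσ (Equiv.swap 1 3) y hy (hne _) (hne _)
    obtain ⟨f1, f2, f3⟩ := perm_facts
    rw [← map_mul, f1] at p1
    rw [← map_mul, f2] at p2
    rw [← map_mul, f3] at p3
    have heq := hB y hy _ (hconj _ _ hy) _ (hconj _ _ hy) p1.1 p1.2 p2.1 p2.2
    apply p3.2
    rw [map_mul, map_inv]
    calc (φ (Equiv.swap 0 2 * Equiv.swap 1 3))⁻¹ * φ (Equiv.swap 0 1 * Equiv.swap 2 3) * y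
          * ((φ (Equiv.swap 0 2 * Equiv.swap 1 3))⁻¹ * φ (Equiv.swap 0 1 * Equiv.swap 2 3))⁻¹
        = (φ (Equiv.swap 0 2 * Equiv.swap 1 3))⁻¹ * (φ (Equiv.swap 0 1 * Equiv.swap 2 3) * y
          * (φ (Equiv.swap 0 1 * Equiv.swap 2 3))⁻¹) * φ (Equiv.swap 0 2 * Equiv.swap 1 3) := by
          group
      _ = (φ (Equiv.swap 0 2 * Equiv.swap 1 3))⁻¹ * (φ (Equiv.swap 0 2 * Equiv.swap 1 3) * y
          * (φ (Equiv.swap 0 2 * Equiv.swap 1 3))⁻¹) * φ (Equiv.swap 0 2 * Equiv.swap 1 3) := by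
          rw [heq]
      _ = y := by group
  have hsurj : Function.Surjective φ := by
    have h1 : φ.range = ⊤ := by
      rw [eq_top_iff, ← hgen, Subgroup.closure_le]
      exact hrange
    exact MonoidHom.range_eq_top.mp h1
  exact ⟨(MulEquiv.ofBijective φ ⟨hφinj, hsurj⟩).symm⟩

end Cfsg.Agent.S5355
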