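import Cfsg.Statements.S5357
import Cfsg.Agent.Lib.helper91.Reflections

set_option autoImplicit false
open scoped MatrixGroups
open Cfsg

namespace Cfsg.Agent.S5357

open Cfsg.Agent.Lib.helper91 Cfsg.Agent.Lib.helper17 Matrix

/-- In a nondegenerate quadratic space over `ZMod 3`, a family of `k ≤ n - 2` pairwise orthogonal
nonsingular vectors has an orthogonal vector of any prescribed nonzero norm. -/
theorem exists_norm {n : ℕ} (Q : QuadraticForm (ZMod 3) (Fin n → ZMod 3))
    (hQ : (QuadraticMap.polarBilin Q).Nondegenerate) {k : ℕ} (u : Fin k → (Fin n → ZMod 3))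
    (hk : k + 2 ≤ n) (hu : ∀ i, Q (u i) ≠ 0)
    (horth : ∀ i j, i ≠ j → QuadraticMap.polar ⇑Q (u i) (u j) = 0) (t : ZMod 3) (ht : t ≠ 0) :
    ∃ z, Q z = t ∧ ∀ i, QuadraticMap.polar ⇑Q (u i) z = 0 := by
  have h2 : (2 : ZMod 3) ≠ 0 := by decide
  obtain ⟨z1, hz1, hz1o⟩ := exists_nonsing_orthogonal h2 Q hQ u (by omega) hu horth
  obtain ⟨z2, hz2, hz2o⟩ := exists_nonsing_orthogonal h2 Q hQ
    (Fin.cons z1 u : Fin (k + 1) → (Fin n → ZMod 3)) (by omega)
    (by
      intro i
      cases i using Fin.cases with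
      | zero => simpa using hz1
      | succ i => simpa using hu i)
    (by
      intro i j hij
      cases i using Fin.cases with
      | zero =>
        cases j using Fin.cases with
        | zero => exact absurd rfl hij
        | succ j =>
          simp only [Fin.cons_zero, Fin.cons_succ]
          rw [QuadraticMap.polar_comm]
          exact hz1o j
      | succ i =>
        cases j using Fin.cases with
        | zero =>
          simp only [Fin.cons_zero, Fin.cons_succ]
          exact hz1o i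
        | succ j =>
          simp only [Fin.cons_succ]
          exact horth i j (fun h => hij (by rw [h])))
  have hz2o' : ∀ i, QuadraticMap.polar ⇑Q (u i) z2 = 0 := fun i => by simpa using hz2o i.succ
  have hz12 : QuadraticMap.polar ⇑Q z1 z2 = 0 := by simpa using hz2o 0
  have key : ∀ a b t : ZMod 3, t ≠ 0 → a ≠ 0 → b ≠ 0 → a = t ∨ b = t ∨ a + b = t := by decide
  rcases key (Q z1) (Q z2) t ht hz1 hz2 with h | h | h
  · exact ⟨z1, h, hz1o⟩
  · exact ⟨z2, h, hz2o'⟩
  · refine ⟨z1 + z2, ?_, ?_⟩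
    · rw [QuadraticMap.map_add (⇑Q) z1 z2, hz12, add_zero]
      exact h
    · intro i
      rw [QuadraticMap.polar_add_right, hz1o i, hz2o' i, add_zero]


/-- Let Q be a non-degenerate quadratic form on the n-dimensional coordinate space over the field with three elements, n ≥ 5, and c a non-zero scalar. In the subgroup of the isometry group of Q generated by the reflections in vectors v with Q(v) = c, these reflections form a single conjugacy class of 3-transpositions generating that subgroup. -/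
theorem result (n : ℕ) (hn : 5 ≤ n) (Q : QuadraticForm (ZMod 3) (Fin n → ZMod 3)) (hQ : (QuadraticMap.polarBilin Q).Nondegenerate) (c : ZMod 3) (hc : c ≠ 0) : Cfsg.IsThreeTranspositionClass {g : ↥(Cfsg.reflectionSubgroup (⇑Q) c) | (g : ↥(Cfsg.isometryGroup (ZMod 3) (⇑Q))) ∈ Cfsg.reflectionsOfNorm (⇑Q) c} := by
  have h2 : (2 : ZMod 3) ≠ 0 := by decide
  have h2c : ∀ t : ZMod 3, t ≠ 0 → 2 • t ≠ 0 := by decide
  let φ : ↥(Cfsg.reflectionSubgroup (⇑Q) c) →* Matrix (Fin n) (Fin n) (ZMod 3) :=
    (Units.coeHom _).comp ((Cfsg.isometryGroup (ZMod 3) (⇑Q)).subtype.comp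
      (Cfsg.reflectionSubgroup (⇑Q) c).subtype)
  have hφ : Function.Injective φ := by
    intro a b hab
    exact Subtype.ext (Subtype.ext (Units.ext hab))
  have hφval : ∀ g : ↥(Cfsg.reflectionSubgroup (⇑Q) c),
      φ g = ((g.1 : GL (Fin n) (ZMod 3)) : Matrix (Fin n) (Fin n) (ZMod 3)) := fun g => rfl
  have hφiso : ∀ g, ∀ x, Q (φ g *ᵥ x) = Q x := by
    intro g x
    rw [hφval]
    exact (mem_isometryGroup_iff _ _).mp g.1.2 x
  obtain ⟨D, hD⟩ : ∃ D : Set ↥(Cfsg.reflectionSubgroup (⇑Q) c), D = {g : ↥(Cfsg.reflectionSubgroup (⇑Q) c) |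
    (g : ↥(Cfsg.isometryGroup (ZMod 3) (⇑Q))) ∈ Cfsg.reflectionsOfNorm (⇑Q) c} := ⟨_, rfl⟩
  rw [← hD]
  have hDmem : ∀ g, g ∈ D ↔ ∃ v, Q v = c ∧ φ g = reflectionMatrix ⇑Q v := by
    intro g
    rw [hD]
    exact Iff.rfl
  have hmk : ∀ v, Q v = c → ∃ g ∈ D, φ g = reflectionMatrix ⇑Q v := by
    intro v hv
    have hv0 : Q v ≠ 0 := by rw [hv]; exact hc
    have hmem : reflectionIsom Q v hv0 ∈ Cfsg.reflectionsOfNorm (⇑Q) c := ⟨v, hv, rfl⟩
    exact ⟨⟨reflectionIsom Q v hv0, Subgroup.subset_closure hmem⟩, (hDmem _).mpr ⟨v, hv, rfl⟩, rfl⟩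
  have hord : ∀ d ∈ D, orderOf d = 2 := by
    intro d hd
    obtain ⟨v, hv, hdv⟩ := (hDmem d).mp hd
    exact orderOf_eq_two_of_refl φ hφ Q v (by rw [hv]; exact hc) h2 d hdv
  have hsq : ∀ d ∈ D, d * d = 1 := by
    intro d hd
    have := hord d hd
    rw [← pow_two, ← this]
    exact pow_orderOf_eq_one d
  have hcomm : ∀ d e u v, φ d = reflectionMatrix ⇑Q u → φ e = reflectionMatrix ⇑Q v → Q u = c →
      Q v = c → QuadraticMap.polar ⇑Q u v = 0 → d * e = e * d := by
    intro d e u v hdu hev hu hv hb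
    have hu0 : Q u ≠ 0 := by rw [hu]; exact hc
    apply hφ
    rw [map_mul, map_mul, hdu, hev]
    exact refl_comm Q u v hu0 hb
  have hbraid : ∀ d e u v, φ d = reflectionMatrix ⇑Q u → φ e = reflectionMatrix ⇑Q v → Q u = c →
      Q v = c → QuadraticMap.polar ⇑Q u v ≠ 0 → d * e * d = e * d * e := by
    intro d e u v hdu hev hu hv hb
    have hu0 : Q u ≠ 0 := by rw [hu]; exact hc
    have hv0 : Q v ≠ 0 := by rw [hv]; exact hc
    apply hφ
    rw [map_mul, map_mul, map_mul, map_mul, hdu, hev, refl_mul_refl_mul_refl Q u v hu0,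
      refl_mul_refl_mul_refl Q v u hv0, reflectionMatrix_mulVec, reflectionMatrix_mulVec,
      QuadraticMap.polar_comm (⇑Q) v u, hu, hv]
    set ε := c⁻¹ * QuadraticMap.polar ⇑Q u v with hε
    have hε0 : ε ≠ 0 := mul_ne_zero (inv_ne_zero hc) hb
    have hε1 : ε * ε = 1 := by
      have : ∀ x : ZMod 3, x ≠ 0 → x * x = 1 := by decide
      exact this ε hε0
    have hkey : u + (-ε) • v = (-ε) • (v + (-ε) • u) := by
      rw [smul_add, smul_smul, neg_mul_neg, hε1, one_smul, add_comm]
    rw [hkey, refl_smul Q _ (-ε) (neg_ne_zero.mpr hε0)]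
  have hconj1 : ∀ d ∈ D, ∀ e ∈ D, d * e * d = e * d * e → IsConj d e := by
    intro d hd e he h
    rw [isConj_iff]
    refine ⟨d * e, ?_⟩
    rw [_root_.mul_inv_rev, ← mul_assoc, h]
    group
  refine ⟨⟨hord, ?_⟩, ?_, ?_⟩
  · intro d hd e he
    obtain ⟨u, hu, hdu⟩ := (hDmem d).mp hd
    obtain ⟨v, hv, hev⟩ := (hDmem e).mp he
    by_cases hb : QuadraticMap.polar ⇑Q u v = 0
    · left
      have h := hcomm d e u v hdu hev hu hv hb
      rw [pow_two]
      calc d * e * (d * e) = d * (e * d) * e := by group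
        _ = d * (d * e) * e := by rw [h]
        _ = (d * d) * (e * e) := by group
        _ = 1 := by rw [hsq d hd, hsq e he, one_mul]
    · right
      have h := hbraid d e u v hdu hev hu hv hb
      calc (d * e) ^ 3 = (d * e * d) * (e * d * e) := by
            simp only [pow_succ, pow_zero, one_mul, mul_assoc]
        _ = (e * d * e) * (e * d * e) := by rw [h]
        _ = e * (d * ((e * e) * (d * e))) := by simp only [mul_assoc]
        _ = 1 := by rw [hsq e he, one_mul, ← mul_assoc d d e, hsq d hd, one_mul, hsq e he]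
  · obtain ⟨v0, hv0, -⟩ := exists_norm Q hQ (k := 0) (fun i => i.elim0) (by omega)
      (fun i => i.elim0) (fun i => i.elim0) c hc
    obtain ⟨d0, hd0, hd0v⟩ := hmk v0 hv0
    refine ⟨d0, hd0, ?_⟩
    ext e
    show e ∈ D ↔ IsConj d0 e
    constructor
    · intro he
      obtain ⟨v, hv, hev⟩ := (hDmem e).mp he
      by_cases hb : QuadraticMap.polar ⇑Q v0 v = 0
      · obtain ⟨z, hz, hzo⟩ := exists_norm Q hQ (k := 2) ![v0, v] (by omega)
          (by intro i; fin_cases i <;> simp [hv0, hv, hc])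
          (by
            intro i j hij
            fin_cases i <;> fin_cases j
            · exact absurd rfl hij
            · simpa using hb
            · simpa [QuadraticMap.polar_comm] using hb
            · exact absurd rfl hij)
          (-c) (neg_ne_zero.mpr hc)
        have hz0 : QuadraticMap.polar ⇑Q v0 z = 0 := by simpa using hzo 0
        have hz1 : QuadraticMap.polar ⇑Q v z = 0 := by simpa using hzo 1
        have hQw : Q (v0 + v + z) = c := by
          rw [QuadraticMap.map_add (⇑Q) (v0 + v) z, QuadraticMap.map_add (⇑Q) v0 v, hv0, hv, hz, hb,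
            QuadraticMap.polar_add_left, hz0, hz1]
          ring
        obtain ⟨f, hf, hfw⟩ := hmk _ hQw
        have hb1 : QuadraticMap.polar ⇑Q v0 (v0 + v + z) ≠ 0 := by
          rw [QuadraticMap.polar_add_right, QuadraticMap.polar_add_right, hb, hz0,
            QuadraticMap.polar_self, hv0, add_zero, add_zero]
          exact h2c c hc
        have hb2 : QuadraticMap.polar ⇑Q (v0 + v + z) v ≠ 0 := by
          rw [QuadraticMap.polar_add_left, QuadraticMap.polar_add_left, hb,
            QuadraticMap.polar_comm (⇑Q) z v, hz1, QuadraticMap.polar_self, hv, add_zero, zero_add]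
          exact h2c c hc
        exact (hconj1 d0 hd0 f hf (hbraid d0 f _ _ hd0v hfw hv0 hQw hb1)).trans
          (hconj1 f hf e he (hbraid f e _ _ hfw hev hQw hv hb2))
      · exact hconj1 d0 hd0 e he (hbraid d0 e v0 v hd0v hev hv0 hv hb)
    · intro h
      obtain ⟨g, rfl⟩ := isConj_iff.mp h
      rw [hDmem]
      refine ⟨φ g *ᵥ v0, ?_, ?_⟩
      · rw [hφiso, hv0]
      · rw [map_mul, map_mul, hd0v, refl_conj Q (φ g) (hφiso g) v0, mul_assoc, ← map_mul,
          mul_inv_cancel, map_one, mul_one]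
  · rw [hD]
    exact Subgroup.closure_closure_coe_preimage

end Cfsg.Agent.S5357
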