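import Cfsg.Statements.S5358
-- import your own Cfsg.Agent.* helpers here

set_option autoImplicit false
open scoped MatrixGroups
open Cfsg

namespace Cfsg.Agent.S5358

/-- Let Q be a non-degenerate quadratic form on the n-dimensional coordinate space over the field with three elements and u, v vectors of the same non-zero norm Q(u) = Q(v) spanning different lines (v ≠ u and v ≠ −u). Then the reflection matrices of u and v commute if and only if u and v are orthogonal for the polar form of Q. -/
theorem result (n : ℕ) (Q : QuadraticForm (ZMod 3) (Fin n → ZMod 3)) (hQ : (QuadraticMap.polarBilin Q).Nondegenerate) (u v : Fin n → ZMod 3) (hu : Q u ≠ 0) (huv : Q u = Q v) (h1 : v ≠ u) (h2 : v ≠ -u) : Commute (Cfsg.reflectionMatrix (⇑Q) u) (Cfsg.reflectionMatrix (⇑Q) v) ↔ QuadraticMap.polar (⇑Q) u v = 0 := by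
  have hdot : ∀ w x : Fin n → ZMod 3,
      Cfsg.polarVec (⇑Q) w ⬝ᵥ x = QuadraticMap.polar (⇑Q) w x := by
    intro w x
    have hx : x = ∑ j, x j • (Pi.single j (1 : ZMod 3) : Fin n → ZMod 3) := by
      conv_lhs => rw [pi_eq_sum_univ' x]
    have h3 : QuadraticMap.polar (⇑Q) w (∑ j, x j • (Pi.single j (1 : ZMod 3) : Fin n → ZMod 3))
        = ∑ j, x j • QuadraticMap.polar (⇑Q) w (Pi.single j 1) := by
      rw [← QuadraticMap.polarBilin_apply_apply, map_sum]
      refine Finset.sum_congr rfl (fun j _ => ?_)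
      rw [map_smul, QuadraticMap.polarBilin_apply_apply]
    conv_rhs => rw [hx]
    rw [h3]
    simp [dotProduct, Cfsg.polarVec, mul_comm]
  have hcomm1 : ∀ X Y : Matrix (Fin n) (Fin n) (ZMod 3), Commute (1 - X) (1 - Y) ↔ Commute X Y := by
    intro X Y
    have key : ∀ X Y : Matrix (Fin n) (Fin n) (ZMod 3), Commute X Y → Commute (1 - X) (1 - Y) :=
      fun X Y h => Commute.sub_left (Commute.one_left _) (Commute.sub_right (Commute.one_right X) h)
    constructor
    · intro h
      have := key _ _ h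
      rwa [sub_sub_cancel, sub_sub_cancel] at this
    · exact key X Y
  set a := (Q u)⁻¹ with ha
  have ha0 : a ≠ 0 := inv_ne_zero hu
  set β := QuadraticMap.polar (⇑Q) u v with hβ
  set A := Matrix.vecMulVec u (Cfsg.polarVec (⇑Q) u) with hA
  set B := Matrix.vecMulVec v (Cfsg.polarVec (⇑Q) v) with hB
  have hRu : Cfsg.reflectionMatrix (⇑Q) u = 1 - a • A := rfl
  have hRv : Cfsg.reflectionMatrix (⇑Q) v = 1 - a • B := by
    unfold Cfsg.reflectionMatrix; rw [← huv]
  have hAB : A * B = β • Matrix.vecMulVec u (Cfsg.polarVec (⇑Q) v) := by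
    rw [hA, hB, Matrix.vecMulVec_mul_vecMulVec, hdot, Matrix.vecMulVec_smul]
  have hBA : B * A = β • Matrix.vecMulVec v (Cfsg.polarVec (⇑Q) u) := by
    rw [hA, hB, Matrix.vecMulVec_mul_vecMulVec, hdot, QuadraticMap.polar_comm,
      Matrix.vecMulVec_smul]
  have hcomm2 : Commute (a • A) (a • B) ↔ Commute A B := by
    constructor
    · intro h
      have := (h.smul_left a⁻¹).smul_right a⁻¹
      rwa [inv_smul_smul₀ ha0, inv_smul_smul₀ ha0] at this
    · intro h
      exact (h.smul_left a).smul_right a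
  rw [hRu, hRv, hcomm1, hcomm2]
  constructor
  · intro h
    by_contra hβ0
    have h' : A * B = B * A := h
    rw [hAB, hBA] at h'
    have h'' := smul_right_injective _ hβ0 h'
    have h3 := congrArg (fun M => Matrix.mulVec M v) h''
    simp only [Matrix.vecMulVec_mulVec, hdot] at h3
    rw [op_smul_eq_smul, op_smul_eq_smul, QuadraticMap.polar_self] at h3
    have hv : Q v ≠ 0 := huv ▸ hu
    have h20 : (2 : ZMod 3) ≠ 0 := by decide
    have hγ : (2 • Q v : ZMod 3) ≠ 0 := by
      rw [nsmul_eq_mul]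
      exact mul_ne_zero (by exact_mod_cast h20) hv
    have hu' : u = ((2 • Q v)⁻¹ * β) • v := by
      rw [mul_smul, ← h3, inv_smul_smul₀ hγ]
    have hQ' : Q u = ((2 • Q v)⁻¹ * β) * ((2 • Q v)⁻¹ * β) * Q v := by
      conv_lhs => rw [hu']
      rw [QuadraticMap.map_smul, smul_eq_mul]
    have hl : ((2 • Q v)⁻¹ * β) * ((2 • Q v)⁻¹ * β) = 1 := by
      rw [huv] at hQ'
      have : (1 : ZMod 3) * Q v = ((2 • Q v)⁻¹ * β) * ((2 • Q v)⁻¹ * β) * Q v := by
        rw [one_mul]; exact hQ'
      exact (mul_right_cancel₀ hv this).symm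
    have hdec : ∀ l : ZMod 3, l * l = 1 → l = 1 ∨ l = -1 := by decide
    rcases hdec _ hl with h4 | h4
    · rw [h4, one_smul] at hu'
      exact h1 hu'.symm
    · rw [h4, neg_smul, one_smul] at hu'
      apply h2
      rw [hu', neg_neg]
  · intro h
    show A * B = B * A
    rw [hAB, hBA, h, zero_smul, zero_smul]

end Cfsg.Agent.S5358
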