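import Cfsg.Statements.S5359
import Cfsg.Agent.S5357
import Cfsg.Agent.Lib.helper17.CartanDieudonne
import Cfsg.Agent.Lib.helper49.Spinor

set_option autoImplicit false
open scoped MatrixGroups
open Cfsg

namespace Cfsg.Agent.S5359

open Matrix Cfsg.Agent.Lib.helper49

theorem sq_one_zmod3 : ∀ a : ZMod 3, a ≠ 0 → a * a = 1 := by decide

/-- Over `ZMod 3` in dimension at least five: given a nonsingular `u` and any `w`, there is a vector of any
prescribed nonzero norm orthogonal to both. -/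
theorem exists_orth {n : ℕ} (hn : 5 ≤ n) (Q : QuadraticForm (ZMod 3) (Fin n → ZMod 3))
    (hQ : (QuadraticMap.polarBilin Q).Nondegenerate) (u w : Fin n → ZMod 3) (hu : Q u ≠ 0)
    (t : ZMod 3) (ht : t ≠ 0) :
    ∃ y, Q y = t ∧ QuadraticMap.polar ⇑Q u y = 0 ∧ QuadraticMap.polar ⇑Q w y = 0 := by
  have h3 : (3 : ZMod 3) = 0 := by decide
  have hsq := sq_one_zmod3
  obtain ⟨p, hp⟩ : ∃ p, QuadraticMap.polar ⇑Q u w = p := ⟨_, rfl⟩
  obtain ⟨ρ, hρ⟩ : ∃ ρ, ρ = w + (Q u * p) • u := ⟨_, rfl⟩
  have huρ : QuadraticMap.polar ⇑Q u ρ = 0 := by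
    rw [hρ, QuadraticMap.polar_add_right, QuadraticMap.polar_smul_right, QuadraticMap.polar_self, hp]
    simp only [smul_eq_mul, nsmul_eq_mul, Nat.cast_ofNat]
    linear_combination (2 * p) * hsq (Q u) hu + p * h3
  have hw : w = ρ - (Q u * p) • u := eq_sub_of_add_eq hρ.symm
  have hfin : ∀ y, QuadraticMap.polar ⇑Q u y = 0 → QuadraticMap.polar ⇑Q ρ y = 0 →
      QuadraticMap.polar ⇑Q w y = 0 := by
    intro y h1 h2
    rw [hw, QuadraticMap.polar_sub_left, QuadraticMap.polar_smul_left, h1, h2]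
    simp
  by_cases hQρ : Q ρ ≠ 0
  · obtain ⟨y, hy, hyo⟩ := Cfsg.Agent.S5357.exists_norm Q hQ (k := 2) ![u, ρ] (by omega)
      (by intro i; fin_cases i <;> simp [hu, hQρ])
      (by
        intro i j hij
        fin_cases i <;> fin_cases j
        · exact absurd rfl hij
        · simpa using huρ
        · simpa [QuadraticMap.polar_comm] using huρ
        · exact absurd rfl hij) t ht
    have h0 : QuadraticMap.polar ⇑Q u y = 0 := by simpa using hyo 0
    have h1 : QuadraticMap.polar ⇑Q ρ y = 0 := by simpa using hyo 1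
    exact ⟨y, hy, h0, hfin y h0 h1⟩
  · push Not at hQρ
    by_cases hρ0 : ρ = 0
    · obtain ⟨y, hy, hyo⟩ := Cfsg.Agent.S5357.exists_norm Q hQ (k := 1) ![u] (by omega)
        (by intro i; fin_cases i; simpa using hu)
        (by intro i j hij; fin_cases i; fin_cases j; exact absurd rfl hij) t ht
      have h0 : QuadraticMap.polar ⇑Q u y = 0 := by simpa using hyo 0
      exact ⟨y, hy, h0, hfin y h0 (by rw [hρ0]; simp)⟩
    · have hex : ∃ x, QuadraticMap.polar ⇑Q ρ x ≠ 0 := by
        by_contra hcon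
        push Not at hcon
        exact hρ0 (hQ.1 ρ (fun y => by rw [QuadraticMap.polarBilin_apply_apply]; exact hcon y))
      obtain ⟨x, hx⟩ := hex
      obtain ⟨x', hx'⟩ : ∃ x', x' = x + (Q u * QuadraticMap.polar ⇑Q u x) • u := ⟨_, rfl⟩
      have hux' : QuadraticMap.polar ⇑Q u x' = 0 := by
        rw [hx', QuadraticMap.polar_add_right, QuadraticMap.polar_smul_right, QuadraticMap.polar_self]
        simp only [smul_eq_mul, nsmul_eq_mul, Nat.cast_ofNat]
        linear_combination (2 * QuadraticMap.polar ⇑Q u x) * hsq (Q u) hu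
          + QuadraticMap.polar ⇑Q u x * h3
      have hρu : QuadraticMap.polar ⇑Q ρ u = 0 := by rw [QuadraticMap.polar_comm]; exact huρ
      have hρx' : QuadraticMap.polar ⇑Q ρ x' ≠ 0 := by
        rw [hx', QuadraticMap.polar_add_right, QuadraticMap.polar_smul_right, hρu, smul_zero, add_zero]
        exact hx
      have hee : ∃ e, Q e ≠ 0 ∧ QuadraticMap.polar ⇑Q u e = 0 ∧ QuadraticMap.polar ⇑Q ρ e ≠ 0 := by
        by_cases hqx : Q x' ≠ 0
        · exact ⟨x', hqx, hux', hρx'⟩
        · push Not at hqx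
          refine ⟨x' + ρ, ?_, ?_, ?_⟩
          · rw [QuadraticMap.map_add (⇑Q) x' ρ, hqx, hQρ, zero_add, zero_add, QuadraticMap.polar_comm]
            exact hρx'
          · rw [QuadraticMap.polar_add_right, hux', huρ, add_zero]
          · rw [QuadraticMap.polar_add_right, QuadraticMap.polar_self, hQρ, smul_zero, add_zero]
            exact hρx'
      obtain ⟨e, hQe, hue, hρe⟩ := hee
      obtain ⟨s, hs⟩ : ∃ s, QuadraticMap.polar ⇑Q ρ e = s := ⟨_, rfl⟩
      rw [hs] at hρe
      obtain ⟨e', he'⟩ : ∃ e', e' = ρ + (Q e * s) • e := ⟨_, rfl⟩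
      have hee' : QuadraticMap.polar ⇑Q e e' = 0 := by
        rw [he', QuadraticMap.polar_add_right, QuadraticMap.polar_smul_right, QuadraticMap.polar_self,
          QuadraticMap.polar_comm (⇑Q) e ρ, hs]
        simp only [smul_eq_mul, nsmul_eq_mul, Nat.cast_ofNat]
        linear_combination (2 * s) * hsq (Q e) hQe + s * h3
      have hue' : QuadraticMap.polar ⇑Q u e' = 0 := by
        rw [he', QuadraticMap.polar_add_right, QuadraticMap.polar_smul_right, huρ, hue, smul_zero, add_zero]
      have hQe' : Q e' ≠ 0 := by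
        rw [he', QuadraticMap.map_add (⇑Q) ρ ((Q e * s) • e), QuadraticMap.map_smul,
          QuadraticMap.polar_smul_right, hQρ, hs]
        simp only [smul_eq_mul, zero_add]
        have key : ∀ a s : ZMod 3, a ≠ 0 → s ≠ 0 → a * s * (a * s) * a + a * s * s ≠ 0 := by decide
        exact key (Q e) s hQe hρe
      obtain ⟨y, hy, hyo⟩ := Cfsg.Agent.S5357.exists_norm Q hQ (k := 3) ![u, e, e'] (by omega)
        (by intro i; fin_cases i <;> simp [hu, hQe, hQe'])
        (by
          intro i j hij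
          fin_cases i <;> fin_cases j
          · exact absurd rfl hij
          · simpa using hue
          · simpa using hue'
          · simpa [QuadraticMap.polar_comm] using hue
          · exact absurd rfl hij
          · simpa using hee'
          · simpa [QuadraticMap.polar_comm] using hue'
          · simpa [QuadraticMap.polar_comm] using hee'
          · exact absurd rfl hij) t ht
      have h0 : QuadraticMap.polar ⇑Q u y = 0 := by simpa using hyo 0
      have h1 : QuadraticMap.polar ⇑Q e y = 0 := by simpa using hyo 1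
      have h2 : QuadraticMap.polar ⇑Q e' y = 0 := by simpa using hyo 2
      have hρy : QuadraticMap.polar ⇑Q ρ y = 0 := by
        have hρe' : ρ = e' - (Q e * s) • e := eq_sub_of_add_eq he'.symm
        rw [hρe', QuadraticMap.polar_sub_left, QuadraticMap.polar_smul_left, h1, h2]
        simp
      exact ⟨y, hy, h0, hfin y h0 hρy⟩

theorem refl_mulVec' {n : ℕ} (Q : QuadraticForm (ZMod 3) (Fin n → ZMod 3)) (v x : Fin n → ZMod 3)
    (hv : Q v ≠ 0) :
    reflectionMatrix ⇑Q v *ᵥ x = x - (Q v * QuadraticMap.polar ⇑Q v x) • v := by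
  rw [Cfsg.Agent.Lib.helper17.reflectionMatrix_mulVec]
  have hinv : (Q v)⁻¹ = Q v := (eq_inv_of_mul_eq_one_left (sq_one_zmod3 _ hv)).symm
  rw [hinv, neg_smul, sub_eq_add_neg]

theorem refl_mul_orth {n : ℕ} (Q : QuadraticForm (ZMod 3) (Fin n → ZMod 3)) (u w : Fin n → ZMod 3)
    (hu : Q u ≠ 0) (huw : Q w = Q u) (horth : QuadraticMap.polar ⇑Q u w = 0) :
    Q (u + w) = - Q u ∧ Q (u - w) = - Q u ∧
    reflectionMatrix ⇑Q u * reflectionMatrix ⇑Q w
      = reflectionMatrix ⇑Q (u + w) * reflectionMatrix ⇑Q (u - w) := by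
  have h3 : (3 : ZMod 3) = 0 := by decide
  have hsq := sq_one_zmod3
  have h1 : Q (u + w) = - Q u := by
    rw [QuadraticMap.map_add (⇑Q) u w, huw, horth]
    linear_combination (Q u) * h3
  have h2 : Q (u - w) = - Q u := by
    rw [Cfsg.Agent.Lib.helper17.quad_sub Q w u, huw, horth]
    linear_combination (Q u) * h3
  refine ⟨h1, h2, ?_⟩
  apply Cfsg.Agent.Lib.helper91.matrix_eq_of_mulVec
  intro x
  have hw : Q w ≠ 0 := by rw [huw]; exact hu
  have hp : Q (u + w) ≠ 0 := by rw [h1]; exact neg_ne_zero.mpr hu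
  have hm : Q (u - w) ≠ 0 := by rw [h2]; exact neg_ne_zero.mpr hu
  have hwu : QuadraticMap.polar ⇑Q w u = 0 := by rw [QuadraticMap.polar_comm]; exact horth
  rw [← Matrix.mulVec_mulVec, ← Matrix.mulVec_mulVec, refl_mulVec' Q w x hw, refl_mulVec' Q u _ hu,
    refl_mulVec' Q (u - w) x hm, refl_mulVec' Q (u + w) _ hp, h1, h2, huw]
  simp only [QuadraticMap.polar_sub_right, QuadraticMap.polar_smul_right, QuadraticMap.polar_add_left,
    QuadraticMap.polar_sub_left, QuadraticMap.polar_self, horth, hwu, huw]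
  ext i
  simp only [Pi.add_apply, Pi.sub_apply, Pi.smul_apply, smul_eq_mul, nsmul_eq_mul, Nat.cast_ofNat]
  linear_combination (-(Q u * QuadraticMap.polar ⇑Q u x * u i) - Q u * QuadraticMap.polar ⇑Q w x * w i) * h3

/-- Let Q be a non-degenerate quadratic form on the n-dimensional coordinate space over the field with three elements, n odd and at least 5, and c a non-zero scalar. Then the subgroup of the isometry group of Q generated by the reflections in vectors of norm c has index 2 in the isometry group. -/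
theorem result (n : ℕ) (hn : 5 ≤ n) (hodd : Odd n) (Q : QuadraticForm (ZMod 3) (Fin n → ZMod 3)) (hQ : (QuadraticMap.polarBilin Q).Nondegenerate) (c : ZMod 3) (hc : c ≠ 0) : (Cfsg.reflectionSubgroup (⇑Q) c).index = 2 := by
  classical
  have h2 : (2 : ZMod 3) ≠ 0 := by decide
  obtain ⟨R, hR⟩ : ∃ R, R = Cfsg.reflectionSubgroup (⇑Q) c := ⟨_, rfl⟩
  rw [← hR]
  have hmemR : ∀ v (hv : Q v ≠ 0), Q v = c → reflG Q v hv ∈ R := by
    intro v hv hvc
    rw [hR]
    exact Subgroup.subset_closure ⟨v, hvc, rfl⟩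
  have hgen : ∀ g ∈ Cfsg.reflectionsOfNorm (⇑Q) c, ∃ v, ∃ hv : Q v ≠ 0, Q v = c ∧ g = reflG Q v hv := by
    rintro g ⟨v, hvc, hg⟩
    have hv : Q v ≠ 0 := by rw [hvc]; exact hc
    exact ⟨v, hv, hvc, Subtype.ext (Units.ext hg)⟩
  have hmulself : ∀ v (hv : Q v ≠ 0), reflG Q v hv * reflG Q v hv = 1 := fun v hv => reflG_mul_self Q v hv
  have hA : ∀ u w (hu : Q u ≠ 0) (hw : Q w ≠ 0), Q u = -c → Q w = -c → QuadraticMap.polar ⇑Q u w = 0 →
      reflG Q u hu * reflG Q w hw ∈ R := by
    intro u w hu hw huc hwc horth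
    obtain ⟨h1, h2', hmat⟩ := refl_mul_orth Q u w hu (by rw [hwc, huc]) horth
    have hp : Q (u + w) ≠ 0 := by rw [h1]; exact neg_ne_zero.mpr hu
    have hm : Q (u - w) ≠ 0 := by rw [h2']; exact neg_ne_zero.mpr hu
    have heq : reflG Q u hu * reflG Q w hw = reflG Q (u + w) hp * reflG Q (u - w) hm := by
      apply Subtype.ext
      apply Units.ext
      exact hmat
    rw [heq]
    exact mul_mem (hmemR _ hp (by rw [h1, huc, neg_neg])) (hmemR _ hm (by rw [h2', huc, neg_neg]))
  have hC : ∀ u w (hu : Q u ≠ 0) (hw : Q w ≠ 0), Q u = -c → Q w = -c →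
      reflG Q u hu * reflG Q w hw ∈ R := by
    intro u w hu hw huc hwc
    obtain ⟨y, hy, huy, hwy⟩ := exists_orth hn Q hQ u w hu (-c) (neg_ne_zero.mpr hc)
    have hy0 : Q y ≠ 0 := by rw [hy]; exact neg_ne_zero.mpr hc
    have heq : reflG Q u hu * reflG Q w hw
        = (reflG Q u hu * reflG Q y hy0) * (reflG Q y hy0 * reflG Q w hw) := by
      rw [mul_assoc, ← mul_assoc (reflG Q y hy0), hmulself, one_mul]
    rw [heq]
    exact mul_mem (hA u y hu hy0 huc hy huy)
      (hA y w hy0 hw hy hwc (by rw [QuadraticMap.polar_comm]; exact hwy))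
  have hnorm : ∀ g : isometryGroup (ZMod 3) ⇑Q, ∀ r ∈ R, g * r * g⁻¹ ∈ R := by
    intro g r hr
    rw [hR] at hr
    induction hr using Subgroup.closure_induction with
    | mem x hx =>
      obtain ⟨v, hv, hvc, rfl⟩ := hgen x hx
      have hgv : Q ((g : GL (Fin n) (ZMod 3)).val *ᵥ v) = Q v := isometry_apply (⇑Q) g v
      rw [Cfsg.Agent.Lib.helper49.refl_conj Q g v hv (by rw [hgv]; exact hv)]
      exact hmemR _ _ (by rw [hgv]; exact hvc)
    | one => simp
    | mul x y _ _ hx hy =>
      have heq : g * (x * y) * g⁻¹ = (g * x * g⁻¹) * (g * y * g⁻¹) := by group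
      rw [heq]
      exact mul_mem hx hy
    | inv x _ hx =>
      have heq : g * x⁻¹ * g⁻¹ = (g * x * g⁻¹)⁻¹ := by group
      rw [heq]
      exact inv_mem hx
  obtain ⟨w0, hw0, -⟩ := Cfsg.Agent.S5357.exists_norm Q hQ (k := 0) (fun i => i.elim0) (by omega)
    (fun i => i.elim0) (fun i => i.elim0) (-c) (neg_ne_zero.mpr hc)
  have hw00 : Q w0 ≠ 0 := by rw [hw0]; exact neg_ne_zero.mpr hc
  obtain ⟨a, ha⟩ : ∃ a, a = reflG Q w0 hw00 := ⟨_, rfl⟩
  have haa : a * a = 1 := by rw [ha]; exact hmulself _ _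
  have hainv : a⁻¹ = a := inv_eq_of_mul_eq_one_left haa
  have hF : ∀ b : isometryGroup (ZMod 3) ⇑Q, b ∈ R ∨ b * a ∈ R := by
    intro b
    have hb : b ∈ Cfsg.Agent.Lib.helper17.reflSubgroup Q := by
      rw [Cfsg.Agent.Lib.helper17.reflSubgroup_eq_top h2 Q hQ]
      exact Subgroup.mem_top b
    unfold Cfsg.Agent.Lib.helper17.reflSubgroup at hb
    induction hb using Subgroup.closure_induction with
    | mem x hx =>
      obtain ⟨v, hv, rfl⟩ := hx
      have hxe : Cfsg.Agent.Lib.helper17.reflectionIsom Q v hv = reflG Q v hv :=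
        Subtype.ext (Units.ext rfl)
      rw [hxe]
      have key : ∀ a c : ZMod 3, a ≠ 0 → c ≠ 0 → a = c ∨ a = -c := by decide
      rcases key (Q v) c hv hc with h | h
      · exact Or.inl (hmemR v hv h)
      · right
        rw [ha]
        exact hC v w0 hv hw00 h hw0
    | one => exact Or.inl R.one_mem
    | mul x y _ _ hx hy =>
      rcases hx with hx | hx <;> rcases hy with hy | hy
      · exact Or.inl (mul_mem hx hy)
      · right
        rw [mul_assoc]
        exact mul_mem hx hy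
      · right
        have heq : x * y * a = (x * a) * (a * y * a⁻¹) := by
          rw [hainv]
          calc x * y * a = x * (a * a) * y * a := by rw [haa, mul_one]
            _ = (x * a) * (a * y * a) := by group
        rw [heq]
        exact mul_mem hx (hnorm a y hy)
      · left
        have heq : x * y = (x * a) * (a * (y * a) * a⁻¹) := by
          rw [hainv]
          calc x * y = x * (a * a) * y * (a * a) := by rw [haa, mul_one, mul_one]
            _ = (x * a) * (a * (y * a) * a) := by group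
        rw [heq]
        exact mul_mem hx (hnorm a _ hy)
    | inv x _ hx =>
      rcases hx with hx | hx
      · exact Or.inl (inv_mem hx)
      · right
        have heq : x⁻¹ * a = a * (x * a)⁻¹ * a⁻¹ := by
          rw [hainv]
          calc x⁻¹ * a = (a * a) * x⁻¹ * a := by rw [haa, one_mul]
            _ = a * (a * x⁻¹) * a := by group
            _ = a * (x * a)⁻¹ * a := by rw [_root_.mul_inv_rev, hainv]
        rw [heq]
        exact hnorm a _ (inv_mem hx)
  obtain ⟨Φ, hΦ⟩ : ∃ Φ : isometryGroup (ZMod 3) ⇑Q →* (ZMod 3)ˣ × ℤˣ,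
      Φ = (detHom (⇑Q)).prod (spinorSign (⇑Q)) := ⟨_, rfl⟩
  have hΦrefl : ∀ v (hv : Q v ≠ 0), Φ (reflG Q v hv) = (-1, spinorSign (⇑Q) (reflG Q v hv)) := by
    intro v hv
    rw [hΦ, MonoidHom.prod_apply, ← reflG'_eq Q v hv, detHom_refl Q v hv]
  have hsqfact : ∀ c : ZMod 3, c ≠ 0 → (IsSquare c ↔ ¬ IsSquare (-c)) := by decide
  obtain ⟨σ, hσ⟩ : ∃ σ : ℤˣ, σ = if IsSquare c then -1 else 1 := ⟨_, rfl⟩
  have hσc : ∀ v (hv : Q v ≠ 0), Q v = c → spinorSign (⇑Q) (reflG Q v hv) = σ := by
    intro v hv hvc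
    by_cases hsq : IsSquare c
    · rw [hσ, if_pos hsq]
      exact (spinorSign_refl h2 Q v hv).1 (by rw [hvc]; exact hsq)
    · rw [hσ, if_neg hsq]
      exact (spinorSign_refl h2 Q v hv).2 (by rw [hvc]; exact hsq)
  have hσa : spinorSign (⇑Q) a = -σ := by
    rw [ha]
    by_cases hsq : IsSquare c
    · rw [hσ, if_pos hsq, neg_neg]
      exact (spinorSign_refl h2 Q w0 hw00).2 (by rw [hw0]; exact (hsqfact c hc).mp hsq)
    · rw [hσ, if_neg hsq]
      exact (spinorSign_refl h2 Q w0 hw00).1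
        (by rw [hw0]; by_contra h; exact hsq ((hsqfact c hc).mpr h))
  have hσσ : σ * σ = 1 := Int.units_mul_self σ
  obtain ⟨τ, hτ⟩ : ∃ τ : (ZMod 3)ˣ × ℤˣ, τ = (-1, σ) := ⟨_, rfl⟩
  have hττ : τ * τ = 1 := by
    rw [hτ, Prod.mk_mul_mk, hσσ, neg_mul_neg, one_mul]
    rfl
  have hτinv : τ⁻¹ = τ := inv_eq_of_mul_eq_one_left hττ
  have hRΦ : ∀ g ∈ R, Φ g = 1 ∨ Φ g = τ := by
    intro g hg
    rw [hR] at hg
    induction hg using Subgroup.closure_induction with
    | mem x hx =>
      obtain ⟨v, hv, hvc, rfl⟩ := hgen x hx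
      right
      rw [hΦrefl, hσc v hv hvc, hτ]
    | one => exact Or.inl (map_one Φ)
    | mul x y _ _ hx hy =>
      rw [map_mul]
      rcases hx with hx | hx <;> rcases hy with hy | hy <;> rw [hx, hy]
      · exact Or.inl (one_mul 1)
      · exact Or.inr (one_mul τ)
      · exact Or.inr (mul_one τ)
      · exact Or.inl hττ
    | inv x _ hx =>
      rw [map_inv]
      rcases hx with hx | hx <;> rw [hx]
      · exact Or.inl inv_one
      · exact Or.inr hτinv
  have haR : a ∉ R := by
    intro h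
    have hΦa : Φ a = (-1, -σ) := by rw [ha, hΦrefl, ← ha, hσa]
    rcases hRΦ a h with h1 | h1
    · rw [hΦa] at h1
      have h1' : (-1 : (ZMod 3)ˣ) = 1 := congrArg Prod.fst h1
      exact absurd h1' (by decide)
    · rw [hΦa, hτ] at h1
      have h1' : -σ = σ := congrArg Prod.snd h1
      rcases Int.units_eq_one_or σ with hs | hs
      · rw [hs] at h1'
        exact absurd h1' (by decide)
      · rw [hs] at h1'
        exact absurd h1' (by decide)
  rw [Subgroup.index_eq_two_iff]
  refine ⟨a, fun b => ?_⟩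
  rcases hF b with hb | hb
  · refine Or.inr ⟨hb, fun hba => haR ?_⟩
    have heq : a = b⁻¹ * (b * a) := by group
    rw [heq]
    exact mul_mem (inv_mem hb) hba
  · refine Or.inl ⟨hb, fun hb' => haR ?_⟩
    have heq : a = b⁻¹ * (b * a) := by group
    rw [heq]
    exact mul_mem (inv_mem hb') hb

end Cfsg.Agent.S5359
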