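import Cfsg.Statements.S5360
import Cfsg.Agent.S5359
import Cfsg.Agent.S5358
import Cfsg.Agent.S5349
import Cfsg.Agent.S5350
import Cfsg.Agent.Lib.helper91.TTSimple

set_option autoImplicit false
open scoped MatrixGroups
open Cfsg

namespace Cfsg.Agent.S5360

open Cfsg.Agent.Lib.helper91 Cfsg.Agent.Lib.helper17 Matrix

theorem sq_one' : ∀ a : ZMod 3, a ≠ 0 → a * a = 1 := by decide

/-- A nonzero singular vector orthogonal to two orthogonal nonsingular vectors. -/
theorem exists_sing {n : ℕ} (hn : 5 ≤ n) (Q : QuadraticForm (ZMod 3) (Fin n → ZMod 3))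
    (hQ : (QuadraticMap.polarBilin Q).Nondegenerate) (u v : Fin n → ZMod 3) (hu : Q u ≠ 0)
    (hv : Q v ≠ 0) (huv : QuadraticMap.polar ⇑Q u v = 0) :
    ∃ t, t ≠ 0 ∧ Q t = 0 ∧ QuadraticMap.polar ⇑Q u t = 0 ∧ QuadraticMap.polar ⇑Q v t = 0 := by
  obtain ⟨p, hp, hpo⟩ := Cfsg.Agent.S5357.exists_norm Q hQ (k := 2) ![u, v] (by omega)
    (by intro i; fin_cases i <;> simp [hu, hv])
    (by
      intro i j hij
      fin_cases i <;> fin_cases j
      · exact absurd rfl hij
      · simpa using huv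
      · simpa [QuadraticMap.polar_comm] using huv
      · exact absurd rfl hij) 1 (by decide)
  have hup : QuadraticMap.polar ⇑Q u p = 0 := by simpa using hpo 0
  have hvp : QuadraticMap.polar ⇑Q v p = 0 := by simpa using hpo 1
  have hp0 : Q p ≠ 0 := by rw [hp]; decide
  obtain ⟨q, hq, hqo⟩ := Cfsg.Agent.S5357.exists_norm Q hQ (k := 3) ![u, v, p] (by omega)
    (by intro i; fin_cases i <;> simp [hu, hv, hp0])
    (by
      intro i j hij
      fin_cases i <;> fin_cases j
      · exact absurd rfl hij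
      · simpa using huv
      · simpa using hup
      · simpa [QuadraticMap.polar_comm] using huv
      · exact absurd rfl hij
      · simpa using hvp
      · simpa [QuadraticMap.polar_comm] using hup
      · simpa [QuadraticMap.polar_comm] using hvp
      · exact absurd rfl hij) 2 (by decide)
  have huq : QuadraticMap.polar ⇑Q u q = 0 := by simpa using hqo 0
  have hvq : QuadraticMap.polar ⇑Q v q = 0 := by simpa using hqo 1
  have hpq : QuadraticMap.polar ⇑Q p q = 0 := by simpa using hqo 2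
  refine ⟨p + q, ?_, ?_, ?_, ?_⟩
  · intro h
    have hq' : q = -p := by
      rw [eq_neg_iff_add_eq_zero, add_comm]
      exact h
    rw [hq', QuadraticMap.map_neg, hp] at hq
    exact absurd hq (by decide)
  · rw [QuadraticMap.map_add (⇑Q) p q, hp, hq, hpq]
    decide
  · rw [QuadraticMap.polar_add_right, hup, huq, add_zero]
  · rw [QuadraticMap.polar_add_right, hvp, hvq, add_zero]

/-- For orthogonal `u`, `v` of norm `c` there is `w` of norm `c` orthogonal to `u`, not orthogonal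
to `v`, and different from `±v`. -/
theorem exists_vec_two {n : ℕ} (hn : 5 ≤ n) (Q : QuadraticForm (ZMod 3) (Fin n → ZMod 3))
    (hQ : (QuadraticMap.polarBilin Q).Nondegenerate) (c : ZMod 3) (hc : c ≠ 0)
    (u v : Fin n → ZMod 3) (hu : Q u = c) (hv : Q v = c)
    (huv : QuadraticMap.polar ⇑Q u v = 0) :
    ∃ w, Q w = c ∧ QuadraticMap.polar ⇑Q u w = 0 ∧ QuadraticMap.polar ⇑Q v w ≠ 0 ∧ w ≠ v ∧
      w ≠ -v := by
  have h2c : ∀ t : ZMod 3, t ≠ 0 → 2 • t ≠ 0 := by decide
  have hkey : ∀ t : ZMod 3, t ≠ 0 → (2 • t : ZMod 3) ≠ -(2 • t : ZMod 3) := by decide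
  obtain ⟨t, ht0, hQt, hut, hvt⟩ := exists_sing hn Q hQ u v (by rw [hu]; exact hc)
    (by rw [hv]; exact hc) huv
  have hvw : QuadraticMap.polar ⇑Q v (v + t) = 2 • c := by
    rw [QuadraticMap.polar_add_right, hvt, add_zero, QuadraticMap.polar_self, hv]
  refine ⟨v + t, ?_, ?_, ?_, ?_, ?_⟩
  · rw [QuadraticMap.map_add (⇑Q) v t, hv, hQt, hvt, add_zero, add_zero]
  · rw [QuadraticMap.polar_add_right, huv, hut, add_zero]
  · rw [hvw]
    exact h2c c hc
  · intro h
    apply ht0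
    have : v + t = v + 0 := by rw [add_zero]; exact h
    exact add_left_cancel this
  · intro h
    rw [h, QuadraticMap.polar_neg_right, QuadraticMap.polar_self, hv] at hvw
    exact hkey c hc hvw.symm

/-- For non-orthogonal `u`, `v` of norm `c` with different reflections there is `w` of norm `c`
orthogonal to `u` and not orthogonal to `v`. -/
theorem exists_vec_three {n : ℕ} (Q : QuadraticForm (ZMod 3) (Fin n → ZMod 3))
    (hQ : (QuadraticMap.polarBilin Q).Nondegenerate) (c : ZMod 3) (hc : c ≠ 0)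
    (u v : Fin n → ZMod 3) (hu : Q u = c) (hv : Q v = c)
    (huv : QuadraticMap.polar ⇑Q u v ≠ 0)
    (hrefl : reflectionMatrix ⇑Q v ≠ reflectionMatrix ⇑Q u) :
    ∃ w, Q w = c ∧ QuadraticMap.polar ⇑Q u w = 0 ∧ QuadraticMap.polar ⇑Q v w ≠ 0 := by
  have h3 : (3 : ZMod 3) = 0 := by decide
  have hcc : c * c = 1 := sq_one' c hc
  obtain ⟨p, hp⟩ : ∃ p, p = QuadraticMap.polar ⇑Q u v := ⟨_, rfl⟩
  rw [← hp] at huv
  have hpp : p * p = 1 := sq_one' p huv
  obtain ⟨v', hv'⟩ : ∃ v', v' = v + (c * p) • u := ⟨_, rfl⟩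
  have huv' : QuadraticMap.polar ⇑Q u v' = 0 := by
    rw [hv', QuadraticMap.polar_add_right, QuadraticMap.polar_smul_right, QuadraticMap.polar_self,
      hu, ← hp]
    simp only [smul_eq_mul, nsmul_eq_mul, Nat.cast_ofNat]
    linear_combination (2 * p) * hcc + p * h3
  have hv'u : QuadraticMap.polar ⇑Q v' u = 0 := by
    rw [QuadraticMap.polar_comm]
    exact huv'
  have hQv' : Q v' = 0 := by
    rw [hv', QuadraticMap.map_add (⇑Q) v ((c * p) • u), QuadraticMap.map_smul,
      QuadraticMap.polar_smul_right, QuadraticMap.polar_comm (⇑Q) v u, ← hp, hu, hv]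
    simp only [smul_eq_mul]
    linear_combination (c * p * p) * hcc + (2 * c) * hpp + c * h3
  have hv'0 : v' ≠ 0 := by
    intro h0
    apply hrefl
    have hv2 : v = (-(c * p)) • u := by
      rw [hv'] at h0
      rw [neg_smul]
      exact eq_neg_of_add_eq_zero_left h0
    rw [hv2]
    exact refl_smul Q u _ (neg_ne_zero.mpr (mul_ne_zero hc huv))
  have hv'v' : QuadraticMap.polar ⇑Q v' v' = 0 := by
    rw [QuadraticMap.polar_self, hQv']
    simp
  obtain ⟨z₀, hz₀⟩ : ∃ z₀, QuadraticMap.polar ⇑Q v' z₀ ≠ 0 := by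
    by_contra hcon
    push Not at hcon
    exact hv'0 (hQ.1 v' (fun y => by
      rw [QuadraticMap.polarBilin_apply_apply]
      exact hcon y))
  obtain ⟨z, hz⟩ : ∃ z, z = z₀ + (c * QuadraticMap.polar ⇑Q u z₀) • u := ⟨_, rfl⟩
  have huz : QuadraticMap.polar ⇑Q u z = 0 := by
    rw [hz, QuadraticMap.polar_add_right, QuadraticMap.polar_smul_right, QuadraticMap.polar_self,
      hu]
    simp only [smul_eq_mul, nsmul_eq_mul, Nat.cast_ofNat]
    linear_combination (2 * QuadraticMap.polar ⇑Q u z₀) * hcc + QuadraticMap.polar ⇑Q u z₀ * h3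
  have hv'z : QuadraticMap.polar ⇑Q v' z = QuadraticMap.polar ⇑Q v' z₀ := by
    rw [hz, QuadraticMap.polar_add_right, QuadraticMap.polar_smul_right, hv'u]
    simp
  obtain ⟨s, hs⟩ : ∃ s, s = QuadraticMap.polar ⇑Q v' z := ⟨_, rfl⟩
  have hs0 : s ≠ 0 := by
    rw [hs, hv'z]
    exact hz₀
  have hss : s * s = 1 := sq_one' s hs0
  refine ⟨z + ((c - Q z) * s) • v', ?_, ?_, ?_⟩
  · rw [QuadraticMap.map_add (⇑Q) z (((c - Q z) * s) • v'), QuadraticMap.map_smul, hQv',
      QuadraticMap.polar_smul_right, QuadraticMap.polar_comm (⇑Q) z v', ← hs]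
    simp only [smul_eq_mul]
    linear_combination (c - Q z) * hss
  · rw [QuadraticMap.polar_add_right, QuadraticMap.polar_smul_right, huz, huv']
    simp
  · have hvv' : v = v' - (c * p) • u := by
      rw [hv']
      simp
    have h1 : QuadraticMap.polar ⇑Q v (z + ((c - Q z) * s) • v') = s := by
      rw [hvv', QuadraticMap.polar_sub_left, QuadraticMap.polar_smul_left,
        QuadraticMap.polar_add_right, QuadraticMap.polar_add_right,
        QuadraticMap.polar_smul_right, QuadraticMap.polar_smul_right, hv'v', huz, huv', ← hs]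
      simp
    rw [h1]
    exact hs0


/-- Let Q be a non-degenerate quadratic form on the n-dimensional coordinate space over the field with three elements, n ≥ 5, c a non-zero scalar, and R the subgroup of the isometry group generated by the reflections of norm c. Then the commutator subgroup of R is quasisimple of index at most 2, the generalized Fitting subgroup of R is the product of the centre and the commutator subgroup, and R acts primitively by conjugation on its reflections of norm c. -/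
theorem result (n : ℕ) (hn : 5 ≤ n) (Q : QuadraticForm (ZMod 3) (Fin n → ZMod 3)) (hQ : (QuadraticMap.polarBilin Q).Nondegenerate) (c : ZMod 3) (hc : c ≠ 0) : Cfsg.IsQuasisimple (commutator ↥(Cfsg.reflectionSubgroup (⇑Q) c)) ∧ (commutator ↥(Cfsg.reflectionSubgroup (⇑Q) c)).index ≤ 2 ∧ Cfsg.generalizedFittingSubgroup ↥(Cfsg.reflectionSubgroup (⇑Q) c) = Subgroup.center ↥(Cfsg.reflectionSubgroup (⇑Q) c) ⊔ commutator ↥(Cfsg.reflectionSubgroup (⇑Q) c) ∧ Cfsg.IsPrimitiveUnderConj {g : ↥(Cfsg.reflectionSubgroup (⇑Q) c) | (g : ↥(Cfsg.isometryGroup (ZMod 3) (⇑Q))) ∈ Cfsg.reflectionsOfNorm (⇑Q) c} := by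
  classical
  have h2c : ∀ t : ZMod 3, t ≠ 0 → 2 • t ≠ 0 := by decide
  have hD := Cfsg.Agent.S5357.result n hn Q hQ c hc
  let φ : ↥(Cfsg.reflectionSubgroup (⇑Q) c) →* Matrix (Fin n) (Fin n) (ZMod 3) :=
    (Units.coeHom _).comp ((Cfsg.isometryGroup (ZMod 3) (⇑Q)).subtype.comp
      (Cfsg.reflectionSubgroup (⇑Q) c).subtype)
  have hφ : Function.Injective φ := by
    intro a b hab
    exact Subtype.ext (Subtype.ext (Units.ext hab))
  obtain ⟨D, hDdef⟩ : ∃ D : Set ↥(Cfsg.reflectionSubgroup (⇑Q) c),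
    D = {g : ↥(Cfsg.reflectionSubgroup (⇑Q) c) |
      (g : ↥(Cfsg.isometryGroup (ZMod 3) (⇑Q))) ∈ Cfsg.reflectionsOfNorm (⇑Q) c} := ⟨_, rfl⟩
  rw [← hDdef] at hD ⊢
  have hDmem : ∀ g, g ∈ D ↔ ∃ v, Q v = c ∧ φ g = reflectionMatrix ⇑Q v := by
    intro g
    rw [hDdef]
    exact Iff.rfl
  have hmk : ∀ v, Q v = c → ∃ g ∈ D, φ g = reflectionMatrix ⇑Q v := by
    intro v hv
    have hv0 : Q v ≠ 0 := by rw [hv]; exact hc
    have hmem : reflectionIsom Q v hv0 ∈ Cfsg.reflectionsOfNorm (⇑Q) c := ⟨v, hv, rfl⟩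
    exact ⟨⟨reflectionIsom Q v hv0, Subgroup.subset_closure hmem⟩, (hDmem _).mpr ⟨v, hv, rfl⟩, rfl⟩
  have hTT := hD.1
  have hcomm : ∀ d e u v, φ d = reflectionMatrix ⇑Q u → φ e = reflectionMatrix ⇑Q v → Q u = c →
      QuadraticMap.polar ⇑Q u v = 0 → Commute d e := by
    intro d e u v hdu hev hu hb
    show d * e = e * d
    apply hφ
    rw [map_mul, map_mul, hdu, hev]
    exact refl_comm Q u v (by rw [hu]; exact hc) hb
  have hncomm : ∀ d e u v, φ d = reflectionMatrix ⇑Q u → φ e = reflectionMatrix ⇑Q v → Q u = c →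
      Q v = c → QuadraticMap.polar ⇑Q u v ≠ 0 → v ≠ u → v ≠ -u → ¬ Commute d e := by
    intro d e u v hdu hev hu hv hb h1 h2 hcm
    have hm : Commute (φ d) (φ e) := hcm.map φ
    rw [hdu, hev] at hm
    exact hb ((Cfsg.Agent.S5358.result n Q hQ u v (by rw [hu]; exact hc) (hu.trans hv.symm)
      h1 h2).mp hm)
  have hne_orth : ∀ d e u v, φ d = reflectionMatrix ⇑Q u → φ e = reflectionMatrix ⇑Q v →
      Q u = c → Q v = c → QuadraticMap.polar ⇑Q u v = 0 → d ≠ e := by
    intro d e u v hdu hev hu hv hb hde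
    have h1 : reflectionMatrix ⇑Q u *ᵥ u = reflectionMatrix ⇑Q v *ᵥ u := by
      rw [← hdu, ← hev, hde]
    rw [Cfsg.Agent.S5359.refl_mulVec' Q u u (by rw [hu]; exact hc),
      Cfsg.Agent.S5359.refl_mulVec' Q v u (by rw [hv]; exact hc),
      QuadraticMap.polar_comm (⇑Q) v u, hb, mul_zero, zero_smul, sub_zero,
      QuadraticMap.polar_self, hu] at h1
    have h2 : (c * (2 • c)) • u = 0 := sub_eq_self.mp h1
    have h3 : c * (2 • c) ≠ 0 := mul_ne_zero hc (h2c c hc)
    have hu0 : u = 0 := (smul_eq_zero.mp h2).resolve_left h3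
    rw [hu0, map_zero] at hu
    exact hc hu.symm
  -- two commuting members
  obtain ⟨u₀, hu₀, -⟩ := Cfsg.Agent.S5357.exists_norm Q hQ (k := 0) (fun i => i.elim0) (by omega)
    (fun i => i.elim0) (fun i => i.elim0) c hc
  obtain ⟨y₀, hy₀, hu₀y₀, -⟩ := Cfsg.Agent.S5359.exists_orth hn Q hQ u₀ u₀
    (by rw [hu₀]; exact hc) c hc
  obtain ⟨d₀, hd₀, hd₀u⟩ := hmk u₀ hu₀
  obtain ⟨e₀, he₀, he₀y⟩ := hmk y₀ hy₀
  have hd₀e₀ : d₀ ≠ e₀ := hne_orth d₀ e₀ u₀ y₀ hd₀u he₀y hu₀ hy₀ hu₀y₀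
  have hD2 : ∃ a ∈ D, ∃ b ∈ D, a ≠ b := ⟨d₀, hd₀, e₀, he₀, hd₀e₀⟩
  have h2 : Cfsg.pCore 2 ↥(Cfsg.reflectionSubgroup (⇑Q) c)
      ≤ Subgroup.center ↥(Cfsg.reflectionSubgroup (⇑Q) c) := by
    by_contra hnc
    obtain ⟨d, hd, -⟩ := hD.2.1
    obtain ⟨e, he, hde, hde1⟩ :=
      tt_exists_mul_mem_of_not_le_center hD (pCore_normal'' 2 _) hnc hd
    have hS := (Cfsg.Agent.S5349.result hD hD2 hd).1
    have hemem : e ∈ {v | v ∈ D ∧ d⁻¹ * v ∈ Cfsg.pCore 2 ↥(Cfsg.reflectionSubgroup (⇑Q) c)} :=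
      ⟨he, by rw [tt_inv hTT hd]; exact hde⟩
    rw [← hS] at hemem
    have hiff : ∀ x ∈ D, Commute e x ↔ Commute d x := hemem.2
    have hne : e ≠ d := by
      rintro rfl
      exact hde1 (tt_sq hTT he)
    have hcde : Commute e d := (hiff d hd).mpr (Commute.refl d)
    obtain ⟨u, hu, hdu⟩ := (hDmem d).mp hd
    obtain ⟨v, hv, hev⟩ := (hDmem e).mp he
    have hb : QuadraticMap.polar ⇑Q u v = 0 := by
      by_contra hb
      have h1 : v ≠ u := by
        rintro rfl
        exact hne (hφ (by rw [hev, hdu]))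
      have h2 : v ≠ -u := by
        rintro rfl
        apply hne
        apply hφ
        rw [hev, hdu]
        have := refl_smul Q u (-1) (by decide)
        simpa using this
      exact hncomm d e u v hdu hev hu hv hb h1 h2 hcde.symm
    obtain ⟨w, hw, huw, hvw, hwv1, hwv2⟩ := exists_vec_two hn Q hQ c hc u v hu hv hb
    obtain ⟨x, hx, hxw⟩ := hmk w hw
    have h1 : Commute d x := hcomm d x u w hdu hxw hu huw
    have h2 : ¬ Commute e x := hncomm e x v w hev hxw hv hw hvw hwv1 hwv2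
    exact h2 ((hiff x hx).mpr h1)
  have h3 : Cfsg.pCore 3 ↥(Cfsg.reflectionSubgroup (⇑Q) c)
      ≤ Subgroup.center ↥(Cfsg.reflectionSubgroup (⇑Q) c) := by
    by_contra hnc
    obtain ⟨d, hd, -⟩ := hD.2.1
    obtain ⟨f, hf, hdf, hdf1⟩ :=
      tt_exists_mul_mem_of_not_le_center hD (pCore_normal'' 3 _) hnc hd
    have hS := (Cfsg.Agent.S5350.result hD hD2 hd).1
    have hfmem : f ∈ {w | w ∈ D ∧ d⁻¹ * w ∈ Cfsg.pCore 3 ↥(Cfsg.reflectionSubgroup (⇑Q) c)} :=
      ⟨hf, by rw [tt_inv hTT hd]; exact hdf⟩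
    rw [← hS] at hfmem
    have hset : {y | y ∈ D ∧ y ≠ d ∧ Commute d y} = {y | y ∈ D ∧ y ≠ f ∧ Commute f y} :=
      hfmem.2
    have hne : f ≠ d := by
      rintro rfl
      exact hdf1 (tt_sq hTT hf)
    have hncdf : ¬ Commute d f := by
      intro hcm
      have hmem : f ∈ {y | y ∈ D ∧ y ≠ d ∧ Commute d y} := ⟨hf, hne, hcm⟩
      rw [hset] at hmem
      exact hmem.2.1 rfl
    obtain ⟨u, hu, hdu⟩ := (hDmem d).mp hd
    obtain ⟨v, hv, hfv⟩ := (hDmem f).mp hf
    have hb : QuadraticMap.polar ⇑Q u v ≠ 0 := fun hb => hncdf (hcomm d f u v hdu hfv hu hb)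
    have hrefl : reflectionMatrix ⇑Q v ≠ reflectionMatrix ⇑Q u := by
      intro h
      apply hne
      apply hφ
      rw [hfv, hdu, h]
    obtain ⟨w, hw, huw, hvw⟩ := exists_vec_three Q hQ c hc u v hu hv hb hrefl
    obtain ⟨x, hx, hxw⟩ := hmk w hw
    have h1 : Commute d x := hcomm d x u w hdu hxw hu huw
    have hxd : x ≠ d := (hne_orth d x u w hdu hxw hu hw huw).symm
    have hmem : x ∈ {y | y ∈ D ∧ y ≠ d ∧ Commute d y} := ⟨hx, hxd, h1⟩
    rw [hset] at hmem
    have hw1 : w ≠ v := by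
      rintro rfl
      exact hb huw
    have hw2 : w ≠ -v := by
      rintro rfl
      rw [QuadraticMap.polar_neg_right] at huw
      exact hb (neg_eq_zero.mp huw)
    exact hncomm f x v w hfv hxw hv hw hvw hw1 hw2 hmem.2.2
  have hconn : (Cfsg.commutingGraph D).Connected := by
    have hpre : (Cfsg.commutingGraph D).Preconnected := by
      intro a b
      obtain ⟨u, hu, hau⟩ := (hDmem a).mp a.2
      obtain ⟨v, hv, hbv⟩ := (hDmem b).mp b.2
      obtain ⟨y, hy, huy, hvy⟩ := Cfsg.Agent.S5359.exists_orth hn Q hQ u v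
        (by rw [hu]; exact hc) c hc
      obtain ⟨x, hx, hxy⟩ := hmk y hy
      have h1 : (Cfsg.commutingGraph D).Adj a ⟨x, hx⟩ := by
        unfold Cfsg.commutingGraph
        rw [SimpleGraph.fromRel_adj]
        refine ⟨?_, Or.inl (hcomm a x u y hau hxy hu huy)⟩
        intro h
        exact hne_orth a x u y hau hxy hu hy huy (congrArg Subtype.val h)
      have h2 : (Cfsg.commutingGraph D).Adj ⟨x, hx⟩ b := by
        unfold Cfsg.commutingGraph
        rw [SimpleGraph.fromRel_adj]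
        refine ⟨?_, Or.inr (hcomm b x v y hbv hxy hv hvy)⟩
        intro h
        exact hne_orth b x v y hbv hxy hv hy hvy (congrArg Subtype.val h).symm
      exact h1.reachable.trans h2.reachable
    have : Nonempty D := ⟨⟨d₀, hd₀⟩⟩
    exact ⟨hpre⟩
  obtain ⟨K, hK, hKn, hF⟩ := tt_exists_component_data hD hD2 h2 h3
  have hidx := tt_index_le_two_of_connected hD hK hKn hconn
  have hcomm' : commutator ↥(Cfsg.reflectionSubgroup (⇑Q) c) = K :=
    commutator_eq_of_index_le_two hKn (Cfsg.Agent.Lib.helper27.IsComponent.commutator_eq hK) hidx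
  refine ⟨?_, ?_, ?_, ?_⟩
  · rw [hcomm']
    exact hK.2
  · rw [hcomm']
    exact hidx
  · rw [hcomm', hF, sup_comm]
  · exact tt_primitive_of_index_le_two hD hD2 h2 h3 hK hKn hF hidx

end Cfsg.Agent.S5360
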