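import Cfsg.Statements.S5361
import Cfsg.Agent.Lib.helper91.TTSimple

set_option autoImplicit false
open Cfsg

namespace Cfsg.Agent.S5361

open Cfsg.Agent.Lib.helper91


/-- Let D be a conjugacy class of 3-transpositions generating the finite group G, and suppose the centre of G is trivial and some two different members of D commute. Then the following are equivalent: (1) the commutator subgroup of G is simple (possibly of prime order); (2) G acts primitively on D by conjugation; (3) the largest normal 2-subgroup and the largest normal 3-subgroup of G are trivial and the commuting graph of D is connected. -/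
theorem result {G : Type*} [Group G] [Finite G] {D : Set G} (hD : Cfsg.IsThreeTranspositionClass D) (hZ : Subgroup.center G = ⊥) (hw : ∃ a ∈ D, ∃ b ∈ D, a ≠ b ∧ Commute a b) : (IsSimpleGroup (commutator G) ↔ Cfsg.IsPrimitiveUnderConj D) ∧ (Cfsg.IsPrimitiveUnderConj D ↔ (Cfsg.pCore 2 G = ⊥ ∧ Cfsg.pCore 3 G = ⊥ ∧ (Cfsg.commutingGraph D).Connected)) := by
  have hconj : ∀ g : G, ∀ x ∈ D, g * x * g⁻¹ ∈ D := fun g x hx => tt_class_conj_mem hD g hx
  exact ⟨⟨fun hS => tt_primitive_of_simple_commutator hD hZ hw hS,
      fun hP => tt_simple_commutator_of_primitive hD hZ hw hP⟩,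
    ⟨fun hP => ⟨prim_pCore_two_eq_bot hD hZ hP, prim_pCore_three_eq_bot hD hZ hw hP,
        prim_connected hconj hw hP⟩,
      fun h => tt_primitive_of_connected hD hw h.1 h.2.1 h.2.2⟩⟩

end Cfsg.Agent.S5361
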