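import Cfsg.Statements.S5363
-- import your own Cfsg.Agent.* helpers here

set_option autoImplicit false
open Cfsg

namespace Cfsg.Agent.S5363

/-- Let D be a conjugation-invariant set of involutions of a finite group G. Then every product of two members of D has odd order or order 2 if and only if, for every a in D and every b in D different from a and commuting with a, the members of D commuting with a b are exactly those commuting with both a and b. -/
theorem result {G : Type*} [Group G] [Finite G] {D : Set G} (hinv : ∀ d ∈ D, orderOf d = 2) (hconj : ∀ g : G, ∀ d ∈ D, g * d * g⁻¹ ∈ D) : (∀ a ∈ D, ∀ b ∈ D, Odd (orderOf (a * b)) ∨ orderOf (a * b) = 2) ↔ ∀ a ∈ D, ∀ b ∈ D, b ≠ a → Commute a b → {y : G | y ∈ D ∧ Commute (a * b) y} = {y : G | y ∈ D ∧ Commute a y} ∩ {y : G | y ∈ D ∧ Commute b y} := by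
  have sq : ∀ d ∈ D, d * d = 1 := by
    intro d hd
    have := pow_orderOf_eq_one d
    rw [hinv d hd, pow_two] at this
    exact this
  have inv_eq : ∀ d ∈ D, d⁻¹ = d := fun d hd => inv_eq_of_mul_eq_one_left (sq d hd)
  constructor
  · intro h a ha b hb hne hab
    ext y
    simp only [Set.mem_ofPred_eq, Set.mem_inter_iff]
    constructor
    · rintro ⟨hy, hc⟩
      have hbeq : b = a * (a * b) := by rw [← mul_assoc, sq a ha, one_mul]
      have hzz : (a * b) * (a * b) = 1 := by
        calc (a * b) * (a * b) = (a * b) * (b * a) := by rw [hab.eq]
          _ = a * (b * b) * a := by group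
          _ = 1 := by rw [sq b hb, mul_one, sq a ha]
      have hz1 : a * b ≠ 1 := by
        intro h1
        apply hne
        have := eq_inv_of_mul_eq_one_right h1
        rw [inv_eq a ha] at this
        exact this
      have haz : Commute a (a * b) := (Commute.refl a).mul_right hab
      have hay : Commute a y := by
        rcases h a ha y hy with hodd | h2
        · -- odd case
          obtain ⟨j, hj⟩ := hodd
          -- g = (y * a)^(j+1) conjugates a to y
          have hya : (y * a) ^ (2 * j + 1) = 1 := by
            have h1 : (a * y) ^ (2 * j + 1) = 1 := by rw [← hj]; exact pow_orderOf_eq_one _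
            have h2 : y * a = a * (a * y) * a⁻¹ := by
              rw [← mul_assoc, sq a ha, one_mul, inv_eq a ha]
            rw [h2, conj_pow, h1, mul_one, mul_inv_cancel]
          have hsc : SemiconjBy a (y * a)⁻¹ (y * a) := by
            unfold SemiconjBy
            rw [mul_inv_rev, inv_eq a ha, inv_eq y hy, ← mul_assoc, sq a ha, one_mul, mul_assoc,
              sq a ha, mul_one]
          have hsc' := hsc.pow_right (j + 1)
          have hg : (y * a) ^ (j + 1) * a * ((y * a) ^ (j + 1))⁻¹ = y := by
            rw [mul_assoc, ← inv_pow, hsc'.eq, ← mul_assoc, ← pow_add,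
              show j + 1 + (j + 1) = (2 * j + 1) + 1 by ring, pow_succ, hya, one_mul, mul_assoc,
              sq a ha, mul_one]
          have hcg : Commute ((y * a) ^ (j + 1)) (a * b) := by
            apply Commute.pow_left
            exact (hc.symm.mul_left haz).symm.symm
          have hyz : y * (a * b) ∈ D := by
            have h1 := hconj ((y * a) ^ (j + 1)) b hb
            have h2 : (y * a) ^ (j + 1) * b * ((y * a) ^ (j + 1))⁻¹ = y * (a * b) := by
              conv_lhs => rw [hbeq]
              calc (y * a) ^ (j + 1) * (a * (a * b)) * ((y * a) ^ (j + 1))⁻¹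
                  = (y * a) ^ (j + 1) * a * ((a * b) * ((y * a) ^ (j + 1))⁻¹) := by group
                _ = (y * a) ^ (j + 1) * a * (((y * a) ^ (j + 1))⁻¹ * (a * b)) := by
                    rw [hcg.inv_left.eq]
                _ = ((y * a) ^ (j + 1) * a * ((y * a) ^ (j + 1))⁻¹) * (a * b) := by group
                _ = y * (a * b) := by rw [hg]
            rw [h2] at h1
            exact h1
          have hoz : orderOf (a * b) = 2 := orderOf_eq_prime (by rw [pow_two]; exact hzz) hz1
          have hcz : Commute (a * y) (a * b) := haz.mul_left hc.symm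
          have hord : orderOf (a * (y * (a * b))) = (2 * j + 1) * 2 := by
            rw [← mul_assoc, hcz.orderOf_mul_eq_mul_orderOf_of_coprime (by rw [hj, hoz]; simp),
              hj, hoz]
          have hj0 : j = 0 := by
            rcases h a ha (y * (a * b)) hyz with hodd2 | h22
            · exfalso
              rw [hord] at hodd2
              exact absurd hodd2 (by simp)
            · rw [hord] at h22
              omega
          rw [hj0] at hj
          have hay1 : a * y = 1 := orderOf_eq_one_iff.mp (by simpa using hj)
          have : y = a := by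
            have := eq_inv_of_mul_eq_one_right hay1
            rw [inv_eq a ha] at this
            exact this
          rw [this]
        · -- order 2
          have h3 : (a * y) * (a * y) = 1 := by
            have := pow_orderOf_eq_one (a * y)
            rw [h2, pow_two] at this
            exact this
          have h4 : a * y = (a * y)⁻¹ := eq_inv_of_mul_eq_one_left h3
          rw [mul_inv_rev, inv_eq a ha, inv_eq y hy] at h4
          exact h4
      refine ⟨⟨hy, hay⟩, hy, ?_⟩
      rw [hbeq]
      exact hay.mul_left hc
    · rintro ⟨⟨hy, hay⟩, -, hby⟩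
      exact ⟨hy, hay.mul_left hby⟩
  · intro h a ha b hb
    by_contra hcon
    push Not at hcon
    obtain ⟨hnodd, hne2⟩ := hcon
    have heven : Even (orderOf (a * b)) := Nat.not_odd_iff_even.mp hnodd
    obtain ⟨k, hk⟩ := heven
    have hpos : 0 < orderOf (a * b) := orderOf_pos _
    have hw : ∀ n : ℕ, (a * b) ^ n * a ∈ D ∧ (a * b) ^ (n + 1) * a ∈ D := by
      intro n
      induction n with
      | zero =>
        refine ⟨by simpa using ha, ?_⟩
        have := hconj a b hb
        rw [inv_eq a ha] at this
        simpa using this
      | succ n ih =>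
        refine ⟨ih.2, ?_⟩
        have h1 := hconj (a * b) _ ih.1
        have h2 : a * b * ((a * b) ^ n * a) * (a * b)⁻¹ = (a * b) ^ (n + 1 + 1) * a := by
          rw [mul_inv_rev, inv_eq a ha, inv_eq b hb]
          calc a * b * ((a * b) ^ n * a) * (b * a)
              = (a * b) ^ n * (a * b) * (a * b) * a := by
                rw [← pow_succ, pow_succ']; group
            _ = (a * b) ^ (n + 1 + 1) * a := by rw [← pow_succ, ← pow_succ]
        rw [h2] at h1
        exact h1
    have hzz : (a * b) ^ k * (a * b) ^ k = 1 := by rw [← pow_add, ← hk, pow_orderOf_eq_one]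
    have hz1 : (a * b) ^ k ≠ 1 := by
      intro h1
      have h2 := orderOf_dvd_of_pow_eq_one h1
      have h3 : 0 < k := by omega
      have := Nat.le_of_dvd h3 h2
      omega
    have hzinv : ((a * b) ^ k)⁻¹ = (a * b) ^ k := inv_eq_of_mul_eq_one_left hzz
    have hsa : SemiconjBy a (a * b) (a * b)⁻¹ := by
      unfold SemiconjBy
      rw [mul_inv_rev, inv_mul_cancel_right, inv_eq b hb, ← mul_assoc, sq a ha, one_mul]
    have hsb : SemiconjBy b (a * b) (a * b)⁻¹ := by
      unfold SemiconjBy
      rw [mul_inv_rev, inv_eq b hb, inv_eq a ha, mul_assoc]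
    have hca : Commute a ((a * b) ^ k) := by
      have := hsa.pow_right k
      rw [inv_pow, hzinv] at this
      exact this
    have hcb : Commute b ((a * b) ^ k) := by
      have := hsb.pow_right k
      rw [inv_pow, hzinv] at this
      exact this
    have ha' : (a * b) ^ k * a ∈ D := (hw k).1
    have hne' : (a * b) ^ k * a ≠ a := by
      intro h1
      apply hz1
      have := mul_right_cancel (h1.trans (one_mul a).symm)
      exact this
    have hcomm : Commute a ((a * b) ^ k * a) := hca.mul_right (Commute.refl a)
    have hset := h a ha _ ha' hne' hcomm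
    have hprod : a * ((a * b) ^ k * a) = (a * b) ^ k := by
      rw [← mul_assoc, hca.eq, mul_assoc, sq a ha, mul_one]
    rw [hprod] at hset
    have hbmem : b ∈ {y : G | y ∈ D ∧ Commute ((a * b) ^ k) y} := ⟨hb, hcb.symm⟩
    rw [hset] at hbmem
    have hab : Commute a b := hbmem.1.2
    have hsq : (a * b) ^ 2 = 1 := by
      rw [pow_two]
      calc (a * b) * (a * b) = (a * b) * (b * a) := by rw [hab.eq]
        _ = a * (b * b) * a := by group
        _ = 1 := by rw [sq b hb, mul_one, sq a ha]
    have hdvd := orderOf_dvd_of_pow_eq_one hsq
    have := Nat.le_of_dvd (by norm_num) hdvd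
    omega

end Cfsg.Agent.S5363
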