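import Cfsg.Statements.S5364
-- import your own Cfsg.Agent.* helpers here

set_option autoImplicit false
open Cfsg

namespace Cfsg.Agent.S5364

/-- Let D be a conjugation-invariant set of involutions of a finite group G and t an involution in the centre of G such that d t does not lie in D for any d in D. If the images of the members of D in G modulo the subgroup generated by t satisfy the 3-transposition order conditions (each has order 2 and any two have product of order at most 3), then so do the members of D. -/
theorem result {G : Type*} [Group G] [Finite G] {D : Set G} (hinv : ∀ d ∈ D, orderOf d = 2) (hconj : ∀ g : G, ∀ d ∈ D, g * d * g⁻¹ ∈ D) (t : G) (ht : orderOf t = 2) (htZ : t ∈ Subgroup.center G) (hDt : ∀ d ∈ D, d * t ∉ D) [(Subgroup.zpowers t).Normal] (himg : Cfsg.IsThreeTranspositionSet ((QuotientGroup.mk : G → G ⧸ Subgroup.zpowers t) '' D)) : Cfsg.IsThreeTranspositionSet D := by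
  have sq : ∀ d ∈ D, d * d = 1 := by
    intro d hd
    have := pow_orderOf_eq_one d
    rw [hinv d hd, pow_two] at this
    exact this
  have sq' : ∀ d ∈ D, ∀ x : G, d * (d * x) = x := by
    intro d hd x
    rw [← mul_assoc, sq d hd, one_mul]
  have inv_eq : ∀ d ∈ D, d⁻¹ = d := fun d hd => inv_eq_of_mul_eq_one_left (sq d hd)
  have hmem : ∀ x : G, x ∈ Subgroup.zpowers t → x = 1 ∨ x = t := by
    intro x hx
    obtain ⟨k, rfl⟩ := Subgroup.mem_zpowers_iff.mp hx
    rw [← zpow_mod_orderOf, ht]
    rcases Int.emod_two_eq_zero_or_one k with h | h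
    · left
      have : k % ((2 : ℕ) : ℤ) = 0 := by exact_mod_cast h
      rw [this, zpow_zero]
    · right
      have : k % ((2 : ℕ) : ℤ) = 1 := by exact_mod_cast h
      rw [this, zpow_one]
  refine ⟨hinv, ?_⟩
  intro d hd e he
  obtain ⟨_, h2⟩ := himg
  have hh := h2 (QuotientGroup.mk d) ⟨d, hd, rfl⟩ (QuotientGroup.mk e) ⟨e, he, rfl⟩
  rcases hh with hh | hh
  · left
    rw [← QuotientGroup.mk_mul, ← QuotientGroup.mk_pow, QuotientGroup.eq_one_iff] at hh
    rcases hmem _ hh with h1 | h1
    · exact h1
    · exfalso
      apply hDt d hd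
      have hf := hconj e d hd
      have : d * t = e * d * e⁻¹ := by
        rw [← h1, pow_two, inv_eq e he]
        simp only [mul_assoc, sq' d hd]
      rw [this]
      exact hf
  · right
    rw [← QuotientGroup.mk_mul, ← QuotientGroup.mk_pow, QuotientGroup.eq_one_iff] at hh
    rcases hmem _ hh with h1 | h1
    · exact h1
    · exfalso
      apply hDt (d * e * d⁻¹) (hconj d e he)
      have hf := hconj e d hd
      have : d * e * d⁻¹ * t = e * d * e⁻¹ := by
        rw [← h1, inv_eq d hd, inv_eq e he, pow_succ, pow_two]
        simp only [mul_assoc, sq' d hd, sq' e he]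
      rw [this]
      exact hf

end Cfsg.Agent.S5364
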