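import Cfsg.Statements.S5365
import Cfsg.Agent.Lib.helper91.TTLine
import Cfsg.Agent.Lib.helper91.S5Hom

set_option autoImplicit false
open Cfsg

namespace Cfsg.Agent.S5365

open Cfsg.Agent.Lib.helper91


/-- Let D be a non-empty conjugation-invariant set of involutions of a finite group G satisfying the 3-transposition order conditions, and suppose that for every d in D the members of D other than d commuting with d generate a subgroup isomorphic to the symmetric group of degree 3, and the largest normal 3-subgroup of the centralizer of d has order 3. Then the subgroup generated by D is isomorphic to the symmetric group of degree 5 or to the direct product of two symmetric groups of degree 3. -/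
theorem result {G : Type*} [Group G] [Finite G] {D : Set G} (hD : Cfsg.IsThreeTranspositionSet D) (hconj : ∀ g : G, ∀ d ∈ D, g * d * g⁻¹ ∈ D) (hne : D.Nonempty) (hloc : ∀ d ∈ D, Nonempty (↥(Subgroup.closure {y : G | y ∈ D ∧ y ≠ d ∧ Commute d y}) ≃* Equiv.Perm (Fin 3)) ∧ Nat.card (Cfsg.pCore 3 ↥(Subgroup.centralizer ({d} : Set G))) = 3) : Nonempty (↥(Subgroup.closure D) ≃* Equiv.Perm (Fin 5)) ∨ Nonempty (↥(Subgroup.closure D) ≃* Equiv.Perm (Fin 3) × Equiv.Perm (Fin 3)) := by
  have L1 : ∀ x ∈ D, (∃ a ∈ Dp D x, ∃ b ∈ Dp D x, a ≠ b) ∧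
      ∀ a ∈ Dp D x, ∀ b ∈ Dp D x, a ≠ b → ¬ Commute a b ∧ Dp D x = {a, b, a * b * a} :=
    fun x hx => tt_local_line hD hconj (hloc x hx).1
  obtain ⟨d, hd⟩ := hne
  obtain ⟨⟨p, hp, q, hq, hpq0⟩, hline⟩ := L1 d hd
  obtain ⟨hpq, hDd⟩ := hline p hp q hq hpq0
  have hpD : p ∈ D := hp.1
  have hqD : q ∈ D := hq.1
  have hdp : Commute d p := hp.2.2
  have hdq : Commute d q := hq.2.2
  have sd := tt_sq hD hd
  have sp := tt_sq hD hpD
  have sq := tt_sq hD hqD
  have hd_p : d ∈ Dp D p := ⟨hd, fun h => hp.2.1 h.symm, hdp.symm⟩
  obtain ⟨⟨a0, ha0, b0, hb0, hab0⟩, hlinep⟩ := L1 p hpD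
  obtain ⟨d', hd', hd'd⟩ : ∃ d' ∈ Dp D p, d' ≠ d := by
    by_cases h : a0 = d
    · exact ⟨b0, hb0, fun hb => hab0 (h.trans hb.symm)⟩
    · exact ⟨a0, ha0, h⟩
  obtain ⟨hdd', hDp⟩ := hlinep d hd_p d' hd' (Ne.symm hd'd)
  have hd'D : d' ∈ D := hd'.1
  have hpd' : Commute p d' := hd'.2.2
  have sd' := tt_sq hD hd'D
  have hr : p * q * p ∈ Dp D d := by
    rw [hDd]
    right
    right
    rfl
  have hd_q : d ∈ Dp D q := ⟨hd, fun h => hq.2.1 h.symm, hdq.symm⟩
  have hd_r : d ∈ Dp D (p * q * p) := ⟨hd, fun h => hr.2.1 h.symm, hr.2.2.symm⟩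
  have hmem_of_comm : ∀ x ∈ D, ∀ e ∈ D, Commute e x → e = x ∨ e ∈ Dp D x := by
    intro x hx e he hc
    by_cases h : e = x
    · left
      exact h
    · right
      exact ⟨he, h, hc.symm⟩
  by_cases hK : Commute q d'
  · right
    have hd'_q : d' ∈ Dp D q := by
      refine ⟨hd'D, ?_, hK⟩
      intro h
      rw [h] at hpd'
      exact hpq hpd'
    obtain ⟨-, hDq⟩ := (L1 q hqD).2 d hd_q d' hd'_q (Ne.symm hd'd)
    have hd'_r : d' ∈ Dp D (p * q * p) := by
      refine ⟨hd'D, ?_, (hpd'.mul_left hK).mul_left hpd'⟩
      intro h
      rw [h] at hpd'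
      apply hpq
      have e1 : p * (p * q * p) = q * p := by
        calc p * (p * q * p) = (p * p) * q * p := by group
          _ = q * p := by rw [sp, one_mul]
      have e2 : (p * q * p) * p = p * q := by
        calc (p * q * p) * p = p * q * (p * p) := by group
          _ = p * q := by rw [sp, mul_one]
      exact e2.symm.trans (hpd'.eq.symm.trans e1)
    obtain ⟨-, hDr⟩ := (L1 _ hr.1).2 d hd_r d' hd'_r (Ne.symm hd'd)
    have hall : ∀ e ∈ D, e ∈ Dp D p ∨ e ∈ Dp D d := by
      intro e he
      by_cases h1 : Commute e d
      · rcases hmem_of_comm d hd e he h1 with h | h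
        · left
          rw [h]
          exact hd_p
        · right
          exact h
      by_cases h2 : Commute e p
      · rcases hmem_of_comm p hpD e he h2 with h | h
        · right
          rw [h]
          exact hp
        · left
          exact h
      by_cases h3 : Commute e q
      · rcases hmem_of_comm q hqD e he h3 with h | h
        · right
          rw [h]
          exact hq
        · left
          rw [hDp]
          rw [hDq] at h
          exact h
      by_cases h4 : Commute e (p * q * p)
      · rcases hmem_of_comm _ hr.1 e he h4 with h | h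
        · right
          rw [h]
          exact hr
        · left
          rw [hDp]
          rw [hDr] at h
          exact h
      exfalso
      have hpe : ¬ Commute p e := fun h => h2 h.symm
      have hqe : ¬ Commute q e := fun h => h3 h.symm
      have hre : ¬ Commute (p * q * p) e := fun h => h4 h.symm
      obtain ⟨zp, zq, ze⟩ := tt_heis_z hD hconj hpD hqD he hpq hpe hqe hre
      have hTh : Th D p q := ⟨hpD, hqD, by rw [hDp, hDq]⟩
      have hgQ : p * q ∈ Cfsg.pCore 3 G := th_mul_mem_pCore hD hconj hTh
      have hQn : (Cfsg.pCore 3 G).Normal := pCore_normal'' 3 G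
      have hzQ : e * (p * q) * e * (p * q) ∈ Cfsg.pCore 3 G := by
        have h := hQn.conj_mem _ hgQ e
        rw [tt_inv hD he] at h
        exact mul_mem h hgQ
      have hzC : e * (p * q) * e * (p * q) ∈ Subgroup.centralizer ({p} : Set G) := by
        rw [Subgroup.mem_centralizer_iff]
        intro x hx
        rw [Set.mem_singleton_iff] at hx
        rw [hx]
        exact zp.eq.symm
      have hM := tt_pcore_centralizer hD hconj hd_p hd' hdd' hDp (hloc p hpD).2
        (Cfsg.pCore 3 G ⊓ Subgroup.centralizer {p}) ((pCore_isPGroup' 3 G).to_le inf_le_left)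
        inf_le_right
        (fun c hc m hm => Subgroup.mem_inf.mpr ⟨hQn.conj_mem m (Subgroup.mem_inf.mp hm).1 c,
          (Subgroup.centralizer ({p} : Set G)).mul_mem
            ((Subgroup.centralizer ({p} : Set G)).mul_mem hc (Subgroup.mem_inf.mp hm).2)
            ((Subgroup.centralizer ({p} : Set G)).inv_mem hc)⟩)
        (e * (p * q) * e * (p * q)) (Subgroup.mem_inf.mpr ⟨hzQ, hzC⟩)
      rcases hM with hz | hz | hz
      · exact tt_claim hD hconj hd hpD hqD he hdp hdq hpq h1 h2 (by rw [hz]; exact Commute.one_left d)
      · rw [hz] at ze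
        exact h1 (tt_commute_of_commute_mul hD hd hd'D he hdd' ze.symm)
      · rw [hz] at ze
        have hc : Commute e d' :=
          tt_commute_of_commute_mul hD hd'D hd he (fun h => hdd' h.symm) ze.symm
        have h5 : Commute e (d' * (d' * d)) := hc.mul_right ze.symm
        have e5 : d' * (d' * d) = d := by rw [← mul_assoc, sd', one_mul]
        rw [e5] at h5
        exact h1 h5
    have hDeq : D = Dp D p ∪ Dp D d := by
      apply Set.Subset.antisymm
      · intro e he
        exact hall e he
      · intro e he
        rcases he with h | h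
        · exact h.1
        · exact h.1
    obtain ⟨φ₁⟩ : Nonempty (↥(Subgroup.closure (Dp D p)) ≃* Equiv.Perm (Fin 3)) := (hloc p hpD).1
    obtain ⟨φ₂⟩ : Nonempty (↥(Subgroup.closure (Dp D d)) ≃* Equiv.Perm (Fin 3)) := (hloc d hd).1
    have hcross0 : ∀ x ∈ Dp D p, ∀ y ∈ Dp D d, Commute x y := by
      intro x hx y hy
      rw [hDp] at hx
      rw [hDd] at hy
      have hxp : Commute x p ∧ Commute x q := by
        rcases hx with h | h | h
        · rw [h]
          exact ⟨hdp, hdq⟩
        · rw [h]
          exact ⟨hpd'.symm, hK.symm⟩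
        · rw [h]
          exact ⟨(hdp.mul_left hpd'.symm).mul_left hdp, (hdq.mul_left hK.symm).mul_left hdq⟩
      rcases hy with h | h | h
      · rw [h]
        exact hxp.1
      · rw [h]
        exact hxp.2
      · rw [h]
        exact (hxp.1.mul_right hxp.2).mul_right hxp.1
    have hcross : ∀ x ∈ Subgroup.closure (Dp D p), ∀ y ∈ Subgroup.closure (Dp D d),
        Commute x y := by
      intro x hx y hy
      have h1 : Subgroup.closure (Dp D d) ≤ Subgroup.centralizer (Dp D p) := by
        rw [Subgroup.closure_le]
        intro y hy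
        rw [SetLike.mem_coe, Subgroup.mem_centralizer_iff]
        intro x hx
        exact (hcross0 x hx y hy).eq
      have h2 : Subgroup.closure (Dp D p) ≤ Subgroup.centralizer {y} := by
        rw [Subgroup.closure_le]
        intro x hx
        rw [SetLike.mem_coe, Subgroup.mem_centralizer_iff]
        intro y' hy'
        rw [Set.mem_singleton_iff] at hy'
        rw [hy']
        exact ((Subgroup.mem_centralizer_iff.mp (h1 hy)) x hx).symm
      exact ((Subgroup.mem_centralizer_iff.mp (h2 hx)) y rfl).symm
    have hdisj : Disjoint (Subgroup.closure (Dp D p)) (Subgroup.closure (Dp D d)) := by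
      rw [Subgroup.disjoint_def]
      intro x hx1 hx2
      have hcen : φ₁ ⟨x, hx1⟩ = 1 := by
        apply perm3_central_eq_one
        intro g
        have h1 : Commute ((φ₁.symm g : ↥(Subgroup.closure (Dp D p))) : G) x :=
          hcross _ (φ₁.symm g).2 x hx2
        have h2 : (⟨x, hx1⟩ : ↥(Subgroup.closure (Dp D p))) * φ₁.symm g =
            φ₁.symm g * ⟨x, hx1⟩ := Subtype.ext h1.eq.symm
        have h3 := congrArg φ₁ h2
        simpa using h3
      have h4 : (⟨x, hx1⟩ : ↥(Subgroup.closure (Dp D p))) = 1 := by
        apply φ₁.injective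
        rw [hcen, map_one]
      exact congrArg Subtype.val h4
    have hcomm : ∀ (m : ↥(Subgroup.closure (Dp D p))) (n : ↥(Subgroup.closure (Dp D d))),
        Commute ((Subgroup.closure (Dp D p)).subtype m) ((Subgroup.closure (Dp D d)).subtype n) :=
      fun x y => hcross x x.2 y y.2
    have hinj : Function.Injective (MonoidHom.noncommCoprod
        (Subgroup.closure (Dp D p)).subtype (Subgroup.closure (Dp D d)).subtype hcomm) := by
      rw [MonoidHom.noncommCoprod_injective]
      refine ⟨Subgroup.subtype_injective _, Subgroup.subtype_injective _, ?_⟩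
      rw [Subgroup.range_subtype, Subgroup.range_subtype]
      exact hdisj
    have hrange : Subgroup.closure D = (MonoidHom.noncommCoprod
        (Subgroup.closure (Dp D p)).subtype (Subgroup.closure (Dp D d)).subtype hcomm).range := by
      rw [MonoidHom.noncommCoprod_range, Subgroup.range_subtype, Subgroup.range_subtype,
        ← Subgroup.closure_union, ← hDeq]
    exact ⟨(MulEquiv.subgroupCongr hrange).trans
      ((MonoidHom.ofInjective hinj).symm.trans (MulEquiv.prodCongr φ₁ φ₂))⟩
  · left
    have hd'd' : ¬ Commute d' d := fun h => hdd' h.symm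
    obtain ⟨φ, h01, h12, h23, h34⟩ := s5_hom sp sq sd' sd (tt_cube hD hpD hqD hpq)
      (tt_cube hD hqD hd'D hK) (tt_cube hD hd'D hd hd'd')
      (by rw [pow_two]; exact tt_sq_of_commute hD hpD hd'D hpd')
      (by rw [pow_two]; exact tt_sq_of_commute hD hpD hd hdp.symm)
      (by rw [pow_two]; exact tt_sq_of_commute hD hqD hd hdq.symm)
    have hinj : Function.Injective φ := by
      apply s5_hom_injective
      rw [h01, h12]
      intro h
      rw [h] at hpq
      exact hpq (Commute.refl q)
    have hswapD : ∀ i j : Fin 5, i ≠ j → φ (Equiv.swap i j) ∈ D := by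
      intro i j hij
      obtain ⟨c, hc⟩ := isConj_iff.mp
        (Equiv.Perm.isConj_swap (show (0 : Fin 5) ≠ 1 by decide) hij)
      rw [← hc, map_mul, map_mul, map_inv, h01]
      exact hconj _ p hpD
    have hy : φ (Equiv.swap 0 3) ∈ Dp D q := by
      refine ⟨hswapD 0 3 (by decide), ?_, ?_⟩
      · rw [← h12]
        intro h
        exact absurd (hinj h) (by decide)
      · rw [← h12]
        show φ (Equiv.swap 1 2) * φ (Equiv.swap 0 3) = φ (Equiv.swap 0 3) * φ (Equiv.swap 1 2)
        rw [← map_mul, ← map_mul]
        congr 1
        decide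
    have hyd : d ≠ φ (Equiv.swap 0 3) := by
      rw [← h34]
      intro h
      exact absurd (hinj h) (by decide)
    obtain ⟨-, hDq⟩ := (L1 q hqD).2 d hd_q _ hy hyd
    have hr02 : p * q * p = φ (Equiv.swap 0 2) := by
      rw [← h01, ← h12, ← map_mul, ← map_mul]
      congr 1
      decide
    have hy' : φ (Equiv.swap 1 3) ∈ Dp D (p * q * p) := by
      refine ⟨hswapD 1 3 (by decide), ?_, ?_⟩
      · rw [hr02]
        intro h
        exact absurd (hinj h) (by decide)
      · rw [hr02]
        show φ (Equiv.swap 0 2) * φ (Equiv.swap 1 3) = φ (Equiv.swap 1 3) * φ (Equiv.swap 0 2)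
        rw [← map_mul, ← map_mul]
        congr 1
        decide
    have hyd' : d ≠ φ (Equiv.swap 1 3) := by
      rw [← h34]
      intro h
      exact absurd (hinj h) (by decide)
    obtain ⟨-, hDr⟩ := (L1 _ hr.1).2 d hd_r _ hy' hyd'
    have hdr : d ∈ φ.range := ⟨_, h34⟩
    have hd'r : d' ∈ φ.range := ⟨_, h23⟩
    have hpr : p ∈ φ.range := ⟨_, h01⟩
    have hqr : q ∈ φ.range := ⟨_, h12⟩
    have hall : ∀ e ∈ D, e ∈ φ.range := by
      intro e he
      by_cases h1 : Commute e d
      · rcases hmem_of_comm d hd e he h1 with h | h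
        · rw [h]
          exact hdr
        · rw [hDd] at h
          rcases h with h | h | h
          · rw [h]
            exact hpr
          · rw [h]
            exact hqr
          · rw [h]
            exact mul_mem (mul_mem hpr hqr) hpr
      by_cases h2 : Commute e p
      · rcases hmem_of_comm p hpD e he h2 with h | h
        · rw [h]
          exact hpr
        · rw [hDp] at h
          rcases h with h | h | h
          · rw [h]
            exact hdr
          · rw [h]
            exact hd'r
          · rw [h]
            exact mul_mem (mul_mem hdr hd'r) hdr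
      by_cases h3 : Commute e q
      · rcases hmem_of_comm q hqD e he h3 with h | h
        · rw [h]
          exact hqr
        · rw [hDq] at h
          rcases h with h | h | h
          · rw [h]
            exact hdr
          · rw [h]
            exact ⟨_, rfl⟩
          · rw [h]
            exact mul_mem (mul_mem hdr ⟨_, rfl⟩) hdr
      by_cases h4 : Commute e (p * q * p)
      · rcases hmem_of_comm _ hr.1 e he h4 with h | h
        · rw [h]
          exact mul_mem (mul_mem hpr hqr) hpr
        · rw [hDr] at h
          rcases h with h | h | h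
          · rw [h]
            exact hdr
          · rw [h]
            exact ⟨_, rfl⟩
          · rw [h]
            exact mul_mem (mul_mem hdr ⟨_, rfl⟩) hdr
      exfalso
      have hpe : ¬ Commute p e := fun h => h2 h.symm
      have hqe : ¬ Commute q e := fun h => h3 h.symm
      have hre : ¬ Commute (p * q * p) e := fun h => h4 h.symm
      obtain ⟨zp, zq, ze⟩ := tt_heis_z hD hconj hpD hqD he hpq hpe hqe hre
      obtain ⟨z, hz⟩ : ∃ z, z = e * (p * q) * e * (p * q) := ⟨_, rfl⟩
      rw [← hz] at zp zq ze
      have hzd : z * d * z⁻¹ ∈ Dp D p := by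
        refine ⟨hconj z d hd, ?_, ?_⟩
        · intro h
          apply hp.2.1
          have e1 : d = z⁻¹ * (z * d * z⁻¹) * z := by group
          rw [e1, h]
          calc p = z⁻¹ * (z * p) := by group
            _ = z⁻¹ * (p * z) := by rw [zp.eq]
            _ = z⁻¹ * p * z := by group
        · exact (zp.symm.mul_right hdp.symm).mul_right zp.symm.inv_right
      rw [hDp] at hzd
      have hzq : Commute (z * d * z⁻¹) q := (zq.mul_left hdq).mul_left zq.inv_left
      have hzd' : Commute z d := by
        rcases hzd with h | h | h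
        · show z * d = d * z
          calc z * d = (z * d * z⁻¹) * z := by group
            _ = d * z := by rw [h]
        · exfalso
          rw [h] at hzq
          exact hK hzq.symm
        · exfalso
          rw [h] at hzq
          apply hK
          have h5 : Commute (d * (d * d' * d) * d) q := (hdq.mul_left hzq).mul_left hdq
          have e5 : d * (d * d' * d) * d = d' := by
            calc d * (d * d' * d) * d = (d * d) * d' * (d * d) := by group
              _ = d' := by rw [sd, one_mul, mul_one]
          rw [e5] at h5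
          exact h5.symm
      rw [hz] at hzd'
      exact tt_claim hD hconj hd hpD hqD he hdp hdq hpq h1 h2 hzd'
    have hrange : Subgroup.closure D = φ.range := by
      apply le_antisymm
      · rw [Subgroup.closure_le]
        exact fun e he => hall e he
      · rw [MonoidHom.range_eq_map, ← Equiv.Perm.closure_isSwap, MonoidHom.map_closure,
          Subgroup.closure_le]
        rintro _ ⟨σ, hσ, rfl⟩
        obtain ⟨i, j, hij, rfl⟩ := hσ
        exact Subgroup.subset_closure (hswapD i j hij)
    exact ⟨(MulEquiv.subgroupCongr hrange).trans (MonoidHom.ofInjective hinj).symm⟩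

end Cfsg.Agent.S5365
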