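import Cfsg.Statements.S5366
import Cfsg.Agent.Lib.helper91.FischerSpace

set_option autoImplicit false
open Cfsg

namespace Cfsg.Agent.S5366

open Cfsg.Agent.Lib.helper91

/-- Let L be a nondegenerate Fischer space on the point type X (every point on a line). Then for every point x the map t(x) — sending a point collinear with x to the third point of their common line and fixing every other point — is a permutation of X of order 2 and an automorphism of the line system; and the set of all t(x) satisfies the 3-transposition order conditions in the permutation group of X (any two have product of order at most 3). -/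
theorem result {X : Type*} (L : Set (Set X)) (hL : Cfsg.IsFischerSpace L) (hnd : Cfsg.LineSystem.IsNondegenerate L) : (∀ x : X, ∃ σ : Equiv.Perm X, ⇑σ = Cfsg.LineSystem.lineMap L x ∧ orderOf σ = 2 ∧ Cfsg.LineSystem.IsIso L L σ) ∧ Cfsg.IsThreeTranspositionSet {σ : Equiv.Perm X | ∃ x : X, ⇑σ = Cfsg.LineSystem.lineMap L x} := by
  obtain ⟨hPL, h3, -⟩ := id hL
  have hsq : ∀ (σ : Equiv.Perm X) (x : X), ⇑σ = Cfsg.LineSystem.lineMap L x → σ * σ = 1 := by
    intro σ x hσ
    ext y
    simp only [Equiv.Perm.coe_mul, Function.comp_apply, Equiv.Perm.coe_one, id]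
    rw [hσ]
    exact lineMap_involutive hPL x y
  have hne : ∀ (σ : Equiv.Perm X) (x : X), ⇑σ = Cfsg.LineSystem.lineMap L x → σ ≠ 1 := by
    intro σ x hσ h1
    obtain ⟨l, hl, hxl⟩ := hnd x
    obtain ⟨a, b, c, hab, hac, hbc, rfl⟩ := Set.ncard_eq_three.mp (h3 l hl)
    have hy : ∃ y ∈ ({a, b, c} : Set X), x ≠ y := by
      by_cases hxa : x = a
      · exact ⟨b, by simp, by rw [hxa]; exact hab⟩
      · exact ⟨a, by simp, hxa⟩
    obtain ⟨y, hy, hxy⟩ := hy
    obtain ⟨z, hz, -⟩ := exists_third_of_mem h3 hl hxl hy hxy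
    have h5 : Cfsg.LineSystem.lineMap L x y = z := lineMap_eq_of_third hPL hz
    rw [← hσ, h1] at h5
    exact hz.2.1 h5.symm
  have hord : ∀ (σ : Equiv.Perm X) (x : X), ⇑σ = Cfsg.LineSystem.lineMap L x → orderOf σ = 2 := by
    intro σ x hσ
    exact orderOf_eq_prime (by rw [pow_two]; exact hsq σ x hσ) (hne σ x hσ)
  have hiso : ∀ (σ : Equiv.Perm X) (x : X), ⇑σ = Cfsg.LineSystem.lineMap L x →
      Cfsg.LineSystem.IsIso L L σ := fun σ x hσ => lineMap_isIso hL x σ hσ
  refine ⟨fun x => ⟨(lineMap_involutive hPL x).toPerm _, rfl, hord _ x rfl, hiso _ x rfl⟩,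
    fun σ ⟨x, hσ⟩ => hord σ x hσ, ?_⟩
  have hconj : ∀ (σ : Equiv.Perm X) (x : X), ⇑σ = Cfsg.LineSystem.lineMap L x →
      ∀ (τ : Equiv.Perm X) (y : X), ⇑τ = Cfsg.LineSystem.lineMap L y →
      ∀ (ρ : Equiv.Perm X), ⇑ρ = Cfsg.LineSystem.lineMap L (σ y) → σ * τ * σ = ρ := by
    intro σ x hσ τ y hτ ρ hρ
    ext p
    have hss : σ (σ p) = p := by
      have := congrArg (fun f : Equiv.Perm X => f p) (hsq σ x hσ)
      simpa using this
    simp only [Equiv.Perm.coe_mul, Function.comp_apply]
    rw [hρ, hτ]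
    conv_rhs => rw [← hss]
    exact (lineMap_iso (fun _ _ _ _ h h' => h.unique hPL h') σ (hiso σ x hσ) y (σ p)).symm
  rintro σ ⟨x, hσ⟩ τ ⟨y, hτ⟩
  by_cases hcol : ∃ z, Third L x y z
  · right
    obtain ⟨z, hz⟩ := hcol
    have h1 : σ y = z := by
      rw [hσ]
      exact lineMap_eq_of_third hPL hz
    have h2 : τ x = z := by
      rw [hτ]
      exact lineMap_eq_of_third hPL hz.symm
    have e1 : σ * τ * σ = (lineMap_involutive hPL z).toPerm _ :=
      hconj σ x hσ τ y hτ _ (by rw [h1]; rfl)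
    have e2 : τ * σ * τ = (lineMap_involutive hPL z).toPerm _ :=
      hconj τ y hτ σ x hσ _ (by rw [h2]; rfl)
    calc (σ * τ) ^ 3 = (σ * τ * σ) * (τ * σ * τ) := by
          simp only [pow_succ, pow_zero, one_mul, mul_assoc]
      _ = (lineMap_involutive hPL z).toPerm _ * (lineMap_involutive hPL z).toPerm _ := by
          rw [e1, e2]
      _ = 1 := hsq _ z rfl
  · left
    have h1 : σ y = y := by
      rw [hσ]
      exact lineMap_eq_self hcol
    have e1 : σ * τ * σ = τ := hconj σ x hσ τ y hτ τ (by rw [h1]; exact hτ)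
    calc (σ * τ) ^ 2 = (σ * τ * σ) * τ := by
          rw [pow_two]
          simp only [mul_assoc]
      _ = τ * τ := by rw [e1]
      _ = 1 := hsq τ y hτ

end Cfsg.Agent.S5366
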