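import Cfsg.Statements.S5367
import Cfsg.Agent.Lib.helper91.FischerPlanes

set_option autoImplicit false
open Cfsg

namespace Cfsg.Agent.S5367

open Cfsg.Agent.Lib.helper91

/-- Let D be a conjugation-invariant generating set of 3-transpositions of a finite group G. Then the line system on D whose lines are the triples {x, y, y x y⁻¹} for non-commuting members x, y of D is a Fischer space: two points lie on at most one line, lines have three points, and two different meeting lines generate a subspace isomorphic to the dual affine plane of order two or to the affine plane of order three. -/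
theorem result {G : Type*} [Group G] [Finite G] {D : Set G} (hD : Cfsg.IsThreeTranspositionGroup D) : Cfsg.IsFischerSpace (Cfsg.threeTranspositionLines D) := by
  obtain ⟨hT, hconj, -⟩ := hD
  have hPL := tl_partialLinear hT hconj
  have h3 := tl_ncard hT hconj
  refine ⟨hPL, h3, ?_⟩
  rintro l hl m hm hlm ⟨pa, hal, ham⟩
  have hex : ∀ n ∈ Cfsg.threeTranspositionLines D, pa ∈ n →
      ∃ q q', Third (Cfsg.threeTranspositionLines D) pa q q' ∧ n = {pa, q, q'} := by
    intro n hn han
    obtain ⟨u1, u2, u3, h12, h13, h23, rfl⟩ := Set.ncard_eq_three.mp (h3 n hn)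
    have hq : ∃ q ∈ ({u1, u2, u3} : Set D), pa ≠ q := by
      by_cases h : pa = u1
      · exact ⟨u2, by simp, by rw [h]; exact h12⟩
      · exact ⟨u1, by simp, h⟩
    obtain ⟨q, hq, hne⟩ := hq
    obtain ⟨q', hq', hset⟩ := exists_third_of_mem h3 hn han hq hne
    exact ⟨q, q', hq', hset⟩
  obtain ⟨pb, pb', hb, rfl⟩ := hex l hl hal
  obtain ⟨pc, pc', hc, rfl⟩ := hex m hm ham
  have hcl : pc ∉ ({pa, pb, pb'} : Set D) := by
    intro h
    apply hlm
    exact hPL _ hl _ hm pa pc hc.2.2.1 (by simp) h (by simp) (by simp)
  have hcb : pb ≠ pc := fun h => hcl (by rw [← h]; simp)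
  have hcb' : pb' ≠ pc := fun h => hcl (by rw [← h]; simp)
  by_cases h1 : Commute (pb : G) pc
  · left
    exact tl_dual_case hT hconj hb hc h1 hcb
  · by_cases h2 : Commute (pb' : G) pc
    · left
      have h := tl_dual_case hT hconj hb.swap23 hc h2 hcb'
      rwa [Set.pair_comm pb' pb] at h
    · right
      exact tl_affine_case hT hconj hb hc h1 h2

end Cfsg.Agent.S5367
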