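import Cfsg.Statements.S5393
import Cfsg.Agent.Lib.helper9.M24Trans

set_option autoImplicit false
open Cfsg

namespace Cfsg.Agent.S5393

open Cfsg Cfsg.Agent.Lib.helper94 Cfsg.Agent.Lib.helper33 Cfsg.Agent.Lib.helper9
open scoped Pointwise

/-- Support of the translate of a word by a permutation. -/
theorem bsupp_perm (w : GolayPt → ZMod 2) (σ : Equiv.Perm GolayPt) :
    bsupp (fun q => w (σ.symm q)) = σ • bsupp w := by
  ext p
  rw [Finset.mem_smul_finset]
  simp only [mem_bsupp, Equiv.Perm.smul_def]
  constructor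
  · intro h
    exact ⟨σ.symm p, h, by simp⟩
  · rintro ⟨y, hy, rfl⟩
    simpa using hy

/-- An invariant subcode containing a word of weight 8 is the whole code. -/
theorem eq_golay_of_octad (W : Submodule (ZMod 2) (GolayPt → ZMod 2)) (hW : W ≤ golayCode)
    (hinv : ∀ σ ∈ M24, ∀ w ∈ W, (fun p => w (σ.symm p)) ∈ W) (o : GolayPt → ZMod 2) (ho : o ∈ W)
    (ho8 : (bsupp o).card = 8) : W = golayCode := by
  apply le_antisymm hW
  rw [← span_weight_eight golayCode golayPt_card golay_finrank golay_min_weight, Submodule.span_le]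
  rintro c ⟨hc, hc8⟩
  have h1 : bsupp o ∈ octads := (mem_octads _).mpr ⟨⟨o, hW ho, rfl⟩, ho8⟩
  have h2 : bsupp c ∈ octads := (mem_octads _).mpr ⟨⟨c, hc, rfl⟩, hc8⟩
  obtain ⟨g, hg, hgo⟩ := m24_octad_trans _ _ h1 h2
  have h3 := hinv g hg o ho
  have h4 : (fun p => o (g.symm p)) = c := bsupp_injective (by rw [bsupp_perm, hgo])
  rw [← h4]
  exact h3

open Classical in
/-- First-moment bound: a subcode vanishing at the extra point all of whose nonzero words have weight 12
has at most 23 nonzero words. -/
theorem count_A (W : Submodule (ZMod 2) (GolayPt → ZMod 2))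
    (h12 : ∀ u ∈ W, u none = 0 → u ≠ 0 → (bsupp u).card = 12) :
    ((Finset.univ.filter (fun u : GolayPt → ZMod 2 => u ∈ W ∧ u none = 0)).erase 0).card ≤ 23 := by
  set W0 := Finset.univ.filter (fun u : GolayPt → ZMod 2 => u ∈ W ∧ u none = 0) with hW0
  have hmem : ∀ u, u ∈ W0 ↔ u ∈ W ∧ u none = 0 := by
    intro u
    rw [hW0, Finset.mem_filter]
    simp
  have h0 : (0 : GolayPt → ZMod 2) ∈ W0 := (hmem 0).mpr ⟨W.zero_mem, rfl⟩
  set N := (W0.erase 0).card with hN
  have hcard : W0.card = N + 1 := by
    rw [hN, Finset.card_erase_of_mem h0]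
    have := Finset.card_pos.mpr ⟨0, h0⟩
    omega
  have hsum1 : ∑ u ∈ W0, (bsupp u).card = 12 * N := by
    rw [← Finset.add_sum_erase _ _ h0, bsupp_zero, Finset.card_empty, zero_add, hN, mul_comm,
      ← smul_eq_mul, ← Finset.sum_const]
    apply Finset.sum_congr rfl
    intro u hu
    rw [Finset.mem_erase] at hu
    exact h12 u ((hmem u).mp hu.2).1 ((hmem u).mp hu.2).2 hu.1
  have hsum2 : ∑ u ∈ W0, (bsupp u).card = ∑ i : GolayPt, (W0.filter (fun u => u i ≠ 0)).card := by
    simp only [bsupp, Finset.card_filter]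
    exact Finset.sum_comm
  have hnone : (W0.filter (fun u => u none ≠ 0)).card = 0 := by
    rw [Finset.card_eq_zero, Finset.filter_eq_empty_iff]
    intro u hu
    simp [((hmem u).mp hu).2]
  have hsome : ∀ x : ZMod 23, 2 * (W0.filter (fun u => u (some x) ≠ 0)).card ≤ N + 1 := by
    intro x
    by_cases hex : ∃ v ∈ W0, v (some x) ≠ 0
    · obtain ⟨v, hv, hvx⟩ := hex
      have hle : (W0.filter (fun u => u (some x) ≠ 0)).card ≤
          (W0.filter (fun u => ¬ u (some x) ≠ 0)).card := by
        apply Finset.card_le_card_of_injOn (fun u => u + v)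
        · intro u hu
          rw [Finset.mem_coe, Finset.mem_filter] at hu ⊢
          refine ⟨(hmem _).mpr ⟨W.add_mem ((hmem u).mp hu.1).1 ((hmem v).mp hv).1, ?_⟩, ?_⟩
          · simp [((hmem u).mp hu.1).2, ((hmem v).mp hv).2]
          · have k : ∀ a b : ZMod 2, a ≠ 0 → b ≠ 0 → ¬ (a + b ≠ 0) := by decide
            exact k _ _ hu.2 hvx
        · intro a _ b _ hab
          exact add_right_cancel hab
      have hsplit := Finset.card_filter_add_card_filter_not (s := W0) (fun u => u (some x) ≠ 0)
      omega
    · push Not at hex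
      have hz : (W0.filter (fun u => u (some x) ≠ 0)).card = 0 := by
        rw [Finset.card_eq_zero, Finset.filter_eq_empty_iff]
        intro u hu
        simpa using hex u hu
      omega
  have hfin : 2 * (12 * N) ≤ 23 * (N + 1) := by
    rw [← hsum1, hsum2, Fintype.sum_option, hnone, zero_add, Finset.mul_sum]
    calc ∑ x : ZMod 23, 2 * (W0.filter (fun u => u (some x) ≠ 0)).card
        ≤ ∑ _x : ZMod 23, (N + 1) := Finset.sum_le_sum (fun x _ => hsome x)
      _ = 23 * (N + 1) := by simp [ZMod.card]
  omega

open Classical in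
/-- Covering bound from 5-transitivity: an invariant subcode containing the all-ones word and a word of
weight 12, whose words vanishing at the extra point have weight 12 or 0, has at least 27 such words. -/
theorem count_B (W : Submodule (ZMod 2) (GolayPt → ZMod 2)) (h1 : (1 : GolayPt → ZMod 2) ∈ W)
    (hinv : ∀ σ ∈ M24, ∀ w ∈ W, (fun p => w (σ.symm p)) ∈ W)
    (h12 : ∀ u ∈ W, u none = 0 → u ≠ 0 → (bsupp u).card = 12) (w : GolayPt → ZMod 2) (hw : w ∈ W)
    (hw12 : (bsupp w).card = 12) :
    27 ≤ ((Finset.univ.filter (fun u : GolayPt → ZMod 2 => u ∈ W ∧ u none = 0)).erase 0).card := by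
  set W1 := (Finset.univ.filter (fun u : GolayPt → ZMod 2 => u ∈ W ∧ u none = 0)).erase 0 with hW1
  have hmem : ∀ u, u ∈ W1 ↔ u ≠ 0 ∧ u ∈ W ∧ u none = 0 := by
    intro u
    rw [hW1, Finset.mem_erase, Finset.mem_filter]
    simp
  have hcover : Finset.powersetCard 5 (Finset.univ : Finset GolayPt) ⊆
      W1.biUnion (fun u => Finset.powersetCard 5 (bsupp u) ∪ Finset.powersetCard 5 (bsupp u)ᶜ) := by
    intro T hT
    rw [Finset.mem_powersetCard] at hT
    obtain ⟨T0, hT0, hT05⟩ := Finset.exists_subset_card_eq (show 5 ≤ (bsupp w).card by omega)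
    let e0 : Fin 5 ≃ T0 := (Finset.equivFinOfCardEq hT05).symm
    let e1 : Fin 5 ≃ T := (Finset.equivFinOfCardEq hT.2).symm
    let x : Fin 5 ↪ GolayPt := e0.toEmbedding.trans (Function.Embedding.subtype _)
    let y : Fin 5 ↪ GolayPt := e1.toEmbedding.trans (Function.Embedding.subtype _)
    obtain ⟨g, hg, hgxy⟩ := five_trans x y
    have hu1W : (fun p => w (g.symm p)) ∈ W := hinv g hg w hw
    have hTu1 : T ⊆ bsupp (fun p => w (g.symm p)) := by
      intro t ht
      have hi : y (e1.symm ⟨t, ht⟩) = t := by simp [y]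
      rw [mem_bsupp, ← hi, ← hgxy (e1.symm ⟨t, ht⟩)]
      simp only [Equiv.symm_apply_apply]
      exact mem_bsupp.mp (hT0 (e0 (e1.symm ⟨t, ht⟩)).2)
    have hTne : T.Nonempty := by
      rw [← Finset.card_pos, hT.2]
      norm_num
    by_cases hn : w (g.symm none) = 0
    · rw [Finset.mem_biUnion]
      refine ⟨fun p => w (g.symm p), (hmem _).mpr ⟨?_, hu1W, hn⟩,
        Finset.mem_union_left _ (Finset.mem_powersetCard.mpr ⟨hTu1, hT.2⟩)⟩
      intro h0
      rw [h0, bsupp_zero] at hTu1
      obtain ⟨t, ht⟩ := hTne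
      exact absurd (hTu1 ht) (Finset.notMem_empty t)
    · have hn1 : w (g.symm none) = 1 := (zmod2_ne_zero_iff _).mp hn
      rw [Finset.mem_biUnion]
      refine ⟨(fun p => w (g.symm p)) + 1, (hmem _).mpr ⟨?_, W.add_mem hu1W h1, ?_⟩,
        Finset.mem_union_right _ (Finset.mem_powersetCard.mpr ⟨?_, hT.2⟩)⟩
      · intro h0
        have hw1 : w = 1 := by
          funext q
          have := congrFun h0 (g q)
          simp only [Pi.add_apply, Pi.one_apply, Equiv.symm_apply_apply, Pi.zero_apply] at this
          have k : ∀ a : ZMod 2, a + 1 = 0 → a = 1 := by decide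
          exact k _ this
        rw [hw1, bsupp_one, Finset.card_univ, golayPt_card] at hw12
        omega
      · simp only [Pi.add_apply, Pi.one_apply, hn1]
        decide
      · rw [bsupp_add_one, compl_compl]
        exact hTu1
  have hc := Finset.card_le_card hcover
  rw [Finset.card_powersetCard, Finset.card_univ, golayPt_card] at hc
  have hc2 : (W1.biUnion (fun u => Finset.powersetCard 5 (bsupp u) ∪
      Finset.powersetCard 5 (bsupp u)ᶜ)).card ≤ W1.card * 1584 := by
    apply Finset.card_biUnion_le_card_mul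
    intro u hu
    have hu' := (hmem u).mp hu
    have hcu : (bsupp u).card = 12 := h12 u hu'.2.1 hu'.2.2 hu'.1
    have hcu' : (bsupp u)ᶜ.card = 12 := by
      rw [Finset.card_compl, golayPt_card, hcu]
    calc (Finset.powersetCard 5 (bsupp u) ∪ Finset.powersetCard 5 (bsupp u)ᶜ).card
        ≤ (Finset.powersetCard 5 (bsupp u)).card + (Finset.powersetCard 5 (bsupp u)ᶜ).card :=
          Finset.card_union_le _ _
      _ = 1584 := by
          rw [Finset.card_powersetCard, Finset.card_powersetCard, hcu, hcu']
          decide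
  have hch : Nat.choose 24 5 = 42504 := by decide
  omega


/-- The length-24 code built from the squares modulo 23 contains the all-ones word, and the code modulo the all-ones word is an irreducible module over the field with two elements for the code's automorphism group: a subspace of the code that contains the all-ones word and is invariant under every coordinate permutation preserving the code is either the span of the all-ones word or the whole code. -/
theorem result : (fun _ : Cfsg.GolayPt => (1 : ZMod 2)) ∈ Cfsg.golayCode ∧ ∀ W : Submodule (ZMod 2) (Cfsg.GolayPt → ZMod 2), (fun _ => (1 : ZMod 2)) ∈ W → W ≤ Cfsg.golayCode → (∀ σ ∈ Cfsg.M24, ∀ w ∈ W, (fun p => w (σ.symm p)) ∈ W) → W = Submodule.span (ZMod 2) {fun _ => (1 : ZMod 2)} ∨ W = Cfsg.golayCode := by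
  have hone : (fun _ : Cfsg.GolayPt => (1 : ZMod 2)) = (1 : GolayPt → ZMod 2) := rfl
  refine ⟨one_mem_golay, ?_⟩
  intro W h1 hW hinv
  rw [hone] at h1 ⊢
  by_cases hsub : W ≤ Submodule.span (ZMod 2) {(1 : GolayPt → ZMod 2)}
  · left
    apply le_antisymm hsub
    rw [Submodule.span_le, Set.singleton_subset_iff]
    exact h1
  · right
    obtain ⟨w, hwW, hwn⟩ := SetLike.not_le_iff_exists.mp hsub
    have hw0 : w ≠ 0 := by
      rintro rfl
      exact hwn (Submodule.zero_mem _)
    have hw1 : w ≠ 1 := by
      rintro rfl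
      exact hwn (Submodule.subset_span rfl)
    by_contra hne
    -- no word of weight 8 in W
    have hno8 : ∀ u ∈ W, (bsupp u).card ≠ 8 := fun u hu h8 => hne (eq_golay_of_octad W hW hinv u hu h8)
    have hwt : ∀ u ∈ W, (bsupp u).card = 0 ∨ (bsupp u).card = 12 ∨ (bsupp u).card = 24 := by
      intro u hu
      rcases card_of_mem_supports ⟨u, hW hu, rfl⟩ with h | h | h | h | h
      · exact Or.inl h
      · exact absurd h (hno8 u hu)
      · exact Or.inr (Or.inl h)
      · exfalso
        apply hno8 (u + 1) (W.add_mem hu h1)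
        rw [bsupp_add_one, Finset.card_compl, golayPt_card, h]
      · exact Or.inr (Or.inr h)
    have h12 : ∀ u ∈ W, u none = 0 → u ≠ 0 → (bsupp u).card = 12 := by
      intro u hu hun hu0
      rcases hwt u hu with h | h | h
      · exact absurd (bsupp_eq_empty.mp (Finset.card_eq_zero.mp h)) hu0
      · exact h
      · exfalso
        have huniv : bsupp u = Finset.univ := by
          apply Finset.eq_univ_of_card
          rw [h, golayPt_card]
        have : (none : GolayPt) ∈ bsupp u := by
          rw [huniv]
          exact Finset.mem_univ _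
        exact (mem_bsupp.mp this) hun
    have hw12 : (bsupp w).card = 12 := by
      rcases hwt w hwW with h | h | h
      · exact absurd (bsupp_eq_empty.mp (Finset.card_eq_zero.mp h)) hw0
      · exact h
      · exfalso
        apply hw1
        apply bsupp_injective
        rw [bsupp_one]
        apply Finset.eq_univ_of_card
        rw [h, golayPt_card]
    have hA := count_A W h12
    have hB := count_B W h1 hinv h12 w hwW hw12
    omega

end Cfsg.Agent.S5393
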