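import Cfsg.Statements.S5395
-- import your own Cfsg.Agent.* helpers here

set_option autoImplicit false
open Cfsg

namespace Cfsg.Agent.S5395

open scoped IsMulCommutative in
theorem aux {E : Type*} [Group E] [Finite E] (hE : Cfsg.IsExtraspecial 2 E) (φ : E ≃* E) (hφ : ∀ x : E, φ x * x⁻¹ ∈ Subgroup.center E) : ∃ g : E, ∀ x : E, φ x = g * x * g⁻¹ := by
  obtain ⟨⟨hp, hfr, hcomm⟩, hcard⟩ := hE
  have hcm : ∀ g x : E, g * x * g⁻¹ * x⁻¹ ∈ Subgroup.center E := by
    intro g x
    rw [← hcomm, commutator_def, ← commutatorElement_def]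
    exact Subgroup.commutator_mem_commutator (Subgroup.mem_top g) (Subgroup.mem_top x)
  have hcen : ∀ z ∈ Subgroup.center E, ∀ x : E, z * x = x * z :=
    fun z hz x => (Subgroup.mem_center_iff.mp hz x).symm
  let cg : E → (E →* Subgroup.center E) := fun g =>
    { toFun := fun x => ⟨g * x * g⁻¹ * x⁻¹, hcm g x⟩
      map_one' := by ext; simp
      map_mul' := by
        intro x y
        ext
        simp only [Subgroup.coe_mul]
        have := hcen _ (hcm g y) x⁻¹
        calc g * (x * y) * g⁻¹ * (x * y)⁻¹
            = g * x * g⁻¹ * ((g * y * g⁻¹ * y⁻¹) * x⁻¹) := by group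
          _ = g * x * g⁻¹ * (x⁻¹ * (g * y * g⁻¹ * y⁻¹)) := by rw [this]
          _ = g * x * g⁻¹ * x⁻¹ * (g * y * g⁻¹ * y⁻¹) := by group }
  have hcg : ∀ g x : E, ((cg g x : Subgroup.center E) : E) = g * x * g⁻¹ * x⁻¹ := fun g x => rfl
  let Φ : E →* (E →* Subgroup.center E) :=
    { toFun := cg
      map_one' := by
        ext x
        rw [hcg]
        simp
      map_mul' := by
        intro g h
        ext x
        rw [MonoidHom.mul_apply, Subgroup.coe_mul, hcg, hcg, hcg]
        calc g * h * x * (g * h)⁻¹ * x⁻¹
            = g * ((h * x * h⁻¹ * x⁻¹) * (x * g⁻¹ * x⁻¹)) := by group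
          _ = g * ((x * g⁻¹ * x⁻¹) * (h * x * h⁻¹ * x⁻¹)) := by rw [hcen _ (hcm h x)]
          _ = g * x * g⁻¹ * x⁻¹ * (h * x * h⁻¹ * x⁻¹) := by group }
  have hΦ : ∀ g x : E, ((Φ g x : Subgroup.center E) : E) = g * x * g⁻¹ * x⁻¹ := fun g x => rfl
  have hker : Φ.ker = Subgroup.center E := by
    ext g
    rw [MonoidHom.mem_ker, Subgroup.mem_center_iff]
    constructor
    · intro h x
      have h1 : ((Φ g x : Subgroup.center E) : E) = 1 := by rw [h]; rfl
      rw [hΦ] at h1
      have h2 : g * x = x * g := by
        have := congrArg (fun w => w * x * g) h1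
        simpa using this
      exact h2.symm
    · intro h
      ext x
      rw [hΦ, ← h x]
      simp
  have hA : Nat.card (E →* Subgroup.center E) ≤ (Subgroup.center E).index := by
    have hZ : Nat.card ℤˣ = 2 := by
      rw [Nat.card_eq_fintype_card]; rfl
    have : Fact (Nat.Prime 2) := ⟨Nat.prime_two⟩
    let e : Subgroup.center E ≃* ℤˣ := mulEquivOfPrimeCardEq hcard hZ
    let ι : ℤˣ →* ℂˣ := Units.map (Int.castRingHom ℂ).toMonoidHom
    have hι : Function.Injective ι := by
      apply Units.map_injective
      exact Int.cast_injective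
    let j : Subgroup.center E →* ℂˣ := ι.comp e.toMonoidHom
    have hj : Function.Injective j := hι.comp e.injective
    let F : (E →* Subgroup.center E) → (Abelianization E →* ℂˣ) :=
      fun c => Abelianization.lift (j.comp c)
    have hF : Function.Injective F := by
      intro c d hcd
      have h1 : j.comp c = j.comp d := Abelianization.lift.injective hcd
      ext x
      have h2 : j (c x) = j (d x) := congrArg (fun f : E →* ℂˣ => f x) h1
      exact congrArg Subtype.val (hj h2)
    have h1 : Nat.card (E →* Subgroup.center E) ≤ Nat.card (Abelianization E →* ℂˣ) :=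
      Nat.card_le_card_of_injective F hF
    have : NeZero (Monoid.exponent (Abelianization E)) :=
      ⟨Monoid.exponent_ne_zero_of_finite⟩
    rw [CommGroup.card_monoidHom_of_hasEnoughRootsOfUnity] at h1
    have h2 : Nat.card (Abelianization E) = (commutator E).index := rfl
    rw [h2, hcomm] at h1
    exact h1
  have hfin : Finite (E →* Subgroup.center E) :=
    Finite.of_injective (fun f : E →* Subgroup.center E => (f : E → Subgroup.center E))
      DFunLike.coe_injective
  have hrange : Φ.range = ⊤ := by
    apply Subgroup.eq_top_of_le_card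
    rw [← Subgroup.index_ker, hker]
    exact hA
  let c : E →* Subgroup.center E :=
    { toFun := fun x => ⟨φ x * x⁻¹, hφ x⟩
      map_one' := by ext; simp
      map_mul' := by
        intro x y
        ext
        simp only [Subgroup.coe_mul, map_mul]
        have := hcen _ (hφ y) x⁻¹
        calc φ x * φ y * (x * y)⁻¹ = φ x * ((φ y * y⁻¹) * x⁻¹) := by group
          _ = φ x * (x⁻¹ * (φ y * y⁻¹)) := by rw [this]
          _ = φ x * x⁻¹ * (φ y * y⁻¹) := by group }
  have hc : c ∈ Φ.range := by rw [hrange]; exact Subgroup.mem_top c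
  obtain ⟨g, hg⟩ := hc
  refine ⟨g, fun x => ?_⟩
  have h1 : ((Φ g x : Subgroup.center E) : E) = φ x * x⁻¹ := by rw [hg]; rfl
  rw [hΦ] at h1
  have := congrArg (fun w => w * x) h1
  simpa using this.symm

/-- For a finite extraspecial 2-group E, an automorphism of E that induces the identity on E modulo its centre is inner (so these automorphisms form exactly the inner automorphism group, an elementary abelian 2-group of order |E|/2). -/
theorem result {E : Type*} [Group E] [Finite E] (hE : Cfsg.IsExtraspecial 2 E) (φ : E ≃* E) (hφ : ∀ x : E, φ x * x⁻¹ ∈ Subgroup.center E) : ∃ g : E, ∀ x : E, φ x = g * x * g⁻¹ :=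
  aux hE φ hφ

end Cfsg.Agent.S5395
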