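import Cfsg.Statements.S5396
import Cfsg.Agent.Lib.helper48.QuadF2Witt
import Cfsg.Agent.Lib.helper92.ExtraSub
import Cfsg.Agent.Lib.helper92.Simple

set_option autoImplicit false
open Cfsg

namespace Cfsg.Agent.S5396

set_option linter.unusedSimpArgs false

open Cfsg.Agent.Lib.helper48

/-- vectors over the field of two elements -/
abbrev W (m : ℕ) := Fin (m + 1) → ZMod 2

/-- the bilinear cocycle: `t = 0` gives the plus type, `t = 1` the minus type -/
def beta (m : ℕ) (t : ZMod 2) (x y x' y' : W m) : ZMod 2 :=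
  ∑ i, y i * x' i + t * (x 0 * x' 0 + y 0 * y' 0)

theorem beta_add_left (m : ℕ) (t : ZMod 2) (x1 y1 x2 y2 x' y' : W m) :
    beta m t (x1 + x2) (y1 + y2) x' y' = beta m t x1 y1 x' y' + beta m t x2 y2 x' y' := by
  unfold beta
  have h : ∑ i, (y1 + y2) i * x' i = ∑ i, y1 i * x' i + ∑ i, y2 i * x' i := by
    rw [← Finset.sum_add_distrib]
    exact Finset.sum_congr rfl (fun i _ => by rw [Pi.add_apply]; ring)
  rw [h, Pi.add_apply, Pi.add_apply]
  ring

theorem beta_add_right (m : ℕ) (t : ZMod 2) (x y x1 y1 x2 y2 : W m) :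
    beta m t x y (x1 + x2) (y1 + y2) = beta m t x y x1 y1 + beta m t x y x2 y2 := by
  unfold beta
  have h : ∑ i, y i * (x1 + x2) i = ∑ i, y i * x1 i + ∑ i, y i * x2 i := by
    rw [← Finset.sum_add_distrib]
    exact Finset.sum_congr rfl (fun i _ => by rw [Pi.add_apply]; ring)
  rw [h, Pi.add_apply, Pi.add_apply]
  ring

theorem beta_zero_left (m : ℕ) (t : ZMod 2) (x' y' : W m) : beta m t 0 0 x' y' = 0 := by
  unfold beta
  simp

theorem beta_zero_right (m : ℕ) (t : ZMod 2) (x y : W m) : beta m t x y 0 0 = 0 := by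
  unfold beta
  simp

/-- the underlying type of the extraspecial groups -/
@[ext] structure Ex (m : ℕ) (t : ZMod 2) where
  /-- first vector -/
  x : W m
  /-- second vector -/
  y : W m
  /-- central bit -/
  c : ZMod 2

theorem w_add_self (m : ℕ) (u : W m) : u + u = 0 := by
  funext i
  exact zmod2_add_self (u i)

instance instGroupEx (m : ℕ) (t : ZMod 2) : Group (Ex m t) where
  mul a b := ⟨a.x + b.x, a.y + b.y, a.c + b.c + beta m t a.x a.y b.x b.y⟩
  one := ⟨0, 0, 0⟩
  inv a := ⟨a.x, a.y, a.c + beta m t a.x a.y a.x a.y⟩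
  mul_assoc a b c := by
    apply Ex.ext
    · exact add_assoc _ _ _
    · exact add_assoc _ _ _
    · show a.c + b.c + beta m t a.x a.y b.x b.y + c.c + beta m t (a.x + b.x) (a.y + b.y) c.x c.y
        = a.c + (b.c + c.c + beta m t b.x b.y c.x c.y) + beta m t a.x a.y (b.x + c.x) (b.y + c.y)
      rw [beta_add_left, beta_add_right]; ring
  one_mul a := by
    apply Ex.ext
    · exact zero_add _
    · exact zero_add _
    · show 0 + a.c + beta m t 0 0 a.x a.y = a.c
      rw [beta_zero_left]; ring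
  mul_one a := by
    apply Ex.ext
    · exact add_zero _
    · exact add_zero _
    · show a.c + 0 + beta m t a.x a.y 0 0 = a.c
      rw [beta_zero_right]; ring
  inv_mul_cancel a := by
    apply Ex.ext
    · exact w_add_self m a.x
    · exact w_add_self m a.y
    · show a.c + beta m t a.x a.y a.x a.y + a.c + beta m t a.x a.y a.x a.y = 0
      have h := zmod2_add_self (a.c + beta m t a.x a.y a.x a.y)
      rw [← h]; ring

theorem mul_def (m : ℕ) (t : ZMod 2) (a b : Ex m t) :
    a * b = ⟨a.x + b.x, a.y + b.y, a.c + b.c + beta m t a.x a.y b.x b.y⟩ := rfl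

theorem one_def (m : ℕ) (t : ZMod 2) : (1 : Ex m t) = ⟨0, 0, 0⟩ := rfl

theorem inv_def (m : ℕ) (t : ZMod 2) (a : Ex m t) :
    a⁻¹ = ⟨a.x, a.y, a.c + beta m t a.x a.y a.x a.y⟩ := rfl

/-- the underlying set is a product -/
def exEquiv (m : ℕ) (t : ZMod 2) : Ex m t ≃ (W m × W m) × ZMod 2 where
  toFun a := ((a.x, a.y), a.c)
  invFun p := ⟨p.1.1, p.1.2, p.2⟩
  left_inv _ := rfl
  right_inv _ := rfl

instance instFiniteEx (m : ℕ) (t : ZMod 2) : Finite (Ex m t) :=
  Finite.of_equiv _ (exEquiv m t).symm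

theorem card_ex (m : ℕ) (t : ZMod 2) : Nat.card (Ex m t) = 2 ^ (2 * (m + 1) + 1) := by
  rw [Nat.card_congr (exEquiv m t), Nat.card_prod, Nat.card_prod, Nat.card_fun, Nat.card_zmod,
    Nat.card_fin]
  ring

/-- the central involution -/
def zc (m : ℕ) (t : ZMod 2) : Ex m t := ⟨0, 0, 1⟩

theorem mem_zpowers_zc (m : ℕ) (t : ZMod 2) (a : Ex m t) (hx : a.x = 0) (hy : a.y = 0) :
    a ∈ Subgroup.zpowers (zc m t) := by
  rcases zmod2_eq_zero_or_one a.c with h | h
  · have : a = 1 := by
      apply Ex.ext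
      · exact hx
      · exact hy
      · exact h
    rw [this]; exact one_mem _
  · have : a = zc m t := by
      apply Ex.ext
      · exact hx
      · exact hy
      · exact h
    rw [this]; exact Subgroup.mem_zpowers _

theorem sum_single_mul (m : ℕ) (j : Fin (m + 1)) (u : W m) :
    ∑ i, (Pi.single j (1 : ZMod 2) : W m) i * u i = u j := by
  classical
  rw [Finset.sum_eq_single j]
  · simp
  · intro b _ hb
    simp [hb]
  · intro h; exact absurd (Finset.mem_univ _) h

theorem sum_mul_single (m : ℕ) (j : Fin (m + 1)) (u : W m) :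
    ∑ i, u i * (Pi.single j (1 : ZMod 2) : W m) i = u j := by
  classical
  rw [Finset.sum_eq_single j]
  · simp
  · intro b _ hb
    simp [hb]
  · intro h; exact absurd (Finset.mem_univ _) h

theorem extraspecial (m : ℕ) (t : ZMod 2) : Cfsg.IsExtraspecial 2 (Ex m t) := by
  classical
  have h := Cfsg.Agent.Lib.helper92.isExtraspecial_of_data (⊤ : Subgroup (Ex m t)) (zc m t)
    (by
      apply Ex.ext
      · exact add_zero _
      · exact add_zero _
      · show (1 : ZMod 2) + 1 + beta m t 0 0 0 0 = 0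
        rw [beta_zero_left]; decide)
    (by
      intro h
      have h1 : (1 : ZMod 2) = 0 := congrArg Ex.c h
      exact absurd h1 (by decide))
    (by
      intro a _ b _
      apply mem_zpowers_zc
      · show a.x + b.x + a.x + b.x = 0
        have := w_add_self m (a.x + b.x)
        rw [← this]; abel
      · show a.y + b.y + a.y + b.y = 0
        have := w_add_self m (a.y + b.y)
        rw [← this]; abel)
    (by
      intro a _
      apply mem_zpowers_zc
      · exact w_add_self m a.x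
      · exact w_add_self m a.y)
    (by
      intro a _ hcomm
      apply mem_zpowers_zc
      · funext j
        have h1 := congrArg Ex.c (hcomm ⟨0, Pi.single j 1, 0⟩ trivial)
        simp only [mul_def, beta, sum_single_mul, Pi.zero_apply, zero_mul, mul_zero,
          Finset.sum_const_zero, zero_add, add_zero] at h1
        have h2 : a.x j + (t * ((Pi.single j (1 : ZMod 2) : W m) 0 * a.y 0) + t * (a.y 0 * (Pi.single j (1 : ZMod 2) : W m) 0)) = 0 := by
          have h3 : a.x j + t * ((Pi.single j (1 : ZMod 2) : W m) 0 * a.y 0)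
              = t * (a.y 0 * (Pi.single j (1 : ZMod 2) : W m) 0) := add_left_cancel h1
          rw [← add_assoc, h3]
          exact zmod2_add_self _
        have h4 : t * ((Pi.single j (1 : ZMod 2) : W m) 0 * a.y 0) + t * (a.y 0 * (Pi.single j (1 : ZMod 2) : W m) 0) = 0 := by
          rw [mul_comm (a.y 0)]
          exact zmod2_add_self _
        rw [h4, add_zero] at h2
        exact h2
      · funext j
        have h1 := congrArg Ex.c (hcomm ⟨Pi.single j 1, 0, 0⟩ trivial)
        simp only [mul_def, beta, sum_mul_single, Pi.zero_apply, zero_mul, mul_zero,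
          Finset.sum_const_zero, zero_add, add_zero] at h1
        have h3 : t * ((Pi.single j (1 : ZMod 2) : W m) 0 * a.x 0)
              = a.y j + t * (a.x 0 * (Pi.single j (1 : ZMod 2) : W m) 0) := add_left_cancel h1
        have h2 : a.y j + (t * (a.x 0 * (Pi.single j (1 : ZMod 2) : W m) 0) + t * ((Pi.single j (1 : ZMod 2) : W m) 0 * a.x 0)) = 0 := by
          rw [← add_assoc, ← h3]
          exact zmod2_add_self _
        have h4 : t * (a.x 0 * (Pi.single j (1 : ZMod 2) : W m) 0) + t * ((Pi.single j (1 : ZMod 2) : W m) 0 * a.x 0) = 0 := by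
          rw [mul_comm (a.x 0)]
          exact zmod2_add_self _
        rw [h4, add_zero] at h2
        exact h2)
    (by
      intro a _
      apply Ex.ext
      · show a.x + 0 = 0 + a.x
        rw [add_zero, zero_add]
      · show a.y + 0 = 0 + a.y
        rw [add_zero, zero_add]
      · show a.c + 1 + beta m t a.x a.y 0 0 = 1 + a.c + beta m t 0 0 a.x a.y
        rw [beta_zero_left, beta_zero_right]; ring)
    (by
      refine ⟨⟨Pi.single 0 1, 0, 0⟩, trivial, ⟨0, Pi.single 0 1, 0⟩, trivial, ?_⟩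
      intro h
      have h1 := congrArg Ex.c h
      simp only [mul_def, beta, sum_single_mul, Pi.zero_apply, zero_mul, mul_zero,
        Finset.sum_const_zero, zero_add, add_zero, Pi.single_eq_same, mul_one] at h1
      exact absurd h1 (by decide))
  exact Cfsg.Agent.Lib.helper92.isExtraspecial_of_mulEquiv Subgroup.topEquiv h

/-- the quadratic form `x · y + t (x₀ + y₀)` -/
def qf (m : ℕ) (t : ZMod 2) (v : W m × W m) : ZMod 2 :=
  ∑ i, v.1 i * v.2 i + t * (v.1 0 + v.2 0)

/-- its polar form -/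
def pf (m : ℕ) (u v : W m × W m) : ZMod 2 :=
  ∑ i, (u.1 i * v.2 i + v.1 i * u.2 i)

theorem qf_add (m : ℕ) (t : ZMod 2) (u v : W m × W m) :
    qf m t (u + v) = qf m t u + qf m t v + pf m u v := by
  unfold qf pf
  have h : ∑ i, (u + v).1 i * (u + v).2 i
      = ∑ i, u.1 i * u.2 i + ∑ i, v.1 i * v.2 i + ∑ i, (u.1 i * v.2 i + v.1 i * u.2 i) := by
    rw [← Finset.sum_add_distrib, ← Finset.sum_add_distrib]
    exact Finset.sum_congr rfl (fun i _ => by
      rw [Prod.fst_add, Prod.snd_add, Pi.add_apply, Pi.add_apply]; ring)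
  rw [h, Prod.fst_add, Prod.snd_add, Pi.add_apply, Pi.add_apply]
  ring

theorem pf_add_left (m : ℕ) (u u' v : W m × W m) :
    pf m (u + u') v = pf m u v + pf m u' v := by
  unfold pf
  rw [← Finset.sum_add_distrib]
  exact Finset.sum_congr rfl (fun i _ => by
    rw [Prod.fst_add, Prod.snd_add, Pi.add_apply, Pi.add_apply]; ring)

theorem pf_nondeg (m : ℕ) (v : W m × W m) (hv : v ≠ 0) : ∃ u, pf m u v = 1 := by
  classical
  have h : (∃ j, v.1 j ≠ 0) ∨ (∃ j, v.2 j ≠ 0) := by
    by_contra hcon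
    push Not at hcon
    apply hv
    apply Prod.ext
    · funext j; exact hcon.1 j
    · funext j; exact hcon.2 j
  rcases h with ⟨j, hj⟩ | ⟨j, hj⟩
  · have hj1 : v.1 j = 1 := (zmod2_eq_zero_or_one _).resolve_left hj
    refine ⟨(0, Pi.single j 1), ?_⟩
    unfold pf
    have : ∀ i, ((0 : W m) i * v.2 i + v.1 i * (Pi.single j (1 : ZMod 2) : W m) i)
        = v.1 i * (Pi.single j (1 : ZMod 2) : W m) i := fun i => by
      rw [Pi.zero_apply, zero_mul, zero_add]
    rw [Finset.sum_congr rfl (fun i _ => this i), sum_mul_single, hj1]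
  · have hj1 : v.2 j = 1 := (zmod2_eq_zero_or_one _).resolve_left hj
    refine ⟨(Pi.single j 1, 0), ?_⟩
    unfold pf
    have : ∀ i, ((Pi.single j (1 : ZMod 2) : W m) i * v.2 i + v.1 i * (0 : W m) i)
        = (Pi.single j (1 : ZMod 2) : W m) i * v.2 i := fun i => by
      rw [Pi.zero_apply, mul_zero, add_zero]
    rw [Finset.sum_congr rfl (fun i _ => this i), sum_single_mul, hj1]

theorem beta_self (m : ℕ) (t : ZMod 2) (x y : W m) : beta m t x y x y = qf m t (x, y) := by
  unfold beta qf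
  rw [zmod2_mul_self, zmod2_mul_self]
  congr 1
  exact Finset.sum_congr rfl (fun i _ => mul_comm _ _)

/-- the image in `V` of a subgroup -/
def proj (m : ℕ) (t : ZMod 2) (A : Subgroup (Ex m t)) : Submodule (ZMod 2) (W m × W m) where
  carrier := {v | ∃ c, (⟨v.1, v.2, c⟩ : Ex m t) ∈ A}
  add_mem' := by
    rintro v w ⟨c, hc⟩ ⟨c', hc'⟩
    exact ⟨_, A.mul_mem hc hc'⟩
  zero_mem' := ⟨0, A.one_mem⟩
  smul_mem' := by
    rintro r v ⟨c, hc⟩
    rcases zmod2_eq_zero_or_one r with h | h
    · rw [h, zero_smul]; exact ⟨0, A.one_mem⟩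
    · rw [h, one_smul]; exact ⟨c, hc⟩

theorem proj_singular (m : ℕ) (t : ZMod 2) (A : Subgroup (Ex m t))
    (hA : ∀ a ∈ A, a ^ 2 = 1) : ∀ u ∈ proj m t A, qf m t u = 0 := by
  rintro u ⟨c, hc⟩
  have h1 := hA _ hc
  rw [pow_two] at h1
  have h2 := congrArg Ex.c h1
  have h3 : c + c + beta m t u.1 u.2 u.1 u.2 = 0 := h2
  rw [zmod2_add_self, zero_add, beta_self] at h3
  exact h3

theorem card_le_proj (m : ℕ) (t : ZMod 2) (A : Subgroup (Ex m t)) :
    Nat.card A ≤ 2 * Nat.card (proj m t A) := by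
  have hinj : Function.Injective
      (fun a : A => ((⟨((a : Ex m t).x, (a : Ex m t).y), ⟨(a : Ex m t).c, a.2⟩⟩ : proj m t A),
        (a : Ex m t).c)) := by
    intro a b hab
    simp only [Prod.mk.injEq] at hab
    apply Subtype.ext
    apply Ex.ext
    · exact congrArg Prod.fst (congrArg Subtype.val hab.1)
    · exact congrArg Prod.snd (congrArg Subtype.val hab.1)
    · exact hab.2
  have h := Nat.card_le_card_of_injective _ hinj
  rw [Nat.card_prod, Nat.card_zmod] at h
  omega

theorem finrank_V (m : ℕ) : Module.finrank (ZMod 2) (W m × W m) = 2 * (m + 1) := by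
  rw [Module.finrank_prod, Module.finrank_fin_fun]
  ring

/-- the bound on elementary abelian subgroups -/
theorem bound (m : ℕ) (t : ZMod 2) (A : Subgroup (Ex m t)) (hA : ∀ a ∈ A, a ^ 2 = 1) (k : ℕ)
    (hk : Nat.card A = 2 ^ k) :
    k ≤ m + 2 ∧ (k = m + 2 → ∑ v, chi (qf m t v) = 2 ^ (m + 1)) := by
  classical
  have hU := proj_singular m t A hA
  have hle := ts_finrank_le (qf m t) (pf m) (qf_add m t) (pf_add_left m) (pf_nondeg m)
    (proj m t A) hU
  rw [finrank_V] at hle
  have hd : Module.finrank (ZMod 2) (proj m t A) ≤ m + 1 := by omega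
  have hc := card_le_proj m t A
  rw [hk, Module.natCard_eq_pow_finrank (K := ZMod 2) (V := proj m t A), Nat.card_zmod] at hc
  have hc' : 2 ^ k ≤ 2 ^ (Module.finrank (ZMod 2) (proj m t A) + 1) := by
    rw [pow_succ]; omega
  have hk' : k ≤ Module.finrank (ZMod 2) (proj m t A) + 1 :=
    (Nat.pow_le_pow_iff_right (by norm_num)).1 hc'
  refine ⟨by omega, ?_⟩
  intro hkm
  have hd' : Module.finrank (ZMod 2) (proj m t A) = m + 1 := by omega
  have := charSum_of_ts_half (qf m t) (pf m) (qf_add m t) (pf_add_left m) (pf_nondeg m)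
    (proj m t A) hU (by rw [finrank_V, hd'])
  rw [this, hd']

theorem dot_nondeg (m : ℕ) (t : W m) (ht : t ≠ 0) : ∃ u : W m, ∑ i, t i * u i = 1 := by
  obtain ⟨j, hj⟩ : ∃ j, t j ≠ 0 := by
    by_contra h
    push Not at h
    exact ht (funext h)
  refine ⟨Pi.single j 1, ?_⟩
  rw [sum_mul_single]
  exact (zmod2_eq_zero_or_one _).resolve_left hj

theorem charSum_dot (m : ℕ) : ∑ x : W m, ∑ y : W m, chi (∑ i, x i * y i) = 2 ^ (m + 1) := by
  classical
  have h := fun x : W m => sum_chi_all (V := W m) (fun u t => ∑ i, t i * u i)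
    (by
      intro u u' v
      show ∑ i, v i * (u + u') i = ∑ i, v i * u i + ∑ i, v i * u' i
      rw [← Finset.sum_add_distrib]
      exact Finset.sum_congr rfl (fun i _ => by rw [Pi.add_apply]; ring))
    (by
      intro u
      show ∑ i, (0 : W m) i * u i = 0
      simp)
    (dot_nondeg m) x
  have h' : ∀ x : W m, ∑ y : W m, chi (∑ i, x i * y i)
      = if x = 0 then (Fintype.card (W m) : ℤ) else 0 := h
  rw [Finset.sum_congr rfl (fun x _ => h' x), Finset.sum_ite_eq' Finset.univ (0 : W m)]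
  simp

theorem charSum_minus (m : ℕ) : ∑ v : W m × W m, chi (qf m 1 v) = -(2 ^ (m + 1)) := by
  classical
  rw [Fintype.sum_prod_type]
  have key : ∀ x y : W m,
      qf m 1 (x + Pi.single 0 1, y + Pi.single 0 1) = ∑ i, x i * y i + 1 := by
    intro x y
    unfold qf
    show ∑ i, (x + (Pi.single 0 1 : W m)) i * (y + (Pi.single 0 1 : W m)) i
        + 1 * ((x + (Pi.single 0 1 : W m)) 0 + (y + (Pi.single 0 1 : W m)) 0) = ∑ i, x i * y i + 1
    have h : ∑ i, (x + (Pi.single 0 1 : W m)) i * (y + (Pi.single 0 1 : W m)) i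
        = ∑ i, x i * y i + ∑ i, x i * (Pi.single 0 (1 : ZMod 2) : W m) i
          + ∑ i, (Pi.single 0 (1 : ZMod 2) : W m) i * y i
          + ∑ i, (Pi.single 0 (1 : ZMod 2) : W m) i * (Pi.single 0 (1 : ZMod 2) : W m) i := by
      rw [← Finset.sum_add_distrib, ← Finset.sum_add_distrib, ← Finset.sum_add_distrib]
      exact Finset.sum_congr rfl (fun i _ => by rw [Pi.add_apply, Pi.add_apply]; ring)
    rw [h, sum_mul_single, sum_single_mul, sum_single_mul, Pi.add_apply, Pi.add_apply,
      Pi.single_eq_same]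
    have h2 := zmod2_add_self (x 0)
    have h3 := zmod2_add_self (y 0)
    have h1 : (1 : ZMod 2) + 1 = 0 := by decide
    linear_combination h2 + h3 + h1
  calc ∑ x : W m, ∑ y : W m, chi (qf m 1 (x, y))
      = ∑ x : W m, ∑ y : W m, chi (qf m 1 (x + Pi.single 0 1, y + Pi.single 0 1)) := by
        rw [← Equiv.sum_comp (Equiv.addRight (Pi.single 0 1 : W m))]
        refine Finset.sum_congr rfl (fun x _ => ?_)
        rw [← Equiv.sum_comp (Equiv.addRight (Pi.single 0 1 : W m))]
        rfl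
    _ = ∑ x : W m, ∑ y : W m, -chi (∑ i, x i * y i) := by
        refine Finset.sum_congr rfl (fun x _ => Finset.sum_congr rfl (fun y _ => ?_))
        rw [key, chi_add_one]
    _ = -(2 ^ (m + 1)) := by
        simp_rw [Finset.sum_neg_distrib]
        rw [charSum_dot]

theorem isMulComm_of (m : ℕ) (t : ZMod 2) (A : Subgroup (Ex m t))
    (h : ∀ a ∈ A, ∀ b ∈ A, a * b = b * a) : IsMulCommutative A :=
  ⟨⟨fun a b => Subtype.ext (h a a.2 b b.2)⟩⟩

/-- plus type: the subgroup `y = 0` -/
def Aplus (m : ℕ) : Subgroup (Ex m 0) where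
  carrier := {a | a.y = 0}
  mul_mem' := by
    intro a b ha hb
    have ha' : a.y = 0 := ha
    have hb' : b.y = 0 := hb
    show a.y + b.y = 0
    rw [ha', hb', add_zero]
  one_mem' := rfl
  inv_mem' := by
    intro a ha
    exact ha

theorem beta_plus_zero (m : ℕ) (x y x' y' : W m) (hy : y = 0) : beta m 0 x y x' y' = 0 := by
  unfold beta
  rw [hy]
  simp

/-- the elements of the plus-type subgroup -/
def AplusEquiv (m : ℕ) : Aplus m ≃ W m × ZMod 2 where
  toFun a := ((a : Ex m 0).x, (a : Ex m 0).c)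
  invFun p := ⟨⟨p.1, 0, p.2⟩, rfl⟩
  left_inv a := Subtype.ext (Ex.ext rfl (a.2 : (a : Ex m 0).y = 0).symm rfl)
  right_inv _ := rfl

theorem isGreatest_plus (m : ℕ) :
    IsGreatest {k : ℕ | ∃ A : Subgroup (Ex m 0), Cfsg.IsElementaryAbelian 2 A ∧
      Nat.card A = 2 ^ k} (m + 1 + 1) := by
  constructor
  · refine ⟨Aplus m, ⟨isMulComm_of m 0 _ ?_, ?_⟩, ?_⟩
    · intro a ha b hb
      have ha' : a.y = 0 := ha
      have hb' : b.y = 0 := hb
      apply Ex.ext
      · exact add_comm _ _
      · exact add_comm _ _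
      · show a.c + b.c + beta m 0 a.x a.y b.x b.y = b.c + a.c + beta m 0 b.x b.y a.x a.y
        rw [beta_plus_zero m _ _ _ _ ha', beta_plus_zero m _ _ _ _ hb']; ring
    · intro a ha
      have ha' : a.y = 0 := ha
      rw [pow_two]
      apply Ex.ext
      · exact w_add_self m a.x
      · exact w_add_self m a.y
      · show a.c + a.c + beta m 0 a.x a.y a.x a.y = 0
        rw [beta_plus_zero m _ _ _ _ ha', zmod2_add_self, add_zero]
    · rw [Nat.card_congr (AplusEquiv m), Nat.card_prod, Nat.card_fun, Nat.card_zmod, Nat.card_fin]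
      ring
  · rintro k ⟨A, ⟨_, hsq⟩, hk⟩
    exact (bound m 0 A hsq k hk).1

/-- minus type: the subgroup `y = 0`, `x₀ = 0` -/
def Aminus (m : ℕ) : Subgroup (Ex m 1) where
  carrier := {a | a.y = 0 ∧ a.x 0 = 0}
  mul_mem' := by
    intro a b ha hb
    have ha' : a.y = 0 ∧ a.x 0 = 0 := ha
    have hb' : b.y = 0 ∧ b.x 0 = 0 := hb
    show a.y + b.y = 0 ∧ (a.x + b.x) 0 = 0
    rw [ha'.1, hb'.1, add_zero, Pi.add_apply, ha'.2, hb'.2, add_zero]
    exact ⟨rfl, rfl⟩
  one_mem' := ⟨rfl, rfl⟩
  inv_mem' := by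
    intro a ha
    exact ha

theorem beta_minus_zero (m : ℕ) (x y x' y' : W m) (hy : y = 0) (hx : x 0 = 0) :
    beta m 1 x y x' y' = 0 := by
  unfold beta
  rw [hy, hx]
  simp

/-- the elements of the minus-type subgroup -/
def AminusEquiv (m : ℕ) : Aminus m ≃ (Fin m → ZMod 2) × ZMod 2 where
  toFun a := (fun i => (a : Ex m 1).x i.succ, (a : Ex m 1).c)
  invFun p := ⟨⟨Fin.cons 0 p.1, 0, p.2⟩, ⟨rfl, Fin.cons_zero (α := fun _ => ZMod 2) 0 p.1⟩⟩
  left_inv a := by
    have ha : (a : Ex m 1).y = 0 ∧ (a : Ex m 1).x 0 = 0 := a.2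
    apply Subtype.ext
    apply Ex.ext
    · funext j
      refine Fin.cases ?_ ?_ j
      · show (Fin.cons 0 (fun i : Fin m => (a : Ex m 1).x i.succ) : W m) 0 = (a : Ex m 1).x 0
        rw [Fin.cons_zero, ha.2]
      · intro i
        show (Fin.cons 0 (fun i : Fin m => (a : Ex m 1).x i.succ) : W m) i.succ
          = (a : Ex m 1).x i.succ
        rw [Fin.cons_succ]
    · exact ha.1.symm
    · rfl
  right_inv p := by
    apply Prod.ext
    · funext i
      show (Fin.cons 0 p.1 : W m) i.succ = p.1 i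
      rw [Fin.cons_succ]
    · rfl

theorem isGreatest_minus (m : ℕ) :
    IsGreatest {k : ℕ | ∃ A : Subgroup (Ex m 1), Cfsg.IsElementaryAbelian 2 A ∧
      Nat.card A = 2 ^ k} (m + 1) := by
  constructor
  · refine ⟨Aminus m, ⟨isMulComm_of m 1 _ ?_, ?_⟩, ?_⟩
    · intro a ha b hb
      have ha' : a.y = 0 ∧ a.x 0 = 0 := ha
      have hb' : b.y = 0 ∧ b.x 0 = 0 := hb
      apply Ex.ext
      · exact add_comm _ _
      · exact add_comm _ _
      · show a.c + b.c + beta m 1 a.x a.y b.x b.y = b.c + a.c + beta m 1 b.x b.y a.x a.y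
        rw [beta_minus_zero m _ _ _ _ ha'.1 ha'.2, beta_minus_zero m _ _ _ _ hb'.1 hb'.2]; ring
    · intro a ha
      have ha' : a.y = 0 ∧ a.x 0 = 0 := ha
      rw [pow_two]
      apply Ex.ext
      · exact w_add_self m a.x
      · exact w_add_self m a.y
      · show a.c + a.c + beta m 1 a.x a.y a.x a.y = 0
        rw [beta_minus_zero m _ _ _ _ ha'.1 ha'.2, zmod2_add_self, add_zero]
    · rw [Nat.card_congr (AminusEquiv m), Nat.card_prod, Nat.card_fun, Nat.card_zmod,
        Nat.card_fin]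
      ring
  · rintro k ⟨A, ⟨_, hsq⟩, hk⟩
    obtain ⟨h1, h2⟩ := bound m 1 A hsq k hk
    by_contra hlt
    have hk2 : k = m + 2 := by omega
    have h3 := h2 hk2
    rw [charSum_minus] at h3
    have hpos : (0 : ℤ) < 2 ^ (m + 1) := by positivity
    omega

/-- For every n ≥ 1 there exist finite extraspecial 2-groups of order 2^(2n+1) whose 2-rank (the largest rank of an elementary abelian subgroup) is n, and ones whose 2-rank is n + 1 (so for each such order there are two non-isomorphic extraspecial 2-groups, told apart by their 2-rank). -/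
theorem result (n : ℕ) (hn : 1 ≤ n) : ∀ r ∈ ({n, n + 1} : Set ℕ), ∃ (E : Type) (_ : Group E) (_ : Finite E), Cfsg.IsExtraspecial 2 E ∧ Nat.card E = 2 ^ (2 * n + 1) ∧ sSup {k : ℕ | ∃ A : Subgroup E, Cfsg.IsElementaryAbelian 2 A ∧ Nat.card A = 2 ^ k} = r := by
  obtain ⟨m, rfl⟩ : ∃ m, n = m + 1 := ⟨n - 1, by omega⟩
  intro r hr
  rcases hr with rfl | hr
  · exact ⟨Ex m 1, inferInstance, inferInstance, extraspecial m 1, card_ex m 1,
      (isGreatest_minus m).csSup_eq⟩
  · have hr' : r = m + 1 + 1 := hr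
    subst hr'
    exact ⟨Ex m 0, inferInstance, inferInstance, extraspecial m 0, card_ex m 0,
      (isGreatest_plus m).csSup_eq⟩

end Cfsg.Agent.S5396
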