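import Cfsg.Statements.S5406
import Cfsg.Agent.Lib.helper91.MonsterQFacts
import Cfsg.Agent.Lib.helper91.MonsterQ2Facts

set_option autoImplicit false
open Cfsg

namespace Cfsg.Agent.S5406

open Cfsg.Agent.Lib.helper91

/-- the main argument, with the facts on the lattice as hypotheses -/
theorem main_aux (F : MQFacts) (F2 : MQFacts2) {G : Type*} [Group G] [Finite G] (z : G)
    (Q : Subgroup (Subgroup.centralizer ({z} : Set G))) [Q.Normal] (hM : Cfsg.IsOfMonsterType z Q)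
    (s t : G)
    (hsQ : ∃ hsc : s ∈ Subgroup.centralizer ({z} : Set G),
      (⟨s, hsc⟩ : Subgroup.centralizer ({z} : Set G)) ∈ Q)
    (htQ : ∃ htc : t ∈ Subgroup.centralizer ({z} : Set G),
      (⟨t, htc⟩ : Subgroup.centralizer ({z} : Set G)) ∈ Q)
    (hs : IsConj z s) (ht : IsConj z t) (hs1 : s ≠ z) (ht1 : t ≠ z) :
    ∃ h ∈ Subgroup.centralizer ({z} : Set G), h * s * h⁻¹ = t := by
  obtain ⟨hS, e, ψ, hψ⟩ := hM
  obtain ⟨hsc, hsQ'⟩ := hsQ
  obtain ⟨htc, htQ'⟩ := htQ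
  obtain ⟨zQ, hzQ, hzc, hz1, hzall⟩ := mq_center_cases z Q hS
  obtain ⟨ks, hks⟩ := isConj_iff.mp hs
  obtain ⟨kt, hkt⟩ := isConj_iff.mp ht
  obtain ⟨-, ys, hys64, hys⟩ := mq_conj_type Q e ψ F F2 hS hψ ⟨⟨s, hsc⟩, hsQ'⟩ ks hks.symm
    (by rw [hks]; exact hs1)
  obtain ⟨htnc, yt, hyt64, hyt⟩ := mq_conj_type Q e ψ F F2 hS hψ ⟨⟨t, htc⟩, htQ'⟩ kt hkt.symm
    (by rw [hkt]; exact ht1)
  obtain ⟨h, hh⟩ := mq_conj_64 Q e ψ F hψ zQ hzall hzc ⟨⟨s, hsc⟩, hsQ'⟩ ⟨⟨t, htc⟩, htQ'⟩ htnc ys yt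
    hys hyt hys64 hyt64
  exact ⟨h, h.2, congrArg Subtype.val hh⟩


/-- Let G be a finite group of Monster type at the involution z with Q the extraspecial normal subgroup of order 2^25 of C = C_G(z) (so C/Q is identified with the first Conway group with Q modulo its centre the Leech lattice modulo 2, and z is not weakly closed in Q). Then C acts transitively by conjugation on the conjugates of z that lie in Q and differ from z. -/
theorem result {G : Type*} [Group G] [Finite G] (z : G) (Q : Subgroup (Subgroup.centralizer ({z} : Set G))) [Q.Normal] (hM : Cfsg.IsOfMonsterType z Q) (s t : G) (hsQ : ∃ hsc : s ∈ Subgroup.centralizer ({z} : Set G), (⟨s, hsc⟩ : Subgroup.centralizer ({z} : Set G)) ∈ Q) (htQ : ∃ htc : t ∈ Subgroup.centralizer ({z} : Set G), (⟨t, htc⟩ : Subgroup.centralizer ({z} : Set G)) ∈ Q) (hs : IsConj z s) (ht : IsConj z t) (hs1 : s ≠ z) (ht1 : t ≠ z) : ∃ h ∈ Subgroup.centralizer ({z} : Set G), h *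 s * h⁻¹ = t := by
  exact main_aux mqFacts mqFacts2 z Q hM s t hsQ htQ hs ht hs1 ht1

end Cfsg.Agent.S5406
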