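import Cfsg.Statements.S5407
import Cfsg.Agent.Lib.helper91.MonsterQFacts
import Cfsg.Agent.Lib.helper91.MonsterQ2Facts

set_option autoImplicit false
open Cfsg

namespace Cfsg.Agent.S5407

open Cfsg.Agent.Lib.helper91

/-- the main argument, with the facts on the lattice as hypotheses -/
theorem main_aux (F : MQFacts) (F2 : MQFacts2) {G : Type*} [Group G] [Finite G] (z : G)
    (Q : Subgroup (Subgroup.centralizer ({z} : Set G))) [Q.Normal] (hM : Cfsg.IsOfMonsterType z Q)
    (e : (Subgroup.centralizer ({z} : Set G)) ⧸ Q ≃* Cfsg.Spor.Co1)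
    (ψ : Cfsg.leechLattice → Q ⧸ Subgroup.center Q) (hψ : Cfsg.IsLeechModTwoIso Q e ψ) (x : Q) :
    (IsConj z ((x : Subgroup.centralizer ({z} : Set G)) : G) ∧
      ((x : Subgroup.centralizer ({z} : Set G)) : G) ≠ z) ↔
    ∃ v : Cfsg.leechLattice, Cfsg.sqNorm (v : Cfsg.GolayPt → ℤ) = 64 ∧ ψ v = QuotientGroup.mk x := by
  obtain ⟨hS, -⟩ := hM
  obtain ⟨zQ, hzQ, hzc, hz1, hzall⟩ := mq_center_cases z Q hS
  constructor
  · rintro ⟨hconj, hne⟩
    obtain ⟨k, hk⟩ := isConj_iff.mp hconj
    exact (mq_conj_type Q e ψ F F2 hS hψ x k hk.symm (by rw [hk]; exact hne)).2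
  · rintro ⟨v, hv, hvx⟩
    have hxc : x ∉ Subgroup.center Q := by
      intro h
      have h1 : ψ v = 1 := by
        rw [hvx]
        exact (QuotientGroup.eq_one_iff x).mpr h
      obtain ⟨w, hw⟩ := (hψ.2.2.1 v).mp h1
      rw [hw] at hv
      exact F2.dbl64 w hv
    obtain ⟨g, ⟨hwc, hwQ⟩, hwz⟩ := hS.2.2.2.2
    obtain ⟨-, yw, hyw64, hyw⟩ := mq_conj_type Q e ψ F F2 hS hψ ⟨⟨g * z * g⁻¹, hwc⟩, hwQ⟩ g rfl hwz
    obtain ⟨h, hh⟩ := mq_conj_64 Q e ψ F hψ zQ hzall hzc ⟨⟨g * z * g⁻¹, hwc⟩, hwQ⟩ x hxc yw v hyw hvx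
      hyw64 hv
    refine ⟨isConj_iff.mpr ⟨(h : G) * g, ?_⟩, ?_⟩
    · have h1 : (h : G) * (g * z * g⁻¹) * (h : G)⁻¹ =
          ((x : Subgroup.centralizer ({z} : Set G)) : G) := congrArg Subtype.val hh
      rw [← h1]
      group
    · intro hxz
      apply hxc
      have h2 : x = zQ := Subtype.ext (Subtype.ext (hxz.trans hzQ.symm))
      rw [h2]
      exact hzc


/-- Let G be a finite group of Monster type at the involution z with Q the extraspecial normal subgroup of order 2^25 of C = C_G(z) (so C/Q is identified with the first Conway group with Q modulo its centre the Leech lattice modulo 2, and z is not weakly closed in Q). Then under any such identification ψ of the Leech lattice modulo 2 with Q modulo its centre, an element x of Q is a conjugate of z other than z exactly when x modulo the centre is the image under ψ of a lattice vector of squared length 64 in the coordinates used here, that is, of norm 8 in the customary normalisation in which the minimal vectors have norm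 4 (twice the minimal norm). -/
theorem result {G : Type*} [Group G] [Finite G] (z : G) (Q : Subgroup (Subgroup.centralizer ({z} : Set G))) [Q.Normal] (hM : Cfsg.IsOfMonsterType z Q) (e : (Subgroup.centralizer ({z} : Set G)) ⧸ Q ≃* Cfsg.Spor.Co1) (ψ : Cfsg.leechLattice → Q ⧸ Subgroup.center Q) (hψ : Cfsg.IsLeechModTwoIso Q e ψ) (x : Q) : (IsConj z ((x : Subgroup.centralizer ({z} : Set G)) : G) ∧ ((x : Subgroup.centralizer ({z} : Set G)) : G) ≠ z) ↔ ∃ v : Cfsg.leechLattice, Cfsg.sqNorm (v : Cfsg.GolayPt → ℤ) = 64 ∧ ψ v = QuotientGroup.mk x := by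
  exact main_aux mqFacts mqFacts2 z Q hM e ψ hψ x

end Cfsg.Agent.S5407
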