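import Cfsg.Statements.S5408
import Cfsg.Agent.Lib.helper93.LeechQuad
import Cfsg.Agent.Lib.helper93.LeechSingular

set_option autoImplicit false
open Cfsg

namespace Cfsg.Agent.S5408

open Classical in
/-- indicator of non-triviality, with values in `ZMod 2` -/
noncomputable def chi {P : Type*} [Group P] (x : P) : ZMod 2 := if x = 1 then 0 else 1

theorem chi_eq_zero_iff {P : Type*} [Group P] (x : P) : chi x = 0 ↔ x = 1 := by
  unfold chi
  split_ifs with h
  · simp [h]
  · simp [h]

theorem chi_one {P : Type*} [Group P] : chi (1 : P) = 0 := (chi_eq_zero_iff 1).mpr rfl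

theorem chi_of_ne {P : Type*} [Group P] (x : P) (h : x ≠ 1) : chi x = 1 := by
  unfold chi
  rw [if_neg h]

/-- two non-trivial elements of a centre of order 2 are equal -/
theorem center_unique {P : Type*} [Group P] (hZ : Nat.card (Subgroup.center P) = 2)
    (a b : P) (ha : a ∈ Subgroup.center P) (hb : b ∈ Subgroup.center P) (ha1 : a ≠ 1) (hb1 : b ≠ 1) :
    a = b := by
  obtain ⟨y, -, hy⟩ := (Nat.card_eq_two_iff' (1 : Subgroup.center P)).mp hZ
  have h1 : (⟨a, ha⟩ : Subgroup.center P) = y := hy _ (fun h => ha1 (congrArg Subtype.val h))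
  have h2 : (⟨b, hb⟩ : Subgroup.center P) = y := hy _ (fun h => hb1 (congrArg Subtype.val h))
  exact congrArg Subtype.val (h1.trans h2.symm)

/-- an element of a centre of order 2 has square 1 -/
theorem center_sq {P : Type*} [Group P] (hZ : Nat.card (Subgroup.center P) = 2)
    (a : P) (ha : a ∈ Subgroup.center P) : a * a = 1 := by
  by_contra h
  by_cases ha1 : a = 1
  · exact h (by rw [ha1, mul_one])
  · have := center_unique hZ (a * a) a (mul_mem ha ha) ha h ha1
    exact ha1 (by simpa using this)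

theorem chi_mul {P : Type*} [Group P] (hZ : Nat.card (Subgroup.center P) = 2)
    (a b : P) (ha : a ∈ Subgroup.center P) (hb : b ∈ Subgroup.center P) :
    chi (a * b) = chi a + chi b := by
  by_cases ha1 : a = 1
  · rw [ha1, one_mul, chi_one, zero_add]
  by_cases hb1 : b = 1
  · rw [hb1, mul_one, chi_one, add_zero]
  have e := center_unique hZ a b ha hb ha1 hb1
  rw [e, center_sq hZ b hb, chi_one, chi_of_ne b hb1]
  decide

/-- the square of a product, when commutators are central -/
theorem sq_mul {P : Type*} [Group P] (x y : P) (hc : y * x * y⁻¹ * x⁻¹ ∈ Subgroup.center P) :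
    (x * y) * (x * y) = (y * x * y⁻¹ * x⁻¹) * (x * x) * (y * y) := by
  have h := Subgroup.mem_center_iff.mp hc x
  calc (x * y) * (x * y) = x * (y * x * y⁻¹ * x⁻¹) * (x * (y * y)) := by group
    _ = (y * x * y⁻¹ * x⁻¹) * x * (x * (y * y)) := by rw [h]
    _ = (y * x * y⁻¹ * x⁻¹) * (x * x) * (y * y) := by group

theorem comm_mul {P : Type*} [Group P] (a b c : P) (hc : c * b * c⁻¹ * b⁻¹ ∈ Subgroup.center P) :
    c * (a * b) * c⁻¹ * (a * b)⁻¹ = (c * b * c⁻¹ * b⁻¹) * (c * a * c⁻¹ * a⁻¹) := by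
  have h := Subgroup.mem_center_iff.mp hc (c * a * c⁻¹)
  calc c * (a * b) * c⁻¹ * (a * b)⁻¹ = (c * a * c⁻¹) * (c * b * c⁻¹ * b⁻¹) * a⁻¹ := by group
    _ = (c * b * c⁻¹ * b⁻¹) * (c * a * c⁻¹) * a⁻¹ := by rw [h]
    _ = (c * b * c⁻¹ * b⁻¹) * (c * a * c⁻¹ * a⁻¹) := by group

theorem chi_sq_mul {P : Type*} [Group P] (hZ : Nat.card (Subgroup.center P) = 2)
    (hsq : ∀ q : P, q * q ∈ Subgroup.center P)
    (hcm : ∀ q r : P, q * r * q⁻¹ * r⁻¹ ∈ Subgroup.center P) (x y : P) :
    chi ((x * y) * (x * y)) = chi (y * x * y⁻¹ * x⁻¹) + chi (x * x) + chi (y * y) := by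
  rw [sq_mul x y (hcm y x), chi_mul hZ _ _ (mul_mem (hcm y x) (hsq x)) (hsq y),
    chi_mul hZ _ _ (hcm y x) (hsq x)]

/-- the cubic identity of the squaring map -/
theorem chi_cubic {P : Type*} [Group P] (hZ : Nat.card (Subgroup.center P) = 2)
    (hsq : ∀ q : P, q * q ∈ Subgroup.center P)
    (hcm : ∀ q r : P, q * r * q⁻¹ * r⁻¹ ∈ Subgroup.center P) (a b c : P) :
    chi ((a * b * c) * (a * b * c)) + chi (a * a) + chi (b * b) + chi (c * c) =
      chi ((a * b) * (a * b)) + chi ((a * c) * (a * c)) + chi ((b * c) * (b * c)) := by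
  rw [chi_sq_mul hZ hsq hcm (a * b) c, chi_sq_mul hZ hsq hcm a b, chi_sq_mul hZ hsq hcm a c,
    chi_sq_mul hZ hsq hcm b c, comm_mul a b c (hcm c b), chi_mul hZ _ _ (hcm c b) (hcm c a)]
  ring

/-- the squaring map on the quotient by the centre -/
noncomputable def kq {P : Type*} [Group P] (x : P ⧸ Subgroup.center P) : ZMod 2 :=
  chi (x.out * x.out)

theorem kq_mk {P : Type*} [Group P] (hZ : Nat.card (Subgroup.center P) = 2) (q : P) :
    kq (QuotientGroup.mk q : P ⧸ Subgroup.center P) = chi (q * q) := by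
  obtain ⟨h, hh⟩ := QuotientGroup.mk_out_eq_mul (Subgroup.center P) q
  unfold kq
  rw [hh]
  have h1 := Subgroup.mem_center_iff.mp h.2 q
  have h2 := center_sq hZ h.1 h.2
  have : q * (h : P) * (q * (h : P)) = q * q := by
    calc q * (h : P) * (q * (h : P)) = q * ((h : P) * q) * (h : P) := by group
      _ = q * (q * (h : P)) * (h : P) := by rw [h1]
      _ = q * q * ((h : P) * (h : P)) := by group
      _ = q * q := by rw [h2, mul_one]
  rw [this]

/-- the main argument, with the two facts on the lattice as hypotheses -/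
theorem main_aux {G : Type*} [Group G] [Finite G] (z : G)
    (Q : Subgroup (Subgroup.centralizer ({z} : Set G))) [Q.Normal] (hM : Cfsg.IsOfMonsterType z Q)
    (hqu : ∀ (Qf : ↥leechLattice → ZMod 2), (∀ v w : ↥leechLattice, Qf (v + (w + w)) = Qf v) →
      (∀ u v w : ↥leechLattice,
        Qf (u + v + w) + Qf u + Qf v + Qf w = Qf (u + v) + Qf (u + w) + Qf (v + w)) →
      (∀ (g : ↥Co0) (v : ↥leechLattice), Qf (g.1 v) = Qf v) → (∃ v : ↥leechLattice, Qf v ≠ 0) →
      ∀ v : ↥leechLattice, Qf v = ((sqNorm (v : GolayPt → ℤ) / 16 : ℤ) : ZMod 2))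
    (A : AddSubgroup (GolayPt → ℤ)) (hA2 : ∀ v ∈ leechLattice, (2 : ℤ) • v ∈ A)
    (hA3 : (A.addSubgroupOf leechLattice).index = 2 ^ 12)
    (hA4 : ∀ v ∈ A, (32 : ℤ) ∣ sqNorm v) :
    ∃ E : Subgroup Q, Cfsg.IsElementaryAbelian 2 E ∧ Nat.card E = 2 ^ 13 := by
  obtain ⟨⟨-, -, hES, hcard, -⟩, e, ψ, hadd, hsurj, hker, hconj⟩ := hM
  have hZ : Nat.card (Subgroup.center Q) = 2 := hES.2
  -- squares and commutators are central
  have hdbl : ∀ v : ↥leechLattice, ψ (v + v) = 1 := fun v => (hker _).mpr ⟨v, rfl⟩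
  have hsq : ∀ q : Q, q * q ∈ Subgroup.center Q := by
    intro q
    obtain ⟨v, hv⟩ := hsurj (QuotientGroup.mk q)
    have h1 : (QuotientGroup.mk (q * q) : Q ⧸ Subgroup.center Q) = 1 := by
      rw [QuotientGroup.mk_mul, ← hv, ← hadd, hdbl]
    exact (QuotientGroup.eq_one_iff _).mp h1
  have hcm : ∀ q r : Q, q * r * q⁻¹ * r⁻¹ ∈ Subgroup.center Q := by
    intro q r
    obtain ⟨v, hv⟩ := hsurj (QuotientGroup.mk q)
    obtain ⟨w, hw⟩ := hsurj (QuotientGroup.mk r)
    have h1 : (QuotientGroup.mk (q * r * q⁻¹ * r⁻¹) : Q ⧸ Subgroup.center Q) = 1 := by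
      rw [QuotientGroup.mk_mul, QuotientGroup.mk_mul, QuotientGroup.mk_mul, QuotientGroup.mk_inv,
        QuotientGroup.mk_inv, ← hv, ← hw, ← hadd, add_comm, hadd]
      group
    exact (QuotientGroup.eq_one_iff _).mp h1
  -- the quadratic form
  set K : ↥leechLattice → ZMod 2 := fun v => kq (ψ v) with hK
  have hKmk : ∀ (v : ↥leechLattice) (q : Q), ψ v = QuotientGroup.mk q → K v = chi (q * q) := by
    intro v q hq
    rw [hK]
    show kq (ψ v) = chi (q * q)
    rw [hq, kq_mk hZ]
  have hcoset : ∀ v w : ↥leechLattice, K (v + (w + w)) = K v := by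
    intro v w
    show kq (ψ (v + (w + w))) = kq (ψ v)
    rw [hadd, hdbl, mul_one]
  have hquad : ∀ u v w : ↥leechLattice,
      K (u + v + w) + K u + K v + K w = K (u + v) + K (u + w) + K (v + w) := by
    intro u v w
    obtain ⟨a, ha⟩ := QuotientGroup.mk_surjective (ψ u)
    obtain ⟨b, hb⟩ := QuotientGroup.mk_surjective (ψ v)
    obtain ⟨c, hc⟩ := QuotientGroup.mk_surjective (ψ w)
    rw [hKmk (u + v + w) (a * b * c) (by rw [hadd, hadd, ← ha, ← hb, ← hc]; rfl),
      hKmk u a ha.symm, hKmk v b hb.symm, hKmk w c hc.symm,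
      hKmk (u + v) (a * b) (by rw [hadd, ← ha, ← hb]; rfl),
      hKmk (u + w) (a * c) (by rw [hadd, ← ha, ← hc]; rfl),
      hKmk (v + w) (b * c) (by rw [hadd, ← hb, ← hc]; rfl)]
    exact chi_cubic hZ hsq hcm a b c
  have hinv : ∀ (g : ↥Co0) (v : ↥leechLattice), K (g.1 v) = K v := by
    intro g v
    obtain ⟨h, hh⟩ := QuotientGroup.mk_surjective (e.symm (QuotientGroup.mk g))
    have hgh : (QuotientGroup.mk g : Spor.Co1) = e (QuotientGroup.mk h) := by
      rw [hh, MulEquiv.apply_symm_apply]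
    obtain ⟨q, hq⟩ := QuotientGroup.mk_surjective (ψ v)
    have h1 := hconj h g hgh v q hq.symm
    have h2 : g • v = g.1 v := rfl
    rw [h2] at h1
    rw [hKmk _ _ h1, hKmk v q hq.symm]
    have h3 : ∀ x y : Q, (x = 1 ↔ y = 1) → chi x = chi y := by
      intro x y hxy
      by_cases hx : x = 1
      · rw [hx, hxy.mp hx]
      · rw [chi_of_ne x hx, chi_of_ne y (fun hy => hx (hxy.mpr hy))]
    apply h3
    have h4 : h * (q : Subgroup.centralizer ({z} : Set G)) * h⁻¹ *
        (h * (q : Subgroup.centralizer ({z} : Set G)) * h⁻¹) =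
        h * ((q : Subgroup.centralizer ({z} : Set G)) * (q : Subgroup.centralizer ({z} : Set G))) *
          h⁻¹ := by group
    constructor
    · intro H
      have H' : h * (q : Subgroup.centralizer ({z} : Set G)) * h⁻¹ *
          (h * (q : Subgroup.centralizer ({z} : Set G)) * h⁻¹) = 1 := congrArg Subtype.val H
      rw [h4, conj_eq_one_iff] at H'
      exact Subtype.ext H'
    · intro H
      have H' : (q : Subgroup.centralizer ({z} : Set G)) * (q : Subgroup.centralizer ({z} : Set G)) = 1 :=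
        congrArg Subtype.val H
      apply Subtype.ext
      show h * (q : Subgroup.centralizer ({z} : Set G)) * h⁻¹ *
          (h * (q : Subgroup.centralizer ({z} : Set G)) * h⁻¹) = 1
      rw [h4, conj_eq_one_iff]
      exact H'
  -- the form vanishes on the singular sublattice
  have hKA : ∀ v : ↥leechLattice, (v : GolayPt → ℤ) ∈ A → K v = 0 := by
    intro v hv
    by_cases hne : ∃ v : ↥leechLattice, K v ≠ 0
    · rw [hqu K hcoset hquad hinv hne v]
      obtain ⟨k, hk⟩ := hA4 _ hv
      have h16 : sqNorm (v : GolayPt → ℤ) / 16 = 2 * k := by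
        rw [hk]
        omega
      rw [h16]
      push_cast
      have e2 : (2 : ZMod 2) = 0 := by decide
      rw [e2, zero_mul]
    · by_contra h
      exact hne ⟨v, h⟩
  have hsqA : ∀ (v : ↥leechLattice) (q : Q), (v : GolayPt → ℤ) ∈ A → ψ v = QuotientGroup.mk q →
      q * q = 1 := by
    intro v q hv hq
    have h1 := hKA v hv
    rw [hKmk v q hq] at h1
    exact (chi_eq_zero_iff _).mp h1
  -- the subgroup
  let ψm : Multiplicative ↥leechLattice →* (Q ⧸ Subgroup.center Q) :=
    MonoidHom.mk' (fun v => ψ (Multiplicative.toAdd v)) (fun a b => hadd _ _)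
  have hψm : ∀ v : Multiplicative ↥leechLattice, ψm v = ψ (Multiplicative.toAdd v) := fun v => rfl
  have hψms : Function.Surjective ψm := by
    intro x
    obtain ⟨v, hv⟩ := hsurj x
    exact ⟨Multiplicative.ofAdd v, hv⟩
  let A' : Subgroup (Multiplicative ↥leechLattice) :=
    AddSubgroup.toSubgroup (A.addSubgroupOf leechLattice)
  have hA'mem : ∀ v : Multiplicative ↥leechLattice,
      v ∈ A' ↔ ((Multiplicative.toAdd v : ↥leechLattice) : GolayPt → ℤ) ∈ A := fun v => Iff.rfl
  have hA'idx : A'.index = 2 ^ 12 := by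
    rw [← hA3]
    exact AddSubgroup.index_toSubgroup _
  have hkerle : ψm.ker ≤ A' := by
    intro v hv
    rw [MonoidHom.mem_ker, hψm] at hv
    obtain ⟨w, hw⟩ := (hker _).mp hv
    rw [hA'mem, hw]
    have : ((w + w : ↥leechLattice) : GolayPt → ℤ) = (2 : ℤ) • (w : GolayPt → ℤ) := by
      rw [two_smul]
      rfl
    rw [this]
    exact hA2 _ w.2
  let B : Subgroup (Q ⧸ Subgroup.center Q) := A'.map ψm
  have hBidx : B.index = 2 ^ 12 := by
    rw [← hA'idx]
    exact Subgroup.index_map_eq A' hψms hkerle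
  let E : Subgroup Q := B.comap (QuotientGroup.mk' (Subgroup.center Q))
  have hEidx : E.index = 2 ^ 12 := by
    rw [← hBidx]
    exact Subgroup.index_comap_of_surjective B (QuotientGroup.mk'_surjective _)
  have hEsq : ∀ a ∈ E, a * a = 1 := by
    intro a ha
    obtain ⟨v, hv, hva⟩ := ha
    exact hsqA (Multiplicative.toAdd v) a ((hA'mem v).mp hv) hva
  refine ⟨E, ⟨⟨⟨fun a b => ?_⟩⟩, fun a ha => ?_⟩, ?_⟩
  · have h1 := hEsq _ (E.mul_mem a.2 b.2)
    have h2 := hEsq _ a.2
    have h3 := hEsq _ b.2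
    apply Subtype.ext
    show (a : Q) * (b : Q) = (b : Q) * (a : Q)
    have h4 : (a : Q) * (b : Q) * ((b : Q) * (a : Q)) = 1 := by
      calc (a : Q) * (b : Q) * ((b : Q) * (a : Q)) = (a : Q) * ((b : Q) * (b : Q)) * (a : Q) := by group
        _ = 1 := by rw [h3, mul_one, h2]
    exact mul_left_cancel (h1.trans h4.symm)
  · rw [pow_two]
    exact hEsq a ha
  · have h1 := Subgroup.card_mul_index E
    rw [hEidx, hcard] at h1
    have h2 : Nat.card E * 2 ^ 12 = 2 ^ 13 * 2 ^ 12 := by
      rw [h1]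
      norm_num
    exact Nat.eq_of_mul_eq_mul_right (by norm_num) h2


/-- Let G be a finite group of Monster type at the involution z with Q the extraspecial normal subgroup of order 2^25 of C = C_G(z) (so C/Q is identified with the first Conway group with Q modulo its centre the Leech lattice modulo 2, and z is not weakly closed in Q). Then Q is of plus type: it contains an elementary abelian subgroup of order 2^13. -/
theorem result {G : Type*} [Group G] [Finite G] (z : G) (Q : Subgroup (Subgroup.centralizer ({z} : Set G))) [Q.Normal] (hM : Cfsg.IsOfMonsterType z Q) : ∃ E : Subgroup Q, Cfsg.IsElementaryAbelian 2 E ∧ Nat.card E = 2 ^ 13 := by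
  obtain ⟨A, -, hA2, hA3, hA4⟩ := Cfsg.Agent.Lib.helper93.exists_singular_sublattice
  exact main_aux z Q hM
    (fun Qf h1 h2 h3 h4 v => Cfsg.Agent.Lib.helper93.quad_unique Qf h1 h2 h3 h4 v) A hA2 hA3 hA4

end Cfsg.Agent.S5408
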