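import Cfsg.Statements.S5410
import Cfsg.Agent.Lib.helper91.MonsterQFacts
import Cfsg.Agent.Lib.helper91.MonsterQ2Facts
import Cfsg.Agent.Lib.helper91.MonsterQ4Facts

set_option autoImplicit false
open Cfsg

namespace Cfsg.Agent.S5410

open Cfsg.Agent.Lib.helper91

/-- the main argument, with the facts on the lattice as hypotheses -/
theorem main_aux (F : MQFacts) (F2 : MQFacts2) (F4 : MQFacts4) {G : Type*} [Group G] [Finite G]
    (z : G) (Q : Subgroup (Subgroup.centralizer ({z} : Set G))) [Q.Normal]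
    (hM : Cfsg.IsOfMonsterType z Q) (s : G)
    (hsQ : ∃ hsc : s ∈ Subgroup.centralizer ({z} : Set G),
      (⟨s, hsc⟩ : Subgroup.centralizer ({z} : Set G)) ∈ Q)
    (hs1 : s ≠ z) (g : G) (hg : g * z * g⁻¹ = s)
    (X E : Subgroup ((Subgroup.centralizer ({z} : Set G)) ⧸ Q))
    (hX : X = ((Subgroup.centralizer ({z} : Set G) ⊓ Subgroup.centralizer ({s} : Set G)).subgroupOf
      (Subgroup.centralizer ({z} : Set G))).map (QuotientGroup.mk' Q))
    (hE : E = (((Q.map (Subgroup.centralizer ({z} : Set G)).subtype).map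
      (MulAut.conj g).toMonoidHom ⊓ Subgroup.centralizer ({z} : Set G)).subgroupOf
      (Subgroup.centralizer ({z} : Set G))).map (QuotientGroup.mk' Q)) :
    E ≤ X ∧ (∀ x ∈ X, ∀ y ∈ E, x * y * x⁻¹ ∈ E) ∧ Cfsg.IsElementaryAbelian 2 E ∧
      Nat.card E = 2 ^ 11 ∧ ∃ K : Subgroup ((Subgroup.centralizer ({z} : Set G)) ⧸ Q),
        K ≤ X ∧ E ⊓ K = ⊥ ∧ E ⊔ K = X ∧ Nonempty (K ≃* Cfsg.M24) := by
  obtain ⟨hS, e, ψ, hψ⟩ := hM
  obtain ⟨hsc, hsQ'⟩ := hsQ
  refine mq_split Q e ψ F F2 F4 hS hψ g ⟨⟨s, hsc⟩, hsQ'⟩ hg.symm (by rw [hg]; exact hs1) X E ?_ ?_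
  · intro x
    rw [hX, Subgroup.mem_map]
    constructor
    · rintro ⟨c, hc, rfl⟩
      refine ⟨c, ?_, rfl⟩
      have h1 : (c : G) ∈ Subgroup.centralizer ({s} : Set G) :=
        (Subgroup.mem_inf.mp (Subgroup.mem_subgroupOf.mp hc)).2
      apply Subtype.ext
      exact Subgroup.mem_centralizer_singleton_iff.mp h1
    · rintro ⟨c, hc, rfl⟩
      refine ⟨c, ?_, rfl⟩
      apply Subgroup.mem_subgroupOf.mpr
      refine Subgroup.mem_inf.mpr ⟨c.2, ?_⟩
      apply Subgroup.mem_centralizer_singleton_iff.mpr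
      exact congrArg Subtype.val hc
  · intro x
    rw [hE, Subgroup.mem_map]
    constructor
    · rintro ⟨c, hc, rfl⟩
      obtain ⟨h1, h2⟩ := Subgroup.mem_inf.mp (Subgroup.mem_subgroupOf.mp hc)
      obtain ⟨q', hq', hconj⟩ := Subgroup.mem_map.mp h1
      obtain ⟨q, hq, hqq'⟩ := Subgroup.mem_map.mp hq'
      refine ⟨c, ⟨q, hq⟩, ?_, rfl⟩
      rw [← hconj, ← hqq']
      rfl
    · rintro ⟨c, q, hcq, rfl⟩
      refine ⟨c, ?_, rfl⟩
      apply Subgroup.mem_subgroupOf.mpr
      refine Subgroup.mem_inf.mpr ⟨?_, c.2⟩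
      exact Subgroup.mem_map.mpr ⟨((q : Subgroup.centralizer ({z} : Set G)) : G),
        Subgroup.mem_map.mpr ⟨(q : Subgroup.centralizer ({z} : Set G)), q.2, rfl⟩, hcq.symm⟩


/-- Let G be a finite group of Monster type at the involution z with Q the extraspecial normal subgroup of order 2^25 of C = C_G(z) (so C/Q is identified with the first Conway group with Q modulo its centre the Leech lattice modulo 2, and z is not weakly closed in Q). Let g in G with s = g z g⁻¹ a member of Q other than z, let X be the image in C/Q of the centralizer of s in C, and let E be the image in C/Q of the intersection of g Q g⁻¹ with C. Then E is a normal subgroup of X, elementary abelian of order 2^11, and it has a complement in X isomorphic to the Mathieu group of degree 24 (the automorphism group of the length-24 binary Golay code). -/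
theorem result {G : Type*} [Group G] [Finite G] (z : G) (Q : Subgroup (Subgroup.centralizer ({z} : Set G))) [Q.Normal] (hM : Cfsg.IsOfMonsterType z Q) (s : G) (hsQ : ∃ hsc : s ∈ Subgroup.centralizer ({z} : Set G), (⟨s, hsc⟩ : Subgroup.centralizer ({z} : Set G)) ∈ Q) (hs : IsConj z s) (hs1 : s ≠ z) (g : G) (hg : g * z * g⁻¹ = s) (X E : Subgroup ((Subgroup.centralizer ({z} : Set G)) ⧸ Q)) (hX : X = ((Subgroup.centralizer ({z} : Set G) ⊓ Subgroup.centralizer ({s} : Set G)).subgroupOf (Subgroup.centralizer ({z} : Set G))).map (QuotientGroup.mk' Q)) (hE : E = (((Q.map (Subgroup.centralizer ({z} : Set G)).subtype).map (MulAut.conj g).toMonoidHom ⊓ Subgroup.centralizer ({z} : Set G)).subgroupOf (Subgroup.centralizer ({z} : Set G))).map (QuotientGroup.mk' Q)) : E ≤ X ∧ (∀ x ∈ X, ∀ y ∈ E, x * y * x⁻¹ ∈ E) ∧ Cfsg.IsElementaryAbelian 2 E ∧ Nat.card E = 2 ^ 11 ∧ ∃ K : Subgroup ((Subgroup.centralizer ({z} : Set G)) ⧸ Q), K ≤ X ∧ E ⊓ K = ⊥ ∧ E ⊔ K = X ∧ Nonempty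 (K ≃* Cfsg.M24) := by
  exact main_aux mqFacts mqFacts2 mqFacts4 z Q hM s hsQ hs1 g hg X E hX hE

end Cfsg.Agent.S5410
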