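import Cfsg.Statements.S5420
import Cfsg.Agent.Lib.helper92.Basic

set_option autoImplicit false
open Cfsg

namespace Cfsg.Agent.S5420

open Cfsg.Agent.Lib.helper92

/-- Let Q be an extraspecial 2-subgroup of the finite group G whose centralizer in G is its centre Z and which is normal in the centralizer of Z. If Z lies in the largest normal 2-subgroup of G, then Q is a large extraspecial 2-subgroup of G: it normalizes no non-trivial subgroup of G of odd order. -/
theorem result {G : Type*} [Group G] [Finite G] (Q : Subgroup G) (hL1 : Cfsg.IsExtraspecial 2 ↥Q) (hL2 : Subgroup.centralizer (Q : Set G) = ((Subgroup.center ↥Q).map Q.subtype)) (hL3 : Subgroup.centralizer (((Subgroup.center ↥Q).map Q.subtype) : Set G) ≤ Subgroup.normalizer (Q : Set G)) (hZ : ((Subgroup.center ↥Q).map Q.subtype) ≤ Cfsg.pCore 2 G) : Cfsg.IsLargeExtraspecial Q := by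
  refine ⟨hL1, hL2, hL3, ?_⟩
  intro K hK hQK
  have : Fact (Nat.Prime 2) := ⟨Nat.prime_two⟩
  have hP : IsPGroup 2 (Cfsg.pCore 2 G) := pCore_isPGroup 2 G
  have hQ2 : IsPGroup 2 Q := hL1.1.1
  have hZQ : (Subgroup.center ↥Q).map Q.subtype ≤ Q := by
    rintro _ ⟨x, -, rfl⟩
    exact x.2
  rw [Subgroup.eq_bot_iff_forall]
  intro k hk
  -- k centralizes Z
  have hkZ : k ∈ Subgroup.centralizer (((Subgroup.center ↥Q).map Q.subtype : Subgroup G) : Set G) := by
    rw [Subgroup.mem_centralizer_iff]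
    intro c hc
    have hcK : c * k * c⁻¹ ∈ K := ((Subgroup.mem_normalizer_iff.1 (hQK (hZQ hc))) k).1 hk
    have h1 : c * k * c⁻¹ * k⁻¹ ∈ K := K.mul_mem hcK (K.inv_mem hk)
    have hcP : c ∈ Cfsg.pCore 2 G := hZ hc
    have h2 : c * k * c⁻¹ * k⁻¹ ∈ Cfsg.pCore 2 G := by
      have : k * c⁻¹ * k⁻¹ ∈ Cfsg.pCore 2 G :=
        (Cfsg.pCore_normal 2 G).conj_mem _ ((Cfsg.pCore 2 G).inv_mem hcP) k
      have h3 := (Cfsg.pCore 2 G).mul_mem hcP this
      simpa [mul_assoc] using h3
    have h4 := eq_one_of_mem_odd_of_mem_two hK hP h1 h2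
    have : c * k * c⁻¹ = k := by
      have := mul_inv_eq_one.1 h4
      exact this
    calc c * k = c * k * c⁻¹ * c := by group
      _ = k * c := by rw [this]
  have hkN : k ∈ Subgroup.normalizer (Q : Set G) := hL3 hkZ
  -- k centralizes Q
  have hkQ : k ∈ Subgroup.centralizer (Q : Set G) := by
    rw [Subgroup.mem_centralizer_iff]
    intro q hq
    have hq' : q ∈ Q := hq
    have h1 : k * q * k⁻¹ ∈ Q := ((Subgroup.mem_normalizer_iff.1 hkN) q).1 hq'
    have h2 : k * q * k⁻¹ * q⁻¹ ∈ Q := Q.mul_mem h1 (Q.inv_mem hq')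
    have h3 : q * k⁻¹ * q⁻¹ ∈ K := ((Subgroup.mem_normalizer_iff.1 (hQK hq')) k⁻¹).1 (K.inv_mem hk)
    have h4 : k * q * k⁻¹ * q⁻¹ ∈ K := by
      have := K.mul_mem hk h3
      simpa [mul_assoc] using this
    have h5 := eq_one_of_mem_odd_of_mem_two hK hQ2 h4 h2
    have : k * q * k⁻¹ = q := mul_inv_eq_one.1 h5
    calc q * k = k * q * k⁻¹ * k := by rw [this]
      _ = k * q := by group
  rw [hL2] at hkQ
  exact eq_one_of_mem_odd_of_mem_two hK hQ2 hk (hZQ hkQ)

end Cfsg.Agent.S5420
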