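import Cfsg.Statements.S5421
import Cfsg.Agent.Lib.helper92.Basic

set_option autoImplicit false
open Cfsg

namespace Cfsg.Agent.S5421

open Cfsg.Agent.Lib.helper92

/-- Let Q be an extraspecial 2-subgroup of the finite group G whose centralizer in G is its centre Z and which is normal in the centralizer of Z. If some involution b of Q outside Z has Z inside the largest normal 2-subgroup of the centralizer of b, then Q is a large extraspecial 2-subgroup of G. -/
theorem result {G : Type*} [Group G] [Finite G] (Q : Subgroup G) (hL1 : Cfsg.IsExtraspecial 2 ↥Q) (hL2 : Subgroup.centralizer (Q : Set G) = ((Subgroup.center ↥Q).map Q.subtype)) (hL3 : Subgroup.centralizer (((Subgroup.center ↥Q).map Q.subtype) : Set G) ≤ Subgroup.normalizer (Q : Set G)) (b : G) (hbQ : b ∈ Q) (hbZ : b ∉ ((Subgroup.center ↥Q).map Q.subtype)) (hb : orderOf b = 2) (hZ : ((Subgroup.center ↥Q).map Q.subtype) ≤ (Cfsg.pCore 2 ↥(Subgroup.centralizer ({b} : Set G))).map (Subgroup.centralizer ({b} : Set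 G)).subtype) : Cfsg.IsLargeExtraspecial Q := by
  refine ⟨hL1, hL2, hL3, ?_⟩
  intro K hK hQK
  have : Fact (Nat.Prime 2) := ⟨Nat.prime_two⟩
  have hQ2 : IsPGroup 2 Q := hL1.1.1
  obtain ⟨z, hzZ, hz1, hzz, hzall⟩ := exists_center_generator Q hL1.2
  have hzQ : z ∈ Q := ((mem_center_map_iff Q z).1 hzZ).1
  have hzc : ∀ q ∈ Q, q * z = z * q := ((mem_center_map_iff Q z).1 hzZ).2
  have hzinv : z⁻¹ = z := inv_eq_of_mul_eq_one_left hzz
  have hnorm : ∀ q ∈ Q, ∀ k ∈ K, q * k * q⁻¹ ∈ K := fun q hq k hk =>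
    ((Subgroup.mem_normalizer_iff.1 (hQK hq)) k).1 hk
  -- Step 1: z centralizes no non-identity element of K
  have hfix : ∀ k ∈ K, z * k = k * z → k = 1 := by
    intro k hk hzk
    have hkZ : k ∈ Subgroup.centralizer (((Subgroup.center ↥Q).map Q.subtype : Subgroup G) : Set G) := by
      rw [Subgroup.mem_centralizer_iff]
      intro c hc
      rcases hzall c hc with rfl | rfl
      · simp
      · exact hzk
    have hkN : k ∈ Subgroup.normalizer (Q : Set G) := hL3 hkZ
    have hkQ : k ∈ Subgroup.centralizer (Q : Set G) := by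
      rw [Subgroup.mem_centralizer_iff]
      intro q hq
      have hq' : q ∈ Q := hq
      have h1 : k * q * k⁻¹ ∈ Q := ((Subgroup.mem_normalizer_iff.1 hkN) q).1 hq'
      have h2 : k * q * k⁻¹ * q⁻¹ ∈ Q := Q.mul_mem h1 (Q.inv_mem hq')
      have h3 : q * k⁻¹ * q⁻¹ ∈ K := hnorm q hq' k⁻¹ (K.inv_mem hk)
      have h4 : k * q * k⁻¹ * q⁻¹ ∈ K := by
        have := K.mul_mem hk h3
        simpa [mul_assoc] using this
      have h5 := eq_one_of_mem_odd_of_mem_two hK hQ2 h4 h2
      have : k * q * k⁻¹ = q := mul_inv_eq_one.1 h5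
      calc q * k = k * q * k⁻¹ * k := by rw [this]
        _ = k * q := by group
    rw [hL2] at hkQ
    exact eq_one_of_mem_odd_of_mem_two hK hQ2 hk ((mem_center_map_iff Q k).1 hkQ).1
  -- Step 2, 3: z inverts K, K is commutative
  have hinv := inverts_of_fixed_point_free hzz (hnorm z hzQ) hfix
  have hcomm := commute_of_inverts hinv
  have hbb : b * b = 1 := by
    have := pow_orderOf_eq_one b
    rw [hb, pow_two] at this
    exact this
  have hbinv : b⁻¹ = b := inv_eq_of_mul_eq_one_left hbb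
  -- Step 4: b centralizes no non-identity element of K
  have hfixb : ∀ k ∈ K, b * k = k * b → k = 1 := by
    intro k hk hbk
    obtain ⟨z', hz'P, hz'⟩ := hZ hzZ
    have hkC : k ∈ Subgroup.centralizer ({b} : Set G) := by
      rw [Subgroup.mem_centralizer_iff]
      intro x hx
      rw [Set.mem_singleton_iff] at hx
      subst hx
      exact hbk
    have hP : IsPGroup 2 (Cfsg.pCore 2 ↥(Subgroup.centralizer ({b} : Set G))) := pCore_isPGroup 2 _
    have h1 : z' * ⟨k, hkC⟩ * z'⁻¹ * (⟨k, hkC⟩ : Subgroup.centralizer ({b} : Set G))⁻¹ ∈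
        Cfsg.pCore 2 ↥(Subgroup.centralizer ({b} : Set G)) := by
      have hn := Cfsg.pCore_normal 2 ↥(Subgroup.centralizer ({b} : Set G))
      have h2 := hn.conj_mem _ (Subgroup.inv_mem _ hz'P) ⟨k, hkC⟩
      have h3 := Subgroup.mul_mem _ hz'P h2
      simpa [mul_assoc] using h3
    have hP' : IsPGroup 2 ((Cfsg.pCore 2 ↥(Subgroup.centralizer ({b} : Set G))).map
        (Subgroup.centralizer ({b} : Set G)).subtype) := hP.map _
    have h4 : k⁻¹ * k⁻¹ ∈ (Cfsg.pCore 2 ↥(Subgroup.centralizer ({b} : Set G))).map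
        (Subgroup.centralizer ({b} : Set G)).subtype := by
      refine ⟨_, h1, ?_⟩
      have hz'' : (z' : G) = z := hz'
      simp only [Subgroup.subtype_apply, Subgroup.coe_mul, Subgroup.coe_inv, hz'']
      rw [hinv k hk]
    have h5 := eq_one_of_mem_odd_of_mem_two hK hP' (K.mul_mem (K.inv_mem hk) (K.inv_mem hk)) h4
    have h6 : k⁻¹ = 1 := eq_one_of_sq_eq_one_of_odd hK (K.inv_mem hk) h5
    simpa using h6
  -- Step 5: some q in Q conjugates b to z * b
  have hq : ∃ q ∈ Q, q * b * q⁻¹ = z * b := by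
    have hb' : ¬ ∀ q ∈ Q, q * b = b * q := fun h => hbZ ((mem_center_map_iff Q b).2 ⟨hbQ, h⟩)
    push Not at hb'
    obtain ⟨q, hqQ, hqb⟩ := hb'
    refine ⟨q, hqQ, ?_⟩
    have h1 := commutator_mem_center_map Q hL1 hqQ hbQ
    rcases hzall _ h1 with h | h
    · exfalso
      apply hqb
      have : q * b * q⁻¹ = b := mul_inv_eq_one.1 h
      calc q * b = q * b * q⁻¹ * q := by group
        _ = b * q := by rw [this]
    · calc q * b * q⁻¹ = q * b * q⁻¹ * b⁻¹ * b := by group
        _ = z * b := by rw [h]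
  obtain ⟨q, hqQ, hqb⟩ := hq
  -- Step 6: z * b centralizes no non-identity element of K
  have hfixzb : ∀ k ∈ K, (z * b) * k = k * (z * b) → k = 1 := by
    intro k hk hzbk
    have hk1 : q⁻¹ * k * q ∈ K := by
      have := hnorm q⁻¹ (Q.inv_mem hqQ) k hk
      simpa using this
    have h1 : b * (q⁻¹ * k * q) = (q⁻¹ * k * q) * b := by
      have hb2 : b = q⁻¹ * (z * b) * q := by rw [← hqb]; group
      calc b * (q⁻¹ * k * q) = q⁻¹ * (z * b) * q * (q⁻¹ * k * q) := by rw [← hb2]
        _ = q⁻¹ * ((z * b) * k) * q := by group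
        _ = q⁻¹ * (k * (z * b)) * q := by rw [hzbk]
        _ = (q⁻¹ * k * q) * (q⁻¹ * (z * b) * q) := by group
        _ = (q⁻¹ * k * q) * b := by rw [← hb2]
    have h2 := hfixb _ hk1 h1
    have : k = q * (q⁻¹ * k * q) * q⁻¹ := by group
    rw [this, h2]; group
  -- Step 7
  rw [Subgroup.eq_bot_iff_forall]
  intro x hx
  have hbx : b * x * b⁻¹ ∈ K := hnorm b hbQ x hx
  have hu : x * (b * x * b⁻¹) = 1 := by
    apply hfixb _ (K.mul_mem hx hbx)
    rw [hbinv]
    have hbxK : b * x * b ∈ K := by rw [hbinv] at hbx; exact hbx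
    calc b * (x * (b * x * b)) = (b * x * b) * x * b := by simp only [mul_assoc]
      _ = x * (b * x * b) * b := by rw [hcomm _ hbxK x hx]
  have hbx' : b * x * b⁻¹ = x⁻¹ := by
    have := eq_inv_of_mul_eq_one_right hu
    exact this
  apply hfixzb x hx
  have h1 : z * b * x * (z * b)⁻¹ = x := by
    calc z * b * x * (z * b)⁻¹ = z * (b * x * b⁻¹) * z⁻¹ := by group
      _ = z * x⁻¹ * z⁻¹ := by rw [hbx']
      _ = x := by rw [hinv x⁻¹ (K.inv_mem hx), inv_inv]
  calc z * b * x = z * b * x * (z * b)⁻¹ * (z * b) := by group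
    _ = x * (z * b) := by rw [h1]

end Cfsg.Agent.S5421
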