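import Cfsg.Statements.S5422
import Cfsg.Agent.Lib.helper92.ExtraPair
import Cfsg.Agent.Lib.helper92.Index
import Cfsg.Agent.S5421

set_option autoImplicit false
open Cfsg

namespace Cfsg.Agent.S5422

open Cfsg.Agent.Lib.helper92

/-- Let Q be an extraspecial 2-subgroup of the finite group G whose centralizer in G is its centre Z and which is normal in the centralizer of Z; suppose Q has width at least 2 (order 2^(2w+1) with w ≥ 2) and g is an element of G not normalizing Z with g Z g⁻¹ inside Q. Then Z lies inside g Q g⁻¹; writing V for the subgroup generated by Z and g Z g⁻¹ (a four-group), the normalizer of V induces on V its full automorphism group, that is, the centralizer of V has index 6 in the normalizer of V; and Q is a large extraspecial 2-subgroup of G. -/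
theorem result {G : Type*} [Group G] [Finite G] (Q : Subgroup G) (hL1 : Cfsg.IsExtraspecial 2 ↥Q) (hL2 : Subgroup.centralizer (Q : Set G) = ((Subgroup.center ↥Q).map Q.subtype)) (hL3 : Subgroup.centralizer (((Subgroup.center ↥Q).map Q.subtype) : Set G) ≤ Subgroup.normalizer (Q : Set G)) (w : ℕ) (hw : 2 ≤ w) (hcard : Nat.card ↥Q = 2 ^ (2 * w + 1)) (g : G) (hg : g ∉ Subgroup.normalizer (((Subgroup.center ↥Q).map Q.subtype) : Set G)) (hZg : (((Subgroup.center ↥Q).map Q.subtype)).map (MulAut.conj g).toMonoidHom ≤ Q) : ((Subgroup.center ↥Q).map Q.subtype) ≤ (Q).map (MulAut.conj g).toMonoidHom ∧ (Subgroup.centralizer ((((Subgroup.center ↥Q).map Q.subtype) ⊔ (((Subgroup.center ↥Q).map Q.subtype)).map (MulAut.conj g).toMonoidHom : Subgroup G) : Set G)).relIndex (Subgroup.normalizer ((((Subgroup.center ↥Q).map Q.subtype) ⊔ (((Subgroup.center ↥Q).map Q.subtype)).map (MulAut.conj g).toMonoidHom : Subgroup G) : Set G)) = 6 ∧ Cfsg.IsLargeExtraspecial Q := by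
  have : Fact (Nat.Prime 2) := ⟨Nat.prime_two⟩
  obtain ⟨z, hQz, hZeq⟩ := exists_qdata Q hL1 hL2 hL3
  have hzz := hQz.sq
  have memZ := mem_zpowers_invol hzz
  obtain ⟨b, hb⟩ : ∃ b : G, b = g * z * g⁻¹ := ⟨_, rfl⟩
  have hQ' : QData (Q.map (MulAut.conj g).toMonoidHom) b := by rw [hb]; exact hQz.conj g
  have hbb := hQ'.sq
  have hb1 : b ≠ 1 := hQ'.ne_one
  have memB := mem_zpowers_invol hbb
  have hmapZ : ((Subgroup.center ↥Q).map Q.subtype).map (MulAut.conj g).toMonoidHom =
      Subgroup.zpowers b := by
    rw [hZeq, MonoidHom.map_zpowers, hb]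
    simp [MulAut.conj_apply]
  have hbQ : b ∈ Q := by
    apply hZg
    rw [hmapZ]
    exact Subgroup.mem_zpowers b
  have hbz : b ≠ z := by
    intro h
    apply hg
    rw [hZeq, Subgroup.mem_normalizer_iff]
    intro x
    rw [memZ, memZ]
    constructor
    · rintro (rfl | rfl)
      · left; group
      · right; rw [← hb, h]
    · rintro (h1 | h1)
      · left
        have e : x = g⁻¹ * (g * x * g⁻¹) * g := by group
        rw [e, h1]; group
      · right
        calc x = g⁻¹ * (g * x * g⁻¹) * g := by group
          _ = g⁻¹ * b * g := by rw [h1, h]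
          _ = g⁻¹ * (g * z * g⁻¹) * g := by rw [hb]
          _ = z := by group
  have hzb : z * b = b * z := (hQz.central b hbQ).symm
  have hcard8 : 8 < Nat.card Q := by
    rw [hcard]
    have h1 : 2 ^ 5 ≤ 2 ^ (2 * w + 1) := Nat.pow_le_pow_right (by norm_num) (by omega)
    omega
  have hP := exists_noncomm_pair hQz hbQ hb1 hbz hbb hcard8
  have hE : ∀ n : G, n * z * n⁻¹ = b → ∀ q ∈ Q, n * q * n⁻¹ ∈ Q.map (MulAut.conj g).toMonoidHom := by
    intro n hn q hq
    rw [mem_map_conj_iff]
    have h1 : (g⁻¹ * n) * z = z * (g⁻¹ * n) := by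
      calc (g⁻¹ * n) * z = g⁻¹ * (n * z * n⁻¹) * n := by group
        _ = g⁻¹ * (g * z * g⁻¹) * n := by rw [hn, hb]
        _ = z * (g⁻¹ * n) := by group
    have h2 := hQz.norm _ h1 q hq
    have e : g⁻¹ * (n * q * n⁻¹) * g = g⁻¹ * n * q * (g⁻¹ * n)⁻¹ := by group
    rw [e]
    exact h2
  have hzQ' : z ∈ Q.map (MulAut.conj g).toMonoidHom :=
    center_mem_of_qdata_pair hQz hQ' hbQ hbz hE hP
  have hbZ : b ∉ (Subgroup.center ↥Q).map Q.subtype := by
    rw [hZeq, memZ]
    rintro (h | h)
    · exact hb1 h
    · exact hbz h
  refine ⟨?_, ?_, ?_⟩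
  · rw [hZeq, Subgroup.zpowers_le]
    exact hzQ'
  · -- the four-group
    rw [hmapZ, hZeq]
    have hV : ∀ x, x ∈ Subgroup.zpowers z ⊔ Subgroup.zpowers b ↔ x = 1 ∨ x = z ∨ x = b ∨ x = z * b := by
      intro x
      constructor
      · intro hx
        have hle : Subgroup.zpowers z ⊔ Subgroup.zpowers b ≤
            ({ carrier := {x | x = 1 ∨ x = z ∨ x = b ∨ x = z * b}
               mul_mem' := by
                 have hbzz : b * z = z * b := hzb.symm
                 rintro x y (rfl | rfl | rfl | rfl) (rfl | rfl | rfl | rfl)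
                 · simp
                 · simp
                 · simp
                 · simp
                 · simp
                 · left; exact hzz
                 · simp
                 · right; right; left; rw [← mul_assoc, hzz, one_mul]
                 · simp
                 · right; right; right; exact hbzz
                 · left; exact hbb
                 · right; left; rw [← mul_assoc, hbzz, mul_assoc, hbb, mul_one]
                 · simp
                 · right; right; left; rw [hzb, mul_assoc, hzz, mul_one]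
                 · right; left; rw [mul_assoc, hbb, mul_one]
                 · left; rw [mul_assoc, ← mul_assoc b z b, hbzz, mul_assoc, hbb, mul_one, hzz]
               one_mem' := Or.inl rfl
               inv_mem' := by
                 have hzi : z⁻¹ = z := inv_eq_of_mul_eq_one_left hzz
                 have hbi : b⁻¹ = b := inv_eq_of_mul_eq_one_left hbb
                 rintro x (rfl | rfl | rfl | rfl)
                 · simp
                 · right; left; exact hzi
                 · right; right; left; exact hbi
                 · right; right; right; rw [mul_inv_rev, hzi, hbi, hzb] } : Subgroup G) := by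
          rw [sup_le_iff, Subgroup.zpowers_le, Subgroup.zpowers_le]
          exact ⟨Or.inr (Or.inl rfl), Or.inr (Or.inr (Or.inl rfl))⟩
        exact hle hx
      · rintro (rfl | rfl | rfl | rfl)
        · exact Subgroup.one_mem _
        · exact Subgroup.mem_sup_left (Subgroup.mem_zpowers _)
        · exact Subgroup.mem_sup_right (Subgroup.mem_zpowers _)
        · exact Subgroup.mul_mem _ (Subgroup.mem_sup_left (Subgroup.mem_zpowers _))
            (Subgroup.mem_sup_right (Subgroup.mem_zpowers _))
    obtain ⟨c₀, hc₀Q, hc₀b, -, -⟩ := qdata_split hQz hbQ hb1 hbz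
    obtain ⟨c₁, hc₁Q', hc₁z, -, -⟩ := qdata_split hQ' hzQ' hQz.ne_one (fun h => hbz h.symm)
    have h0z : c₀ * z * c₀⁻¹ = z := by
      rw [hQz.central c₀ hc₀Q]; group
    have h1b : c₁ * b * c₁⁻¹ = b := by
      rw [hQ'.central c₁ hc₁Q']; group
    have h1z : c₁ * z * c₁⁻¹ = z * b := by rw [hc₁z, hzb]
    exact relIndex_centralizer_normalizer_four_group z b c₀ c₁ _ hV hzz hbb hzb hQz.ne_one hb1 hbz
      h0z hc₀b h1z h1b
  · -- largeness, through the involution `b`
    have hb2 : orderOf b = 2 := orderOf_eq_prime (by rw [pow_two]; exact hbb) hb1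
    apply Cfsg.Agent.S5421.result Q hL1 hL2 hL3 b hbQ hbZ hb2
    rw [hZeq, Subgroup.zpowers_le]
    have hQ'C : Q.map (MulAut.conj g).toMonoidHom ≤ Subgroup.centralizer ({b} : Set G) := by
      intro q hq
      rw [Subgroup.mem_centralizer_iff]
      intro y hy
      rw [Set.mem_singleton_iff] at hy
      subst hy
      exact (hQ'.central q hq).symm
    have hN : ((Q.map (MulAut.conj g).toMonoidHom).subgroupOf (Subgroup.centralizer ({b} : Set G))).Normal := by
      constructor
      intro n hn c
      rw [Subgroup.mem_subgroupOf] at hn ⊢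
      have hcb : (c : G) * b = b * c := by
        have := Subgroup.mem_centralizer_iff.1 c.2 b (Set.mem_singleton b)
        exact this.symm
      have := hQ'.norm _ hcb _ hn
      simpa using this
    have hp : IsPGroup 2 ((Q.map (MulAut.conj g).toMonoidHom).subgroupOf (Subgroup.centralizer ({b} : Set G))) :=
      (hL1.1.1.map _).comap_subtype
    have hle := le_pCore hN hp
    exact ⟨⟨z, hQ'C hzQ'⟩, hle (Subgroup.mem_subgroupOf.2 hzQ'), rfl⟩

end Cfsg.Agent.S5422
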