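import Cfsg.Statements.S5427
import Cfsg.Agent.Lib.helper92.Simple
import Cfsg.Agent.S5421
import Cfsg.Agent.S5422

set_option autoImplicit false
open Cfsg

namespace Cfsg.Agent.S5427

open Cfsg.Agent.Lib.helper92

/-- Let z be an involution of the finite group G whose centralizer C has generalized Fitting subgroup Q, an extraspecial 2-group of width at least 2 (order 2^(2w+1), w ≥ 2). Let K be a subgroup of G such that the subgroup U generated by the K-conjugates of z is abelian and C is generated by the C-conjugates of U. Suppose that either some K-conjugate of z other than z lies in Q, or some element u of U ∩ Q outside the subgroup generated by z has z in the largest normal 2-subgroup of its centralizer. Then G is simple and Q is a large extraspecial 2-subgroup of G. -/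
theorem result {G : Type*} [Group G] [Finite G] (z : G) (hz : orderOf z = 2) (Q : Subgroup G) (hQC : Q ≤ Subgroup.centralizer ({z} : Set G)) (hF : (Cfsg.generalizedFittingSubgroup ↥(Subgroup.centralizer ({z} : Set G))).map (Subgroup.centralizer ({z} : Set G)).subtype = Q) (hQ : Cfsg.IsExtraspecial 2 ↥Q) (w : ℕ) (hw : 2 ≤ w) (hcard : Nat.card ↥Q = 2 ^ (2 * w + 1)) (K U : Subgroup G) (hU : U = Subgroup.closure {x : G | ∃ k ∈ K, x = k * z * k⁻¹}) (hUab : IsMulCommutative ↥U) (hgen : Subgroup.closure {x : G | ∃ c ∈ Subgroup.centralizer ({z} : Set G), ∃ u ∈ U, x = c * u * c⁻¹} = Subgroup.centralizer ({z} : Set G)) (h3 : (∃ k ∈ K, k * z * k⁻¹ ∈ Q ∧ k * z * k⁻¹ ≠ z) ∨ ∃ u ∈ U ⊓ Q, u ∉ Subgroup.zpowers z ∧ (∃ hz' : z ∈ Subgroup.centralizer ({u} : Set G), (⟨z, hz'⟩ : ↥(Subgroup.centralizer ({u} : Set G))) ∈ Cfsg.pCore 2 ↥(Subgroup.centralizer ({u} : Set G)))) : IsSimpleGroup G ∧ Cfsg.IsLargeExtraspecial Q := by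
  have hq := qdata_of_fstar z hz Q hF hQ
  have hL2 := hq.centralizer_eq
  have hL3 := hq.centralizer_center_le_normalizer
  have hZ := hq.center_map_eq
  have hzz := hq.sq
  have hUcomm : ∀ x ∈ U, ∀ y ∈ U, x * y = y * x := by
    intro x hx y hy
    have h1 := hUab.is_comm.comm (⟨x, hx⟩ : ↥U) ⟨y, hy⟩
    exact congrArg Subtype.val h1
  have hlarge : Cfsg.IsLargeExtraspecial Q := by
    rcases h3 with ⟨k, hkK, hkQ, hkz⟩ | ⟨u, huUQ, huZ, hz', hzO⟩
    · -- case (a)
      refine (Cfsg.Agent.S5422.result Q hQ hL2 hL3 w hw hcard k ?_ ?_).2.2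
      · rw [hZ]
        intro hk
        have h1 : k * z * k⁻¹ ∈ Subgroup.zpowers z :=
          (Subgroup.mem_normalizer_iff.1 hk z).1 (Subgroup.mem_zpowers z)
        rcases (mem_zpowers_invol hzz _).1 h1 with h2 | h2
        · apply hq.ne_one
          calc z = k⁻¹ * (k * z * k⁻¹) * k := by group
            _ = 1 := by rw [h2]; group
        · exact hkz h2
      · rw [hZ, MonoidHom.map_zpowers, Subgroup.zpowers_le]
        exact hkQ
    · -- case (b)
      have huU : u ∈ U := huUQ.1
      have huQ : u ∈ Q := huUQ.2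
      have hinv : ∀ x ∈ U, x * x = 1 := by
        have key : ∀ x ∈ Subgroup.closure {x : G | ∃ k ∈ K, x = k * z * k⁻¹},
            x ∈ U ∧ x * x = 1 := by
          intro x hx
          induction hx using Subgroup.closure_induction with
          | mem x hx =>
            refine ⟨by rw [hU]; exact Subgroup.subset_closure hx, ?_⟩
            obtain ⟨k, -, rfl⟩ := hx
            calc k * z * k⁻¹ * (k * z * k⁻¹) = k * (z * z) * k⁻¹ := by group
              _ = 1 := by rw [hzz]; group
          | one => exact ⟨U.one_mem, by rw [mul_one]⟩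
          | mul x y hx hy ihx ihy =>
            refine ⟨U.mul_mem ihx.1 ihy.1, ?_⟩
            calc x * y * (x * y) = x * (y * x) * y := by group
              _ = x * (x * y) * y := by rw [hUcomm y ihy.1 x ihx.1]
              _ = (x * x) * (y * y) := by group
              _ = 1 := by rw [ihx.2, ihy.2, mul_one]
          | inv x hx ih =>
            refine ⟨U.inv_mem ih.1, ?_⟩
            calc x⁻¹ * x⁻¹ = (x * x)⁻¹ := by group
              _ = 1 := by rw [ih.2, inv_one]
        intro x hx
        rw [hU] at hx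
        exact (key x hx).2
      have hu1 : u ≠ 1 := by
        intro h
        apply huZ
        rw [h]
        exact Subgroup.one_mem _
      have hu2 : orderOf u = 2 := by
        have : Fact (Nat.Prime 2) := ⟨Nat.prime_two⟩
        exact orderOf_eq_prime (by rw [sq]; exact hinv u huU) hu1
      refine Cfsg.Agent.S5421.result Q hQ hL2 hL3 u huQ (by rw [hZ]; exact huZ) hu2 ?_
      rw [hZ, Subgroup.zpowers_le]
      exact ⟨⟨z, hz'⟩, hzO, rfl⟩
  refine ⟨?_, hlarge⟩
  apply isSimpleGroup_of_qdata hq hlarge.2.2.2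
  intro N hNn hzN
  have hUN : U ≤ N := by
    rw [hU, Subgroup.closure_le]
    rintro y ⟨k, -, rfl⟩
    exact hNn.conj_mem z hzN k
  rw [← hgen, Subgroup.closure_le]
  rintro x ⟨c, -, u, hu, rfl⟩
  exact hNn.conj_mem u (hUN hu) c

end Cfsg.Agent.S5427
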