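import Cfsg.Statements.S5434
import Cfsg.Agent.Lib.helper92.ExtraSub

set_option autoImplicit false
open Cfsg

namespace Cfsg.Agent.S5434

open Cfsg.Agent.Lib.helper92

open scoped commutatorElement

/-- The elementwise form of the statement. -/
theorem main {G : Type*} [Group G] [Finite G] (Q : Subgroup G) (z : G) (hq : QData Q z)
    (hcomQ : commutator ↥Q = Subgroup.center ↥Q)
    (hZ : (Subgroup.center ↥Q).map Q.subtype = Subgroup.zpowers z)
    (A : Subgroup G) (hA : A ≤ Subgroup.normalizer (Q : Set G)) (hAodd : Odd (Nat.card ↥A))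
    (hA1 : A ≠ ⊥) :
    (Q ⊓ Subgroup.centralizer (A : Set G)) ⊔ ⁅Q, A⁆ = Q ∧
    (∀ x ∈ Q ⊓ Subgroup.centralizer (A : Set G), ∀ y ∈ ⁅Q, A⁆, x * y = y * x) ∧
    Cfsg.IsExtraspecial 2 ↥⁅Q, A⁆ ∧
    (Q ⊓ Subgroup.centralizer (A : Set G) = Subgroup.zpowers z ∨
      Cfsg.IsExtraspecial 2 ↥(Q ⊓ Subgroup.centralizer (A : Set G))) := by
  have hAQ : ∀ a ∈ A, ∀ q ∈ Q, a * q * a⁻¹ ∈ Q := fun a ha q hq' =>
    (Subgroup.mem_normalizer_iff.1 (hA ha) q).1 hq'
  have hAQ' : ∀ a ∈ A, ∀ q ∈ Q, a⁻¹ * q * a ∈ Q := by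
    intro a ha q hq'
    have := hAQ a⁻¹ (A.inv_mem ha) q hq'
    rwa [inv_inv] at this
  have hoddA : ∀ a ∈ A, Odd (orderOf a) := by
    intro a ha
    have h1 : orderOf (⟨a, ha⟩ : ↥A) ∣ Nat.card ↥A := orderOf_dvd_natCard _
    rw [Subgroup.orderOf_mk] at h1
    exact hAodd.of_dvd_nat h1
  -- A centralizes z
  have hAz : ∀ a ∈ A, a * z = z * a := by
    intro a ha
    have h1 : a * z * a⁻¹ ∈ Subgroup.zpowers z := by
      apply hq.cent
      intro q hq'
      have h2 := hq.central _ (hAQ' a ha q hq')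
      calc q * (a * z * a⁻¹) = a * ((a⁻¹ * q * a) * z) * a⁻¹ := by group
        _ = a * (z * (a⁻¹ * q * a)) * a⁻¹ := by rw [h2]
        _ = a * z * a⁻¹ * q := by group
    rcases (mem_zpowers_invol hq.sq _).1 h1 with h | h
    · exfalso; apply hq.ne_one
      calc z = a⁻¹ * (a * z * a⁻¹) * a := by group
        _ = 1 := by rw [h]; group
    · calc a * z = (a * z * a⁻¹) * a := by group
        _ = z * a := by rw [h]
  -- an element of A moving x inside its coset of the centre fixes it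
  have hfix : ∀ a ∈ A, ∀ x : G, x⁻¹ * (a * x * a⁻¹) ∈ Subgroup.zpowers z → a * x = x * a := by
    intro a ha x hx
    have hw : (x⁻¹ * (a * x * a⁻¹)) * (x⁻¹ * (a * x * a⁻¹)) = 1 := by
      rcases (mem_zpowers_invol hq.sq _).1 hx with h | h
      · rw [h, one_mul]
      · rw [h, hq.sq]
    have haw : a * (x⁻¹ * (a * x * a⁻¹)) = (x⁻¹ * (a * x * a⁻¹)) * a := by
      rcases (mem_zpowers_invol hq.sq _).1 hx with h | h
      · rw [h, mul_one, one_mul]
      · rw [h]; exact hAz a ha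
    have h1 : x⁻¹ * (a * x * a⁻¹) = 1 :=
      eq_one_of_odd_conj_eq_mul (x := x) (hoddA a ha) hw haw (by group)
    calc a * x = x * (x⁻¹ * (a * x * a⁻¹)) * a := by group
      _ = x * a := by rw [h1, mul_one]
  -- a nontrivial element of A and an element of Q it does not centralize
  obtain ⟨a₀, ha₀, ha₀1⟩ : ∃ a ∈ A, a ≠ 1 := by
    by_contra h
    push Not at h
    apply hA1
    rw [Subgroup.eq_bot_iff_forall]
    exact h
  have hz_notin_A : z ∉ A := by
    intro hzA
    have h1 := hoddA z hzA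
    have h2 : orderOf z = 2 := orderOf_eq_prime (by rw [sq]; exact hq.sq) hq.ne_one
    rw [h2] at h1
    exact absurd h1 (by decide)
  obtain ⟨q₀, hq₀, hq₀a⟩ : ∃ q ∈ Q, q * a₀ ≠ a₀ * q := by
    by_contra h
    push Not at h
    have h1 := hq.cent a₀ h
    rcases (mem_zpowers_invol hq.sq _).1 h1 with h2 | h2
    · exact ha₀1 h2
    · exact hz_notin_A (h2 ▸ ha₀)
  have hKQ : ⁅Q, A⁆ ≤ Q := Subgroup.le_normalizer_iff_commutator_le_left.1 hA
  have hQK : ∀ q ∈ Q, ∀ k ∈ ⁅Q, A⁆, q * k * q⁻¹ ∈ ⁅Q, A⁆ := by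
    intro q hq' k hk
    exact (Subgroup.mem_normalizer_iff.1 (Subgroup.normalizer_commutator_ge_left Q A hq') k).1 hk
  -- the commutator w = [q₀, a₀] lies in [Q, A] but not in the centre
  obtain ⟨w, hw⟩ : ∃ w, w = q₀ * a₀ * q₀⁻¹ * a₀⁻¹ := ⟨_, rfl⟩
  have hwK : w ∈ ⁅Q, A⁆ := by
    rw [hw, ← commutatorElement_def]
    exact Subgroup.commutator_mem_commutator hq₀ ha₀
  have hwZ : w ∉ Subgroup.zpowers z := by
    intro h
    have h1 : (q₀⁻¹)⁻¹ * (a₀ * q₀⁻¹ * a₀⁻¹) ∈ Subgroup.zpowers z := by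
      have h2 : (q₀⁻¹)⁻¹ * (a₀ * q₀⁻¹ * a₀⁻¹) = w := by rw [hw]; group
      rw [h2]; exact h
    have h3 := hfix a₀ ha₀ q₀⁻¹ h1
    apply hq₀a
    calc q₀ * a₀ = q₀ * (a₀ * q₀⁻¹) * q₀ := by group
      _ = q₀ * (q₀⁻¹ * a₀) * q₀ := by rw [h3]
      _ = a₀ * q₀ := by group
  -- z ∈ [Q, A]
  have hzK : z ∈ ⁅Q, A⁆ := by
    obtain ⟨q', hq', hq'w⟩ : ∃ q ∈ Q, q * w ≠ w * q := by
      by_contra h
      push Not at h
      exact hwZ (hq.cent w h)
    have h1 := hq.comm q' hq' w (hKQ hwK)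
    rcases (mem_zpowers_invol hq.sq _).1 h1 with h | h
    · exfalso; apply hq'w
      calc q' * w = (q' * w * q'⁻¹ * w⁻¹) * w * q' := by group
        _ = w * q' := by rw [h, one_mul]
    · rw [← h]
      exact Subgroup.mul_mem _ (hQK q' hq' w hwK) (Subgroup.inv_mem _ hwK)
  have hZK : Subgroup.zpowers z ≤ ⁅Q, A⁆ := by
    rw [Subgroup.zpowers_le]; exact hzK
  -- C_Q(A) commutes with [Q, A]
  have hCK : ∀ x ∈ Q ⊓ Subgroup.centralizer (A : Set G), ∀ y ∈ ⁅Q, A⁆, x * y = y * x := by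
    intro x hx y hy
    have hxQ : x ∈ Q := hx.1
    have hxA : ∀ a ∈ A, a * x = x * a := fun a ha => Subgroup.mem_centralizer_iff.1 hx.2 a ha
    have h1 : ⁅Q, A⁆ ≤ Subgroup.centralizer ({x} : Set G) := by
      rw [Subgroup.commutator_le]
      intro q hq' a ha
      rw [Subgroup.mem_centralizer_singleton_iff]
      obtain ⟨e, he⟩ : ∃ e, e = x * q * x⁻¹ * q⁻¹ := ⟨_, rfl⟩
      have heZ : e ∈ Subgroup.zpowers z := by rw [he]; exact hq.comm x hxQ q hq'
      have heq : Commute e q := by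
        rcases (mem_zpowers_invol hq.sq _).1 heZ with h | h
        · rw [h]; exact Commute.one_left q
        · rw [h]; exact (hq.central q hq').symm
      have hea : Commute e a := by
        rcases (mem_zpowers_invol hq.sq _).1 heZ with h | h
        · rw [h]; exact Commute.one_left a
        · rw [h]; exact (hAz a ha).symm
      have h2 : x * q * x⁻¹ = e * q := by rw [he]; group
      have h3 : x * a * x⁻¹ = a := by
        calc x * a * x⁻¹ = (a * x) * x⁻¹ := by rw [hxA a ha]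
          _ = a := by group
      have h4 : x * ⁅q, a⁆ * x⁻¹ = ⁅x * q * x⁻¹, x * a * x⁻¹⁆ := by
        rw [commutatorElement_def, commutatorElement_def]; group
      have h5 : x * ⁅q, a⁆ * x⁻¹ = ⁅q, a⁆ := by
        rw [h4, h2, h3]
        exact comm_drop_left e q a heq hea
      calc ⁅q, a⁆ * x = (x * ⁅q, a⁆ * x⁻¹) * x := by rw [h5]
        _ = x * ⁅q, a⁆ := by group
    have h2 := h1 hy
    rw [Subgroup.mem_centralizer_singleton_iff] at h2
    exact h2.symm
  -- the decomposition Q = [Q, A] C_Q(A)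
  have hdecomp : ∀ q ∈ Q, ∃ k ∈ ⁅Q, A⁆, ∃ c ∈ Q ⊓ Subgroup.centralizer (A : Set G), q = k * c := by
    intro q₁ hq₁
    have : Fintype ↥A := Fintype.ofFinite _
    obtain ⟨q, hqdef⟩ : ∃ q : ↥Q, q = ⟨q₁, hq₁⟩ := ⟨_, rfl⟩
    obtain ⟨p, hp⟩ : ∃ p : ↥Q, Abelianization.of p
        = ∏ a : ↥A, Abelianization.of (conjRestr Q A hA a q) := QuotientGroup.mk_surjective _
    -- p is fixed by A modulo the centre
    have hpfix : ∀ b : ↥A, Abelianization.of (conjRestr Q A hA b p) = Abelianization.of p := by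
      intro b
      rw [← Abelianization.map_of, hp, map_prod]
      have h1 : ∀ a : ↥A, Abelianization.map (conjRestr Q A hA b)
          (Abelianization.of (conjRestr Q A hA a q))
          = Abelianization.of (conjRestr Q A hA (b * a) q) := by
        intro a
        rw [Abelianization.map_of, conjRestr_mul]
      simp only [h1]
      exact Equiv.prod_comp (Equiv.mulLeft b) (fun a => Abelianization.of (conjRestr Q A hA a q))
    have hpC : (p : G) ∈ Q ⊓ Subgroup.centralizer (A : Set G) := by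
      refine Subgroup.mem_inf.2 ⟨p.2, ?_⟩
      rw [Subgroup.mem_centralizer_iff]
      intro b hb
      apply hfix b hb
      have h1 := hpfix ⟨b, hb⟩
      have h2 : p⁻¹ * conjRestr Q A hA ⟨b, hb⟩ p ∈ (Abelianization.of : ↥Q →* _).ker := by
        rw [MonoidHom.mem_ker, map_mul, map_inv, h1, inv_mul_cancel]
      rw [Abelianization.ker_of, hcomQ] at h2
      rw [← hZ]
      exact ⟨_, h2, rfl⟩
    -- q^n p⁻¹ lies in [Q, A] modulo the centre
    have hmem : Abelianization.of (q ^ Fintype.card ↥A * p⁻¹)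
        ∈ ((⁅Q, A⁆).subgroupOf Q).map Abelianization.of := by
      have h1 : Abelianization.of (q ^ Fintype.card ↥A * p⁻¹)
          = ∏ a : ↥A, Abelianization.of (q * (conjRestr Q A hA a q)⁻¹) := by
        rw [map_mul, map_inv, map_pow, hp]
        simp only [map_mul, map_inv]
        rw [Finset.prod_mul_distrib, Finset.prod_inv_distrib, Finset.prod_const, Finset.card_univ]
      rw [h1]
      apply Subgroup.prod_mem
      intro a _
      refine Subgroup.mem_map_of_mem _ ?_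
      rw [Subgroup.mem_subgroupOf]
      have h2 : ((q * (conjRestr Q A hA a q)⁻¹ : ↥Q) : G) = ⁅(q : G), (a : G)⁆ := by
        rw [commutatorElement_def]
        simp [mul_assoc]
      rw [h2]
      exact Subgroup.commutator_mem_commutator q.2 a.2
    obtain ⟨k', hk'₀, hk'eq⟩ := hmem
    have hk' : (k' : G) ∈ ⁅Q, A⁆ := Subgroup.mem_subgroupOf.1 hk'₀
    have h3 : (q ^ Fintype.card ↥A * p⁻¹)⁻¹ * k' ∈ (Abelianization.of : ↥Q →* _).ker := by
      rw [MonoidHom.mem_ker, map_mul, map_inv, hk'eq, inv_mul_cancel]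
    rw [Abelianization.ker_of, hcomQ] at h3
    have h4 : ((q₁ ^ Fintype.card ↥A * (p : G)⁻¹)⁻¹ * (k' : G)) ∈ Subgroup.zpowers z := by
      rw [← hZ]
      refine ⟨_, h3, ?_⟩
      rw [hqdef]
      simp
    have h5 : q₁ ^ Fintype.card ↥A * (p : G)⁻¹ ∈ ⁅Q, A⁆ := by
      have h6 := Subgroup.mul_mem _ hk' (Subgroup.inv_mem _ (hZK h4))
      have h7 : (k' : G) * ((q₁ ^ Fintype.card ↥A * (p : G)⁻¹)⁻¹ * (k' : G))⁻¹
          = q₁ ^ Fintype.card ↥A * (p : G)⁻¹ := by group
      rw [h7] at h6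
      exact h6
    have hcardA : Odd (Fintype.card ↥A) := by
      rw [← Nat.card_eq_fintype_card]; exact hAodd
    obtain ⟨m, hm⟩ := hcardA
    have h8 : q₁ ^ Fintype.card ↥A = (q₁ * q₁) ^ m * q₁ := by
      rw [hm, pow_succ, pow_mul, sq]
    have h9 : (q₁ * q₁) ^ m ∈ ⁅Q, A⁆ := Subgroup.pow_mem _ (hZK (hq.sqmem q₁ hq₁)) m
    refine ⟨((q₁ * q₁) ^ m)⁻¹ * (q₁ ^ Fintype.card ↥A * (p : G)⁻¹), ?_, (p : G), hpC, ?_⟩
    · exact Subgroup.mul_mem _ (Subgroup.inv_mem _ h9) h5
    · rw [h8]; group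
  refine ⟨?_, hCK, ?_, ?_⟩
  · apply le_antisymm
    · exact sup_le inf_le_left hKQ
    · intro q hq'
      obtain ⟨k, hk, c, hc, rfl⟩ := hdecomp q hq'
      exact Subgroup.mul_mem _ (Subgroup.mem_sup_right hk) (Subgroup.mem_sup_left hc)
  · -- [Q, A] is extraspecial
    have hcentK : ∀ x ∈ ⁅Q, A⁆, (∀ r ∈ ⁅Q, A⁆, r * x = x * r) → x ∈ Subgroup.zpowers z := by
      intro x hx h
      apply hq.cent
      intro q hq'
      obtain ⟨k, hk, c, hc, rfl⟩ := hdecomp q hq'
      calc k * c * x = k * (c * x) := by group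
        _ = k * (x * c) := by rw [hCK c hc x hx]
        _ = (k * x) * c := by group
        _ = x * k * c := by rw [h k hk]
        _ = x * (k * c) := by group
    refine isExtraspecial_of_data ⁅Q, A⁆ z hq.sq hq.ne_one
      (fun x hx y hy => hq.comm x (hKQ hx) y (hKQ hy)) (fun x hx => hq.sqmem x (hKQ hx)) hcentK
      (fun r hr => hq.central r (hKQ hr)) ?_
    by_contra h
    push Not at h
    exact hwZ (hcentK w hwK (fun r hr => h r hr w hwK))
  · -- C_Q(A) is the centre or extraspecial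
    have hcentC : ∀ x ∈ Q ⊓ Subgroup.centralizer (A : Set G),
        (∀ r ∈ Q ⊓ Subgroup.centralizer (A : Set G), r * x = x * r) → x ∈ Subgroup.zpowers z := by
      intro x hx h
      apply hq.cent
      intro q hq'
      obtain ⟨k, hk, c, hc, rfl⟩ := hdecomp q hq'
      calc k * c * x = k * (c * x) := by group
        _ = k * (x * c) := by rw [h c hc]
        _ = (k * x) * c := by group
        _ = x * k * c := by rw [hCK x hx k hk]
        _ = x * (k * c) := by group
    by_cases hab : ∀ x ∈ Q ⊓ Subgroup.centralizer (A : Set G),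
        ∀ y ∈ Q ⊓ Subgroup.centralizer (A : Set G), x * y = y * x
    · left
      apply le_antisymm
      · intro x hx
        exact hcentC x hx (fun r hr => hab r hr x hx)
      · rw [Subgroup.zpowers_le]
        refine Subgroup.mem_inf.2 ⟨hq.mem, ?_⟩
        rw [Subgroup.mem_centralizer_iff]
        intro a ha
        exact hAz a ha
    · right
      push Not at hab
      exact isExtraspecial_of_data _ z hq.sq hq.ne_one
        (fun x hx y hy => hq.comm x hx.1 y hy.1) (fun x hx => hq.sqmem x hx.1) hcentC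
        (fun r hr => hq.central r hr.1) hab

/-- Let Q be a large extraspecial 2-subgroup of the finite group G (extraspecial; centralizer equal to its centre; normal in the centralizer of its centre; normalizing no non-trivial subgroup of odd order), and A a non-trivial subgroup of odd order of the normalizer of Q. Then Q is the central product of the centralizer of A in Q and the commutator subgroup [Q, A] (they generate Q and commute elementwise), [Q, A] is extraspecial, and the centralizer of A in Q is either the centre of Q or extraspecial. -/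
theorem result {G : Type*} [Group G] [Finite G] (Q : Subgroup G) (hQ : Cfsg.IsLargeExtraspecial Q) (A : Subgroup G) (hA : A ≤ Subgroup.normalizer (Q : Set G)) (hAodd : Odd (Nat.card ↥A)) (hA1 : A ≠ ⊥) : (Q ⊓ Subgroup.centralizer (A : Set G)) ⊔ ⁅Q, A⁆ = Q ∧ (∀ x ∈ Q ⊓ Subgroup.centralizer (A : Set G), ∀ y ∈ ⁅Q, A⁆, x * y = y * x) ∧ Cfsg.IsExtraspecial 2 ↥⁅Q, A⁆ ∧ (Q ⊓ Subgroup.centralizer (A : Set G) = ((Subgroup.center ↥Q).map Q.subtype) ∨ Cfsg.IsExtraspecial 2 ↥(Q ⊓ Subgroup.centralizer (A : Set G))) := by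
  obtain ⟨z, hq, hZ⟩ := exists_qdata Q hQ.1 hQ.2.1 hQ.2.2.1
  have h := main Q z hq hQ.1.1.2.2 hZ A hA hAodd hA1
  rw [hZ]
  exact h

end Cfsg.Agent.S5434
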