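import Cfsg.Statements.S5428
import Cfsg.Agent.Lib.helper92.Central
import Cfsg.Agent.Lib.helper92.Pair
import Cfsg.Agent.Lib.helper92.ExtraSub
import Cfsg.Agent.S5434

set_option autoImplicit false
open Cfsg

namespace Cfsg.Agent.S5428

open Cfsg.Agent.Lib.helper92

/-- A non-central element of the fixed points `C_Q(A)` fails to commute with some fixed point. -/
theorem exists_noncomm {G : Type*} [Group G] [Finite G] {Q : Subgroup G} {z : G} (hq : QData Q z)
    (hQ : Cfsg.IsExtraspecial 2 ↥Q)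
    (A : Subgroup G) (hA : A ≤ Subgroup.normalizer (Q : Set G)) (hAodd : Odd (Nat.card A))
    (hAz : ∀ a ∈ A, a * z = z * a)
    (b : G) (hbQ : b ∈ Q) (hbA : ∀ a ∈ A, a * b = b * a) (hbZ : b ∉ Subgroup.zpowers z) :
    ∃ u ∈ Q, (∀ a ∈ A, a * u = u * a) ∧ u * b ≠ b * u := by
  by_cases hA1 : A = ⊥
  · by_contra hno
    push Not at hno
    apply hbZ
    apply hq.cent b
    intro q hq'
    apply hno q hq'
    intro a ha
    rw [hA1, Subgroup.mem_bot] at ha
    rw [ha, one_mul, mul_one]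
  · obtain ⟨-, -, -, h4⟩ := Cfsg.Agent.S5434.main Q z hq hQ.1.2.2 hq.center_map_eq A hA hAodd hA1
    have hbR : b ∈ Q ⊓ Subgroup.centralizer (A : Set G) :=
      Subgroup.mem_inf.2 ⟨hbQ, Subgroup.mem_centralizer_iff.2 hbA⟩
    have hzR : z ∈ Q ⊓ Subgroup.centralizer (A : Set G) :=
      Subgroup.mem_inf.2 ⟨hq.mem, Subgroup.mem_centralizer_iff.2 hAz⟩
    rcases h4 with h4 | h4
    · rw [h4] at hbR
      exact absurd hbR hbZ
    · have hc2 := h4.2
      obtain ⟨y, hy1, hyu⟩ := (Nat.card_eq_two_iff' (1 : Subgroup.center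
        ↥(Q ⊓ Subgroup.centralizer (A : Set G)))).1 hc2
      have hzc : (⟨z, hzR⟩ : ↥(Q ⊓ Subgroup.centralizer (A : Set G))) ∈ Subgroup.center _ := by
        rw [Subgroup.mem_center_iff]
        intro r
        apply Subtype.ext
        exact hq.central r.1 r.2.1
      have hzy : (⟨⟨z, hzR⟩, hzc⟩ : Subgroup.center ↥(Q ⊓ Subgroup.centralizer (A : Set G))) = y := by
        apply hyu
        intro h
        apply hq.ne_one
        have h' := congrArg Subtype.val h
        exact congrArg Subtype.val h'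
      by_contra hno
      push Not at hno
      have hbc : (⟨b, hbR⟩ : ↥(Q ⊓ Subgroup.centralizer (A : Set G))) ∈ Subgroup.center _ := by
        rw [Subgroup.mem_center_iff]
        intro r
        apply Subtype.ext
        exact hno r.1 r.2.1 (fun a ha => Subgroup.mem_centralizer_iff.1 r.2.2 a ha)
      apply hbZ
      by_cases hb1 : (⟨⟨b, hbR⟩, hbc⟩ : Subgroup.center
          ↥(Q ⊓ Subgroup.centralizer (A : Set G))) = 1
      · have e : b = 1 := by
          have h' := congrArg Subtype.val hb1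
          exact congrArg Subtype.val h'
        rw [e]; exact Subgroup.one_mem _
      · have e1 := hyu _ hb1
        have e : b = z := by
          have h' := congrArg Subtype.val (e1.trans hzy.symm)
          exact congrArg Subtype.val h'
        rw [e]; exact Subgroup.mem_zpowers z

/-- The quotient part: the image of `R = C_Q(A)` in `M/A` is large extraspecial. -/
theorem aux {G : Type*} [Group G] [Finite G] {Q : Subgroup G} {z : G} (hq : QData Q z)
    (hcard8 : 8 < Nat.card Q)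
    (A : Subgroup G) (hAodd : Odd (Nat.card A)) (hAz : ∀ a ∈ A, a * z = z * a)
    (R : Subgroup G) (hR : ∀ x, x ∈ R ↔ x ∈ Q ∧ ∀ a ∈ A, a * x = x * a)
    (hD : ∀ d : G, (∀ a ∈ A, a * d = d * a) → (∀ r ∈ R, r * d = d * r) → d ∈ A ∨ z * d ∈ A)
    (g : G) (hgR : g * z * g⁻¹ ∈ R) (hbz : g * z * g⁻¹ ≠ z)
    (hnonab : ∃ u ∈ R, u * (g * z * g⁻¹) ≠ (g * z * g⁻¹) * u)
    (M : Subgroup G)
    (hM : ∀ m, m ∈ M ↔ ∃ c a, (∀ a' ∈ A, a' * c = c * a') ∧ a ∈ A ∧ m = c * a)
    [hn : (A.subgroupOf M).Normal] :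
    Cfsg.IsLargeExtraspecial ((R.subgroupOf M).map (QuotientGroup.mk' (A.subgroupOf M))) := by
  classical
  have hzz := hq.sq
  have memZ := mem_zpowers_invol hzz
  have hz1 := hq.ne_one
  have hzA : z ∉ A := fun h => hz1 (eq_one_of_sq_eq_one_of_odd hAodd h hzz)
  have hCM : ∀ c, (∀ a ∈ A, a * c = c * a) → c ∈ M := fun c hc =>
    (hM c).2 ⟨c, 1, hc, A.one_mem, (mul_one c).symm⟩
  have hRC : ∀ r ∈ R, ∀ a ∈ A, a * r = r * a := fun r hr => ((hR r).1 hr).2
  have hRM : R ≤ M := fun r hr => hCM r (hRC r hr)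
  have hRQ : R ≤ Q := fun r hr => ((hR r).1 hr).1
  have hzR : z ∈ R := (hR z).2 ⟨hq.mem, hAz⟩
  have hzM : z ∈ M := hRM hzR
  have hπ : ∀ c d : ↥M, (QuotientGroup.mk' (A.subgroupOf M) c =
      QuotientGroup.mk' (A.subgroupOf M) d) ↔ (c : G)⁻¹ * d ∈ A := by
    intro c d
    rw [QuotientGroup.mk'_apply, QuotientGroup.mk'_apply, QuotientGroup.eq, Subgroup.mem_subgroupOf]
    rfl
  have hrep : ∀ x : ↥M ⧸ A.subgroupOf M, ∃ c : G, ∃ hc : c ∈ M, (∀ a ∈ A, a * c = c * a) ∧
      QuotientGroup.mk' (A.subgroupOf M) ⟨c, hc⟩ = x := by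
    intro x
    obtain ⟨m, rfl⟩ := QuotientGroup.mk'_surjective (A.subgroupOf M) x
    obtain ⟨c, a, hc, ha, hm⟩ := (hM m).1 m.2
    refine ⟨c, hCM c hc, hc, ?_⟩
    rw [hπ]
    show c⁻¹ * (m : G) ∈ A
    rw [hm]
    have e : c⁻¹ * (c * a) = a := by group
    rw [e]; exact ha
  have hcomm_of : ∀ c r : G, r ∈ R → (c * r)⁻¹ * (r * c) ∈ A → c * r = r * c := by
    intro c r hr h
    have hra : Commute r ((c * r)⁻¹ * (r * c)) := (hRC r hr _ h).symm
    have h1 : c⁻¹ * r * c⁻¹⁻¹ = r * ((c * r)⁻¹ * (r * c)) := by group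
    have h2 : (c⁻¹ * r * c⁻¹⁻¹) ^ 4 = 1 := by
      rw [conj_pow, hq.pow_four r (hRQ hr)]; group
    rw [h1, hra.mul_pow, hq.pow_four r (hRQ hr), one_mul] at h2
    have h3 := eq_one_of_pow_four_of_odd hAodd h h2
    calc c * r = c * r * ((c * r)⁻¹ * (r * c)) := by rw [h3, mul_one]
      _ = r * c := by group
  have key_comm : ∀ (c : G) (hc : c ∈ M),
      QuotientGroup.mk' (A.subgroupOf M) ⟨c, hc⟩ * QuotientGroup.mk' (A.subgroupOf M) ⟨z, hzM⟩ =
      QuotientGroup.mk' (A.subgroupOf M) ⟨z, hzM⟩ * QuotientGroup.mk' (A.subgroupOf M) ⟨c, hc⟩ →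
      c * z = z * c := by
    intro c hc h
    rw [← map_mul, ← map_mul, hπ] at h
    exact hcomm_of c z hzR h
  have hmemR : ∀ (r : G) (hr : r ∈ R), QuotientGroup.mk' (A.subgroupOf M) ⟨r, hRM hr⟩ ∈
      (R.subgroupOf M).map (QuotientGroup.mk' (A.subgroupOf M)) := fun r hr =>
    ⟨⟨r, hRM hr⟩, Subgroup.mem_subgroupOf.2 hr, rfl⟩
  have hQD : QData ((R.subgroupOf M).map (QuotientGroup.mk' (A.subgroupOf M)))
      (QuotientGroup.mk' (A.subgroupOf M) ⟨z, hzM⟩) := by
    refine ⟨hmemR z hzR, ?_, ?_, ?_, ?_, ?_, ?_, ?_⟩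
    · intro h
      rw [← map_one (QuotientGroup.mk' (A.subgroupOf M)), hπ] at h
      have h' : z⁻¹ * 1 ∈ A := h
      rw [mul_one] at h'
      apply hzA
      have h2 := A.inv_mem h'
      rwa [inv_inv] at h2
    · rw [← map_mul]
      have e : (⟨z, hzM⟩ : ↥M) * ⟨z, hzM⟩ = 1 := Subtype.ext hzz
      rw [e, map_one]
    · rintro x hx y hy
      obtain ⟨p, hp, rfl⟩ := hx
      obtain ⟨p', hp', rfl⟩ := hy
      have hp1 := hRQ (Subgroup.mem_subgroupOf.1 hp)
      have hp2 := hRQ (Subgroup.mem_subgroupOf.1 hp')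
      rw [← map_mul, ← map_inv, ← map_mul, ← map_inv, ← map_mul]
      rcases (memZ _).1 (hq.comm _ hp1 _ hp2) with h | h
      · have e : p * p' * p⁻¹ * p'⁻¹ = 1 := Subtype.ext h
        rw [e, map_one]; exact Subgroup.one_mem _
      · have e : p * p' * p⁻¹ * p'⁻¹ = ⟨z, hzM⟩ := Subtype.ext h
        rw [e]; exact Subgroup.mem_zpowers _
    · rintro x hx
      obtain ⟨p, hp, rfl⟩ := hx
      have hp1 := hRQ (Subgroup.mem_subgroupOf.1 hp)
      rw [← map_mul]
      rcases (memZ _).1 (hq.sqmem _ hp1) with h | h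
      · have e : p * p = 1 := Subtype.ext h
        rw [e, map_one]; exact Subgroup.one_mem _
      · have e : p * p = ⟨z, hzM⟩ := Subtype.ext h
        rw [e]; exact Subgroup.mem_zpowers _
    · intro x hx
      obtain ⟨c, hcM, hcA, rfl⟩ := hrep x
      have hcR : ∀ r ∈ R, r * c = c * r := by
        intro r hr
        have h1 := hx _ (hmemR r hr)
        rw [← map_mul, ← map_mul, hπ] at h1
        have h1' : (r * c)⁻¹ * (c * r) ∈ A := h1
        have h2 : (c * r)⁻¹ * (r * c) ∈ A := by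
          have h3 := A.inv_mem h1'
          have e : ((r * c)⁻¹ * (c * r))⁻¹ = (c * r)⁻¹ * (r * c) := by group
          rw [← e]; exact h3
        exact (hcomm_of c r hr h2).symm
      rcases hD c hcA hcR with h | h
      · have e : QuotientGroup.mk' (A.subgroupOf M) ⟨c, hcM⟩ = 1 := by
          rw [← map_one (QuotientGroup.mk' (A.subgroupOf M)), hπ]
          show c⁻¹ * 1 ∈ A
          rw [mul_one]; exact A.inv_mem h
        rw [e]; exact Subgroup.one_mem _
      · have e : QuotientGroup.mk' (A.subgroupOf M) ⟨c, hcM⟩ =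
            QuotientGroup.mk' (A.subgroupOf M) ⟨z, hzM⟩ := by
          rw [hπ]
          show c⁻¹ * z ∈ A
          have e2 : c⁻¹ * z = (z * c)⁻¹ * (z * z) := by group
          rw [e2, hzz, mul_one]; exact A.inv_mem h
        rw [e]; exact Subgroup.mem_zpowers _
    · intro x hxz y hy
      obtain ⟨c, hcM, hcA, rfl⟩ := hrep x
      obtain ⟨p, hp, rfl⟩ := hy
      have hcz := key_comm c hcM hxz
      have hpR : (p : G) ∈ R := Subgroup.mem_subgroupOf.1 hp
      have hcpR : c * p * c⁻¹ ∈ R := by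
        refine (hR _).2 ⟨hq.norm c hcz p (hRQ hpR), fun a ha => ?_⟩
        calc a * (c * p * c⁻¹) = (a * c) * p * c⁻¹ := by group
          _ = (c * a) * p * c⁻¹ := by rw [hcA a ha]
          _ = c * (a * p) * c⁻¹ := by group
          _ = c * (p * a) * c⁻¹ := by rw [hRC p hpR a ha]
          _ = c * p * (c⁻¹ * (c * a)) * c⁻¹ := by group
          _ = c * p * (c⁻¹ * (a * c)) * c⁻¹ := by rw [hcA a ha]
          _ = (c * p * c⁻¹) * a := by group
      have e : QuotientGroup.mk' (A.subgroupOf M) ⟨c, hcM⟩ * QuotientGroup.mk' (A.subgroupOf M) p *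
          (QuotientGroup.mk' (A.subgroupOf M) ⟨c, hcM⟩)⁻¹ =
          QuotientGroup.mk' (A.subgroupOf M) ⟨c * p * c⁻¹, hRM hcpR⟩ := by
        rw [← map_mul, ← map_inv, ← map_mul]
        rfl
      rw [e]; exact hmemR _ hcpR
    · rintro x ⟨p, hp, rfl⟩
      rw [← map_mul, ← map_mul]
      congr 1
      apply Subtype.ext
      exact hq.central _ (hRQ (Subgroup.mem_subgroupOf.1 hp))
  refine ⟨?_, hQD.centralizer_eq, hQD.centralizer_center_le_normalizer, ?_⟩
  · apply isExtraspecial_of_data _ _ hQD.sq hQD.ne_one hQD.comm hQD.sqmem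
      (fun x _ hxc => hQD.cent x hxc) hQD.central
    obtain ⟨u, huR, hub⟩ := hnonab
    refine ⟨_, hmemR u huR, _, hmemR _ hgR, ?_⟩
    intro h
    rw [← map_mul, ← map_mul, hπ] at h
    exact hub (hcomm_of u _ hgR h)
  · intro K hK hRK
    have hzbarR := hmemR z hzR
    have hsq2 : ∀ y ∈ K, (y * y) * (y * y) = 1 → y = 1 := by
      intro y hy h4
      have h2 := eq_one_of_sq_eq_one_of_odd hK (K.mul_mem hy hy) h4
      exact eq_one_of_sq_eq_one_of_odd hK hy h2
    have keyB : ∀ g' : G, ∀ hbR : g' * z * g'⁻¹ ∈ R, g' * z * g'⁻¹ ≠ z →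
        ∀ x ∈ K, x * QuotientGroup.mk' (A.subgroupOf M) ⟨g' * z * g'⁻¹, hRM hbR⟩ =
            QuotientGroup.mk' (A.subgroupOf M) ⟨g' * z * g'⁻¹, hRM hbR⟩ * x → x = 1 := by
      intro g' hbR hbz' x hxK hxb
      have hpd := pairData_of_conj hq hcard8 g' hbz' (hRQ hbR)
      have hq' := hpd.hQ'
      obtain ⟨c, hcM, hcA, rfl⟩ := hrep x
      rw [← map_mul, ← map_mul, hπ] at hxb
      have hcb : c * (g' * z * g'⁻¹) = (g' * z * g'⁻¹) * c := hcomm_of c _ hbR hxb
      have hw : z * c * z⁻¹ * c⁻¹ ∈ Q.map (MulAut.conj g').toMonoidHom := by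
        have h1 := hq'.norm c hcb z⁻¹ (Subgroup.inv_mem _ hpd.hzQ')
        have e : z * c * z⁻¹ * c⁻¹ = z * (c * z⁻¹ * c⁻¹) := by group
        rw [e]; exact Subgroup.mul_mem _ hpd.hzQ' h1
      have hwK : QuotientGroup.mk' (A.subgroupOf M) ⟨z, hzM⟩ *
          QuotientGroup.mk' (A.subgroupOf M) ⟨c, hcM⟩ *
          (QuotientGroup.mk' (A.subgroupOf M) ⟨z, hzM⟩)⁻¹ *
          (QuotientGroup.mk' (A.subgroupOf M) ⟨c, hcM⟩)⁻¹ ∈ K :=
        K.mul_mem ((Subgroup.mem_normalizer_iff.1 (hRK hzbarR) _).1 hxK) (K.inv_mem hxK)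
      have hW1 : QuotientGroup.mk' (A.subgroupOf M) ⟨z, hzM⟩ *
          QuotientGroup.mk' (A.subgroupOf M) ⟨c, hcM⟩ *
          (QuotientGroup.mk' (A.subgroupOf M) ⟨z, hzM⟩)⁻¹ *
          (QuotientGroup.mk' (A.subgroupOf M) ⟨c, hcM⟩)⁻¹ = 1 := by
        apply hsq2 _ hwK
        rw [← map_inv, ← map_inv, ← map_mul, ← map_mul, ← map_mul, ← map_mul, ← map_mul,
          ← map_one (QuotientGroup.mk' (A.subgroupOf M))]
        congr 1
        apply Subtype.ext
        show (z * c * z⁻¹ * c⁻¹ * (z * c * z⁻¹ * c⁻¹)) *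
          (z * c * z⁻¹ * c⁻¹ * (z * c * z⁻¹ * c⁻¹)) = 1
        rcases (mem_zpowers_invol hq'.sq _).1 (hq'.sqmem _ hw) with h | h
        · rw [h, one_mul]
        · rw [h, hq'.sq]
      have hcomm : QuotientGroup.mk' (A.subgroupOf M) ⟨z, hzM⟩ *
          QuotientGroup.mk' (A.subgroupOf M) ⟨c, hcM⟩ =
          QuotientGroup.mk' (A.subgroupOf M) ⟨c, hcM⟩ *
          QuotientGroup.mk' (A.subgroupOf M) ⟨z, hzM⟩ := by
        calc QuotientGroup.mk' (A.subgroupOf M) ⟨z, hzM⟩ *
              QuotientGroup.mk' (A.subgroupOf M) ⟨c, hcM⟩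
            = (QuotientGroup.mk' (A.subgroupOf M) ⟨z, hzM⟩ *
              QuotientGroup.mk' (A.subgroupOf M) ⟨c, hcM⟩ *
              (QuotientGroup.mk' (A.subgroupOf M) ⟨z, hzM⟩)⁻¹ *
              (QuotientGroup.mk' (A.subgroupOf M) ⟨c, hcM⟩)⁻¹) *
              (QuotientGroup.mk' (A.subgroupOf M) ⟨c, hcM⟩ *
              QuotientGroup.mk' (A.subgroupOf M) ⟨z, hzM⟩) := by group
          _ = QuotientGroup.mk' (A.subgroupOf M) ⟨c, hcM⟩ *
              QuotientGroup.mk' (A.subgroupOf M) ⟨z, hzM⟩ := by rw [hW1, one_mul]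
      exact hQD.eq_one_of_odd_of_comm K hK hRK _ hxK hcomm.symm
    have hB := keyB g hgR hbz
    have hpd := pairData_of_conj hq hcard8 g hbz (hRQ hgR)
    have hbb := hpd.hQ'.sq
    obtain ⟨u, huQ, hub, -, -⟩ := qdata_split hq (hRQ hgR) hpd.hQ'.ne_one hbz
    have hg' : (u * g) * z * (u * g)⁻¹ = z * (g * z * g⁻¹) := by
      calc (u * g) * z * (u * g)⁻¹ = u * (g * z * g⁻¹) * u⁻¹ := by group
        _ = z * (g * z * g⁻¹) := hub
    have hzbR : (u * g) * z * (u * g)⁻¹ ∈ R := by rw [hg']; exact R.mul_mem hzR hgR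
    have hzbz : (u * g) * z * (u * g)⁻¹ ≠ z := by
      rw [hg']
      intro h
      apply hpd.hQ'.ne_one
      calc g * z * g⁻¹ = z⁻¹ * (z * (g * z * g⁻¹)) := by group
        _ = 1 := by rw [h]; group
    have hZB := keyB (u * g) hzbR hzbz
    refine hQD.eq_bot_of_odd K hK hRK (QuotientGroup.mk' (A.subgroupOf M) ⟨g * z * g⁻¹, hRM hgR⟩)
      (hmemR _ hgR) ?_ hB ?_
    · rw [← map_mul]
      have e : (⟨g * z * g⁻¹, hRM hgR⟩ : ↥M) * ⟨g * z * g⁻¹, hRM hgR⟩ = 1 := Subtype.ext hbb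
      rw [e, map_one]
    · intro x hx hxc
      apply hZB x hx
      have e : QuotientGroup.mk' (A.subgroupOf M) ⟨(u * g) * z * (u * g)⁻¹, hRM hzbR⟩ =
          QuotientGroup.mk' (A.subgroupOf M) ⟨z, hzM⟩ *
          QuotientGroup.mk' (A.subgroupOf M) ⟨g * z * g⁻¹, hRM hgR⟩ := by
        rw [← map_mul]
        congr 1
        exact Subtype.ext hg'
      rw [e]; exact hxc

/-- Let z be an involution of the finite group G whose centralizer C has generalized Fitting subgroup Q extraspecial (as a 2-group), let A be a subgroup of C of odd order, and let R be the centralizer of A in Q; suppose R has order at least 32, the largest normal subgroup of odd order of the centralizer of the subgroup generated by A and R lies in A, the order of that centralizer is not divisible by 4, and g is an element of G with g z g⁻¹ in R but outside the centre Z of Q. Let M be the subgroup generated by A and the centralizer of A (A is normal in it). Then: the centralizer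 in M of the subgroup generated by R and A, joined with A, equals the subgroup generated by A and Z; the image of R in M/A is a large extraspecial 2-subgroup of M/A; and g z g⁻¹ is conjugate to z inside the subgroup generated by R and the centralizer of A in g Q g⁻¹. -/
theorem result {G : Type*} [Group G] [Finite G] (z : G) (hz : orderOf z = 2) (Q : Subgroup G) (hQC : Q ≤ Subgroup.centralizer ({z} : Set G)) (hF : (Cfsg.generalizedFittingSubgroup ↥(Subgroup.centralizer ({z} : Set G))).map (Subgroup.centralizer ({z} : Set G)).subtype = Q) (hQ : Cfsg.IsExtraspecial 2 ↥Q) (A : Subgroup G) (hA : A ≤ Subgroup.centralizer ({z} : Set G)) (hAodd : Odd (Nat.card ↥A)) (R : Subgroup G) (hR : R = Q ⊓ Subgroup.centralizer (A : Set G)) (hR32 : 32 ≤ Nat.card ↥R) (hO : (Cfsg.oddCore ↥(Subgroup.centralizer ((A ⊔ R : Subgroup G) : Set G))).map (Subgroup.centralizer ((A ⊔ R : Subgroup G) : Set G)).subtype ≤ A) (h4 : ¬ 4 ∣ Nat.card ↥(Subgroup.centralizer ((A ⊔ R : Subgroup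 G) : Set G))) (g : G) (hgR : g * z * g⁻¹ ∈ R) (hgZ : g * z * g⁻¹ ∉ ((Subgroup.center ↥Q).map Q.subtype)) (M : Subgroup G) (hM : M = Subgroup.centralizer (A : Set G) ⊔ A) [hn : (A.subgroupOf M).Normal] : (M ⊓ Subgroup.centralizer ((R ⊔ A : Subgroup G) : Set G)) ⊔ A = A ⊔ ((Subgroup.center ↥Q).map Q.subtype) ∧ Cfsg.IsLargeExtraspecial ((R.subgroupOf M).map (QuotientGroup.mk' (A.subgroupOf M))) ∧ ∃ x ∈ R ⊔ ((Q).map (MulAut.conj g).toMonoidHom ⊓ Subgroup.centralizer (A : Set G)), x * (g * z * g⁻¹) * x⁻¹ = z := by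
  have hq := qdata_of_fstar z hz Q hF hQ
  have hZ := hq.center_map_eq
  have hzz := hq.sq
  have memZ := mem_zpowers_invol hzz
  rw [hZ] at hgZ ⊢
  have hb1 : g * z * g⁻¹ ≠ 1 := fun h => hgZ (by rw [h]; exact Subgroup.one_mem _)
  have hbz : g * z * g⁻¹ ≠ z := fun h => hgZ (by rw [h]; exact Subgroup.mem_zpowers z)
  have hAz : ∀ a ∈ A, a * z = z * a := fun a ha => Subgroup.mem_centralizer_singleton_iff.1 (hA ha)
  have hRmem : ∀ x, x ∈ R ↔ x ∈ Q ∧ ∀ a ∈ A, a * x = x * a := by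
    intro x
    rw [hR, Subgroup.mem_inf, Subgroup.mem_centralizer_iff]
    rfl
  have hRQ : R ≤ Q := fun r hr => ((hRmem r).1 hr).1
  have hcard8 : 8 < Nat.card Q := by
    have h1 : Nat.card R ≤ Nat.card Q := Subgroup.card_le_of_le hRQ
    omega
  have hzR : z ∈ R := (hRmem z).2 ⟨hq.mem, hAz⟩
  have hpd := pairData_of_conj hq hcard8 g hbz (hRQ hgR)
  have hq' := hpd.hQ'
  have hbb := hq'.sq
  have hbA : ∀ a ∈ A, a * (g * z * g⁻¹) = (g * z * g⁻¹) * a := ((hRmem _).1 hgR).2
  have hAN : A ≤ Subgroup.normalizer (Q : Set G) := by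
    intro a ha
    rw [Subgroup.mem_normalizer_iff]
    intro q
    constructor
    · exact hq.norm a (hAz a ha) q
    · intro h
      have hai : a⁻¹ * z = z * a⁻¹ := (hAz a⁻¹ (A.inv_mem ha))
      have h1 := hq.norm a⁻¹ hai _ h
      have e1 : a⁻¹ * (a * q * a⁻¹) * a⁻¹⁻¹ = q := by group
      rwa [e1] at h1
  have hAN' : A ≤ Subgroup.normalizer ((Q.map (MulAut.conj g).toMonoidHom : Subgroup G) : Set G) := by
    intro a ha
    rw [Subgroup.mem_normalizer_iff]
    intro q
    constructor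
    · exact hq'.norm a (hbA a ha) q
    · intro h
      have hai : a⁻¹ * (g * z * g⁻¹) = (g * z * g⁻¹) * a⁻¹ := (hbA a⁻¹ (A.inv_mem ha))
      have h1 := hq'.norm a⁻¹ hai _ h
      have e1 : a⁻¹ * (a * q * a⁻¹) * a⁻¹⁻¹ = q := by group
      rwa [e1] at h1
  have hQ' : Cfsg.IsExtraspecial 2 ↥(Q.map (MulAut.conj g).toMonoidHom) :=
    isExtraspecial_of_mulEquiv (Q.equivMapOfInjective _ (MulAut.conj g).injective) hQ
  -- the two non-commuting elements
  obtain ⟨u, huQ, huA, hub⟩ := exists_noncomm hq hQ A hAN hAodd hAz _ (hRQ hgR) hbA hgZ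
  have huR : u ∈ R := (hRmem u).2 ⟨huQ, huA⟩
  have hzb' : z ∉ Subgroup.zpowers (g * z * g⁻¹) := by
    intro h
    rcases (mem_zpowers_invol hbb z).1 h with h1 | h1
    · exact hq.ne_one h1
    · exact hbz h1.symm
  obtain ⟨v, hvQ', hvA, hvz⟩ := exists_noncomm hq' hQ' A hAN' hAodd hbA z hpd.hzQ' hAz hzb'
  -- elements of the centralizer of A ⊔ R
  have hD : ∀ d : G, (∀ a ∈ A, a * d = d * a) → (∀ r ∈ R, r * d = d * r) → d ∈ A ∨ z * d ∈ A := by
    intro d hdA hdR
    have hle : A ⊔ R ≤ Subgroup.centralizer ({d} : Set G) :=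
      sup_le (fun a ha => Subgroup.mem_centralizer_singleton_iff.2 (hdA a ha))
        (fun r hr => Subgroup.mem_centralizer_singleton_iff.2 (hdR r hr))
    have hdD : d ∈ Subgroup.centralizer ((A ⊔ R : Subgroup G) : Set G) := by
      rw [Subgroup.mem_centralizer_iff]
      intro h hh
      exact Subgroup.mem_centralizer_singleton_iff.1 (hle hh)
    have hzD : z ∈ Subgroup.centralizer ((A ⊔ R : Subgroup G) : Set G) := by
      rw [Subgroup.mem_centralizer_iff]
      intro h hh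
      have hle2 : A ⊔ R ≤ Subgroup.centralizer ({z} : Set G) := sup_le hA (hRQ.trans hQC)
      exact Subgroup.mem_centralizer_singleton_iff.1 (hle2 hh)
    have key := mem_oddCore_or_of_central_invol
      (⟨z, hzD⟩ : ↥(Subgroup.centralizer ((A ⊔ R : Subgroup G) : Set G)))
      (Subtype.ext hzz) (fun h => hq.ne_one (congrArg Subtype.val h))
      (fun d' => Subtype.ext
        ((Subgroup.mem_centralizer_iff.1 d'.2 z (Subgroup.mem_sup_right hzR)).symm)) h4 ⟨d, hdD⟩
    rcases key with h | h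
    · left
      exact hO ⟨_, h, rfl⟩
    · right
      exact hO ⟨_, h, rfl⟩
  have hMmem : ∀ m, m ∈ M ↔ ∃ c a, (∀ a' ∈ A, a' * c = c * a') ∧ a ∈ A ∧ m = c * a := by
    intro m
    rw [hM]
    exact mem_centralizer_sup_iff A m
  have hzM : z ∈ M := (hMmem z).2 ⟨z, 1, hAz, A.one_mem, (mul_one z).symm⟩
  refine ⟨?_, ?_, ?_⟩
  · apply le_antisymm
    · refine sup_le ?_ le_sup_left
      intro d hd
      have hd2 := Subgroup.mem_centralizer_iff.1 hd.2
      have hdA : ∀ a ∈ A, a * d = d * a := fun a ha => hd2 a (Subgroup.mem_sup_right ha)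
      have hdR : ∀ r ∈ R, r * d = d * r := fun r hr => hd2 r (Subgroup.mem_sup_left hr)
      rcases hD d hdA hdR with h | h
      · exact Subgroup.mem_sup_left h
      · have e : d = (z * d) * z := by
          rw [mul_assoc, ← hdR z hzR, ← mul_assoc, hzz, one_mul]
        rw [e]
        exact Subgroup.mul_mem _ (Subgroup.mem_sup_left h)
          (Subgroup.mem_sup_right (Subgroup.mem_zpowers z))
    · refine sup_le le_sup_right ?_
      rw [Subgroup.zpowers_le]
      apply Subgroup.mem_sup_left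
      refine Subgroup.mem_inf.2 ⟨hzM, ?_⟩
      rw [Subgroup.mem_centralizer_iff]
      intro h hh
      have hle2 : R ⊔ A ≤ Subgroup.centralizer ({z} : Set G) := sup_le (hRQ.trans hQC) hA
      exact Subgroup.mem_centralizer_singleton_iff.1 (hle2 hh)
  · exact aux hq hcard8 A hAodd hAz R hRmem hD g hgR hbz ⟨u, huR, hub⟩ M hMmem
  · have hub' : u * (g * z * g⁻¹) * u⁻¹ = z * (g * z * g⁻¹) := by
      rcases hpd.conj_b u huQ with h | h
      · exfalso
        apply hub
        calc u * (g * z * g⁻¹) = (u * (g * z * g⁻¹) * u⁻¹) * u := by group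
          _ = (g * z * g⁻¹) * u := by rw [h]
      · exact h
    have hvz' : v * z * v⁻¹ = (g * z * g⁻¹) * z := by
      rcases hpd.symm.conj_b v hvQ' with h | h
      · exfalso
        apply hvz
        calc v * z = (v * z * v⁻¹) * v := by group
          _ = z * v := by rw [h]
      · exact h
    refine ⟨v * u, ?_, ?_⟩
    · apply Subgroup.mul_mem
      · exact Subgroup.mem_sup_right (Subgroup.mem_inf.2
          ⟨hvQ', Subgroup.mem_centralizer_iff.2 hvA⟩)
      · exact Subgroup.mem_sup_left huR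
    · have hvb : v * (g * z * g⁻¹) * v⁻¹ = g * z * g⁻¹ := by
        have h := hq'.central v hvQ'
        calc v * (g * z * g⁻¹) * v⁻¹ = ((g * z * g⁻¹) * v) * v⁻¹ := by rw [h]
          _ = g * z * g⁻¹ := by group
      calc v * u * (g * z * g⁻¹) * (v * u)⁻¹ = v * (u * (g * z * g⁻¹) * u⁻¹) * v⁻¹ := by group
        _ = v * (z * (g * z * g⁻¹)) * v⁻¹ := by rw [hub']
        _ = (v * z * v⁻¹) * (v * (g * z * g⁻¹) * v⁻¹) := by group
        _ = (g * z * g⁻¹) * z * (g * z * g⁻¹) := by rw [hvz', hvb]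
        _ = (g * z * g⁻¹) * (z * (g * z * g⁻¹)) := by group
        _ = (g * z * g⁻¹) * ((g * z * g⁻¹) * z) := by rw [hpd.comm]
        _ = z := by rw [← mul_assoc, hbb, one_mul]

end Cfsg.Agent.S5428
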