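import Cfsg.Statements.S5429
import Cfsg.Agent.Lib.helper92.Large
import Cfsg.Agent.Lib.helper92.Pair
import Cfsg.Agent.Lib.helper92.ExtraSub

set_option autoImplicit false
open Cfsg

namespace Cfsg.Agent.S5429

open Cfsg.Agent.Lib.helper92

/-- The quotient part: the image of `P = C_Q(t)` in `C_G(t)/⟨t⟩` is large extraspecial. -/
theorem aux {G : Type*} [Group G] [Finite G] {Q : Subgroup G} {z : G} (hq : QData Q z)
    (hcard8 : 8 < Nat.card Q) (g : G) (hgQ : g * z * g⁻¹ ∈ Q) (hbz : g * z * g⁻¹ ≠ z)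
    (t : G) (htt : t * t = 1) (ht1 : t ≠ 1) (htQ : t ∈ Q)
    (htQ' : t ∈ Q.map (MulAut.conj g).toMonoidHom) (htz : ¬ IsConj z t)
    (hCP : ∀ c : G, c * z = z * c →
      (∀ x ∈ Q, x * t = t * x → c * x * c⁻¹ = x ∨ c * x * c⁻¹ = x * t) → c ∈ Q)
    (Ct : Subgroup G) (hCt : ∀ c : G, c ∈ Ct ↔ c * t = t * c)
    (N : Subgroup ↥Ct) [N.Normal] (hN : ∀ c : ↥Ct, c ∈ N ↔ (c : G) = 1 ∨ (c : G) = t)
    (P : Subgroup G) (hP : ∀ x : G, x ∈ P ↔ x ∈ Q ∧ x * t = t * x) :
    Cfsg.IsLargeExtraspecial ((P.subgroupOf Ct).map (QuotientGroup.mk' N)) := by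
  classical
  have hzz := hq.sq
  have memZ := mem_zpowers_invol hzz
  have hz1 := hq.ne_one
  have ht_ne_z : t ≠ z := fun h => htz (h ▸ IsConj.refl z)
  have hzt : z * t = t * z := (hq.central t htQ).symm
  have hπ : ∀ c d : ↥Ct, (QuotientGroup.mk' N c = QuotientGroup.mk' N d) ↔
      ((d : G) = c ∨ (d : G) = c * t) := by
    intro c d
    rw [QuotientGroup.mk'_apply, QuotientGroup.mk'_apply, QuotientGroup.eq, hN]
    constructor
    · rintro (h | h)
      · left
        have h' : (c : G)⁻¹ * d = 1 := h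
        calc (d : G) = c * ((c : G)⁻¹ * d) := by group
          _ = c := by rw [h', mul_one]
      · right
        have h' : (c : G)⁻¹ * d = t := h
        calc (d : G) = c * ((c : G)⁻¹ * d) := by group
          _ = c * t := by rw [h']
    · rintro (h | h)
      · left
        show (c : G)⁻¹ * d = 1
        rw [h]; group
      · right
        show (c : G)⁻¹ * d = t
        rw [h]; group
  have hzCt : z ∈ Ct := (hCt z).2 hzt
  have hPCt : P ≤ Ct := fun x hx => (hCt x).2 ((hP x).1 hx).2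
  have htP : t ∈ P := (hP t).2 ⟨htQ, rfl⟩
  have hzP : z ∈ P := (hP z).2 ⟨hq.mem, hzt⟩
  have hmemP : ∀ c : ↥Ct, QuotientGroup.mk' N c ∈ (P.subgroupOf Ct).map (QuotientGroup.mk' N) ↔
      (c : G) ∈ P := by
    intro c
    constructor
    · rintro ⟨p, hp, hpc⟩
      have hp' : (p : G) ∈ P := Subgroup.mem_subgroupOf.1 hp
      rcases (hπ p c).1 hpc with h | h
      · rw [h]; exact hp'
      · rw [h]; exact P.mul_mem hp' htP
    · intro hc
      exact ⟨c, Subgroup.mem_subgroupOf.2 hc, rfl⟩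
  have hsurj := QuotientGroup.mk'_surjective N
  have hnzt : ∀ c : G, c * z * c⁻¹ ≠ z * t := by
    intro c hc
    obtain ⟨c₀, hc₀Q, hc₀t, -, -⟩ := qdata_split hq htQ ht1 ht_ne_z
    apply htz
    rw [isConj_iff]
    refine ⟨c₀⁻¹ * c, ?_⟩
    calc c₀⁻¹ * c * z * (c₀⁻¹ * c)⁻¹ = c₀⁻¹ * (c * z * c⁻¹) * c₀ := by group
      _ = c₀⁻¹ * (c₀ * t * c₀⁻¹) * c₀ := by rw [hc, hc₀t]
      _ = t := by group
  have key_comm : ∀ c : ↥Ct, QuotientGroup.mk' N c * QuotientGroup.mk' N ⟨z, hzCt⟩ =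
      QuotientGroup.mk' N ⟨z, hzCt⟩ * QuotientGroup.mk' N c → (c : G) * z = z * c := by
    intro c hc
    rw [← map_mul, ← map_mul, hπ] at hc
    rcases hc with h | h
    · exact h.symm
    · exfalso
      have h' : z * (c : G) = c * z * t := h
      apply hnzt (c : G)⁻¹
      calc (c : G)⁻¹ * z * (c : G)⁻¹⁻¹ = (c : G)⁻¹ * (z * c) := by group
        _ = (c : G)⁻¹ * (c * z * t) := by rw [h']
        _ = z * t := by group
  have hQD : QData ((P.subgroupOf Ct).map (QuotientGroup.mk' N))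
      (QuotientGroup.mk' N ⟨z, hzCt⟩) := by
    refine ⟨(hmemP _).2 hzP, ?_, ?_, ?_, ?_, ?_, ?_, ?_⟩
    · intro h
      rw [← map_one (QuotientGroup.mk' N), hπ] at h
      rcases h with h | h
      · exact hz1 h.symm
      · apply ht_ne_z
        have h' : (1 : G) = z * t := h
        calc t = z * (z * t) := by rw [← mul_assoc, hzz, one_mul]
          _ = z := by rw [← h', mul_one]
    · rw [← map_mul]
      have e : (⟨z, hzCt⟩ : ↥Ct) * ⟨z, hzCt⟩ = 1 := Subtype.ext hzz
      rw [e, map_one]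
    · rintro x hx y hy
      obtain ⟨p, hp, rfl⟩ := hx
      obtain ⟨p', hp', rfl⟩ := hy
      have hp1 := ((hP _).1 (Subgroup.mem_subgroupOf.1 hp)).1
      have hp2 := ((hP _).1 (Subgroup.mem_subgroupOf.1 hp')).1
      rw [← map_mul, ← map_inv, ← map_mul, ← map_inv, ← map_mul]
      rcases (memZ _).1 (hq.comm _ hp1 _ hp2) with h | h
      · have e : p * p' * p⁻¹ * p'⁻¹ = 1 := Subtype.ext h
        rw [e, map_one]; exact Subgroup.one_mem _
      · have e : p * p' * p⁻¹ * p'⁻¹ = ⟨z, hzCt⟩ := Subtype.ext h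
        rw [e]; exact Subgroup.mem_zpowers _
    · rintro x hx
      obtain ⟨p, hp, rfl⟩ := hx
      have hp1 := ((hP _).1 (Subgroup.mem_subgroupOf.1 hp)).1
      rw [← map_mul]
      rcases (memZ _).1 (hq.sqmem _ hp1) with h | h
      · have e : p * p = 1 := Subtype.ext h
        rw [e, map_one]; exact Subgroup.one_mem _
      · have e : p * p = ⟨z, hzCt⟩ := Subtype.ext h
        rw [e]; exact Subgroup.mem_zpowers _
    · intro x hx
      obtain ⟨c, rfl⟩ := hsurj x
      have hcz : (c : G) * z = z * c := key_comm c (hx _ ((hmemP _).2 hzP)).symm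
      have hct : (c : G) * t = t * c := (hCt _).1 c.2
      have hcP : ∀ p ∈ Q, p * t = t * p →
          (c : G) * p * (c : G)⁻¹ = p ∨ (c : G) * p * (c : G)⁻¹ = p * t := by
        intro p hpQ hpt
        have hpP : p ∈ P := (hP p).2 ⟨hpQ, hpt⟩
        have h1 := hx (QuotientGroup.mk' N ⟨p, hPCt hpP⟩) ((hmemP _).2 hpP)
        rw [← map_mul, ← map_mul, hπ] at h1
        rcases h1 with h | h
        · left
          have h' : (c : G) * p = p * c := h
          calc (c : G) * p * (c : G)⁻¹ = (p * c) * (c : G)⁻¹ := by rw [h']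
            _ = p := by group
        · right
          have h' : (c : G) * p = p * c * t := h
          calc (c : G) * p * (c : G)⁻¹ = (p * c * t) * (c : G)⁻¹ := by rw [h']
            _ = p * (c * t) * (c : G)⁻¹ := by group
            _ = p * (t * c) * (c : G)⁻¹ := by rw [hct]
            _ = p * t := by group
      have hcQ : (c : G) ∈ Q := hCP c hcz hcP
      have hcc : ∀ p ∈ Q, p * t = t * p → p * (c : G) = c * p := by
        intro p hpQ hpt
        rcases hcP p hpQ hpt with h | h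
        · calc p * (c : G) = ((c : G) * p * (c : G)⁻¹) * c := by rw [h]
            _ = c * p := by group
        · exfalso
          have h2 := hq.comm c hcQ p hpQ
          have h3 : (c : G) * p * (c : G)⁻¹ * p⁻¹ = t := by
            rw [h]
            calc p * t * p⁻¹ = (t * p) * p⁻¹ := by rw [hpt]
              _ = t := by group
          rw [h3] at h2
          rcases (memZ t).1 h2 with h4 | h4
          · exact ht1 h4
          · exact ht_ne_z h4
      rcases qdata_cent_cent hq htQ ht1 ht_ne_z htt (c : G) hcQ hcc with h | h | h | h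
      · have e : c = 1 := Subtype.ext h
        rw [e, map_one]; exact Subgroup.one_mem _
      · have e : c = ⟨z, hzCt⟩ := Subtype.ext h
        rw [e]; exact Subgroup.mem_zpowers _
      · have e : QuotientGroup.mk' N c = 1 := by
          rw [← map_one (QuotientGroup.mk' N), hπ]
          right
          show (1 : G) = c * t
          rw [h, htt]
        rw [e]; exact Subgroup.one_mem _
      · have e : QuotientGroup.mk' N c = QuotientGroup.mk' N ⟨z, hzCt⟩ := by
          rw [hπ]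
          right
          show z = (c : G) * t
          rw [h, mul_assoc, htt, mul_one]
        rw [e]; exact Subgroup.mem_zpowers _
    · intro x hxz y hy
      obtain ⟨c, rfl⟩ := hsurj x
      obtain ⟨p, hp, rfl⟩ := hy
      have hcz := key_comm c hxz
      have hpP : (p : G) ∈ P := Subgroup.mem_subgroupOf.1 hp
      have hpQ := ((hP _).1 hpP).1
      have hpt := ((hP _).1 hpP).2
      have hct : (c : G) * t = t * c := (hCt _).1 c.2
      rw [← map_mul, ← map_inv, ← map_mul, hmemP]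
      show (c : G) * p * (c : G)⁻¹ ∈ P
      rw [hP]
      refine ⟨hq.norm c hcz p hpQ, ?_⟩
      have hct' : (c : G)⁻¹ * t = t * (c : G)⁻¹ := by
        calc (c : G)⁻¹ * t = (c : G)⁻¹ * (t * c) * (c : G)⁻¹ := by group
          _ = (c : G)⁻¹ * (c * t) * (c : G)⁻¹ := by rw [hct]
          _ = t * (c : G)⁻¹ := by group
      calc (c : G) * p * (c : G)⁻¹ * t = c * p * ((c : G)⁻¹ * t) := by group
        _ = c * p * (t * (c : G)⁻¹) := by rw [hct']
        _ = c * (p * t) * (c : G)⁻¹ := by group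
        _ = c * (t * p) * (c : G)⁻¹ := by rw [hpt]
        _ = (c * t) * p * (c : G)⁻¹ := by group
        _ = (t * c) * p * (c : G)⁻¹ := by rw [hct]
        _ = t * ((c : G) * p * (c : G)⁻¹) := by group
    · rintro x ⟨p, hp, rfl⟩
      rw [← map_mul, ← map_mul]
      congr 1
      apply Subtype.ext
      exact hq.central _ ((hP _).1 (Subgroup.mem_subgroupOf.1 hp)).1
  refine ⟨?_, hQD.centralizer_eq, hQD.centralizer_center_le_normalizer, ?_⟩
  · apply isExtraspecial_of_data _ _ hQD.sq hQD.ne_one hQD.comm hQD.sqmem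
      (fun x _ hxc => hQD.cent x hxc) hQD.central
    obtain ⟨a, haQ, c, hcQ, hat, hct, hac⟩ :=
      exists_noncomm_pair hq htQ ht1 ht_ne_z htt hcard8
    have haP : a ∈ P := (hP a).2 ⟨haQ, hat⟩
    have hcP : c ∈ P := (hP c).2 ⟨hcQ, hct⟩
    refine ⟨_, (hmemP ⟨a, hPCt haP⟩).2 haP, _, (hmemP ⟨c, hPCt hcP⟩).2 hcP, ?_⟩
    intro h
    rw [← map_mul, ← map_mul, hπ] at h
    rcases h with h | h
    · exact hac h.symm
    · have h' : c * a = a * c * t := h
      have h2 := hq.comm c⁻¹ (Q.inv_mem hcQ) a⁻¹ (Q.inv_mem haQ)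
      have h3 : c⁻¹ * a⁻¹ * c⁻¹⁻¹ * a⁻¹⁻¹ = t := by
        calc c⁻¹ * a⁻¹ * c⁻¹⁻¹ * a⁻¹⁻¹ = (a * c)⁻¹ * (c * a) := by group
          _ = (a * c)⁻¹ * (a * c * t) := by rw [h']
          _ = t := by group
      rw [h3] at h2
      rcases (memZ t).1 h2 with h4 | h4
      · exact ht1 h4
      · exact ht_ne_z h4
  · intro K hK hPK
    have hzbarP : QuotientGroup.mk' N ⟨z, hzCt⟩ ∈ (P.subgroupOf Ct).map (QuotientGroup.mk' N) :=
      (hmemP _).2 hzP
    have hsq2 : ∀ y ∈ K, (y * y) * (y * y) = 1 → y = 1 := by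
      intro y hy h4
      have h2 := eq_one_of_sq_eq_one_of_odd hK (K.mul_mem hy hy) h4
      exact eq_one_of_sq_eq_one_of_odd hK hy h2
    have keyB : ∀ g' : G, g' * z * g'⁻¹ ∈ Q → g' * z * g'⁻¹ ≠ z →
        t ∈ Q.map (MulAut.conj g').toMonoidHom →
        ∃ hb : g' * z * g'⁻¹ ∈ Ct, ∀ x ∈ K,
          x * QuotientGroup.mk' N ⟨g' * z * g'⁻¹, hb⟩ =
            QuotientGroup.mk' N ⟨g' * z * g'⁻¹, hb⟩ * x → x = 1 := by
      intro g' hbQ hbz' htQ''
      have hpd := pairData_of_conj hq hcard8 g' hbz' hbQ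
      have hq' := hpd.hQ'
      have hbt : g' * z * g'⁻¹ * t = t * (g' * z * g'⁻¹) := (hq'.central t htQ'').symm
      refine ⟨(hCt _).2 hbt, ?_⟩
      intro x hxK hxb
      obtain ⟨c, rfl⟩ := hsurj x
      rw [← map_mul, ← map_mul, hπ] at hxb
      have hct : (c : G) * t = t * c := (hCt _).1 c.2
      have hcb : (c : G) * (g' * z * g'⁻¹) = (g' * z * g'⁻¹) * c := by
        rcases hxb with h | h
        · exact h.symm
        · exfalso
          have h' : (g' * z * g'⁻¹) * (c : G) = c * (g' * z * g'⁻¹) * t := h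
          have htb : t ≠ g' * z * g'⁻¹ := fun e => htz (isConj_iff.2 ⟨g', e.symm⟩)
          obtain ⟨c₁, -, hc₁t, -, -⟩ := qdata_split hq' htQ'' ht1 htb
          apply htz
          rw [isConj_iff]
          refine ⟨c₁⁻¹ * (c : G)⁻¹ * g', ?_⟩
          calc c₁⁻¹ * (c : G)⁻¹ * g' * z * (c₁⁻¹ * (c : G)⁻¹ * g')⁻¹
              = c₁⁻¹ * ((c : G)⁻¹ * ((g' * z * g'⁻¹) * c)) * c₁ := by group
            _ = c₁⁻¹ * ((c : G)⁻¹ * (c * (g' * z * g'⁻¹) * t)) * c₁ := by rw [h']
            _ = c₁⁻¹ * ((g' * z * g'⁻¹) * t) * c₁ := by group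
            _ = c₁⁻¹ * (c₁ * t * c₁⁻¹) * c₁ := by rw [hc₁t]
            _ = t := by group
      have hw : z * (c : G) * z⁻¹ * (c : G)⁻¹ ∈ Q.map (MulAut.conj g').toMonoidHom := by
        have h1 := hq'.norm c hcb z⁻¹ (Subgroup.inv_mem _ hpd.hzQ')
        have e : z * (c : G) * z⁻¹ * (c : G)⁻¹ = z * ((c : G) * z⁻¹ * (c : G)⁻¹) := by group
        rw [e]; exact Subgroup.mul_mem _ hpd.hzQ' h1
      have hwK : QuotientGroup.mk' N ⟨z, hzCt⟩ * QuotientGroup.mk' N c *
          (QuotientGroup.mk' N ⟨z, hzCt⟩)⁻¹ * (QuotientGroup.mk' N c)⁻¹ ∈ K :=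
        K.mul_mem ((Subgroup.mem_normalizer_iff.1 (hPK hzbarP) _).1 hxK) (K.inv_mem hxK)
      have hW1 : QuotientGroup.mk' N ⟨z, hzCt⟩ * QuotientGroup.mk' N c *
          (QuotientGroup.mk' N ⟨z, hzCt⟩)⁻¹ * (QuotientGroup.mk' N c)⁻¹ = 1 := by
        apply hsq2 _ hwK
        rw [← map_inv, ← map_inv, ← map_mul, ← map_mul, ← map_mul, ← map_mul, ← map_mul,
          ← map_one (QuotientGroup.mk' N)]
        congr 1
        apply Subtype.ext
        show (z * (c : G) * z⁻¹ * (c : G)⁻¹ * (z * (c : G) * z⁻¹ * (c : G)⁻¹)) *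
          (z * (c : G) * z⁻¹ * (c : G)⁻¹ * (z * (c : G) * z⁻¹ * (c : G)⁻¹)) = 1
        rcases (mem_zpowers_invol hq'.sq _).1 (hq'.sqmem _ hw) with h | h
        · rw [h, one_mul]
        · rw [h, hq'.sq]
      have hcomm : QuotientGroup.mk' N ⟨z, hzCt⟩ * QuotientGroup.mk' N c =
          QuotientGroup.mk' N c * QuotientGroup.mk' N ⟨z, hzCt⟩ := by
        calc QuotientGroup.mk' N ⟨z, hzCt⟩ * QuotientGroup.mk' N c
            = (QuotientGroup.mk' N ⟨z, hzCt⟩ * QuotientGroup.mk' N c *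
              (QuotientGroup.mk' N ⟨z, hzCt⟩)⁻¹ * (QuotientGroup.mk' N c)⁻¹) *
              (QuotientGroup.mk' N c * QuotientGroup.mk' N ⟨z, hzCt⟩) := by group
          _ = QuotientGroup.mk' N c * QuotientGroup.mk' N ⟨z, hzCt⟩ := by rw [hW1, one_mul]
      exact hQD.eq_one_of_odd_of_comm K hK hPK _ hxK hcomm.symm
    obtain ⟨hbCt, hB⟩ := keyB g hgQ hbz htQ'
    have hpd := pairData_of_conj hq hcard8 g hbz hgQ
    have hbb := hpd.hQ'.sq
    obtain ⟨u, huQ, hub, -, -⟩ := qdata_split hq hgQ hpd.hQ'.ne_one hbz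
    have hg' : (u * g) * z * (u * g)⁻¹ = z * (g * z * g⁻¹) := by
      calc (u * g) * z * (u * g)⁻¹ = u * (g * z * g⁻¹) * u⁻¹ := by group
        _ = z * (g * z * g⁻¹) := hub
    have hzbQ : (u * g) * z * (u * g)⁻¹ ∈ Q := by rw [hg']; exact Q.mul_mem hq.mem hgQ
    have hzbz : (u * g) * z * (u * g)⁻¹ ≠ z := by
      rw [hg']
      intro h
      apply hpd.hQ'.ne_one
      calc g * z * g⁻¹ = z⁻¹ * (z * (g * z * g⁻¹)) := by group
        _ = 1 := by rw [h]; group
    have htQ'' : t ∈ Q.map (MulAut.conj (u * g)).toMonoidHom := by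
      rw [mem_map_conj_iff]
      have h1 : g⁻¹ * t * g ∈ Q := (mem_map_conj_iff Q g t).1 htQ'
      have h2 : g⁻¹ * z * g ∈ Q := (mem_map_conj_iff Q g z).1 hpd.hzQ'
      rcases (memZ _).1 (hq.comm u⁻¹ (Q.inv_mem huQ) t htQ) with h | h
      · have e : (u * g)⁻¹ * t * (u * g) = g⁻¹ * ((u⁻¹ * t * u⁻¹⁻¹ * t⁻¹) * t) * g := by group
        rw [e, h, one_mul]; exact h1
      · have e : (u * g)⁻¹ * t * (u * g) = g⁻¹ * ((u⁻¹ * t * u⁻¹⁻¹ * t⁻¹) * t) * g := by group
        rw [e, h]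
        have e2 : g⁻¹ * (z * t) * g = (g⁻¹ * z * g) * (g⁻¹ * t * g) := by group
        rw [e2]; exact Q.mul_mem h2 h1
    obtain ⟨hzbCt, hZB⟩ := keyB (u * g) hzbQ hzbz htQ''
    have hbt : g * z * g⁻¹ * t = t * (g * z * g⁻¹) := (hCt _).1 hbCt
    have hbP : g * z * g⁻¹ ∈ P := (hP _).2 ⟨hgQ, hbt⟩
    refine hQD.eq_bot_of_odd K hK hPK (QuotientGroup.mk' N ⟨g * z * g⁻¹, hbCt⟩)
      ((hmemP _).2 hbP) ?_ hB ?_
    · rw [← map_mul]
      have e : (⟨g * z * g⁻¹, hbCt⟩ : ↥Ct) * ⟨g * z * g⁻¹, hbCt⟩ = 1 := Subtype.ext hbb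
      rw [e, map_one]
    · intro x hx hxc
      apply hZB x hx
      have e : QuotientGroup.mk' N ⟨(u * g) * z * (u * g)⁻¹, hzbCt⟩ =
          QuotientGroup.mk' N ⟨z, hzCt⟩ * QuotientGroup.mk' N ⟨g * z * g⁻¹, hbCt⟩ := by
        rw [← map_mul]
        congr 1
        exact Subtype.ext hg'
      rw [e]; exact hxc

/-- Let z be an involution of the finite group G with centralizer C whose generalized Fitting subgroup Q is extraspecial of width at least 3 (order 2^(2w+1), w ≥ 3); let g be an element of G with g z g⁻¹ in Q but outside the centre Z of Q, and t an involution lying in both Q and g Q g⁻¹ that is not conjugate to z; write P for the centralizer of t in Q and suppose that the elements of C acting trivially by conjugation on P modulo the subgroup generated by t and z are exactly the elements of Q. Then the image of P in the centralizer of t modulo the subgroup generated by t is a large extraspecial 2-subgroup there, and g z g⁻¹ is conjugate to z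 inside the subgroup generated by P and the centralizer of t in g Q g⁻¹. -/
theorem result {G : Type*} [Group G] [Finite G] (z : G) (hz : orderOf z = 2) (Q : Subgroup G) (hQC : Q ≤ Subgroup.centralizer ({z} : Set G)) (hF : (Cfsg.generalizedFittingSubgroup ↥(Subgroup.centralizer ({z} : Set G))).map (Subgroup.centralizer ({z} : Set G)).subtype = Q) (hQ : Cfsg.IsExtraspecial 2 ↥Q) (w : ℕ) (hw : 3 ≤ w) (hcard : Nat.card ↥Q = 2 ^ (2 * w + 1)) (g : G) (hgQ : g * z * g⁻¹ ∈ Q) (hgZ : g * z * g⁻¹ ∉ ((Subgroup.center ↥Q).map Q.subtype)) (t : G) (ht : orderOf t = 2) (htQ : t ∈ Q ⊓ (Q).map (MulAut.conj g).toMonoidHom) (htz : ¬ IsConj z t) (P : Subgroup G) (hP : P = Q ⊓ Subgroup.centralizer ({t} : Set G)) (hCP : ∀ c ∈ Subgroup.centralizer ({z} : Set G), (∀ x ∈ P, ∃ y ∈ Subgroup.closure ({t, z} : Set G), c * x * c⁻¹ = x * y) ↔ c ∈ Q) [hn : ((Subgroup.zpowers t).subgroupOf (Subgroup.centralizer ({t} : Set G))).Normal] : Cfsg.IsLargeExtraspecial ((P.subgroupOf (Subgroup.centralizer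 ({t} : Set G))).map (QuotientGroup.mk' ((Subgroup.zpowers t).subgroupOf (Subgroup.centralizer ({t} : Set G))))) ∧ ∃ x ∈ P ⊔ ((Q).map (MulAut.conj g).toMonoidHom ⊓ Subgroup.centralizer ({t} : Set G)), x * (g * z * g⁻¹) * x⁻¹ = z := by
  have hq := qdata_of_fstar z hz Q hF hQ
  have hZ := hq.center_map_eq
  have hzz := hq.sq
  have memZ := mem_zpowers_invol hzz
  rw [hZ] at hgZ
  have hb1 : g * z * g⁻¹ ≠ 1 := fun h => hgZ (by rw [h]; exact Subgroup.one_mem _)
  have hbz : g * z * g⁻¹ ≠ z := fun h => hgZ (by rw [h]; exact Subgroup.mem_zpowers z)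
  have hcard8 : 8 < Nat.card Q := by
    rw [hcard]
    have h1 : 2 ^ 7 ≤ 2 ^ (2 * w + 1) := Nat.pow_le_pow_right (by norm_num) (by omega)
    omega
  have hpd := pairData_of_conj hq hcard8 g hbz hgQ
  have hq' := hpd.hQ'
  have hbb := hq'.sq
  obtain ⟨htQ₁, htQ'⟩ := htQ
  have htt : t * t = 1 := by
    have h := pow_orderOf_eq_one t
    rwa [ht, sq] at h
  have ht1 : t ≠ 1 := by
    intro h
    rw [h, orderOf_one] at ht
    exact absurd ht (by norm_num)
  have ht_ne_z : t ≠ z := fun h => htz (h ▸ IsConj.refl z)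
  have ht_ne_b : t ≠ g * z * g⁻¹ := fun e => htz (isConj_iff.2 ⟨g, e.symm⟩)
  subst hP
  constructor
  · apply aux hq hcard8 g hgQ hbz t htt ht1 htQ₁ htQ' htz ?_ _
      (fun c => Subgroup.mem_centralizer_singleton_iff) _ ?_ _
      (fun x => by rw [Subgroup.mem_inf, Subgroup.mem_centralizer_singleton_iff])
    · intro c hcz hc
      refine (hCP c (Subgroup.mem_centralizer_singleton_iff.2 hcz)).1 ?_
      intro x hx
      rcases hc x hx.1 (Subgroup.mem_centralizer_singleton_iff.1 hx.2) with h | h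
      · exact ⟨1, Subgroup.one_mem _, by rw [mul_one]; exact h⟩
      · exact ⟨t, Subgroup.subset_closure (by simp), h⟩
    · intro c
      rw [Subgroup.mem_subgroupOf, mem_zpowers_invol htt]
  · -- the conjugating element
    obtain ⟨u, huQ, hut, hub⟩ : ∃ u ∈ Q, u * t = t * u ∧
        u * (g * z * g⁻¹) * u⁻¹ = z * (g * z * g⁻¹) := by
      by_contra hno
      push Not at hno
      have hall : ∀ p ∈ Q, p * t = t * p → p * (g * z * g⁻¹) = (g * z * g⁻¹) * p := by
        intro p hpQ hpt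
        rcases hpd.conj_b p hpQ with h | h
        · calc p * (g * z * g⁻¹) = (p * (g * z * g⁻¹) * p⁻¹) * p := by group
            _ = (g * z * g⁻¹) * p := by rw [h]
        · exact absurd h (hno p hpQ hpt)
      rcases qdata_cent_cent hq htQ₁ ht1 ht_ne_z htt _ hgQ hall with h | h | h | h
      · exact hb1 h
      · exact hbz h
      · exact ht_ne_b h.symm
      · -- b = z * t, so t = z * b is conjugate to z
        obtain ⟨c₀, -, hc₀, -, -⟩ := qdata_split hq hgQ hb1 hbz
        apply htz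
        rw [isConj_iff]
        refine ⟨c₀ * g, ?_⟩
        calc c₀ * g * z * (c₀ * g)⁻¹ = c₀ * (g * z * g⁻¹) * c₀⁻¹ := by group
          _ = z * (g * z * g⁻¹) := hc₀
          _ = z * (z * t) := by rw [h]
          _ = t := by rw [← mul_assoc, hzz, one_mul]
    obtain ⟨v, hvQ', hvt, hvz⟩ : ∃ v ∈ Q.map (MulAut.conj g).toMonoidHom, v * t = t * v ∧
        v * z * v⁻¹ = (g * z * g⁻¹) * z := by
      by_contra hno
      push Not at hno
      have hall : ∀ p ∈ Q.map (MulAut.conj g).toMonoidHom, p * t = t * p → p * z = z * p := by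
        intro p hpQ hpt
        rcases hpd.symm.conj_b p hpQ with h | h
        · calc p * z = (p * z * p⁻¹) * p := by group
            _ = z * p := by rw [h]
        · exact absurd h (hno p hpQ hpt)
      rcases qdata_cent_cent hq' htQ' ht1 ht_ne_b htt _ hpd.hzQ' hall with h | h | h | h
      · exact hq.ne_one h
      · exact hbz h.symm
      · exact ht_ne_z h.symm
      · -- z = b * t, so t = b * z = z * b is conjugate to z
        obtain ⟨c₀, -, hc₀, -, -⟩ := qdata_split hq hgQ hb1 hbz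
        apply htz
        rw [isConj_iff]
        refine ⟨c₀ * g, ?_⟩
        calc c₀ * g * z * (c₀ * g)⁻¹ = c₀ * (g * z * g⁻¹) * c₀⁻¹ := by group
          _ = z * (g * z * g⁻¹) := hc₀
          _ = (g * z * g⁻¹) * z := hpd.comm
          _ = (g * z * g⁻¹) * ((g * z * g⁻¹) * t) := by rw [← h]
          _ = t := by rw [← mul_assoc, hbb, one_mul]
    refine ⟨v * u, ?_, ?_⟩
    · apply Subgroup.mul_mem
      · exact Subgroup.mem_sup_right (Subgroup.mem_inf.2
          ⟨hvQ', Subgroup.mem_centralizer_singleton_iff.2 hvt⟩)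
      · exact Subgroup.mem_sup_left (Subgroup.mem_inf.2
          ⟨huQ, Subgroup.mem_centralizer_singleton_iff.2 hut⟩)
    · have hvb : v * (g * z * g⁻¹) * v⁻¹ = g * z * g⁻¹ := by
        have h := hq'.central v hvQ'
        calc v * (g * z * g⁻¹) * v⁻¹ = ((g * z * g⁻¹) * v) * v⁻¹ := by rw [h]
          _ = g * z * g⁻¹ := by group
      calc v * u * (g * z * g⁻¹) * (v * u)⁻¹ = v * (u * (g * z * g⁻¹) * u⁻¹) * v⁻¹ := by group
        _ = v * (z * (g * z * g⁻¹)) * v⁻¹ := by rw [hub]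
        _ = (v * z * v⁻¹) * (v * (g * z * g⁻¹) * v⁻¹) := by group
        _ = (g * z * g⁻¹) * z * (g * z * g⁻¹) := by rw [hvz, hvb]
        _ = (g * z * g⁻¹) * (z * (g * z * g⁻¹)) := by group
        _ = (g * z * g⁻¹) * ((g * z * g⁻¹) * z) := by rw [hpd.comm]
        _ = z := by rw [← mul_assoc, hbb, one_mul]

end Cfsg.Agent.S5429
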