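import Cfsg.Statements.S5430
import Cfsg.Agent.Lib.helper92.PairX
import Cfsg.Agent.Lib.helper92.Basic

set_option autoImplicit false
open Cfsg

namespace Cfsg.Agent.S5430

open Cfsg.Agent.Lib.helper92

/-- Let Q be a large extraspecial 2-subgroup of the finite group G (extraspecial; centralizer equal to its centre; normal in the centralizer of its centre; normalizing no non-trivial subgroup of odd order) with centre generated by z, an involution, of width w ≥ 2 (order 2^(2w+1)); let g be an element outside the centralizer H of z with g z g⁻¹ in Q; write V for the subgroup generated by z and g z g⁻¹, X for the subgroup generated by Q and g Q g⁻¹, R for the subgroup generated by the centralizer of z in g Q g⁻¹ and the centralizer of g z g⁻¹ in Q, and E for the intersection of Q and g Q g⁻¹. Then R is the centralizer of V in X and is the largest normal 2-subgroup of X, and X/R is isomorphic to the symmetric group of degree 3; moreover the normalizer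 of V is the product of X and the centralizer of V in H, X is normal in it, and modulo R it is the direct product of X/R and of the centralizer of V in H modulo R. -/
theorem result {G : Type*} [Group G] [Finite G] (Q : Subgroup G) (hQ : Cfsg.IsLargeExtraspecial Q) (z : G) (hz : ((Subgroup.center ↥Q).map Q.subtype) = Subgroup.zpowers z) (hz2 : orderOf z = 2) (w : ℕ) (hw : 2 ≤ w) (hcard : Nat.card ↥Q = 2 ^ (2 * w + 1)) (g : G) (hgH : g ∉ Subgroup.centralizer ({z} : Set G)) (hgQ : g * z * g⁻¹ ∈ Q) (V X R E : Subgroup G) (hV : V = Subgroup.closure ({z, g * z * g⁻¹} : Set G)) (hX : X = Q ⊔ (Q).map (MulAut.conj g).toMonoidHom) (hR : R = ((Q).map (MulAut.conj g).toMonoidHom ⊓ Subgroup.centralizer ({z} : Set G)) ⊔ (Q ⊓ Subgroup.centralizer ({g * z * g⁻¹} : Set G))) (hE : E = Q ⊓ (Q).map (MulAut.conj g).toMonoidHom) : R = X ⊓ Subgroup.centralizer (V : Set G) ∧ R = (Cfsg.pCore 2 ↥X).map X.subtype ∧ (∃ h : (R.subgroupOf X).Normal, Nonempty (↥X ⧸ R.subgroupOf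 X ≃* Equiv.Perm (Fin 3))) ∧ Subgroup.normalizer (V : Set G) = X ⊔ (Subgroup.centralizer ({z} : Set G) ⊓ Subgroup.centralizer (V : Set G)) ∧ (∀ y ∈ Subgroup.normalizer (V : Set G), ∀ x ∈ X, y * x * y⁻¹ ∈ X) ∧ R ≤ Subgroup.centralizer ({z} : Set G) ⊓ Subgroup.centralizer (V : Set G) ∧ (∀ x ∈ X, ∀ c ∈ Subgroup.centralizer ({z} : Set G) ⊓ Subgroup.centralizer (V : Set G), x * c * x⁻¹ * c⁻¹ ∈ R) ∧ X ⊓ (Subgroup.centralizer ({z} : Set G) ⊓ Subgroup.centralizer (V : Set G)) = R := by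
  have : Fact (Nat.Prime 2) := ⟨Nat.prime_two⟩
  obtain ⟨z', hq', hZ'⟩ := exists_qdata Q hQ.1 hQ.2.1 hQ.2.2.1
  have hzz : z * z = 1 := by
    have h := pow_orderOf_eq_one z
    rw [hz2, sq] at h
    exact h
  have hz'z : z' = z := by
    have h1 : z' ∈ Subgroup.zpowers z := by
      rw [← hz, hZ']; exact Subgroup.mem_zpowers z'
    rcases (mem_zpowers_invol hzz z').1 h1 with h2 | h2
    · exact absurd h2 hq'.ne_one
    · exact h2
  subst hz'z
  have hgz : g * z' * g⁻¹ ≠ z' := by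
    intro h
    apply hgH
    rw [Subgroup.mem_centralizer_singleton_iff]
    calc g * z' = (g * z' * g⁻¹) * g := by group
      _ = z' * g := by rw [h]
  have hcard8 : 8 < Nat.card Q := by
    rw [hcard]
    have h1 : 2 ^ 5 ≤ 2 ^ (2 * w + 1) := Nat.pow_le_pow_right (by norm_num) (by omega)
    omega
  obtain ⟨u, v, h⟩ := exists_pairDataX_of_conj hq' hcard8 g hgz hgQ
  have hbb := h.pd.hQ'.sq
  have hzb := h.pd.comm
  subst hV hX hR hE
  -- notation-free abbreviations are not available; we work with the explicit subgroups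
  have hCV := @mem_centralizer_closure_pair_iff G _ z' (g * z' * g⁻¹)
  have hRX : pairR Q (Q.map (MulAut.conj g).toMonoidHom) z' (g * z' * g⁻¹)
      ≤ Q ⊔ Q.map (MulAut.conj g).toMonoidHom := h.pd.R_le_X
  have hXN := h.pd.X_le_normalizer_V
  have hn : ((pairR Q (Q.map (MulAut.conj g).toMonoidHom) z' (g * z' * g⁻¹)).subgroupOf
      (Q ⊔ Q.map (MulAut.conj g).toMonoidHom)).Normal :=
    Subgroup.normal_subgroupOf_of_le_normalizer h.pd.X_le_normalizer_R
  obtain ⟨φ, hφker, hφsurj⟩ := h.exists_S3_hom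
  -- the restriction of φ to X
  obtain ⟨ψ, hψ⟩ : ∃ ψ : ↥(Q ⊔ Q.map (MulAut.conj g).toMonoidHom) →* Equiv.Perm (Fin 3),
      ψ = φ.comp (Subgroup.inclusion hXN) := ⟨_, rfl⟩
  have hψker : ψ.ker = (pairR Q (Q.map (MulAut.conj g).toMonoidHom) z' (g * z' * g⁻¹)).subgroupOf
      (Q ⊔ Q.map (MulAut.conj g).toMonoidHom) := by
    ext x
    rw [MonoidHom.mem_ker, Subgroup.mem_subgroupOf, hψ, MonoidHom.comp_apply, hφker]
    constructor
    · rintro ⟨h1, h2⟩
      exact h.mem_R_of_cent x.1 x.2 h1 h2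
    · intro hx
      have h1 := h.pd.R_le_cent hx
      exact ⟨Subgroup.mem_centralizer_singleton_iff.1 h1.1,
        Subgroup.mem_centralizer_singleton_iff.1 h1.2⟩
  have hψsurj : Function.Surjective ψ := by
    intro σ
    obtain ⟨n, hnX, hnσ⟩ := hφsurj σ
    refine ⟨⟨n.1, hnX⟩, ?_⟩
    rw [hψ, MonoidHom.comp_apply, ← hnσ]
    rfl
  -- decomposition of the normalizer of V
  have hdecomp : ∀ y ∈ Subgroup.normalizer
      ((Subgroup.closure ({z', g * z' * g⁻¹} : Set G) : Subgroup G) : Set G),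
      ∃ n ∈ Q ⊔ Q.map (MulAut.conj g).toMonoidHom, ∃ c : G, c * z' = z' * c ∧
        c * (g * z' * g⁻¹) = (g * z' * g⁻¹) * c ∧ y = n * c := by
    intro y hy
    obtain ⟨n, hnX, hnσ⟩ := hφsurj (φ ⟨y, hy⟩)
    have h1 : φ (n⁻¹ * ⟨y, hy⟩) = 1 := by
      rw [map_mul, map_inv, hnσ, inv_mul_cancel]
    have h2 := (hφker _).1 h1
    rw [Subgroup.coe_mul, Subgroup.coe_inv] at h2
    exact ⟨n.1, hnX, (n : G)⁻¹ * y, h2.1, h2.2, by group⟩
  -- elements centralizing z and b normalize X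
  have hcX : ∀ c : G, c * z' = z' * c → c * (g * z' * g⁻¹) = (g * z' * g⁻¹) * c →
      ∀ x ∈ Q ⊔ Q.map (MulAut.conj g).toMonoidHom,
        c * x * c⁻¹ ∈ Q ⊔ Q.map (MulAut.conj g).toMonoidHom := by
    intro c hcz hcb x hx
    have hle : Q ⊔ Q.map (MulAut.conj g).toMonoidHom ≤
        (Q ⊔ Q.map (MulAut.conj g).toMonoidHom).comap (MulAut.conj c).toMonoidHom := by
      apply sup_le
      · intro q hq
        rw [Subgroup.mem_comap]
        exact Subgroup.mem_sup_left (h.pd.hQ.norm c hcz q hq)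
      · intro q hq
        rw [Subgroup.mem_comap]
        exact Subgroup.mem_sup_right (h.pd.hQ'.norm c hcb q hq)
    exact hle hx
  -- R is a 2-group
  have hR2 : IsPGroup 2 ↥(pairR Q (Q.map (MulAut.conj g).toMonoidHom) z' (g * z' * g⁻¹)) := by
    intro r
    refine ⟨2, ?_⟩
    apply Subtype.ext
    rw [Subgroup.coe_pow, Subgroup.coe_one]
    have h1 := (h.pd.R_comm_sq r.1 r.2 r.1 r.2).2
    have h2 := h.pd.E_sq _ h1
    have h3 : (r : G) ^ 2 ^ 2 = ((r : G) * r) * ((r : G) * r) := by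
      show (r : G) ^ 4 = _
      rw [← sq, ← sq, ← pow_mul]
    rw [h3]
    exact h2
  refine ⟨?_, ?_, ⟨hn, ⟨(QuotientGroup.quotientMulEquivOfEq hψker.symm).trans
    (QuotientGroup.quotientKerEquivOfSurjective ψ hψsurj)⟩⟩, ?_, ?_, ?_, ?_, ?_⟩
  · -- R = C_X(V)
    ext x
    constructor
    · intro hx
      have h1 := h.pd.R_le_cent hx
      exact Subgroup.mem_inf.2 ⟨hRX hx, (hCV x).2 ⟨Subgroup.mem_centralizer_singleton_iff.1 h1.1,
        Subgroup.mem_centralizer_singleton_iff.1 h1.2⟩⟩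
    · intro hx
      have h1 := (hCV x).1 (Subgroup.mem_inf.1 hx).2
      exact h.mem_R_of_cent x (Subgroup.mem_inf.1 hx).1 h1.1 h1.2
  · -- R = O_2(X)
    apply le_antisymm
    · have h1 : (pairR Q (Q.map (MulAut.conj g).toMonoidHom) z' (g * z' * g⁻¹)).subgroupOf
          (Q ⊔ Q.map (MulAut.conj g).toMonoidHom) ≤ Cfsg.pCore 2 _ :=
        le_pCore hn hR2.comap_subtype
      have h2 := Subgroup.map_mono (f := (Q ⊔ Q.map (MulAut.conj g).toMonoidHom).subtype) h1
      rw [Subgroup.map_subgroupOf_eq_of_le hRX] at h2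
      exact h2
    · have hN2 : IsPGroup 2 ↥(Cfsg.pCore 2 ↥(Q ⊔ Q.map (MulAut.conj g).toMonoidHom)) :=
        pCore_isPGroup 2 _
      have hNn : (Cfsg.pCore 2 ↥(Q ⊔ Q.map (MulAut.conj g).toMonoidHom)).Normal :=
        Cfsg.pCore_normal 2 _
      have h1 := perm_three_normal_two_subgroup _ (hNn.map ψ hψsurj) (hN2.map ψ)
      rw [Subgroup.map_eq_bot_iff, hψker] at h1
      have h2 := Subgroup.map_mono (f := (Q ⊔ Q.map (MulAut.conj g).toMonoidHom).subtype) h1
      rw [Subgroup.map_subgroupOf_eq_of_le hRX] at h2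
      exact h2
  · -- N(V) = X C_H(V)
    apply le_antisymm
    · intro y hy
      obtain ⟨n, hnX, c, hcz, hcb, rfl⟩ := hdecomp y hy
      exact Subgroup.mul_mem _ (Subgroup.mem_sup_left hnX) (Subgroup.mem_sup_right
        (Subgroup.mem_inf.2 ⟨Subgroup.mem_centralizer_singleton_iff.2 hcz, (hCV c).2 ⟨hcz, hcb⟩⟩))
    · exact sup_le hXN (inf_le_right.trans (Subgroup.centralizer_le_normalizer _))
  · -- X is normal in N(V)
    intro y hy x hx
    obtain ⟨n, hnX, c, hcz, hcb, rfl⟩ := hdecomp y hy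
    have h1 := hcX c hcz hcb x hx
    have h2 := Subgroup.mul_mem _ (Subgroup.mul_mem _ hnX h1) (Subgroup.inv_mem _ hnX)
    have e1 : n * c * x * (n * c)⁻¹ = n * (c * x * c⁻¹) * n⁻¹ := by group
    rw [e1]
    exact h2
  · -- R ≤ C_H(V)
    intro r hr
    have h1 := h.pd.R_le_cent hr
    exact Subgroup.mem_inf.2 ⟨h1.1, (hCV r).2 ⟨Subgroup.mem_centralizer_singleton_iff.1 h1.1,
      Subgroup.mem_centralizer_singleton_iff.1 h1.2⟩⟩
  · -- [X, C_H(V)] ≤ R
    intro x hx c hc
    have h1 := (hCV c).1 (Subgroup.mem_inf.1 hc).2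
    exact (h.pd.X_le_commMod_R hx).2.2 c (Subgroup.mem_inf.2
      ⟨Subgroup.mem_centralizer_singleton_iff.2 h1.1, Subgroup.mem_centralizer_singleton_iff.2 h1.2⟩)
  · -- X ∩ C_H(V) = R
    ext x
    constructor
    · intro hx
      have h1 := (hCV x).1 (Subgroup.mem_inf.1 (Subgroup.mem_inf.1 hx).2).2
      exact h.mem_R_of_cent x (Subgroup.mem_inf.1 hx).1 h1.1 h1.2
    · intro hx
      have h1 := h.pd.R_le_cent hx
      exact Subgroup.mem_inf.2 ⟨hRX hx, Subgroup.mem_inf.2 ⟨h1.1,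
        (hCV x).2 ⟨Subgroup.mem_centralizer_singleton_iff.1 h1.1,
          Subgroup.mem_centralizer_singleton_iff.1 h1.2⟩⟩⟩

end Cfsg.Agent.S5430
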