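import Cfsg.Statements.S5431
import Cfsg.Agent.Lib.helper92.Pair

set_option autoImplicit false
open Cfsg

namespace Cfsg.Agent.S5431

open Cfsg.Agent.Lib.helper92

open scoped commutatorElement

/-- Let Q be a large extraspecial 2-subgroup of the finite group G (extraspecial; centralizer equal to its centre; normal in the centralizer of its centre; normalizing no non-trivial subgroup of odd order) with centre generated by z, an involution, of width w ≥ 2 (order 2^(2w+1)); let g be an element outside the centralizer H of z with g z g⁻¹ in Q; write V for the subgroup generated by z and g z g⁻¹, X for the subgroup generated by Q and g Q g⁻¹, R for the subgroup generated by the centralizer of z in g Q g⁻¹ and the centralizer of g z g⁻¹ in Q, and E for the intersection of Q and g Q g⁻¹. Then V is the centre of R, E lies in the second centre of R, R is nilpotent of class at most 3, E and R/E are elementary abelian, R/E is the direct product of the images of the centralizer of g z g⁻¹ in Q and of the centralizer of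 z in g Q g⁻¹ (R is their product and they meet in E), and the commutator subgroup of X and E lies in V. -/
theorem result {G : Type*} [Group G] [Finite G] (Q : Subgroup G) (hQ : Cfsg.IsLargeExtraspecial Q) (z : G) (hz : ((Subgroup.center ↥Q).map Q.subtype) = Subgroup.zpowers z) (hz2 : orderOf z = 2) (w : ℕ) (hw : 2 ≤ w) (hcard : Nat.card ↥Q = 2 ^ (2 * w + 1)) (g : G) (hgH : g ∉ Subgroup.centralizer ({z} : Set G)) (hgQ : g * z * g⁻¹ ∈ Q) (V X R E : Subgroup G) (hV : V = Subgroup.closure ({z, g * z * g⁻¹} : Set G)) (hX : X = Q ⊔ (Q).map (MulAut.conj g).toMonoidHom) (hR : R = ((Q).map (MulAut.conj g).toMonoidHom ⊓ Subgroup.centralizer ({z} : Set G)) ⊔ (Q ⊓ Subgroup.centralizer ({g * z * g⁻¹} : Set G))) (hE : E = Q ⊓ (Q).map (MulAut.conj g).toMonoidHom) : (Subgroup.center ↥R).map R.subtype = V ∧ E ≤ (Subgroup.upperCentralSeries ↥R 2).map R.subtype ∧ Subgroup.upperCentralSeries ↥R 3 = ⊤ ∧ Cfsg.IsElementaryAbelian 2 E ∧ (∀ x ∈ R, ∀ y ∈ R, x * y * x⁻¹ * y⁻¹ ∈ E ∧ x ^ 2 ∈ E) ∧ ((Q).map (MulAut.conj g).toMonoidHom ⊓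 Subgroup.centralizer ({z} : Set G)) ⊓ (Q ⊓ Subgroup.centralizer ({g * z * g⁻¹} : Set G)) = E ∧ ⁅X, E⁆ ≤ V := by
  obtain ⟨z', hq', hZ'⟩ := exists_qdata Q hQ.1 hQ.2.1 hQ.2.2.1
  have hzz : z * z = 1 := by
    have h := pow_orderOf_eq_one z
    rw [hz2, sq] at h
    exact h
  have hz'z : z' = z := by
    have h1 : z' ∈ Subgroup.zpowers z := by
      rw [← hz, hZ']; exact Subgroup.mem_zpowers z'
    rcases (mem_zpowers_invol hzz z').1 h1 with h2 | h2
    · exact absurd h2 hq'.ne_one
    · exact h2
  subst hz'z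
  have hgz : g * z' * g⁻¹ ≠ z' := by
    intro h
    apply hgH
    rw [Subgroup.mem_centralizer_singleton_iff]
    calc g * z' = (g * z' * g⁻¹) * g := by group
      _ = z' * g := by rw [h]
  have hcard8 : 8 < Nat.card Q := by
    rw [hcard]
    have h1 : 2 ^ 5 ≤ 2 ^ (2 * w + 1) := Nat.pow_le_pow_right (by norm_num) (by omega)
    omega
  have h := pairData_of_conj hq' hcard8 g hgz hgQ
  have hbb := h.hQ'.sq
  have hzb := h.comm
  subst hV hX hR hE
  refine ⟨?_, ?_, ?_, ?_, ?_, ?_, ?_⟩
  · -- the centre of R is V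
    ext c
    rw [mem_center_map_iff, mem_closure_pair_iff hzz hbb hzb]
    constructor
    · rintro ⟨hc, hcR⟩
      exact h.center_R c hc hcR
    · intro hc
      have hcV : c ∈ Subgroup.closure ({z', g * z' * g⁻¹} : Set G) :=
        (mem_closure_pair_iff hzz hbb hzb c).2 hc
      refine ⟨?_, fun q hq => h.V_central c hcV q hq⟩
      have hVE : Subgroup.closure ({z', g * z' * g⁻¹} : Set G)
          ≤ Q ⊓ Q.map (MulAut.conj g).toMonoidHom := by
        rw [Subgroup.closure_le]
        intro y hy
        rcases hy with rfl | hy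
        · exact h.z_mem_E
        · rw [Set.mem_singleton_iff] at hy
          subst hy
          exact h.b_mem_E
      exact h.E_le_R (hVE hcV)
  · -- E lies in the second centre
    intro e he
    refine ⟨⟨e, h.E_le_R he⟩, Subgroup.mem_upperCentralSeries_succ_iff.2 ?_, rfl⟩
    intro y
    rw [Subgroup.upperCentralSeries_one, Subgroup.mem_center_iff]
    intro r
    apply Subtype.ext
    have := h.E_comm_R_central e he y.1 y.2 r.1 r.2
    exact this
  · -- class at most 3
    rw [eq_top_iff]
    intro x _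
    refine Subgroup.mem_upperCentralSeries_succ_iff.2 ?_
    intro y
    refine Subgroup.mem_upperCentralSeries_succ_iff.2 ?_
    intro w'
    rw [Subgroup.upperCentralSeries_one, Subgroup.mem_center_iff]
    intro r
    apply Subtype.ext
    have he := (h.R_comm_sq x.1 x.2 y.1 y.2).1
    have := h.E_comm_R_central _ he w'.1 w'.2 r.1 r.2
    exact this
  · -- E is elementary abelian
    refine ⟨⟨⟨fun a b => Subtype.ext (h.E_comm a.1 a.2 b.1 b.2)⟩⟩, ?_⟩
    intro a ha
    rw [sq]
    exact h.E_sq a ha
  · intro x hx y hy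
    have := h.R_comm_sq x hx y hy
    rw [sq]
    exact this
  · ext x
    constructor
    · rintro ⟨⟨hxQ', -⟩, ⟨hxQ, -⟩⟩
      exact ⟨hxQ, hxQ'⟩
    · rintro ⟨hxQ, hxQ'⟩
      exact Subgroup.mem_inf.2 ⟨Subgroup.mem_inf.2 ⟨hxQ',
        Subgroup.mem_centralizer_singleton_iff.2 (h.hQ.central x hxQ)⟩,
        Subgroup.mem_inf.2 ⟨hxQ, Subgroup.mem_centralizer_singleton_iff.2 (h.hQ'.central x hxQ')⟩⟩
  · rw [Subgroup.commutator_le]
    intro x hx e he
    rw [commutatorElement_def]
    exact (h.X_le_commMod hx).2.2 e he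

end Cfsg.Agent.S5431
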