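import Cfsg.Statements.S5433
import Cfsg.Agent.Lib.helper92.Basic

set_option autoImplicit false
open Cfsg

namespace Cfsg.Agent.S5433

open Cfsg.Agent.Lib.helper92

/-- Let Q be a large extraspecial 2-subgroup of the finite group G (extraspecial; centralizer equal to its centre; normal in the centralizer of its centre; normalizing no non-trivial subgroup of odd order), and L a normal subgroup of G containing Q. Then G is the product of L and the normalizer of Q. -/
theorem result {G : Type*} [Group G] [Finite G] (Q : Subgroup G) (hQ : Cfsg.IsLargeExtraspecial Q) (L : Subgroup G) [L.Normal] (hQL : Q ≤ L) : L ⊔ Subgroup.normalizer (Q : Set G) = ⊤ := by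
  have : Fact (Nat.Prime 2) := ⟨Nat.prime_two⟩
  obtain ⟨hL1, hL2, hL3, -⟩ := hQ
  have hQ2 : IsPGroup 2 Q := hL1.1.1
  obtain ⟨z, hzZ, hz1, hzz, hzall⟩ := exists_center_generator Q hL1.2
  have hzQ : z ∈ Q := ((mem_center_map_iff Q z).1 hzZ).1
  -- a Sylow 2-subgroup of `L` containing `Q`
  have hQL2 : IsPGroup 2 (Q.subgroupOf L) := hQ2.comap_subtype
  obtain ⟨S, hS⟩ := hQL2.exists_le_sylow
  have hfr := Sylow.normalizer_sup_eq_top S
  obtain ⟨T, hT⟩ : ∃ T : Subgroup G, T = (S : Subgroup L).map L.subtype := ⟨_, rfl⟩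
  rw [← hT] at hfr
  have hQT : Q ≤ T := by
    intro q hq
    rw [hT]
    exact ⟨⟨q, hQL hq⟩, hS (Subgroup.mem_subgroupOf.2 hq), rfl⟩
  have hT2 : IsPGroup 2 T := by
    rw [hT]
    exact S.isPGroup'.map _
  have hzT : z ∈ T := hQT hzQ
  -- a non-identity central element of `T`
  have hTnt : Nontrivial T := ⟨⟨⟨z, hzT⟩, 1, fun h => hz1 (congrArg Subtype.val h)⟩⟩
  have hcnt : Nontrivial (Subgroup.center T) := hT2.center_nontrivial
  obtain ⟨t, ht1⟩ := exists_ne (1 : Subgroup.center T)
  -- central elements of `T` lie in the centre of `Q`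
  have hcent : ∀ x : G, x ∈ T → (∀ s ∈ T, s * x = x * s) → x = 1 ∨ x = z := by
    intro x _ hxs
    apply hzall
    rw [← hL2, Subgroup.mem_centralizer_iff]
    intro q hq
    exact hxs q (hQT hq)
  have htT : ((t : T) : G) ∈ T := (t : T).2
  have htc : ∀ s ∈ T, s * ((t : T) : G) = ((t : T) : G) * s := by
    intro s hs
    have := Subgroup.mem_center_iff.1 t.2 ⟨s, hs⟩
    exact congrArg Subtype.val this
  have htz : ((t : T) : G) = z := by
    rcases hcent _ htT htc with h | h
    · exfalso
      apply ht1
      apply Subtype.ext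
      apply Subtype.ext
      simpa using h
    · exact h
  rw [htz] at htc
  -- the normalizer of `T` centralizes `z`, hence normalizes `Q`
  have hNT : Subgroup.normalizer (T : Set G) ≤ Subgroup.normalizer (Q : Set G) := by
    intro n hn
    apply hL3
    rw [Subgroup.mem_centralizer_iff]
    intro c hc
    rcases hzall c hc with rfl | rfl
    · simp
    · have hnz : n * c * n⁻¹ ∈ T := ((Subgroup.mem_normalizer_iff.1 hn) c).1 hzT
      have hnc : ∀ s ∈ T, s * (n * c * n⁻¹) = (n * c * n⁻¹) * s := by
        intro s hs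
        have hs' : n⁻¹ * s * n ∈ T := by
          have h1 := (Subgroup.mem_normalizer_iff.1 hn) (n⁻¹ * s * n)
          apply h1.2
          have : n * (n⁻¹ * s * n) * n⁻¹ = s := by group
          rw [this]
          exact hs
        have h2 := htc _ hs'
        calc s * (n * c * n⁻¹) = n * ((n⁻¹ * s * n) * c) * n⁻¹ := by group
          _ = n * (c * (n⁻¹ * s * n)) * n⁻¹ := by rw [h2]
          _ = (n * c * n⁻¹) * s := by group
      rcases hcent _ hnz hnc with h | h
      · exfalso
        apply hz1
        have : c = n⁻¹ * (n * c * n⁻¹) * n := by group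
        rw [this, h]
        group
      · calc c * n = n * c * n⁻¹ * n := by rw [h]
          _ = n * c := by group
  rw [eq_top_iff, ← hfr, sup_comm]
  exact sup_le_sup_left hNT L

end Cfsg.Agent.S5433
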