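import Cfsg.Statements.S5435
import Cfsg.Agent.Lib.helper92.SignFour
import Cfsg.Agent.Lib.helper92.Extraspecial
import Cfsg.Agent.Lib.helper3.PGroupFrattini
import Cfsg.Agent.Lib.helper59.TwoGroups

set_option autoImplicit false
open Cfsg

namespace Cfsg.Agent.S5435

open Cfsg.Agent.Lib.helper92

/-- Conjugation by a normalizing element, as an automorphism of the subgroup. -/
def normConj {L : Type*} [Group L] (R : Subgroup L) (g : L)
    (hg : g ∈ Subgroup.normalizer (R : Set L)) : ↥R ≃* ↥R where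
  toFun x := ⟨g * x * g⁻¹, (Subgroup.mem_normalizer_iff.1 hg x).1 x.2⟩
  invFun x := ⟨g⁻¹ * x * g, by
    apply (Subgroup.mem_normalizer_iff.1 hg (g⁻¹ * x * g)).2
    have e : g * (g⁻¹ * (x : L) * g) * g⁻¹ = x := by group
    rw [e]; exact x.2⟩
  left_inv x := by
    apply Subtype.ext
    show g⁻¹ * (g * (x : L) * g⁻¹) * g = x
    group
  right_inv x := by
    apply Subtype.ext
    show g * (g⁻¹ * (x : L) * g) * g⁻¹ = x
    group
  map_mul' x y := by
    apply Subtype.ext
    show g * ((x : L) * y) * g⁻¹ = (g * x * g⁻¹) * (g * y * g⁻¹)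
    group

/-- Let L be a finite non-abelian simple group with an involution z whose centralizer R is a Sylow 2-subgroup of L whose Frattini subgroup is the subgroup generated by z. Then R is dihedral of order 8. -/
theorem result {L : Type*} [Group L] [Finite L] [IsSimpleGroup L] (hL : ¬ IsMulCommutative L) (z : L) (hz : orderOf z = 2) (R : Sylow 2 L) (hR : (R : Subgroup L) = Subgroup.centralizer ({z} : Set L)) (hΦ : (frattini ↥(R : Subgroup L)).map (R : Subgroup L).subtype = Subgroup.zpowers z) : Nonempty (↥(R : Subgroup L) ≃* DihedralGroup 4) := by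
  classical
  have : Fact (Nat.Prime 2) := ⟨Nat.prime_two⟩
  have hzz : z * z = 1 := by
    have h := pow_orderOf_eq_one z
    rwa [hz, sq] at h
  have hz1 : z ≠ 1 := by
    intro h
    rw [h, orderOf_one] at hz
    exact absurd hz (by norm_num)
  have memZ := mem_zpowers_invol hzz
  have hmemR : ∀ x : L, x ∈ (R : Subgroup L) ↔ x * z = z * x := by
    intro x
    rw [hR, Subgroup.mem_centralizer_singleton_iff]
  have hzR : z ∈ (R : Subgroup L) := (hmemR z).2 rfl
  have hRp : IsPGroup 2 ↥(R : Subgroup L) := R.isPGroup'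
  have hfrat : ∀ x : ↥(R : Subgroup L), x ∈ frattini ↥(R : Subgroup L) ↔
      (x : L) ∈ Subgroup.zpowers z := by
    intro x
    rw [← hΦ]
    constructor
    · intro h; exact ⟨x, h, rfl⟩
    · rintro ⟨x', hx', hxx⟩
      have e : x' = x := Subtype.ext hxx
      rwa [← e]
  have hsq : ∀ x ∈ (R : Subgroup L), x * x ∈ Subgroup.zpowers z := by
    intro x hx
    have h1 := pow_mem_frattini hRp (⟨x, hx⟩ : ↥(R : Subgroup L))
    have h2 := (hfrat _).1 h1
    have e : (((⟨x, hx⟩ : ↥(R : Subgroup L)) ^ 2 : ↥(R : Subgroup L)) : L) = x * x := by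
      rw [Subgroup.coe_pow, pow_two]
    rwa [e] at h2
  have hperf : ∀ f : L →* ℤˣ, ∀ x, f x = 1 := by
    intro f x
    have hk : f.ker.Normal := inferInstance
    rcases hk.eq_bot_or_eq_top with h | h
    · exfalso
      apply hL
      have hinj : Function.Injective f := (MonoidHom.ker_eq_bot_iff f).1 h
      exact ⟨⟨fun a b => hinj (by rw [map_mul, map_mul, mul_comm])⟩⟩
    · have hx : x ∈ f.ker := by rw [h]; trivial
      exact MonoidHom.mem_ker.1 hx
  have hNR : Subgroup.normalizer ((R : Subgroup L) : Set L) ≤ (R : Subgroup L) := by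
    intro g hg
    rw [hmemR]
    have hchar : (frattini ↥(R : Subgroup L)).Characteristic := inferInstance
    have h1 := (Subgroup.characteristic_iff_comap_eq.1 hchar) (normConj (R : Subgroup L) g hg)
    have hz' : (⟨z, hzR⟩ : ↥(R : Subgroup L)) ∈ frattini ↥(R : Subgroup L) :=
      (hfrat _).2 (Subgroup.mem_zpowers z)
    rw [← h1] at hz'
    have h2 : (normConj (R : Subgroup L) g hg) ⟨z, hzR⟩ ∈ frattini ↥(R : Subgroup L) := hz'
    have h3 : g * z * g⁻¹ ∈ Subgroup.zpowers z := (hfrat _).1 h2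
    rcases (memZ _).1 h3 with h4 | h4
    · exfalso
      apply hz1
      calc z = g⁻¹ * (g * z * g⁻¹) * g := by group
        _ = 1 := by rw [h4]; group
    · calc g * z = (g * z * g⁻¹) * g := by group
        _ = z * g := by rw [h4]
  have hnonab : ∃ a ∈ (R : Subgroup L), ∃ b ∈ (R : Subgroup L), a * b ≠ b * a := by
    by_contra hab
    push Not at hab
    have hP : Subgroup.normalizer ((R : Subgroup L) : Set L) ≤
        Subgroup.centralizer ((R : Subgroup L) : Set L) := by
      intro g hg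
      rw [Subgroup.mem_centralizer_iff]
      intro r hr
      exact hab r hr g (hNR hg)
    have hcomp := MonoidHom.ker_transferSylow_isComplement' R hP
    have hcard := hcomp.card_mul_card
    have hkn : (MonoidHom.transferSylow R hP).ker.Normal := inferInstance
    rcases hkn.eq_bot_or_eq_top with h | h
    · rw [h, Subgroup.card_bot, one_mul] at hcard
      have hRtop : (R : Subgroup L) = ⊤ := Subgroup.eq_top_of_card_eq _ hcard
      apply hL
      exact ⟨⟨fun a b => hab a (by rw [hRtop]; trivial) b (by rw [hRtop]; trivial)⟩⟩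
    · rw [h, Subgroup.card_top] at hcard
      have hpos : 0 < Nat.card L := Nat.card_pos
      have h1 : Nat.card ↥(R : Subgroup L) = 1 := by
        have h2 : Nat.card L * Nat.card ↥(R : Subgroup L) = Nat.card L * 1 := by
          rw [mul_one]; exact hcard
        exact Nat.eq_of_mul_eq_mul_left hpos h2
      have h2 : (R : Subgroup L) = ⊥ := Subgroup.card_eq_one.1 h1
      rw [h2, Subgroup.mem_bot] at hzR
      exact hz1 hzR
  obtain ⟨y, hyR, hyy⟩ : ∃ y ∈ (R : Subgroup L), y * y = z := by
    by_contra hno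
    push Not at hno
    obtain ⟨a, ha, b, hb, hab⟩ := hnonab
    have hinv : ∀ x ∈ (R : Subgroup L), x * x = 1 := by
      intro x hx
      rcases (memZ _).1 (hsq x hx) with h | h
      · exact h
      · exact absurd h (hno x hx)
    apply hab
    have h1 := hinv a ha
    have h2 := hinv b hb
    calc a * b = (b * b) * (a * b) * (a * a) := by rw [h1, h2, one_mul, mul_one]
      _ = b * ((b * a) * (b * a)) * a := by group
      _ = b * a := by rw [hinv (b * a) (Subgroup.mul_mem _ hb ha), mul_one]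
  have hstar : ∀ y' ∈ (R : Subgroup L), y' * y' = z → y' = y ∨ y' = y * z := by
    intro y' hy'R hy'y'
    have hmem : (⟨y⁻¹ * y', Subgroup.mul_mem _ (Subgroup.inv_mem _ hyR) hy'R⟩ :
        ↥(R : Subgroup L)) ∈ frattini ↥(R : Subgroup L) := by
      rw [Cfsg.Agent.Lib.helper3.mem_frattini_iff]
      intro M' hM'
      obtain ⟨hM'n, hM'i⟩ := Cfsg.Agent.Lib.helper3.coatom_normal_index hRp hM'
      obtain ⟨t, ht⟩ : ∃ t : ↥(R : Subgroup L), t ∉ M' := by
        by_contra h
        push Not at h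
        exact hM'.1 (eq_top_iff.2 (fun x _ => h x))
      have hmemM : ∀ x : ↥(R : Subgroup L), (x : L) ∈ M'.map (R : Subgroup L).subtype ↔ x ∈ M' := by
        intro x
        constructor
        · rintro ⟨x', hx', hxx⟩
          have e : x' = x := Subtype.ext hxx
          rwa [← e]
        · intro h; exact ⟨x, h, rfl⟩
      have hMR : M'.map (R : Subgroup L).subtype ≤ (R : Subgroup L) := by
        rintro _ ⟨x, -, rfl⟩; exact x.2
      have htrans : ∀ y₁ y₂ : L, y₁ ∈ (R : Subgroup L) → y₂ ∈ (R : Subgroup L) → y₁ * y₁ = z →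
          y₂ * y₂ = z → y₁ ∈ M'.map (R : Subgroup L).subtype →
          y₂ ∈ M'.map (R : Subgroup L).subtype := by
        intro y₁ y₂ h1R h2R h1 h2 h1M
        refine thompson_transfer_four hperf (R : Subgroup L) (M'.map (R : Subgroup L).subtype)
          (t : L) t.2 (fun h => ht ((hmemM t).1 h)) ?_ ?_ z hzz ?_ y₁ y₂ h1 h2 h1M
        · intro x hx
          by_cases hxM : (⟨x, hx⟩ : ↥(R : Subgroup L)) ∈ M'
          · left; exact (hmemM ⟨x, hx⟩).2 hxM
          · right
            have h3 : t⁻¹ * ⟨x, hx⟩ ∈ M' := by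
              rw [Subgroup.mul_mem_iff_of_index_two hM'i, inv_mem_iff]
              constructor
              · intro h; exact absurd h ht
              · intro h; exact absurd h hxM
            exact (hmemM (t⁻¹ * ⟨x, hx⟩)).2 h3
        · intro r hr m hm
          obtain ⟨m', hm', rfl⟩ := hm
          have h3 : (⟨r, hr⟩ : ↥(R : Subgroup L))⁻¹ * m' * ⟨r, hr⟩ ∈ M' := by
            have h4 := hM'n.conj_mem m' hm' (⟨r, hr⟩ : ↥(R : Subgroup L))⁻¹
            rwa [inv_inv] at h4
          exact (hmemM _).2 h3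
        · intro y₀ k hy₀ hk
          have hkR := hMR hk
          have h4 := hsq _ hkR
          have e : k⁻¹ * y₀ * k * (k⁻¹ * y₀ * k) = k⁻¹ * z * k := by rw [← hy₀]; group
          rw [e] at h4
          rw [hmemR]
          rcases (memZ _).1 h4 with h5 | h5
          · exfalso
            apply hz1
            calc z = k * (k⁻¹ * z * k) * k⁻¹ := by group
              _ = 1 := by rw [h5]; group
          · calc k * z = k * z * (k⁻¹ * k) := by group
              _ = k * (k⁻¹ * z * k) := by rw [h5]; group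
              _ = z * k := by group
      have hiff : (⟨y, hyR⟩ : ↥(R : Subgroup L)) ∈ M' ↔ (⟨y', hy'R⟩ : ↥(R : Subgroup L)) ∈ M' := by
        constructor
        · intro h
          exact (hmemM ⟨y', hy'R⟩).1
            (htrans y y' hyR hy'R hyy hy'y' ((hmemM ⟨y, hyR⟩).2 h))
        · intro h
          exact (hmemM ⟨y, hyR⟩).1
            (htrans y' y hy'R hyR hy'y' hyy ((hmemM ⟨y', hy'R⟩).2 h))
      have e : (⟨y⁻¹ * y', Subgroup.mul_mem _ (Subgroup.inv_mem _ hyR) hy'R⟩ : ↥(R : Subgroup L)) =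
          (⟨y, hyR⟩ : ↥(R : Subgroup L))⁻¹ * ⟨y', hy'R⟩ := rfl
      rw [e, Subgroup.mul_mem_iff_of_index_two hM'i, inv_mem_iff]
      exact hiff
    have h5 : y⁻¹ * y' ∈ Subgroup.zpowers z := (hfrat _).1 hmem
    rcases (memZ _).1 h5 with h6 | h6
    · left
      calc y' = y * (y⁻¹ * y') := by group
        _ = y := by rw [h6, mul_one]
    · right
      calc y' = y * (y⁻¹ * y') := by group
        _ = y * z := by rw [h6]
  -- the cyclic subgroup generated by `y`
  have hyz : y * z = z * y := (hmemR y).1 hyR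
  have hyC : y ∈ Subgroup.zpowers y := Subgroup.mem_zpowers y
  have hzC : z ∈ Subgroup.zpowers y := by
    rw [← hyy]; exact Subgroup.mul_mem _ hyC hyC
  have hCcomm : ∀ x ∈ Subgroup.zpowers y, x * y = y * x := by
    intro x hx
    obtain ⟨k, rfl⟩ := Subgroup.mem_zpowers_iff.1 hx
    exact ((Commute.refl y).zpow_left k).eq
  have hinvert : ∀ v ∈ (R : Subgroup L), v ∉ Subgroup.zpowers y → v * v = 1 ∧ v * y * v⁻¹ = y⁻¹ := by
    intro v hvR hvC
    have hvv : ∀ w ∈ (R : Subgroup L), w ∉ Subgroup.zpowers y → w * w = 1 := by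
      intro w hwR hwC
      rcases (memZ _).1 (hsq w hwR) with h | h
      · exact h
      · exfalso
        apply hwC
        rcases hstar w hwR h with h' | h'
        · rw [h']; exact hyC
        · rw [h']; exact Subgroup.mul_mem _ hyC hzC
    have h1 := hvv v hvR hvC
    have h2 : (v * y) * (v * y) = 1 := by
      apply hvv (v * y) (Subgroup.mul_mem _ hvR hyR)
      intro h
      apply hvC
      have e : v = (v * y) * y⁻¹ := by group
      rw [e]; exact Subgroup.mul_mem _ h (Subgroup.inv_mem _ hyC)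
    refine ⟨h1, ?_⟩
    have hvi : v⁻¹ = v := inv_eq_of_mul_eq_one_left h1
    rw [hvi]
    calc v * y * v = ((v * y) * (v * y)) * y⁻¹ := by group
      _ = y⁻¹ := by rw [h2, one_mul]
  obtain ⟨u, huR, huC⟩ : ∃ u ∈ (R : Subgroup L), u ∉ Subgroup.zpowers y := by
    by_contra hno
    push Not at hno
    obtain ⟨a, ha, b, hb, hab⟩ := hnonab
    apply hab
    obtain ⟨i, rfl⟩ := Subgroup.mem_zpowers_iff.1 (hno a ha)
    obtain ⟨j, rfl⟩ := Subgroup.mem_zpowers_iff.1 (hno b hb)
    exact ((Commute.refl y).zpow_zpow i j).eq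
  obtain ⟨huu, huy⟩ := hinvert u huR huC
  have hmemC : ∀ v : ↥(R : Subgroup L),
      v ∈ Subgroup.zpowers (⟨y, hyR⟩ : ↥(R : Subgroup L)) ↔ (v : L) ∈ Subgroup.zpowers y := by
    intro v
    constructor
    · rintro ⟨k, rfl⟩
      exact ⟨k, by simp⟩
    · rintro ⟨k, hk⟩
      exact ⟨k, Subtype.ext (by simpa using hk)⟩
  have hyord : orderOf (⟨y, hyR⟩ : ↥(R : Subgroup L)) = 4 := by
    rw [Subgroup.orderOf_mk]
    have h1 : ¬ y ^ 2 ^ 1 = 1 := by
      rw [pow_one, pow_two, hyy]; exact hz1
    have h2 : y ^ 2 ^ (1 + 1) = 1 := by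
      have e4 : (2 : ℕ) ^ (1 + 1) = 2 * 2 := rfl
      rw [e4, pow_mul, pow_two, pow_two, hyy, hzz]
    exact orderOf_eq_prime_pow h1 h2
  have hidx : (Subgroup.zpowers (⟨y, hyR⟩ : ↥(R : Subgroup L))).index = 2 := by
    rw [Subgroup.index_eq_two_iff]
    refine ⟨⟨u, huR⟩, fun b => ?_⟩
    by_cases hb : b ∈ Subgroup.zpowers (⟨y, hyR⟩ : ↥(R : Subgroup L))
    · refine Or.inr ⟨hb, fun h => ?_⟩
      apply huC
      have h1 := Subgroup.mul_mem _ (Subgroup.inv_mem _ hb) h
      rw [inv_mul_cancel_left] at h1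
      exact (hmemC _).1 h1
    · refine Or.inl ⟨?_, hb⟩
      by_contra hbu
      have hbC : (b : L) ∉ Subgroup.zpowers y := fun h => hb ((hmemC b).2 h)
      have hbuC : (b : L) * u ∉ Subgroup.zpowers y := fun h => hbu ((hmemC (b * ⟨u, huR⟩)).2 h)
      obtain ⟨-, h1⟩ := hinvert (b : L) b.2 hbC
      obtain ⟨-, h2⟩ := hinvert ((b : L) * u) (Subgroup.mul_mem _ b.2 huR) hbuC
      apply hz1
      have h3 : y⁻¹ = y := by
        calc y⁻¹ = (b : L) * u * y * ((b : L) * u)⁻¹ := h2.symm
          _ = (b : L) * (u * y * u⁻¹) * (b : L)⁻¹ := by group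
          _ = (b : L) * y⁻¹ * (b : L)⁻¹ := by rw [huy]
          _ = ((b : L) * y * (b : L)⁻¹)⁻¹ := by group
          _ = y := by rw [h1, inv_inv]
      calc z = y * y := hyy.symm
        _ = y⁻¹ * y := by rw [h3]
        _ = 1 := inv_mul_cancel y
  have hcard : Nat.card ↥(R : Subgroup L) = 2 * 4 := by
    have h1 := Subgroup.card_mul_index (Subgroup.zpowers (⟨y, hyR⟩ : ↥(R : Subgroup L)))
    rw [hidx, Nat.card_zpowers, hyord] at h1
    omega
  refine Cfsg.Agent.Lib.helper59.dihedral_equiv_of_rel 4 (⟨y, hyR⟩ : ↥(R : Subgroup L))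
    ⟨u, huR⟩ hyord hcard (fun h => huC ((hmemC _).1 h)) ?_ ?_
  · apply Subtype.ext
    rw [Subgroup.coe_pow, pow_two]
    exact huu
  · apply Subtype.ext
    exact huy

end Cfsg.Agent.S5435
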