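import Cfsg.Statements.S5436
import Cfsg.Agent.Lib.helper92.Simple
import Cfsg.Agent.S5422

set_option autoImplicit false
open Cfsg

namespace Cfsg.Agent.S5436

open Cfsg.Agent.Lib.helper92

/-- Let z be an involution of the finite group G with centralizer H whose generalized Fitting subgroup Q is extraspecial of width at least 2 (order 2^(2w+1), w ≥ 2); suppose some conjugate of z other than z lies in Q, H/Q is a non-abelian simple group, H acts irreducibly by conjugation on Q modulo the subgroup generated by z (the only H-invariant subgroups of Q containing z are that subgroup and Q), and Q is not the subgroup generated by the conjugates of z lying in H. Then G is simple. -/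
theorem result {G : Type*} [Group G] [Finite G] (z : G) (hz : orderOf z = 2) (Q : Subgroup (Subgroup.centralizer ({z} : Set G))) [Q.Normal] (hF : Cfsg.generalizedFittingSubgroup ↥(Subgroup.centralizer ({z} : Set G)) = Q) (hQ : Cfsg.IsExtraspecial 2 ↥Q) (w : ℕ) (hw : 2 ≤ w) (hcard : Nat.card ↥Q = 2 ^ (2 * w + 1)) (hnwc : ∃ g : G, (∃ hq : g * z * g⁻¹ ∈ Subgroup.centralizer ({z} : Set G), (⟨g * z * g⁻¹, hq⟩ : Subgroup.centralizer ({z} : Set G)) ∈ Q) ∧ g * z * g⁻¹ ≠ z) (hsimp : IsSimpleGroup (↥(Subgroup.centralizer ({z} : Set G)) ⧸ Q)) (hna : ¬ IsMulCommutative (↥(Subgroup.centralizer ({z} : Set G)) ⧸ Q)) (hirr : ∀ W : Subgroup (Subgroup.centralizer ({z} : Set G)), W.Normal → W ≤ Q → (W = Q ∨ ∀ x ∈ W, (x : G) ∈ Subgroup.zpowers z)) (hwcl : Subgroup.closure {x : Subgroup.centralizer ({z} : Set G) | IsConj z (x : G)} ≠ Q) : IsSimpleGroup G := by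
  have hinj := Subgroup.subtype_injective (Subgroup.centralizer ({z} : Set G))
  have hQ₀ : Cfsg.IsExtraspecial 2 ↥(Q.map (Subgroup.centralizer ({z} : Set G)).subtype) :=
    isExtraspecial_of_mulEquiv (Q.equivMapOfInjective _ hinj) hQ
  have hq := qdata_of_fstar z hz (Q.map (Subgroup.centralizer ({z} : Set G)).subtype)
    (by rw [hF]) hQ₀
  have hcard₀ : Nat.card ↥(Q.map (Subgroup.centralizer ({z} : Set G)).subtype)
      = 2 ^ (2 * w + 1) := by
    rw [← hcard]; exact Nat.card_congr (Q.equivMapOfInjective _ hinj).symm.toEquiv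
  have hzz := hq.sq
  have hZ := hq.center_map_eq
  obtain ⟨g, ⟨hgC, hgQ⟩, hgz⟩ := hnwc
  have hgQ₀ : g * z * g⁻¹ ∈ Q.map (Subgroup.centralizer ({z} : Set G)).subtype :=
    ⟨⟨_, hgC⟩, hgQ, rfl⟩
  have hb1 : g * z * g⁻¹ ≠ 1 := by
    intro h2
    apply hq.ne_one
    calc z = g⁻¹ * (g * z * g⁻¹) * g := by group
      _ = 1 := by rw [h2]; group
  have hlarge : Cfsg.IsLargeExtraspecial (Q.map (Subgroup.centralizer ({z} : Set G)).subtype) := by
    refine (Cfsg.Agent.S5422.result _ hQ₀ hq.centralizer_eq hq.centralizer_center_le_normalizer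
      w hw hcard₀ g ?_ ?_).2.2
    · rw [hZ]
      intro hk
      have h1 : g * z * g⁻¹ ∈ Subgroup.zpowers z :=
        (Subgroup.mem_normalizer_iff.1 hk z).1 (Subgroup.mem_zpowers z)
      rcases (mem_zpowers_invol hzz _).1 h1 with h2 | h2
      · exact hb1 h2
      · exact hgz h2
    · rw [hZ, MonoidHom.map_zpowers, Subgroup.zpowers_le]
      exact hgQ₀
  apply isSimpleGroup_of_qdata hq hlarge.2.2.2
  intro N hNn hzN
  have hbN : g * z * g⁻¹ ∈ N := hNn.conj_mem z hzN g
  have hNC : (N.subgroupOf (Subgroup.centralizer ({z} : Set G))).Normal := inferInstance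
  have hW : (N.subgroupOf (Subgroup.centralizer ({z} : Set G)) ⊓ Q).Normal := inferInstance
  rcases hirr _ hW inf_le_right with h1 | h1
  · have hQN : Q ≤ N.subgroupOf (Subgroup.centralizer ({z} : Set G)) :=
      (le_of_eq h1.symm).trans inf_le_left
    have hmapn : ((N.subgroupOf (Subgroup.centralizer ({z} : Set G))).map
        (QuotientGroup.mk' Q)).Normal :=
      Subgroup.Normal.map hNC _ (QuotientGroup.mk'_surjective Q)
    rcases hsimp.eq_bot_or_eq_top_of_normal _ hmapn with h2 | h2
    · exfalso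
      have hNQ : N.subgroupOf (Subgroup.centralizer ({z} : Set G)) ≤ Q := by
        rw [Subgroup.map_eq_bot_iff, QuotientGroup.ker_mk'] at h2; exact h2
      have hcl : Subgroup.closure {x : Subgroup.centralizer ({z} : Set G) | IsConj z (x : G)}
          ≤ Q := by
        rw [Subgroup.closure_le]
        intro x hx
        apply hNQ
        rw [Subgroup.mem_subgroupOf]
        obtain ⟨c, hc⟩ := isConj_iff.1 hx
        rw [← hc]; exact hNn.conj_mem z hzN c
      have hcln : (Subgroup.closure
          {x : Subgroup.centralizer ({z} : Set G) | IsConj z (x : G)}).Normal := by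
        constructor
        intro n hn c
        induction hn using Subgroup.closure_induction with
        | mem x hx =>
          apply Subgroup.subset_closure
          show IsConj z ((c : G) * x * (c : G)⁻¹)
          exact hx.trans (isConj_iff.2 ⟨c, rfl⟩)
        | one => rw [mul_one, mul_inv_cancel]; exact Subgroup.one_mem _
        | mul x y hx hy ihx ihy =>
          have e : c * (x * y) * c⁻¹ = (c * x * c⁻¹) * (c * y * c⁻¹) := by group
          rw [e]; exact Subgroup.mul_mem _ ihx ihy
        | inv x hx ih =>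
          have e : c * x⁻¹ * c⁻¹ = (c * x * c⁻¹)⁻¹ := by group
          rw [e]; exact Subgroup.inv_mem _ ih
      rcases hirr _ hcln hcl with h3 | h3
      · exact hwcl h3
      · have h4 := h3 ⟨g * z * g⁻¹, hgC⟩ (Subgroup.subset_closure (isConj_iff.2 ⟨g, rfl⟩))
        rcases (mem_zpowers_invol hzz _).1 h4 with h5 | h5
        · exact hb1 h5
        · exact hgz h5
    · intro c hc
      have h3 : QuotientGroup.mk' Q ⟨c, hc⟩ ∈
          (N.subgroupOf (Subgroup.centralizer ({z} : Set G))).map (QuotientGroup.mk' Q) := by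
        rw [h2]; trivial
      obtain ⟨n, hn, hnc⟩ := h3
      have h4 : n⁻¹ * ⟨c, hc⟩ ∈ Q := QuotientGroup.eq.1 hnc
      have h5 : n⁻¹ * ⟨c, hc⟩ ∈ N.subgroupOf (Subgroup.centralizer ({z} : Set G)) := hQN h4
      have h6 := Subgroup.mul_mem _ hn h5
      rw [mul_inv_cancel_left] at h6
      exact Subgroup.mem_subgroupOf.1 h6
  · exfalso
    have h4 := h1 ⟨g * z * g⁻¹, hgC⟩
      (Subgroup.mem_inf.2 ⟨Subgroup.mem_subgroupOf.2 hbN, hgQ⟩)
    rcases (mem_zpowers_invol hzz _).1 h4 with h5 | h5
    · exact hb1 h5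
    · exact hgz h5

end Cfsg.Agent.S5436
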