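import Cfsg.Statements.S5437
import Cfsg.Agent.Lib.helper92.Cosets

set_option autoImplicit false
open Cfsg

namespace Cfsg.Agent.S5437

open Cfsg.Agent.Lib.helper92

/-- Let I be a set of involutions of the finite group G closed under conjugation, and H a subgroup of G. The following are equivalent: (1) for every member x of I lying in H, the conjugates of x lying in H form a single H-class and the centralizer of x lies in H; (2) for every g outside H, no member of I lies in both H and g H g⁻¹; (3) every member of I lying in H fixes exactly one coset in the action of G on the cosets of H. -/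
theorem result {G : Type*} [Group G] [Finite G] (I : Set G) (hI : ∀ x ∈ I, orderOf x = 2) (hIc : ∀ g : G, ∀ x ∈ I, g * x * g⁻¹ ∈ I) (H : Subgroup G) : ((∀ x ∈ I, x ∈ H → (∀ g : G, g * x * g⁻¹ ∈ H → ∃ h ∈ H, h * x * h⁻¹ = g * x * g⁻¹) ∧ Subgroup.centralizer ({x} : Set G) ≤ H) ↔ (∀ g : G, g ∉ H → ∀ x ∈ I, ¬ (x ∈ H ∧ x ∈ (H : Subgroup G).map (MulAut.conj g).toMonoidHom))) ∧ ((∀ g : G, g ∉ H → ∀ x ∈ I, ¬ (x ∈ H ∧ x ∈ (H : Subgroup G).map (MulAut.conj g).toMonoidHom)) ↔ ∀ x ∈ I, x ∈ H → ∃! c : G ⧸ H, x • c = c) := by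
  have key12 : (∀ x ∈ I, x ∈ H → (∀ g : G, g * x * g⁻¹ ∈ H → ∃ h ∈ H, h * x * h⁻¹ = g * x * g⁻¹) ∧ Subgroup.centralizer ({x} : Set G) ≤ H) ↔ (∀ g : G, g ∉ H → ∀ x ∈ I, ¬ (x ∈ H ∧ x ∈ (H : Subgroup G).map (MulAut.conj g).toMonoidHom)) := by
    constructor
    · intro h1 g hg x hxI hx
      obtain ⟨hxH, hxg⟩ := hx
      rw [mem_map_conj_iff] at hxg
      obtain ⟨hfus, hcent⟩ := h1 x hxI hxH
      have hxg' : g⁻¹ * x * g⁻¹⁻¹ ∈ H := by simpa using hxg
      obtain ⟨h, hhH, hh⟩ := hfus g⁻¹ hxg'
      have hgh : g * h ∈ Subgroup.centralizer ({x} : Set G) := by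
        rw [Subgroup.mem_centralizer_iff]
        intro y hy
        rw [Set.mem_singleton_iff] at hy
        subst hy
        have h2 : g * h * y * (g * h)⁻¹ = y := by
          calc g * h * y * (g * h)⁻¹ = g * (h * y * h⁻¹) * g⁻¹ := by group
            _ = g * (g⁻¹ * y * g⁻¹⁻¹) * g⁻¹ := by rw [hh]
            _ = y := by group
        calc y * (g * h) = g * h * y * (g * h)⁻¹ * (g * h) := by rw [h2]
          _ = g * h * y := by group
      have h3 : g * h ∈ H := hcent hgh
      apply hg
      have := H.mul_mem h3 (H.inv_mem hhH)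
      simpa using this
    · intro h2 x hxI hxH
      constructor
      · intro g hgx
        have hgH : g ∈ H := by
          by_contra hg
          apply h2 g hg (g * x * g⁻¹) (hIc g x hxI)
          refine ⟨hgx, ?_⟩
          rw [mem_map_conj_iff]
          have : g⁻¹ * (g * x * g⁻¹) * g = x := by group
          rw [this]
          exact hxH
        exact ⟨g, hgH, rfl⟩
      · intro c hc
        by_contra hcH
        apply h2 c hcH x hxI
        refine ⟨hxH, ?_⟩
        rw [mem_map_conj_iff]
        rw [Subgroup.mem_centralizer_iff] at hc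
        have h3 := hc x (Set.mem_singleton x)
        have : c⁻¹ * x * c = x := by
          calc c⁻¹ * x * c = c⁻¹ * (x * c) := by group
            _ = c⁻¹ * (c * x) := by rw [h3]
            _ = x := by group
        rw [this]
        exact hxH
  refine ⟨key12, ?_⟩
  constructor
  · intro h2 x hxI hxH
    refine ⟨((1 : G) : G ⧸ H), ?_, ?_⟩
    · show x • ((1 : G) : G ⧸ H) = ((1 : G) : G ⧸ H)
      rw [smul_coset_eq_iff]
      simpa using hxH
    · intro c hc
      induction c using QuotientGroup.induction_on with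
      | H g =>
        have hc' : x • (g : G ⧸ H) = (g : G ⧸ H) := hc
        rw [smul_coset_eq_iff] at hc'
        have hgH : g ∈ H := by
          by_contra hg
          apply h2 g hg x hxI
          exact ⟨hxH, (mem_map_conj_iff H g x).2 hc'⟩
        rw [QuotientGroup.eq]
        simpa using H.inv_mem hgH
  · intro h3 g hg x hxI hx
    obtain ⟨hxH, hxg⟩ := hx
    rw [mem_map_conj_iff] at hxg
    obtain ⟨c, -, hcu⟩ := h3 x hxI hxH
    have h1 : x • ((1 : G) : G ⧸ H) = ((1 : G) : G ⧸ H) := by
      rw [smul_coset_eq_iff]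
      simpa using hxH
    have hg' : x • (g : G ⧸ H) = (g : G ⧸ H) := (smul_coset_eq_iff H x g).2 hxg
    have e1 := hcu _ h1
    have e2 := hcu _ hg'
    have e3 : (g : G ⧸ H) = ((1 : G) : G ⧸ H) := by rw [e1, e2]
    rw [QuotientGroup.eq] at e3
    apply hg
    have := H.inv_mem e3
    simpa using this

end Cfsg.Agent.S5437
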