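import Cfsg.Statements.S5438
import Cfsg.Agent.Lib.helper92.SylowConj

set_option autoImplicit false
open Cfsg

namespace Cfsg.Agent.S5438

open Cfsg.Agent.Lib.helper92

/-- Conjugation preserves the order of an element. -/
theorem orderOf_conj_eq {G : Type*} [Group G] (g x : G) : orderOf (g * x * g⁻¹) = orderOf x := by
  have := orderOf_injective (MulAut.conj g).toMonoidHom (MulAut.conj g).injective x
  simpa [MulAut.conj_apply] using this


/-- Let z be a 2-central involution of the finite group G (an involution central in some Sylow 2-subgroup) and H a subgroup containing z such that the coset H is the only coset of H fixed by z (in the action of G on the cosets of H). Then H has odd index in G, and for every 2-element x of H the conjugates of x lying in H form a single H-class. -/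
theorem result {G : Type*} [Group G] [Finite G] (z : G) (hz : Cfsg.IsTwoCentralInvolution z) (H : Subgroup G) (hzH : z ∈ H) (hfix : ∀ g : G, g⁻¹ * z * g ∈ H → g ∈ H) : Odd H.index ∧ ∀ x ∈ H, (∃ k : ℕ, orderOf x = 2 ^ k) → ∀ g : G, g * x * g⁻¹ ∈ H → ∃ h ∈ H, h * x * h⁻¹ = g * x * g⁻¹ := by
  have : Fact (Nat.Prime 2) := ⟨Nat.prime_two⟩
  obtain ⟨hz2, P, hzP, hzc⟩ := hz
  have hPH : (P : Subgroup G) ≤ H := by
    intro p hp
    apply hfix
    have : p⁻¹ * z * p = z := by
      have := hzc p hp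
      calc p⁻¹ * z * p = p⁻¹ * (z * p) := by group
        _ = p⁻¹ * (p * z) := by rw [this]
        _ = z := by group
    rw [this]
    exact hzH
  constructor
  · have h1 : H.index ∣ (P : Subgroup G).index := Subgroup.index_dvd_of_le hPH
    have h2 : ¬ 2 ∣ (P : Subgroup G).index := P.not_dvd_index
    exact Nat.not_even_iff_odd.1 fun he => h2 (dvd_trans (even_iff_two_dvd.1 he) h1)
  · rintro x hxH ⟨n, hn⟩ g hgx
    -- a conjugate `w z w⁻¹` lying in `k P k⁻¹` forces `w H = k H`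
    have key : ∀ w k : G, k⁻¹ * (w * z * w⁻¹) * k ∈ (P : Subgroup G) → w⁻¹ * k ∈ H := by
      intro w k h
      apply hfix
      have : (w⁻¹ * k)⁻¹ * z * (w⁻¹ * k) = k⁻¹ * (w * z * w⁻¹) * k := by group
      rw [this]
      exact hPH h
    -- every 2-element of `H` commutes with an `H`-conjugate of `z`
    have hsyl : ∀ y : G, y ∈ H → orderOf y = 2 ^ n → ∃ h ∈ H, y * (h * z * h⁻¹) = (h * z * h⁻¹) * y := by
      intro y hyH hyo
      have hyo' : orderOf (⟨y, hyH⟩ : H) = 2 ^ n := by rw [Subgroup.orderOf_mk]; exact hyo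
      obtain ⟨h, hh⟩ := exists_conj_mem_sylow_of_orderOf (P.subtype hPH) hyo'
      have hh' : (h : G)⁻¹ * y * h ∈ (P : Subgroup G) := by
        have h1 : h⁻¹ * ⟨y, hyH⟩ * h ∈ (P : Subgroup G).subgroupOf H := hh
        rw [Subgroup.mem_subgroupOf] at h1
        simpa using h1
      refine ⟨h, h.2, ?_⟩
      have h2 := hzc _ hh'
      calc y * ((h : G) * z * (h : G)⁻¹) = h * (((h : G)⁻¹ * y * h) * z) * (h : G)⁻¹ := by group
        _ = h * (z * ((h : G)⁻¹ * y * h)) * (h : G)⁻¹ := by rw [h2]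
        _ = (h * z * (h : G)⁻¹) * y := by group
    obtain ⟨h₁, hh₁H, hh₁⟩ := hsyl x hxH hn
    obtain ⟨h₂, hh₂H, hh₂⟩ := hsyl (g * x * g⁻¹) hgx (by rw [orderOf_conj_eq]; exact hn)
    -- two conjugates of `z` in the centralizer `C` of `x`
    obtain ⟨z₁, hz₁⟩ : ∃ z₁ : G, z₁ = h₁ * z * h₁⁻¹ := ⟨_, rfl⟩
    obtain ⟨z₃, hz₃⟩ : ∃ z₃ : G, z₃ = (g⁻¹ * h₂) * z * (g⁻¹ * h₂)⁻¹ := ⟨_, rfl⟩
    have hz₁C : z₁ ∈ Subgroup.centralizer ({x} : Set G) := by
      rw [Subgroup.mem_centralizer_iff]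
      intro t ht
      rw [Set.mem_singleton_iff] at ht
      subst ht
      rw [hz₁]
      exact hh₁
    have hz₃C : z₃ ∈ Subgroup.centralizer ({x} : Set G) := by
      rw [Subgroup.mem_centralizer_iff]
      intro t ht
      rw [Set.mem_singleton_iff] at ht
      subst ht
      rw [hz₃]
      calc t * (g⁻¹ * h₂ * z * (g⁻¹ * h₂)⁻¹) = g⁻¹ * ((g * t * g⁻¹) * (h₂ * z * h₂⁻¹)) * g := by group
        _ = g⁻¹ * ((h₂ * z * h₂⁻¹) * (g * t * g⁻¹)) * g := by rw [hh₂]
        _ = g⁻¹ * h₂ * z * (g⁻¹ * h₂)⁻¹ * t := by group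
    have hz₁o : orderOf (⟨z₁, hz₁C⟩ : Subgroup.centralizer ({x} : Set G)) = 2 ^ 1 := by
      rw [Subgroup.orderOf_mk, hz₁, orderOf_conj_eq, hz2, pow_one]
    have hz₃o : orderOf (⟨z₃, hz₃C⟩ : Subgroup.centralizer ({x} : Set G)) = 2 ^ 1 := by
      rw [Subgroup.orderOf_mk, hz₃, orderOf_conj_eq, hz2, pow_one]
    -- a Sylow 2-subgroup of `C` containing `z₃` and a `C`-conjugate of `z₁`
    have hp3 : IsPGroup 2 (Subgroup.zpowers (⟨z₃, hz₃C⟩ : Subgroup.centralizer ({x} : Set G))) :=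
      IsPGroup.of_card (n := 1) (by rw [Nat.card_zpowers, hz₃o])
    obtain ⟨S, hS⟩ := hp3.exists_le_sylow
    obtain ⟨c, hc⟩ := exists_conj_mem_sylow_of_orderOf S hz₁o
    have hS2 : IsPGroup 2 ((S : Subgroup (Subgroup.centralizer ({x} : Set G))).map
        (Subgroup.centralizer ({x} : Set G)).subtype) := S.isPGroup'.map _
    obtain ⟨k, hk⟩ := exists_conj_mem_sylow P hS2
    have m1 : (c : G)⁻¹ * z₁ * c ∈ (S : Subgroup (Subgroup.centralizer ({x} : Set G))).map
        (Subgroup.centralizer ({x} : Set G)).subtype := ⟨_, hc, by simp⟩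
    have m3 : z₃ ∈ (S : Subgroup (Subgroup.centralizer ({x} : Set G))).map
        (Subgroup.centralizer ({x} : Set G)).subtype :=
      ⟨_, hS (Subgroup.mem_zpowers _), rfl⟩
    have k1 := hk _ m1
    have k3 := hk _ m3
    have e1 : (c : G)⁻¹ * z₁ * c = ((c : G)⁻¹ * h₁) * z * ((c : G)⁻¹ * h₁)⁻¹ := by rw [hz₁]; group
    rw [e1] at k1
    rw [hz₃] at k3
    have j1 := key _ _ k1
    have j3 := key _ _ k3
    have hcg : (c : G) * g⁻¹ ∈ H := by
      have h1 := H.mul_mem j1 (H.inv_mem j3)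
      have h2 := H.mul_mem (H.mul_mem hh₁H h1) (H.inv_mem hh₂H)
      have e : h₁ * (((c : G)⁻¹ * h₁)⁻¹ * k * ((g⁻¹ * h₂)⁻¹ * k)⁻¹) * h₂⁻¹ = (c : G) * g⁻¹ := by group
      rw [e] at h2
      exact h2
    refine ⟨g * (c : G)⁻¹, ?_, ?_⟩
    · have := H.inv_mem hcg
      simpa using this
    · have hcx := Subgroup.mem_centralizer_iff.1 c.2 x (Set.mem_singleton x)
      have hcx' : (c : G)⁻¹ * x * c = x := by
        calc (c : G)⁻¹ * x * c = (c : G)⁻¹ * (x * c) := by group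
          _ = (c : G)⁻¹ * (c * x) := by rw [hcx]
          _ = x := by group
      calc g * (c : G)⁻¹ * x * (g * (c : G)⁻¹)⁻¹ = g * ((c : G)⁻¹ * x * c) * g⁻¹ := by group
        _ = g * x * g⁻¹ := by rw [hcx']

end Cfsg.Agent.S5438
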