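import Cfsg.Statements.S5439
import Cfsg.Agent.Lib.helper92.Cosets

set_option autoImplicit false
open Cfsg

namespace Cfsg.Agent.S5439

open Cfsg.Agent.Lib.helper92

/-- Conjugating a power of `a * b` by the involution `a` (or `b`) inverts it. -/
theorem conj_pow_invol {G : Type*} [Group G] {a b : G} (ha : a * a = 1) (hb : b * b = 1) (j : ℕ) :
    a * (a * b) ^ j * a⁻¹ = ((a * b) ^ j)⁻¹ ∧ b * (a * b) ^ j * b⁻¹ = ((a * b) ^ j)⁻¹ := by
  have hai : a⁻¹ = a := inv_eq_of_mul_eq_one_left ha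
  have hbi : b⁻¹ = b := inv_eq_of_mul_eq_one_left hb
  have h1 : a * (a * b) * a⁻¹ = (a * b)⁻¹ := by
    rw [mul_inv_rev, hai, hbi, ← mul_assoc, ha, one_mul]
  have h2 : b * (a * b) * b⁻¹ = (a * b)⁻¹ := by
    rw [mul_inv_rev, hai, hbi, mul_assoc, mul_assoc, hb, mul_one]
  constructor
  · rw [← conj_pow, h1, inv_pow]
  · rw [← conj_pow, h2, inv_pow]

/-- `(a b)^k` conjugates `a` to `a (a b)^(2k)`, and `b` to `b (a b)^(2k)`, up to inversion. -/
theorem conj_by_pow {G : Type*} [Group G] {a b : G} (ha : a * a = 1) (hb : b * b = 1) (k : ℕ) :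
    ((a * b) ^ k)⁻¹ * a * (a * b) ^ k = a * (a * b) ^ (2 * k) ∧
    ((a * b) ^ k)⁻¹ * b * (a * b) ^ k = b * (a * b) ^ (2 * k) := by
  obtain ⟨h1, h2⟩ := conj_pow_invol ha hb k
  constructor
  · rw [← h1, two_mul, pow_add]; group
  · rw [← h2, two_mul, pow_add]; group


/-- Let I and J be two different conjugacy classes of involutions of the finite group G and H a subgroup such that every member of I ∪ J fixes exactly one coset in the action on the cosets of H, and such that for every a in I ∩ H and every b in (I ∪ J) ∩ H different from a and commuting with it, the centralizer of a b lies in H. Then H = G. -/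
theorem result {G : Type*} [Group G] [Finite G] (I J : Set G) (a₀ b₀ : G) (ha₀ : orderOf a₀ = 2) (hb₀ : orderOf b₀ = 2) (hI : I = {x | IsConj a₀ x}) (hJ : J = {x | IsConj b₀ x}) (hIJ : I ≠ J) (H : Subgroup G) (hfix : ∀ x ∈ I ∪ J, ∃! c : G ⧸ H, x • c = c) (hcent : ∀ a ∈ I, a ∈ H → ∀ b ∈ I ∪ J, b ∈ H → a ≠ b → a * b = b * a → Subgroup.centralizer ({a * b} : Set G) ≤ H) : H = ⊤ := by
  by_contra hH
  have hex : ∃ g : G, g ∉ H := by
    by_contra h
    push Not at h
    exact hH (eq_top_iff.2 fun x _ => h x)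
  obtain ⟨g, hg⟩ := hex
  have ha₀2 : a₀ * a₀ = 1 := by
    have := pow_orderOf_eq_one a₀
    rw [ha₀, pow_two] at this
    exact this
  have hb₀2 : b₀ * b₀ = 1 := by
    have := pow_orderOf_eq_one b₀
    rw [hb₀, pow_two] at this
    exact this
  have hIconj : ∀ x ∈ I, ∀ y : G, IsConj x y → y ∈ I := by
    intro x hx y hxy
    rw [hI] at hx ⊢
    exact IsConj.trans hx hxy
  have hJconj : ∀ x ∈ J, ∀ y : G, IsConj x y → y ∈ J := by
    intro x hx y hxy
    rw [hJ] at hx ⊢
    exact IsConj.trans hx hxy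
  have hIsq : ∀ x ∈ I, x * x = 1 := by
    intro x hx
    rw [hI] at hx
    obtain ⟨c, hc⟩ := isConj_iff.1 hx
    rw [← hc]
    calc c * a₀ * c⁻¹ * (c * a₀ * c⁻¹) = c * (a₀ * a₀) * c⁻¹ := by group
      _ = 1 := by rw [ha₀2]; group
  have hJsq : ∀ x ∈ J, x * x = 1 := by
    intro x hx
    rw [hJ] at hx
    obtain ⟨c, hc⟩ := isConj_iff.1 hx
    rw [← hc]
    calc c * b₀ * c⁻¹ * (c * b₀ * c⁻¹) = c * (b₀ * b₀) * c⁻¹ := by group
      _ = 1 := by rw [hb₀2]; group
  have hdisj : ∀ x ∈ I, ∀ y ∈ J, ¬ IsConj x y := by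
    intro x hx y hy hxy
    apply hIJ
    rw [hI] at hx
    rw [hJ] at hy
    have h0 : IsConj a₀ b₀ := (hx.trans hxy).trans hy.symm
    rw [hI, hJ]
    ext t
    simp only [Set.mem_setOf_eq]
    exact ⟨fun h => h0.symm.trans h, fun h => h0.trans h⟩
  have ha₀I : a₀ ∈ I := by rw [hI]; exact IsConj.refl a₀
  have hb₀J : b₀ ∈ J := by rw [hJ]; exact IsConj.refl b₀
  -- a conjugate `a` of `a₀` inside `H`
  obtain ⟨ca, hca, -⟩ := hfix a₀ (Or.inl ha₀I)
  induction ca using QuotientGroup.induction_on with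
  | H g₀ =>
  rw [smul_coset_eq_iff] at hca
  -- a conjugate `b` of `b₀` fixing the coset of `g`
  obtain ⟨cb, hcb, -⟩ := hfix b₀ (Or.inr hb₀J)
  induction cb using QuotientGroup.induction_on with
  | H g₁ =>
  rw [smul_coset_eq_iff] at hcb
  obtain ⟨a, ha_def⟩ : ∃ a : G, a = g₀⁻¹ * a₀ * g₀ := ⟨_, rfl⟩
  obtain ⟨b, hb_def⟩ : ∃ b : G, b = g * (g₁⁻¹ * b₀ * g₁) * g⁻¹ := ⟨_, rfl⟩
  have haI : a ∈ I := by
    apply hIconj a₀ ha₀I
    rw [isConj_iff]
    exact ⟨g₀⁻¹, by rw [ha_def]; group⟩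
  have hbJ : b ∈ J := by
    apply hJconj b₀ hb₀J
    rw [isConj_iff]
    exact ⟨g * g₁⁻¹, by rw [hb_def]; group⟩
  have haH : a ∈ H := by rw [ha_def]; exact hca
  have hbg : g⁻¹ * b * g ∈ H := by
    have : g⁻¹ * b * g = g₁⁻¹ * b₀ * g₁ := by rw [hb_def]; group
    rw [this]
    exact hcb
  have ha2 : a * a = 1 := hIsq a haI
  have hb2 : b * b = 1 := hJsq b hbJ
  have hai : a⁻¹ = a := inv_eq_of_mul_eq_one_left ha2
  have hbi : b⁻¹ = b := inv_eq_of_mul_eq_one_left hb2
  have hn : orderOf (a * b) ≠ 0 := (orderOf_pos (a * b)).ne'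
  have hxn : (a * b) ^ orderOf (a * b) = 1 := pow_orderOf_eq_one (a * b)
  rcases Nat.even_or_odd' (orderOf (a * b)) with ⟨m, hm | hm⟩
  · -- even order: use the central involution `u`
    have hm0 : m ≠ 0 := by
      rintro rfl
      exact hn (by simpa using hm)
    have hmlt : m < orderOf (a * b) := by omega
    obtain ⟨u, hu_def⟩ : ∃ u : G, u = (a * b) ^ m := ⟨_, rfl⟩
    have hu1 : u ≠ 1 := by rw [hu_def]; exact pow_ne_one_of_lt_orderOf hm0 hmlt
    have hu2 : u * u = 1 := by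
      rw [hu_def, ← pow_add, ← two_mul, ← hm]
      exact hxn
    have hui : u⁻¹ = u := inv_eq_of_mul_eq_one_left hu2
    obtain ⟨hau, hbu⟩ := conj_pow_invol ha2 hb2 m
    rw [← hu_def, hui] at hau hbu
    have hau' : a * u = u * a := by
      calc a * u = a * u * a⁻¹ * a := by group
        _ = u * a := by rw [hau]
    have hbu' : b * u = u * b := by
      calc b * u = b * u * b⁻¹ * b := by group
        _ = u * b := by rw [hbu]
    -- `a * u` lies in `I ∪ J`
    have hauIJ : a * u ∈ I ∪ J := by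
      rcases Nat.even_or_odd' m with ⟨k, hk | hk⟩
      · left
        apply hIconj a haI
        rw [isConj_iff]
        refine ⟨((a * b) ^ k)⁻¹, ?_⟩
        rw [inv_inv, (conj_by_pow ha2 hb2 k).1, hu_def, hk]
      · right
        apply hJconj b hbJ
        rw [isConj_iff]
        refine ⟨((a * b) ^ k)⁻¹, ?_⟩
        rw [inv_inv, (conj_by_pow ha2 hb2 k).2, hu_def, hk, pow_succ', ← mul_assoc, ← mul_assoc, ha2,
          one_mul]
    have hane : a ≠ a * u := by
      intro h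
      apply hu1
      have : a * 1 = a * u := by rw [mul_one]; exact h
      exact (mul_left_cancel this).symm
    have hcomm : a * (a * u) = (a * u) * a := by
      rw [mul_assoc, ← hau']
    -- `a * u` lies in `H`
    have hauH : a * u ∈ H := by
      obtain ⟨c₁, hc₁, -⟩ := hfix (a * u) hauIJ
      obtain ⟨c₂, -, hc₂u⟩ := hfix a (Or.inl haI)
      have h1 : a • ((1 : G) : G ⧸ H) = ((1 : G) : G ⧸ H) := by
        rw [smul_coset_eq_iff]; simpa using haH
      have h2 : a • c₁ = c₁ := by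
        obtain ⟨c₃, -, hc₃u⟩ := hfix (a * u) hauIJ
        have h3 : (a * u) • (a • c₁) = a • c₁ := by
          rw [← mul_smul, ← hcomm, mul_smul, hc₁]
        rw [hc₃u _ h3, hc₃u _ hc₁]
      have h4 : c₁ = ((1 : G) : G ⧸ H) := by rw [hc₂u _ h2, hc₂u _ h1]
      rw [h4, smul_coset_eq_iff] at hc₁
      simpa using hc₁
    have hcu := hcent a haI haH (a * u) hauIJ hauH hane hcomm
    have hau_eq : a * (a * u) = u := by rw [← mul_assoc, ha2, one_mul]
    rw [hau_eq] at hcu
    have hbH : b ∈ H := by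
      apply hcu
      rw [Subgroup.mem_centralizer_iff]
      intro y hy
      rw [Set.mem_singleton_iff] at hy
      subst hy
      exact hbu'.symm
    obtain ⟨c₂, -, hc₂u⟩ := hfix b (Or.inr hbJ)
    have h1 : b • ((1 : G) : G ⧸ H) = ((1 : G) : G ⧸ H) := by
      rw [smul_coset_eq_iff]; simpa using hbH
    have h2 : b • (g : G ⧸ H) = (g : G ⧸ H) := (smul_coset_eq_iff H b g).2 hbg
    have e3 : (g : G ⧸ H) = ((1 : G) : G ⧸ H) := by rw [hc₂u _ h1, hc₂u _ h2]
    rw [QuotientGroup.eq] at e3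
    apply hg
    have := H.inv_mem e3
    simpa using this
  · -- odd order: `a` and `b` are conjugate
    apply hdisj a haI b hbJ
    rw [isConj_iff]
    refine ⟨(a * b) ^ m, ?_⟩
    obtain ⟨h1, -⟩ := conj_pow_invol ha2 hb2 m
    have h3 : (a * b) ^ (2 * m) * (a * b) = 1 := by
      rw [← pow_succ, ← hm]; exact hxn
    have h4 : (a * b) ^ (2 * m) = b * a := by
      have := eq_inv_of_mul_eq_one_left h3
      rw [this, mul_inv_rev, hai, hbi]
    calc (a * b) ^ m * a * ((a * b) ^ m)⁻¹ = (a * b) ^ m * a * (a * (a * b) ^ m * a⁻¹) := by rw [h1]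
      _ = (a * b) ^ m * (a * a) * (a * b) ^ m * a⁻¹ := by group
      _ = (a * b) ^ (2 * m) * a := by rw [ha2, mul_one, ← pow_add, ← two_mul, hai]
      _ = b := by rw [h4, mul_assoc, ha2, mul_one]

end Cfsg.Agent.S5439
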