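import Cfsg.Statements.S5459
import Cfsg.Agent.Lib.helper92.Basic

set_option autoImplicit false
open Cfsg

namespace Cfsg.Agent.S5459

open Cfsg.Agent.Lib.helper92

open scoped commutatorElement

/-- Membership in a conjugacy class, as an explicit conjugation. -/
theorem mem_conj_iff {G : Type*} [Group G] {d a : G} :
    a ∈ conjugatesOf d ↔ ∃ c : G, c * d * c⁻¹ = a :=
  isConj_iff

/-- A conjugacy class is closed under conjugation. -/
theorem conj_mem {G : Type*} [Group G] {d a : G} (ha : a ∈ conjugatesOf d) (g : G) :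
    g * a * g⁻¹ ∈ conjugatesOf d := by
  obtain ⟨c, rfl⟩ := mem_conj_iff.1 ha
  exact mem_conj_iff.2 ⟨g * c, by group⟩

/-- Conjugation by `g` as a graph homomorphism of the commuting graph of a class. -/
def conjHom {G : Type*} [Group G] (d g : G) :
    Cfsg.commutingGraph (conjugatesOf d) →g Cfsg.commutingGraph (conjugatesOf d) where
  toFun a := ⟨g * (a : G) * g⁻¹, conj_mem a.2 g⟩
  map_rel' := by
    intro a b hab
    unfold Cfsg.commutingGraph at hab ⊢
    rw [SimpleGraph.fromRel_adj] at hab ⊢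
    obtain ⟨hne, hc⟩ := hab
    refine ⟨?_, ?_⟩
    · intro h
      apply hne
      apply Subtype.ext
      have h1 : g * (a : G) * g⁻¹ = g * (b : G) * g⁻¹ := congrArg Subtype.val h
      calc (a : G) = g⁻¹ * (g * (a : G) * g⁻¹) * g := by group
        _ = g⁻¹ * (g * (b : G) * g⁻¹) * g := by rw [h1]
        _ = (b : G) := by group
    · have key : ∀ x y : G, Commute x y → Commute (g * x * g⁻¹) (g * y * g⁻¹) := by
        intro x y hxy
        have h1 : x * y = y * x := hxy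
        show g * x * g⁻¹ * (g * y * g⁻¹) = g * y * g⁻¹ * (g * x * g⁻¹)
        calc g * x * g⁻¹ * (g * y * g⁻¹) = g * (x * y) * g⁻¹ := by group
          _ = g * (y * x) * g⁻¹ := by rw [h1]
          _ = g * y * g⁻¹ * (g * x * g⁻¹) := by group
      rcases hc with hc | hc
      · exact Or.inl (key _ _ hc)
      · exact Or.inr (key _ _ hc)

/-- Reachability in the commuting graph of a class is invariant under conjugation. -/
theorem reachable_conj {G : Type*} [Group G] (d g : G) {a b : G} (ha : a ∈ conjugatesOf d)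
    (hb : b ∈ conjugatesOf d)
    (h : (Cfsg.commutingGraph (conjugatesOf d)).Reachable ⟨a, ha⟩ ⟨b, hb⟩) :
    (Cfsg.commutingGraph (conjugatesOf d)).Reachable ⟨g * a * g⁻¹, conj_mem ha g⟩
      ⟨g * b * g⁻¹, conj_mem hb g⟩ :=
  h.map (conjHom d g)


/-- Transport of reachability along equalities of the underlying elements. -/
theorem reachable_of_eq {G : Type*} [Group G] {d a a' b b' : G} (ha : a ∈ conjugatesOf d)
    (hb : b ∈ conjugatesOf d) (ha' : a' ∈ conjugatesOf d) (hb' : b' ∈ conjugatesOf d)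
    (h1 : a = a') (h2 : b = b')
    (h : (Cfsg.commutingGraph (conjugatesOf d)).Reachable ⟨a, ha⟩ ⟨b, hb⟩) :
    (Cfsg.commutingGraph (conjugatesOf d)).Reachable ⟨a', ha'⟩ ⟨b', hb'⟩ := by
  subst h1 h2
  exact h

/-- The elements `g` such that `g d g⁻¹` is reachable from `d` in the commuting graph. -/
def stabSubgroup {G : Type*} [Group G] (d : G) : Subgroup G where
  carrier := {g | (Cfsg.commutingGraph (conjugatesOf d)).Reachable ⟨d, mem_conjugatesOf_self⟩
    ⟨g * d * g⁻¹, conj_mem mem_conjugatesOf_self g⟩}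
  one_mem' := by
    show (Cfsg.commutingGraph (conjugatesOf d)).Reachable ⟨d, mem_conjugatesOf_self⟩
      ⟨1 * d * 1⁻¹, conj_mem mem_conjugatesOf_self 1⟩
    exact reachable_of_eq mem_conjugatesOf_self mem_conjugatesOf_self _ _ rfl (by group)
      (SimpleGraph.Reachable.refl _)
  mul_mem' := by
    intro g h hg hh
    have hg' : (Cfsg.commutingGraph (conjugatesOf d)).Reachable ⟨d, mem_conjugatesOf_self⟩
      ⟨g * d * g⁻¹, conj_mem mem_conjugatesOf_self g⟩ := hg
    have hh' : (Cfsg.commutingGraph (conjugatesOf d)).Reachable ⟨d, mem_conjugatesOf_self⟩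
      ⟨h * d * h⁻¹, conj_mem mem_conjugatesOf_self h⟩ := hh
    have h1 := reachable_conj d g _ _ hh'
    show (Cfsg.commutingGraph (conjugatesOf d)).Reachable ⟨d, mem_conjugatesOf_self⟩
      ⟨g * h * d * (g * h)⁻¹, conj_mem mem_conjugatesOf_self (g * h)⟩
    exact hg'.trans (reachable_of_eq _ _ _ _ rfl (by group) h1)
  inv_mem' := by
    intro g hg
    have hg' : (Cfsg.commutingGraph (conjugatesOf d)).Reachable ⟨d, mem_conjugatesOf_self⟩
      ⟨g * d * g⁻¹, conj_mem mem_conjugatesOf_self g⟩ := hg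
    have h1 := reachable_conj d g⁻¹ _ _ hg'
    show (Cfsg.commutingGraph (conjugatesOf d)).Reachable ⟨d, mem_conjugatesOf_self⟩
      ⟨g⁻¹ * d * g⁻¹⁻¹, conj_mem mem_conjugatesOf_self g⁻¹⟩
    exact (reachable_of_eq _ _ (conj_mem mem_conjugatesOf_self g⁻¹) mem_conjugatesOf_self rfl
      (by group) h1).symm

theorem mem_stabSubgroup {G : Type*} [Group G] (d g : G) :
    g ∈ stabSubgroup d ↔ (Cfsg.commutingGraph (conjugatesOf d)).Reachable
      ⟨d, mem_conjugatesOf_self⟩ ⟨g * d * g⁻¹, conj_mem mem_conjugatesOf_self g⟩ :=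
  Iff.rfl

/-- Square roots in a subgroup of odd order. -/
theorem exists_sq_eq {G : Type*} [Group G] (Z : Subgroup G) (hodd : Odd (Nat.card Z)) :
    ∀ c ∈ Z, ∃ c' ∈ Z, c' * c' = c := by
  intro c hc
  obtain ⟨k, hk⟩ := hodd
  refine ⟨c ^ (k + 1), Z.pow_mem hc _, ?_⟩
  have h1 : (⟨c, hc⟩ : Z) ^ Nat.card Z = 1 := pow_card_eq_one'
  have h2 : c ^ Nat.card Z = 1 := by
    have h3 := congrArg Subtype.val h1
    rw [Subgroup.coe_pow, Subgroup.coe_one] at h3
    exact h3
  rw [hk] at h2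
  calc c ^ (k + 1) * c ^ (k + 1) = c ^ (2 * k + 1) * c := by
        rw [← pow_add, ← pow_succ]; congr 1; omega
    _ = c := by rw [h2, one_mul]

/-- An involution inverting the odd-order subgroup `Z` is conjugate under `Z` to each element of
its coset. -/
theorem coset_conj {G : Type*} [Group G] (Z : Subgroup G) (hodd : Odd (Nat.card Z)) {a : G}
    (haa : a * a = 1) (hinv : ∀ c ∈ Z, a * c * a⁻¹ = c⁻¹) :
    ∀ c ∈ Z, ∃ x ∈ Z, x * a * x⁻¹ = a * c := by
  intro c hc
  obtain ⟨c', hc', hcc⟩ := exists_sq_eq Z hodd c hc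
  refine ⟨c'⁻¹, Z.inv_mem hc', ?_⟩
  have hai : a⁻¹ = a := inv_eq_of_mul_eq_one_left haa
  have h1 : a * c' * a = c'⁻¹ := by
    have := hinv c' hc'
    rwa [hai] at this
  have h2 : c'⁻¹ * a = a * c' := by
    calc c'⁻¹ * a = (a * c' * a) * a := by rw [h1]
      _ = a * c' * (a * a) := by group
      _ = a * c' := by rw [haa, mul_one]
  calc c'⁻¹ * a * c'⁻¹⁻¹ = (c'⁻¹ * a) * c' := by group
    _ = a * c' * c' := by rw [h2]
    _ = a * (c' * c') := by group
    _ = a * c := by rw [hcc]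

/-- A central element can be dropped from the left entry of a commutator. -/
theorem comm_drop_left {G : Type*} [Group G] (x a b : G) (hxa : Commute x a) (hxb : Commute x b) :
    ⁅x * a, b⁆ = ⁅a, b⁆ := by
  have h : x * (a * b * a⁻¹) = (a * b * a⁻¹) * x := ((hxa.mul_right hxb).mul_right hxa.inv_right).eq
  rw [commutatorElement_def, commutatorElement_def]
  calc x * a * b * (x * a)⁻¹ * b⁻¹ = x * (a * b * a⁻¹) * x⁻¹ * b⁻¹ := by group
    _ = (a * b * a⁻¹) * x * x⁻¹ * b⁻¹ := by rw [h]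
    _ = a * b * a⁻¹ * b⁻¹ := by group

/-- A central element can be dropped from the right entry of a commutator. -/
theorem comm_drop_right {G : Type*} [Group G] (x a b : G) (hxa : Commute x a) (hxb : Commute x b) :
    ⁅a, x * b⁆ = ⁅a, b⁆ := by
  have h : x * (b * a⁻¹ * b⁻¹) = (b * a⁻¹ * b⁻¹) * x :=
    ((hxb.mul_right hxa.inv_right).mul_right hxb.inv_right).eq
  rw [commutatorElement_def, commutatorElement_def]
  calc a * (x * b) * a⁻¹ * (x * b)⁻¹ = a * (x * (b * a⁻¹ * b⁻¹)) * x⁻¹ := by group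
    _ = a * ((b * a⁻¹ * b⁻¹) * x) * x⁻¹ := by rw [h]
    _ = a * b * a⁻¹ * b⁻¹ := by group

/-- The abstract form of the statement. -/
theorem main {G : Type*} [Group G] (L Z : Subgroup G) [hn : Z.Normal] (hZL : Z ≤ L)
    (hZc : ∀ z ∈ Z, ∀ l ∈ L, z * l = l * z)
    (hperf : ∀ K : Subgroup G, (∀ l₁ ∈ L, ∀ l₂ ∈ L, ⁅l₁, l₂⁆ ∈ K) → L ≤ K)
    (d : G) (hdd : d * d = 1) (hodd : Odd (Nat.card Z))
    (hinv : ∀ c ∈ Z, d * c * d⁻¹ = c⁻¹)
    (hconn : (Cfsg.commutingGraph (conjugatesOf (QuotientGroup.mk d : G ⧸ Z))).Connected) :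
    (Cfsg.commutingGraph (conjugatesOf d)).Connected := by
  -- every conjugate of d is an involution inverting Z
  have hDsq : ∀ a ∈ conjugatesOf d, a * a = 1 := by
    intro a ha
    obtain ⟨c, rfl⟩ := mem_conj_iff.1 ha
    calc c * d * c⁻¹ * (c * d * c⁻¹) = c * (d * d) * c⁻¹ := by group
      _ = 1 := by rw [hdd]; group
  have hDinv : ∀ a ∈ conjugatesOf d, ∀ z ∈ Z, a * z * a⁻¹ = z⁻¹ := by
    intro a ha z hz
    obtain ⟨c, rfl⟩ := mem_conj_iff.1 ha
    have h1 : c⁻¹ * z * c ∈ Z := by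
      have := hn.conj_mem z hz c⁻¹
      rwa [inv_inv] at this
    have h2 := hinv _ h1
    calc c * d * c⁻¹ * z * (c * d * c⁻¹)⁻¹ = c * (d * (c⁻¹ * z * c) * d⁻¹) * c⁻¹ := by group
      _ = c * (c⁻¹ * z * c)⁻¹ * c⁻¹ := by rw [h2]
      _ = z⁻¹ := by group
  -- lifting commuting pairs
  have hlift : ∀ a ∈ conjugatesOf d, ∀ y ∈ conjugatesOf d,
      Commute (QuotientGroup.mk a : G ⧸ Z) (QuotientGroup.mk y) →
      ∃ a' ∈ conjugatesOf d, (QuotientGroup.mk a' : G ⧸ Z) = QuotientGroup.mk a ∧ Commute a' y := by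
    intro a ha y hy hc
    have hcZ : a⁻¹ * (y * a * y⁻¹) ∈ Z := by
      rw [← QuotientGroup.eq_one_iff]
      have h1 : (QuotientGroup.mk a : G ⧸ Z) * QuotientGroup.mk y
          = QuotientGroup.mk y * QuotientGroup.mk a := hc.eq
      calc ((a⁻¹ * (y * a * y⁻¹) : G) : G ⧸ Z)
          = (QuotientGroup.mk a : G ⧸ Z)⁻¹ * ((QuotientGroup.mk y : G ⧸ Z) * QuotientGroup.mk a)
            * (QuotientGroup.mk y : G ⧸ Z)⁻¹ := by
            simp only [QuotientGroup.mk_mul, QuotientGroup.mk_inv]; group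
        _ = (QuotientGroup.mk a : G ⧸ Z)⁻¹ * ((QuotientGroup.mk a : G ⧸ Z) * QuotientGroup.mk y)
            * (QuotientGroup.mk y : G ⧸ Z)⁻¹ := by rw [h1]
        _ = 1 := by group
    obtain ⟨c', hc', hcc⟩ := exists_sq_eq Z hodd _ hcZ
    obtain ⟨x, hx, hxa⟩ := coset_conj Z hodd (hDsq a ha) (hDinv a ha) c' hc'
    have ha' : a * c' ∈ conjugatesOf d := by
      rw [← hxa]; exact conj_mem ha x
    refine ⟨a * c', ha', ?_, ?_⟩
    · rw [QuotientGroup.mk_mul, (QuotientGroup.eq_one_iff c').2 hc', mul_one]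
    · have h1 : y * c' * y⁻¹ = c'⁻¹ := hDinv y hy c' hc'
      have h2 : y * a * y⁻¹ = a * (c' * c') := by
        rw [hcc]; group
      have h3 : y * (a * c') * y⁻¹ = a * c' := by
        calc y * (a * c') * y⁻¹ = (y * a * y⁻¹) * (y * c' * y⁻¹) := by group
          _ = a * (c' * c') * c'⁻¹ := by rw [h1, h2]
          _ = a * c' := by group
      show a * c' * y = y * (a * c')
      calc a * c' * y = (y * (a * c') * y⁻¹) * y := by rw [h3]
        _ = y * (a * c') := by group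
  -- lifting paths
  have hpath : ∀ (u v : conjugatesOf (QuotientGroup.mk d : G ⧸ Z)),
      (Cfsg.commutingGraph (conjugatesOf (QuotientGroup.mk d : G ⧸ Z))).Reachable u v →
      ∀ (y : G) (hy : y ∈ conjugatesOf d), (QuotientGroup.mk y : G ⧸ Z) = v.1 →
      ∃ (a : G) (ha : a ∈ conjugatesOf d), (QuotientGroup.mk a : G ⧸ Z) = u.1 ∧
        (Cfsg.commutingGraph (conjugatesOf d)).Reachable ⟨a, ha⟩ ⟨y, hy⟩ := by
    intro u v huv
    obtain ⟨p⟩ := huv
    induction p with
    | nil =>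
      intro y hy hyv
      exact ⟨y, hy, hyv, SimpleGraph.Reachable.refl _⟩
    | @cons u w v h q ih =>
      intro y hy hyv
      obtain ⟨b, hb, hbw, hreach⟩ := ih y hy hyv
      obtain ⟨cbar, hcbar⟩ := mem_conj_iff.1 u.2
      obtain ⟨c, rfl⟩ := QuotientGroup.mk_surjective cbar
      have ha₀ : c * d * c⁻¹ ∈ conjugatesOf d := conj_mem mem_conjugatesOf_self c
      have hmk : (QuotientGroup.mk (c * d * c⁻¹) : G ⧸ Z) = u.1 := by
        rw [← hcbar]; simp only [QuotientGroup.mk_mul, QuotientGroup.mk_inv]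
      unfold Cfsg.commutingGraph at h
      rw [SimpleGraph.fromRel_adj] at h
      obtain ⟨hne, hcomm⟩ := h
      have hcomm' : Commute (QuotientGroup.mk (c * d * c⁻¹) : G ⧸ Z) (QuotientGroup.mk b) := by
        rw [hmk, hbw]
        rcases hcomm with hcomm | hcomm
        · exact hcomm
        · exact hcomm.symm
      obtain ⟨a', ha', hmk', hc'⟩ := hlift _ ha₀ b hb hcomm'
      refine ⟨a', ha', hmk'.trans hmk, ?_⟩
      have hab : (Cfsg.commutingGraph (conjugatesOf d)).Reachable ⟨a', ha'⟩ ⟨b, hb⟩ := by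
        by_cases hEq : a' = b
        · exact reachable_of_eq ha' ha' ha' hb rfl hEq (SimpleGraph.Reachable.refl _)
        · apply SimpleGraph.Adj.reachable
          unfold Cfsg.commutingGraph
          rw [SimpleGraph.fromRel_adj]
          refine ⟨?_, Or.inl hc'⟩
          intro h
          exact hEq (congrArg Subtype.val h)
      exact hab.trans hreach
  -- G = Z * G₀
  have hZG₀ : ∀ g : G, ∃ x ∈ Z, x⁻¹ * g ∈ stabSubgroup d := by
    intro g
    have hy : g * d * g⁻¹ ∈ conjugatesOf d := conj_mem mem_conjugatesOf_self g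
    have hv : (QuotientGroup.mk (g * d * g⁻¹) : G ⧸ Z) ∈ conjugatesOf (QuotientGroup.mk d : G ⧸ Z) := by
      apply mem_conj_iff.2
      exact ⟨QuotientGroup.mk g, by simp only [QuotientGroup.mk_mul, QuotientGroup.mk_inv]⟩
    obtain ⟨a, ha, hmk, hreach⟩ := hpath ⟨QuotientGroup.mk d, mem_conjugatesOf_self⟩
      ⟨_, hv⟩ (hconn.preconnected _ _) (g * d * g⁻¹) hy rfl
    have hcZ : d⁻¹ * a ∈ Z := by
      have h1 : (QuotientGroup.mk d : G ⧸ Z) = QuotientGroup.mk a := hmk.symm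
      exact QuotientGroup.eq.1 h1
    obtain ⟨x, hx, hxa⟩ := coset_conj Z hodd hdd hinv _ hcZ
    refine ⟨x, hx, ?_⟩
    rw [mem_stabSubgroup]
    have h1 := reachable_conj d x⁻¹ ha hy hreach
    refine reachable_of_eq _ _ _ _ ?_ ?_ h1
    · have h2 : a = x * d * x⁻¹ := by
        rw [hxa]; group
      rw [h2]; group
    · group
  -- L ≤ G₀
  have hLG₀ : L ≤ stabSubgroup d := by
    apply hperf
    intro l₁ hl₁ l₂ hl₂
    obtain ⟨x₁, hx₁, hg₁⟩ := hZG₀ l₁
    obtain ⟨x₂, hx₂, hg₂⟩ := hZG₀ l₂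
    have hg₁L : x₁⁻¹ * l₁ ∈ L := L.mul_mem (L.inv_mem (hZL hx₁)) hl₁
    have hg₂L : x₂⁻¹ * l₂ ∈ L := L.mul_mem (L.inv_mem (hZL hx₂)) hl₂
    have e₁ : l₁ = x₁ * (x₁⁻¹ * l₁) := by group
    have e₂ : l₂ = x₂ * (x₂⁻¹ * l₂) := by group
    have h1 : ⁅l₁, l₂⁆ = ⁅x₁⁻¹ * l₁, x₂⁻¹ * l₂⁆ := by
      calc ⁅l₁, l₂⁆ = ⁅x₁ * (x₁⁻¹ * l₁), l₂⁆ := by rw [← e₁]
        _ = ⁅x₁⁻¹ * l₁, l₂⁆ := comm_drop_left _ _ _ (hZc x₁ hx₁ _ hg₁L) (hZc x₁ hx₁ _ hl₂)
        _ = ⁅x₁⁻¹ * l₁, x₂ * (x₂⁻¹ * l₂)⁆ := by rw [← e₂]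
        _ = ⁅x₁⁻¹ * l₁, x₂⁻¹ * l₂⁆ :=
          comm_drop_right _ _ _ (hZc x₂ hx₂ _ hg₁L) (hZc x₂ hx₂ _ hg₂L)
    rw [h1, commutatorElement_def]
    exact (stabSubgroup d).mul_mem ((stabSubgroup d).mul_mem ((stabSubgroup d).mul_mem hg₁ hg₂)
      ((stabSubgroup d).inv_mem hg₁)) ((stabSubgroup d).inv_mem hg₂)
  have hall : ∀ g : G, g ∈ stabSubgroup d := by
    intro g
    obtain ⟨x, hx, hg⟩ := hZG₀ g
    have h1 : g = x * (x⁻¹ * g) := by group
    rw [h1]
    exact (stabSubgroup d).mul_mem (hLG₀ (hZL hx)) hg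
  rw [SimpleGraph.connected_iff_exists_forall_reachable]
  refine ⟨⟨d, mem_conjugatesOf_self⟩, ?_⟩
  rintro ⟨a, ha⟩
  obtain ⟨c, hc⟩ := mem_conj_iff.1 ha
  have h1 := (mem_stabSubgroup d c).1 (hall c)
  exact reachable_of_eq _ _ _ _ rfl hc h1

/-- Let G be a finite group with a quasisimple normal subgroup L and an involution d such that G is generated by L and d, the centre of L has odd order, and d inverts every element of the centre of L. If the commuting graph on the conjugacy class of the image of d in G modulo the centre of L is connected, then the commuting graph on the conjugacy class of d is connected. -/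
theorem result {G : Type*} [Group G] [Finite G] (L : Subgroup G) [L.Normal] (hL : Cfsg.IsQuasisimple ↥L) (d : G) (hd : orderOf d = 2) (hgen : L ⊔ Subgroup.zpowers d = ⊤) (hodd : Odd (Nat.card ↥(Subgroup.center ↥L))) (hinv : ∀ c ∈ (Subgroup.center ↥L).map L.subtype, d * c * d⁻¹ = c⁻¹) [hn : ((Subgroup.center ↥L).map L.subtype).Normal] (hconn : (Cfsg.commutingGraph (conjugatesOf (QuotientGroup.mk d : G ⧸ (Subgroup.center ↥L).map L.subtype))).Connected) : (Cfsg.commutingGraph (conjugatesOf d)).Connected := by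
  have hdd : d * d = 1 := by
    have h := pow_orderOf_eq_one d
    rw [hd, sq] at h
    exact h
  have hodd' : Odd (Nat.card ↥((Subgroup.center ↥L).map L.subtype)) := by
    rw [Subgroup.card_map_of_injective L.subtype_injective]
    exact hodd
  refine main L ((Subgroup.center ↥L).map L.subtype) (Subgroup.map_subtype_le _) ?_ ?_ d hdd hodd'
    hinv hconn
  · intro z hz l hl
    exact (((mem_center_map_iff L z).1 hz).2 l hl).symm
  · intro K hK l hl
    have h1 : (⟨l, hl⟩ : ↥L) ∈ commutator ↥L := by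
      rw [hL.1.commutator_eq_top]; exact Subgroup.mem_top _
    have h2 : commutator ↥L ≤ K.comap L.subtype := by
      rw [commutator_eq_closure, Subgroup.closure_le]
      rintro g ⟨g₁, g₂, rfl⟩
      show L.subtype ⁅g₁, g₂⁆ ∈ K
      rw [map_commutatorElement]
      exact hK _ g₁.2 _ g₂.2
    exact h2 h1

end Cfsg.Agent.S5459
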