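import Cfsg.Statements.S5521
import Mathlib
import Cfsg.Agent.Lib.helper9.M24Order

set_option autoImplicit false
open Cfsg

namespace Cfsg.Agent.S5521

/-- The Mathieu group M₂₄ in its natural action on the 24 coordinate positions of the binary Golay code has minimal base size exactly 7: every set of at most 6 positions is fixed pointwise by some non-identity element of M₂₄, while some set of 7 positions is fixed pointwise only by the identity. -/
theorem result :
    (∀ B : Finset Cfsg.GolayPt, B.card ≤ 6 → ∃ g ∈ Cfsg.M24, g ≠ 1 ∧ ∀ b ∈ B, g b = b) ∧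
    (∃ B : Finset Cfsg.GolayPt, B.card = 7 ∧ ∀ g ∈ Cfsg.M24, (∀ b ∈ B, g b = b) → g = 1) := by
  constructor
  · intro B hB
    by_contra hcon
    push Not at hcon
    have htriv : ∀ g ∈ Cfsg.M24, (∀ b ∈ B, g b = b) → g = 1 := by
      intro g hg hfix
      by_contra hne
      obtain ⟨b, hb, hgb⟩ := hcon g hg hne
      exact hgb (hfix b hb)
    let Φ : ↥Cfsg.M24 → (↥B ↪ Cfsg.GolayPt) := fun g =>
      ⟨fun b => g.1 b.1, fun b c h => Subtype.ext (g.1.injective h)⟩
    have hΦ : Function.Injective Φ := by
      intro g h hgh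
      have h1 : ∀ b ∈ B, (h.1⁻¹ * g.1) b = b := by
        intro b hb
        have h2 : g.1 b = h.1 b := congrArg (fun e : ↥B ↪ Cfsg.GolayPt => e ⟨b, hb⟩) hgh
        rw [Equiv.Perm.mul_apply, h2]
        exact h.1.symm_apply_apply b
      have h3 := htriv _ (Cfsg.M24.mul_mem (Cfsg.M24.inv_mem h.2) g.2) h1
      apply Subtype.ext
      rw [inv_mul_eq_one] at h3
      exact h3.symm
    have hcard := Nat.card_le_card_of_injective Φ hΦ
    rw [Cfsg.Agent.Lib.helper9.card_M24, Nat.card_eq_fintype_card, Fintype.card_embedding_eq,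
      Fintype.card_coe] at hcard
    have h24 : Fintype.card Cfsg.GolayPt = 24 := by decide
    rw [h24] at hcard
    have hle : Nat.descFactorial 24 B.card ≤ 96909120 := by
      interval_cases B.card <;> decide
    omega
  · refine ⟨(Finset.range 7).image Cfsg.Agent.Lib.helper9.bp, ?_, ?_⟩
    · rw [Finset.card_image_of_injOn, Finset.card_range]
      intro i hi j hj hij
      have hi' : i < 7 := Finset.mem_range.1 hi
      have hj' : j < 7 := Finset.mem_range.1 hj
      have h1 : Cfsg.Agent.Lib.helper9.base.getD i 0 = Cfsg.Agent.Lib.helper9.base.getD j 0 := by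
        rw [← Cfsg.Agent.Lib.helper9.idx_bp i hi', ← Cfsg.Agent.Lib.helper9.idx_bp j hj', hij]
      have h2 : ∀ i < 7, ∀ j < 7,
          Cfsg.Agent.Lib.helper9.base.getD i 0 = Cfsg.Agent.Lib.helper9.base.getD j 0 → i = j := by
        decide
      exact h2 i hi' j hj' h1
    · intro g hg hfix
      apply Cfsg.Agent.Lib.helper9.stab7_trivial g
      rw [Cfsg.Agent.Lib.helper9.mem_stabL]
      refine ⟨hg, fun j hj => hfix _ ?_⟩
      exact Finset.mem_image.2 ⟨j, Finset.mem_range.2 hj, rfl⟩

end Cfsg.Agent.S5521
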