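-- Statement S5529: generation of M23 by triples of prime orders.
import Cfsg.Statements.S5529
import Cfsg.Agent.Lib.helper94.M23GenData1
import Cfsg.Agent.Lib.helper94.M23GenData2
import Cfsg.Agent.Lib.helper94.M23GenData3
import Cfsg.Agent.Lib.helper94.M23GenData4

set_option autoImplicit false
open Cfsg

namespace Cfsg.Agent.S5529

open Cfsg.Agent.Lib.helper94

/-- The generating triples, from the certificates. -/
theorem gen_of_mem (p q r : ℕ)
    (h : (p, q, r) ∈ [(2, 5, 11), (2, 5, 23), (2, 7, 7), (2, 7, 11), (2, 7, 23), (2, 11, 11), (2, 11, 23), (2, 23, 23), (3, 3, 11), (3, 3, 23), (3, 5, 5), (3, 5, 7), (3, 5, 11), (3, 5, 23), (3, 7, 7), (3, 7, 11), (3, 7, 23), (3, 11, 11), (3, 11, 23), (3, 23, 23), (5, 5, 5), (5, 5, 7), (5, 5, 11), (5, 5, 23), (5, 7, 7), (5, 7, 11), (5, 7, 23), (5, 11, 11), (5, 11, 23), (5, 23, 23), (7, 7, 7), (7, 7, 11), (7, 7, 23), (7, 11, 11), (7, 11, 23), (7, 23, 23), (11, 11, 11), (11, 11, 23), (11, 23, 23),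 (23, 23, 23)]) :
    ∃ x y z : Cfsg.Spor.M23, orderOf x = p ∧ orderOf y = q ∧ orderOf z = r ∧ x * y * z = 1 ∧
      Subgroup.closure {x, y} = ⊤ := by
  simp only [List.mem_cons, Prod.mk.injEq, List.not_mem_nil, or_false] at h
  rcases h with ⟨rfl, rfl, rfl⟩ | ⟨rfl, rfl, rfl⟩ | ⟨rfl, rfl, rfl⟩ | ⟨rfl, rfl, rfl⟩ | ⟨rfl, rfl, rfl⟩ | ⟨rfl, rfl, rfl⟩ | ⟨rfl, rfl, rfl⟩ | ⟨rfl, rfl, rfl⟩ | ⟨rfl, rfl, rfl⟩ | ⟨rfl, rfl, rfl⟩ | ⟨rfl, rfl, rfl⟩ | ⟨rfl, rfl, rfl⟩ | ⟨rfl, rfl, rfl⟩ | ⟨rfl, rfl, rfl⟩ | ⟨rfl, rfl, rfl⟩ | ⟨rfl, rfl, rfl⟩ | ⟨rfl, rfl, rfl⟩ | ⟨rfl, rfl, rfl⟩ | ⟨rfl, rfl, rfl⟩ | ⟨rfl, rfl, rfl⟩ | ⟨rfl, rfl, rfl⟩ | ⟨rfl, rfl, rfl⟩ | ⟨rfl, rfl, rfl⟩ | ⟨rfl, rfl, rfl⟩ | ⟨rfl, rfl, rfl⟩ | ⟨rfl, rfl, rfl⟩ | ⟨rfl, rfl, rfl⟩ | ⟨rfl, rfl, rfl⟩ | ⟨rfl, rfl, rfl⟩ | ⟨rfl, rfl, rfl⟩ | ⟨rfl, rfl, rfl⟩ | ⟨rfl, rfl, rfl⟩ | ⟨rfl, rfl, rfl⟩ | ⟨rfl, rfl, rfl⟩ | ⟨rfl, rfl, rfl⟩ | ⟨rfl, rfl, rfl⟩ | ⟨rfl, rfl, rfl⟩ | ⟨rfl, rfl, rfl⟩ | ⟨rfl, rfl, rfl⟩ | ⟨rfl,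 rfl, rfl⟩
  · exact triple_sound (by norm_num) (by norm_num) (by norm_num) gOK_2_5_11
  · exact triple_sound (by norm_num) (by norm_num) (by norm_num) gOK_2_5_23
  · exact triple_sound (by norm_num) (by norm_num) (by norm_num) gOK_2_7_7
  · exact triple_sound (by norm_num) (by norm_num) (by norm_num) gOK_2_7_11
  · exact triple_sound (by norm_num) (by norm_num) (by norm_num) gOK_2_7_23
  · exact triple_sound (by norm_num) (by norm_num) (by norm_num) gOK_2_11_11
  · exact triple_sound (by norm_num) (by norm_num) (by norm_num) gOK_2_11_23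
  · exact triple_sound (by norm_num) (by norm_num) (by norm_num) gOK_2_23_23
  · exact triple_sound (by norm_num) (by norm_num) (by norm_num) gOK_3_3_11
  · exact triple_sound (by norm_num) (by norm_num) (by norm_num) gOK_3_3_23
  · exact triple_sound (by norm_num) (by norm_num) (by norm_num) gOK_3_5_5
  · exact triple_sound (by norm_num) (by norm_num) (by norm_num) gOK_3_5_7
  · exact triple_sound (by norm_num) (by norm_num) (by norm_num) gOK_3_5_11
  · exact triple_sound (by norm_num) (by norm_num) (by norm_num) gOK_3_5_23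
  · exact triple_sound (by norm_num) (by norm_num) (by norm_num) gOK_3_7_7
  · exact triple_sound (by norm_num) (by norm_num) (by norm_num) gOK_3_7_11
  · exact triple_sound (by norm_num) (by norm_num) (by norm_num) gOK_3_7_23
  · exact triple_sound (by norm_num) (by norm_num) (by norm_num) gOK_3_11_11
  · exact triple_sound (by norm_num) (by norm_num) (by norm_num) gOK_3_11_23
  · exact triple_sound (by norm_num) (by norm_num) (by norm_num) gOK_3_23_23
  · exact triple_sound (by norm_num) (by norm_num) (by norm_num) gOK_5_5_5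
  · exact triple_sound (by norm_num) (by norm_num) (by norm_num) gOK_5_5_7
  · exact triple_sound (by norm_num) (by norm_num) (by norm_num) gOK_5_5_11
  · exact triple_sound (by norm_num) (by norm_num) (by norm_num) gOK_5_5_23
  · exact triple_sound (by norm_num) (by norm_num) (by norm_num) gOK_5_7_7
  · exact triple_sound (by norm_num) (by norm_num) (by norm_num) gOK_5_7_11
  · exact triple_sound (by norm_num) (by norm_num) (by norm_num) gOK_5_7_23
  · exact triple_sound (by norm_num) (by norm_num) (by norm_num) gOK_5_11_11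
  · exact triple_sound (by norm_num) (by norm_num) (by norm_num) gOK_5_11_23
  · exact triple_sound (by norm_num) (by norm_num) (by norm_num) gOK_5_23_23
  · exact triple_sound (by norm_num) (by norm_num) (by norm_num) gOK_7_7_7
  · exact triple_sound (by norm_num) (by norm_num) (by norm_num) gOK_7_7_11
  · exact triple_sound (by norm_num) (by norm_num) (by norm_num) gOK_7_7_23
  · exact triple_sound (by norm_num) (by norm_num) (by norm_num) gOK_7_11_11
  · exact triple_sound (by norm_num) (by norm_num) (by norm_num) gOK_7_11_23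
  · exact triple_sound (by norm_num) (by norm_num) (by norm_num) gOK_7_23_23
  · exact triple_sound (by norm_num) (by norm_num) (by norm_num) gOK_11_11_11
  · exact triple_sound (by norm_num) (by norm_num) (by norm_num) gOK_11_11_23
  · exact triple_sound (by norm_num) (by norm_num) (by norm_num) gOK_11_23_23
  · exact triple_sound (by norm_num) (by norm_num) (by norm_num) gOK_23_23_23

/-- The prime divisors of the order of `M23`. -/
theorem prime_dvd_order (n : ℕ) (hn : n.Prime) (hd : n ∣ 10200960) :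
    n = 2 ∨ n = 3 ∨ n = 5 ∨ n = 7 ∨ n = 11 ∨ n = 23 := by
  have h : (10200960 : ℕ) = 2 ^ 7 * 3 ^ 2 * 5 * 7 * 11 * 23 := by norm_num
  rw [h] at hd
  rcases (Nat.Prime.dvd_mul hn).mp hd with hd | hd
  · rcases (Nat.Prime.dvd_mul hn).mp hd with hd | hd
    · rcases (Nat.Prime.dvd_mul hn).mp hd with hd | hd
      · rcases (Nat.Prime.dvd_mul hn).mp hd with hd | hd
        · rcases (Nat.Prime.dvd_mul hn).mp hd with hd | hd
          · exact Or.inl ((Nat.prime_dvd_prime_iff_eq hn (by norm_num)).mp (hn.dvd_of_dvd_pow hd))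
          · exact Or.inr (Or.inl ((Nat.prime_dvd_prime_iff_eq hn (by norm_num)).mp
              (hn.dvd_of_dvd_pow hd)))
        · exact Or.inr (Or.inr (Or.inl ((Nat.prime_dvd_prime_iff_eq hn (by norm_num)).mp hd)))
      · exact Or.inr (Or.inr (Or.inr (Or.inl ((Nat.prime_dvd_prime_iff_eq hn (by norm_num)).mp hd))))
    · exact Or.inr (Or.inr (Or.inr (Or.inr (Or.inl
        ((Nat.prime_dvd_prime_iff_eq hn (by norm_num)).mp hd)))))
  · exact Or.inr (Or.inr (Or.inr (Or.inr (Or.inr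
      ((Nat.prime_dvd_prime_iff_eq hn (by norm_num)).mp hd)))))

/-- Generation of the Mathieu group M₂₃ (the stabiliser of a point in the Mathieu group M₂₄ acting on 24 points) by triples of prime orders. Let p ≤ q ≤ r be primes dividing |M₂₃| = 10200960 = 2⁷·3²·5·7·11·23, not both p and q equal to 2. Then M₂₃ contains elements x, y, z of orders p, q, r with xyz = 1 and ⟨x, y⟩ = M₂₃ if and only if (p, q, r) is none of: (2, 3, r) for any r, (2, 5, 5), (2, 5, 7), (3, 3, 3), (3, 3, 5), (3, 3, 7). -/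
theorem result (p q r : ℕ) (hp : p.Prime) (hq : q.Prime)
    (hr : r.Prime) (hpq : p ≤ q) (hqr : q ≤ r) (hp2 : ¬ (p = 2 ∧ q = 2))
    (hdvd : p ∣ 10200960 ∧ q ∣ 10200960 ∧ r ∣ 10200960) :
    (∃ x y z : Cfsg.Spor.M23, orderOf x = p ∧ orderOf y = q ∧ orderOf z = r ∧ x * y * z = 1 ∧
        Subgroup.closure {x, y} = ⊤) ↔
      ¬ ((p = 2 ∧ q = 3) ∨ (p = 2 ∧ q = 5 ∧ r = 5) ∨ (p = 2 ∧ q = 5 ∧ r = 7) ∨ (p = 3 ∧ q = 3 ∧ r ≤ 7)) := by
  constructor
  · rintro ⟨x, y, z, hx, hy, hz, hxyz, hgen⟩ hbad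
    have hR := ree_M23 x y z hxyz hgen
    have hxo : orderOf (x : Equiv.Perm GolayPt) = p := by rw [Subgroup.orderOf_coe]; exact hx
    have hyo : orderOf (y : Equiv.Perm GolayPt) = q := by rw [Subgroup.orderOf_coe]; exact hy
    have hzo : orderOf (z : Equiv.Perm GolayPt) = r := by rw [Subgroup.orderOf_coe]; exact hz
    have hz1 : 1 ≤ orderOf (z : Equiv.Perm GolayPt) := by rw [hzo]; exact hr.one_lt.le
    have hz22 := prank_le_22 z.2 hz1
    rcases hbad with ⟨rfl, rfl⟩ | ⟨rfl, rfl, rfl⟩ | ⟨rfl, rfl, rfl⟩ | ⟨rfl, rfl, hr7⟩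
    · have h1 := prank_le_of_order2 x.2 hxo
      have h2 := prank_le_of_order3 y.2 hyo
      omega
    · have h1 := prank_le_of_order2 x.2 hxo
      have h2 := prank_le_of_order5 hyo
      have h3 := prank_le_of_order5 hzo
      omega
    · have h1 := prank_le_of_order2 x.2 hxo
      have h2 := prank_le_of_order5 hyo
      have h3 := prank_le_19 z.2 hz1 (by rw [hzo])
      omega
    · have h1 := prank_le_of_order3 x.2 hxo
      have h2 := prank_le_of_order3 y.2 hyo
      have h3 := prank_le_19 z.2 hz1 (by rw [hzo]; exact hr7)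
      omega
  · intro hgood
    rcases prime_dvd_order p hp hdvd.1 with rfl | rfl | rfl | rfl | rfl | rfl <;>
    rcases prime_dvd_order q hq hdvd.2.1 with rfl | rfl | rfl | rfl | rfl | rfl <;>
    rcases prime_dvd_order r hr hdvd.2.2 with rfl | rfl | rfl | rfl | rfl | rfl <;>
    first
      | omega
      | exact absurd ⟨rfl, rfl⟩ hp2
      | exact absurd (by decide) hgood
      | exact gen_of_mem _ _ _ (by decide)

end Cfsg.Agent.S5529
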