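import Cfsg.Statements.S5541

set_option autoImplicit false
open Cfsg

namespace Cfsg.Agent.S5541

/-- Let ρ be a representation of a group H on a finite-dimensional real vector space U whose only ρ-invariant subspaces are the zero subspace and U, and suppose U carries a non-zero ρ-invariant symmetric bilinear form. Then the following are equivalent: (1) there is a non-zero ρ-equivariant commutative bilinear product on U of which every ρ-equivariant bilinear product is a scalar multiple; (2) there is a non-zero ρ-invariant trilinear form on U that is symmetric under all permutations of its arguments and of which every ρ-invariant trilinear form is a scalar multiple. -/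
theorem result {H : Type*} [Group H] {U : Type*} [AddCommGroup U] [Module ℝ U] [FiniteDimensional ℝ U] (ρ : Representation ℝ H U) (hirr : ∀ W : Submodule ℝ U, (∀ g : H, W.map (ρ g) ≤ W) → W = ⊥ ∨ W = ⊤) (B : LinearMap.BilinForm ℝ U) (hB0 : B ≠ 0) (hBs : ∀ u v, B u v = B v u) (hBi : ∀ (g : H) (u v : U), B (ρ g u) (ρ g v) = B u v) : (∃ m : U →ₗ[ℝ] U →ₗ[ℝ] U, m ≠ 0 ∧ (∀ u v, m u v = m v u) ∧ (∀ (g : H) (u v : U), m (ρ g u) (ρ g v) = ρ g (m u v)) ∧ ∀ m' : U →ₗ[ℝ] U →ₗ[ℝ] U, (∀ (g : H) (u v : U), m' (ρ g u) (ρ g v) = ρ g (m' u v)) → ∃ c : ℝ, m' = c • m) ↔ (∃ t : U →ₗ[ℝ] U →ₗ[ℝ] U →ₗ[ℝ] ℝ, t ≠ 0 ∧ (∀ u v w, t u v w = t v u w ∧ t u v w = t u w v) ∧ (∀ (g : H) (u v w : U), t (ρ g u) (ρ g v) (ρ g w) = t u v w) ∧ ∀ t' : U →ₗ[ℝ] U →ₗ[ℝ] U →ₗ[ℝ] ℝ, (∀ (g : H) (u v w : U), t' (ρ g u) (ρ g v) (ρ g w) = t' u v w) → ∃ c : ℝ, t' = c • t) := by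
  classical
  -- B is injective as a map into the dual
  have hinj : Function.Injective B := by
    rw [← LinearMap.ker_eq_bot]
    rcases hirr (LinearMap.ker B) (by
      rintro g _ ⟨u, hu, rfl⟩
      have hu : B u = 0 := LinearMap.mem_ker.mp hu
      rw [LinearMap.mem_ker]
      ext v
      have h1 := hBi g u (ρ g⁻¹ v)
      rw [Representation.self_inv_apply] at h1
      rw [h1, hu]
      rfl) with h | h
    · exact h
    · exfalso
      apply hB0
      ext u v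
      have : u ∈ LinearMap.ker B := by rw [h]; trivial
      rw [LinearMap.mem_ker] at this
      rw [this]
      rfl
  have hBext : ∀ x y : U, (∀ w, B x w = B y w) → x = y := by
    intro x y h
    apply hinj
    ext w
    exact h w
  obtain ⟨Φ, hΦ⟩ : ∃ Φ : U ≃ₗ[ℝ] Module.Dual ℝ U, ∀ u, Φ u = B u :=
    ⟨LinearMap.linearEquivOfInjective B hinj Subspace.dual_finrank_eq.symm, fun u => rfl⟩
  -- from products to trilinear forms and back
  have toT : ∀ m : U →ₗ[ℝ] U →ₗ[ℝ] U, ∃ t : U →ₗ[ℝ] U →ₗ[ℝ] U →ₗ[ℝ] ℝ,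
      ∀ u v w, t u v w = B (m u v) w := by
    intro m
    exact ⟨m.compr₂ B, fun u v w => rfl⟩
  have toM : ∀ t : U →ₗ[ℝ] U →ₗ[ℝ] U →ₗ[ℝ] ℝ, ∃ m : U →ₗ[ℝ] U →ₗ[ℝ] U,
      ∀ u v w, B (m u v) w = t u v w := by
    intro t
    refine ⟨t.compr₂ (Φ.symm : Module.Dual ℝ U →ₗ[ℝ] U), fun u v w => ?_⟩
    have h1 : (t.compr₂ (Φ.symm : Module.Dual ℝ U →ₗ[ℝ] U)) u v = Φ.symm (t u v) := rfl
    rw [h1, ← hΦ, LinearEquiv.apply_symm_apply]
  have inv_of_equiv : ∀ (m : U →ₗ[ℝ] U →ₗ[ℝ] U) (t : U →ₗ[ℝ] U →ₗ[ℝ] U →ₗ[ℝ] ℝ),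
      (∀ u v w, t u v w = B (m u v) w) →
      (∀ (g : H) (u v : U), m (ρ g u) (ρ g v) = ρ g (m u v)) →
      ∀ (g : H) (u v w : U), t (ρ g u) (ρ g v) (ρ g w) = t u v w := by
    intro m t hmt hm g u v w
    rw [hmt, hmt, hm, hBi]
  have equiv_of_inv : ∀ (m : U →ₗ[ℝ] U →ₗ[ℝ] U) (t : U →ₗ[ℝ] U →ₗ[ℝ] U →ₗ[ℝ] ℝ),
      (∀ u v w, t u v w = B (m u v) w) →
      (∀ (g : H) (u v w : U), t (ρ g u) (ρ g v) (ρ g w) = t u v w) →
      ∀ (g : H) (u v : U), m (ρ g u) (ρ g v) = ρ g (m u v) := by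
    intro m t hmt ht g u v
    apply hBext
    intro w
    have h1 := ht g u v (ρ g⁻¹ w)
    rw [Representation.self_inv_apply] at h1
    have h2 := hBi g (m u v) (ρ g⁻¹ w)
    rw [Representation.self_inv_apply] at h2
    rw [← hmt, h1, hmt, h2]
  constructor
  · rintro ⟨m, hm0, hmc, hme, hmu⟩
    obtain ⟨t, ht⟩ := toT m
    have ht0 : t ≠ 0 := by
      intro h0
      apply hm0
      ext u v
      apply hBext
      intro w
      rw [← ht, h0]
      simp
    have htinv := inv_of_equiv m t ht hme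
    have htu : ∀ t' : U →ₗ[ℝ] U →ₗ[ℝ] U →ₗ[ℝ] ℝ,
        (∀ (g : H) (u v w : U), t' (ρ g u) (ρ g v) (ρ g w) = t' u v w) → ∃ c : ℝ, t' = c • t := by
      intro t' ht'
      obtain ⟨m', hm'⟩ := toM t'
      obtain ⟨c, hc⟩ := hmu m' (equiv_of_inv m' t' (fun u v w => (hm' u v w).symm) ht')
      refine ⟨c, ?_⟩
      ext u v w
      rw [← hm', hc]
      simp [ht]
    have hsym1 : ∀ u v w, t u v w = t v u w := by
      intro u v w
      rw [ht, ht, hmc]
    -- the flipped form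
    obtain ⟨c, hc⟩ := htu (((LinearMap.lflip :
        (U →ₗ[ℝ] U →ₗ[ℝ] ℝ) ≃ₗ[ℝ] (U →ₗ[ℝ] U →ₗ[ℝ] ℝ)) :
        (U →ₗ[ℝ] U →ₗ[ℝ] ℝ) →ₗ[ℝ] (U →ₗ[ℝ] U →ₗ[ℝ] ℝ)) ∘ₗ t) (by
      intro g u v w
      exact htinv g u w v)
    have hflip : ∀ u v w, t u w v = c * t u v w := by
      intro u v w
      have := congrArg (fun f : U →ₗ[ℝ] U →ₗ[ℝ] U →ₗ[ℝ] ℝ => f u v w) hc
      simpa using this
    -- some nonzero value
    obtain ⟨u₀, v₀, w₀, hne⟩ : ∃ u v w, t u v w ≠ 0 := by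
      by_contra hall
      push Not at hall
      apply ht0
      ext u v w
      simpa using hall u v w
    have hc2 : c * c = 1 := by
      have h1 := hflip u₀ v₀ w₀
      have h2 := hflip u₀ w₀ v₀
      rw [h1] at h2
      have : (c * c - 1) * t u₀ v₀ w₀ = 0 := by linarith
      rcases mul_eq_zero.mp this with h | h
      · linarith
      · exact absurd h hne
    have hc1 : c = 1 := by
      have : (c - 1) * (c + 1) = 0 := by ring_nf; linarith
      rcases mul_eq_zero.mp this with h | h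
      · linarith
      · exfalso
        have hcm : c = -1 := by linarith
        apply hne
        have e1 : ∀ u v w, t u w v = - t u v w := by
          intro u v w; rw [hflip, hcm]; ring
        have : t u₀ v₀ w₀ = - t u₀ v₀ w₀ := by
          calc t u₀ v₀ w₀ = - t u₀ w₀ v₀ := by rw [e1 u₀ v₀ w₀, neg_neg]
            _ = - t w₀ u₀ v₀ := by rw [hsym1]
            _ = t w₀ v₀ u₀ := by rw [e1 w₀ u₀ v₀]
            _ = t v₀ w₀ u₀ := by rw [hsym1]
            _ = - t v₀ u₀ w₀ := by rw [e1 v₀ w₀ u₀, neg_neg]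
            _ = - t u₀ v₀ w₀ := by rw [hsym1]
        linarith
    refine ⟨t, ht0, fun u v w => ⟨hsym1 u v w, ?_⟩, htinv, htu⟩
    have := hflip u w v
    rw [hc1, one_mul] at this
    exact this
  · rintro ⟨t, ht0, hts, hti, htu⟩
    obtain ⟨m, hm⟩ := toM t
    refine ⟨m, ?_, ?_, equiv_of_inv m t (fun u v w => (hm u v w).symm) hti, ?_⟩
    · intro h0
      apply ht0
      ext u v w
      rw [← hm, h0]
      simp
    · intro u v
      apply hBext
      intro w
      rw [hm, hm, (hts u v w).1]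
    · intro m' hm'
      obtain ⟨t', ht'⟩ := toT m'
      obtain ⟨c, hc⟩ := htu t' (inv_of_equiv m' t' ht' hm')
      refine ⟨c, ?_⟩
      ext u v
      apply hBext
      intro w
      rw [← ht', hc]
      simp [hm]

end Cfsg.Agent.S5541
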