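import Cfsg.Statements.S5543

set_option autoImplicit false
open Cfsg

namespace Cfsg.Agent.S5543

open Cfsg.Axial

/-- fusion rule `1/4 ⋆ 1/4 = {1, 0}` unpacked -/
theorem quarter_fusion {V : Type*} [AddCommGroup V] [Module ℝ V]
    (mul : V →ₗ[ℝ] V →ₗ[ℝ] V) (B : LinearMap.BilinForm ℝ V) (μ : V ≃ₗ[ℝ] V) (a : V)
    (h : IsMajoranaPair mul B μ a) (u v : V) (hu : mul a u = (1 / 4 : ℝ) • u)
    (hv : mul a v = (1 / 4 : ℝ) • v) :
    ∃ p q : V, mul a p = p ∧ mul a q = 0 ∧ mul u v = p + q := by
  obtain ⟨-, -, ⟨⟨-, -, -, hfus⟩, -⟩, -⟩ := h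
  have h4 : (1 / 4 : ℝ) ∈ majoranaSpectrum := by
    unfold majoranaSpectrum; simp
  have := hfus (1 / 4) h4 (1 / 4) h4 u (Module.End.mem_eigenspace_iff.mpr hu) v
    (Module.End.mem_eigenspace_iff.mpr hv)
  have hlaw : monsterLaw (1 / 4 : ℝ) (1 / 32) (1 / 4) (1 / 4) = {1, 0} := by
    unfold monsterLaw
    norm_num
  rw [hlaw] at this
  unfold eigenSum at this
  rw [iSup_insert, iSup_singleton] at this
  obtain ⟨p, hp, q, hq, hpq⟩ := Submodule.mem_sup.mp this
  refine ⟨p, q, ?_, ?_, hpq.symm⟩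
  · have := Module.End.mem_eigenspace_iff.mp hp
    simpa using this
  · have := Module.End.mem_eigenspace_iff.mp hq
    simpa using this

/-- Let V be a finite-dimensional real vector space with a commutative bilinear product and a positive-definite symmetric bilinear form that associates with the product and satisfies the Norton inequality (the Majorana setting of the definitions). Let X be a group of linear automorphisms of V in which every element squares to the identity, and suppose every non-identity element x of X is a Majorana involution with an axial vector a(x) of squared length 1, such that for any two distinct non-identity x, y the product a(x) ∘ a(y) equals (1/8)(a(x) + a(y) − a(xy)) (the dihedral subalgebra of type 2A whose third axis belongs to the involution xy). Then X has order at most 4. -/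
theorem result {V : Type*} [AddCommGroup V] [Module ℝ V] [FiniteDimensional ℝ V] (mul : V →ₗ[ℝ] V →ₗ[ℝ] V) (B : LinearMap.BilinForm ℝ V) (hV : Cfsg.Axial.IsMajoranaAmbient mul B) (X : Subgroup (V ≃ₗ[ℝ] V)) (hX : ∀ x ∈ X, x * x = 1) (ax : (V ≃ₗ[ℝ] V) → V) (hax : ∀ x ∈ X, x ≠ 1 → Cfsg.Axial.IsMajoranaPair mul B x (ax x)) (h1 : ∀ x ∈ X, x ≠ 1 → B (ax x) (ax x) = 1) (h2A : ∀ x ∈ X, ∀ y ∈ X, x ≠ 1 → y ≠ 1 → x ≠ y → mul (ax x) (ax y) = (1 / 8 : ℝ) • (ax x + ax y - ax (x * y))) : Nat.card ↥X ≤ 4 := by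
  classical
  obtain ⟨hcomm, hsymm, hpos, hassoc, -⟩ := hV
  by_contra hcard
  -- any finset of size ≤ 4 misses some element of X
  have key : ∀ s : Finset (V ≃ₗ[ℝ] V), s.card ≤ 4 → ∃ z ∈ X, z ∉ s := by
    intro s hs
    by_contra hne
    push Not at hne
    apply hcard
    calc Nat.card ↥X = (X : Set (V ≃ₗ[ℝ] V)).ncard := Nat.card_coe_set_eq _
      _ ≤ (s : Set (V ≃ₗ[ℝ] V)).ncard := Set.ncard_le_ncard hne (Finset.finite_toSet s)
      _ = s.card := Set.ncard_coe_finset s
      _ ≤ 4 := hs
  -- inverses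
  have hinv : ∀ g ∈ X, g⁻¹ = g := fun g hg => inv_eq_of_mul_eq_one_left (hX g hg)
  have hcommX : ∀ g ∈ X, ∀ h ∈ X, g * h = h * g := by
    intro g hg h hh
    have h1 : (g * h) * (g * h) = 1 := hX _ (X.mul_mem hg hh)
    have h2 : g * h = (g * h)⁻¹ := (hinv _ (X.mul_mem hg hh)).symm
    rw [h2, mul_inv_rev, hinv g hg, hinv h hh]
  obtain ⟨x, hxX, hx⟩ := key {1} (by simp)
  obtain ⟨y, hyX, hy⟩ := key {1, x} (le_trans (Finset.card_le_two) (by norm_num))
  obtain ⟨z, hzX, hz⟩ := key {1, x, y, x * y} (Finset.card_le_four)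
  simp only [Finset.mem_singleton] at hx
  simp only [Finset.mem_insert, Finset.mem_singleton, not_or] at hy hz
  obtain ⟨hy1, hyx⟩ := hy
  obtain ⟨hz1, hzx, hzy, hzxy⟩ := hz
  have hxx : x * x = 1 := hX x hxX
  have hyy : y * y = 1 := hX y hyX
  have hzz : z * z = 1 := hX z hzX
  -- eigenvector lemma
  have heig : ∀ g ∈ X, g ≠ 1 → g ≠ x →
      mul (ax x) (ax g - ax (x * g)) = (1 / 4 : ℝ) • (ax g - ax (x * g)) := by
    intro g hg hg1 hgx
    have hxg1 : x * g ≠ 1 := by
      intro h
      apply hgx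
      have : g = x⁻¹ := eq_inv_of_mul_eq_one_right h
      rw [this, hinv x hxX]
    have hxxg : x ≠ x * g := by
      intro h
      apply hg1
      have : x * 1 = x * g := by rw [mul_one]; exact h
      exact (mul_left_cancel this).symm
    have e1 := h2A x hxX g hg hx hg1 (Ne.symm hgx)
    have e2 := h2A x hxX (x * g) (X.mul_mem hxX hg) hx hxg1 hxxg
    have hxxg' : x * (x * g) = g := by rw [← mul_assoc, hxx, one_mul]
    rw [hxxg'] at e2
    rw [map_sub, e1, e2]
    module
  -- inner products of distinct axes are 1/8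
  have hinner : ∀ g ∈ X, ∀ h ∈ X, g ≠ 1 → h ≠ 1 → g ≠ h → B (ax g) (ax h) = 1 / 8 := by
    intro g hg h hh hg1 hh1 hgh
    have hgg : g * g = 1 := hX g hg
    have hgh1 : g * h ≠ 1 := by
      intro e
      apply hgh
      have : h = g⁻¹ := eq_inv_of_mul_eq_one_right e
      rw [this, hinv g hg]
    have hggh : g ≠ g * h := by
      intro e
      apply hh1
      have : g * 1 = g * h := by rw [mul_one]; exact e
      exact (mul_left_cancel this).symm
    have e1 := h2A g hg h hh hg1 hh1 hgh
    have e2 := h2A g hg (g * h) (X.mul_mem hg hh) hg1 hgh1 hggh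
    have hggh' : g * (g * h) = h := by rw [← mul_assoc, hgg, one_mul]
    rw [hggh'] at e2
    have hidem : mul (ax g) (ax g) = ax g := (hax g hg hg1).2.2.1.1.2.1
    have n1 : B (ax g) (ax g) = 1 := h1 g hg hg1
    have f1 : B (ax g) (mul (ax g) (ax h)) = B (ax g) (ax h) := by
      rw [hassoc, hidem]
    have f2 : B (ax g) (mul (ax g) (ax (g * h))) = B (ax g) (ax (g * h)) := by
      rw [hassoc, hidem]
    rw [e1] at f1
    rw [e2] at f2
    simp only [map_smul, map_add, map_sub, smul_eq_mul, n1] at f1 f2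
    linarith
  -- the three 1/4-eigenvectors
  have hu := heig y hyX hy1 hyx
  have hv := heig z hzX hz1 hzx
  have hyz1 : y * z ≠ 1 := by
    intro e
    apply hzy
    have : z = y⁻¹ := eq_inv_of_mul_eq_one_right e
    rw [this, hinv y hyX]
  have hyzx : y * z ≠ x := by
    intro e
    apply hzxy
    have : z = y⁻¹ * x := by rw [← e, inv_mul_cancel_left]
    rw [this, hinv y hyX, hcommX y hyX x hxX]
  have hyzX : y * z ∈ X := X.mul_mem hyX hzX
  have hw := heig (y * z) hyzX hyz1 hyzx
  -- product of the first two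
  have hxy1 : x * y ≠ 1 := by
    intro e
    apply hyx
    have : y = x⁻¹ := eq_inv_of_mul_eq_one_right e
    rw [this, hinv x hxX]
  have hxz1 : x * z ≠ 1 := by
    intro e
    apply hzx
    have : z = x⁻¹ := eq_inv_of_mul_eq_one_right e
    rw [this, hinv x hxX]
  have hxyX : x * y ∈ X := X.mul_mem hxX hyX
  have hxzX : x * z ∈ X := X.mul_mem hxX hzX
  have p1 := h2A y hyX z hzX hy1 hz1 (Ne.symm hzy)
  have p2 := h2A y hyX (x * z) hxzX hy1 hxz1 (by
    intro e
    apply hzxy
    have : z = x⁻¹ * y := by rw [e, inv_mul_cancel_left]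
    rw [this, hinv x hxX])
  have p3 := h2A (x * y) hxyX z hzX hxy1 hz1 (Ne.symm hzxy)
  have p4 := h2A (x * y) hxyX (x * z) hxzX hxy1 hxz1 (by
    intro e
    exact hzy (mul_left_cancel e).symm)
  have q2 : y * (x * z) = x * (y * z) := by
    rw [← mul_assoc, hcommX y hyX x hxX, mul_assoc]
  have q3 : x * y * z = x * (y * z) := mul_assoc _ _ _
  have q4 : x * y * (x * z) = y * z := by
    rw [hcommX x hxX y hyX, mul_assoc, ← mul_assoc x x z, hxx, one_mul]
  rw [q2] at p2
  rw [q3] at p3
  rw [q4] at p4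
  have hprod : mul (ax y - ax (x * y)) (ax z - ax (x * z))
      = (-(1 / 4 : ℝ)) • (ax (y * z) - ax (x * (y * z))) := by
    simp only [map_sub, LinearMap.sub_apply, p1, p2, p3, p4]
    module
  obtain ⟨p, q, hp, hq, hpq⟩ := quarter_fusion mul B x (ax x) (hax x hxX hx) _ _ hu hv
  -- w' = mul u v is a 1/4-eigenvector
  have hw' : mul (ax x) (p + q) = (1 / 4 : ℝ) • (p + q) := by
    rw [← hpq, hprod, map_smul, hw, smul_comm]
  rw [map_add, hp, hq, add_zero] at hw'
  -- p = (1/4) p + (1/4) q; apply a again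
  have hp0 : p = 0 := by
    have h3 := congrArg (mul (ax x)) hw'
    rw [hp, map_smul, map_add, hp, hq, add_zero] at h3
    have : (3 / 4 : ℝ) • p = 0 := by
      have : p - (1 / 4 : ℝ) • p = 0 := sub_eq_zero.mpr h3
      rw [← this]; module
    rcases smul_eq_zero.mp this with h | h
    · norm_num at h
    · exact h
  have hq0 : q = 0 := by
    rw [hp0] at hw'
    simp only [zero_add] at hw'
    have : (1 / 4 : ℝ) • q = 0 := hw'.symm
    rcases smul_eq_zero.mp this with h | h
    · norm_num at h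
    · exact h
  have hzero : ax (y * z) - ax (x * (y * z)) = 0 := by
    have : (-(1 / 4 : ℝ)) • (ax (y * z) - ax (x * (y * z))) = 0 := by
      rw [← hprod, hpq, hp0, hq0, add_zero]
    rcases smul_eq_zero.mp this with h | h
    · norm_num at h
    · exact h
  have heq : ax (y * z) = ax (x * (y * z)) := sub_eq_zero.mp hzero
  have hxyz1 : x * (y * z) ≠ 1 := by
    intro e
    apply hyzx
    have : y * z = x⁻¹ := eq_inv_of_mul_eq_one_right e
    rw [this, hinv x hxX]
  have hne : y * z ≠ x * (y * z) := by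
    intro e
    apply hx
    have : 1 * (y * z) = x * (y * z) := by rw [one_mul]; exact e
    exact (mul_right_cancel this).symm
  have i1 := hinner (y * z) hyzX (x * (y * z)) (X.mul_mem hxX hyzX) hyz1 hxyz1 hne
  have i2 := h1 (y * z) hyzX hyz1
  rw [← heq, i2] at i1
  norm_num at i1

end Cfsg.Agent.S5543
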