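import Cfsg.Statements.S5545

set_option autoImplicit false
open Cfsg

namespace Cfsg.Agent.S5545

open Cfsg.Axial

section helpers

variable {V : Type*} [AddCommGroup V] [Module ℝ V]

/-- eigenvector membership, unfolded -/
theorem mem_eigen_iff (mul : V →ₗ[ℝ] V →ₗ[ℝ] V) (a : V) (c : ℝ) (x : V) :
    x ∈ eigen mul a c ↔ mul a x = c • x := by
  unfold eigen
  exact Module.End.mem_eigenspace_iff

/-- transport of eigenvectors along an automorphism of the product -/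
theorem eigen_transport (mul : V →ₗ[ℝ] V →ₗ[ℝ] V) (σ : V ≃ₗ[ℝ] V)
    (hσ : ∀ u v : V, σ (mul u v) = mul (σ u) (σ v)) (a : V) (c : ℝ) (x : V) :
    x ∈ eigen mul a c ↔ σ x ∈ eigen mul (σ a) c := by
  rw [mem_eigen_iff, mem_eigen_iff, ← hσ]
  constructor
  · intro h; rw [h, map_smul]
  · intro h
    apply σ.injective
    rw [h, map_smul]

theorem eigenSum_transport (mul : V →ₗ[ℝ] V →ₗ[ℝ] V) (σ : V ≃ₗ[ℝ] V)
    (hσ : ∀ u v : V, σ (mul u v) = mul (σ u) (σ v)) (a : V) (S : Set ℝ) (x : V)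
    (hx : x ∈ eigenSum mul a S) : σ x ∈ eigenSum mul (σ a) S := by
  have hle : (eigenSum mul a S).map (σ : V →ₗ[ℝ] V) ≤ eigenSum mul (σ a) S := by
    unfold eigenSum
    rw [Submodule.map_iSup]
    apply iSup_le
    intro c
    rw [Submodule.map_iSup]
    apply iSup_le
    intro hc
    refine le_trans ?_ (le_iSup₂ (f := fun c (_ : c ∈ S) => eigen mul (σ a) c) c hc)
    rintro _ ⟨y, hy, rfl⟩
    exact (eigen_transport mul σ hσ a c y).mp hy
  exact hle ⟨x, hx, rfl⟩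

theorem symm_hom (mul : V →ₗ[ℝ] V →ₗ[ℝ] V) (σ : V ≃ₗ[ℝ] V)
    (hσ : ∀ u v : V, σ (mul u v) = mul (σ u) (σ v)) :
    ∀ u v : V, σ.symm (mul u v) = mul (σ.symm u) (σ.symm v) := by
  intro u v
  apply σ.injective
  rw [hσ, LinearEquiv.apply_symm_apply, LinearEquiv.apply_symm_apply, LinearEquiv.apply_symm_apply]

/-- conjugating a Majorana pair by an automorphism commuting with the involution -/
theorem majorana_conj (mul : V →ₗ[ℝ] V →ₗ[ℝ] V) (B : LinearMap.BilinForm ℝ V) (μ : V ≃ₗ[ℝ] V)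
    (a : V) (h : IsMajoranaPair mul B μ a) (σ : V ≃ₗ[ℝ] V)
    (hσ : ∀ u v : V, σ (mul u v) = mul (σ u) (σ v)) (hcomm : ∀ v : V, σ (μ v) = μ (σ v)) :
    IsMajoranaPair mul B μ (σ a) := by
  obtain ⟨hμ1, hμ2, ⟨⟨hne, hidem, htop, hfus⟩, hprim⟩, hM1, hM2⟩ := h
  have hσ' := symm_hom mul σ hσ
  have back : ∀ (c : ℝ) (x : V), x ∈ eigen mul (σ a) c → σ.symm x ∈ eigen mul a c := by
    intro c x hx
    have := (eigen_transport mul σ.symm hσ' (σ a) c x).mp hx
    rwa [LinearEquiv.symm_apply_apply] at this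
  have backS : ∀ (S : Set ℝ) (x : V), x ∈ eigenSum mul (σ a) S → σ.symm x ∈ eigenSum mul a S := by
    intro S x hx
    have := eigenSum_transport mul σ.symm hσ' (σ a) S x hx
    rwa [LinearEquiv.symm_apply_apply] at this
  refine ⟨hμ1, hμ2, ⟨⟨?_, ?_, ?_, ?_⟩, ?_⟩, ?_, ?_⟩
  · intro h0
    apply hne
    apply σ.injective
    rw [h0, map_zero]
  · rw [← hσ, hidem]
  · rw [eq_top_iff]
    intro x _
    have h1 : σ.symm x ∈ eigenSum mul a majoranaSpectrum := by rw [htop]; trivial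
    have := eigenSum_transport mul σ hσ a _ _ h1
    rwa [LinearEquiv.apply_symm_apply] at this
  · intro c hc d hd u hu v hv
    have h1 := hfus c hc d hd _ (back c u hu) _ (back d v hv)
    have := eigenSum_transport mul σ hσ a _ _ h1
    rwa [hσ, LinearEquiv.apply_symm_apply, LinearEquiv.apply_symm_apply] at this
  · ext x
    constructor
    · intro hx
      have h1 := back 1 x hx
      rw [hprim, Submodule.mem_span_singleton] at h1
      obtain ⟨r, hr⟩ := h1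
      rw [Submodule.mem_span_singleton]
      refine ⟨r, ?_⟩
      rw [← map_smul, hr, LinearEquiv.apply_symm_apply]
    · intro hx
      rw [Submodule.mem_span_singleton] at hx
      obtain ⟨r, rfl⟩ := hx
      have h1 : r • a ∈ eigen mul a 1 := by
        rw [hprim, Submodule.mem_span_singleton]; exact ⟨r, rfl⟩
      have := (eigen_transport mul σ hσ a 1 (r • a)).mp h1
      rwa [map_smul] at this
  · intro v hv
    have h1 := hM1 _ (backS _ v hv)
    have h2 : σ ((μ : V →ₗ[ℝ] V) (σ.symm v)) = σ (σ.symm v) := by rw [h1]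
    rw [LinearEquiv.apply_symm_apply] at h2
    have h3 : σ ((μ : V →ₗ[ℝ] V) (σ.symm v)) = μ (σ (σ.symm v)) := hcomm _
    rw [LinearEquiv.apply_symm_apply] at h3
    exact h3.symm.trans h2
  · intro v hv
    have h1 := hM2 _ (back _ v hv)
    have h2 : σ ((μ : V →ₗ[ℝ] V) (σ.symm v)) = σ (-(σ.symm v)) := by rw [h1]
    rw [map_neg, LinearEquiv.apply_symm_apply] at h2
    have h3 : σ ((μ : V →ₗ[ℝ] V) (σ.symm v)) = μ (σ (σ.symm v)) := hcomm _
    rw [LinearEquiv.apply_symm_apply] at h3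
    exact h3.symm.trans h2

/-- fusion rules `1/4 ⋆ 1/4 = {1, 0}`, `0 ⋆ 1/4 = {1/4}` unpacked -/
theorem fusion_rules (mul : V →ₗ[ℝ] V →ₗ[ℝ] V) (B : LinearMap.BilinForm ℝ V) (μ : V ≃ₗ[ℝ] V) (a : V)
    (h : IsMajoranaPair mul B μ a) :
    (∀ u v : V, mul a u = (1 / 4 : ℝ) • u → mul a v = (1 / 4 : ℝ) • v →
      ∃ p q : V, mul a p = p ∧ mul a q = 0 ∧ mul u v = p + q) ∧
    (∀ u v : V, mul a u = 0 → mul a v = (1 / 4 : ℝ) • v →
      mul a (mul u v) = (1 / 4 : ℝ) • mul u v) := by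
  obtain ⟨-, -, ⟨⟨-, -, -, hfus⟩, -⟩, -⟩ := h
  have h4 : (1 / 4 : ℝ) ∈ majoranaSpectrum := by
    unfold majoranaSpectrum; simp
  have h0 : (0 : ℝ) ∈ majoranaSpectrum := by
    unfold majoranaSpectrum; simp
  constructor
  · intro u v hu hv
    have := hfus (1 / 4) h4 (1 / 4) h4 u ((mem_eigen_iff _ _ _ _).mpr hu) v
      ((mem_eigen_iff _ _ _ _).mpr hv)
    have hlaw : monsterLaw (1 / 4 : ℝ) (1 / 32) (1 / 4) (1 / 4) = {1, 0} := by
      unfold monsterLaw
      norm_num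
    rw [hlaw] at this
    unfold eigenSum at this
    rw [iSup_insert, iSup_singleton] at this
    obtain ⟨p, hp, q, hq, hpq⟩ := Submodule.mem_sup.mp this
    refine ⟨p, q, ?_, ?_, hpq.symm⟩
    · have := (mem_eigen_iff _ _ _ _).mp hp
      simpa using this
    · have := (mem_eigen_iff _ _ _ _).mp hq
      simpa using this
  · intro u v hu hv
    have hu' : u ∈ eigen mul a 0 := by
      rw [mem_eigen_iff, hu, zero_smul]
    have := hfus 0 h0 (1 / 4) h4 u hu' v ((mem_eigen_iff _ _ _ _).mpr hv)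
    have hlaw : monsterLaw (1 / 4 : ℝ) (1 / 32) 0 (1 / 4) = {1 / 4} := by
      unfold monsterLaw
      norm_num
    rw [hlaw] at this
    unfold eigenSum at this
    rw [iSup_singleton] at this
    exact (mem_eigen_iff _ _ _ _).mp this

/-- independence of the eigenspaces for 1, 0, 1/4 -/
theorem eigen_indep3 (mul : V →ₗ[ℝ] V →ₗ[ℝ] V) (a x1 x0 x4 : V) (h1 : mul a x1 = x1)
    (h0 : mul a x0 = 0) (h4 : mul a x4 = (1 / 4 : ℝ) • x4) (hs : x1 + x0 + x4 = 0) :
    x1 = 0 ∧ x0 = 0 ∧ x4 = 0 := by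
  have e1 : x1 + (1 / 4 : ℝ) • x4 = 0 := by
    have := congrArg (mul a) hs
    rw [map_add, map_add, h1, h0, h4, map_zero, add_zero] at this
    exact this
  have e2 : x1 + (1 / 16 : ℝ) • x4 = 0 := by
    have := congrArg (mul a) e1
    rw [map_add, map_smul, h1, h4, map_zero, smul_smul] at this
    norm_num at this
    exact this
  have e4 : x4 = 0 := by
    have : (3 / 16 : ℝ) • x4 = 0 := by
      linear_combination (norm := module) e1 - e2
    rcases smul_eq_zero.mp this with h | h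
    · norm_num at h
    · exact h
  have e1' : x1 = 0 := by
    rw [e4, smul_zero, add_zero] at e1
    exact e1
  refine ⟨e1', ?_, e4⟩
  rw [e1', e4, zero_add, add_zero] at hs
  exact hs

/-- decomposition of a vector fixed by the Majorana involution -/
theorem decomp (mul : V →ₗ[ℝ] V →ₗ[ℝ] V) (B : LinearMap.BilinForm ℝ V)
    (hassoc : ∀ u v w : V, B u (mul v w) = B (mul u v) w)
    (μ : V ≃ₗ[ℝ] V) (a : V) (h : IsMajoranaPair mul B μ a) (hn : B a a = 1) (b : V)
    (hb : μ b = b) :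
    ∃ b0 b4 : V, mul a b0 = 0 ∧ mul a b4 = (1 / 4 : ℝ) • b4 ∧ b = (B a b) • a + b0 + b4 := by
  obtain ⟨hμ1, hμ2, ⟨⟨hne, hidem, htop, hfus⟩, hprim⟩, hM1, hM2⟩ := h
  have hbtop : b ∈ eigenSum mul a majoranaSpectrum := by rw [htop]; trivial
  unfold eigenSum majoranaSpectrum at hbtop
  rw [iSup_insert, iSup_insert, iSup_insert, iSup_singleton] at hbtop
  obtain ⟨y1, hy1, t, ht, hb1⟩ := Submodule.mem_sup.mp hbtop
  obtain ⟨y0, hy0, t', ht', hb2⟩ := Submodule.mem_sup.mp ht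
  obtain ⟨y4, hy4, y32, hy32, hb3⟩ := Submodule.mem_sup.mp ht'
  -- the fixed part
  have hS : ∀ c ∈ ({1, 0, 1 / 4} : Set ℝ), eigen mul a c ≤ eigenSum mul a {1, 0, 1 / 4} := by
    intro c hc
    exact le_iSup₂ (f := fun c (_ : c ∈ ({1, 0, 1 / 4} : Set ℝ)) => eigen mul a c) c hc
  have hfix : y1 + y0 + y4 ∈ eigenSum mul a {1, 0, 1 / 4} := by
    apply Submodule.add_mem
    · apply Submodule.add_mem
      · exact hS 1 (by simp) hy1
      · exact hS 0 (by simp) hy0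
    · exact hS (1 / 4) (by simp) hy4
  have hμfix := hM1 _ hfix
  have hμneg := hM2 _ hy32
  have hbsum : b = (y1 + y0 + y4) + y32 := by
    rw [← hb1, ← hb2, ← hb3]; abel
  have h32 : y32 = 0 := by
    have h1 : (μ : V →ₗ[ℝ] V) b = b := hb
    rw [hbsum, map_add, hμfix, hμneg] at h1
    have : (2 : ℝ) • y32 = 0 := by
      linear_combination (norm := module) -h1
    rcases smul_eq_zero.mp this with h | h
    · norm_num at h
    · exact h
  rw [h32, add_zero] at hbsum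
  have e1 : mul a y1 = y1 := by
    have := (mem_eigen_iff _ _ _ _).mp hy1
    simpa using this
  have e0 : mul a y0 = 0 := by
    have := (mem_eigen_iff _ _ _ _).mp hy0
    simpa using this
  have e4 : mul a y4 = (1 / 4 : ℝ) • y4 := (mem_eigen_iff _ _ _ _).mp hy4
  rw [hprim, Submodule.mem_span_singleton] at hy1
  obtain ⟨s, hs⟩ := hy1
  have i0 : B a y0 = 0 := by
    have := hassoc a a y0
    rw [e0, hidem, map_zero] at this
    exact this.symm
  have i4 : B a y4 = 0 := by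
    have := hassoc a a y4
    rw [e4, hidem, map_smul, smul_eq_mul] at this
    linarith
  have hs' : B a b = s := by
    rw [hbsum, ← hs, map_add, map_add, map_smul, hn, i0, i4, smul_eq_mul]
    ring
  refine ⟨y0, y4, e0, e4, ?_⟩
  rw [hs', hs]
  exact hbsum

end helpers

/-- Let V be a finite-dimensional real vector space with a commutative bilinear product and a positive-definite symmetric bilinear form that associates with the product and satisfies the Norton inequality (the Majorana setting of the definitions). Let μ₀, μ₁ be commuting Majorana involutions with distinct axial vectors a₀ ≠ a₁ of squared length 1, each involution having no other axial vector. Then either a₀ and a₁ are orthogonal with a₀ ∘ a₁ = 0 (type 2B), or their inner product is 1/8 and, with a₂ = a₀ + a₁ − 8 a₀ ∘ a₁, the vector a₂ is an idempotent and a₀ ∘ a₂ = (1/8)(a₀ + a₂ − a₁), a₁ ∘ a₂ = (1/8)(a₁ + a₂ − a₀) (type 2A: the three idempotents span a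 subalgebra with aᵢ ∘ aⱼ = (1/8)(aᵢ + aⱼ − aₖ)). -/
theorem result {V : Type*} [AddCommGroup V] [Module ℝ V] [FiniteDimensional ℝ V] (mul : V →ₗ[ℝ] V →ₗ[ℝ] V) (B : LinearMap.BilinForm ℝ V) (hV : Cfsg.Axial.IsMajoranaAmbient mul B) (μ₀ μ₁ : V ≃ₗ[ℝ] V) (a₀ a₁ : V) (h₀ : Cfsg.Axial.IsMajoranaPair mul B μ₀ a₀) (h₁ : Cfsg.Axial.IsMajoranaPair mul B μ₁ a₁) (hu₀ : ∀ a : V, Cfsg.Axial.IsMajoranaPair mul B μ₀ a → a = a₀) (hu₁ : ∀ a : V, Cfsg.Axial.IsMajoranaPair mul B μ₁ a → a = a₁) (hn₀ : B a₀ a₀ = 1) (hn₁ : B a₁ a₁ = 1) (hc : μ₀ * μ₁ = μ₁ * μ₀) (hne : a₀ ≠ a₁) : (B a₀ a₁ = 0 ∧ mul a₀ a₁ = 0) ∨ (B a₀ a₁ = 1 / 8 ∧ mul (a₀ + a₁ - (8 : ℝ) • mul a₀ a₁) (a₀ + a₁ - (8 : ℝ) • mul a₀ a₁) = a₀ + a₁ - (8 : ℝ) • mul a₀ a₁ ∧ mul a₀ (a₀ + a₁ - (8 : ℝ) • mul a₀ a₁) = (1 / 8 : ℝ) • (a₀ + (a₀ + a₁ - (8 : ℝ) • mul a₀ a₁) - a₁) ∧ mul a₁ (a₀ + a₁ - (8 : ℝ) • mul a₀ a₁) = (1 / 8 : ℝ) • (a₁ + (a₀ + a₁ - (8 : ℝ) • mul a₀ a₁) - a₀)) := by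
  obtain ⟨hcomm, hsymm, hpos, hassoc, -⟩ := hV
  -- Step 1: each involution fixes the other axis
  have hc' : ∀ v : V, μ₁ (μ₀ v) = μ₀ (μ₁ v) := by
    intro v
    have := congrArg (fun f : V ≃ₗ[ℝ] V => f v) hc
    simpa using this.symm
  have hfix₀ : μ₁ a₀ = a₀ := hu₀ _ (majorana_conj mul B μ₀ a₀ h₀ μ₁ h₁.1 hc')
  have hfix₁ : μ₀ a₁ = a₁ := hu₁ _ (majorana_conj mul B μ₁ a₁ h₁ μ₀ h₀.1 (fun v => (hc' v).symm))
  -- Step 2: decompositions
  obtain ⟨b0, b4, hb0, hb4, hb⟩ := decomp mul B hassoc μ₀ a₀ h₀ hn₀ a₁ hfix₁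
  obtain ⟨c0, c4, hc0, hc4, hcd⟩ := decomp mul B hassoc μ₁ a₁ h₁ hn₁ a₀ hfix₀
  have hid₀ : mul a₀ a₀ = a₀ := h₀.2.2.1.1.2.1
  have hid₁ : mul a₁ a₁ = a₁ := h₁.2.2.1.1.2.1
  obtain ⟨r, hr⟩ : ∃ r : ℝ, r = B a₀ a₁ := ⟨_, rfl⟩
  have hr' : B a₁ a₀ = r := by rw [hsymm, hr]
  rw [← hr] at hb
  rw [hr'] at hcd
  -- products
  have hab : mul a₀ a₁ = r • a₀ + (1 / 4 : ℝ) • b4 := by
    nth_rewrite 1 [hb]
    rw [map_add, map_add, map_smul, hid₀, hb0, hb4]
    module
  have hba : mul a₁ a₀ = r • a₁ + (1 / 4 : ℝ) • c4 := by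
    nth_rewrite 1 [hcd]
    rw [map_add, map_add, map_smul, hid₁, hc0, hc4]
    module
  have hc4' : c4 = (4 * r) • a₀ - (4 * r) • a₁ + b4 := by
    have : mul a₀ a₁ = mul a₁ a₀ := hcomm _ _
    rw [hab, hba] at this
    linear_combination (norm := module) (-4 : ℝ) • this
  -- fusion data
  obtain ⟨fus44, fus04⟩ := fusion_rules mul B μ₀ a₀ h₀
  obtain ⟨p, q, hp, hq, hpq⟩ := fus44 b4 b4 hb4 hb4
  obtain ⟨m, hm⟩ : ∃ m : V, m = mul b0 b4 := ⟨_, rfl⟩
  have hm4 : mul a₀ m = (1 / 4 : ℝ) • m := by rw [hm]; exact fus04 b0 b4 hb0 hb4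
  have h00 : mul a₀ (mul b0 b0) = 0 := by
    have h0spec : (0 : ℝ) ∈ majoranaSpectrum := by unfold majoranaSpectrum; simp
    have hb0' : b0 ∈ eigen mul a₀ 0 := by rw [mem_eigen_iff, hb0, zero_smul]
    have := h₀.2.2.1.1.2.2.2 0 h0spec 0 h0spec b0 hb0' b0 hb0'
    have hlaw : monsterLaw (1 / 4 : ℝ) (1 / 32) 0 0 = {0} := by
      unfold monsterLaw
      norm_num
    rw [hlaw] at this
    unfold eigenSum at this
    rw [iSup_singleton] at this
    have := (mem_eigen_iff _ _ _ _).mp this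
    simpa using this
  -- flipped products
  have hb0a : mul b0 a₀ = 0 := by rw [hcomm, hb0]
  have hb4a : mul b4 a₀ = (1 / 4 : ℝ) • b4 := by rw [hcomm, hb4]
  have hb4b0 : mul b4 b0 = m := by rw [hcomm, hm]
  -- b * b = b, expanded
  have hbb : mul a₁ a₁ = (r ^ 2) • a₀ + p + (mul b0 b0 + q) + ((r / 2) • b4 + (2 : ℝ) • m) := by
    rw [hb]
    simp only [map_add, map_smul, LinearMap.add_apply, LinearMap.smul_apply, hid₀, hb0, hb4, hb0a,
      hb4a, hb4b0, ← hm, hpq]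
    module
  have hsplit : ((r ^ 2 - r) • a₀ + p) + (mul b0 b0 + q - b0) + ((r / 2 - 1) • b4 + (2 : ℝ) • m) = 0 := by
    have : mul a₁ a₁ = r • a₀ + b0 + b4 := by rw [hid₁]; exact hb
    rw [hbb] at this
    linear_combination (norm := module) this
  obtain ⟨hP, hQ, hM⟩ := eigen_indep3 mul a₀ _ _ _ (by
      rw [map_add, map_smul, hid₀, hp]) (by
      rw [map_sub, map_add, h00, hq, hb0]; simp) (by
      rw [map_add, map_smul, map_smul, hb4, hm4]; module) hsplit
  have hp' : p = (r - r ^ 2) • a₀ := by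
    linear_combination (norm := module) hP
  have hm' : m = ((1 - r / 2) / 2) • b4 := by
    linear_combination (norm := module) (1 / 2 : ℝ) • hM
  -- mul b b4 in two ways
  have hbb4 : mul a₁ b4 = (1 / 2 : ℝ) • b4 + p + q := by
    rw [hb]
    simp only [map_add, map_smul, LinearMap.add_apply, LinearMap.smul_apply, hb4, ← hm, hpq]
    rw [hm']
    module
  have hbb4' : mul a₁ b4 = (r - 4 * r ^ 2) • a₀ + (3 * r) • a₁ + (1 / 4 - r) • b4 := by
    have h1 : mul a₁ c4 = (1 / 4 : ℝ) • c4 := hc4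
    rw [hc4'] at h1
    simp only [map_add, map_sub, map_smul, hid₁, hba] at h1
    rw [hc4'] at h1
    linear_combination (norm := module) h1
  have hsplit2 : (0 : V) + (q - (3 * r) • b0) + ((1 / 4 - 2 * r) • b4) = 0 := by
    have : (1 / 2 : ℝ) • b4 + p + q = (r - 4 * r ^ 2) • a₀ + (3 * r) • a₁ + (1 / 4 - r) • b4 := by
      rw [← hbb4, hbb4']
    rw [hp', hb] at this
    linear_combination (norm := module) this
  obtain ⟨-, hQ2, hM2⟩ := eigen_indep3 mul a₀ _ _ _ (by simp) (by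
      rw [map_sub, map_smul, hq, hb0]; simp) (by
      rw [map_smul, hb4, smul_comm]) hsplit2
  have hq' : q = (3 * r) • b0 := by
    linear_combination (norm := module) hQ2
  -- norm of b4
  have hnb4 : B b4 b4 = 4 * (r - r ^ 2) := by
    have h1 := hassoc a₀ b4 b4
    have iq : B a₀ q = 0 := by
      have := hassoc a₀ a₀ q
      rw [hq, hid₀, map_zero] at this
      exact this.symm
    rw [hpq, hb4, map_add, hp', map_smul, map_smul, hn₀, iq] at h1
    simp only [smul_eq_mul, LinearMap.smul_apply] at h1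
    linarith
  rcases smul_eq_zero.mp hM2 with hcase | hcase
  · -- r = 1/8 : type 2A
    right
    have hr8 : r = 1 / 8 := by linarith
    have hc2 : a₀ + a₁ - (8 : ℝ) • mul a₀ a₁ = a₁ - (2 : ℝ) • b4 := by
      rw [hab, hr8]; module
    rw [hc2, ← hr]
    refine ⟨hr8, ?_, ?_, ?_⟩
    · simp only [map_sub, map_smul, LinearMap.sub_apply, LinearMap.smul_apply, hid₁, hbb4]
      rw [hcomm b4 a₁, hbb4, hpq]
      module
    · rw [map_sub, map_smul, hab, hb4, hr8]
      module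
    · rw [map_sub, map_smul, hid₁, hbb4, hp', hq']
      have hb' := hb
      rw [hr8] at hb' ⊢
      linear_combination (norm := module) (3 / 4 : ℝ) • hb'
  · -- b4 = 0
    rw [hcase, map_zero] at hnb4
    have hnb4' : (0 : ℝ) = 4 * (r - r ^ 2) := hnb4
    have hr01 : r = 0 ∨ r = 1 := by
      have : r * (1 - r) = 0 := by linarith
      rcases mul_eq_zero.mp this with h | h
      · left; exact h
      · right; linarith
    rcases hr01 with h0 | h1
    · left
      rw [← hr]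
      refine ⟨h0, ?_⟩
      rw [hab, h0, hcase]; simp
    · exfalso
      apply hne
      have : B (a₀ - a₁) (a₀ - a₁) = 0 := by
        simp only [map_sub, LinearMap.sub_apply, hn₀, hn₁, hr', ← hr, h1]
        norm_num
      by_contra hne'
      have := hpos (a₀ - a₁) (sub_ne_zero.mpr hne')
      linarith

end Cfsg.Agent.S5545
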