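import Cfsg.Statements.S5546
import Cfsg.Agent.Lib.helper93.LeechBasic

set_option autoImplicit false
open Cfsg

namespace Cfsg.Agent.S5546

open Cfsg.Agent.Lib.helper93

/-- the mod-13 matrix of `f` -/
def M (f : Equiv.Perm leechLattice) : Matrix GolayPt GolayPt (ZMod 13) :=
  Matrix.of fun p q => (5 : ZMod 13) * ((cf f p q : ℤ) : ZMod 13)

/-- reduction of a lattice vector mod 13 -/
def red (v : leechLattice) : GolayPt → ZMod 13 := fun p => (((v : GolayPt → ℤ) p : ℤ) : ZMod 13)

theorem M_mulVec_red (f : Equiv.Perm leechLattice) (hf : f ∈ Co0) (v : leechLattice) :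
    (M f).mulVec (red v) = red (f v) := by
  funext p
  have h := eight_mul_apply f hf v p
  have h' := congrArg (fun z : ℤ => (z : ZMod 13)) h
  simp only [Int.cast_mul, Int.cast_sum] at h'
  unfold Matrix.mulVec dotProduct M red
  simp only [Matrix.of_apply]
  have h5 : (5 : ZMod 13) * ((8 : ℤ) : ZMod 13) = 1 := by decide
  calc ∑ q, (5 : ZMod 13) * ((cf f p q : ℤ) : ZMod 13) * (((v : GolayPt → ℤ) q : ℤ) : ZMod 13)
      = 5 * ∑ q, (((v : GolayPt → ℤ) q : ℤ) : ZMod 13) * ((cf f p q : ℤ) : ZMod 13) := by
        rw [Finset.mul_sum]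
        apply Finset.sum_congr rfl
        intro q _
        ring
    _ = 5 * (((8 : ℤ) : ZMod 13) * ((((f v : leechLattice) : GolayPt → ℤ) p : ℤ) : ZMod 13)) := by
        rw [← h']
    _ = ((((f v : leechLattice) : GolayPt → ℤ) p : ℤ) : ZMod 13) := by
        rw [← mul_assoc, h5, one_mul]

theorem M_mul (f g : Equiv.Perm leechLattice) (hf : f ∈ Co0) : M (f * g) = M f * M g := by
  ext p k
  have h := congrFun (M_mulVec_red f hf (g (E k))) p
  unfold Matrix.mulVec dotProduct at h
  rw [Matrix.mul_apply]
  unfold M at h ⊢
  simp only [Matrix.of_apply] at h ⊢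
  unfold red at h
  calc (5 : ZMod 13) * ((cf (f * g) p k : ℤ) : ZMod 13)
      = 5 * ((((f (g (E k)) : leechLattice) : GolayPt → ℤ) p : ℤ) : ZMod 13) := rfl
    _ = 5 * ∑ q, (5 : ZMod 13) * ((cf f p q : ℤ) : ZMod 13) *
          ((((g (E k) : leechLattice) : GolayPt → ℤ) q : ℤ) : ZMod 13) := by rw [h]
    _ = ∑ q, (5 : ZMod 13) * ((cf f p q : ℤ) : ZMod 13) * (5 * ((cf g q k : ℤ) : ZMod 13)) := by
        rw [Finset.mul_sum]
        apply Finset.sum_congr rfl
        intro q _
        unfold cf
        ring

theorem M_one : M 1 = 1 := by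
  ext p q
  unfold M cf
  simp only [Matrix.of_apply, Equiv.Perm.coe_one, id_eq, E_apply, Matrix.one_apply]
  by_cases hpq : p = q
  · rw [if_pos hpq, if_pos hpq]; decide
  · rw [if_neg hpq, if_neg hpq]; simp

theorem M_orth (f : Equiv.Perm leechLattice) (hf : f ∈ Co0) : (M f).transpose * M f = 1 := by
  ext j k
  rw [Matrix.mul_apply]
  have h := dotInt_map f hf (E j) (E k)
  rw [dotInt_E] at h
  have h' := congrArg (fun z : ℤ => (z : ZMod 13)) h
  unfold dotInt at h'
  simp only [Int.cast_sum, Int.cast_mul] at h'
  unfold M
  simp only [Matrix.transpose_apply, Matrix.of_apply, Matrix.one_apply]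
  calc ∑ p, (5 : ZMod 13) * ((cf f p j : ℤ) : ZMod 13) * (5 * ((cf f p k : ℤ) : ZMod 13))
      = 25 * ∑ p, ((cf f p j : ℤ) : ZMod 13) * ((cf f p k : ℤ) : ZMod 13) := by
        rw [Finset.mul_sum]
        apply Finset.sum_congr rfl
        intro p _
        ring
    _ = 25 * (((if j = k then (64 : ℤ) else 0 : ℤ)) : ZMod 13) := by
        unfold cf
        rw [h']
    _ = if j = k then 1 else 0 := by
        by_cases hjk : j = k
        · rw [if_pos hjk, if_pos hjk]; decide
        · rw [if_neg hjk, if_neg hjk]; simp

/-- the vector `u / 4` mod 13 restricted to the residues: 1 at 0, 0 elsewhere -/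
def cvec (i : ZMod 23) : ZMod 13 := if i = 0 then 1 else 0

/-- the induced matrix on the quotient by the fixed vector -/
def N (A : Matrix GolayPt GolayPt (ZMod 13)) : Matrix (ZMod 23) (ZMod 23) (ZMod 13) :=
  Matrix.of fun i j => A (some i) (some j) - cvec i * A none (some j)

theorem sum_cvec (g : ZMod 23 → ZMod 13) : ∑ j, cvec j * g j = g 0 := by
  unfold cvec
  simp only [ite_mul, one_mul, zero_mul]
  rw [Finset.sum_ite_eq' Finset.univ (0 : ZMod 23) g]
  simp

theorem N_mul (A A' : Matrix GolayPt GolayPt (ZMod 13))
    (h1 : ∀ i, A (some i) none + A (some i) (some 0) = cvec i)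
    (h2 : A none none + A none (some 0) = 1) : N (A * A') = N A * N A' := by
  ext i k
  unfold N
  simp only [Matrix.of_apply, Matrix.mul_apply, Fintype.sum_option]
  have e1 : ∑ j, (A (some i) (some j) - cvec i * A none (some j)) *
        (A' (some j) (some k) - cvec j * A' none (some k))
      = ∑ j, A (some i) (some j) * A' (some j) (some k)
        - cvec i * ∑ j, A none (some j) * A' (some j) (some k)
        - A' none (some k) * ∑ j, cvec j * A (some i) (some j)
        + cvec i * A' none (some k) * ∑ j, cvec j * A none (some j) := by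
    simp only [Finset.mul_sum, ← Finset.sum_sub_distrib, ← Finset.sum_add_distrib]
    apply Finset.sum_congr rfl
    intro j _
    ring
  rw [e1, sum_cvec, sum_cvec]
  have h1' := h1 i
  linear_combination (A' none (some k)) * h1' - (cvec i * A' none (some k)) * h2

theorem N_one : N 1 = 1 := by
  ext i j
  unfold N
  simp only [Matrix.of_apply, Matrix.one_apply, Option.some.injEq, reduceCtorEq, if_false,
    mul_zero, sub_zero]

theorem eq_one_of_N (A : Matrix GolayPt GolayPt (ZMod 13))
    (h1 : ∀ i, A (some i) none + A (some i) (some 0) = cvec i)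
    (h2 : A none none + A none (some 0) = 1) (horth : A.transpose * A = 1) (hN : N A = 1) :
    A = 1 := by
  -- the fixed vector
  obtain ⟨w, hw⟩ : ∃ w : GolayPt → ZMod 13, w = fun q => match q with
      | none => 1
      | some i => cvec i := ⟨_, rfl⟩
  have hwn : w none = 1 := by rw [hw]
  have hws : ∀ i, w (some i) = cvec i := by intro i; rw [hw]
  have hAw : A.mulVec w = w := by
    funext q
    unfold Matrix.mulVec dotProduct
    rw [Fintype.sum_option]
    simp only [hwn, hws, mul_one]
    have : ∑ j, A q (some j) * cvec j = A q (some 0) := by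
      rw [← sum_cvec (fun j => A q (some j))]
      apply Finset.sum_congr rfl
      intro j _
      ring
    rw [this]
    cases q with
    | none => rw [h2, hwn]
    | some i => rw [h1 i, hws]
  have hAtw : A.transpose.mulVec w = w := by
    have : A.transpose.mulVec (A.mulVec w) = w := by
      rw [Matrix.mulVec_mulVec, horth, Matrix.one_mulVec]
    rw [hAw] at this
    exact this
  -- (h3): A none r + A (some 0) r = w r
  have h3 : ∀ r, A none r + A (some 0) r = w r := by
    intro r
    have := congrFun hAtw r
    unfold Matrix.mulVec dotProduct at this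
    rw [Fintype.sum_option] at this
    simp only [Matrix.transpose_apply, hwn, hws, mul_one] at this
    have e : ∑ j, A (some j) r * cvec j = A (some 0) r := by
      rw [← sum_cvec (fun j => A (some j) r)]
      apply Finset.sum_congr rfl
      intro j _
      ring
    rw [e] at this
    exact this
  have hNij : ∀ i j, A (some i) (some j) - cvec i * A none (some j) = if i = j then 1 else 0 := by
    intro i j
    have := congrFun (congrFun hN i) j
    unfold N at this
    simpa [Matrix.one_apply] using this
  have hnone : ∀ j, A none (some j) = 0 := by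
    intro j
    have e1 := h3 (some j)
    have e2 := hNij 0 j
    rw [hws] at e1
    have c0 : cvec 0 = 1 := by unfold cvec; simp
    rw [c0, one_mul] at e2
    have e3 : (if (0 : ZMod 23) = j then (1 : ZMod 13) else 0) = cvec j := by
      unfold cvec
      by_cases hj : j = 0
      · rw [if_pos hj, if_pos hj.symm]
      · rw [if_neg hj, if_neg (Ne.symm hj)]
    rw [e3] at e2
    have : (2 : ZMod 13) * A none (some j) = 0 := by linear_combination e1 - e2
    have h7 : (7 : ZMod 13) * 2 = 1 := by decide
    calc A none (some j) = (7 * 2) * A none (some j) := by rw [h7, one_mul]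
      _ = 7 * (2 * A none (some j)) := by ring
      _ = 0 := by rw [this, mul_zero]
  ext p q
  rw [Matrix.one_apply]
  cases p with
  | none =>
    cases q with
    | none =>
      have := h2
      rw [hnone 0, add_zero] at this
      simpa using this
    | some j => simpa using hnone j
  | some i =>
    cases q with
    | none =>
      have e1 := h1 i
      have e2 := hNij i 0
      rw [hnone 0, mul_zero, sub_zero] at e2
      rw [e2] at e1
      have : A (some i) none = cvec i - if i = 0 then 1 else 0 := by linear_combination e1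
      rw [this]
      unfold cvec
      simp
    | some j =>
      have e2 := hNij i j
      rw [hnone j, mul_zero, sub_zero] at e2
      simpa using e2

/-- the fixed-vector conditions, for a matrix fixing the vector `(4, 4, 0, ...)` -/
theorem fix_of_mulVec (A : Matrix GolayPt GolayPt (ZMod 13)) (w : GolayPt → ZMod 13)
    (hw : ∀ q, w q = if q = none ∨ q = some 0 then 4 else 0) (h : A.mulVec w = w) :
    (∀ i, A (some i) none + A (some i) (some 0) = cvec i) ∧
      A none none + A none (some 0) = 1 := by
  have key : ∀ q, 4 * (A q none + A q (some 0)) = w q := by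
    intro q
    have := congrFun h q
    unfold Matrix.mulVec dotProduct at this
    rw [Fintype.sum_option] at this
    have e : ∑ j : ZMod 23, A q (some j) * w (some j) = A q (some 0) * 4 := by
      have : ∀ j : ZMod 23, A q (some j) * w (some j) = if j = 0 then A q (some j) * 4 else 0 := by
        intro j
        rw [hw]
        simp only [reduceCtorEq, false_or, Option.some.injEq]
        split_ifs <;> simp
      simp only [this]
      rw [Finset.sum_ite_eq' Finset.univ (0 : ZMod 23) (fun j => A q (some j) * 4)]
      simp
    rw [e] at this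
    have hn : w none = 4 := by rw [hw]; simp
    rw [hn] at this
    linear_combination this
  have h10 : (10 : ZMod 13) * 4 = 1 := by decide
  constructor
  · intro i
    have := key (some i)
    rw [hw] at this
    simp only [reduceCtorEq, false_or, Option.some.injEq] at this
    unfold cvec
    calc A (some i) none + A (some i) (some 0)
        = (10 * 4) * (A (some i) none + A (some i) (some 0)) := by rw [h10, one_mul]
      _ = 10 * (4 * (A (some i) none + A (some i) (some 0))) := by ring
      _ = 10 * (if i = 0 then 4 else 0) := by rw [this]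
      _ = if i = 0 then 1 else 0 := by
          split_ifs
          · exact h10
          · simp
  · have := key none
    rw [hw] at this
    simp only [true_or, if_true] at this
    calc A none none + A none (some 0)
        = (10 * 4) * (A none none + A none (some 0)) := by rw [h10, one_mul]
      _ = 10 * (4 * (A none none + A none (some 0))) := by ring
      _ = 10 * 4 := by rw [this]
      _ = 1 := h10

/-- the fixed-vector conditions for elements of `Co2` -/
theorem M_fix (f : Equiv.Perm leechLattice) (hf : f ∈ Spor.Co2) :
    (∀ i, M f (some i) none + M f (some i) (some 0) = cvec i) ∧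
      M f none none + M f none (some 0) = 1 := by
  have hf0 : f ∈ Co0 := hf.1
  have hfu : f Spor.leechU = Spor.leechU := hf.2
  have h := M_mulVec_red f hf0 Spor.leechU
  rw [hfu] at h
  refine fix_of_mulVec (M f) (red Spor.leechU) ?_ h
  intro q
  unfold red Spor.leechU Spor.vecU
  simp only
  split_ifs <;> simp

/-- if the mod-13 matrix of `f ∈ Co0` is the identity then `f` is the identity -/
theorem eq_one_of_M (f : Equiv.Perm leechLattice) (hf : f ∈ Co0) (h : M f = 1) : f = 1 := by
  have hmod : ∀ p q, ((cf f p q : ℤ) : ZMod 13) = if p = q then 8 else 0 := by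
    intro p q
    have h1 := congrFun (congrFun h p) q
    unfold M at h1
    simp only [Matrix.of_apply, Matrix.one_apply] at h1
    have h8 : (8 : ZMod 13) * 5 = 1 := by decide
    calc ((cf f p q : ℤ) : ZMod 13) = (8 * 5) * ((cf f p q : ℤ) : ZMod 13) := by rw [h8, one_mul]
      _ = 8 * (5 * ((cf f p q : ℤ) : ZMod 13)) := by ring
      _ = 8 * (if p = q then 1 else 0) := by rw [h1]
      _ = if p = q then 8 else 0 := by split_ifs <;> simp
  have hsq : ∀ q, ∑ p, (cf f p q) ^ 2 = 64 := by
    intro q
    have h1 := hf.2 (E q)
    rw [sqNorm_E] at h1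
    exact h1
  have hoff : ∀ p q, p ≠ q → cf f p q = 0 := by
    intro p q hpq
    have h1 := hmod p q
    rw [if_neg hpq] at h1
    have h2 : ((13 : ℕ) : ℤ) ∣ cf f p q := (ZMod.intCast_zmod_eq_zero_iff_dvd _ 13).mp h1
    have h3 : (cf f p q) ^ 2 ≤ 64 := by
      rw [← hsq q]
      exact Finset.single_le_sum (f := fun p => (cf f p q) ^ 2) (fun i _ => sq_nonneg _)
        (Finset.mem_univ p)
    obtain ⟨k, hk⟩ := h2
    rw [hk] at h3 ⊢
    have hk0 : k = 0 := by
      by_contra hne
      have : 1 ≤ k ^ 2 := by
        have := sq_nonneg k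
        have h0 : k ^ 2 ≠ 0 := by positivity
        omega
      push_cast at h3
      nlinarith
    rw [hk0, mul_zero]
  have hdiag : ∀ q, cf f q q = 8 := by
    intro q
    have h1 := hmod q q
    rw [if_pos rfl] at h1
    have h2 : ((13 : ℕ) : ℤ) ∣ 8 - cf f q q := by
      have : ((cf f q q : ℤ) : ZMod 13) = ((8 : ℤ) : ZMod 13) := by rw [h1]; rfl
      exact (ZMod.intCast_eq_intCast_iff_dvd_sub _ _ 13).mp this
    have h3 : (cf f q q) ^ 2 = 64 := by
      rw [← hsq q]
      symm
      apply Finset.sum_eq_single q
      · intro p _ hp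
        rw [hoff p q hp]
        rfl
      · intro hq
        exact absurd (Finset.mem_univ q) hq
    obtain ⟨k, hk⟩ := h2
    have h4 : cf f q q = 8 ∨ cf f q q = -8 := by
      have : (cf f q q - 8) * (cf f q q + 8) = 0 := by ring_nf; linarith
      rcases mul_eq_zero.mp this with h | h
      · left; linarith
      · right; linarith
    rcases h4 with h | h
    · exact h
    · exfalso
      rw [h] at hk
      push_cast at hk
      omega
  apply eq_one_of_fix_E f hf
  intro q
  apply Subtype.ext
  funext p
  change cf f p q = _
  rw [E_apply]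
  by_cases hpq : p = q
  · rw [if_pos hpq, hpq, hdiag]
  · rw [if_neg hpq, hoff p q hpq]

/-- the homomorphism into 23 × 23 matrices indexed by the residues mod 23 -/
def psi0 : ↥Spor.Co2 →* Matrix (ZMod 23) (ZMod 23) (ZMod 13) where
  toFun f := N (M f.1)
  map_one' := by
    rw [show ((1 : ↥Spor.Co2) : Equiv.Perm leechLattice) = 1 from rfl, M_one, N_one]
  map_mul' f g := by
    rw [show ((f * g : ↥Spor.Co2) : Equiv.Perm leechLattice) = f.1 * g.1 from rfl,
      M_mul _ _ f.2.1]
    exact N_mul _ _ (M_fix f.1 f.2).1 (M_fix f.1 f.2).2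

theorem psi0_apply (f : ↥Spor.Co2) : psi0 f = N (M f.1) := rfl

/-- The second Conway group (the stabilizer in the Leech lattice automorphism group of the short vector fixed in the definitions) is isomorphic to a subgroup of the general linear group of degree 23 over the field with 13 elements: there is an injective homomorphism into it. -/
theorem result : ∃ f : ↥Cfsg.Spor.Co2 →* GL (Fin 23) (ZMod 13), Function.Injective f := by
  obtain ⟨R, -⟩ : ∃ R : Matrix (ZMod 23) (ZMod 23) (ZMod 13) ≃+* Matrix (Fin 23) (Fin 23) (ZMod 13),
      True := ⟨Matrix.reindexRingEquiv (ZMod 13) (ZMod.finEquiv 23).symm.toEquiv, trivial⟩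
  refine ⟨(Units.map (R : Matrix (ZMod 23) (ZMod 23) (ZMod 13) →* Matrix (Fin 23) (Fin 23) (ZMod 13))).comp
    psi0.toHomUnits, ?_⟩
  rw [injective_iff_map_eq_one]
  intro f hf
  have h1 : R (psi0 f) = 1 := by
    have := congrArg (fun u : GL (Fin 23) (ZMod 13) => (u : Matrix (Fin 23) (Fin 23) (ZMod 13))) hf
    exact this
  have h3 : psi0 f = 1 := by
    apply R.injective
    rw [h1, map_one]
  rw [psi0_apply] at h3
  have h4 : M f.1 = 1 :=
    eq_one_of_N _ (M_fix f.1 f.2).1 (M_fix f.1 f.2).2 (M_orth f.1 f.2.1) h3
  exact Subtype.ext (eq_one_of_M f.1 f.2.1 h4)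

end Cfsg.Agent.S5546
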