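import Cfsg.Statements.S5562

set_option autoImplicit false
open Cfsg

namespace Cfsg.Agent.S5562

/-- Let G be a finite group, d an involution of G whose conjugates pairwise have products of odd order, and x any involution of G. Then the conjugacy class of d is the disjoint union, over the conjugates a of d commuting with x, of the sets of conjugates of d commuting with ax: every conjugate of d commutes with ax for exactly one conjugate a of d that commutes with x. -/
theorem result {G : Type*} [Group G] [Finite G] (d : G) (hd : orderOf d = 2)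
    (hodd : ∀ a ∈ conjugatesOf d, ∀ b ∈ conjugatesOf d, Odd (orderOf (a * b)))
    (x : G) (hx : orderOf x = 2) :
    ∀ e ∈ conjugatesOf d,
      ∃! a : G, a ∈ conjugatesOf d ∧ Commute a x ∧ Commute e (a * x) := by
  intro e he
  have hx2 : x * x = 1 := by rw [← pow_two, ← hx, pow_orderOf_eq_one]
  have hd2 : d * d = 1 := by rw [← pow_two, ← hd, pow_orderOf_eq_one]
  have hxinv : x⁻¹ = x := inv_eq_of_mul_eq_one_left hx2
  -- conjugation preserves the class
  have hconj : ∀ b ∈ conjugatesOf d, ∀ c : G, c * b * c⁻¹ ∈ conjugatesOf d := by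
    intro b hb c
    change IsConj d b at hb
    change IsConj d _
    exact hb.trans (isConj_iff.mpr ⟨c, rfl⟩)
  -- every conjugate is an involution
  have hinv : ∀ b ∈ conjugatesOf d, b * b = 1 := by
    intro b hb
    change IsConj d b at hb
    obtain ⟨c, hc⟩ := isConj_iff.mp hb
    rw [← hc]
    calc c * d * c⁻¹ * (c * d * c⁻¹) = c * (d * d) * c⁻¹ := by group
      _ = 1 := by rw [hd2]; group
  have hinv' : ∀ b ∈ conjugatesOf d, b⁻¹ = b := fun b hb => inv_eq_of_mul_eq_one_left (hinv b hb)
  have he2 : e * e = 1 := hinv e he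
  have heinv : e⁻¹ = e := hinv' e he
  have he2' : ∀ y : G, e * (e * y) = y := fun y => by rw [← mul_assoc, he2, one_mul]
  have hx2' : ∀ y : G, x * (x * y) = y := fun y => by rw [← mul_assoc, hx2, one_mul]
  -- f = x e x
  obtain ⟨f, hf⟩ : ∃ f, f = x * e * x := ⟨_, rfl⟩
  have hfD : f ∈ conjugatesOf d := by
    have := hconj e he x
    rwa [hxinv, ← hf] at this
  have hf2 : f * f = 1 := hinv f hfD
  have hfinv : f⁻¹ = f := hinv' f hfD
  obtain ⟨u, hu⟩ : ∃ u, u = e * f := ⟨_, rfl⟩
  have hu_odd : Odd (orderOf u) := by rw [hu]; exact hodd e he f hfD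
  obtain ⟨k, hk⟩ := hu_odd
  have hupow : u ^ (2 * k + 1) = 1 := by rw [← hk, pow_orderOf_eq_one]
  have huinv : u⁻¹ = f * e := by rw [hu, mul_inv_rev, heinv, hfinv]
  -- e u = u⁻¹ e, x u = u⁻¹ x
  have heu : e * u = u⁻¹ * e := by
    rw [huinv, hu, he2', mul_assoc, he2, mul_one]
  have hxu : x * u = u⁻¹ * x := by
    rw [huinv, hu, hf]
    simp only [mul_assoc, hx2', hx2, mul_one]
  -- powers
  have hepow : ∀ n : ℕ, e * u ^ n = (u ^ n)⁻¹ * e := by
    intro n
    induction n with
    | zero => simp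
    | succ n ih =>
      rw [pow_succ, ← mul_assoc, ih, mul_assoc, heu, ← mul_assoc, ← mul_inv_rev, ← pow_succ',
        pow_succ]
  have hxpow : ∀ n : ℕ, x * u ^ n = (u ^ n)⁻¹ * x := by
    intro n
    induction n with
    | zero => simp
    | succ n ih =>
      rw [pow_succ, ← mul_assoc, ih, mul_assoc, hxu, ← mul_assoc, ← mul_inv_rev, ← pow_succ',
        pow_succ]
  -- v = u^(k+1), v * v = u
  obtain ⟨v, hv⟩ : ∃ v, v = u ^ (k + 1) := ⟨_, rfl⟩
  have hvv : v * v = u := by
    rw [hv, ← pow_add]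
    have : k + 1 + (k + 1) = (2 * k + 1) + 1 := by ring
    rw [this, pow_succ, hupow, one_mul]
  have hev : e * v = v⁻¹ * e := by rw [hv]; exact hepow _
  have hxv : x * v = v⁻¹ * x := by rw [hv]; exact hxpow _
  have hev' : e * v⁻¹ = v * e := by
    have : v * e = v * (e * v) * v⁻¹ := by group
    rw [this, hev]; group
  have hxv' : x * v⁻¹ = v * x := by
    have : v * x = v * (x * v) * v⁻¹ := by group
    rw [this, hxv]; group
  -- z = u ^ ((k+1)*(k+1)), z * z = v
  obtain ⟨z, hz⟩ : ∃ z, z = u ^ ((k + 1) * (k + 1)) := ⟨_, rfl⟩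
  have hzz : z * z = v := by
    rw [hz, hv, ← pow_add]
    have : (k + 1) * (k + 1) + (k + 1) * (k + 1) = (2 * k + 1) * (k + 1) + (k + 1) := by ring
    rw [this, pow_add, pow_mul, hupow, one_pow, one_mul]
  have hez : e * z = z⁻¹ * e := by rw [hz]; exact hepow _
  -- the element a
  obtain ⟨a, ha⟩ : ∃ a, a = v⁻¹ * e := ⟨_, rfl⟩
  have haD : a ∈ conjugatesOf d := by
    have h1 := hconj e he z⁻¹
    have h2 : z⁻¹ * e * z⁻¹⁻¹ = a := by
      rw [ha, ← hzz, inv_inv, mul_assoc, hez, mul_inv_rev, mul_assoc]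
    rwa [h2] at h1
  have ha2 : a * a = 1 := hinv a haD
  have hainv : a⁻¹ = a := hinv' a haD
  -- f = v⁻¹ * v⁻¹ * e
  have hfv : f = v⁻¹ * v⁻¹ * e := by
    have : f = u⁻¹ * e := by
      rw [huinv, mul_assoc, he2, mul_one]
    rw [this, ← hvv, mul_inv_rev]
  have hxe : x * e = f * x := by
    rw [hf, mul_assoc, mul_assoc, hx2, mul_one]
  have hax : Commute a x := by
    change a * x = x * a
    calc a * x = v⁻¹ * e * x := by rw [ha]
      _ = v * (v⁻¹ * v⁻¹ * e) * x := by group
      _ = v * f * x := by rw [← hfv]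
      _ = v * (x * e) := by rw [hxe]; group
      _ = (x * v⁻¹) * e := by rw [hxv']; group
      _ = x * a := by rw [ha]; group
  have hafa : a * f * a = e := by
    rw [ha, hfv]
    have r1 : ∀ y : G, e * (v⁻¹ * y) = v * (e * y) := fun y => by
      rw [← mul_assoc, hev', mul_assoc]
    simp only [mul_assoc, r1, he2, mul_one, inv_mul_cancel_left, mul_inv_cancel_left]
  have haxe : Commute e (a * x) := by
    change e * (a * x) = a * x * e
    have h1 : e = a * f * a := hafa.symm
    have h2 : a * x * e = a * f * x := by rw [mul_assoc, hxe, ← mul_assoc]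
    rw [h2]
    have h3 : a * f = e * a := by
      have : a * f = (a * f * a) * a := by rw [mul_assoc, ha2, mul_one]
      rw [this, hafa]
    rw [h3, mul_assoc]
  refine ⟨a, ⟨haD, hax, haxe⟩, ?_⟩
  rintro a' ⟨ha'D, ha'x, ha'e⟩
  have ha'2 : a' * a' = 1 := hinv a' ha'D
  have ha'inv : a'⁻¹ = a' := hinv' a' ha'D
  -- a' f a' = e
  have ha'fa' : a' * f * a' = e := by
    have h1 : e * (a' * x) = a' * x * e := ha'e
    have h2 : a' * x * e = a' * f * x := by rw [mul_assoc, hxe, ← mul_assoc]
    rw [h2] at h1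
    -- e * a' * x = a' * f * x
    have h3 : e * a' = a' * f := by
      have := congrArg (· * x) h1
      simp only [mul_assoc, hx2, mul_one] at this
      simpa [mul_assoc] using this
    rw [← h3, mul_assoc, ha'2, mul_one]
  -- t = a' * a commutes with e
  obtain ⟨t, ht⟩ : ∃ t, t = a' * a := ⟨_, rfl⟩
  have hte : t * e = e * t := by
    have h1 : a * e = f * a := by
      have : f * a = a * (a * f * a) := by rw [← mul_assoc, ← mul_assoc, ha2, one_mul]
      rw [this, hafa]
    have h2 : a' * f = e * a' := by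
      have : a' * f = (a' * f * a') * a' := by rw [mul_assoc, ha'2, mul_one]
      rw [this, ha'fa']
    rw [ht, mul_assoc, h1, ← mul_assoc, h2, mul_assoc]
  have hat : a * t = t⁻¹ * a := by
    rw [ht, mul_inv_rev, hainv, ha'inv, mul_assoc]
  -- y = e * a has odd order and inverts t
  have hy_odd : Odd (orderOf (e * a)) := hodd e he a haD
  have hyt : (e * a) * t = t⁻¹ * (e * a) := by
    rw [mul_assoc, hat, ← mul_assoc]
    have : e * t⁻¹ = t⁻¹ * e := by
      have : t⁻¹ * e = t⁻¹ * (e * t) * t⁻¹ := by group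
      rw [this, ← hte]; group
    rw [this, mul_assoc]
  have hypow : ∀ n : ℕ, (e * a) ^ n * t = t ^ ((-1 : ℤ) ^ n) * (e * a) ^ n := by
    intro n
    induction n with
    | zero => simp
    | succ n ih =>
      rw [pow_succ, mul_assoc, hyt, ← mul_assoc]
      have h5 : (e * a) ^ n * t⁻¹ = (t ^ ((-1 : ℤ) ^ n))⁻¹ * (e * a) ^ n := by
        have : (e * a) ^ n * t⁻¹ = ((e * a) ^ n * t * ((e * a) ^ n)⁻¹)⁻¹ * (e * a) ^ n := by group
        rw [this, ih]; group
      rw [h5, ← zpow_neg, mul_assoc]
      congr 2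
      rw [pow_succ]; ring
  have ht2 : t = t⁻¹ := by
    have h := hypow (orderOf (e * a))
    rw [pow_orderOf_eq_one, one_mul, mul_one, hy_odd.neg_one_pow, zpow_neg_one] at h
    exact h
  have htt : t ^ 2 = 1 := by
    rw [pow_two]
    nth_rewrite 1 [ht2]
    exact inv_mul_cancel t
  have ht_odd : Odd (orderOf t) := by rw [ht]; exact hodd a' ha'D a haD
  have ht1 : t = 1 := by
    have h1 : orderOf t ∣ 2 := orderOf_dvd_of_pow_eq_one htt
    have h2 : orderOf t = 1 := by
      rcases (Nat.dvd_prime Nat.prime_two).mp h1 with h | h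
      · exact h
      · rw [h] at ht_odd; exact absurd ht_odd (by decide)
    exact orderOf_eq_one_iff.mp h2
  -- a' = a
  have : a' * a = 1 := by rw [← ht, ht1]
  calc a' = a' * (a * a) := by rw [ha2, mul_one]
    _ = (a' * a) * a := by rw [mul_assoc]
    _ = a := by rw [this, one_mul]

end Cfsg.Agent.S5562
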