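import Cfsg.Statements.S5594
import Cfsg.Agent.Lib.helper93.Co0Elems
import Cfsg.Agent.Lib.helper9.GolayGens

set_option autoImplicit false
open Cfsg

namespace Cfsg.Agent.S5594

open Cfsg.Agent.Lib.helper93 Cfsg.Agent.Lib.helper9

/-- the dodecad of the squares modulo 23 -/
def sq0 : Finset GolayPt := support₂ (qrWord 0)

theorem sq0_mem : sq0 ∈ supports (golayCode : Set (GolayPt → ZMod 2)) :=
  ⟨qrWord 0, Submodule.subset_span (Set.mem_union_left _ (Set.mem_range_self 0)), rfl⟩

theorem projInv_sq0 : ∀ q : GolayPt, projInv q ∈ sq0 ↔ ¬ q ∈ sq0 := by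
  unfold sq0 support₂
  decide

theorem projInv_projInv (q : GolayPt) : projInv (projInv q) = q := projInv.left_inv q

theorem signCo_E (s : Finset GolayPt) (hs : s ∈ supports (golayCode : Set (GolayPt → ZMod 2)))
    (q : GolayPt) : (signCo s hs).1 (E q) = if q ∈ s then -E q else E q := by
  apply Subtype.ext
  funext i
  rw [signCo_apply, signZ_apply]
  by_cases hq : q ∈ s
  · rw [if_pos hq]
    show (if i ∈ s then -(E q : GolayPt → ℤ) i else (E q : GolayPt → ℤ) i) = -(E q : GolayPt → ℤ) i
    rw [E_apply]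
    by_cases hi : i = q
    · rw [if_pos (by rw [hi]; exact hq)]
    · rw [if_neg hi]; simp
  · rw [if_neg hq]
    show (if i ∈ s then -(E q : GolayPt → ℤ) i else (E q : GolayPt → ℤ) i) = (E q : GolayPt → ℤ) i
    rw [E_apply]
    by_cases hi : i = q
    · rw [if_neg (by rw [hi]; exact hq)]
    · rw [if_neg hi]; simp

/-- an element whose square is the negation -/
def gg : ↥Co0 := signCo sq0 sq0_mem * permCo projInv projInv_mem_M24

theorem gg_E (q : GolayPt) : gg.1 (E q) = if projInv q ∈ sq0 then -E (projInv q) else E (projInv q) := by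
  unfold gg
  rw [co_mul_apply, permCo_E, signCo_E]

theorem gg_sq : gg * gg = negCo := by
  apply co_ext
  intro q
  rw [co_mul_apply, negCo_apply, gg_E]
  by_cases hq : q ∈ sq0
  · rw [if_neg (fun h => ((projInv_sq0 q).1 h) hq), gg_E, projInv_projInv, if_pos hq]
  · rw [if_pos ((projInv_sq0 q).2 hq), co_map_neg, gg_E, projInv_projInv, if_neg hq]

theorem negCo_sq : negCo * negCo = 1 := by
  apply co_ext
  intro q
  rw [co_mul_apply, negCo_apply, negCo_apply, neg_neg]
  rfl


/-- The automorphism group of the Leech lattice contains the negation map, and the subgroup of order 2 it generates has no complement: the automorphism group is a non-split extension of its quotient by that subgroup (it is not the direct product of a group of order 2 with the first Conway group). -/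
theorem result :
    ∃ n : ↥Cfsg.Co0, (∀ v : ↥Cfsg.leechLattice, ((n • v : ↥Cfsg.leechLattice) : Cfsg.GolayPt → ℤ) = -(v : Cfsg.GolayPt → ℤ)) ∧
    ∀ K : Subgroup ↥Cfsg.Co0, ¬ (Subgroup.zpowers n).IsComplement' K := by
  refine ⟨negCo, fun v => ?_, fun K hK => ?_⟩
  · have h := negCo_apply v
    exact congrArg Subtype.val h
  · obtain ⟨⟨⟨h, hh⟩, ⟨k, hk⟩⟩, hhk⟩ := hK.2 gg
    have hhk' : h * k = gg := hhk
    obtain ⟨i, rfl⟩ := Subgroup.mem_zpowers_iff.1 hh
    have hc : negCo ^ i ∈ Subgroup.center ↥Co0 :=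
      Subgroup.zpow_mem _ negCo_mem_center i
    have hcomm : k * negCo ^ i = negCo ^ i * k := Subgroup.mem_center_iff.1 hc k
    have hsq : negCo ^ i * negCo ^ i = 1 := by
      rw [← zpow_add, ← two_mul, zpow_mul, zpow_two, negCo_sq, one_zpow]
    have h1 : gg * gg = k * k := by
      rw [← hhk']
      calc negCo ^ i * k * (negCo ^ i * k) = negCo ^ i * (k * negCo ^ i) * k := by group
        _ = negCo ^ i * (negCo ^ i * k) * k := by rw [hcomm]
        _ = (negCo ^ i * negCo ^ i) * (k * k) := by group
        _ = k * k := by rw [hsq, one_mul]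
    rw [gg_sq] at h1
    have hmem : negCo ∈ K := by rw [h1]; exact K.mul_mem hk hk
    have hbot : negCo ∈ (Subgroup.zpowers negCo ⊓ K : Subgroup ↥Co0) :=
      ⟨Subgroup.mem_zpowers negCo, hmem⟩
    rw [hK.disjoint.eq_bot, Subgroup.mem_bot] at hbot
    exact negCo_ne_one hbot

end Cfsg.Agent.S5594
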