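import Cfsg.Statements.S5599
import Cfsg.Agent.Lib.helper33.OctadStab
import Cfsg.Agent.Lib.helper33.KSets

set_option autoImplicit false
open Cfsg

namespace Cfsg.Agent.S5599

open Cfsg.Spor Cfsg.Agent.Lib.helper33 Cfsg.Agent.Lib.helper9
open scoped Pointwise

theorem mem_M22 (x : Equiv.Perm GolayPt) :
    x ∈ M22 ↔ x ∈ M24 ∧ x none = none ∧ x (some 0) = some 0 := by
  rw [M22, M23, Subgroup.mem_inf, Subgroup.mem_inf]
  exact ⟨fun h => ⟨h.1.1, h.1.2, h.2⟩, fun h => ⟨⟨h.1, h.2.1⟩, h.2.2⟩⟩

theorem pair_cases (x : Equiv.Perm GolayPt)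
    (hx : x • ({none, some 0} : Finset GolayPt) = {none, some 0}) :
    (x none = none ∧ x (some 0) = some 0) ∨ (x none = some 0 ∧ x (some 0) = none) := by
  have h1 : x none ∈ ({none, some 0} : Finset GolayPt) := by
    rw [← hx]; exact Finset.smul_mem_smul_finset (by simp)
  have h2 : x (some 0) ∈ ({none, some 0} : Finset GolayPt) := by
    rw [← hx]; exact Finset.smul_mem_smul_finset (by simp)
  have hne : x none ≠ x (some 0) := fun h => by simpa using x.injective h
  simp only [Finset.mem_insert, Finset.mem_singleton] at h1 h2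
  rcases h1 with h1 | h1 <;> rcases h2 with h2 | h2
  · exact absurd (h1.trans h2.symm) hne
  · left; exact ⟨h1, h2⟩
  · right; exact ⟨h1, h2⟩
  · exact absurd (h1.trans h2.symm) hne

theorem oct_mem : decSet 10558 ∈ octads :=
  decSet_mem_octads 10558 (by decide +kernel) (by decide +kernel)

theorem oct_ne1 : ∀ x ∈ decSet 10558, x ≠ none := by decide

theorem oct_ne2 : ∀ x ∈ decSet 10558, x ≠ some 0 := by decide

theorem six_notMem : (some 6 : GolayPt) ∉ decSet 10558 := by decide

/-- In the automorphism group of the length-24 code, the two-point Mathieu group (permutations of the code's group fixing the extra point and the residue 0) has index 2 in the setwise stabiliser of that pair of points, and an element of the code's group interchanging the two points normalises the two-point group and induces on it, by conjugation, an automorphism that is not inner. -/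
theorem result (g : Equiv.Perm Cfsg.GolayPt) (hg : g ∈ Cfsg.M24) (h₁ : g none = some 0) (h₂ : g (some 0) = none) : Cfsg.Spor.M22.relIndex (Cfsg.M24 ⊓ MulAction.stabilizer (Equiv.Perm Cfsg.GolayPt) ({none, some 0} : Finset Cfsg.GolayPt)) = 2 ∧ (∀ x ∈ Cfsg.Spor.M22, g * x * g⁻¹ ∈ Cfsg.Spor.M22) ∧ ¬ ∃ h ∈ Cfsg.Spor.M22, ∀ x ∈ Cfsg.Spor.M22, g * x * g⁻¹ = h * x * h⁻¹ := by
  have hgpair : g • ({none, some 0} : Finset GolayPt) = {none, some 0} := by
    rw [Finset.smul_finset_insert, Finset.smul_finset_singleton]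
    show ({g none, g (some 0)} : Finset GolayPt) = {none, some 0}
    rw [h₁, h₂, Finset.pair_comm]
  refine ⟨?_, ?_, ?_⟩
  · have hgK : g ∈ M24 ⊓ MulAction.stabilizer (Equiv.Perm GolayPt)
        ({none, some 0} : Finset GolayPt) := ⟨hg, hgpair⟩
    rw [Subgroup.relIndex, Subgroup.index_eq_two_iff]
    refine ⟨⟨g, hgK⟩, fun b => ?_⟩
    have hb := b.2
    rw [Subgroup.mem_subgroupOf, Subgroup.mem_subgroupOf, Subgroup.coe_mul, mem_M22, mem_M22]
    rcases pair_cases b.1 hb.2 with ⟨h1, h2⟩ | ⟨h1, h2⟩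
    · right
      refine ⟨⟨hb.1, h1, h2⟩, fun h => ?_⟩
      have h3 := h.2.1
      rw [Equiv.Perm.mul_apply, h₁, h2] at h3
      exact absurd h3 (by simp)
    · left
      refine ⟨⟨M24.mul_mem hb.1 hg, ?_, ?_⟩, fun h => ?_⟩
      · rw [Equiv.Perm.mul_apply, h₁, h2]
      · rw [Equiv.Perm.mul_apply, h₂, h1]
      · have h3 := h.2.1
        rw [h1] at h3
        exact absurd h3 (by simp)
  · have hginv1 : g⁻¹ none = some 0 := by rw [Equiv.Perm.inv_eq_iff_eq, h₂]
    have hginv2 : g⁻¹ (some 0) = none := by rw [Equiv.Perm.inv_eq_iff_eq, h₁]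
    intro x hx
    rw [mem_M22] at hx ⊢
    refine ⟨M24.mul_mem (M24.mul_mem hg hx.1) (M24.inv_mem hg), ?_, ?_⟩
    · rw [Equiv.Perm.mul_apply, Equiv.Perm.mul_apply, hginv1, hx.2.2, h₂]
    · rw [Equiv.Perm.mul_apply, Equiv.Perm.mul_apply, hginv2, hx.2.1, h₁]
  · rintro ⟨h, hh, hconj⟩
    rw [mem_M22] at hh
    have hcM : h⁻¹ * g ∈ M24 := M24.mul_mem (M24.inv_mem hh.1) hg
    have hcomm : ∀ x ∈ M22, (h⁻¹ * g) * x = x * (h⁻¹ * g) := by
      intro x hx
      have h3 := hconj x hx
      calc (h⁻¹ * g) * x = h⁻¹ * (g * x * g⁻¹) * g := by group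
        _ = h⁻¹ * (h * x * h⁻¹) * g := by rw [h3]
        _ = x * (h⁻¹ * g) := by group
    have hhinv1 : h⁻¹ none = none := by rw [Equiv.Perm.inv_eq_iff_eq, hh.2.1]
    have hhinv2 : h⁻¹ (some 0) = some 0 := by rw [Equiv.Perm.inv_eq_iff_eq, hh.2.2]
    have hc1 : (h⁻¹ * g) none = some 0 := by rw [Equiv.Perm.mul_apply, h₁, hhinv2]
    have hc2 : (h⁻¹ * g) (some 0) = none := by rw [Equiv.Perm.mul_apply, h₂, hhinv1]
    have hfix : ∀ p : GolayPt, p ≠ none → p ≠ some 0 → (h⁻¹ * g) p = p := by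
      intro p hp1 hp2
      by_contra hne
      have hq1 : (h⁻¹ * g) p ≠ none := fun e =>
        hp2 ((h⁻¹ * g).injective (by rw [e, hc2]))
      have hq2 : (h⁻¹ * g) p ≠ some 0 := fun e =>
        hp1 ((h⁻¹ * g).injective (by rw [e, hc1]))
      obtain ⟨z, -, hz⟩ := Finset.exists_mem_notMem_of_card_lt_card
        (s := ({none, some 0, p, (h⁻¹ * g) p} : Finset GolayPt)) (t := Finset.univ) (by
          have h4 : ({none, some 0, p, (h⁻¹ * g) p} : Finset GolayPt).card ≤ 4 :=
            Finset.card_le_four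
          have h24 : Fintype.card GolayPt = 24 := by decide
          rw [Finset.card_univ, h24]
          omega)
      simp only [Finset.mem_insert, Finset.mem_singleton, not_or] at hz
      obtain ⟨m, hm, hmA⟩ := exists_mem_M24_of_injOn
        ({none, some 0, p, (h⁻¹ * g) p} : Finset GolayPt)
        (Finset.card_le_four.trans (by norm_num)) (Equiv.swap ((h⁻¹ * g) p) z)
        (Equiv.injective _).injOn
      have hm1 : m none = none := by
        rw [hmA none (by simp), Equiv.swap_apply_of_ne_of_ne hq1.symm (Ne.symm hz.1)]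
      have hm2 : m (some 0) = some 0 := by
        rw [hmA (some 0) (by simp), Equiv.swap_apply_of_ne_of_ne hq2.symm (Ne.symm hz.2.1)]
      have hm3 : m p = p := by
        rw [hmA p (by simp), Equiv.swap_apply_of_ne_of_ne (fun e => hne e.symm)
          (Ne.symm hz.2.2.1)]
      have hm4 : m ((h⁻¹ * g) p) = z := by
        rw [hmA ((h⁻¹ * g) p) (by simp), Equiv.swap_apply_left]
      have hmM : m ∈ M22 := (mem_M22 m).2 ⟨hm, hm1, hm2⟩
      have h5 := congrArg (fun e : Equiv.Perm GolayPt => e p) (hcomm m hmM)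
      simp only [Equiv.Perm.mul_apply] at h5
      rw [hm3] at h5
      have h6 : m ((h⁻¹ * g) p) = z := hm4
      simp only [Equiv.Perm.mul_apply] at h6
      rw [← h5] at h6
      exact hz.2.2.2 h6.symm
    have hcf : h⁻¹ * g ∈ fixOct (decSet 10558) :=
      mem_fixOct.2 ⟨hcM, fun x hx => hfix x (oct_ne1 x hx) (oct_ne2 x hx)⟩
    have hc6 : (h⁻¹ * g) (some 6) = some 6 := hfix _ (by decide) (by decide)
    have h7 := fixOct_stab_trivial oct_mem six_notMem (h⁻¹ * g) hcf hc6
    rw [h7] at hc1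
    exact absurd hc1 (by decide)

end Cfsg.Agent.S5599
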