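import Cfsg.Statements.S5604
import Cfsg.Agent.Lib.helper94.M24Cent
import Cfsg.Agent.Lib.helper94.M24EltCounts
import Cfsg.Agent.Lib.helper94.CyclicNorm


set_option autoImplicit false
open scoped Pointwise
open Cfsg

set_option maxRecDepth 100000
open Cfsg.Agent.Lib.helper94

namespace Cfsg.Agent.S5604

open Cfsg.Agent.Lib.helper33 (validTbl)
open Cfsg.Agent.Lib.helper9 (bp base chkTbl)

/-- Table of an element of order 7. -/
def X7 : ℕ := 0x6c2ef9c90eb14c0a2a356256720c41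

/-- Tables of the powers of `X7`. -/
def X7P : List ℕ :=
  [0xbdab49ca307b9ac5a928398a418820,
   0x6c2ef9c90eb14c0a2a356256720c41,
   0x339b69caa582d217a9170468c39062,
   0x494d09caeb75222b2aad0a1e061c83,
   0x8ad2e9c9b42bd0382ae6156c1030e4,
   0x452259c8cf5daa4729a91de0208187,
   0xabd0b9c936a42e72a8d1235c31040c]

/-- The table of the `k`-th power of `X7`. -/
def xp (k : ℕ) : ℕ := X7P.getD k 0

/-- The table `F` is the `n`-th power of the table `E`. -/
def powTabOK (E F n : ℕ) : Bool := allBelow (fun i => Nat.beq (imgAt F i) (powImg E n i)) 24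

/-- Frame table of a five-point path. -/
def K5 : List ℕ := [1, 2, 3, 4, 5, 6, 7, 8, 9, 10, 11, 12, 13, 14, 15, 16, 17, 18, 19, 20, 21, 22, 0, 23]

/-- Inverse of `K5`. -/
def K5i : List ℕ := [22, 0, 1, 2, 3, 4, 5, 6, 7, 8, 9, 10, 11, 12, 13, 14, 15, 16, 17, 18, 19, 20, 21, 23]

/-- Conjugacy certificates for the elements of order 7 of the frame `K5`. -/
def certs7 : List (ℕ × ℕ × ℕ) :=
  [(0x6c2ef9c90eb14c0a2a356256720c41, 0xbdab49ca307b9ac5a928398a418820, 0),
   (0x4966ebda2f942a05a9066368720c41, 0x451368ae6e2c0cc92ab73b5e418820, 0),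
   (0x450d2abdb672ee082933644a720c41, 0x6c22e496b65d2ec7aa663a24418820, 0),
   (0xabe30452655b92092aed61ac720c41, 0x7d6c971a11bcd6c6aa853c90418820, 0),
   (0x9c9346c2ab2da207a8c865dc720c41, 0x5c613a22d56a5ecba9d2394c418820, 0),
   (0x339058aef0a3da0b2a696564720c41, 0x4950f6c0d2a2e6c72af53c6c418820, 0),
   (0xbd9ab494d48490072ab164de720c41, 0x94dd1b5e89354ac42a0b3bda418820, 0),
   (0x8aeb6339327d2602a9b76220720c41, 0x33a70abd349590c2aa2d3dd6418820, 0),
   (0x736574be708d8cc580b4522a720c41, 0x6c51582ed2495c27b0d72526a08ce0, 1),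
   (0x342762d64d5ddcc88128551e720c41, 0x2d16e4a277836a2331f2246ca08ce0, 1),
   (0xa5cad9ad36ac10c7824e51a2720c41, 0x939f49992db5e22431652560a08ce0, 1),
   (0x6ba347a5669220c982b7558a720c41, 0x425b3a15cf8aec2932e6242aa08ce0, 1),
   (0xbd2ae5cde829acc4822d5424720c41, 0xb3dcbbd5a994d028b290218aa08ce0, 1),
   (0x81968a962e9d1ac901f655d2720c41, 0x5c0b68b6a6a2262bb24f225ca08ce0, 1),
   (0xb21e68cab44baec281705366720c41, 0x34ee974a8babe022b1a825a2a08ce0, 1),
   (0x45930944b77b68ca82665396720c41, 0xade6d7d974338a2831312490a08ce0, 1),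
   (0x4a2d534e327c1cc69cb702e8a20c41, 0x4caee7c6d3818a76b2a85516418820, 0),
   (0x7d90582e51499ac71eb404eea20c41, 0x43ab2b35e65ce878b2e95160418820, 0),
   (0x425f7999aeb2e4c89e95040aa20c41, 0x5d5d7994cf45a27a32505352418820, 0),
   (0xbd4a88b4d0a496c99ec9039ea20c41, 0xa19f3bc2ae8c9075b2c5525a418820, 0),
   (0xb3d345c1cd44e2c91ee501aaa20c41, 0x85e55352764bda72b1cb5450418820, 0),
   (0xade896c66b2ba0c31de804aca20c41, 0x6da6f722572d6074b0d152e8418820, 0),
   (0x2d2ef74973ab4cc81d360450a20c41, 0x7c68d4c90b342a7730b655e6418820, 0),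
   (0xa16b693a06bc66c59d0f0352a20c41, 0x2cec6aaef26b927831f45222418820, 0),
   (0xbc2d3439eb69aa08b1253d24a20c41, 0x84a33ba6c8352a229d6d23dcc08d40, 1),
   (0x6da093516fba220ab2723b8aa20c41, 0x9b5d02d92f5d682b9cd22222c08d40, 1),
   (0xaade64cad08cee06b114395ca20c41, 0x4de969426b7c5c269d0521aac08d40, 1),
   (0xb36f2a1ab1839e05b0a93a26a20c41, 0x454af72cd0b364289d3424eec08d40, 1),
   (0x85da572235b51607b2533992a20c41, 0xa3d35345cdbc26259ca824acc08d40, 1),
   (0x5d634925b779600b31c63cd0a20c41, 0x89a0e7d2a5926c241dab25e6c08d40, 1),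
   (0x7c6ae2ceed5cac0832883a4ca20c41, 0x5b9a6aa1e9996e2a1e1125a4c08d40, 1),
   (0x8bd6899616aa5a0bb0ce3ca8a20c41, 0xb16a96ce0643a2291df722e8c08d40, 1),
   (0xbcd05a2cc98c9aaa81d03d9ec20c41, 0x7acae6de759222a49ed461a0418820, 0),
   (0xa99342c2686ba2ab824b3becc20c41, 0x4cead751658da4a79d17640c418820, 0),
   (0x5d2469dcaeb21ea801353c5ac20c41, 0xa3acb9a5a8854cab9caf6464418820, 0),
   (0x815d3356927a6ca581173b62c20c41, 0x6dcc97ae9044aca71e33616a418820, 0),
   (0x9596d8a1f0a5caa702a93cccc20c41, 0x8d668b40ab4b9ea91da6652e418820, 0),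
   (0x4b6b67ba373426a401723968c20c41, 0x859c5ac50da4eea31d72625e418820, 0),
   (0x446efb49b59acca4820e3d0ac20c41, 0x321b52cacebae8a81e7163d2418820, 0),
   (0x73e116a6cb2d68a902e839a6c20c41, 0x9157641ab37b52a89dd065e8418820, 0),
   (0x4dd68b1693745a77aa5501a0c20c41, 0xba24e69ad15be62a2930216a708d80, 1),
   (0x6ce91941777a12772ac6054ac20c41, 0x92ef52be7441ac28aa09235c708d80, 1),
   (0x8490b9b636ad0a732aee03d2c20c41, 0xaa5d28cded858c22a90b252e708d80, 1),
   (0xba5d52d9ed59a67a2a080464c20c41, 0x335f645dc92caa282a3422e6708d80, 1),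
   (0x2da34ba51232e07aaa6f039ac20c41, 0x83928b51afac4a232a5724d6708d80, 1),
   (0x942ae6ccc543ec78a92b052ec20c41, 0x9c6cf4d648a3ae25a9a5240c708d80, 1),
   (0x9b5e6849c9a56e75a8b1022cc20c41, 0x794d35cab06ddc24aa91222c708d80, 1),
   (0xb14cf4deb08ba47429b402e6c20c41, 0xa5a2d741129a562ba9e6254a708d80, 1)]

/-- The table `E` conjugates `X7` to its `k`-th power. -/
def normB (k E : ℕ) : Bool := conjOK E X7 (xp k)

/-- Membership test for the centraliser. -/
def memC (E : ℕ) : Bool := isM24 E && normB 1 E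

/-- Membership test for the normaliser. -/
def memN (E : ℕ) : Bool := isM24 E && (normB 1 E || normB 2 E || normB 4 E)

/-- Membership test for the stabiliser of the index 0 in the centraliser. -/
def memC1 (E : ℕ) : Bool := memC E && Nat.beq (imgAt E 0) 0

/-- Membership test for the stabiliser of the index 0 in the normaliser. -/
def memN1 (E : ℕ) : Bool := memN E && Nat.beq (imgAt E 0) 0

/-- Elements of the centraliser mapping the index 0 to each moved index. -/
def cert21 : List ℕ :=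
  [0xbdab49ca307b9ac5a928398a418820,
   0x6c2ef9c90eb14c0a2a356256720c41,
   0x339b69caa582d217a9170468c39062,
   0x2a5cd94ed132162ba9f00d2a061c83,
   0x5c4a694e084d6836aace13ee1030e4,
   0x25c6854c2da98ee8c802831367d165,
   0x78e81928a411ecd04dcbbc19544526,
   0x452259c8cf5daa4729a91de0208187,
   0x73204929e0384b11ce964ac466dea8,
   0xb11e2929671b2060ccb46b817aa229,
   0x0,
   0x3b49554c46ba5854482370230b3e8b,
   0xabd0b9c936a42e72a8d1235c31040c,
   0xa0960929c3091f764e05ad8e88a4cd,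
   0xa8d019a92411ef0048d1b358fa2cae,
   0x480c79aae160a3424aad5a065742cf,
   0x40a209a8c3092b6649a97dcf4595d0,
   0x81ec392a8c201c914d6f3142dbd511,
   0x0,
   0x0,
   0x618f754c696c40bac8442850e859f4,
   0x15905488b75028b4c67889e9336f5,
   0x8852c9a9a200d0f3cae6a548b2ba16,
   0x584ac92a0200e953cece43c91499b7]

/-- The elements of the centraliser fixing the index 0, by the image of the index 5. -/
def cert2 : List ℕ :=
  [0x0,
   0x0,
   0x0,
   0x0,
   0x0,
   0xbdab49ca307b9ac5a928398a418820,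
   0x0,
   0x0,
   0x0,
   0xb5de894d6da9a0c8a8b43b92418820,
   0x0,
   0x0,
   0x0,
   0x0,
   0x0,
   0x0,
   0x0,
   0x0,
   0x0,
   0x0,
   0x0,
   0x0,
   0x0,
   0x0]

/-- Elements of the normaliser fixing the index 0, by the image of the index 1. -/
def cert3 : List ℕ :=
  [0x0,
   0xbdab49ca307b9ac5a928398a418820,
   0x5c5d794e95335e7428b61c12161040,
   0x0,
   0xa221194ec66d5c3ba8ab63d2238480,
   0x0,
   0x0,
   0x0,
   0x0,
   0x0,
   0x0,
   0x0,
   0x0,
   0x0,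
   0x0,
   0x0,
   0x0,
   0x0,
   0x0,
   0x0,
   0x0,
   0x0,
   0x0,
   0x0]

/-- Frame table for the third power. -/
def KN3 : List ℕ := [0, 3, 12, 2, 17, 10, 20, 18, 14, 6, 9, 16, 15, 19, 4, 13, 8, 1, 5, 22, 21, 11, 23, 7]

/-- Inverse of `KN3`. -/
def KN3i : List ℕ := [0, 17, 3, 1, 14, 18, 9, 23, 16, 10, 5, 21, 2, 15, 8, 12, 11, 4, 7, 13, 6, 20, 19, 22]

/-- Frame table for the fifth power. -/
def KN5 : List ℕ := [0, 7, 3, 1, 5, 4, 23, 19, 20, 9, 13, 18, 22, 14, 10, 6, 15, 2, 11, 17, 21, 8, 16, 12]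

/-- Inverse of `KN5`. -/
def KN5i : List ℕ := [0, 3, 17, 2, 5, 4, 15, 1, 21, 9, 14, 18, 23, 10, 13, 16, 22, 19, 11, 7, 8, 20, 12, 6]

/-- Frame table for the sixth power. -/
def KN6 : List ℕ := [0, 12, 7, 4, 10, 20, 23, 2, 18, 16, 3, 21, 1, 13, 6, 14, 8, 19, 17, 9, 15, 22, 11, 5]

/-- Inverse of `KN6`. -/
def KN6i : List ℕ := [0, 12, 7, 10, 3, 23, 14, 2, 16, 19, 4, 22, 1, 13, 15, 20, 9, 18, 8, 17, 5, 11, 21, 6]

/-- The identity table. -/
def KID : List ℕ := [0, 1, 2, 3, 4, 5, 6, 7, 8, 9, 10, 11, 12, 13, 14, 15, 16, 17, 18, 19, 20, 21, 22, 23]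

/-- Two elements of the centraliser that do not commute. -/
def TA : ℕ := 0xb5de894d6da9a0c8a8b43b92418820

/-- Two elements of the centraliser that do not commute. -/
def TB : ℕ := 0x25c6854c2da98ee8c802831367d165

theorem x7_ok : validPerm X7 = true ∧ isM24 X7 = true ∧ powOne X7 7 = true ∧ fixCnt X7 = 3 ∧
    allBelow (fun k => validPerm (xp k) && powTabOK X7 (xp k) k) 7 = true ∧ imgAt X7 0 = 1 ∧
    (∀ i < 24, (15989759 : ℕ).testBit i = false → imgAt X7 i = i) ∧
    popc 15989759 = 21 ∧ popc 544 = 2 ∧ popc 22 = 3 := by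
  decide +kernel

theorem frame7_ok : validTbl K5 K5i = true ∧ chkTbl K5 = true ∧
    frameCheck K5 (classP (fun E => powOne E 7) [X7, xp 3] certs7) = true := by
  decide +kernel

theorem frameN3_ok : validTbl KN3 KN3i = true ∧ chkTbl KN3 = true ∧
    frameCheck KN3 (fun E => !(normB 3 E)) = true := by
  decide +kernel

theorem frameN5_ok : validTbl KN5 KN5i = true ∧ chkTbl KN5 = true ∧
    frameCheck KN5 (fun E => !(normB 5 E)) = true := by
  decide +kernel

theorem frameN6_ok : validTbl KN6 KN6i = true ∧ chkTbl KN6 = true ∧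
    frameCheck KN6 (fun E => !(normB 6 E)) = true := by
  decide +kernel

theorem frameID_ok : validTbl KID KID = true ∧ chkTbl KID = true ∧
    frameCheck KID (fun E => !(normB 1 E) || ((544 : ℕ).testBit (imgAt E 5) &&
      (!(Nat.beq (imgAt E 5) 5) || Nat.beq (fixCnt E) 24))) = true := by
  decide +kernel

theorem orb0_ok : orbOK memC 0 15989759 cert21 = true := by decide +kernel

theorem orb1C_ok : orbOK memC1 5 544 cert2 = true := by decide +kernel

theorem orb1N_ok : orbOK memN1 1 22 cert3 = true := by decide +kernel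

theorem ab_ok : (validPerm TA && memC TA && validPerm TB && memC TB && !(conjOK TA TB TB)) = true := by
  decide +kernel

theorem trio_ok : fixCntSets 3 3795 TRI X7 = 1 := by decide +kernel

theorem p7_1 : powImg X7 1 0 = 1 := by decide +kernel

theorem p7_2 : powImg X7 2 0 = 2 := by decide +kernel

theorem p7_3 : powImg X7 3 0 = 3 := by decide +kernel

theorem pk_0_1 : powImg (xp 0) 1 0 = 0 := by decide +kernel

theorem pk_0_2 : powImg (xp 0) 2 0 = 0 := by decide +kernel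

theorem pk_0_3 : powImg (xp 0) 3 0 = 0 := by decide +kernel

theorem pk_1_1 : powImg (xp 1) 1 0 = 1 := by decide +kernel

theorem pk_1_2 : powImg (xp 1) 2 0 = 2 := by decide +kernel

theorem pk_1_3 : powImg (xp 1) 3 0 = 3 := by decide +kernel

theorem pk_2_1 : powImg (xp 2) 1 0 = 2 := by decide +kernel

theorem pk_2_2 : powImg (xp 2) 2 0 = 4 := by decide +kernel

theorem pk_2_3 : powImg (xp 2) 3 0 = 12 := by decide +kernel

theorem pk_3_1 : powImg (xp 3) 1 0 = 3 := by decide +kernel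

theorem pk_3_2 : powImg (xp 3) 2 0 = 12 := by decide +kernel

theorem pk_3_3 : powImg (xp 3) 3 0 = 2 := by decide +kernel

theorem pk_4_1 : powImg (xp 4) 1 0 = 4 := by decide +kernel

theorem pk_4_2 : powImg (xp 4) 2 0 = 1 := by decide +kernel

theorem pk_4_3 : powImg (xp 4) 3 0 = 7 := by decide +kernel

theorem pk_5_1 : powImg (xp 5) 1 0 = 7 := by decide +kernel

theorem pk_5_2 : powImg (xp 5) 2 0 = 3 := by decide +kernel

theorem pk_5_3 : powImg (xp 5) 3 0 = 1 := by decide +kernel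

theorem pk_6_1 : powImg (xp 6) 1 0 = 12 := by decide +kernel

theorem pk_6_2 : powImg (xp 6) 2 0 = 7 := by decide +kernel

theorem pk_6_3 : powImg (xp 6) 3 0 = 4 := by decide +kernel


theorem hv7 : validPerm X7 = true := x7_ok.1

theorem xp_valid (k : ℕ) (hk : k < 7) : validPerm (xp k) = true := by
  have := (allBelow_iff _ _).mp x7_ok.2.2.2.2.1 k hk
  rw [Bool.and_eq_true] at this
  exact this.1

theorem tperm_pow_of {E F n : ℕ} (hvE : validPerm E = true) (hvF : validPerm F = true)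
    (h : powTabOK E F n = true) : tperm F = tperm E ^ n := by
  apply Equiv.ext
  intro p
  have h1 := tperm_pow_idxPt hvE n (ptIdx p) (ptIdx_lt p)
  rw [idxPt_ptIdx] at h1
  rw [h1.2, tperm_apply hvF, Nat.eq_of_beq_eq_true ((allBelow_iff _ _).mp h _ (ptIdx_lt p))]

theorem xp_pow (k : ℕ) (hk : k < 7) : tperm (xp k) = tperm X7 ^ k := by
  have := (allBelow_iff _ _).mp x7_ok.2.2.2.2.1 k hk
  rw [Bool.and_eq_true] at this
  exact tperm_pow_of hv7 this.1 this.2

theorem x7_pow7 : tperm X7 ^ 7 = 1 := (powOne_iff hv7 7).mp x7_ok.2.2.1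

theorem x7_ne : tperm X7 ≠ 1 := by
  intro h1
  have := card_fixed_tperm hv7
  rw [h1, x7_ok.2.2.2.1] at this
  simp only [Equiv.Perm.coe_one, id_eq, Finset.filter_true, Finset.card_univ] at this
  rw [card_golayPt] at this
  exact absurd this (by norm_num)

theorem x7_order : orderOf (tperm X7) = 7 := by
  have : Fact (Nat.Prime 7) := ⟨by norm_num⟩
  exact orderOf_eq_prime x7_pow7 x7_ne

theorem pow_mod7 (k : ℕ) : tperm X7 ^ (k % 7) = tperm X7 ^ k := by
  have := pow_mod_orderOf (tperm X7) k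
  rwa [x7_order] at this

theorem normB_iff {E k : ℕ} (hv : validPerm E = true) (hk : k < 7) :
    normB k E = true ↔ tperm E * tperm X7 = tperm X7 ^ k * tperm E := by
  rw [normB, conjOK_iff hv hv7 (xp_valid k hk), xp_pow k hk]

/-- The centraliser of the reference element in `M24`. -/
def CenS : Subgroup (Equiv.Perm GolayPt) := M24 ⊓ Subgroup.centralizer {tperm X7}

/-- The normaliser of the subgroup generated by the reference element in `M24`. -/
def NorS : Subgroup (Equiv.Perm GolayPt) :=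
  M24 ⊓ Subgroup.normalizer (Subgroup.zpowers (tperm X7) : Set (Equiv.Perm GolayPt))

theorem mem_CenS {c : Equiv.Perm GolayPt} :
    c ∈ CenS ↔ c ∈ M24 ∧ c * tperm X7 = tperm X7 * c := by
  rw [CenS, Subgroup.mem_inf, Subgroup.mem_centralizer_iff]
  simp only [Set.mem_singleton_iff, forall_eq]
  exact and_congr Iff.rfl eq_comm

theorem mem_NorS0 {n : Equiv.Perm GolayPt} :
    n ∈ NorS ↔ n ∈ M24 ∧ ∃ k : ℕ, n * tperm X7 * n⁻¹ = tperm X7 ^ k := by
  rw [NorS, Subgroup.mem_inf, mem_normalizer_zpowers]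

theorem mem_NorS {n : Equiv.Perm GolayPt} :
    n ∈ NorS ↔ n ∈ M24 ∧ ∃ k < 7, n * tperm X7 = tperm X7 ^ k * n := by
  rw [mem_NorS0]
  apply and_congr Iff.rfl
  constructor
  · rintro ⟨k, hk⟩
    refine ⟨k % 7, Nat.mod_lt _ (by norm_num), ?_⟩
    rw [pow_mod7, ← hk]
    group
  · rintro ⟨k, -, hk⟩
    exact ⟨k, by rw [mul_inv_eq_iff_eq_mul]; exact hk⟩

theorem cen_le_nor {g : Equiv.Perm GolayPt} (hg : g ∈ CenS) : g ∈ NorS := by
  obtain ⟨hgM, hgc⟩ := mem_CenS.mp hg
  exact mem_NorS.mpr ⟨hgM, 1, by norm_num, by rw [pow_one]; exact hgc⟩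

theorem norm_img {g : Equiv.Perm GolayPt} {k : ℕ} (hk : k < 7)
    (h : g * tperm X7 = tperm X7 ^ k * g) (i : ℕ) (p : GolayPt) :
    g ((tperm X7 ^ i) p) = (tperm (xp k) ^ i) (g p) := by
  induction i with
  | zero => simp
  | succ i ih =>
    rw [pow_succ', pow_succ', Equiv.Perm.mul_apply, Equiv.Perm.mul_apply, ← ih, xp_pow k hk]
    have h1 := congrArg (fun f : Equiv.Perm GolayPt => f ((tperm X7 ^ i) p)) h
    simpa only [Equiv.Perm.mul_apply] using h1

theorem norm_idx {g : Equiv.Perm GolayPt} {k : ℕ} (hk : k < 7)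
    (h : g * tperm X7 = tperm X7 ^ k * g) (hg0 : g (idxPt 0) = idxPt 0) (i : ℕ) :
    g (idxPt (powImg X7 i 0)) = idxPt (powImg (xp k) i 0) := by
  have h1 := norm_img hk h i (idxPt 0)
  rw [(tperm_pow_idxPt hv7 i 0 (by norm_num)).2, hg0,
    (tperm_pow_idxPt (xp_valid k hk) i 0 (by norm_num)).2] at h1
  exact h1

theorem idxPt_ne {i j : ℕ} (hi : i < 24) (hj : j < 24) (h : i ≠ j) : idxPt i ≠ idxPt j := by
  intro he
  have := congrArg ptIdx he
  rw [ptIdx_idxPt hi, ptIdx_idxPt hj] at this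
  exact h this

theorem hHC : ∀ E, validPerm E = true → memC E = true → tperm E ∈ CenS := by
  intro E hv hm
  rw [memC, Bool.and_eq_true] at hm
  refine mem_CenS.mpr ⟨tperm_mem_M24 hm.1, ?_⟩
  have := (normB_iff hv (by norm_num : 1 < 7)).mp hm.2
  rwa [pow_one] at this

theorem hHN : ∀ E, validPerm E = true → memN E = true → tperm E ∈ NorS := by
  intro E hv hm
  rw [memN, Bool.and_eq_true, Bool.or_eq_true, Bool.or_eq_true] at hm
  refine mem_NorS.mpr ⟨tperm_mem_M24 hm.1, ?_⟩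
  rcases hm.2 with (h | h) | h
  · exact ⟨1, by norm_num, (normB_iff hv (by norm_num)).mp h⟩
  · exact ⟨2, by norm_num, (normB_iff hv (by norm_num)).mp h⟩
  · exact ⟨4, by norm_num, (normB_iff hv (by norm_num)).mp h⟩

/-- The stabiliser of the index 0 in the centraliser. -/
def Cen1 : Subgroup (Equiv.Perm GolayPt) :=
  CenS ⊓ MulAction.stabilizer (Equiv.Perm GolayPt) (idxPt 0)

/-- The stabiliser of the indices 0 and 5 in the centraliser. -/
def Cen2 : Subgroup (Equiv.Perm GolayPt) :=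
  Cen1 ⊓ MulAction.stabilizer (Equiv.Perm GolayPt) (idxPt 5)

/-- The stabiliser of the index 0 in the normaliser. -/
def Nor1 : Subgroup (Equiv.Perm GolayPt) :=
  NorS ⊓ MulAction.stabilizer (Equiv.Perm GolayPt) (idxPt 0)

/-- The stabiliser of the indices 0 and 1 in the normaliser. -/
def Nor2 : Subgroup (Equiv.Perm GolayPt) :=
  Nor1 ⊓ MulAction.stabilizer (Equiv.Perm GolayPt) (idxPt 1)

theorem mem_Cen1 {c : Equiv.Perm GolayPt} : c ∈ Cen1 ↔ c ∈ CenS ∧ c (idxPt 0) = idxPt 0 := by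
  rw [Cen1, Subgroup.mem_inf, MulAction.mem_stabilizer_iff]
  rfl

theorem mem_Cen2 {c : Equiv.Perm GolayPt} : c ∈ Cen2 ↔ c ∈ Cen1 ∧ c (idxPt 5) = idxPt 5 := by
  rw [Cen2, Subgroup.mem_inf, MulAction.mem_stabilizer_iff]
  rfl

theorem mem_Nor1 {c : Equiv.Perm GolayPt} : c ∈ Nor1 ↔ c ∈ NorS ∧ c (idxPt 0) = idxPt 0 := by
  rw [Nor1, Subgroup.mem_inf, MulAction.mem_stabilizer_iff]
  rfl

theorem mem_Nor2 {c : Equiv.Perm GolayPt} : c ∈ Nor2 ↔ c ∈ Nor1 ∧ c (idxPt 1) = idxPt 1 := by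
  rw [Nor2, Subgroup.mem_inf, MulAction.mem_stabilizer_iff]
  rfl

theorem hHC1 : ∀ E, validPerm E = true → memC1 E = true → tperm E ∈ Cen1 := by
  intro E hv hm
  rw [memC1, Bool.and_eq_true] at hm
  refine mem_Cen1.mpr ⟨hHC E hv hm.1, ?_⟩
  rw [tperm_idxPt hv (by norm_num), Nat.eq_of_beq_eq_true hm.2]

theorem hHN1 : ∀ E, validPerm E = true → memN1 E = true → tperm E ∈ Nor1 := by
  intro E hv hm
  rw [memN1, Bool.and_eq_true] at hm
  refine mem_Nor1.mpr ⟨hHN E hv hm.1, ?_⟩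
  rw [tperm_idxPt hv (by norm_num), Nat.eq_of_beq_eq_true hm.2]

theorem lowC : ∀ q ∈ Lib.helper94.setOf 15989759, ∃ g ∈ CenS, g (idxPt 0) = q :=
  orbOK_sound orb0_ok (by norm_num) CenS hHC

theorem upN : ∀ g ∈ NorS, g (idxPt 0) ∈ Lib.helper94.setOf 15989759 := by
  intro g hg
  obtain ⟨hgM, k, hk, hgk⟩ := mem_NorS.mp hg
  rw [mem_setOf]
  by_contra hcon
  rw [Bool.not_eq_true] at hcon
  have hfix : tperm X7 (g (idxPt 0)) = g (idxPt 0) := by
    rw [tperm_eq_iff hv7]
    exact x7_ok.2.2.2.2.2.2.1 _ (ptIdx_lt _) hcon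
  have hfixk : (tperm X7 ^ k) (g (idxPt 0)) = g (idxPt 0) :=
    Equiv.Perm.pow_apply_eq_self_of_apply_eq_self hfix k
  have h1 := congrArg (fun f : Equiv.Perm GolayPt => f (idxPt 0)) hgk
  simp only [Equiv.Perm.mul_apply] at h1
  rw [hfixk] at h1
  have h2 := g.injective h1
  rw [tperm_idxPt hv7 (by norm_num), x7_ok.2.2.2.2.2.1] at h2
  exact idxPt_ne (by norm_num) (by norm_num) (by norm_num : (1 : ℕ) ≠ 0) h2

/-- The elements of the centraliser fixing the index 0, through the identity frame. -/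
theorem frameID_use {g : Equiv.Perm GolayPt} (hg : g ∈ Cen1) :
    ∃ E, validPerm E = true ∧ g = tperm E ∧ (544 : ℕ).testBit (imgAt E 5) = true ∧
      (imgAt E 5 = 5 → fixCnt E = 24) := by
  obtain ⟨hgC, hg0⟩ := mem_Cen1.mp hg
  obtain ⟨hgM, hgc⟩ := mem_CenS.mp hgC
  have hgc1 : g * tperm X7 = tperm X7 ^ 1 * g := by rw [pow_one]; exact hgc
  have key := norm_idx (by norm_num : 1 < 7) hgc1 hg0
  have hg1 := key 1
  have hg2 := key 2
  have hg3 := key 3
  rw [p7_1, pk_1_1] at hg1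
  rw [p7_2, pk_1_2] at hg2
  rw [p7_3, pk_1_3] at hg3
  obtain ⟨E, hv, hP, hE⟩ := frame4 KID KID frameID_ok.1 frameID_ok.2.1 _ frameID_ok.2.2 g hgM
    (by
      intro j hj
      interval_cases j
      · exact hg0
      · exact hg1
      · exact hg2
      · exact hg3)
  rw [(normB_iff hv (by norm_num : 1 < 7)).mpr (by rw [← hE]; exact hgc1)] at hP
  simp only [Bool.not_true, Bool.false_or, Bool.and_eq_true, Bool.or_eq_true,
    Bool.not_eq_true'] at hP
  refine ⟨E, hv, hE, hP.1, fun h5 => ?_⟩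
  rcases hP.2 with h | h
  · rw [h5] at h
    exact absurd h (by decide)
  · exact Nat.eq_of_beq_eq_true h

theorem hup1C : ∀ g ∈ Cen1, g (idxPt 5) ∈ Lib.helper94.setOf 544 := by
  intro g hg
  obtain ⟨E, hv, hE, hD, -⟩ := frameID_use hg
  rw [mem_setOf, hE, tperm_idxPt hv (by norm_num), ptIdx_idxPt (validPerm_lt hv _ (by norm_num))]
  exact hD

theorem tperm_eq_one {E : ℕ} (hv : validPerm E = true) (h : fixCnt E = 24) : tperm E = 1 := by
  have h1 := card_fixed_tperm hv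
  rw [h, ← card_golayPt, ← Finset.card_univ, Finset.card_filter_eq_iff] at h1
  apply Equiv.ext
  intro p
  exact h1 p (Finset.mem_univ p)

theorem Cen2_eq : Cen2 = ⊥ := by
  rw [Subgroup.eq_bot_iff_forall]
  intro g hg
  obtain ⟨hg1, hg5⟩ := mem_Cen2.mp hg
  obtain ⟨E, hv, hE, -, h5⟩ := frameID_use hg1
  rw [hE]
  apply tperm_eq_one hv
  apply h5
  apply imgAt_of_img hv (by norm_num) (by norm_num)
  rw [← hE]
  exact hg5

theorem card_Cen1 : Nat.card Cen1 = 2 := by
  have h1 : Nat.card Cen1 = popc 544 * Nat.card ↥Cen2 :=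
    card_step Cen1 (idxPt 5) 544 (orbOK_sound orb1C_ok (by norm_num) Cen1 hHC1) hup1C
  rw [h1, Cen2_eq, Subgroup.card_bot, x7_ok.2.2.2.2.2.2.2.2.1]

theorem card_CenS : Nat.card CenS = 42 := by
  have h0 : Nat.card CenS = popc 15989759 * Nat.card ↥Cen1 :=
    card_step CenS (idxPt 0) 15989759 lowC (fun g hg => upN g (cen_le_nor hg))
  rw [h0, card_Cen1, x7_ok.2.2.2.2.2.2.2.1]

theorem hup1N : ∀ g ∈ Nor1, g (idxPt 1) ∈ Lib.helper94.setOf 22 := by
  intro g hg
  obtain ⟨hgN, hg0⟩ := mem_Nor1.mp hg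
  obtain ⟨hgM, k, hk, hgk⟩ := mem_NorS.mp hgN
  have key := norm_idx hk hgk hg0
  have hg1 := key 1
  have hg2 := key 2
  have hg3 := key 3
  rw [p7_1] at hg1
  rw [p7_2] at hg2
  rw [p7_3] at hg3
  have hin : ∀ j : ℕ, j < 24 → (22 : ℕ).testBit j = true → g (idxPt 1) = idxPt j →
      g (idxPt 1) ∈ Lib.helper94.setOf 22 := by
    intro j hj hb h
    rw [mem_setOf, h, ptIdx_idxPt hj]
    exact hb
  interval_cases k
  · rw [pk_0_1, ← hg0] at hg1
    exact absurd (g.injective hg1) (idxPt_ne (by norm_num) (by norm_num) (by norm_num))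
  · rw [pk_1_1] at hg1
    exact hin 1 (by norm_num) (by decide) hg1
  · rw [pk_2_1] at hg1
    exact hin 2 (by norm_num) (by decide) hg1
  · exfalso
    rw [pk_3_1] at hg1
    rw [pk_3_2] at hg2
    rw [pk_3_3] at hg3
    obtain ⟨E, hv, hP, hE⟩ := frame4 KN3 KN3i frameN3_ok.1 frameN3_ok.2.1 _ frameN3_ok.2.2 g hgM
      (by
        intro j hj
        interval_cases j
        · exact hg0
        · exact hg1
        · exact hg2
        · exact hg3)
    rw [(normB_iff hv (by norm_num : 3 < 7)).mpr (by rw [← hE]; exact hgk)] at hP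
    exact absurd hP (by decide)
  · rw [pk_4_1] at hg1
    exact hin 4 (by norm_num) (by decide) hg1
  · exfalso
    rw [pk_5_1] at hg1
    rw [pk_5_2] at hg2
    rw [pk_5_3] at hg3
    obtain ⟨E, hv, hP, hE⟩ := frame4 KN5 KN5i frameN5_ok.1 frameN5_ok.2.1 _ frameN5_ok.2.2 g hgM
      (by
        intro j hj
        interval_cases j
        · exact hg0
        · exact hg1
        · exact hg2
        · exact hg3)
    rw [(normB_iff hv (by norm_num : 5 < 7)).mpr (by rw [← hE]; exact hgk)] at hP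
    exact absurd hP (by decide)
  · exfalso
    rw [pk_6_1] at hg1
    rw [pk_6_2] at hg2
    rw [pk_6_3] at hg3
    obtain ⟨E, hv, hP, hE⟩ := frame4 KN6 KN6i frameN6_ok.1 frameN6_ok.2.1 _ frameN6_ok.2.2 g hgM
      (by
        intro j hj
        interval_cases j
        · exact hg0
        · exact hg1
        · exact hg2
        · exact hg3)
    rw [(normB_iff hv (by norm_num : 6 < 7)).mpr (by rw [← hE]; exact hgk)] at hP
    exact absurd hP (by decide)

theorem Nor2_eq : Nor2 = Cen1 := by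
  ext g
  constructor
  · intro hg
    obtain ⟨hg1', hg1⟩ := mem_Nor2.mp hg
    obtain ⟨hgN, hg0⟩ := mem_Nor1.mp hg1'
    obtain ⟨hgM, k, hk, hgk⟩ := mem_NorS.mp hgN
    have key := norm_idx hk hgk hg0 1
    rw [p7_1, hg1] at key
    have hk1 : k = 1 := by
      interval_cases k
      · rw [pk_0_1] at key
        exact absurd key (idxPt_ne (by norm_num) (by norm_num) (by norm_num))
      · rfl
      · rw [pk_2_1] at key
        exact absurd key (idxPt_ne (by norm_num) (by norm_num) (by norm_num))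
      · rw [pk_3_1] at key
        exact absurd key (idxPt_ne (by norm_num) (by norm_num) (by norm_num))
      · rw [pk_4_1] at key
        exact absurd key (idxPt_ne (by norm_num) (by norm_num) (by norm_num))
      · rw [pk_5_1] at key
        exact absurd key (idxPt_ne (by norm_num) (by norm_num) (by norm_num))
      · rw [pk_6_1] at key
        exact absurd key (idxPt_ne (by norm_num) (by norm_num) (by norm_num))
    subst hk1
    rw [pow_one] at hgk
    exact mem_Cen1.mpr ⟨mem_CenS.mpr ⟨hgM, hgk⟩, hg0⟩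
  · intro hg
    obtain ⟨hgC, hg0⟩ := mem_Cen1.mp hg
    obtain ⟨hgM, hgc⟩ := mem_CenS.mp hgC
    have hgc1 : g * tperm X7 = tperm X7 ^ 1 * g := by rw [pow_one]; exact hgc
    have key := norm_idx (by norm_num : 1 < 7) hgc1 hg0 1
    rw [p7_1, pk_1_1] at key
    exact mem_Nor2.mpr ⟨mem_Nor1.mpr ⟨cen_le_nor hgC, hg0⟩, key⟩

theorem card_NorS : Nat.card NorS = 126 := by
  have h0 : Nat.card NorS = popc 15989759 * Nat.card ↥Nor1 :=
    card_step NorS (idxPt 0) 15989759
      (fun q hq => by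
        obtain ⟨g, hg, h⟩ := lowC q hq
        exact ⟨g, cen_le_nor hg, h⟩) upN
  have h1 : Nat.card Nor1 = popc 22 * Nat.card ↥Nor2 :=
    card_step Nor1 (idxPt 1) 22 (orbOK_sound orb1N_ok (by norm_num) Nor1 hHN1) hup1N
  rw [h0, h1, Nor2_eq, card_Cen1, x7_ok.2.2.2.2.2.2.2.1, x7_ok.2.2.2.2.2.2.2.2.2]

/-- Every element of order 7 of `M24` is conjugate to the reference element or to its cube. -/
theorem order7_class (g : Equiv.Perm GolayPt) (hg : g ∈ M24) (h7 : orderOf g = 7) :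
    ∃ X ∈ [X7, xp 3], ∃ c ∈ M24, g = c * tperm X * c⁻¹ := by
  have hg7 : g ^ 7 = 1 := by rw [← h7]; exact pow_orderOf_eq_one g
  have hne : g ≠ 1 := by rintro rfl; simp at h7
  obtain ⟨a, ha⟩ : ∃ a, g a ≠ a := by
    by_contra hcon
    push Not at hcon
    exact hne (Equiv.ext hcon)
  have h7pt : g (g (g (g (g (g (g a)))))) = a := by
    have := congrArg (fun f : Equiv.Perm GolayPt => f a) hg7
    simpa [pow_succ] using this
  have hreps : ∀ X ∈ [X7, xp 3], validPerm X = true := by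
    intro X hX
    simp only [List.mem_cons, List.not_mem_nil, or_false] at hX
    rcases hX with rfl | rfl
    · exact hv7
    · exact xp_valid 3 (by norm_num)
  have N1 : a ≠ g a := Ne.symm ha
  have N2 : a ≠ g (g a) := by
    intro h
    have h' := h7pt
    rw [← h, ← h, ← h] at h'
    exact ha h'
  have N3 : a ≠ g (g (g a)) := by
    intro h
    have h' := h7pt
    rw [← h, ← h] at h'
    exact ha h'
  have N4 : a ≠ g (g (g (g a))) := by
    intro h
    have h' := h7pt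
    rw [← h] at h'
    rw [h'] at h
    exact ha h.symm
  obtain ⟨u, hu, h0, h1, h2, h3, h4⟩ := exists_frame a (g a) (g (g a)) (g (g (g a)))
    (g (g (g (g a)))) (by
    simp only [List.nodup_cons, List.mem_cons, List.not_mem_nil, or_false, not_or,
      List.nodup_nil, not_false_eq_true, and_true, EmbeddingLike.apply_eq_iff_eq]
    exact ⟨⟨N1, N2, N3, N4⟩, ⟨N1, N2, N3⟩, ⟨N1, N2⟩, N1⟩)
  refine class_of_frame K5 K5i frame7_ok.1 frame7_ok.2.1 _ _ _ hreps frame7_ok.2.2
    g hg u hu ?_ ?_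
  · intro j hj
    interval_cases j
    · exact conj_img h0 h1 rfl
    · exact conj_img h1 h2 rfl
    · exact conj_img h2 h3 rfl
    · exact conj_img h3 h4 rfl
  · intro E hv hE
    show powOne E 7 = true
    rw [powOne_iff hv, ← hE, conj_pow, hg7]
    group

/-- A subgroup of order 7 is generated by a conjugate of the reference element. -/
theorem gen7 (S : Subgroup ↥M24) (hS : Nat.card S = 7) :
    ∃ (x : ↥M24) (c : Equiv.Perm GolayPt), c ∈ M24 ∧ S = Subgroup.zpowers x ∧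
      (x : Equiv.Perm GolayPt) = c * tperm X7 * c⁻¹ := by
  have hp : Nat.Prime 7 := by norm_num
  obtain ⟨x₁, hx₁, hne⟩ := exists_ne_one_of_card_prime hp S hS
  obtain ⟨ho, hSx⟩ := eq_zpowers_of_card_prime hp S hS hx₁ hne
  obtain ⟨X, hX, c, hc, hxc⟩ := order7_class (x₁ : Equiv.Perm GolayPt) x₁.2
    (by rw [Subgroup.orderOf_coe]; exact ho)
  simp only [List.mem_cons, List.not_mem_nil, or_false] at hX
  rcases hX with rfl | rfl
  · exact ⟨x₁, c, hc, hSx, hxc⟩
  · have hx5 : x₁ ^ 5 ∈ S := S.pow_mem hx₁ 5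
    have hval : ((x₁ ^ 5 : ↥M24) : Equiv.Perm GolayPt) = c * tperm X7 * c⁻¹ := by
      rw [Subgroup.coe_pow, hxc, conj_pow, xp_pow 3 (by norm_num), ← pow_mul, ← pow_mod7]
      norm_num
    have hne5 : x₁ ^ 5 ≠ 1 := by
      intro h
      have h1 := congrArg Subtype.val h
      rw [hval] at h1
      have h2 : tperm X7 = 1 := by
        have h3 : c * tperm X7 * c⁻¹ = 1 := h1
        have h4 : tperm X7 = c⁻¹ * (c * tperm X7 * c⁻¹) * c := by group
        rw [h4, h3]
        group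
      exact x7_ne h2
    obtain ⟨-, hSx5⟩ := eq_zpowers_of_card_prime hp S hS hx5 hne5
    exact ⟨x₁ ^ 5, c, hc, hSx5, hval⟩

section transfer

variable (x : ↥M24) (c : Equiv.Perm GolayPt) (hc : c ∈ M24)
  (hx : (x : Equiv.Perm GolayPt) = c * tperm X7 * c⁻¹)

include hc hx

theorem norA (n : ↥M24) (hn : n ∈ Subgroup.normalizer (Subgroup.zpowers x : Set ↥M24)) :
    c⁻¹ * (n : Equiv.Perm GolayPt) * c ∈ NorS := by
  obtain ⟨k, hk⟩ := (mem_normalizer_zpowers x n).mp hn
  have hk' : (n : Equiv.Perm GolayPt) * (c * tperm X7 * c⁻¹) * (n : Equiv.Perm GolayPt)⁻¹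
      = (c * tperm X7 * c⁻¹) ^ k := by
    have := congrArg Subtype.val hk
    simp only [Subgroup.coe_mul, Subgroup.coe_inv, Subgroup.coe_pow] at this
    rw [hx] at this
    exact this
  refine mem_NorS0.mpr ⟨M24.mul_mem (M24.mul_mem (M24.inv_mem hc) n.2) hc, k, ?_⟩
  calc c⁻¹ * (n : Equiv.Perm GolayPt) * c * tperm X7 * (c⁻¹ * (n : Equiv.Perm GolayPt) * c)⁻¹
      = c⁻¹ * ((n : Equiv.Perm GolayPt) * (c * tperm X7 * c⁻¹) * (n : Equiv.Perm GolayPt)⁻¹) * c := by
        group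
    _ = c⁻¹ * (c * tperm X7 * c⁻¹) ^ k * c := by rw [hk']
    _ = tperm X7 ^ k := by rw [conj_pow]; group

theorem norB (m : Equiv.Perm GolayPt) (hm : m ∈ NorS) :
    ∃ h : c * m * c⁻¹ ∈ M24,
      (⟨c * m * c⁻¹, h⟩ : ↥M24) ∈ Subgroup.normalizer (Subgroup.zpowers x : Set ↥M24) := by
  obtain ⟨hmM, k, hk⟩ := mem_NorS0.mp hm
  have h : c * m * c⁻¹ ∈ M24 := M24.mul_mem (M24.mul_mem hc hmM) (M24.inv_mem hc)
  refine ⟨h, (mem_normalizer_zpowers x _).mpr ⟨k, Subtype.ext ?_⟩⟩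
  simp only [Subgroup.coe_mul, Subgroup.coe_inv, Subgroup.coe_pow]
  rw [hx]
  calc c * m * c⁻¹ * (c * tperm X7 * c⁻¹) * (c * m * c⁻¹)⁻¹
      = c * (m * tperm X7 * m⁻¹) * c⁻¹ := by group
    _ = c * tperm X7 ^ k * c⁻¹ := by rw [hk]
    _ = (c * tperm X7 * c⁻¹) ^ k := (conj_pow ..).symm

theorem card_norm :
    Nat.card ↥(Subgroup.normalizer (Subgroup.zpowers x : Set ↥M24)) = 126 := by
  rw [← card_NorS]
  apply Nat.card_congr
  exact
    { toFun := fun n => ⟨c⁻¹ * (n.1 : Equiv.Perm GolayPt) * c, norA x c hc hx n.1 n.2⟩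
      invFun := fun m => ⟨⟨c * m.1 * c⁻¹, (norB x c hc hx m.1 m.2).1⟩, (norB x c hc hx m.1 m.2).2⟩
      left_inv := fun n => Subtype.ext (Subtype.ext (by
        show c * (c⁻¹ * (n.1 : Equiv.Perm GolayPt) * c) * c⁻¹ = (n.1 : Equiv.Perm GolayPt)
        group))
      right_inv := fun m => Subtype.ext (by
        show c⁻¹ * (c * m.1 * c⁻¹) * c = m.1
        group) }

theorem cenA (n : ↥M24) (hn : n ∈ Subgroup.centralizer (Subgroup.zpowers x : Set ↥M24)) :
    c⁻¹ * (n : Equiv.Perm GolayPt) * c ∈ CenS := by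
  have hk := (mem_centralizer_zpowers x n).mp hn
  have hk' : (n : Equiv.Perm GolayPt) * (c * tperm X7 * c⁻¹)
      = (c * tperm X7 * c⁻¹) * (n : Equiv.Perm GolayPt) := by
    have := congrArg Subtype.val hk
    simp only [Subgroup.coe_mul] at this
    rw [hx] at this
    exact this
  refine mem_CenS.mpr ⟨M24.mul_mem (M24.mul_mem (M24.inv_mem hc) n.2) hc, ?_⟩
  calc c⁻¹ * (n : Equiv.Perm GolayPt) * c * tperm X7
      = c⁻¹ * ((n : Equiv.Perm GolayPt) * (c * tperm X7 * c⁻¹)) * c := by group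
    _ = c⁻¹ * ((c * tperm X7 * c⁻¹) * (n : Equiv.Perm GolayPt)) * c := by rw [hk']
    _ = tperm X7 * (c⁻¹ * (n : Equiv.Perm GolayPt) * c) := by group

theorem cenB (m : Equiv.Perm GolayPt) (hm : m ∈ CenS) :
    ∃ h : c * m * c⁻¹ ∈ M24,
      (⟨c * m * c⁻¹, h⟩ : ↥M24) ∈ Subgroup.centralizer (Subgroup.zpowers x : Set ↥M24) := by
  obtain ⟨hmM, hk⟩ := mem_CenS.mp hm
  have h : c * m * c⁻¹ ∈ M24 := M24.mul_mem (M24.mul_mem hc hmM) (M24.inv_mem hc)
  refine ⟨h, (mem_centralizer_zpowers x _).mpr (Subtype.ext ?_)⟩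
  simp only [Subgroup.coe_mul]
  rw [hx]
  calc c * m * c⁻¹ * (c * tperm X7 * c⁻¹) = c * (m * tperm X7) * c⁻¹ := by group
    _ = c * (tperm X7 * m) * c⁻¹ := by rw [hk]
    _ = c * tperm X7 * c⁻¹ * (c * m * c⁻¹) := by group

theorem card_cent :
    Nat.card ↥(Subgroup.centralizer (Subgroup.zpowers x : Set ↥M24)) = 42 := by
  rw [← card_CenS]
  apply Nat.card_congr
  exact
    { toFun := fun n => ⟨c⁻¹ * (n.1 : Equiv.Perm GolayPt) * c, cenA x c hc hx n.1 n.2⟩
      invFun := fun m => ⟨⟨c * m.1 * c⁻¹, (cenB x c hc hx m.1 m.2).1⟩, (cenB x c hc hx m.1 m.2).2⟩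
      left_inv := fun n => Subtype.ext (Subtype.ext (by
        show c * (c⁻¹ * (n.1 : Equiv.Perm GolayPt) * c) * c⁻¹ = (n.1 : Equiv.Perm GolayPt)
        group))
      right_inv := fun m => Subtype.ext (by
        show c⁻¹ * (c * m.1 * c⁻¹) * c = m.1
        group) }

theorem noncomm : ∃ a ∈ Subgroup.centralizer (Subgroup.zpowers x : Set ↥M24),
    ∃ b ∈ Subgroup.centralizer (Subgroup.zpowers x : Set ↥M24), a * b ≠ b * a := by
  have hk := ab_ok
  simp only [Bool.and_eq_true, Bool.not_eq_true'] at hk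
  obtain ⟨⟨⟨⟨hvA, hA⟩, hvB⟩, hB⟩, hAB⟩ := hk
  obtain ⟨hA1, hA2⟩ := cenB x c hc hx _ (hHC TA hvA hA)
  obtain ⟨hB1, hB2⟩ := cenB x c hc hx _ (hHC TB hvB hB)
  refine ⟨_, hA2, _, hB2, ?_⟩
  intro h
  have h1 := congrArg Subtype.val h
  simp only [Subgroup.coe_mul] at h1
  have h2 : tperm TA * tperm TB = tperm TB * tperm TA := by
    have e1 : tperm TA * tperm TB
        = c⁻¹ * ((c * tperm TA * c⁻¹) * (c * tperm TB * c⁻¹)) * c := by group
    rw [e1, h1]
    group
  rw [(conjOK_iff hvA hvB hvB).mpr h2] at hAB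
  exact absurd hAB (by decide)

theorem trio_fix : ∃ T ∈ trios, ∀ n ∈ Subgroup.normalizer (Subgroup.zpowers x : Set ↥M24),
    ((n : ↥M24) : Equiv.Perm GolayPt) • T = T := by
  have hcount : {T : Finset (Finset GolayPt) | T ∈ trios ∧
      (x : Equiv.Perm GolayPt) • T = T}.ncard = 1 := by
    rw [hx, fixed_trios_conj c _ hc, fixed_trios hv7]
    exact trio_ok
  obtain ⟨T, hT⟩ := Set.ncard_eq_one.mp hcount
  have hmem : ∀ T', (T' ∈ trios ∧ (x : Equiv.Perm GolayPt) • T' = T') ↔ T' = T := by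
    intro T'
    have := Set.ext_iff.mp hT T'
    simpa only [Set.mem_ofPred_eq, Set.mem_singleton_iff] using this
  obtain ⟨hTt, hxT⟩ := (hmem T).mpr rfl
  refine ⟨T, hTt, fun n hn => ?_⟩
  apply (hmem _).mp
  refine ⟨smul_mem_trios n.2 hTt, ?_⟩
  obtain ⟨k, hk⟩ := (mem_normalizer_zpowers x n⁻¹).mp (Subgroup.inv_mem _ hn)
  have hk' : (x : Equiv.Perm GolayPt) * (n : Equiv.Perm GolayPt)
      = (n : Equiv.Perm GolayPt) * (x : Equiv.Perm GolayPt) ^ k := by
    have := congrArg Subtype.val hk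
    simp only [Subgroup.coe_mul, Subgroup.coe_inv, Subgroup.coe_pow, inv_inv] at this
    rw [← this]
    group
  have hxk : ((x : Equiv.Perm GolayPt) ^ k) • T = T := by
    have hstab : (x : Equiv.Perm GolayPt) ∈ MulAction.stabilizer (Equiv.Perm GolayPt) T := hxT
    exact Subgroup.pow_mem _ hstab k
  rw [← mul_smul, hk', mul_smul, hxk]

end transfer


/-- For a subgroup S of order 7 of the group of the length-24 code (a Sylow 7-subgroup): the normaliser of S has order 126, the centraliser of S has order 42 and is non-abelian, and the whole normaliser leaves some trio invariant. (These are the orders of a Frobenius group of order 21 times a symmetric group of degree 3; the isomorphism type itself is not asserted here.) -/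
theorem result (S : Subgroup ↥Cfsg.M24) (hS : Nat.card S = 7) : Nat.card ↥(Subgroup.normalizer (S : Set ↥Cfsg.M24)) = 126 ∧ Nat.card ↥(Subgroup.centralizer (S : Set ↥Cfsg.M24)) = 42 ∧ (∃ x ∈ Subgroup.centralizer (S : Set ↥Cfsg.M24), ∃ y ∈ Subgroup.centralizer (S : Set ↥Cfsg.M24), x * y ≠ y * x) ∧ ∃ T ∈ Cfsg.trios, ∀ n ∈ Subgroup.normalizer (S : Set ↥Cfsg.M24), ((n : ↥Cfsg.M24) : Equiv.Perm Cfsg.GolayPt) • T = T := by
  obtain ⟨x, c, hc, hxS, hx⟩ := gen7 S hS
  subst hxS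
  exact ⟨card_norm x c hc hx, card_cent x c hc hx, noncomm x c hc hx, trio_fix x c hc hx⟩


end Cfsg.Agent.S5604
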