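import Cfsg.Statements.S5605
import Cfsg.Agent.Lib.helper94.M24EltCounts

set_option autoImplicit false
open scoped Pointwise
open Cfsg

open Cfsg.Agent.Lib.helper94

namespace Cfsg.Agent.S5605

/-- An involution of the group of the length-24 code with exactly 8 fixed points maps to themselves exactly 71 octads, exactly 99 trios and exactly 91 sextets. -/
theorem result (g : Equiv.Perm Cfsg.GolayPt) (hg : g ∈ Cfsg.M24) (h₂ : orderOf g = 2) (h₈ : (Finset.univ.filter fun p => g p = p).card = 8) : {o : Finset Cfsg.GolayPt | o ∈ Cfsg.octads ∧ g • o = o}.ncard = 71 ∧ {T : Finset (Finset Cfsg.GolayPt) | T ∈ Cfsg.trios ∧ g • T = T}.ncard = 99 ∧ {S : Finset (Finset Cfsg.GolayPt) | S ∈ Cfsg.sextets ∧ g • S = S}.ncard = 91 := by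
  obtain ⟨X, hX, c, hc, rfl⟩ := order2_class g hg h₂
  rw [card_fixed_conj] at h₈
  simp only [List.mem_cons, List.not_mem_nil, or_false] at hX
  rcases hX with rfl | rfl
  · have hv := repsElts_ok.2.2.1
    refine ⟨?_, ?_, ?_⟩
    · rw [fixed_octads_conj c _ hc, fixed_octads hv]; exact counts2A.1
    · rw [fixed_trios_conj c _ hc, fixed_trios hv]; exact counts2A.2.2.2
    · rw [fixed_sextets_conj c _ hc, fixed_sextets hv]; exact counts2A.2.2.1
  · exfalso
    rw [card_fixed_tperm repsElts_ok.2.2.2.1, repsElts_ok.2.2.2.2.2.2.2.2.2.2.2] at h₈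
    omega

end Cfsg.Agent.S5605
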