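import Cfsg.Statements.S5608
import Cfsg.Agent.Lib.helper94.M24Pow

set_option autoImplicit false
open scoped Pointwise
open Cfsg

open Cfsg.Agent.Lib.helper94

namespace Cfsg.Agent.S5608

open Cfsg.Agent.Lib.helper33 (validTbl)
open Cfsg.Agent.Lib.helper9 (bp base chkTbl)

set_option maxRecDepth 100000

/-- Frame table of a five-point path. -/
def K5 : List ℕ := [1, 2, 3, 4, 5, 6, 7, 8, 9, 10, 11, 12, 13, 14, 15, 16, 17, 18, 19, 20, 21, 22, 0, 23]

/-- Inverse of `K5`. -/
def K5i : List ℕ := [22, 0, 1, 2, 3, 4, 5, 6, 7, 8, 9, 10, 11, 12, 13, 14, 15, 16, 17, 18, 19, 20, 21, 23]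

/-- The fixed point numbers of the fourth and the third power. -/
def propE (E : ℕ) : Bool :=
  (Nat.beq (fixCntPow E 4) 6 && Nat.beq (fixCntPow E 3) 8) ||
    (Nat.beq (fixCntPow E 4) 0 && Nat.beq (fixCntPow E 3) 0)

theorem frameK5_ok : validTbl K5 K5i = true ∧ chkTbl K5 = true ∧
    frameCheck K5 (fun E => !(powOne E 6) || propE E) = true := by
  decide +kernel

theorem frameK32b_ok :
    frameCheck K32 (fun E => !(powOne E 6 && Nat.beq (imgAt E 4) 3) || propE E) = true := by
  decide +kernel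

theorem close {x s y u : Equiv.Perm GolayPt} {E : ℕ} (hv : validPerm E = true)
    (hE : u * y * u⁻¹ = tperm E) (hy4 : y ^ 4 = x) (hy3 : y ^ 3 = s) (h : propE E = true) :
    ((Finset.univ.filter fun p => x p = p).card = 6 ∧
      (Finset.univ.filter fun p => s p = p).card = 8) ∨
    ((Finset.univ.filter fun p => x p = p).card = 0 ∧
      (Finset.univ.filter fun p => s p = p).card = 0) := by
  rw [← hy4, ← hy3, card_fixed_of_conj_pow hv hE, card_fixed_of_conj_pow hv hE]
  rw [propE, Bool.or_eq_true, Bool.and_eq_true, Bool.and_eq_true] at h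
  rcases h with ⟨h1, h2⟩ | ⟨h1, h2⟩
  · exact Or.inl ⟨Nat.eq_of_beq_eq_true h1, Nat.eq_of_beq_eq_true h2⟩
  · exact Or.inr ⟨Nat.eq_of_beq_eq_true h1, Nat.eq_of_beq_eq_true h2⟩


/-- If an element of order 3 and an involution of the group of the length-24 code commute, then either the element of order 3 has exactly 6 fixed points and the involution exactly 8, or both are fixed-point-free. -/
theorem result (x s : Equiv.Perm Cfsg.GolayPt) (hx : x ∈ Cfsg.M24) (hs : s ∈ Cfsg.M24) (h₃ : orderOf x = 3) (h₂ : orderOf s = 2) (hc : Commute x s) : ((Finset.univ.filter fun p => x p = p).card = 6 ∧ (Finset.univ.filter fun p => s p = p).card = 8) ∨ ((Finset.univ.filter fun p => x p = p).card = 0 ∧ (Finset.univ.filter fun p => s p = p).card = 0) := by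
  have hx3 : x ^ 3 = 1 := by rw [← h₃]; exact pow_orderOf_eq_one x
  have hs2 : s ^ 2 = 1 := by rw [← h₂]; exact pow_orderOf_eq_one s
  have hxne : x ≠ 1 := by rintro rfl; simp at h₃
  have hsne : s ≠ 1 := by rintro rfl; simp at h₂
  have hyM : x * s ∈ M24 := M24.mul_mem hx hs
  have hy6 : (x * s) ^ 6 = 1 := by
    rw [hc.mul_pow, show x ^ 6 = (x ^ 3) ^ 2 by rw [← pow_mul], hx3,
      show s ^ 6 = (s ^ 2) ^ 3 by rw [← pow_mul], hs2]
    simp
  have hy4 : (x * s) ^ 4 = x := by
    rw [hc.mul_pow, show x ^ 4 = x ^ 3 * x by rw [pow_succ], hx3,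
      show s ^ 4 = (s ^ 2) ^ 2 by rw [← pow_mul], hs2]
    simp
  have hy3 : (x * s) ^ 3 = s := by
    rw [hc.mul_pow, hx3, show s ^ 3 = s ^ 2 * s by rw [pow_succ], hs2]
    simp
  have hx3pt : ∀ p, x (x (x p)) = p := fun p => by
    have := congrArg (fun f : Equiv.Perm GolayPt => f p) hx3
    simpa [pow_succ] using this
  have hs2pt : ∀ p, s (s p) = p := fun p => by
    have := congrArg (fun f : Equiv.Perm GolayPt => f p) hs2
    simpa [pow_succ] using this
  have hcpt : ∀ p, x (s p) = s (x p) := fun p => by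
    have := congrArg (fun f : Equiv.Perm GolayPt => f p) hc.eq
    simpa using this
  by_cases hA : ∃ a, x a ≠ a ∧ s a ≠ a
  · obtain ⟨a, hxa, hsa⟩ := hA
    have hs' : ∀ p, (x * s) ((x * s) ((x * s) p)) = s p := fun p => by
      have := congrArg (fun f : Equiv.Perm GolayPt => f p) hy3
      simpa [pow_succ] using this
    have hx' : ∀ p, (x * s) ((x * s) ((x * s) ((x * s) p))) = x p := fun p => by
      have := congrArg (fun f : Equiv.Perm GolayPt => f p) hy4
      simpa [pow_succ] using this
    generalize hyy : x * s = y at hyM hy6 hy4 hy3 hs' hx'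
    have N1 : a ≠ y a := by
      intro h
      apply hsa
      rw [← hs' a, ← h, ← h, ← h]
    have N2 : a ≠ y (y a) := by
      intro h
      apply hxa
      rw [← hx' a, ← h, ← h]
    have N3 : a ≠ y (y (y a)) := by
      rw [hs' a]
      exact Ne.symm hsa
    have N4 : a ≠ y (y (y (y a))) := by
      rw [hx' a]
      exact Ne.symm hxa
    obtain ⟨u, hu, h0, h1, h2, h3, h4⟩ := exists_frame a (y a) (y (y a)) (y (y (y a)))
      (y (y (y (y a)))) (by
      simp only [List.nodup_cons, List.mem_cons, List.not_mem_nil, or_false, not_or,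
        List.nodup_nil, not_false_eq_true, and_true, EmbeddingLike.apply_eq_iff_eq]
      exact ⟨⟨N1, N2, N3, N4⟩, ⟨N1, N2, N3⟩, ⟨N1, N2⟩, N1⟩)
    obtain ⟨E, hv, hP, hE⟩ := frame4 K5 K5i frameK5_ok.1 frameK5_ok.2.1 _ frameK5_ok.2.2
      (u * y * u⁻¹) (M24.mul_mem (M24.mul_mem hu hyM) (M24.inv_mem hu)) (by
        intro j hj
        interval_cases j
        · exact conj_img h0 h1 rfl
        · exact conj_img h1 h2 rfl
        · exact conj_img h2 h3 rfl
        · exact conj_img h3 h4 rfl)
    have hp6 : powOne E 6 = true := by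
      rw [powOne_iff hv, ← hE, conj_pow, hy6]
      group
    rw [hp6] at hP
    simp only [Bool.not_true, Bool.false_or] at hP
    exact close hv hE hy4 hy3 hP
  · push Not at hA
    obtain ⟨a, hxa⟩ : ∃ a, x a ≠ a := by
      by_contra hcon
      push Not at hcon
      exact hxne (Equiv.ext hcon)
    obtain ⟨d, hsd⟩ : ∃ d, s d ≠ d := by
      by_contra hcon
      push Not at hcon
      exact hsne (Equiv.ext hcon)
    have hsa : s a = a := hA a hxa
    have hxd : x d = d := by
      by_contra hcon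
      exact hsd (hA d hcon)
    have hxsd : x (s d) = s d := by rw [hcpt, hxd]
    have hbc : x (x a) ≠ x a := fun h => hxa (x.injective h)
    have hca : x (x a) ≠ a := fun h => hxa (by have := hx3pt a; rw [h] at this; exact this)
    have hcc : x (x (x a)) ≠ x (x a) := fun h => hbc (x.injective h)
    have fne : ∀ q p, x q = q → x p ≠ p → q ≠ p := by
      rintro q p hq hp rfl
      exact hp hq
    obtain ⟨u, hu, h0, h1, h2, h3, h4⟩ := exists_frame a (x a) (x (x a)) d (s d) (by
      simp only [List.nodup_cons, List.mem_cons, List.not_mem_nil, or_false, not_or,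
        List.nodup_nil, not_false_eq_true, and_true]
      exact ⟨⟨Ne.symm hxa, Ne.symm hca, Ne.symm (fne d a hxd hxa), Ne.symm (fne _ a hxsd hxa)⟩,
        ⟨Ne.symm hbc, Ne.symm (fne d _ hxd hbc), Ne.symm (fne _ _ hxsd hbc)⟩,
        ⟨Ne.symm (fne d _ hxd hcc), Ne.symm (fne _ _ hxsd hcc)⟩, Ne.symm hsd⟩)
    obtain ⟨E, hv, hP, hE⟩ := frame4 K32 K32i frameK32_ok.1 frameK32_ok.2.1 _ frameK32b_ok
      (u * (x * s) * u⁻¹) (M24.mul_mem (M24.mul_mem hu hyM) (M24.inv_mem hu)) (by
        intro j hj
        interval_cases j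
        · exact conj_img h0 h1 (by rw [Equiv.Perm.mul_apply, hsa])
        · exact conj_img h1 h2 (by rw [Equiv.Perm.mul_apply, ← hcpt, hsa])
        · exact conj_img h2 h0 (by rw [Equiv.Perm.mul_apply, ← hcpt, ← hcpt, hsa, hx3pt])
        · exact conj_img h3 h4 (by rw [Equiv.Perm.mul_apply, hcpt, hxd]))
    have hp6 : powOne E 6 = true := by
      rw [powOne_iff hv, ← hE, conj_pow, hy6]
      group
    have h43 : Nat.beq (imgAt E 4) 3 = true := by
      have : imgAt E 4 = 3 := by
        apply imgAt_of_img hv (by norm_num) (by norm_num)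
        rw [← hE]
        exact conj_img h4 h3 (by rw [Equiv.Perm.mul_apply, hs2pt, hxd])
      rw [this]
      rfl
    rw [hp6, h43] at hP
    simp only [Bool.and_self, Bool.not_true, Bool.false_or] at hP
    exact close hv hE hy4 hy3 hP

end Cfsg.Agent.S5608
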