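import Cfsg.Statements.S5609
import Cfsg.Agent.Lib.helper34.GolayOctPairs
import Cfsg.Agent.Lib.helper34.GolayRigid

set_option autoImplicit false
open scoped Pointwise
open Cfsg

namespace Cfsg.Agent.S5609

open Cfsg.Agent.Lib.helper34

theorem adj_iff (a b : ↥octads) :
    (blockGraph octads).Adj a b ↔ a ≠ b ∧ Disjoint (a : Finset GolayPt) (b : Finset GolayPt) := by
  unfold blockGraph
  rw [SimpleGraph.fromRel_adj]
  constructor
  · rintro ⟨hne, h | h⟩
    · exact ⟨hne, h⟩
    · exact ⟨hne, h.symm⟩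
  · rintro ⟨hne, h⟩
    exact ⟨hne, Or.inl h⟩

theorem ne_of_disjoint {a b : Finset GolayPt} (ha : a ∈ octads) (h : Disjoint a b) : a ≠ b := by
  rintro rfl
  have h1 : a = ∅ := by simpa using h
  have h2 : a.card = 8 := ha.2
  rw [h1] at h2
  simp at h2

theorem adj_of_disjoint {a b : Finset GolayPt} (ha : a ∈ octads) (hb : b ∈ octads)
    (h : Disjoint a b) : (blockGraph octads).Adj ⟨a, ha⟩ ⟨b, hb⟩ :=
  (adj_iff _ _).mpr ⟨fun e => ne_of_disjoint ha h (congrArg Subtype.val e), h⟩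

theorem exists_mid {V : Type*} {G : SimpleGraph V} {u v : V} (p : G.Walk u v)
    (hp : p.length = 2) : ∃ w, G.Adj u w ∧ G.Adj w v := by
  cases p with
  | nil => simp at hp
  | cons h q =>
    cases q with
    | nil => simp at hp
    | cons h' r =>
      cases r with
      | nil => exact ⟨_, h, h'⟩
      | cons _ _ => simp at hp

theorem mem_octads_encF {u : ℕ} (hu : u < 4096) (hp : popF (encF u) = 8) :
    unmask (encF u) ∈ octads := by
  rw [mem_octads_iff, mask_unmask (encF_lt u), isCodeB_iff]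
  exact ⟨isCode_encF hu, hp⟩

theorem disjoint_unmask {a b : ℕ} (ha : a < 2 ^ 24) (hb : b < 2 ^ 24) (h : a &&& b = 0) :
    Disjoint (unmask a) (unmask b) := by
  rw [disjoint_iff_mask, mask_unmask ha, mask_unmask hb]
  exact h

/-- Base pair meeting in four points: a common neighbour. -/
theorem base4 : ∃ w ∈ octads, Disjoint (unmask octad0) w ∧
    Disjoint w (unmask (encF (valOct 4))) :=
  ⟨unmask (encF 1972), mem_octads_encF (by norm_num) (by decide +kernel),
    disjoint_unmask octad0_lt (encF_lt _) (by decide +kernel),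
    disjoint_unmask (encF_lt _) (encF_lt _) (by decide +kernel)⟩

/-- Base pair meeting in two points: a path of length three. -/
theorem base2 : ∃ a ∈ octads, ∃ b ∈ octads, Disjoint (unmask octad0) a ∧ Disjoint a b ∧
    Disjoint b (unmask (encF (valOct 2))) :=
  ⟨unmask (encF 150), mem_octads_encF (by norm_num) (by decide +kernel),
    unmask (encF 1824), mem_octads_encF (by norm_num) (by decide +kernel),
    disjoint_unmask octad0_lt (encF_lt _) (by decide +kernel),
    disjoint_unmask (encF_lt _) (encF_lt _) (by decide +kernel),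
    disjoint_unmask (encF_lt _) (encF_lt _) (by decide +kernel)⟩

theorem base2_aux : allBelow (fun u => !(and (Nat.beq (popF (encF u)) 8)
    (and (Nat.beq (Nat.land octad0 (encF u)) 0)
      (Nat.beq (Nat.land (encF u) (encF (valOct 2))) 0)))) 4096 = true := by decide +kernel

/-- Base pair meeting in two points: no common neighbour. -/
theorem base2_none : ¬ ∃ w ∈ octads, Disjoint (unmask octad0) w ∧
    Disjoint w (unmask (encF (valOct 2))) := by
  rintro ⟨w, hw, h1, h2⟩
  obtain ⟨hs, hp⟩ := (mem_octads_iff _).mp hw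
  obtain ⟨hlt, ee⟩ := code_index ((mem_supports_iffB _).mpr hs)
  have h := allBelow_spec base2_aux _ hlt
  rw [disjoint_iff_mask, mask_octad0] at h1
  rw [disjoint_iff_mask, mask_unmask (encF_lt _)] at h2
  rw [ee, hp] at h
  have e1 : Nat.land octad0 (mask w) = 0 := h1
  have e2 : Nat.land (mask w) (encF (valOct 2)) = 0 := h2
  rw [e1, e2] at h
  exact absurd h (by decide)

/-- Transport of a pair of octads to the base pair. -/
theorem transport {o o' : Finset GolayPt} (ho : o ∈ octads) (ho' : o' ∈ octads) :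
    ∃ h ∈ M24, h • o = unmask octad0 ∧ h • o' = unmask (encF (valOct (o ∩ o').card)) :=
  flag_octad_pair ho ho'

theorem common4 {o o' : Finset GolayPt} (ho : o ∈ octads) (ho' : o' ∈ octads)
    (hc : (o ∩ o').card = 4) : ∃ w ∈ octads, Disjoint o w ∧ Disjoint w o' := by
  obtain ⟨h, hh, e1, e2⟩ := transport ho ho'
  rw [hc] at e2
  obtain ⟨w, hw, d1, d2⟩ := base4
  refine ⟨h⁻¹ • w, (smul_mem_octads_iff (M24.inv_mem hh) _).mpr hw, ?_, ?_⟩
  · rw [← disjoint_smul_iff h, e1, smul_inv_smul]; exact d1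
  · rw [← disjoint_smul_iff h, e2, smul_inv_smul]; exact d2

theorem path2 {o o' : Finset GolayPt} (ho : o ∈ octads) (ho' : o' ∈ octads)
    (hc : (o ∩ o').card = 2) : ∃ a ∈ octads, ∃ b ∈ octads, Disjoint o a ∧ Disjoint a b ∧
      Disjoint b o' := by
  obtain ⟨h, hh, e1, e2⟩ := transport ho ho'
  rw [hc] at e2
  obtain ⟨a, ha, b, hb, d1, d2, d3⟩ := base2
  have hi := M24.inv_mem hh
  refine ⟨h⁻¹ • a, (smul_mem_octads_iff hi _).mpr ha, h⁻¹ • b, (smul_mem_octads_iff hi _).mpr hb,
    ?_, ?_, ?_⟩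
  · rw [← disjoint_smul_iff h, e1, smul_inv_smul]; exact d1
  · rw [disjoint_smul_iff]; exact d2
  · rw [← disjoint_smul_iff h, e2, smul_inv_smul]; exact d3

theorem none2 {o o' : Finset GolayPt} (ho : o ∈ octads) (ho' : o' ∈ octads)
    (hc : (o ∩ o').card = 2) : ¬ ∃ w ∈ octads, Disjoint o w ∧ Disjoint w o' := by
  obtain ⟨h, hh, e1, e2⟩ := transport ho ho'
  rw [hc] at e2
  rintro ⟨w, hw, d1, d2⟩
  apply base2_none
  refine ⟨h • w, (smul_mem_octads_iff hh _).mpr hw, ?_, ?_⟩
  · rw [← e1, disjoint_smul_iff]; exact d1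
  · rw [← e2, disjoint_smul_iff]; exact d2

theorem dist0 {o o' : Finset GolayPt} (ho : o ∈ octads) (ho' : o' ∈ octads)
    (hc : (o ∩ o').card = 0) : (blockGraph octads).dist ⟨o, ho⟩ ⟨o', ho'⟩ = 1 := by
  rw [SimpleGraph.dist_eq_one_iff_adj]
  apply adj_of_disjoint
  rw [Finset.disjoint_iff_inter_eq_empty]
  exact Finset.card_eq_zero.mp hc

theorem not_adj {o o' : Finset GolayPt} (ho : o ∈ octads) (ho' : o' ∈ octads)
    (hc : (o ∩ o').card ≠ 0) : ¬ (blockGraph octads).Adj ⟨o, ho⟩ ⟨o', ho'⟩ := by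
  intro h
  apply hc
  have := ((adj_iff _ _).mp h).2
  rw [Finset.disjoint_iff_inter_eq_empty] at this
  exact Finset.card_eq_zero.mpr this

theorem dist4 {o o' : Finset GolayPt} (ho : o ∈ octads) (ho' : o' ∈ octads) (hne : o ≠ o')
    (hc : (o ∩ o').card = 4) : (blockGraph octads).dist ⟨o, ho⟩ ⟨o', ho'⟩ = 2 := by
  obtain ⟨w, hw, d1, d2⟩ := common4 ho ho' hc
  have a1 := adj_of_disjoint ho hw d1
  have a2 := adj_of_disjoint hw ho' d2
  have hle := SimpleGraph.dist_le (SimpleGraph.Walk.cons a1 (SimpleGraph.Walk.cons a2 SimpleGraph.Walk.nil))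
  have hr : (blockGraph octads).Reachable ⟨o, ho⟩ ⟨o', ho'⟩ :=
    (SimpleGraph.Walk.cons a1 (SimpleGraph.Walk.cons a2 SimpleGraph.Walk.nil)).reachable
  have h0 : (blockGraph octads).dist ⟨o, ho⟩ ⟨o', ho'⟩ ≠ 0 := by
    rw [Ne, hr.dist_eq_zero_iff]
    exact fun e => hne (congrArg Subtype.val e)
  have h1 : (blockGraph octads).dist ⟨o, ho⟩ ⟨o', ho'⟩ ≠ 1 := by
    rw [Ne, SimpleGraph.dist_eq_one_iff_adj]
    exact not_adj ho ho' (by rw [hc]; norm_num)
  simp only [SimpleGraph.Walk.length_cons, SimpleGraph.Walk.length_nil] at hle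
  omega

theorem dist2 {o o' : Finset GolayPt} (ho : o ∈ octads) (ho' : o' ∈ octads) (hne : o ≠ o')
    (hc : (o ∩ o').card = 2) : (blockGraph octads).dist ⟨o, ho⟩ ⟨o', ho'⟩ = 3 := by
  obtain ⟨a, ha, b, hb, d1, d2, d3⟩ := path2 ho ho' hc
  have a1 := adj_of_disjoint ho ha d1
  have a2 := adj_of_disjoint ha hb d2
  have a3 := adj_of_disjoint hb ho' d3
  have hle := SimpleGraph.dist_le (SimpleGraph.Walk.cons a1 (SimpleGraph.Walk.cons a2
    (SimpleGraph.Walk.cons a3 SimpleGraph.Walk.nil)))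
  have hr : (blockGraph octads).Reachable ⟨o, ho⟩ ⟨o', ho'⟩ :=
    (SimpleGraph.Walk.cons a1 (SimpleGraph.Walk.cons a2
      (SimpleGraph.Walk.cons a3 SimpleGraph.Walk.nil))).reachable
  have h0 : (blockGraph octads).dist ⟨o, ho⟩ ⟨o', ho'⟩ ≠ 0 := by
    rw [Ne, hr.dist_eq_zero_iff]
    exact fun e => hne (congrArg Subtype.val e)
  have h1 : (blockGraph octads).dist ⟨o, ho⟩ ⟨o', ho'⟩ ≠ 1 := by
    rw [Ne, SimpleGraph.dist_eq_one_iff_adj]
    exact not_adj ho ho' (by rw [hc]; norm_num)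
  have h2 : (blockGraph octads).dist ⟨o, ho⟩ ⟨o', ho'⟩ ≠ 2 := by
    intro h2
    obtain ⟨p, hp⟩ := hr.exists_walk_length_eq_dist
    rw [h2] at hp
    obtain ⟨w, hw1, hw2⟩ := exists_mid p hp
    exact none2 ho ho' hc ⟨w.1, w.2, ((adj_iff _ _).mp hw1).2, ((adj_iff _ _).mp hw2).2⟩
  simp only [SimpleGraph.Walk.length_cons, SimpleGraph.Walk.length_nil] at hle
  omega

theorem reach {o o' : Finset GolayPt} (ho : o ∈ octads) (ho' : o' ∈ octads) :
    (blockGraph octads).Reachable ⟨o, ho⟩ ⟨o', ho'⟩ := by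
  by_cases hne : o = o'
  · subst hne
    exact SimpleGraph.Reachable.refl _
  · rcases octad_inter_cases ho ho' hne with hc | hc | hc
    · exact ((SimpleGraph.dist_eq_one_iff_adj).mp (dist0 ho ho' hc)).reachable
    · obtain ⟨a, ha, b, hb, d1, d2, d3⟩ := path2 ho ho' hc
      exact (SimpleGraph.Walk.cons (adj_of_disjoint ho ha d1) (SimpleGraph.Walk.cons
        (adj_of_disjoint ha hb d2) (SimpleGraph.Walk.cons (adj_of_disjoint hb ho' d3)
          SimpleGraph.Walk.nil))).reachable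
    · obtain ⟨w, hw, d1, d2⟩ := common4 ho ho' hc
      exact (SimpleGraph.Walk.cons (adj_of_disjoint ho hw d1) (SimpleGraph.Walk.cons
        (adj_of_disjoint hw ho' d2) SimpleGraph.Walk.nil)).reachable


/-- In the graph on the 759 octads of the length-24 code in which two octads are adjacent when they are disjoint, the graph is connected (of diameter 3) and two distinct octads are at distance 1, 2 or 3 exactly when they meet in 0, 4 or 2 points respectively. -/
theorem result (o o' : Finset Cfsg.GolayPt) (ho : o ∈ Cfsg.octads) (ho' : o' ∈ Cfsg.octads) (hne : o ≠ o') : (Cfsg.blockGraph Cfsg.octads).Connected ∧ ((Cfsg.blockGraph Cfsg.octads).dist ⟨o, ho⟩ ⟨o', ho'⟩ = 1 ↔ (o ∩ o').card = 0) ∧ ((Cfsg.blockGraph Cfsg.octads).dist ⟨o, ho⟩ ⟨o', ho'⟩ = 2 ↔ (o ∩ o').card = 4) ∧ ((Cfsg.blockGraph Cfsg.octads).dist ⟨o, ho⟩ ⟨o', ho'⟩ = 3 ↔ (o ∩ o').card = 2) := by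
  have hconn : (Cfsg.blockGraph Cfsg.octads).Connected := by
    have : Nonempty ↥octads := ⟨⟨o, ho⟩⟩
    exact ⟨fun u v => reach u.2 v.2⟩
  refine ⟨hconn, ?_, ?_, ?_⟩
  · constructor
    · intro h
      rcases octad_inter_cases ho ho' hne with hc | hc | hc
      · exact hc
      · rw [dist2 ho ho' hne hc] at h; omega
      · rw [dist4 ho ho' hne hc] at h; omega
    · exact dist0 ho ho'
  · constructor
    · intro h
      rcases octad_inter_cases ho ho' hne with hc | hc | hc
      · rw [dist0 ho ho' hc] at h; omega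
      · rw [dist2 ho ho' hne hc] at h; omega
      · exact hc
    · exact dist4 ho ho' hne
  · constructor
    · intro h
      rcases octad_inter_cases ho ho' hne with hc | hc | hc
      · rw [dist0 ho ho' hc] at h; omega
      · exact hc
      · rw [dist4 ho ho' hne hc] at h; omega
    · exact dist2 ho ho' hne

end Cfsg.Agent.S5609
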