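import Cfsg.Statements.S5613
import Cfsg.Agent.Lib.helper33.OctadStab
import Cfsg.Agent.Lib.helper33.OctadCounts

set_option autoImplicit false
open Cfsg

namespace Cfsg.Agent.S5613

open Cfsg.Agent.Lib.helper33 Cfsg.Agent.Lib.helper9
open scoped Pointwise

theorem stab_pair (a b : Finset GolayPt) :
    MulAction.stabilizer M24 a ⊓ MulAction.stabilizer M24 b =
      MulAction.stabilizer M24 ((a, b) : Finset GolayPt × Finset GolayPt) := by
  ext g
  simp only [MulAction.mem_stabilizer_iff, Subgroup.mem_inf, Prod.smul_mk, Prod.mk.injEq]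

/-- the joint stabiliser of the base octad and another octad, by orbit counting -/
theorem card_base (o' : Finset GolayPt) (ho' : o' ∈ octads) (k N : ℕ)
    (hk : (oct0 ∩ o').card = k)
    (hN : (octF.filter (fun x => (oct0 ∩ x).card = k)).card = N) :
    N * Nat.card ↥(MulAction.stabilizer M24 oct0 ⊓ MulAction.stabilizer M24 o') = 322560 := by
  have e2 : M24 ⊓ MulAction.stabilizer (Equiv.Perm GolayPt)
      ((oct0, o') : Finset GolayPt × Finset GolayPt) =
      stabOct oct0 ⊓ MulAction.stabilizer (Equiv.Perm GolayPt) o' := by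
    ext g
    simp only [stabOct, Subgroup.mem_inf, MulAction.mem_stabilizer_iff, Prod.smul_mk,
      Prod.mk.injEq, and_assoc]
  rw [stab_pair, ← card_inf_stabilizer M24 ((oct0, o') : Finset GolayPt × Finset GolayPt), e2,
    card_inf_stabilizer (stabOct oct0) o']
  have h := natCard_orbit_mul_stab (G := stabOct oct0) o'
  rw [card_stabOct oct0_mem] at h
  have horb : MulAction.orbit (stabOct oct0) o' =
      ((octF.filter (fun x => (oct0 ∩ x).card = k) : Finset (Finset GolayPt)) :
        Set (Finset GolayPt)) := by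
    ext x
    simp only [Finset.coe_filter, Set.mem_ofPred_eq, mem_octF]
    constructor
    · rintro ⟨τ, rfl⟩
      have hτ := mem_stabOct.1 τ.2
      refine ⟨smul_mem_octads _ hτ.1 o' ho', ?_⟩
      have : (τ : Equiv.Perm GolayPt) • (oct0 ∩ o') = oct0 ∩ (τ : Equiv.Perm GolayPt) • o' := by
        rw [Finset.smul_finset_inter, hτ.2]
      show (oct0 ∩ (τ : Equiv.Perm GolayPt) • o').card = k
      rw [← this, Finset.card_smul_finset, hk]
    · rintro ⟨hx, hxk⟩
      obtain ⟨σ, hσ, rfl⟩ := stabOct0_orbits ho' hx (by rw [hk, hxk])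
      exact ⟨⟨σ, hσ⟩, rfl⟩
  rw [horb] at h
  rw [← hN, ← h]
  congr 1
  rw [Nat.card_coe_set_eq, Set.ncard_coe_finset]

theorem card_joint (o o' : Finset GolayPt) (ho : o ∈ octads) (ho' : o' ∈ octads) (k N : ℕ)
    (hk : (o ∩ o').card = k)
    (hN : (octF.filter (fun x => (oct0 ∩ x).card = k)).card = N) :
    N * Nat.card ↥(MulAction.stabilizer M24 o ⊓ MulAction.stabilizer M24 o') = 322560 := by
  obtain ⟨σ, hσ, rfl⟩ := exists_smul_oct0 ho
  have ho'' : σ⁻¹ • o' ∈ octads := smul_mem_octads σ⁻¹ (M24.inv_mem hσ) o' ho'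
  have hc : (oct0 ∩ σ⁻¹ • o').card = k := by
    have : σ • (oct0 ∩ σ⁻¹ • o') = σ • oct0 ∩ o' := by
      rw [Finset.smul_finset_inter, smul_inv_smul]
    rw [← hk, ← this, Finset.card_smul_finset]
  have hg : ((σ • oct0, o') : Finset GolayPt × Finset GolayPt) =
      (⟨σ, hσ⟩ : M24) • ((oct0, σ⁻¹ • o') : Finset GolayPt × Finset GolayPt) := by
    show (σ • oct0, o') = (σ • oct0, σ • σ⁻¹ • o')
    rw [smul_inv_smul]
  have e := (MulEquiv.subgroupCongr (stab_pair (σ • oct0) o')).trans
    ((MulAction.stabilizerEquivStabilizer hg).symm.trans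
      (MulEquiv.subgroupCongr (stab_pair oct0 (σ⁻¹ • o'))).symm)
  rw [Nat.card_congr e.toEquiv]
  exact card_base _ ho'' k N hc hN

/-- In the group of the length-24 code, the joint stabiliser of two octads has order 10752, 1152 or 720 according as the octads meet in 0, 4 or 2 points. -/
theorem result (o o' : Finset Cfsg.GolayPt) (ho : o ∈ Cfsg.octads) (ho' : o' ∈ Cfsg.octads) : ((o ∩ o').card = 0 → Nat.card ↥(MulAction.stabilizer Cfsg.M24 o ⊓ MulAction.stabilizer Cfsg.M24 o') = 10752) ∧ ((o ∩ o').card = 4 → Nat.card ↥(MulAction.stabilizer Cfsg.M24 o ⊓ MulAction.stabilizer Cfsg.M24 o') = 1152) ∧ ((o ∩ o').card = 2 → Nat.card ↥(MulAction.stabilizer Cfsg.M24 o ⊓ MulAction.stabilizer Cfsg.M24 o') = 720) := by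
  refine ⟨fun h => ?_, fun h => ?_, fun h => ?_⟩
  · have := card_joint o o' ho ho' 0 30 h (card_octF_inter_card0 oct0_mem)
    omega
  · have := card_joint o o' ho ho' 4 280 h (card_octF_inter_card4 oct0_mem)
    omega
  · have := card_joint o o' ho ho' 2 448 h (card_octF_inter_card2 oct0_mem)
    omega

end Cfsg.Agent.S5613
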