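import Cfsg.Statements.S5614
import Cfsg.Agent.Lib.helper6.M21
import Cfsg.Agent.Lib.helper6.Compat
import Cfsg.Agent.Lib.helper33.OctadStab
import Cfsg.Agent.Lib.helper33.OctadCounts

set_option autoImplicit false
open Cfsg

namespace Cfsg.Agent.S5614

open Cfsg.Agent.Lib.helper6 Cfsg.Agent.Lib.helper6.M21 Cfsg.Agent.Lib.helper33
open Cfsg.Agent.Lib.helper9
open scoped Pointwise

/-- the second base octad; it meets `oct0` in two points -/
def o1 : Finset GolayPt := decSet 31554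

theorem o1_mem : o1 ∈ octads := decSet_mem_octads 31554 (by decide +kernel) (by decide +kernel)

theorem inter_card : (oct0 ∩ o1).card = 2 := by
  rw [o1, card_oct0_inter]
  decide +kernel

/-- the six points of `oct0` outside `o1` -/
def labN : Fin 6 → ℕ := ![0, 2, 3, 4, 7, 10]

/-- the six points of `oct0` outside `o1` -/
def lab (k : Fin 6) : GolayPt := hpt (labN k)

theorem lab_inj : Function.Injective lab := by decide

def tb0 : List ℕ := [2, 12, 0, 3, 4, 15, 13, 7, 11, 14, 10, 8, 1, 6, 9, 5, 21, 17, 23, 19, 20, 16, 22, 18]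
def tb0' : List ℕ := [2, 12, 0, 3, 4, 15, 13, 7, 11, 14, 10, 8, 1, 6, 9, 5, 21, 17, 23, 19, 20, 16, 22, 18]
def sg0 : Equiv.Perm GolayPt := tblPerm tb0 tb0' (by decide) (by decide)
theorem sg0_mem : sg0 ∈ M24 := tblPerm_mem _ _ _ _ (by decide) (by decide +kernel)
theorem sg0_oct0 : sg0 • oct0 = oct0 := by decide
theorem sg0_o1 : sg0 • o1 = o1 := by decide
theorem sg0_lab : ∀ k, sg0 (lab k) =
    lab (Equiv.swap (Fin.castSucc (0 : Fin 5)) (Fin.succ (0 : Fin 5)) k) := by decide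

def tb1 : List ℕ := [0, 12, 3, 2, 4, 5, 8, 7, 6, 13, 10, 14, 1, 9, 11, 20, 16, 21, 18, 23, 15, 17, 22, 19]
def tb1' : List ℕ := [0, 12, 3, 2, 4, 5, 8, 7, 6, 13, 10, 14, 1, 9, 11, 20, 16, 21, 18, 23, 15, 17, 22, 19]
def sg1 : Equiv.Perm GolayPt := tblPerm tb1 tb1' (by decide) (by decide)
theorem sg1_mem : sg1 ∈ M24 := tblPerm_mem _ _ _ _ (by decide) (by decide +kernel)
theorem sg1_oct0 : sg1 • oct0 = oct0 := by decide
theorem sg1_o1 : sg1 • o1 = o1 := by decide
theorem sg1_lab : ∀ k, sg1 (lab k) =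
    lab (Equiv.swap (Fin.castSucc (1 : Fin 5)) (Fin.succ (1 : Fin 5)) k) := by decide

def tb2 : List ℕ := [0, 12, 2, 4, 3, 5, 13, 7, 14, 11, 10, 9, 1, 6, 8, 15, 23, 17, 21, 19, 22, 18, 20, 16]
def tb2' : List ℕ := [0, 12, 2, 4, 3, 5, 13, 7, 14, 11, 10, 9, 1, 6, 8, 15, 23, 17, 21, 19, 22, 18, 20, 16]
def sg2 : Equiv.Perm GolayPt := tblPerm tb2 tb2' (by decide) (by decide)
theorem sg2_mem : sg2 ∈ M24 := tblPerm_mem _ _ _ _ (by decide) (by decide +kernel)
theorem sg2_oct0 : sg2 • oct0 = oct0 := by decide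
theorem sg2_o1 : sg2 • o1 = o1 := by decide
theorem sg2_lab : ∀ k, sg2 (lab k) =
    lab (Equiv.swap (Fin.castSucc (2 : Fin 5)) (Fin.succ (2 : Fin 5)) k) := by decide

def tb3 : List ℕ := [0, 12, 2, 3, 7, 16, 14, 4, 11, 13, 10, 8, 1, 9, 6, 21, 5, 20, 18, 19, 17, 15, 22, 23]
def tb3' : List ℕ := [0, 12, 2, 3, 7, 16, 14, 4, 11, 13, 10, 8, 1, 9, 6, 21, 5, 20, 18, 19, 17, 15, 22, 23]
def sg3 : Equiv.Perm GolayPt := tblPerm tb3 tb3' (by decide) (by decide)
theorem sg3_mem : sg3 ∈ M24 := tblPerm_mem _ _ _ _ (by decide) (by decide +kernel)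
theorem sg3_oct0 : sg3 • oct0 = oct0 := by decide
theorem sg3_o1 : sg3 • o1 = o1 := by decide
theorem sg3_lab : ∀ k, sg3 (lab k) =
    lab (Equiv.swap (Fin.castSucc (3 : Fin 5)) (Fin.succ (3 : Fin 5)) k) := by decide

def tb4 : List ℕ := [0, 12, 2, 3, 4, 5, 13, 10, 9, 8, 7, 14, 1, 6, 11, 15, 18, 19, 16, 17, 20, 23, 22, 21]
def tb4' : List ℕ := [0, 12, 2, 3, 4, 5, 13, 10, 9, 8, 7, 14, 1, 6, 11, 15, 18, 19, 16, 17, 20, 23, 22, 21]
def sg4 : Equiv.Perm GolayPt := tblPerm tb4 tb4' (by decide) (by decide)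
theorem sg4_mem : sg4 ∈ M24 := tblPerm_mem _ _ _ _ (by decide) (by decide +kernel)
theorem sg4_oct0 : sg4 • oct0 = oct0 := by decide
theorem sg4_o1 : sg4 • o1 = o1 := by decide
theorem sg4_lab : ∀ k, sg4 (lab k) =
    lab (Equiv.swap (Fin.castSucc (4 : Fin 5)) (Fin.succ (4 : Fin 5)) k) := by decide

/-- the joint stabiliser of the two base octads -/
abbrev H₀ : Subgroup ↥M24 := MulAction.stabilizer M24 oct0 ⊓ MulAction.stabilizer M24 o1

/-- the joint stabiliser acting on the 24 points -/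
def phi : ↥H₀ →* Equiv.Perm GolayPt := (M24.subtype).comp H₀.subtype

theorem compat_of_data (τ : Equiv.Perm (Fin 6)) (σ : Equiv.Perm GolayPt) (hσ : σ ∈ M24)
    (h0 : σ • oct0 = oct0) (h1 : σ • o1 = o1) (h2 : ∀ k, σ (lab k) = lab (τ k)) :
    τ ∈ compatLeft (MonoidHom.id (Equiv.Perm (Fin 6))) phi lab := by
  rw [mem_compatLeft]
  exact ⟨⟨⟨σ, hσ⟩, ⟨h0, h1⟩⟩, fun a => h2 a⟩

theorem gen_mem : ∀ i : Fin 5, Equiv.swap (Fin.castSucc i) (Fin.succ i) ∈
    compatLeft (MonoidHom.id (Equiv.Perm (Fin 6))) phi lab := by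
  intro i
  fin_cases i
  · exact compat_of_data _ sg0 sg0_mem sg0_oct0 sg0_o1 sg0_lab
  · exact compat_of_data _ sg1 sg1_mem sg1_oct0 sg1_o1 sg1_lab
  · exact compat_of_data _ sg2 sg2_mem sg2_oct0 sg2_o1 sg2_lab
  · exact compat_of_data _ sg3 sg3_mem sg3_oct0 sg3_o1 sg3_lab
  · exact compat_of_data _ sg4 sg4_mem sg4_oct0 sg4_o1 sg4_lab

theorem compat_top : compatLeft (MonoidHom.id (Equiv.Perm (Fin 6))) phi lab = ⊤ := by
  rw [eq_top_iff]
  intro x _
  have hx : x ∈ Submonoid.closure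
      (Set.range fun i : Fin 5 => Equiv.swap (Fin.castSucc i) (Fin.succ i)) := by
    rw [Equiv.Perm.mclosure_swap_castSucc_succ]; trivial
  have hle : Submonoid.closure
      (Set.range fun i : Fin 5 => Equiv.swap (Fin.castSucc i) (Fin.succ i)) ≤
      (compatLeft (MonoidHom.id (Equiv.Perm (Fin 6))) phi lab).toSubmonoid := by
    rw [Submonoid.closure_le]
    rintro _ ⟨i, rfl⟩
    exact gen_mem i
  exact hle hx

theorem stab_pair (a b : Finset GolayPt) :
    MulAction.stabilizer M24 a ⊓ MulAction.stabilizer M24 b =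
      MulAction.stabilizer M24 ((a, b) : Finset GolayPt × Finset GolayPt) := by
  ext g
  simp only [MulAction.mem_stabilizer_iff, Subgroup.mem_inf, Prod.smul_mk, Prod.mk.injEq]

theorem card_H₀ : Nat.card ↥H₀ ≤ 720 := by
  have e2 : M24 ⊓ MulAction.stabilizer (Equiv.Perm GolayPt)
      ((oct0, o1) : Finset GolayPt × Finset GolayPt) =
      stabOct oct0 ⊓ MulAction.stabilizer (Equiv.Perm GolayPt) o1 := by
    ext g
    simp only [stabOct, Subgroup.mem_inf, MulAction.mem_stabilizer_iff, Prod.smul_mk,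
      Prod.mk.injEq, and_assoc]
  rw [H₀, stab_pair, ← card_inf_stabilizer M24 ((oct0, o1) : Finset GolayPt × Finset GolayPt), e2,
    card_inf_stabilizer (stabOct oct0) o1]
  have h := natCard_orbit_mul_stab (G := stabOct oct0) o1
  rw [card_stabOct oct0_mem] at h
  have horb : 448 ≤ Nat.card (MulAction.orbit (stabOct oct0) o1) := by
    rw [← card_octF_inter_card2 oct0_mem, Nat.card_coe_set_eq, ← Set.ncard_coe_finset]
    apply Set.ncard_le_ncard _ (Set.toFinite _)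
    intro o' ho'
    simp only [Finset.coe_filter, Set.mem_ofPred_eq, mem_octF] at ho'
    obtain ⟨σ, hσ, rfl⟩ := stabOct0_orbits o1_mem ho'.1 (by rw [inter_card, ho'.2])
    exact ⟨⟨σ, hσ⟩, rfl⟩
  have h3 := Nat.mul_le_mul_right (Nat.card (MulAction.stabilizer (stabOct oct0) o1)) horb
  omega

theorem main : Nonempty (Equiv.Perm (Fin 6) ≃* ↥H₀) :=
  nonempty_mulEquiv_of_compat (MonoidHom.id (Equiv.Perm (Fin 6))) phi lab
    (fun _ _ h => h) lab_inj compat_top
    (by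
      have : Nat.card (Equiv.Perm (Fin 6)) = 720 := by
        rw [Nat.card_eq_fintype_card, Fintype.card_perm, Fintype.card_fin]; decide
      rw [this]; exact card_H₀)

theorem exists_pair (o o' : Finset GolayPt) (ho : o ∈ octads) (ho' : o' ∈ octads)
    (h₂ : (o ∩ o').card = 2) :
    ∃ g : M24, ((o, o') : Finset GolayPt × Finset GolayPt) =
      g • ((oct0, o1) : Finset GolayPt × Finset GolayPt) := by
  obtain ⟨σ, hσ, rfl⟩ := exists_smul_oct0 ho
  have ho'' : σ⁻¹ • o' ∈ octads := smul_mem_octads σ⁻¹ (M24.inv_mem hσ) o' ho'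
  have hc : (oct0 ∩ σ⁻¹ • o').card = 2 := by
    have : σ • (oct0 ∩ σ⁻¹ • o') = σ • oct0 ∩ o' := by
      rw [Finset.smul_finset_inter, smul_inv_smul]
    rw [← h₂, ← this, Finset.card_smul_finset]
  obtain ⟨τ, hτ, hτ'⟩ := stabOct0_orbits o1_mem ho'' (by rw [inter_card, hc])
  rw [mem_stabOct0] at hτ
  refine ⟨⟨σ * τ, M24.mul_mem hσ hτ.1⟩, ?_⟩
  show (σ • oct0, o') = ((σ * τ) • oct0, (σ * τ) • o1)
  rw [mul_smul, mul_smul, hτ.2, hτ', smul_inv_smul]

/-- In the group of the length-24 code, the joint stabiliser of two octads meeting in exactly two points is isomorphic to the symmetric group of degree 6. -/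
theorem result (o o' : Finset Cfsg.GolayPt) (ho : o ∈ Cfsg.octads) (ho' : o' ∈ Cfsg.octads) (h₂ : (o ∩ o').card = 2) : Nonempty (↥(MulAction.stabilizer Cfsg.M24 o ⊓ MulAction.stabilizer Cfsg.M24 o') ≃* Equiv.Perm (Fin 6)) := by
  obtain ⟨e⟩ := main
  obtain ⟨g, hg⟩ := exists_pair o o' ho ho' h₂
  exact ⟨(MulEquiv.subgroupCongr (stab_pair o o')).trans
    ((MulAction.stabilizerEquivStabilizer hg).symm.trans
      ((MulEquiv.subgroupCongr (stab_pair oct0 o1)).symm.trans e.symm))⟩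

end Cfsg.Agent.S5614
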