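import Cfsg.Statements.S5615
import Cfsg.Agent.Lib.helper94.M24Trios
import Cfsg.Agent.Lib.helper33.OctadStab

set_option autoImplicit false
open scoped Pointwise
open Cfsg

namespace Cfsg.Agent.S5615

open Cfsg.Agent.Lib.helper94 Cfsg.Agent.Lib.helper33

/-- elements of the stabiliser of the first octad and of the first trio through it, mapping the
second trio to each of the others -/
def KL : List ℕ := [984818244535754528103549039458486304, 797777219065489892975633625838334082, 837590930458226763732654405547425930, 892312276132077510122818928801483079, 713108237036309562961524593755750476, 403927341774196163450945666639014272, 360402324873613116119738823306510371, 937834995485598079171915013314121953, 384488238427153103393629650084496396, 344704002477025514310862903031693700, 977015967825952465194371824195177484, 558968878922708060942342706508695692, 920676539156495391242378075829181474, 685028784842580910114890895571650564]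

/-- certificate for one entry of `KL` -/
def certK (t J : ℕ) : Bool :=
  isM24 t && Nat.beq (applyP t 1 octM0) octM0 &&
    seteq ((fldsAt 3 TRI0 0).map (applyP t 1)) (fldsAt 3 TRI0 0) &&
    seteq ((fldsAt 3 TRI0 1).map (applyP t 1)) (fldsAt 3 TRI0 J)

theorem KL_ok : (List.range 14).all (fun i => certK (KL.getD i 0) (i + 1)) = true := by
  decide +kernel

theorem O0_mem : setOf octM0 ∈ octads := by
  rw [← octM0_eq]
  exact oct_mem 0 (by norm_num)

theorem second (J : ℕ) (h1 : 1 ≤ J) (hJ : J < 15) :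
    ∃ k ∈ M24, k • setOf octM0 = setOf octM0 ∧ k • objS 3 TRI0 0 = objS 3 TRI0 0 ∧
      k • objS 3 TRI0 1 = objS 3 TRI0 J := by
  have h := (List.all_eq_true.1 KL_ok) (J - 1) (List.mem_range.2 (by omega))
  have hJ' : J - 1 + 1 = J := by omega
  rw [hJ'] at h
  simp only [certK, Bool.and_eq_true] at h
  obtain ⟨⟨⟨hM, hO⟩, h0⟩, h1'⟩ := h
  have hv := isM24_valid hM
  refine ⟨tperm (KL.getD (J - 1) 0), tperm_mem_M24 hM, ?_, ?_, ?_⟩
  · rw [smul_setOf hv, Nat.eq_of_beq_eq_true hO]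
  · show tperm _ • objSetL (fldsAt 3 TRI0 0) = objSetL (fldsAt 3 TRI0 0)
    rw [smul_objSetL hv, objSetL_eq_of_seteq h0]
  · show tperm _ • objSetL (fldsAt 3 TRI0 1) = objSetL (fldsAt 3 TRI0 J)
    rw [smul_objSetL hv, objSetL_eq_of_seteq h1']

theorem smul_through {o : Finset GolayPt} {h : Equiv.Perm GolayPt} (hM : h ∈ M24)
    (ho : h • o = o) {T : Finset (Finset GolayPt)} (hT : T ∈ trios) (hoT : o ∈ T) :
    h • T ∈ trios ∧ o ∈ h • T := by
  refine ⟨smul_mem_trios hM hT, ?_⟩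
  have := Finset.smul_mem_smul_finset (a := h) hoT
  rwa [ho] at this

theorem base_one (T : Finset (Finset GolayPt)) (hT : T ∈ trios) (hoT : setOf octM0 ∈ T) :
    ∃ h ∈ M24, h • setOf octM0 = setOf octM0 ∧ h • objS 3 TRI0 0 = T := by
  obtain ⟨J, hJ, rfl⟩ := tri0_complete T hT hoT
  obtain ⟨h, hh, hh0⟩ := tri0_cert J hJ
  obtain ⟨hM, hO⟩ := mem_stabP.1 hh
  exact ⟨h, hM, hO, hh0⟩

theorem base_pair (T1 T2 : Finset (Finset GolayPt)) (h1 : T1 ∈ trios) (h2 : T2 ∈ trios)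
    (ho1 : setOf octM0 ∈ T1) (ho2 : setOf octM0 ∈ T2) (hne : T1 ≠ T2) :
    ∃ g ∈ M24, g • setOf octM0 = setOf octM0 ∧ g • objS 3 TRI0 0 = T1 ∧
      g • objS 3 TRI0 1 = T2 := by
  obtain ⟨h, hM, hO, hh0⟩ := base_one T1 h1 ho1
  have hinvM : h⁻¹ ∈ M24 := M24.inv_mem hM
  have hinvO : h⁻¹ • setOf octM0 = setOf octM0 := by rw [inv_smul_eq_iff, hO]
  obtain ⟨h2', ho2'⟩ := smul_through hinvM hinvO h2 ho2
  obtain ⟨J', hJ', hT2⟩ := tri0_complete _ h2' ho2'
  have hJ'0 : 1 ≤ J' := by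
    rcases Nat.eq_zero_or_pos J' with rfl | hpos
    · exfalso
      apply hne
      rw [← hh0, ← hT2, smul_inv_smul]
    · exact hpos
  obtain ⟨k, hkM, hkO, hk0, hk1⟩ := second J' hJ'0 hJ'
  refine ⟨h * k, M24.mul_mem hM hkM, by rw [mul_smul, hkO, hO], by rw [mul_smul, hk0, hh0], ?_⟩
  rw [mul_smul, hk1, ← hT2, smul_inv_smul]

theorem pull {σ : Equiv.Perm GolayPt} (hσ : σ ∈ M24) {o : Finset GolayPt}
    {T : Finset (Finset GolayPt)} (hT : T ∈ trios) (hoT : σ • o ∈ T) :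
    σ⁻¹ • T ∈ trios ∧ o ∈ σ⁻¹ • T := by
  refine ⟨smul_mem_trios (M24.inv_mem hσ) hT, ?_⟩
  have := Finset.smul_mem_smul_finset (a := σ⁻¹) hoT
  rwa [inv_smul_smul] at this

theorem gen_one (o : Finset GolayPt) (ho : o ∈ octads) (T T' : Finset (Finset GolayPt))
    (hT : T ∈ trios) (hT' : T' ∈ trios) (hoT : o ∈ T) (hoT' : o ∈ T') :
    ∃ g ∈ M24, g • o = o ∧ g • T = T' := by
  obtain ⟨σ, hσ, rfl⟩ := octads_transitive (setOf octM0) O0_mem o ho
  obtain ⟨a, b⟩ := pull hσ hT hoT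
  obtain ⟨a', b'⟩ := pull hσ hT' hoT'
  obtain ⟨g, hg, hgO, hg0⟩ := base_one _ a b
  obtain ⟨g', hg', hgO', hg0'⟩ := base_one _ a' b'
  have hgi : g⁻¹ • setOf octM0 = setOf octM0 := by rw [inv_smul_eq_iff, hgO]
  refine ⟨σ * g' * g⁻¹ * σ⁻¹, M24.mul_mem (M24.mul_mem (M24.mul_mem hσ hg') (M24.inv_mem hg))
    (M24.inv_mem hσ), ?_, ?_⟩
  · rw [mul_smul, mul_smul, mul_smul, inv_smul_smul, hgi, hgO']
  · rw [mul_smul, mul_smul, mul_smul, ← hg0, inv_smul_smul, hg0', smul_inv_smul]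

theorem gen_pair (o : Finset GolayPt) (ho : o ∈ octads) (T₁ T₂ T₁' T₂' : Finset (Finset GolayPt))
    (h1 : T₁ ∈ trios) (h2 : T₂ ∈ trios) (h1' : T₁' ∈ trios) (h2' : T₂' ∈ trios)
    (ho1 : o ∈ T₁) (ho2 : o ∈ T₂) (ho1' : o ∈ T₁') (ho2' : o ∈ T₂') (hne : T₁ ≠ T₂)
    (hne' : T₁' ≠ T₂') : ∃ g ∈ M24, g • o = o ∧ g • T₁ = T₁' ∧ g • T₂ = T₂' := by
  obtain ⟨σ, hσ, rfl⟩ := octads_transitive (setOf octM0) O0_mem o ho
  obtain ⟨a1, b1⟩ := pull hσ h1 ho1
  obtain ⟨a2, b2⟩ := pull hσ h2 ho2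
  obtain ⟨a1', b1'⟩ := pull hσ h1' ho1'
  obtain ⟨a2', b2'⟩ := pull hσ h2' ho2'
  obtain ⟨g, hg, hgO, hg0, hg1⟩ := base_pair _ _ a1 a2 b1 b2
    (fun h => hne (smul_left_cancel _ h))
  obtain ⟨g', hg', hgO', hg0', hg1'⟩ := base_pair _ _ a1' a2' b1' b2'
    (fun h => hne' (smul_left_cancel _ h))
  have hgi : g⁻¹ • setOf octM0 = setOf octM0 := by rw [inv_smul_eq_iff, hgO]
  refine ⟨σ * g' * g⁻¹ * σ⁻¹, M24.mul_mem (M24.mul_mem (M24.mul_mem hσ hg') (M24.inv_mem hg))
    (M24.inv_mem hσ), ?_, ?_, ?_⟩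
  · rw [mul_smul, mul_smul, mul_smul, inv_smul_smul, hgi, hgO']
  · rw [mul_smul, mul_smul, mul_smul, ← hg0, inv_smul_smul, hg0', smul_inv_smul]
  · rw [mul_smul, mul_smul, mul_smul, ← hg1, inv_smul_smul, hg1', smul_inv_smul]

theorem count (o : Finset GolayPt) (ho : o ∈ octads) :
    {T : Finset (Finset GolayPt) | T ∈ trios ∧ o ∈ T}.ncard = 15 := by
  classical
  obtain ⟨TF, hTF⟩ := (Set.toFinite trios).exists_finset
  rw [← card_through TF hTF o ho, ← Set.ncard_coe_finset]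
  congr 1
  ext T
  rw [Finset.coe_filter]
  exact and_congr (hTF T).symm Iff.rfl

/-- the trios through `o`, acted on by the stabiliser of `o` -/
def trioSub (o : Finset GolayPt) : SubMulAction (stabOct o) (Finset (Finset GolayPt)) where
  carrier := {T | T ∈ trios ∧ o ∈ T}
  smul_mem' := fun h _ hT =>
    smul_through (mem_stabOct.1 h.2).1 (mem_stabOct.1 h.2).2 hT.1 hT.2

theorem card_trioSub (o : Finset GolayPt) (ho : o ∈ octads) : Nat.card (trioSub o) = 15 :=
  count o ho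

/-- the pointwise stabiliser of an octad fixes every trio through it -/
theorem fix_trios (o : Finset GolayPt) (ho : o ∈ octads) (g : Equiv.Perm GolayPt)
    (hg : g ∈ fixOct o) : ∀ T ∈ trios, o ∈ T → g • T = T := by
  have hF : IsPGroup 2 (restrOct o).ker :=
    IsPGroup.of_card (n := 4) (by rw [card_ker_restrOct ho]; norm_num)
  have : Fact (Nat.Prime 2) := ⟨Nat.prime_two⟩
  obtain ⟨T0, hT0⟩ := hF.nonempty_fixed_point_of_prime_not_dvd_card (trioSub o)
    (by rw [card_trioSub o ho]; norm_num)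
  rw [MulAction.mem_fixedPoints] at hT0
  intro T hT hoT
  obtain ⟨h, hh, hho, hhT⟩ := gen_one o ho T0.1 T T0.2.1 hT T0.2.2 hoT
  have hgM := (mem_fixOct.1 hg).1
  have hhi : h⁻¹ • o = o := by rw [inv_smul_eq_iff, hho]
  have hg' : h⁻¹ * g * h ∈ fixOct o := by
    rw [mem_fixOct]
    refine ⟨M24.mul_mem (M24.mul_mem (M24.inv_mem hh) hgM) hh, ?_⟩
    intro x hx
    have hx' : h x ∈ o := by
      have := Finset.smul_mem_smul_finset (a := h) hx
      rwa [hho] at this
    show h⁻¹ (g (h x)) = x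
    rw [(mem_fixOct.1 hg).2 _ hx']
    simp
  have hst : h⁻¹ * g * h ∈ stabOct o := by
    rw [mem_stabOct]
    refine ⟨(mem_fixOct.1 hg').1, ?_⟩
    have hgo : g • o = o := by
      ext x
      constructor
      · intro hx
        obtain ⟨y, hy, rfl⟩ := Finset.mem_smul_finset.1 hx
        show g y ∈ o
        rw [(mem_fixOct.1 hg).2 y hy]
        exact hy
      · intro hx
        have := Finset.smul_mem_smul_finset (a := g) hx
        have e : g • x = x := (mem_fixOct.1 hg).2 x hx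
        rwa [e] at this
    rw [mul_smul, mul_smul, hho, hgo, hhi]
  have h1 := hT0 ⟨⟨h⁻¹ * g * h, hst⟩, (mem_ker_restrOct _).2 hg'⟩
  have h2 : (h⁻¹ * g * h) • (T0 : Finset (Finset GolayPt)) = T0 := congrArg Subtype.val h1
  rw [mul_smul, mul_smul, inv_smul_eq_iff, hhT] at h2
  exact h2

theorem card_octad (o : Finset GolayPt) (ho : o ∈ octads) : Nat.card ↥o = 8 := by
  rw [Nat.card_eq_fintype_card, Fintype.card_coe]
  exact ho.2

/-- an element fixing an octad and every trio through it fixes the octad pointwise -/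
theorem fix_pts (o : Finset GolayPt) (ho : o ∈ octads) (g : Equiv.Perm GolayPt) (hg : g ∈ M24)
    (hgo : g • o = o) (hfix : ∀ T ∈ trios, o ∈ T → g • T = T) : ∀ p ∈ o, g p = p := by
  have hsimple : IsSimpleGroup (alternatingGroup ↥o) :=
    alternatingGroup.isSimpleGroup (by rw [card_octad o ho]; norm_num)
  have hmemA : ∀ k : stabOct o, restrOct o k ∈ alternatingGroup ↥o := by
    intro k
    rw [← range_restrOct ho]
    exact ⟨k, rfl⟩
  let φ : stabOct o →* alternatingGroup ↥o := (restrOct o).codRestrict _ hmemA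
  have hφs : Function.Surjective φ := by
    rintro ⟨a, ha⟩
    rw [← range_restrOct ho] at ha
    obtain ⟨k, hk⟩ := ha
    exact ⟨k, Subtype.ext hk⟩
  -- the kernel of the action on the trios through `o`
  let K : Subgroup (stabOct o) := (MulAction.toPermHom (stabOct o) (trioSub o)).ker
  have hKmem : ∀ k : stabOct o, k ∈ K ↔ ∀ T ∈ trios, o ∈ T → (k : Equiv.Perm GolayPt) • T = T := by
    intro k
    rw [MonoidHom.mem_ker]
    constructor
    · intro hk T hT hoT
      have := congrArg (fun e : Equiv.Perm (trioSub o) => ((e ⟨T, hT, hoT⟩ : trioSub o) :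
        Finset (Finset GolayPt))) hk
      exact this
    · intro hk
      refine Equiv.ext fun T => Subtype.ext ?_
      exact hk T.1 T.2.1 T.2.2
  have hKn : (K.map φ).Normal := Subgroup.Normal.map (MonoidHom.normal_ker _) φ hφs
  have hgK : (⟨g, mem_stabOct.2 ⟨hg, hgo⟩⟩ : stabOct o) ∈ K := (hKmem _).2 hfix
  rcases hKn.eq_bot_or_eq_top with hbot | htop
  · have h1 : φ ⟨g, mem_stabOct.2 ⟨hg, hgo⟩⟩ ∈ K.map φ := Subgroup.mem_map_of_mem φ hgK
    rw [hbot, Subgroup.mem_bot] at h1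
    have h2 : restrOct o ⟨g, mem_stabOct.2 ⟨hg, hgo⟩⟩ = 1 := congrArg Subtype.val h1
    have h3 := (mem_ker_restrOct _).1 (MonoidHom.mem_ker.2 h2)
    exact (mem_fixOct.1 h3).2
  · exfalso
    -- then the whole stabiliser fixes every trio through `o`
    have hall : ∀ k : stabOct o, k ∈ K := by
      intro k
      have hk : φ k ∈ K.map φ := by rw [htop]; exact Subgroup.mem_top _
      obtain ⟨k', hk', hkk⟩ := Subgroup.mem_map.1 hk
      have h1 : k'⁻¹ * k ∈ (restrOct o).ker := by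
        rw [MonoidHom.mem_ker, map_mul, map_inv]
        have : restrOct o k' = restrOct o k := congrArg Subtype.val hkk
        rw [this, inv_mul_cancel]
      have h2 := (mem_ker_restrOct _).1 h1
      have h3 : k'⁻¹ * k ∈ K := (hKmem _).2 (fix_trios o ho _ h2)
      have h4 := K.mul_mem hk' h3
      rwa [mul_inv_cancel_left] at h4
    -- but there are two distinct trios through `o`, and the stabiliser is transitive on them
    have h15 := count o ho
    have h1lt : 1 < {T : Finset (Finset GolayPt) | T ∈ trios ∧ o ∈ T}.ncard := by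
      rw [h15]; norm_num
    obtain ⟨T, T', hT, hT', hne⟩ := (Set.one_lt_ncard_iff (Set.toFinite _)).1 h1lt
    obtain ⟨k, hk, hko, hkT⟩ := gen_one o ho T T' hT.1 hT'.1 hT.2 hT'.2
    have := (hKmem ⟨k, mem_stabOct.2 ⟨hk, hko⟩⟩).1 (hall _) T hT.1 hT.2
    exact hne (this.symm.trans hkT)

/-- An octad of the length-24 code lies in exactly 15 trios; the stabiliser of the octad in the code's group acts doubly transitively on these 15 trios, and the kernel of this action is the pointwise stabiliser of the octad. -/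
theorem result (o : Finset Cfsg.GolayPt) (ho : o ∈ Cfsg.octads) : {T : Finset (Finset Cfsg.GolayPt) | T ∈ Cfsg.trios ∧ o ∈ T}.ncard = 15 ∧ (∀ T₁ T₂ T₁' T₂' : Finset (Finset Cfsg.GolayPt), T₁ ∈ Cfsg.trios → T₂ ∈ Cfsg.trios → T₁' ∈ Cfsg.trios → T₂' ∈ Cfsg.trios → o ∈ T₁ → o ∈ T₂ → o ∈ T₁' → o ∈ T₂' → T₁ ≠ T₂ → T₁' ≠ T₂' → ∃ g ∈ Cfsg.M24, g • o = o ∧ g • T₁ = T₁' ∧ g • T₂ = T₂') ∧ ∀ g ∈ Cfsg.M24, g • o = o → ((∀ T ∈ Cfsg.trios, o ∈ T → g • T = T) ↔ ∀ p ∈ o, g p = p) := by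
  refine ⟨count o ho, fun T₁ T₂ T₁' T₂' h1 h2 h1' h2' ho1 ho2 ho1' ho2' hne hne' =>
    gen_pair o ho T₁ T₂ T₁' T₂' h1 h2 h1' h2' ho1 ho2 ho1' ho2' hne hne', ?_⟩
  intro g hg hgo
  constructor
  · exact fix_pts o ho g hg hgo
  · intro h
    exact fix_trios o ho g (mem_fixOct.2 ⟨hg, h⟩)

end Cfsg.Agent.S5615
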