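import Cfsg.Statements.S5618
import Cfsg.Agent.S0382
import Cfsg.Agent.S0386
import Cfsg.Agent.Lib.helper9.M12Compl
import Cfsg.Agent.Lib.helper33.OctadStab

set_option autoImplicit false
open Cfsg

namespace Cfsg.Agent.S5618

open Cfsg.Agent.Lib.helper9 Cfsg.Agent.Lib.helper33
open scoped Pointwise

/-- An element of `M24` stabilising a dodecad and fixing five of its points is trivial. -/
theorem fix5 (d : Finset GolayPt) (hd : d ∈ dodecads) (s : Finset GolayPt) (hs : s ⊆ d)
    (h5 : 5 ≤ s.card) (g : Equiv.Perm GolayPt) (hg : g ∈ M24) (hgd : g • d = d)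
    (hfix : ∀ p ∈ s, g p = p) : g = 1 := by
  obtain ⟨t, hts, ht5⟩ := Finset.exists_subset_card_eq h5
  let e : Fin 5 ≃ ↥t := (Finset.equivFinOfCardEq ht5).symm
  let x : Fin 5 ↪ GolayPt := e.toEmbedding.trans (Function.Embedding.subtype _)
  have hx : ∀ i, x i ∈ d := fun i => hs (hts (e i).2)
  obtain ⟨g₀, -, -, -, huniq⟩ := dod_sharp5 d hd x x hx hx
  have h1 := huniq g hg hgd (fun i => hfix _ (hts (e i).2))
  have h2 := huniq 1 M24.one_mem (one_smul _ _) (fun i => rfl)
  rw [h1, h2]

/-- For a dodecad d of the length-24 code and a hexad C on it (a 6-point intersection of d with an octad): the joint stabiliser of d and C in the code's group is isomorphic to the symmetric group of degree 6, and it acts faithfully both on the six points of C and on the six points of d outside C. -/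
theorem result (d : Finset Cfsg.GolayPt) (hd : d ∈ Cfsg.dodecads) (C : Finset Cfsg.GolayPt) (hC : C ∈ Cfsg.hexadsOn d) : Nonempty (↥(MulAction.stabilizer Cfsg.M24 d ⊓ MulAction.stabilizer Cfsg.M24 C) ≃* Equiv.Perm (Fin 6)) ∧ (∀ g ∈ MulAction.stabilizer Cfsg.M24 d ⊓ MulAction.stabilizer Cfsg.M24 C, (∀ p ∈ C, ((g : ↥Cfsg.M24) : Equiv.Perm Cfsg.GolayPt) p = p) → g = 1) ∧ ∀ g ∈ MulAction.stabilizer Cfsg.M24 d ⊓ MulAction.stabilizer Cfsg.M24 C, (∀ p ∈ d \ C, ((g : ↥Cfsg.M24) : Equiv.Perm Cfsg.GolayPt) p = p) → g = 1 := by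
  obtain ⟨hC6, o, ho, hoC⟩ := hC
  have hCd : C ⊆ d := by rw [← hoC]; exact Finset.inter_subset_right
  have hd12 : d.card = 12 := hd.2
  have hfC : ∀ g ∈ MulAction.stabilizer M24 d ⊓ MulAction.stabilizer M24 C,
      (∀ p ∈ C, ((g : ↥M24) : Equiv.Perm GolayPt) p = p) → g = 1 := by
    intro g hg hfix
    have hgd : (g : Equiv.Perm GolayPt) • d = d := hg.1
    exact Subtype.ext (fix5 d hd C hCd (by rw [hC6]; norm_num) g.1 g.2 hgd hfix)
  have hfD : ∀ g ∈ MulAction.stabilizer M24 d ⊓ MulAction.stabilizer M24 C,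
      (∀ p ∈ d \ C, ((g : ↥M24) : Equiv.Perm GolayPt) p = p) → g = 1 := by
    intro g hg hfix
    have hgd : (g : Equiv.Perm GolayPt) • d = d := hg.1
    have hc : 5 ≤ (d \ C).card := by
      rw [Finset.card_sdiff_of_subset hCd, hd12, hC6]
      norm_num
    exact Subtype.ext (fix5 d hd (d \ C) Finset.sdiff_subset hc g.1 g.2 hgd hfix)
  refine ⟨?_, hfC, hfD⟩
  have hmem : ∀ g : ↥(MulAction.stabilizer M24 d ⊓ MulAction.stabilizer M24 C),
      ((M24.subtype).comp (MulAction.stabilizer M24 d ⊓ MulAction.stabilizer M24 C).subtype) g ∈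
        stabOct C := fun g => mem_stabOct.2 ⟨g.1.2, g.2.2⟩
  let f : ↥(MulAction.stabilizer M24 d ⊓ MulAction.stabilizer M24 C) →* Equiv.Perm ↥C :=
    (restrOct C).comp (((M24.subtype).comp
      (MulAction.stabilizer M24 d ⊓ MulAction.stabilizer M24 C).subtype).codRestrict
        (stabOct C) hmem)
  have hinj : Function.Injective f := by
    rw [injective_iff_map_eq_one]
    intro g hg
    apply Subtype.ext
    apply hfC g.1 g.2
    intro p hp
    have := congrArg (fun e : Equiv.Perm ↥C => (e ⟨p, hp⟩ : GolayPt)) hg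
    exact this
  have hcardP : Nat.card (Equiv.Perm ↥C) = 720 := by
    rw [Nat.card_eq_fintype_card, Fintype.card_perm, Fintype.card_coe, hC6]
    decide
  have hcardH : 720 ≤ Nat.card ↥(MulAction.stabilizer M24 d ⊓ MulAction.stabilizer M24 C) := by
    have h := natCard_orbit_mul_stab (G := MulAction.stabilizer M24 d) C
    rw [Cfsg.Agent.S0382.result d hd,
      stabilizer_subgroup (G := ↥M24) (MulAction.stabilizer M24 d) C, card_subgroupOf] at h
    have horb : Nat.card (MulAction.orbit (MulAction.stabilizer M24 d) C) ≤ 132 := by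
      rw [Nat.card_coe_set_eq]
      have h132 := (Cfsg.Agent.S0386.result d hd).1
      rw [← h132]
      have hsub : MulAction.orbit (MulAction.stabilizer M24 d) C ⊆
          (fun o => o ∩ d) '' {o : Finset GolayPt | o ∈ octads ∧ (o ∩ d).card = 6} := by
        rintro _ ⟨k, rfl⟩
        have hkd : ((k : ↥M24) : Equiv.Perm GolayPt) • d = d := k.2
        have hk : ((k : ↥M24) : Equiv.Perm GolayPt) • o ∩ d =
            ((k : ↥M24) : Equiv.Perm GolayPt) • (o ∩ d) := by
          rw [Finset.smul_finset_inter, hkd]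
        refine ⟨((k : ↥M24) : Equiv.Perm GolayPt) • o, ⟨smul_mem_octads _ k.1.2 o ho, ?_⟩, ?_⟩
        · rw [hk, Finset.card_smul_finset, hoC, hC6]
        · show ((k : ↥M24) : Equiv.Perm GolayPt) • o ∩ d = ((k : ↥M24) : Equiv.Perm GolayPt) • C
          rw [hk, hoC]
      exact (Set.ncard_le_ncard hsub (Set.toFinite _)).trans (Set.ncard_image_le (Set.toFinite _))
    have h3 := Nat.mul_le_mul_right
      (Nat.card ↥(MulAction.stabilizer M24 d ⊓ MulAction.stabilizer M24 C)) horb
    omega
  have hbij : Function.Bijective f :=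
    hinj.bijective_of_nat_card_le (by rw [hcardP]; exact hcardH)
  exact ⟨(MulEquiv.ofBijective f hbij).trans (Equiv.permCongrHom (Finset.equivFinOfCardEq hC6))⟩

end Cfsg.Agent.S5618
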