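import Cfsg.Statements.S5619
import Cfsg.Agent.S5618
import Cfsg.Agent.Lib.helper6.TblGrp
import Cfsg.Agent.Lib.helper9.M12Simple
import Cfsg.Agent.Lib.helper33.M24Dodecads
import Cfsg.Agent.Lib.helper46.Dicyclic

set_option autoImplicit false
open scoped Pointwise
open Cfsg

namespace Cfsg.Agent.S5619

open Cfsg.Agent.Lib.helper9 Cfsg.Agent.Lib.helper33 Cfsg.Agent.Lib.helper6.TblGrp

/-! ### Abstract part -/

/-- an embedding of the quaternion group of order 8 from two elements satisfying its relations -/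
theorem exists_q8 {G : Type*} [Group G] (t w : G) (ht : orderOf t = 4)
    (hwt : w * t * w⁻¹ = t⁻¹) (hw2 : w * w = t ^ 2) :
    ∃ ψ : QuaternionGroup 2 →* G, Function.Injective ψ ∧
      ∀ K : Subgroup G, t ∈ K → w ∈ K → ∀ q, ψ q ∈ K := by
  have hwT : w ∉ Subgroup.zpowers t := by
    intro h
    have hc : w * t = t * w := Cfsg.Agent.Lib.helper46.commute_of_mem_zpowers t w h
    have h1 : t = t⁻¹ := by
      rw [← hwt, hc, mul_inv_cancel_right]
    have h2 : t ^ 2 = 1 := by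
      rw [pow_two]
      nth_rewrite 2 [h1]
      exact mul_inv_cancel t
    have := orderOf_dvd_of_pow_eq_one h2
    rw [ht] at this
    omega
  have ht' : orderOf t = 2 * 2 := by rw [ht]
  let ψ : QuaternionGroup 2 →* G :=
    MonoidHom.mk' (Cfsg.Agent.Lib.helper46.dicyclicMap 2 t w)
      (fun x y => Cfsg.Agent.Lib.helper46.dicyclicMap_mul 2 t w ht' hwt hw2 x y)
  refine ⟨ψ, Cfsg.Agent.Lib.helper46.dicyclicMap_injective 2 t w ht' hwT, ?_⟩
  intro K htK hwK q
  cases q with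
  | a i => exact K.pow_mem htK _
  | xa i => exact K.mul_mem hwK (K.pow_mem htK _)

theorem card_range_q8 {G : Type*} [Group G] (ψ : QuaternionGroup 2 →* G)
    (hψ : Function.Injective ψ) : Nat.card ψ.range = 8 := by
  rw [Nat.card_congr (MonoidHom.ofInjective hψ).symm.toEquiv, Nat.card_eq_fintype_card,
    QuaternionGroup.card]

/-- a subgroup of order 9 normalised by a quaternion group is normal in a group of order at
most 72 -/
theorem normal_of_normalizer {G : Type*} [Group G] [Finite G] (hG : Nat.card G ≤ 72)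
    (N : Subgroup G) (hN : Nat.card N = 9) (t w : G) (ht : orderOf t = 4)
    (hwt : w * t * w⁻¹ = t⁻¹) (hw2 : w * w = t ^ 2)
    (htN : t ∈ Subgroup.normalizer (N : Set G)) (hwN : w ∈ Subgroup.normalizer (N : Set G)) :
    N.Normal ∧ Nat.card G = 72 := by
  obtain ⟨ψ, hψ, hmem⟩ := exists_q8 t w ht hwt hw2
  have h9 : 9 ∣ Nat.card (Subgroup.normalizer (N : Set G)) := by
    rw [← hN]
    exact Subgroup.card_dvd_of_le Subgroup.le_normalizer
  have h8 : 8 ∣ Nat.card (Subgroup.normalizer (N : Set G)) := by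
    have hr : ψ.range ≤ Subgroup.normalizer (N : Set G) := by
      rintro _ ⟨q, rfl⟩
      exact hmem _ htN hwN q
    rw [← card_range_q8 ψ hψ]
    exact Subgroup.card_dvd_of_le hr
  have h72 : 72 ∣ Nat.card (Subgroup.normalizer (N : Set G)) :=
    Nat.Coprime.mul_dvd_of_dvd_of_dvd (by decide : Nat.Coprime 9 8) h9 h8
  have hle : Nat.card (Subgroup.normalizer (N : Set G)) ≤ Nat.card G :=
    Subgroup.card_le_card_group _
  have hpos : 0 < Nat.card (Subgroup.normalizer (N : Set G)) := Nat.card_pos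
  have hC72 : Nat.card (Subgroup.normalizer (N : Set G)) = 72 := by
    obtain ⟨k, hk⟩ := h72
    omega
  have hG72 : Nat.card G = 72 := by omega
  have htop : Subgroup.normalizer (N : Set G) = ⊤ :=
    Subgroup.eq_top_of_card_eq _ (by rw [hC72, hG72])
  exact ⟨Subgroup.normalizer_eq_top_iff.1 htop, hG72⟩

/-- the data from which the Sylow structure is read off -/
def D72 (G : Type*) [Group G] : Prop :=
  Nat.card G = 72 ∧ ∃ N : Subgroup G, N.Normal ∧ Nat.card N = 9 ∧ (∀ n ∈ N, n ^ 3 = 1) ∧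
    ∃ t w : G, orderOf t = 4 ∧ w * t * w⁻¹ = t⁻¹ ∧ w * w = t ^ 2

theorem D72.of_equiv {G G' : Type*} [Group G] [Group G'] (e : G ≃* G') (h : D72 G) : D72 G' := by
  obtain ⟨hc, N, hNn, hN, hN3, t, w, ht, hwt, hw2⟩ := h
  refine ⟨by rw [← hc]; exact Nat.card_congr e.symm.toEquiv, N.map e.toMonoidHom,
    hNn.map e.toMonoidHom e.surjective, ?_, ?_, e t, e w, ?_, ?_, ?_⟩
  · rw [← hN]
    exact Nat.card_congr (N.equivMapOfInjective e.toMonoidHom e.injective).symm.toEquiv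
  · rintro _ ⟨n, hn, rfl⟩
    show e n ^ 3 = 1
    rw [← map_pow, hN3 n hn, map_one]
  · rw [MulEquiv.orderOf_eq]
    exact ht
  · rw [← map_mul, ← map_inv, ← map_mul, hwt, map_inv]
  · rw [← map_mul, hw2, map_pow]

theorem fact72_3 : (72 : ℕ).factorization 3 = 2 := by
  have h : (72 : ℕ) = 3 ^ 2 * 8 := by norm_num
  rw [h, Nat.factorization_mul (by norm_num) (by norm_num), Nat.factorization_pow,
    Finsupp.add_apply, Finsupp.smul_apply, Nat.Prime.factorization_self (by norm_num),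
    Nat.factorization_eq_zero_of_not_dvd (by norm_num)]
  rfl

theorem fact72_2 : (72 : ℕ).factorization 2 = 3 := by
  have h : (72 : ℕ) = 2 ^ 3 * 9 := by norm_num
  rw [h, Nat.factorization_mul (by norm_num) (by norm_num), Nat.factorization_pow,
    Finsupp.add_apply, Finsupp.smul_apply, Nat.Prime.factorization_self (by norm_num),
    Nat.factorization_eq_zero_of_not_dvd (by norm_num)]
  rfl

theorem D72.sylow {G : Type*} [Group G] [Finite G] (h : D72 G) :
    (∀ Q : Sylow 3 G, (Q : Subgroup G).Normal ∧ Nat.card Q = 9 ∧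
      ∀ x ∈ (Q : Subgroup G), x ^ 3 = 1) ∧
    ∀ P : Sylow 2 G, Nonempty (P ≃* QuaternionGroup 2) := by
  obtain ⟨hG, N, hNn, hN, hN3, t, w, ht, hwt, hw2⟩ := h
  have : Fact (Nat.Prime 3) := ⟨by norm_num⟩
  have : Fact (Nat.Prime 2) := ⟨by norm_num⟩
  constructor
  · intro Q
    have hQc : Nat.card Q = 9 := by
      rw [Sylow.card_eq_multiplicity, hG, fact72_3]
      norm_num
    have hNp : IsPGroup 3 N := IsPGroup.of_card (n := 2) (by rw [hN]; norm_num)
    have := hNn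
    have hle : N ≤ Q := hNp.le_sylow_of_normal Q
    have heq : N = (Q : Subgroup G) := Subgroup.eq_of_le_of_card_ge hle (by rw [hQc, hN])
    refine ⟨heq ▸ hNn, hQc, ?_⟩
    intro x hx
    exact hN3 x (heq ▸ hx)
  · intro P
    obtain ⟨ψ, hψ, -⟩ := exists_q8 t w ht hwt hw2
    let P0 : Sylow 2 G := Sylow.ofCard ψ.range (by rw [card_range_q8 ψ hψ, hG, fact72_2]; norm_num)
    obtain ⟨g, hg⟩ := MulAction.exists_smul_eq G P0 P
    subst hg
    exact ⟨(Sylow.equivSMul P0 g).symm.trans (MonoidHom.ofInjective hψ).symm⟩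

/-! ### The base configuration -/

def TL9 : List (List ℕ) :=
  [[0, 1, 2, 3, 4, 5, 6, 7, 8, 9, 10, 11, 12, 13, 14, 15, 16, 17, 18, 19, 20, 21, 22, 23],
   [0, 1, 2, 3, 10, 18, 11, 4, 14, 6, 7, 9, 12, 8, 13, 23, 5, 20, 16, 17, 19, 15, 22, 21],
   [0, 1, 2, 3, 7, 16, 9, 10, 13, 11, 4, 6, 12, 14, 8, 21, 18, 19, 5, 20, 17, 23, 22, 15],
   [0, 12, 2, 3, 14, 5, 7, 8, 6, 10, 13, 4, 22, 9, 11, 23, 16, 19, 18, 20, 17, 15, 1, 21],
   [0, 12, 2, 3, 13, 18, 4, 14, 11, 7, 8, 10, 22, 6, 9, 21, 5, 17, 16, 19, 20, 23, 1, 15],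
   [0, 12, 2, 3, 8, 16, 10, 13, 9, 4, 14, 7, 22, 11, 6, 15, 18, 20, 5, 17, 19, 21, 1, 23],
   [0, 22, 2, 3, 11, 5, 8, 6, 7, 13, 9, 14, 1, 10, 4, 21, 16, 20, 18, 17, 19, 23, 12, 15],
   [0, 22, 2, 3, 9, 18, 14, 11, 4, 8, 6, 13, 1, 7, 10, 15, 5, 19, 16, 20, 17, 21, 12, 23],
   [0, 22, 2, 3, 6, 16, 13, 9, 10, 14, 11, 8, 1, 4, 7, 23, 18, 17, 5, 19, 20, 15, 12, 21]]

def tt : List ℕ := [0, 16, 2, 3, 4, 22, 9, 11, 6, 13, 14, 10, 18, 8, 7, 20, 12, 21, 1, 23, 15, 19, 5, 17]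

def tw : List ℕ := [0, 19, 2, 3, 4, 15, 7, 13, 11, 14, 6, 9, 17, 10, 8, 5, 21, 1, 23, 12, 22, 18, 20, 16]

theorem hG9 : IsTblGroup TL9 := isTblGroup_of TL9 (by decide +kernel)

theorem hd9 : TL9.Pairwise (fun a b => eqT a b = false) := by decide +kernel

theorem cube9 : TL9.all (fun a => eqT (compT (compT a a) a) idTbl) = true := by decide +kernel

/-- the table check for membership in the base group -/
def inBase (a : List ℕ) : Bool :=
  chkTbl a && invT a 28637 && Nat.beq (a.getD 0 0) 0 && Nat.beq (a.getD 2 0) 2 &&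
    Nat.beq (a.getD 3 0) 3

theorem fix9 : TL9.all inBase = true := by decide +kernel

theorem val_tw : tvalid tt = true ∧ tvalid tw = true := by decide +kernel

theorem fix_tw : inBase tt = true ∧ inBase tw = true := by decide +kernel

theorem conj_t : conjClosed tt (invOf tt) TL9 = true ∧ conjClosed (invOf tt) tt TL9 = true := by
  decide +kernel

theorem conj_w : conjClosed tw (invOf tw) TL9 = true ∧ conjClosed (invOf tw) tw TL9 = true := by
  decide +kernel

/-- the base configuration: a dodecad and three of its points -/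
def x0 : Finset GolayPt × GolayPt × GolayPt × GolayPt := (dod0, pt 0, pt 2, pt 3)

/-- the base group -/
abbrev K0 : Subgroup (Equiv.Perm GolayPt) :=
  M24 ⊓ MulAction.stabilizer (Equiv.Perm GolayPt) x0

theorem mem_K0 (σ : Equiv.Perm GolayPt) : σ ∈ K0 ↔
    σ ∈ M24 ∧ σ • dod0 = dod0 ∧ σ (pt 0) = pt 0 ∧ σ (pt 2) = pt 2 ∧ σ (pt 3) = pt 3 := by
  rw [K0, Subgroup.mem_inf]
  refine and_congr Iff.rfl ?_
  show σ • x0 = x0 ↔ _
  simp only [x0, Prod.smul_mk, Prod.mk.injEq, Equiv.Perm.smul_def]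

theorem pT_mem_K0 {a : List ℕ} (hv : tvalid a = true) (h : inBase a = true) : pT a ∈ K0 := by
  simp only [inBase, Bool.and_eq_true] at h
  obtain ⟨⟨⟨⟨h1, h2⟩, h3⟩, h4⟩, h5⟩ := h
  rw [mem_K0]
  refine ⟨pT_mem_M24 hv h1, smul_decSet_of_invMask (invMask_of_invT (isTable_pT hv) h2), ?_, ?_, ?_⟩
  · rw [pT_apply hv (by norm_num), Nat.eq_of_beq_eq_true h3]
  · rw [pT_apply hv (by norm_num), Nat.eq_of_beq_eq_true h4]
  · rw [pT_apply hv (by norm_num), Nat.eq_of_beq_eq_true h5]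

theorem pts_mem : pt 0 ∈ dod0 ∧ pt 2 ∈ dod0 ∧ pt 3 ∈ dod0 ∧ pt 4 ∈ dod0 ∧ pt 6 ∈ dod0 := by
  decide

theorem pts_ne : pt 4 ≠ pt 0 ∧ pt 4 ≠ pt 2 ∧ pt 4 ≠ pt 3 ∧ pt 6 ≠ pt 0 ∧ pt 6 ≠ pt 2 ∧
    pt 6 ≠ pt 3 ∧ pt 4 ≠ pt 6 ∧ pt 0 ≠ pt 2 ∧ pt 0 ≠ pt 3 ∧ pt 2 ≠ pt 3 := by decide

theorem card_omega : (dod0 \ {pt 0, pt 2, pt 3}).card = 9 := by decide

theorem card_K0_le : Nat.card K0 ≤ 72 := by
  classical
  have hmem : ∀ k : K0, ∀ p ∈ dod0 \ ({pt 0, pt 2, pt 3} : Finset GolayPt),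
      (k : Equiv.Perm GolayPt) p ∈ dod0 \ ({pt 0, pt 2, pt 3} : Finset GolayPt) := by
    intro k p hp
    obtain ⟨-, hkd, hk0, hk2, hk3⟩ := (mem_K0 _).1 k.2
    rw [Finset.mem_sdiff, Finset.mem_insert, Finset.mem_insert, Finset.mem_singleton] at hp ⊢
    refine ⟨?_, ?_⟩
    · have := Finset.smul_mem_smul_finset (a := (k : Equiv.Perm GolayPt)) hp.1
      rw [hkd] at this
      exact this
    · rintro (h | h | h)
      · exact hp.2 (Or.inl ((k : Equiv.Perm GolayPt).injective (h.trans hk0.symm)))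
      · exact hp.2 (Or.inr (Or.inl ((k : Equiv.Perm GolayPt).injective (h.trans hk2.symm))))
      · exact hp.2 (Or.inr (Or.inr ((k : Equiv.Perm GolayPt).injective (h.trans hk3.symm))))
  have h4 : pt 4 ∈ dod0 \ ({pt 0, pt 2, pt 3} : Finset GolayPt) := by decide
  have h6 : pt 6 ∈ dod0 \ ({pt 0, pt 2, pt 3} : Finset GolayPt) := by decide
  have key : ∀ k : K0, (((k : Equiv.Perm GolayPt) (pt 4), (k : Equiv.Perm GolayPt) (pt 6)) :
      GolayPt × GolayPt) ∈ (dod0 \ ({pt 0, pt 2, pt 3} : Finset GolayPt)).offDiag := by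
    intro k
    rw [Finset.mem_offDiag]
    exact ⟨hmem k _ h4, hmem k _ h6,
      fun h => pts_ne.2.2.2.2.2.2.1 ((k : Equiv.Perm GolayPt).injective h)⟩
  let f : K0 → ↥((dod0 \ ({pt 0, pt 2, pt 3} : Finset GolayPt)).offDiag) := fun k => ⟨_, key k⟩
  have hf : Function.Injective f := by
    intro k k' hkk
    have h1 : (k : Equiv.Perm GolayPt) (pt 4) = (k' : Equiv.Perm GolayPt) (pt 4) :=
      congrArg (fun z => (z : GolayPt × GolayPt).1) (congrArg Subtype.val hkk)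
    have h2 : (k : Equiv.Perm GolayPt) (pt 6) = (k' : Equiv.Perm GolayPt) (pt 6) :=
      congrArg (fun z => (z : GolayPt × GolayPt).2) (congrArg Subtype.val hkk)
    have hg : (k⁻¹ * k' : K0) = 1 := by
      have hgK := (mem_K0 _).1 (k⁻¹ * k' : K0).2
      obtain ⟨hgM, hgd, hg0, hg2, hg3⟩ := hgK
      apply Subtype.ext
      refine Cfsg.Agent.S5618.fix5 dod0 dod0_mem {pt 0, pt 2, pt 3, pt 4, pt 6} (by decide)
        (by decide) _ hgM hgd ?_
      intro p hp
      simp only [Finset.mem_insert, Finset.mem_singleton] at hp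
      rcases hp with rfl | rfl | rfl | rfl | rfl
      · exact hg0
      · exact hg2
      · exact hg3
      · show (k : Equiv.Perm GolayPt)⁻¹ ((k' : Equiv.Perm GolayPt) (pt 4)) = pt 4
        rw [← h1]
        simp
      · show (k : Equiv.Perm GolayPt)⁻¹ ((k' : Equiv.Perm GolayPt) (pt 6)) = pt 6
        rw [← h2]
        simp
    exact inv_mul_eq_one.1 hg
  have h72 : Nat.card ↥((dod0 \ ({pt 0, pt 2, pt 3} : Finset GolayPt)).offDiag) = 72 := by
    rw [Nat.card_eq_fintype_card, Fintype.card_coe, Finset.offDiag_card, card_omega]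
  have := Nat.card_le_card_of_injective f hf
  rw [h72] at this
  exact this

theorem d72_K0 : D72 ↥K0 := by
  have hle : tblSubgroup TL9 hG9 ≤ K0 := by
    rintro σ ⟨a, ha, rfl⟩
    exact pT_mem_K0 (hG9.valid a ha) ((List.all_eq_true.1 fix9) a ha)
  have htK : pT tt ∈ K0 := pT_mem_K0 val_tw.1 fix_tw.1
  have hwK : pT tw ∈ K0 := pT_mem_K0 val_tw.2 fix_tw.2
  have r1 : pT tt * pT tt ≠ 1 := by
    have := prod_ne_prod' [tt, tt] [] (by decide +kernel)
    simpa only [List.map_cons, List.map_nil, List.prod_cons, List.prod_nil, mul_one] using this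
  have r2 : pT tt * (pT tt * (pT tt * pT tt)) = 1 := by
    have := prod_eq_prod' [tt, tt, tt, tt] [] (by decide +kernel)
    simpa only [List.map_cons, List.map_nil, List.prod_cons, List.prod_nil, mul_one] using this
  have r3 : pT tw * (pT tt * (pT tw)⁻¹) = (pT tt)⁻¹ := by
    have := prod_eq_prod' [tw, tt, invOf tw] [invOf tt] (by decide +kernel)
    simpa only [List.map_cons, List.map_nil, List.prod_cons, List.prod_nil, mul_one,
      ← pT_inv val_tw.1, ← pT_inv val_tw.2] using this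
  have r4 : pT tw * pT tw = pT tt * pT tt := by
    have := prod_eq_prod' [tw, tw] [tt, tt] (by decide +kernel)
    simpa only [List.map_cons, List.map_nil, List.prod_cons, List.prod_nil, mul_one] using this
  have hord : orderOf (pT tt) = 4 := by
    have : Fact (Nat.Prime 2) := ⟨by norm_num⟩
    have h := orderOf_eq_prime_pow (x := pT tt) (p := 2) (n := 1)
      (by rw [pow_one, pow_two]; exact r1)
      (by
        have e : pT tt ^ 2 ^ (1 + 1) = pT tt * (pT tt * (pT tt * pT tt)) := by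
          show pT tt ^ 4 = _
          simp only [pow_succ, pow_zero, one_mul, mul_assoc]
        rw [e, r2])
    exact h
  have hnt := pT_mem_normalizer TL9 hG9 tt val_tw.1 conj_t.1 conj_t.2
  have hnw := pT_mem_normalizer TL9 hG9 tw val_tw.2 conj_w.1 conj_w.2
  have hN9 : Nat.card ((tblSubgroup TL9 hG9).subgroupOf K0) = 9 :=
    (Nat.card_congr (Subgroup.subgroupOfEquivOfLe hle).toEquiv).trans (card_tblSubgroup TL9 hG9 hd9)
  have hno : ∀ g : Equiv.Perm GolayPt, ∀ hg : g ∈ K0,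
      g ∈ Subgroup.normalizer (tblSubgroup TL9 hG9 : Set (Equiv.Perm GolayPt)) →
      (⟨g, hg⟩ : K0) ∈ Subgroup.normalizer
        (((tblSubgroup TL9 hG9).subgroupOf K0 : Subgroup K0) : Set K0) := by
    intro g hg hn
    rw [Subgroup.mem_normalizer_iff]
    intro h
    rw [Subgroup.mem_subgroupOf, Subgroup.mem_subgroupOf]
    exact (Subgroup.mem_normalizer_iff.1 hn) (h : Equiv.Perm GolayPt)
  have hA := normal_of_normalizer card_K0_le ((tblSubgroup TL9 hG9).subgroupOf K0) hN9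
    (⟨pT tt, htK⟩ : K0) ⟨pT tw, hwK⟩ (by rw [Subgroup.orderOf_mk]; exact hord)
    (Subtype.ext (by
      show pT tw * pT tt * (pT tw)⁻¹ = (pT tt)⁻¹
      rw [mul_assoc]
      exact r3))
    (Subtype.ext (by
      show pT tw * pT tw = ((⟨pT tt, htK⟩ : K0) ^ 2 : K0)
      rw [Subgroup.coe_pow, pow_two]
      exact r4))
    (hno _ htK hnt) (hno _ hwK hnw)
  refine ⟨hA.2, (tblSubgroup TL9 hG9).subgroupOf K0, hA.1, hN9, ?_, ⟨pT tt, htK⟩, ⟨pT tw, hwK⟩,
    by rw [Subgroup.orderOf_mk]; exact hord, ?_, ?_⟩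
  · intro n hn
    rw [Subgroup.mem_subgroupOf] at hn
    obtain ⟨a, ha, hna⟩ := hn
    apply Subtype.ext
    rw [Subgroup.coe_pow, hna, pow_three']
    have hv := hG9.valid a ha
    exact eq_of_eqT (Cfsg.Agent.Lib.helper9.isTable_mul
      (Cfsg.Agent.Lib.helper9.isTable_mul (isTable_pT hv) (isTable_pT hv)) (isTable_pT hv))
      isTable_one ((List.all_eq_true.1 cube9) a ha)
  · exact Subtype.ext (by
      show pT tw * pT tt * (pT tw)⁻¹ = (pT tt)⁻¹
      rw [mul_assoc]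
      exact r3)
  · exact Subtype.ext (by
      show pT tw * pT tw = ((⟨pT tt, htK⟩ : K0) ^ 2 : K0)
      rw [Subgroup.coe_pow, pow_two]
      exact r4)

/-! ### Transport -/

theorem stab4 (d : Finset GolayPt) (p q r : GolayPt) :
    MulAction.stabilizer M24 d ⊓ MulAction.stabilizer M24 p ⊓ MulAction.stabilizer M24 q ⊓
        MulAction.stabilizer M24 r =
      MulAction.stabilizer M24 ((d, p, q, r) : Finset GolayPt × GolayPt × GolayPt × GolayPt) := by
  ext g
  simp only [MulAction.mem_stabilizer_iff, Subgroup.mem_inf, Prod.smul_mk, Prod.mk.injEq,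
    and_assoc]

theorem dod_three (d : Finset GolayPt) (hd : d ∈ dodecads) (a b c a' b' c' : GolayPt)
    (ha : a ∈ d) (hb : b ∈ d) (hc : c ∈ d) (ha' : a' ∈ d) (hb' : b' ∈ d) (hc' : c' ∈ d)
    (hab : a ≠ b) (hac : a ≠ c) (hbc : b ≠ c) (hab' : a' ≠ b') (hac' : a' ≠ c')
    (hbc' : b' ≠ c') : ∃ τ ∈ M24, τ • d = d ∧ τ a = a' ∧ τ b = b' ∧ τ c = c' := by
  have := dodSub_pretrans d hd
  have : Finite (dodSub d) := Finite.of_injective (fun x : dodSub d => (x : GolayPt))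
    Subtype.val_injective
  have h3 : MulAction.IsMultiplyPretransitive (MulAction.stabilizer M24 d) (dodSub d) 3 :=
    MulAction.isMultiplyPretransitive_of_le (n := 5) (by norm_num)
      (by rw [card_dodSub d hd]; norm_num)
  have inj : ∀ u v w : dodSub d, u ≠ v → u ≠ w → v ≠ w →
      Function.Injective (![u, v, w] : Fin 3 → dodSub d) := by
    intro u v w huv huw hvw i j hij
    fin_cases i <;> fin_cases j <;> first | rfl | (exfalso; revert hij; simp) 
      <;> first | exact huv | exact huw | exact hvw | exact huv.symm | exact huw.symm | exact hvw.symm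
  let x : Fin 3 ↪ dodSub d := ⟨![⟨a, ha⟩, ⟨b, hb⟩, ⟨c, hc⟩], inj _ _ _
    (fun h => hab (congrArg Subtype.val h)) (fun h => hac (congrArg Subtype.val h))
    (fun h => hbc (congrArg Subtype.val h))⟩
  let y : Fin 3 ↪ dodSub d := ⟨![⟨a', ha'⟩, ⟨b', hb'⟩, ⟨c', hc'⟩], inj _ _ _
    (fun h => hab' (congrArg Subtype.val h)) (fun h => hac' (congrArg Subtype.val h))
    (fun h => hbc' (congrArg Subtype.val h))⟩
  obtain ⟨τ, hτ⟩ := MulAction.exists_smul_eq (MulAction.stabilizer M24 d) x y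
  refine ⟨((τ : M24) : Equiv.Perm GolayPt), (τ : M24).2, τ.2, ?_, ?_, ?_⟩
  · exact congrArg (fun e : Fin 3 ↪ dodSub d => ((e 0 : dodSub d) : GolayPt)) hτ
  · exact congrArg (fun e : Fin 3 ↪ dodSub d => ((e 1 : dodSub d) : GolayPt)) hτ
  · exact congrArg (fun e : Fin 3 ↪ dodSub d => ((e 2 : dodSub d) : GolayPt)) hτ

theorem d72_general (d : Finset GolayPt) (hd : d ∈ dodecads) (p q r : GolayPt) (hp : p ∈ d)
    (hq : q ∈ d) (hr : r ∈ d) (hpq : p ≠ q) (hpr : p ≠ r) (hqr : q ≠ r) :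
    D72 ↥(MulAction.stabilizer M24 d ⊓ MulAction.stabilizer M24 p ⊓ MulAction.stabilizer M24 q ⊓
      MulAction.stabilizer M24 r) := by
  obtain ⟨σ, hσ, rfl⟩ := exists_smul_dod0 hd
  have hm : ∀ i, pt i ∈ dod0 → σ (pt i) ∈ σ • dod0 := fun i hi =>
    Finset.smul_mem_smul_finset (a := σ) hi
  obtain ⟨τ, hτ, hτd, h0, h2, h3⟩ := dod_three (σ • dod0) hd (σ (pt 0)) (σ (pt 2)) (σ (pt 3))
    p q r (hm 0 pts_mem.1) (hm 2 pts_mem.2.1) (hm 3 pts_mem.2.2.1) hp hq hr
    (fun h => pts_ne.2.2.2.2.2.2.2.1 (σ.injective h))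
    (fun h => pts_ne.2.2.2.2.2.2.2.2.1 (σ.injective h))
    (fun h => pts_ne.2.2.2.2.2.2.2.2.2 (σ.injective h)) hpq hpr hqr
  have hg : ((σ • dod0, p, q, r) : Finset GolayPt × GolayPt × GolayPt × GolayPt) =
      (⟨τ * σ, M24.mul_mem hτ hσ⟩ : M24) • x0 := by
    show (σ • dod0, p, q, r) = ((τ * σ) • dod0, (τ * σ) (pt 0), (τ * σ) (pt 2), (τ * σ) (pt 3))
    rw [mul_smul, hτd, Equiv.Perm.mul_apply, Equiv.Perm.mul_apply, Equiv.Perm.mul_apply, h0, h2,
      h3]
  exact D72.of_equiv ((stabEquiv x0).symm.trans ((MulAction.stabilizerEquivStabilizer hg).trans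
    (MulEquiv.subgroupCongr (stab4 (σ • dod0) p q r).symm))) d72_K0

/-- In the group of the length-24 code, the subgroup fixing a dodecad setwise and three of its points individually (a group of order 72) has a normal Sylow 3-subgroup that is elementary abelian of order 9, and its Sylow 2-subgroups are quaternion of order 8. -/
theorem result (d : Finset Cfsg.GolayPt) (hd : d ∈ Cfsg.dodecads) (p q r : Cfsg.GolayPt) (hp : p ∈ d) (hq : q ∈ d) (hr : r ∈ d) (hpq : p ≠ q) (hpr : p ≠ r) (hqr : q ≠ r) : (∀ Q : Sylow 3 ↥(MulAction.stabilizer Cfsg.M24 d ⊓ MulAction.stabilizer Cfsg.M24 p ⊓ MulAction.stabilizer Cfsg.M24 q ⊓ MulAction.stabilizer Cfsg.M24 r), (Q : Subgroup ↥(MulAction.stabilizer Cfsg.M24 d ⊓ MulAction.stabilizer Cfsg.M24 p ⊓ MulAction.stabilizer Cfsg.M24 q ⊓ MulAction.stabilizer Cfsg.M24 r)).Normal ∧ Nat.card ↥Q = 9 ∧ ∀ x ∈ (Q : Subgroup ↥(MulAction.stabilizer Cfsg.M24 d ⊓ MulAction.stabilizer Cfsg.M24 p ⊓ MulAction.stabilizer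 Cfsg.M24 q ⊓ MulAction.stabilizer Cfsg.M24 r)), x ^ 3 = 1) ∧ ∀ P : Sylow 2 ↥(MulAction.stabilizer Cfsg.M24 d ⊓ MulAction.stabilizer Cfsg.M24 p ⊓ MulAction.stabilizer Cfsg.M24 q ⊓ MulAction.stabilizer Cfsg.M24 r), Nonempty (↥P ≃* QuaternionGroup 2) := by
  exact (d72_general d hd p q r hp hq hr hpq hpr hqr).sylow

end Cfsg.Agent.S5619
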