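import Cfsg.Statements.S5620
import Cfsg.Agent.Lib.helper6.M21

set_option autoImplicit false
open Cfsg

namespace Cfsg.Agent.S5620

open Cfsg.Spor Cfsg.Agent.Lib.helper6.M21
open scoped Pointwise

theorem projInv_smul : projInv • squareDodecad = Finset.univ \ squareDodecad := by decide

theorem zero_mem : (some 0 : GolayPt) ∈ squareDodecad := by decide

theorem conj_mem_iff (g : Equiv.Perm GolayPt) (hg : g ∈ M24) (S : Finset GolayPt) (a : GolayPt)
    (x : Equiv.Perm GolayPt) :
    g⁻¹ * x * g ∈ M24 ⊓ MulAction.stabilizer (Equiv.Perm GolayPt) S ⊓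
        MulAction.stabilizer (Equiv.Perm GolayPt) a ↔
      x ∈ M24 ⊓ MulAction.stabilizer (Equiv.Perm GolayPt) (g • S) ⊓
        MulAction.stabilizer (Equiv.Perm GolayPt) (g a) := by
  have h1 : g⁻¹ * x * g ∈ M24 ↔ x ∈ M24 := by
    constructor
    · intro h
      have : x = g * (g⁻¹ * x * g) * g⁻¹ := by group
      rw [this]
      exact M24.mul_mem (M24.mul_mem hg h) (M24.inv_mem hg)
    · intro h
      exact M24.mul_mem (M24.mul_mem (M24.inv_mem hg) h) hg
  have h2 : g⁻¹ * x * g ∈ MulAction.stabilizer (Equiv.Perm GolayPt) S ↔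
      x ∈ MulAction.stabilizer (Equiv.Perm GolayPt) (g • S) := by
    rw [MulAction.mem_stabilizer_iff, MulAction.mem_stabilizer_iff, mul_smul, mul_smul,
      inv_smul_eq_iff]
  have h3 : g⁻¹ * x * g ∈ MulAction.stabilizer (Equiv.Perm GolayPt) a ↔
      x ∈ MulAction.stabilizer (Equiv.Perm GolayPt) (g a) := by
    rw [MulAction.mem_stabilizer_iff, MulAction.mem_stabilizer_iff, mul_smul, mul_smul,
      inv_smul_eq_iff]
    rfl
  rw [Subgroup.mem_inf, Subgroup.mem_inf, Subgroup.mem_inf, Subgroup.mem_inf]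
  exact and_congr (and_congr h1 h2) h3

theorem smul_M11 (g : Equiv.Perm GolayPt) (hg : g ∈ M24) :
    MulAut.conj g • M11 = M24 ⊓ MulAction.stabilizer (Equiv.Perm GolayPt) (g • squareDodecad) ⊓
        MulAction.stabilizer (Equiv.Perm GolayPt) (g (some 0)) := by
  ext x
  rw [Subgroup.mem_pointwise_smul_iff_inv_smul_mem, ← conj_mem_iff g hg]
  have : (MulAut.conj g)⁻¹ • x = g⁻¹ * x * g := by
    rw [MulAut.smul_def, MulAut.conj_inv_apply]
  rw [this]
  rfl

theorem stab_compl (x : Equiv.Perm GolayPt) (d : Finset GolayPt) :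
    x • (Finset.univ \ d) = Finset.univ \ d ↔ x • d = d := by
  rw [Finset.smul_finset_sdiff, Finset.smul_finset_univ]
  constructor
  · intro h
    have h2 := congrArg (fun s => Finset.univ \ s) h
    simpa using h2
  · intro h
    rw [h]

theorem conj_projInv :
    MulAut.conj projInv • M11 =
      M12 ⊓ MulAction.stabilizer (Equiv.Perm GolayPt) (none : GolayPt) := by
  rw [smul_M11 projInv Cfsg.Agent.Lib.helper9.projInv_mem_M24, projInv_smul]
  ext x
  have h0 : projInv (some 0) = none := rfl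
  rw [h0]
  have hs : x ∈ MulAction.stabilizer (Equiv.Perm GolayPt) (Finset.univ \ squareDodecad) ↔
      x ∈ MulAction.stabilizer (Equiv.Perm GolayPt) squareDodecad := stab_compl x squareDodecad
  rw [M12, Subgroup.mem_inf, Subgroup.mem_inf, Subgroup.mem_inf, Subgroup.mem_inf]
  exact and_congr (and_congr Iff.rfl hs) Iff.rfl

def tbm : List ℕ :=
  [6, 0, 13, 12, 18, 22, 4, 20, 1, 16, 17, 10, 8, 9, 11, 5, 2, 19, 3, 15, 7, 21, 14, 23]
def tbm' : List ℕ :=
  [1, 8, 16, 18, 6, 15, 0, 20, 12, 13, 11, 14, 3, 2, 22, 19, 9, 10, 4, 17, 7, 21, 5, 23]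

/-- an element of order 8 of `M12` fixing `∞` and no point of the dodecad -/
def m1 : Equiv.Perm GolayPt := tblPerm tbm tbm' (by decide) (by decide)

theorem m1_mem : m1 ∈ M24 := tblPerm_mem _ _ _ _ (by decide) (by decide +kernel)

theorem m1_smul : m1 • squareDodecad = squareDodecad := by decide

theorem m1_none : m1 none = none := by decide

theorem m1_fpf : ∀ y ∈ squareDodecad, m1 y ≠ y := by decide

/-- Inside the stabiliser of the dodecad of squares (a Mathieu group of degree 12), the stabiliser of the residue 0 (a point of the dodecad) and the stabiliser of the extra point (a point outside the dodecad) are isomorphic but not conjugate; conjugation by a suitable element of the code's group that maps the dodecad of squares onto its complement carries the first onto the second. -/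
theorem result : Nonempty (↥(Cfsg.Spor.M12 ⊓ MulAction.stabilizer (Equiv.Perm Cfsg.GolayPt) (none : Cfsg.GolayPt)) ≃* ↥Cfsg.Spor.M11) ∧ (¬ ∃ k ∈ Cfsg.Spor.M12, MulAut.conj k • Cfsg.Spor.M11 = Cfsg.Spor.M12 ⊓ MulAction.stabilizer (Equiv.Perm Cfsg.GolayPt) (none : Cfsg.GolayPt)) ∧ ∃ g ∈ Cfsg.M24, g • Cfsg.Spor.squareDodecad = Finset.univ \ Cfsg.Spor.squareDodecad ∧ MulAut.conj g • Cfsg.Spor.M11 = Cfsg.Spor.M12 ⊓ MulAction.stabilizer (Equiv.Perm Cfsg.GolayPt) (none : Cfsg.GolayPt) := by
  refine ⟨⟨((Subgroup.equivSMul (MulAut.conj projInv) M11).trans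
    (MulEquiv.subgroupCongr conj_projInv)).symm⟩, ?_,
    ⟨projInv, Cfsg.Agent.Lib.helper9.projInv_mem_M24, projInv_smul, conj_projInv⟩⟩
  rintro ⟨k, hk, hK⟩
  have hk' : k ∈ M24 ∧ k • squareDodecad = squareDodecad := by
    rw [M12, Subgroup.mem_inf] at hk
    exact hk
  rw [smul_M11 k hk'.1, hk'.2] at hK
  have hm : m1 ∈ M12 ⊓ MulAction.stabilizer (Equiv.Perm GolayPt) (none : GolayPt) := by
    rw [M12, Subgroup.mem_inf, Subgroup.mem_inf]
    exact ⟨⟨m1_mem, m1_smul⟩, m1_none⟩
  rw [← hK] at hm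
  have h1 : m1 (k (some 0)) = k (some 0) := hm.2
  have h2 : k (some 0) ∈ squareDodecad := by
    have := Finset.smul_mem_smul_finset (a := k) zero_mem
    rw [hk'.2] at this
    exact this
  exact m1_fpf _ h2 h1

end Cfsg.Agent.S5620
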