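import Cfsg.Statements.S5632
-- import your own Cfsg.Agent.* helpers here

set_option autoImplicit false
open Cfsg

namespace Cfsg.Agent.S5632

/-- A linear equivalence of determinant one gives an element of the special linear subgroup acting the same way. -/
theorem exists_sl_of_linearEquiv {F : Type*} [Field F] (n : ℕ) (e : (Fin n → F) ≃ₗ[F] (Fin n → F))
    (he : LinearMap.det (e : (Fin n → F) →ₗ[F] (Fin n → F)) = 1) :
    ∃ g : Matrix.GeneralLinearGroup (Fin n) F, g ∈ Cfsg.Geo.specialLinear (Fin n) F ∧
      ∀ v : Fin n → F, (g : Matrix (Fin n) (Fin n) F).mulVec v = e v := by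
  have hdet : (LinearMap.toMatrix' (e : (Fin n → F) →ₗ[F] (Fin n → F))).det = 1 := by
    rw [LinearMap.det_toMatrix']; exact he
  refine ⟨Matrix.GeneralLinearGroup.mkOfDetNeZero
    (LinearMap.toMatrix' (e : (Fin n → F) →ₗ[F] (Fin n → F))) (by rw [hdet]; exact one_ne_zero), ?_, ?_⟩
  · unfold Cfsg.Geo.specialLinear
    rw [MonoidHom.mem_ker]
    apply Units.ext
    simp [Matrix.GeneralLinearGroup.mkOfDetNeZero, hdet]
  · intro v
    have := Matrix.toLin'_apply (LinearMap.toMatrix' (e : (Fin n → F) →ₗ[F] (Fin n → F))) v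
    rw [Matrix.toLin'_toMatrix'] at this
    simp [Matrix.GeneralLinearGroup.mkOfDetNeZero, ← this]

/-- A transvection in the special linear subgroup: given a subspace `P`, `x ∈ P`-side vector killed and `u ∉ P`,
there is `g ∈ SL` fixing `P` pointwise-ish: `g v = v + φ v • x` with `φ` vanishing on `P` and `φ u ≠ 0`. -/
theorem exists_transvection {F : Type*} [Field F] (n : ℕ) (P : Submodule F (Fin n → F)) (x u : Fin n → F)
    (hx : x ∈ P) (hu : u ∉ P) :
    ∃ (g : Matrix.GeneralLinearGroup (Fin n) F) (φ : Module.Dual F (Fin n → F)),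
      g ∈ Cfsg.Geo.specialLinear (Fin n) F ∧ (∀ p ∈ P, φ p = 0) ∧ φ u ≠ 0 ∧
      ∀ v : Fin n → F, (g : Matrix (Fin n) (Fin n) F).mulVec v = v + φ v • x := by
  obtain ⟨φ, hφu, hφP⟩ := Submodule.exists_le_ker_of_notMem hu
  have hφx : φ x = 0 := hφP hx
  obtain ⟨g, hg, hgv⟩ := exists_sl_of_linearEquiv n (LinearEquiv.transvection hφx) (by
    have h := LinearEquiv.transvection.det_eq_one hφx
    have h2 := congrArg Units.val h
    rw [LinearEquiv.coe_det] at h2
    simpa using h2)
  refine ⟨g, φ, hg, fun p hp => hφP hp, hφu, fun v => ?_⟩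
  rw [hgv v]
  rfl

/-- For a finite field F and subspaces 0 < W < U of F^n with dim W + dim U = n, the elements of SL_n(F) stabilising both W and U form a subgroup that is not maximal in SL_n(F): some subgroup lies strictly between it and SL_n(F). -/
theorem result {F : Type*} [Field F] [Fintype F] (n : ℕ) (W U : Submodule F (Fin n → F)) (hW0 : W ≠ ⊥) (hWU : W < U) (hdim : Module.finrank F W + Module.finrank F U = n) : ∃ K : Subgroup (Matrix.GeneralLinearGroup (Fin n) F), Cfsg.Geo.subspaceStabilizer W ⊓ Cfsg.Geo.subspaceStabilizer U ⊓ Cfsg.Geo.specialLinear (Fin n) F < K ∧ K < Cfsg.Geo.specialLinear (Fin n) F := by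
  classical
  -- U is a proper subspace
  have hUtop : U ≠ ⊤ := by
    intro h
    rw [h, finrank_top, Module.finrank_pi, Fintype.card_fin] at hdim
    have : Module.finrank F W = 0 := by omega
    exact hW0 (Submodule.finrank_eq_zero.mp this)
  -- a vector in U outside W, a vector outside U, a nonzero vector of W
  obtain ⟨u, huU, huW⟩ := SetLike.exists_of_lt hWU
  obtain ⟨x, hxU⟩ : ∃ x : Fin n → F, x ∉ U := by
    by_contra h
    push Not at h
    exact hUtop (eq_top_iff.mpr fun v _ => h v)
  obtain ⟨w, hwW, hw0⟩ := (Submodule.ne_bot_iff W).mp hW0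
  have hxW : x ∉ W := fun h => hxU (hWU.le h)
  refine ⟨Cfsg.Geo.subspaceStabilizer W ⊓ Cfsg.Geo.specialLinear (Fin n) F, ?_, ?_⟩
  · -- first strict inclusion
    refine lt_of_le_of_ne (fun g hg => ⟨hg.1.1, hg.2⟩) ?_
    -- transvection v ↦ v + φ v • x with φ vanishing on W ⊔ span x, φ u ≠ 0
    have hu' : u ∉ W ⊔ Submodule.span F {x} := by
      intro h
      rw [Submodule.mem_sup] at h
      obtain ⟨a, ha, b, hb, hab⟩ := h
      rw [Submodule.mem_span_singleton] at hb
      obtain ⟨c, rfl⟩ := hb
      by_cases hc : c = 0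
      · subst hc
        simp at hab
        exact huW (hab ▸ ha)
      · apply hxU
        have : c • x = u - a := by rw [← hab]; abel
        have h2 : c • x ∈ U := by rw [this]; exact U.sub_mem huU (hWU.le ha)
        have h3 := U.smul_mem c⁻¹ h2
        rwa [smul_smul, inv_mul_cancel₀ hc, one_smul] at h3
    obtain ⟨g, φ, hgSL, hφP, hφu, hgv⟩ := exists_transvection n (W ⊔ Submodule.span F {x}) x u
      (Submodule.mem_sup_right (Submodule.mem_span_singleton_self x)) hu'
    have hφW : ∀ v ∈ W, φ v = 0 := fun v hv => hφP v (Submodule.mem_sup_left hv)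
    have hφx : φ x = 0 := hφP x (Submodule.mem_sup_right (Submodule.mem_span_singleton_self x))
    have hgW : g ∈ Cfsg.Geo.subspaceStabilizer W := by
      intro v
      show v ∈ W ↔ (g : Matrix (Fin n) (Fin n) F).mulVec v ∈ W
      rw [hgv v]
      constructor
      · intro hv
        rw [hφW v hv, zero_smul, add_zero]; exact hv
      · intro hv
        have h0 : φ v = 0 := by
          have := hφW _ hv
          rw [map_add, map_smul, hφx, smul_zero, add_zero] at this
          exact this
        rwa [h0, zero_smul, add_zero] at hv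
    have hgU : g ∉ Cfsg.Geo.subspaceStabilizer U := by
      intro h
      have h1 : (g : Matrix (Fin n) (Fin n) F).mulVec u ∈ U := (h u).mp huU
      rw [hgv u] at h1
      have h2 : φ u • x ∈ U := by
        have := U.sub_mem h1 huU
        simpa using this
      have h3 := U.smul_mem (φ u)⁻¹ h2
      rw [smul_smul, inv_mul_cancel₀ hφu, one_smul] at h3
      exact hxU h3
    intro heq
    have : g ∈ Cfsg.Geo.subspaceStabilizer W ⊓ Cfsg.Geo.subspaceStabilizer U ⊓ Cfsg.Geo.specialLinear (Fin n) F := by
      rw [heq]; exact ⟨hgW, hgSL⟩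
    exact hgU this.1.2
  · -- second strict inclusion
    refine lt_of_le_of_ne (fun g hg => hg.2) ?_
    have hw' : w ∉ Submodule.span F {x} := by
      intro h
      rw [Submodule.mem_span_singleton] at h
      obtain ⟨c, rfl⟩ := h
      by_cases hc : c = 0
      · subst hc; simp at hw0
      · apply hxW
        have h3 := W.smul_mem c⁻¹ hwW
        rwa [smul_smul, inv_mul_cancel₀ hc, one_smul] at h3
    obtain ⟨g, φ, hgSL, hφP, hφw, hgv⟩ := exists_transvection n (Submodule.span F {x}) x w
      (Submodule.mem_span_singleton_self x) hw'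
    have hgW : g ∉ Cfsg.Geo.subspaceStabilizer W := by
      intro h
      have h1 : (g : Matrix (Fin n) (Fin n) F).mulVec w ∈ W := (h w).mp hwW
      rw [hgv w] at h1
      have h2 : φ w • x ∈ W := by
        have := W.sub_mem h1 hwW
        simpa using this
      have h3 := W.smul_mem (φ w)⁻¹ h2
      rw [smul_smul, inv_mul_cancel₀ hφw, one_smul] at h3
      exact hxW h3
    intro heq
    have : g ∈ Cfsg.Geo.subspaceStabilizer W ⊓ Cfsg.Geo.specialLinear (Fin n) F := by
      rw [heq]; exact hgSL
    exact hgW this.1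

end Cfsg.Agent.S5632
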