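import Cfsg.Statements.S5631
import Cfsg.Agent.S5632

set_option autoImplicit false
open Cfsg

namespace Cfsg.Agent.S5631

variable {F : Type*} [Field F] {n : ℕ}

/-- The transvection `v ↦ v + φ v • x` (with `φ x = 0`) as an element of the special linear subgroup. -/
theorem exists_tau (φ : Module.Dual F (Fin n → F)) (x : Fin n → F) (hφx : φ x = 0) :
    ∃ g : Matrix.GeneralLinearGroup (Fin n) F, g ∈ Cfsg.Geo.specialLinear (Fin n) F ∧
      ∀ v : Fin n → F, (g : Matrix (Fin n) (Fin n) F).mulVec v = v + φ v • x := by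
  obtain ⟨g, hg, hgv⟩ := Cfsg.Agent.S5632.exists_sl_of_linearEquiv n (LinearEquiv.transvection hφx) (by
    have h := LinearEquiv.transvection.det_eq_one hφx
    have h2 := congrArg Units.val h
    rw [LinearEquiv.coe_det] at h2
    simpa using h2)
  refine ⟨g, hg, fun v => ?_⟩
  rw [hgv v]
  rfl

theorem act_mul (g h : Matrix.GeneralLinearGroup (Fin n) F) (v : Fin n → F) :
    ((g * h : Matrix.GeneralLinearGroup (Fin n) F) : Matrix (Fin n) (Fin n) F).mulVec v
      = (g : Matrix (Fin n) (Fin n) F).mulVec ((h : Matrix (Fin n) (Fin n) F).mulVec v) := by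
  rw [Units.val_mul, Matrix.mulVec_mulVec]

theorem act_inv_act (g : Matrix.GeneralLinearGroup (Fin n) F) (v : Fin n → F) :
    ((g⁻¹ : Matrix.GeneralLinearGroup (Fin n) F) : Matrix (Fin n) (Fin n) F).mulVec
      ((g : Matrix (Fin n) (Fin n) F).mulVec v) = v := by
  rw [← act_mul, inv_mul_cancel]; simp

theorem act_act_inv (g : Matrix.GeneralLinearGroup (Fin n) F) (v : Fin n → F) :
    (g : Matrix (Fin n) (Fin n) F).mulVec
      (((g⁻¹ : Matrix.GeneralLinearGroup (Fin n) F) : Matrix (Fin n) (Fin n) F).mulVec v) = v := by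
  rw [← act_mul, mul_inv_cancel]; simp

theorem act_smul (g : Matrix.GeneralLinearGroup (Fin n) F) (c : F) (v : Fin n → F) :
    (g : Matrix (Fin n) (Fin n) F).mulVec (c • v) = c • (g : Matrix (Fin n) (Fin n) F).mulVec v :=
  Matrix.mulVec_smul _ _ _

theorem act_add (g : Matrix.GeneralLinearGroup (Fin n) F) (v w : Fin n → F) :
    (g : Matrix (Fin n) (Fin n) F).mulVec (v + w)
      = (g : Matrix (Fin n) (Fin n) F).mulVec v + (g : Matrix (Fin n) (Fin n) F).mulVec w :=
  Matrix.mulVec_add _ _ _

theorem mem_stab_iff (W : Submodule F (Fin n → F)) (g : Matrix.GeneralLinearGroup (Fin n) F) :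
    g ∈ Cfsg.Geo.subspaceStabilizer W ↔
      ∀ v : Fin n → F, v ∈ W ↔ (g : Matrix (Fin n) (Fin n) F).mulVec v ∈ W := Iff.rfl

/-- A functional vanishing on `P` and taking the value one at `u ∉ P`. -/
theorem exists_dual_one (P : Submodule F (Fin n → F)) (u : Fin n → F) (hu : u ∉ P) :
    ∃ φ : Module.Dual F (Fin n → F), (∀ p ∈ P, φ p = 0) ∧ φ u = 1 := by
  obtain ⟨φ, hφu, hφP⟩ := Submodule.exists_le_ker_of_notMem hu
  refine ⟨(φ u)⁻¹ • φ, fun p hp => ?_, ?_⟩
  · have : φ p = 0 := hφP hp
    simp [this]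
  · simp [inv_mul_cancel₀ hφu]

/-- Transvections with vector in `W` stabilise `W`. -/
theorem mem_stab_of_vec (W : Submodule F (Fin n → F)) (g : Matrix.GeneralLinearGroup (Fin n) F)
    (φ : (Fin n → F) → F) (w : Fin n → F) (hw : w ∈ W)
    (hg : ∀ v : Fin n → F, (g : Matrix (Fin n) (Fin n) F).mulVec v = v + φ v • w) :
    g ∈ Cfsg.Geo.subspaceStabilizer W := by
  rw [mem_stab_iff]
  intro v
  rw [hg v]
  constructor
  · intro hv; exact W.add_mem hv (W.smul_mem _ hw)
  · intro hv
    have := W.sub_mem hv (W.smul_mem (φ v) hw)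
    simpa using this

/-- Transvections with functional vanishing on `W` stabilise `W`. -/
theorem mem_stab_of_dual (W : Submodule F (Fin n → F)) (g : Matrix.GeneralLinearGroup (Fin n) F)
    (φ : Module.Dual F (Fin n → F)) (x : Fin n → F) (hφW : ∀ w ∈ W, φ w = 0) (hφx : φ x = 0)
    (hg : ∀ v : Fin n → F, (g : Matrix (Fin n) (Fin n) F).mulVec v = v + φ v • x) :
    g ∈ Cfsg.Geo.subspaceStabilizer W := by
  rw [mem_stab_iff]
  intro v
  rw [hg v]
  constructor
  · intro hv
    rw [hφW v hv, zero_smul, add_zero]; exact hv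
  · intro hv
    have h0 : φ v = 0 := by
      have := hφW _ hv
      rw [map_add, map_smul, hφx, smul_zero, add_zero] at this
      exact this
    rwa [h0, zero_smul, add_zero] at hv

section main

variable (W : Submodule F (Fin n → F)) (M : Subgroup (Matrix.GeneralLinearGroup (Fin n) F))
  (hPM : Cfsg.Geo.subspaceStabilizer W ⊓ Cfsg.Geo.specialLinear (Fin n) F ≤ M)
  (hMSL : M ≤ Cfsg.Geo.specialLinear (Fin n) F)

include hPM hMSL

/-- If `M` is strictly larger than the stabiliser, some element of `M` moves a vector of `W` out of `W`. -/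
theorem exists_moved
    (hne : M ≠ Cfsg.Geo.subspaceStabilizer W ⊓ Cfsg.Geo.specialLinear (Fin n) F) :
    ∃ h ∈ M, ∃ w ∈ W, (h : Matrix (Fin n) (Fin n) F).mulVec w ∉ W := by
  by_contra hcon
  push Not at hcon
  apply hne
  apply le_antisymm _ hPM
  intro g hg
  refine Subgroup.mem_inf.mpr ⟨?_, hMSL hg⟩
  rw [mem_stab_iff]
  intro v
  constructor
  · intro hv; exact hcon g hg v hv
  · intro hv
    have := hcon g⁻¹ (M.inv_mem hg) _ hv
    rwa [act_inv_act] at this

/-- Every vector lies in the image of `W` under some element of `M`. -/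
theorem forall_mem_orbit
    (hne : M ≠ Cfsg.Geo.subspaceStabilizer W ⊓ Cfsg.Geo.specialLinear (Fin n) F) (y : Fin n → F) :
    ∃ m ∈ M, ∃ w ∈ W, y = (m : Matrix (Fin n) (Fin n) F).mulVec w := by
  by_cases hy : y ∈ W
  · exact ⟨1, M.one_mem, y, hy, by simp⟩
  obtain ⟨h, hh, w0, hw0, hx0⟩ := exists_moved W M hPM hMSL hne
  set x0 := (h : Matrix (Fin n) (Fin n) F).mulVec w0 with hx0def
  -- a functional vanishing on W with ψ x0 = 1 and ψ y ≠ 0
  obtain ⟨ψ, hψW, hψx, hψy⟩ : ∃ ψ : Module.Dual F (Fin n → F), (∀ w ∈ W, ψ w = 0) ∧ ψ x0 = 1 ∧ ψ y ≠ 0 := by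
    obtain ⟨ψ1, h1W, h1x⟩ := exists_dual_one W x0 hx0
    obtain ⟨ψ2, h2W, h2y⟩ := exists_dual_one W y hy
    by_cases h1y : ψ1 y = 0
    · by_cases h2x : ψ2 x0 = 0
      · refine ⟨ψ1 + ψ2, fun w hw => ?_, ?_, ?_⟩
        · simp [h1W w hw, h2W w hw]
        · simp [h1x, h2x]
        · simp [h1y, h2y]
      · refine ⟨(ψ2 x0)⁻¹ • ψ2, fun w hw => ?_, ?_, ?_⟩
        · simp [h2W w hw]
        · simp [inv_mul_cancel₀ h2x]
        · simp [h2y, h2x]
    · exact ⟨ψ1, h1W, h1x, h1y⟩
  set c := ψ y with hc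
  set z := c⁻¹ • y - x0 with hz
  have hψz : ψ z = 0 := by
    rw [hz, map_sub, map_smul, hψx, smul_eq_mul, inv_mul_cancel₀ hψy, sub_self]
  obtain ⟨t, htSL, htv⟩ := exists_tau ψ z hψz
  have htP : t ∈ Cfsg.Geo.subspaceStabilizer W := mem_stab_of_dual W t ψ z hψW hψz htv
  have htM : t ∈ M := hPM ⟨htP, htSL⟩
  refine ⟨t * h, M.mul_mem htM hh, c • w0, W.smul_mem c hw0, ?_⟩
  rw [act_mul, act_smul, ← hx0def, act_smul, htv x0, hψx, one_smul, hz]
  rw [add_sub_cancel, smul_smul, mul_inv_cancel₀ hψy, one_smul]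

/-- `M` contains every transvection. -/
theorem tau_mem
    (hne : M ≠ Cfsg.Geo.subspaceStabilizer W ⊓ Cfsg.Geo.specialLinear (Fin n) F)
    (g : Matrix.GeneralLinearGroup (Fin n) F) (hg : g ∈ Cfsg.Geo.specialLinear (Fin n) F)
    (φ : Module.Dual F (Fin n → F)) (y : Fin n → F)
    (hgv : ∀ v : Fin n → F, (g : Matrix (Fin n) (Fin n) F).mulVec v = v + φ v • y) : g ∈ M := by
  obtain ⟨m, hm, w, hw, rfl⟩ := forall_mem_orbit W M hPM hMSL hne y
  have hconj : m⁻¹ * g * m ∈ Cfsg.Geo.subspaceStabilizer W ⊓ Cfsg.Geo.specialLinear (Fin n) F := by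
    refine ⟨?_, ?_⟩
    · refine mem_stab_of_vec W _ (fun v => φ ((m : Matrix (Fin n) (Fin n) F).mulVec v)) w hw ?_
      intro v
      rw [act_mul, act_mul, hgv, act_add, act_inv_act, act_smul, act_inv_act]
    · exact Subgroup.mul_mem _ (Subgroup.mul_mem _ (Subgroup.inv_mem _ (hMSL hm)) hg) (hMSL hm)
  have := M.mul_mem (M.mul_mem hm (hPM hconj)) (M.inv_mem hm)
  simpa [mul_assoc] using this

/-- Every element of the special linear group can be corrected by an element of `M` so as to
stabilise `W`. -/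
theorem exists_mul_mem_stab
    (hne : M ≠ Cfsg.Geo.subspaceStabilizer W ⊓ Cfsg.Geo.specialLinear (Fin n) F) (k : ℕ) :
    ∀ g : Matrix.GeneralLinearGroup (Fin n) F, g ∈ Cfsg.Geo.specialLinear (Fin n) F →
      Module.finrank F W ≤ Module.finrank F
        (W ⊓ W.map (Matrix.toLin' (g : Matrix (Fin n) (Fin n) F)) : Submodule F (Fin n → F)) + k →
      ∃ m ∈ M, m * g ∈ Cfsg.Geo.subspaceStabilizer W := by
  induction k with
  | zero =>
    intro g _ hfin
    rw [add_zero] at hfin
    have hinj : Function.Injective (Matrix.toLin' (g : Matrix (Fin n) (Fin n) F)) := by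
      intro a b hab
      rw [Matrix.toLin'_apply, Matrix.toLin'_apply] at hab
      have := congrArg (fun v => ((g⁻¹ : Matrix.GeneralLinearGroup (Fin n) F) : Matrix (Fin n) (Fin n) F).mulVec v) hab
      simpa [act_inv_act] using this
    have hfr : Module.finrank F (W.map (Matrix.toLin' (g : Matrix (Fin n) (Fin n) F))) = Module.finrank F W :=
      (Submodule.equivMapOfInjective _ hinj W).finrank_eq.symm
    have h1 : W ⊓ W.map (Matrix.toLin' (g : Matrix (Fin n) (Fin n) F)) = W :=
      Submodule.eq_of_le_of_finrank_le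
        (inf_le_left : W ⊓ W.map (Matrix.toLin' (g : Matrix (Fin n) (Fin n) F)) ≤ W) hfin
    have h2 : W ≤ W.map (Matrix.toLin' (g : Matrix (Fin n) (Fin n) F)) := by
      have := (inf_le_right : W ⊓ W.map (Matrix.toLin' (g : Matrix (Fin n) (Fin n) F))
        ≤ W.map (Matrix.toLin' (g : Matrix (Fin n) (Fin n) F)))
      rwa [h1] at this
    have h3 : W = W.map (Matrix.toLin' (g : Matrix (Fin n) (Fin n) F)) :=
      Submodule.eq_of_le_of_finrank_le h2 (le_of_eq hfr)
    refine ⟨1, M.one_mem, ?_⟩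
    rw [one_mul, mem_stab_iff]
    intro v
    constructor
    · intro hv
      rw [h3]
      exact ⟨v, hv, Matrix.toLin'_apply _ _⟩
    · intro hv
      rw [h3] at hv
      obtain ⟨v', hv', hvv'⟩ := hv
      rw [Matrix.toLin'_apply] at hvv'
      have := congrArg (fun v => ((g⁻¹ : Matrix.GeneralLinearGroup (Fin n) F) : Matrix (Fin n) (Fin n) F).mulVec v) hvv'
      simp only [act_inv_act] at this
      rw [← this]; exact hv'
  | succ k ih =>
    intro g hg hfin
    by_cases hbase : Module.finrank F W ≤ Module.finrank F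
        (W ⊓ W.map (Matrix.toLin' (g : Matrix (Fin n) (Fin n) F)) : Submodule F (Fin n → F))
    · -- same as the base case: reuse the induction hypothesis at a smaller bound
      exact ih g hg (le_trans hbase (Nat.le_add_right _ _))
    · set gW := W.map (Matrix.toLin' (g : Matrix (Fin n) (Fin n) F)) with hgW
      have hinj : Function.Injective (Matrix.toLin' (g : Matrix (Fin n) (Fin n) F)) := by
        intro a b hab
        rw [Matrix.toLin'_apply, Matrix.toLin'_apply] at hab
        have := congrArg (fun v => ((g⁻¹ : Matrix.GeneralLinearGroup (Fin n) F) : Matrix (Fin n) (Fin n) F).mulVec v) hab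
        simpa [act_inv_act] using this
      have hfr : Module.finrank F gW = Module.finrank F W :=
        (Submodule.equivMapOfInjective _ hinj W).finrank_eq.symm
      -- W is not contained in gW
      have hnle1 : ¬ W ≤ gW := by
        intro hle
        apply hbase
        rw [inf_eq_left.mpr hle]
      have hnle2 : ¬ gW ≤ W := by
        intro hle
        have : gW = W := Submodule.eq_of_le_of_finrank_le hle (le_of_eq hfr.symm)
        exact hnle1 (le_of_eq this.symm)
      obtain ⟨y, hyW, hygW⟩ := SetLike.not_le_iff_exists.mp hnle1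
      obtain ⟨x, hxgW, hxW⟩ := SetLike.not_le_iff_exists.mp hnle2
      -- functional: zero on W ⊓ gW, one at x and at y
      have hx' : x ∉ (W ⊓ gW) ⊔ Submodule.span F {y} := by
        intro hmem
        apply hxW
        have hle : (W ⊓ gW) ⊔ Submodule.span F {y} ≤ W :=
          sup_le inf_le_left ((Submodule.span_singleton_le_iff_mem y W).mpr hyW)
        exact hle hmem
      have hy' : y ∉ (W ⊓ gW) ⊔ Submodule.span F {x} := by
        intro hmem
        apply hygW
        have hle : (W ⊓ gW) ⊔ Submodule.span F {x} ≤ gW :=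
          sup_le inf_le_right ((Submodule.span_singleton_le_iff_mem x gW).mpr hxgW)
        exact hle hmem
      obtain ⟨φ1, h1Q, h1x⟩ := exists_dual_one _ x hx'
      obtain ⟨φ2, h2Q, h2y⟩ := exists_dual_one _ y hy'
      have h1y : φ1 y = 0 := h1Q y (Submodule.mem_sup_right (Submodule.mem_span_singleton_self y))
      have h2x : φ2 x = 0 := h2Q x (Submodule.mem_sup_right (Submodule.mem_span_singleton_self x))
      set φ := φ1 + φ2 with hφ
      have hφx : φ x = 1 := by simp [hφ, h1x, h2x]
      have hφy : φ y = 1 := by simp [hφ, h1y, h2y]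
      have hφQ : ∀ q ∈ W ⊓ gW, φ q = 0 := by
        intro q hq
        simp [hφ, h1Q q (Submodule.mem_sup_left hq), h2Q q (Submodule.mem_sup_left hq)]
      have hφz : φ (y - x) = 0 := by rw [map_sub, hφx, hφy, sub_self]
      obtain ⟨t, htSL, htv⟩ := exists_tau φ (y - x) hφz
      have htM : t ∈ M := tau_mem W M hPM hMSL hne t htSL φ (y - x) htv
      have htx : (t : Matrix (Fin n) (Fin n) F).mulVec x = y := by
        rw [htv, hφx, one_smul]; abel
      have htg : t * g ∈ Cfsg.Geo.specialLinear (Fin n) F := Subgroup.mul_mem _ htSL hg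
      -- the new intersection is strictly larger
      have hlt : W ⊓ gW < W ⊓ W.map (Matrix.toLin' ((t * g : Matrix.GeneralLinearGroup (Fin n) F) : Matrix (Fin n) (Fin n) F)) := by
        have hymem : y ∈ W ⊓ W.map (Matrix.toLin' ((t * g : Matrix.GeneralLinearGroup (Fin n) F) : Matrix (Fin n) (Fin n) F)) := by
          refine ⟨hyW, ?_⟩
          obtain ⟨w', hw', hw'x⟩ := hxgW
          refine ⟨w', hw', ?_⟩
          rw [Matrix.toLin'_apply] at hw'x ⊢
          rw [act_mul, hw'x, htx]
        refine lt_of_le_of_ne ?_ ?_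
        · intro q hq
          refine ⟨hq.1, ?_⟩
          obtain ⟨w', hw', hw'q⟩ := hq.2
          refine ⟨w', hw', ?_⟩
          rw [Matrix.toLin'_apply] at hw'q ⊢
          rw [act_mul, hw'q, htv, hφQ q hq, zero_smul, add_zero]
        · intro heq
          rw [← heq] at hymem
          exact hygW hymem.2
      have hlt' := Submodule.finrank_lt_finrank_of_lt hlt
      obtain ⟨m', hm', hm'g⟩ := ih (t * g) htg (by omega)
      refine ⟨m' * t, M.mul_mem hm' htM, ?_⟩
      rwa [mul_assoc]

end main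

/-- For a finite field F and n ≥ 13, the stabiliser in SL_n(F) of any proper non-zero subspace W of F^n is a maximal subgroup of SL_n(F). Here SL_n(F) is the kernel of the determinant inside GL_n(F) and the stabiliser is the set of elements of determinant one mapping W onto itself. -/
theorem result {F : Type*} [Field F] [Fintype F] (n : ℕ) (hn : 13 ≤ n) (W : Submodule F (Fin n → F)) (hW0 : W ≠ ⊥) (hW1 : W ≠ ⊤) : Cfsg.Geo.IsMaximalIn (Cfsg.Geo.specialLinear (Fin n) F) (Cfsg.Geo.subspaceStabilizer W ⊓ Cfsg.Geo.specialLinear (Fin n) F) := by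
  classical
  have _ := hn
  refine ⟨?_, ?_⟩
  · -- proper: a transvection moving W
    refine lt_of_le_of_ne inf_le_right ?_
    obtain ⟨w, hwW, hw0⟩ := (Submodule.ne_bot_iff W).mp hW0
    obtain ⟨x, hxW⟩ : ∃ x : Fin n → F, x ∉ W := by
      by_contra h
      push Not at h
      exact hW1 (eq_top_iff.mpr fun v _ => h v)
    have hw' : w ∉ Submodule.span F {x} := by
      intro h
      rw [Submodule.mem_span_singleton] at h
      obtain ⟨c, rfl⟩ := h
      by_cases hc : c = 0
      · subst hc; simp at hw0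
      · apply hxW
        have h3 := W.smul_mem c⁻¹ hwW
        rwa [smul_smul, inv_mul_cancel₀ hc, one_smul] at h3
    obtain ⟨φ, hφP, hφw⟩ := exists_dual_one (Submodule.span F {x}) w hw'
    have hφx : φ x = 0 := hφP x (Submodule.mem_span_singleton_self x)
    obtain ⟨g, hgSL, hgv⟩ := exists_tau φ x hφx
    have hgW : g ∉ Cfsg.Geo.subspaceStabilizer W := by
      intro h
      have h1 : (g : Matrix (Fin n) (Fin n) F).mulVec w ∈ W := (h w).mp hwW
      rw [hgv w, hφw, one_smul] at h1
      have h2 := W.sub_mem h1 hwW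
      rw [add_sub_cancel_left] at h2
      exact hxW h2
    intro heq
    have : g ∈ Cfsg.Geo.subspaceStabilizer W ⊓ Cfsg.Geo.specialLinear (Fin n) F := by
      rw [heq]; exact hgSL
    exact hgW this.1
  · intro M hPM hMSL
    by_cases hne : M = Cfsg.Geo.subspaceStabilizer W ⊓ Cfsg.Geo.specialLinear (Fin n) F
    · exact Or.inl hne
    · right
      apply le_antisymm hMSL
      intro g hg
      obtain ⟨m, hm, hmg⟩ := exists_mul_mem_stab W M hPM hMSL hne (Module.finrank F W) g hg
        (Nat.le_add_left _ _)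
      have h1 : m * g ∈ M := hPM ⟨hmg, Subgroup.mul_mem _ (hMSL hm) hg⟩
      have := M.mul_mem (M.inv_mem hm) h1
      simpa using this

end Cfsg.Agent.S5631
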