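import Cfsg.Statements.S5633
import Cfsg.Agent.Lib.helper95.GLBasic

set_option autoImplicit false
open Cfsg

namespace Cfsg.Agent.S5633

open Cfsg.Agent.Lib.helper95 in
/-- For a finite field F and complementary non-zero subspaces W ⊕ U = F^n with dim W < dim U, the elements of SL_n(F) stabilising both W and U form a subgroup that is not maximal in SL_n(F): some subgroup lies strictly between it and SL_n(F). -/
theorem result {F : Type*} [Field F] [Fintype F] (n : ℕ) (W U : Submodule F (Fin n → F)) (hW0 : W ≠ ⊥) (hWU : W ⊓ U = ⊥) (hWU' : W ⊔ U = ⊤) (hdim : Module.finrank F W < Module.finrank F U) : ∃ K : Subgroup (Matrix.GeneralLinearGroup (Fin n) F), Cfsg.Geo.subspaceStabilizer W ⊓ Cfsg.Geo.subspaceStabilizer U ⊓ Cfsg.Geo.specialLinear (Fin n) F < K ∧ K < Cfsg.Geo.specialLinear (Fin n) F := by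
  -- non-zero vectors in W and U
  obtain ⟨w, hwW, hw0⟩ := (Submodule.ne_bot_iff W).mp hW0
  have hU0 : U ≠ ⊥ := by
    rintro rfl
    simp at hdim
  obtain ⟨u, huU, hu0⟩ := (Submodule.ne_bot_iff U).mp hU0
  have hwU : w ∉ U := by
    intro h
    have : w ∈ W ⊓ U := ⟨hwW, h⟩
    rw [hWU] at this
    exact hw0 (by simpa using this)
  have huW : u ∉ W := by
    intro h
    have : u ∈ W ⊓ U := ⟨h, huU⟩
    rw [hWU] at this
    exact hu0 (by simpa using this)
  -- φ vanishes on W, φ u = 1 ; ψ vanishes on U, ψ w = 1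
  obtain ⟨φ, hφu, hφW⟩ := exists_dual_eq_one_of_notMem W u huW
  obtain ⟨ψ, hψw, hψU⟩ := exists_dual_eq_one_of_notMem U w hwU
  refine ⟨Cfsg.Geo.subspaceStabilizer W ⊓ Cfsg.Geo.specialLinear (Fin n) F, ?_, ?_⟩
  · -- strictness below: the transvection x ↦ x + φ x • w stabilises W, not U
    refine lt_of_le_of_ne ?_ ?_
    · intro g hg
      exact ⟨hg.1.1, hg.2⟩
    · intro heq
      have hmem : glTransvection φ w (hφW w hwW) ∈
          Cfsg.Geo.subspaceStabilizer W ⊓ Cfsg.Geo.specialLinear (Fin n) F :=
        ⟨glTransvection_mem_subspaceStabilizer φ w _ W hwW, glTransvection_mem_specialLinear φ w _⟩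
      rw [← heq] at hmem
      have hU : glTransvection φ w (hφW w hwW) ∈ Cfsg.Geo.subspaceStabilizer U := hmem.1.2
      rw [mem_subspaceStabilizer_iff] at hU
      have h1 := (hU u).mp huU
      rw [glTransvection_mulVec, hφu, one_smul] at h1
      have : w ∈ U := by
        have := U.sub_mem h1 huU
        simpa using this
      exact hwU this
  · -- strictness above: the transvection x ↦ x + ψ x • u does not stabilise W
    refine lt_of_le_of_ne inf_le_right ?_
    intro heq
    have hmem : glTransvection ψ u (hψU u huU) ∈ Cfsg.Geo.specialLinear (Fin n) F :=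
      glTransvection_mem_specialLinear ψ u _
    rw [← heq] at hmem
    have hW : glTransvection ψ u (hψU u huU) ∈ Cfsg.Geo.subspaceStabilizer W := hmem.1
    rw [mem_subspaceStabilizer_iff] at hW
    have h1 := (hW w).mp hwW
    rw [glTransvection_mulVec, hψw, one_smul] at h1
    have : u ∈ W := by
      have := W.sub_mem h1 hwW
      simpa using this
    exact huW this

end Cfsg.Agent.S5633
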