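import Cfsg.Statements.S5634
import Cfsg.Agent.Lib.helper95.DecompMax

set_option autoImplicit false
open Cfsg

namespace Cfsg.Agent.S5634

/-- For a finite field F with q elements and n ≥ 13, let D be a decomposition of F^n into t ≥ 2 independent subspaces of equal dimension m ≥ 1 spanning F^n. Unless m = 1 and q ≤ 4, or m = 2 and q = 2, the elements of SL_n(F) permuting the members of D form a maximal subgroup of SL_n(F). -/
theorem result {F : Type*} [Field F] [Fintype F] (n : ℕ) (hn : 13 ≤ n) {t : ℕ} (m : ℕ) (D : Fin t → Submodule F (Fin n → F)) (hD : Cfsg.Geo.IsMDecomposition m D) (h1 : ¬ (m = 1 ∧ Fintype.card F ≤ 4)) (h2 : ¬ (m = 2 ∧ Fintype.card F = 2)) : Cfsg.Geo.IsMaximalIn (Cfsg.Geo.specialLinear (Fin n) F) (Cfsg.Geo.decompositionStabilizer D ⊓ Cfsg.Geo.specialLinear (Fin n) F) := by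
  classical
  have hcard : Fintype.card (Fin n) = n := Fintype.card_fin n
  have key : ∀ M : Subgroup (GL (Fin n) F),
      Cfsg.Geo.decompositionStabilizer D ⊓ Cfsg.Geo.specialLinear (Fin n) F ≤ M →
      M ≤ Cfsg.Geo.specialLinear (Fin n) F → ∀ g ∈ M, g ∉ Cfsg.Geo.decompositionStabilizer D →
      Cfsg.Geo.specialLinear (Fin n) F ≤ M := by
    intro M hHM hMSL g hg hgS
    by_cases hm1 : m = 1
    · subst hm1
      have hq : 5 ≤ Fintype.card F := by
        by_contra hq
        exact h1 ⟨rfl, by omega⟩
      exact Cfsg.Agent.Lib.helper95.specialLinear_le_of_decomp_one hD hq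
        (by rw [hcard]; exact hn) M hHM hMSL g hg hgS
    · have hm : 2 ≤ m := by
        have := hD.pos
        omega
      have hmq : 3 ≤ m ∨ (3 ≤ Fintype.card F ∧ 3 ≤ t) := by
        by_cases hm3 : 3 ≤ m
        · exact Or.inl hm3
        · right
          have hm2 : m = 2 := by omega
          have hc := Cfsg.Agent.Lib.helper95.decomp_card hD
          rw [hcard, hm2] at hc
          have hF : 1 < Fintype.card F := Fintype.one_lt_card
          have hF2 : Fintype.card F ≠ 2 := fun h => h2 ⟨hm2, h⟩
          constructor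
          · omega
          · omega
      exact Cfsg.Agent.Lib.helper95.specialLinear_le_of_decomp hD hm hmq M hHM g hg hgS
  refine ⟨lt_of_le_of_ne inf_le_right (fun heq => ?_), ?_⟩
  · obtain ⟨g, hgSL, hgS⟩ := Cfsg.Agent.Lib.helper95.exists_sl_notMem_stab (F := F) hD
    rw [← heq] at hgSL
    exact hgS hgSL.1
  · intro M hHM hMSL
    by_cases hMS : M ≤ Cfsg.Geo.decompositionStabilizer D
    · left
      exact le_antisymm (le_inf hMS hMSL) hHM
    · right
      obtain ⟨g, hg, hgS⟩ := SetLike.not_le_iff_exists.mp hMS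
      exact le_antisymm hMSL (key M hHM hMSL g hg hgS)

end Cfsg.Agent.S5634
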