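import Cfsg.Statements.S5635
import Cfsg.Agent.Lib.helper95.Blocks

set_option autoImplicit false
open Cfsg

namespace Cfsg.Agent.S5635

open Cfsg.Agent.Lib.helper95 Cfsg.Geo Matrix Module

/-- Blocks of size one: a shear `x ↦ x + (∑_{i∈S} x_i) • ∑_{i∈S} b_i` preserves the number of non-zero
coordinates modulo the characteristic as soon as the sum of the `(q-1)`-th powers is unchanged. -/
theorem shear1_pres {F : Type*} [Field F] [Fintype F] {n t : ℕ} {D : Fin t → Submodule F (Fin n → F)}
    (hD : IsMDecomposition 1 D) (S : Finset (Fin t))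
    (hsum : ∀ a : Fin t → F, ∑ i ∈ S,
      ((a i + ∑ i' ∈ S, a i') ^ (Fintype.card F - 1) - a i ^ (Fintype.card F - 1)) = 0)
    (x : Fin n → F) :
    ((bwt (decompBasis hD) (blockShear (decompBasis hD) S 0 0 x) : ℕ) : F) =
      (bwt (decompBasis hD) x : F) := by
  apply bwt_blockShear_cast (decompBasis hD) S 0 0 (fun r => (r 0) ^ (Fintype.card F - 1))
  · simp [zero_pow_card_sub_one]
  · intro r hr
    have h0 : r 0 ≠ 0 := by
      intro h
      apply hr
      funext k
      rw [Fin.fin_one_eq_zero k]
      exact h
    exact FiniteField.pow_card_sub_one_eq_one _ h0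
  · intro r
    have := hsum (fun i => r i 0)
    simpa [Pi.add_apply, Pi.smul_apply] using this

/-- Blocks of size two over the field with two elements: the shear along the first basis vectors of the blocks
in `S`, with the sum of the second coordinates as linear form, preserves the parity of the number of non-zero
blocks when `|S|` is odd. -/
theorem shear2_pres {F : Type*} [Field F] [Fintype F] {n t : ℕ} {D : Fin t → Submodule F (Fin n → F)}
    (hD : IsMDecomposition 2 D) (hq : Fintype.card F = 2) (S : Finset (Fin t))
    (hS : ((S.card : ℕ) + 1 : F) = 0) (x : Fin n → F) :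
    ((bwt (decompBasis hD) (blockShear (decompBasis hD) S 0 1 x) : ℕ) : F) =
      (bwt (decompBasis hD) x : F) := by
  have c2 := two_eq_zero_of_card_two hq
  apply bwt_blockShear_cast (decompBasis hD) S 0 1 (fun r => (r 0) ^ 2 + r 0 * r 1 + (r 1) ^ 2)
  · simp
  · intro r hr
    rcases eq_zero_or_one_of_card_two hq (r 0) with h0 | h0 <;>
      rcases eq_zero_or_one_of_card_two hq (r 1) with h1 | h1
    · exfalso
      apply hr
      funext k
      fin_cases k <;> simp [h0, h1]
    · simp [h0, h1]
    · simp [h0, h1]
    · simp only [h0, h1]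
      linear_combination c2
  · intro r
    have := sum_shift_quad S (fun i => r i 0) (fun i => r i 1) c2 hS
    simpa [Pi.add_apply, Pi.smul_apply] using this

/-- For a finite field F with q elements and n ≥ 13, let D be a decomposition of F^n into t ≥ 2 independent subspaces of equal dimension m spanning F^n, where m = 1 and q ≤ 4, or m = 2 and q = 2. Then the elements of SL_n(F) permuting the members of D form a subgroup that is not maximal: some subgroup lies strictly between it and SL_n(F). -/
theorem result {F : Type*} [Field F] [Fintype F] (n : ℕ) (hn : 13 ≤ n) {t : ℕ} (m : ℕ) (D : Fin t → Submodule F (Fin n → F)) (hD : Cfsg.Geo.IsMDecomposition m D) (h : (m = 1 ∧ Fintype.card F ≤ 4) ∨ (m = 2 ∧ Fintype.card F = 2)) : ∃ K : Subgroup (Matrix.GeneralLinearGroup (Fin n) F), Cfsg.Geo.decompositionStabilizer D ⊓ Cfsg.Geo.specialLinear (Fin n) F < K ∧ K < Cfsg.Geo.specialLinear (Fin n) F := by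
  have hcard : t * m = n := by simpa using decomp_card hD
  obtain ⟨rfl, hq⟩ | ⟨rfl, hq⟩ := h
  · -- blocks of size one
    have ht : 13 ≤ t := by omega
    obtain ⟨S, -, hS⟩ := Finset.exists_subset_card_eq (s := (Finset.univ : Finset (Fin t))) (n := 4)
      (by simp; omega)
    obtain ⟨i₁, h1, i₂, h2, i₃, h3, h12, h13, h23⟩ := Finset.two_lt_card.mp (by omega : 2 < S.card)
    obtain ⟨τ, hτSL, hτ⟩ := exists_sl_not_preserving_bwt (decompBasis hD) h12 (0 : Fin 1)
    have hq1 := Fintype.one_lt_card (α := F)
    have hq' : Fintype.card F = 2 ∨ Fintype.card F = 3 ∨ Fintype.card F = 4 := by omega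
    rcases hq' with hq2 | hq3 | hq4
    · -- q = 2
      have c2 : (2 : F) = 0 := two_eq_zero_of_card_two hq2
      have hS0 : ((S.card : ℕ) : F) = 0 := by
        rw [hS]
        push_cast
        linear_combination 2 * c2
      have hdet : LinearMap.det (blockShear (decompBasis hD) S 0 0) = 1 := by
        rw [det_blockShear, if_pos rfl, hS0, add_zero]
      have e : Fintype.card F - 1 = 1 := by omega
      refine decomp_not_maximal hD _
        (glOfLinearMap (blockShear (decompBasis hD) S 0 0) (by rw [hdet]; exact one_ne_zero))
        ?_ ?_ ?_ τ hτSL hτ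
      · rw [mem_specialLinear_iff, det_glOfLinearMap, hdet]
      · intro x
        rw [glOfLinearMap_mulVec]
        apply shear1_pres hD S
        intro a
        rw [e]
        exact sum_shift_pow_one S a hS0
      · refine ⟨decompBasis hD ⟨i₁, 0⟩, ?_⟩
        rw [glOfLinearMap_mulVec, bwt_basis]
        exact (one_lt_bwt_blockShear (decompBasis hD) S 0 0 h1 h2 h3 h12 h13 h23).ne'
    · -- q = 3
      have c3 : (3 : F) = 0 := three_eq_zero_of_card_three hq3
      have e : Fintype.card F - 1 = 2 := by omega
      have hdet1 : LinearMap.det (blockShear (decompBasis hD) S 0 0) = 5 := by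
        rw [det_blockShear, if_pos rfl, hS]
        push_cast
        norm_num
      have hdet2 : LinearMap.det (blockShear (decompBasis hD) {i₂} 0 0) = 2 := by
        rw [det_blockShear, if_pos rfl, Finset.card_singleton]
        push_cast
        norm_num
      have hne1 : LinearMap.det (blockShear (decompBasis hD) S 0 0) ≠ 0 := by
        rw [hdet1]
        intro h5
        have : (1 : F) = 0 := by linear_combination 2 * c3 - h5
        exact one_ne_zero this
      have hne2 : LinearMap.det (blockShear (decompBasis hD) {i₂} 0 0) ≠ 0 := by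
        rw [hdet2]
        intro h5
        have : (1 : F) = 0 := by linear_combination c3 - h5
        exact one_ne_zero this
      have hpres1 : ∀ x, ((bwt (decompBasis hD) (blockShear (decompBasis hD) S 0 0 x) : ℕ) : F) =
          (bwt (decompBasis hD) x : F) := by
        intro x
        apply shear1_pres hD S
        intro a
        rw [e]
        apply sum_shift_pow_two S a
        rw [hS]
        push_cast
        linear_combination 2 * c3
      have hpres2 : ∀ x, ((bwt (decompBasis hD) (blockShear (decompBasis hD) {i₂} 0 0 x) : ℕ) : F) =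
          (bwt (decompBasis hD) x : F) := by
        intro x
        apply shear1_pres hD {i₂}
        intro a
        rw [e]
        apply sum_shift_pow_two {i₂} a
        rw [Finset.card_singleton]
        push_cast
        linear_combination c3
      refine decomp_not_maximal hD _
        (glOfLinearMap (blockShear (decompBasis hD) S 0 0) hne1 *
          glOfLinearMap (blockShear (decompBasis hD) {i₂} 0 0) hne2)
        ?_ ?_ ?_ τ hτSL hτ
      · rw [mem_specialLinear_iff, Units.val_mul, Matrix.det_mul, det_glOfLinearMap,
          det_glOfLinearMap, hdet1, hdet2]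
        linear_combination 3 * c3
      · intro x
        rw [Units.val_mul, ← Matrix.mulVec_mulVec, glOfLinearMap_mulVec, glOfLinearMap_mulVec,
          hpres1, hpres2]
      · refine ⟨decompBasis hD ⟨i₁, 0⟩, ?_⟩
        have hfix : blockShear (decompBasis hD) {i₂} 0 0 (decompBasis hD ⟨i₁, 0⟩) =
            decompBasis hD ⟨i₁, 0⟩ := by
          have hne : (⟨i₁, 0⟩ : (_ : Fin t) × Fin 1) ≠ ⟨i₂, 0⟩ := fun heq => h12 (congrArg Sigma.fst heq)
          rw [blockShear_apply]
          simp [Basis.repr_self, hne]
        rw [Units.val_mul, ← Matrix.mulVec_mulVec, glOfLinearMap_mulVec, glOfLinearMap_mulVec, hfix,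
          bwt_basis]
        exact (one_lt_bwt_blockShear (decompBasis hD) S 0 0 h1 h2 h3 h12 h13 h23).ne'
    · -- q = 4
      have c2 : (2 : F) = 0 := two_eq_zero_of_card_four hq4
      have hS0 : ((S.card : ℕ) : F) = 0 := by
        rw [hS]
        push_cast
        linear_combination 2 * c2
      have hdet : LinearMap.det (blockShear (decompBasis hD) S 0 0) = 1 := by
        rw [det_blockShear, if_pos rfl, hS0, add_zero]
      have e : Fintype.card F - 1 = 3 := by omega
      refine decomp_not_maximal hD _
        (glOfLinearMap (blockShear (decompBasis hD) S 0 0) (by rw [hdet]; exact one_ne_zero))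
        ?_ ?_ ?_ τ hτSL hτ
      · rw [mem_specialLinear_iff, det_glOfLinearMap, hdet]
      · intro x
        rw [glOfLinearMap_mulVec]
        apply shear1_pres hD S
        intro a
        rw [e]
        exact sum_shift_pow_three S a c2 hS0
      · refine ⟨decompBasis hD ⟨i₁, 0⟩, ?_⟩
        rw [glOfLinearMap_mulVec, bwt_basis]
        exact (one_lt_bwt_blockShear (decompBasis hD) S 0 0 h1 h2 h3 h12 h13 h23).ne'
  · -- blocks of size two, q = 2
    have ht : 7 ≤ t := by omega
    obtain ⟨S, -, hS⟩ := Finset.exists_subset_card_eq (s := (Finset.univ : Finset (Fin t))) (n := 3)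
      (by simp; omega)
    obtain ⟨i₁, h1, i₂, h2, i₃, h3, h12, h13, h23⟩ := Finset.two_lt_card.mp (by omega : 2 < S.card)
    obtain ⟨τ, hτSL, hτ⟩ := exists_sl_not_preserving_bwt (decompBasis hD) h12 (0 : Fin 2)
    have c2 : (2 : F) = 0 := two_eq_zero_of_card_two hq
    have hdet : LinearMap.det (blockShear (decompBasis hD) S 0 1) = 1 := by
      rw [det_blockShear, if_neg (by decide), add_zero]
    refine decomp_not_maximal hD _
      (glOfLinearMap (blockShear (decompBasis hD) S 0 1) (by rw [hdet]; exact one_ne_zero))
      ?_ ?_ ?_ τ hτSL hτ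
    · rw [mem_specialLinear_iff, det_glOfLinearMap, hdet]
    · intro x
      rw [glOfLinearMap_mulVec]
      apply shear2_pres hD hq S
      rw [hS]
      push_cast
      linear_combination 2 * c2
    · refine ⟨decompBasis hD ⟨i₁, 1⟩, ?_⟩
      rw [glOfLinearMap_mulVec, bwt_basis]
      exact (one_lt_bwt_blockShear (decompBasis hD) S 0 1 h1 h2 h3 h12 h13 h23).ne'

end Cfsg.Agent.S5635
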