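import Cfsg.Statements.S5638
import Cfsg.Agent.Lib.helper95.Blocks

set_option autoImplicit false
open Cfsg

namespace Cfsg.Agent.S5638

open Cfsg.Agent.Lib.helper95 Cfsg.Geo Matrix
open scoped Kronecker

/-- The elements conjugating `x` to `x` or to `x⁻¹`. -/
def extCentralizer {G : Type*} [Group G] (x : G) : Subgroup G where
  carrier := {g | SemiconjBy g x x ∨ SemiconjBy g x x⁻¹}
  mul_mem' := by
    rintro a b (ha | ha) (hb | hb)
    · exact Or.inl (ha.mul_left hb)
    · exact Or.inr (ha.inv_right.mul_left hb)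
    · exact Or.inr (ha.mul_left hb)
    · left
      have := ha.inv_right
      rw [inv_inv] at this
      exact this.mul_left hb
  one_mem' := Or.inl (SemiconjBy.one_left x)
  inv_mem' := by
    rintro a (ha | ha)
    · exact Or.inl ha.inv_symm_left
    · right
      have := ha.inv_symm_left.inv_right
      rwa [inv_inv] at this

section Two

variable {F : Type*} [Field F]

/-- The matrix of multiplication by a primitive cube root of unity. -/
def omg : Matrix (Fin 2) (Fin 2) F := !![0, 1; 1, 1]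

/-- Its inverse in characteristic 2. -/
def omg' : Matrix (Fin 2) (Fin 2) F := !![1, 1; 1, 0]

/-- A nilpotent matrix. -/
def nil2 : Matrix (Fin 2) (Fin 2) F := !![0, 1; 0, 0]

theorem omg_mul_omg' (c2 : (2 : F) = 0) : (omg : Matrix (Fin 2) (Fin 2) F) * omg' = 1 := by
  have h11 : (1 : F) + 1 = 0 := by linear_combination c2
  unfold omg omg'
  rw [Matrix.mul_fin_two, Matrix.one_fin_two]
  simp [h11]

theorem omg'_mul_omg (c2 : (2 : F) = 0) : (omg' : Matrix (Fin 2) (Fin 2) F) * omg = 1 := by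
  have h11 : (1 : F) + 1 = 0 := by linear_combination c2
  unfold omg omg'
  rw [Matrix.mul_fin_two, Matrix.one_fin_two]
  simp [h11]

theorem gl2_cases [Fintype F] (hq : Fintype.card F = 2) (a : Matrix (Fin 2) (Fin 2) F)
    (ha : a.det ≠ 0) : a * omg = omg * a ∨ a * omg = omg' * a := by
  have c2 := two_eq_zero_of_card_two hq
  have h11 : (1 : F) + 1 = 0 := by linear_combination c2
  obtain ⟨x, y, z, w, rfl⟩ : ∃ x y z w, a = !![x, y; z, w] := ⟨_, _, _, _, Matrix.eta_fin_two a⟩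
  rw [Matrix.det_fin_two_of] at ha
  have hcomm : y = z ∧ w = x + y → !![x, y; z, w] * omg = omg * !![x, y; z, w] := by
    rintro ⟨rfl, rfl⟩
    unfold omg
    rw [Matrix.mul_fin_two, Matrix.mul_fin_two]
    simp
  have hanti : w = x ∧ y = x + z → !![x, y; z, w] * omg = omg' * !![x, y; z, w] := by
    rintro ⟨rfl, rfl⟩
    unfold omg omg'
    rw [Matrix.mul_fin_two, Matrix.mul_fin_two]
    simp
    exact ⟨by ring, by ring⟩
  have hor : (y = z ∧ w = x + y) ∨ (w = x ∧ y = x + z) := by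
    rcases eq_zero_or_one_of_card_two hq x with rfl | rfl <;>
    rcases eq_zero_or_one_of_card_two hq y with rfl | rfl <;>
    rcases eq_zero_or_one_of_card_two hq z with rfl | rfl <;>
    rcases eq_zero_or_one_of_card_two hq w with rfl | rfl <;>
    simp [h11] at ha ⊢
  rcases hor with h | h
  · exact Or.inl (hcomm h)
  · exact Or.inr (hanti h)

/-- `ω ⊗ 1` as an invertible matrix. -/
def omgU (c2 : (2 : F) = 0) (n₂ : ℕ) : GL (Fin 2 × Fin n₂) F :=
  ⟨omg ⊗ₖ (1 : Matrix (Fin n₂) (Fin n₂) F), omg' ⊗ₖ (1 : Matrix (Fin n₂) (Fin n₂) F),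
    by rw [← Matrix.mul_kronecker_mul, omg_mul_omg' c2, Matrix.mul_one, Matrix.one_kronecker_one],
    by rw [← Matrix.mul_kronecker_mul, omg'_mul_omg c2, Matrix.mul_one, Matrix.one_kronecker_one]⟩

theorem one_add_sq (c2 : (2 : F) = 0) {ι : Type*} [Fintype ι] [DecidableEq ι] (X : Matrix ι ι F)
    (hX : X * X = 0) : (1 + X) * (1 + X) = 1 := by
  have h : X + X = 0 := by rw [← two_smul F X, c2, zero_smul]
  rw [add_mul, mul_add, mul_add]
  simp only [one_mul, mul_one]
  rw [hX, add_zero, add_assoc, h, add_zero]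

/-- The involution `1 + X` for a matrix `X` of square zero, in characteristic 2. -/
def invU (c2 : (2 : F) = 0) {ι : Type*} [Fintype ι] [DecidableEq ι] (X : Matrix ι ι F)
    (hX : X * X = 0) : GL ι F :=
  ⟨1 + X, 1 + X, one_add_sq c2 X hX, one_add_sq c2 X hX⟩

theorem kron_single_sq (A : Matrix (Fin 2) (Fin 2) F) {n₂ : ℕ} {r₀ r₁ : Fin n₂} (hne : r₀ ≠ r₁) :
    (A ⊗ₖ (Matrix.single r₁ r₀ (1 : F))) * (A ⊗ₖ (Matrix.single r₁ r₀ (1 : F))) = 0 := by
  rw [← Matrix.mul_kronecker_mul, Matrix.single_mul_single_of_ne _ _ _ _ hne, Matrix.kronecker_zero]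

theorem kron_le [Fintype F] (hq : Fintype.card F = 2) (n₂ : ℕ) :
    kroneckerSubgroup 2 n₂ F ≤ extCentralizer (omgU (two_eq_zero_of_card_two hq) n₂) := by
  rintro g ⟨a, b, hg⟩
  have hdet : (a : Matrix (Fin 2) (Fin 2) F).det ≠ 0 :=
    ((Matrix.isUnit_iff_isUnit_det _).mp a.isUnit).ne_zero
  rcases gl2_cases hq _ hdet with h | h
  · left
    apply Units.ext
    show (g : Matrix _ _ F) * (omg ⊗ₖ (1 : Matrix (Fin n₂) (Fin n₂) F)) =
      (omg ⊗ₖ (1 : Matrix (Fin n₂) (Fin n₂) F)) * (g : Matrix _ _ F)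
    rw [hg, ← Matrix.mul_kronecker_mul, ← Matrix.mul_kronecker_mul, h, Matrix.mul_one, Matrix.one_mul]
  · right
    apply Units.ext
    show (g : Matrix _ _ F) * (omg ⊗ₖ (1 : Matrix (Fin n₂) (Fin n₂) F)) =
      (omg' ⊗ₖ (1 : Matrix (Fin n₂) (Fin n₂) F)) * (g : Matrix _ _ F)
    rw [hg, ← Matrix.mul_kronecker_mul, ← Matrix.mul_kronecker_mul, h, Matrix.mul_one, Matrix.one_mul]

theorem g0_mem (c2 : (2 : F) = 0) {n₂ : ℕ} {r₀ r₁ : Fin n₂} (hne : r₀ ≠ r₁) :
    invU c2 _ (kron_single_sq (omg : Matrix (Fin 2) (Fin 2) F) hne) ∈ extCentralizer (omgU c2 n₂) := by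
  left
  apply Units.ext
  show (1 + omg ⊗ₖ (Matrix.single r₁ r₀ (1 : F))) * (omg ⊗ₖ (1 : Matrix (Fin n₂) (Fin n₂) F)) =
      (omg ⊗ₖ (1 : Matrix (Fin n₂) (Fin n₂) F)) * (1 + omg ⊗ₖ (Matrix.single r₁ r₀ (1 : F)))
  rw [add_mul, mul_add, one_mul, mul_one, ← Matrix.mul_kronecker_mul, ← Matrix.mul_kronecker_mul,
    Matrix.mul_one, Matrix.one_mul]

theorem g0_notMem (c2 : (2 : F) = 0) {n₂ : ℕ} {r₀ r₁ : Fin n₂} (hne : r₀ ≠ r₁) :
    invU c2 _ (kron_single_sq (omg : Matrix (Fin 2) (Fin 2) F) hne) ∉ kroneckerSubgroup 2 n₂ F := by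
  rintro ⟨a, b, hab⟩
  have hab' : (1 + omg ⊗ₖ (Matrix.single r₁ r₀ (1 : F)) : Matrix (Fin 2 × Fin n₂) (Fin 2 × Fin n₂) F) =
      (a : Matrix (Fin 2) (Fin 2) F) ⊗ₖ (b : Matrix (Fin n₂) (Fin n₂) F) := hab
  have hA : ∀ i j : Fin 2, (omg : Matrix (Fin 2) (Fin 2) F) i j =
      (a : Matrix (Fin 2) (Fin 2) F) i j * (b : Matrix (Fin n₂) (Fin n₂) F) r₁ r₀ := by
    intro i j
    have := congrFun (congrFun hab' (i, r₁)) (j, r₀)
    simpa [Matrix.add_apply, Matrix.one_apply, Matrix.single_apply, hne.symm] using this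
  have hB : (1 : F) = (a : Matrix (Fin 2) (Fin 2) F) 0 0 * (b : Matrix (Fin n₂) (Fin n₂) F) r₀ r₀ := by
    have := congrFun (congrFun hab' (0, r₀)) (0, r₀)
    simpa [Matrix.add_apply, Matrix.one_apply, Matrix.single_apply, hne.symm, hne] using this
  have ha0 : (a : Matrix (Fin 2) (Fin 2) F) 0 0 ≠ 0 := by
    intro h
    rw [h, zero_mul] at hB
    exact one_ne_zero hB
  have h00 := hA 0 0
  have h01 := hA 0 1
  simp [omg] at h00 h01
  rcases h00 with h | h
  · exact ha0 h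
  · rw [h, mul_zero] at h01
    exact one_ne_zero h01

theorem tau0_notMem (c2 : (2 : F) = 0) {n₂ : ℕ} {r₀ r₁ : Fin n₂} (hne : r₀ ≠ r₁) :
    invU c2 _ (kron_single_sq (nil2 : Matrix (Fin 2) (Fin 2) F) hne) ∉ extCentralizer (omgU c2 n₂) := by
  rintro (h | h)
  · have h' : (1 + nil2 ⊗ₖ (Matrix.single r₁ r₀ (1 : F))) * (omg ⊗ₖ (1 : Matrix (Fin n₂) (Fin n₂) F)) =
        (omg ⊗ₖ (1 : Matrix (Fin n₂) (Fin n₂) F)) * (1 + nil2 ⊗ₖ (Matrix.single r₁ r₀ (1 : F))) :=
      congrArg Units.val h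
    rw [add_mul, mul_add, one_mul, mul_one, ← Matrix.mul_kronecker_mul, ← Matrix.mul_kronecker_mul,
      Matrix.mul_one, Matrix.one_mul] at h'
    have := congrFun (congrFun h' (0, r₁)) (0, r₀)
    simp [Matrix.add_apply, hne.symm, omg, nil2] at this
  · have h' : (1 + nil2 ⊗ₖ (Matrix.single r₁ r₀ (1 : F))) * (omg ⊗ₖ (1 : Matrix (Fin n₂) (Fin n₂) F)) =
        (omg' ⊗ₖ (1 : Matrix (Fin n₂) (Fin n₂) F)) * (1 + nil2 ⊗ₖ (Matrix.single r₁ r₀ (1 : F))) :=
      congrArg Units.val h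
    rw [add_mul, mul_add, one_mul, mul_one, ← Matrix.mul_kronecker_mul, ← Matrix.mul_kronecker_mul,
      Matrix.mul_one, Matrix.one_mul] at h'
    have := congrFun (congrFun h' (0, r₀)) (0, r₀)
    simp [Matrix.add_apply, hne.symm, omg, omg', nil2] at this

end Two

/-- Over the field with 2 elements, for n = 2 n₂ ≥ 13, the stabiliser in SL_n of a tensor decomposition with factors of dimensions 2 and n₂ (the conjugate by any P of the Kronecker-product subgroup transported along any bijection Fin n ≃ Fin 2 × Fin n₂, intersected with SL_n) is not a maximal subgroup: some subgroup lies strictly between it and SL_n. -/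
theorem result {F : Type*} [Field F] [Fintype F] (n : ℕ) (hn : 13 ≤ n) (hq : Fintype.card F = 2) (n₂ : ℕ) (e : Fin n ≃ Fin 2 × Fin n₂) (P : Matrix.GeneralLinearGroup (Fin n) F) : ∃ K : Subgroup (Matrix.GeneralLinearGroup (Fin n) F), Cfsg.Geo.tensorProductSubgroup 2 n₂ e P ⊓ Cfsg.Geo.specialLinear (Fin n) F < K ∧ K < Cfsg.Geo.specialLinear (Fin n) F := by
  have c2 := two_eq_zero_of_card_two hq
  have hcard : n = 2 * n₂ := by simpa using Fintype.card_congr e
  have hne : (⟨0, by omega⟩ : Fin n₂) ≠ ⟨1, by omega⟩ := by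
    intro h
    simp [Fin.ext_iff] at h
  have hSL : ∀ g : GL (Fin n) F, g ∈ specialLinear (Fin n) F := by
    intro g
    rw [mem_specialLinear_iff]
    have hdet : (g : Matrix (Fin n) (Fin n) F).det ≠ 0 :=
      ((Matrix.isUnit_iff_isUnit_det _).mp g.isUnit).ne_zero
    exact (eq_zero_or_one_of_card_two hq _).resolve_left hdet
  have hΦ : Function.Injective
      ((MulAut.conj P).toMonoidHom.comp (glReindex (F := F) e.symm).toMonoidHom) :=
    (MulAut.conj P).injective.comp (glReindex (F := F) e.symm).injective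
  have hT : tensorProductSubgroup 2 n₂ e P = (kroneckerSubgroup 2 n₂ F).map
      ((MulAut.conj P).toMonoidHom.comp (glReindex (F := F) e.symm).toMonoidHom) := by
    unfold tensorProductSubgroup
    rw [Subgroup.map_map]
  rw [hT]
  refine not_maximal_of_subgroup _ _ ((extCentralizer (omgU c2 n₂)).map
      ((MulAut.conj P).toMonoidHom.comp (glReindex (F := F) e.symm).toMonoidHom))
    (inf_le_left.trans (Subgroup.map_mono (kron_le hq n₂)))
    (((MulAut.conj P).toMonoidHom.comp (glReindex (F := F) e.symm).toMonoidHom)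
      (invU c2 _ (kron_single_sq (omg : Matrix (Fin 2) (Fin 2) F) hne)))
    (hSL _) (Subgroup.mem_map_of_mem _ (g0_mem c2 hne)) ?_
    (((MulAut.conj P).toMonoidHom.comp (glReindex (F := F) e.symm).toMonoidHom)
      (invU c2 _ (kron_single_sq (nil2 : Matrix (Fin 2) (Fin 2) F) hne)))
    (hSL _) ?_
  · rw [Subgroup.mem_map_iff_mem hΦ]
    exact g0_notMem c2 hne
  · rw [Subgroup.mem_map_iff_mem hΦ]
    exact tau0_notMem c2 hne

end Cfsg.Agent.S5638
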