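import Cfsg.Statements.S5648
import Cfsg.Agent.Lib.helper95.Blocks
import Cfsg.Agent.Lib.helper17.Symp2

set_option autoImplicit false
open Cfsg

namespace Cfsg.Agent.S5648

open Cfsg.Agent.Lib.helper95 Cfsg.Agent.Lib.helper17 Cfsg.Geo Matrix Module

theorem sympForm_sum_right {F : Type*} [Field F] {m : ℕ} {κ : Type*} (S : Finset κ)
    (x : Fin m ⊕ Fin m → F) (v : κ → (Fin m ⊕ Fin m → F)) :
    sympForm m F x (∑ i ∈ S, v i) = ∑ i ∈ S, sympForm m F x (v i) := by
  classical
  induction S using Finset.induction_on with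
  | empty => simp [sympForm_zero_right]
  | insert i S hi ih => rw [Finset.sum_insert hi, Finset.sum_insert hi, sympForm_add_right, ih]

/-- Values of the form on the adapted basis: the first basis vector of each block pairs to `1` with the
second one of the same block and to `0` with all other basis vectors. -/
theorem form_basis {F : Type*} [Field F] [Fintype F] {m t : ℕ}
    {D : Fin t → Submodule F (Fin m ⊕ Fin m → F)} (hq : Fintype.card F = 2)
    (hD : IsNondegenerateMDecomposition (sympForm m F) 2 D) (i i' : Fin t) (j : Fin 2) :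
    sympForm m F (decompBasis hD.decomp ⟨i', j⟩) (decompBasis hD.decomp ⟨i, 0⟩) =
      if i' = i ∧ j = 1 then 1 else 0 := by
  by_cases hi : i' = i
  · subst hi
    revert j
    rw [Fin.forall_fin_two]
    constructor
    · simp [sympForm_self]
    · have hw : decompBasis hD.decomp ⟨i', 0⟩ ∈ D i' := decompBasis_mem hD.decomp i' 0
      obtain ⟨⟨x, hx, hxw⟩, -⟩ := hD.nondegenerate i' (decompBasis hD.decomp ⟨i', 0⟩) hw
        ((decompBasis hD.decomp).ne_zero _)
      have hx' : x = (decompBasis hD.decomp).repr x ⟨i', 0⟩ • decompBasis hD.decomp ⟨i', 0⟩ +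
          (decompBasis hD.decomp).repr x ⟨i', 1⟩ • decompBasis hD.decomp ⟨i', 1⟩ := by
        have := bproj_of_mem (decompBasis hD.decomp) (x := x) (i := i')
          (by rw [blk_decompBasis]; exact hx)
        rw [bproj_apply, Fin.sum_univ_two] at this
        exact this.symm
      rw [hx', sympForm_add_left, sympForm_smul_left, sympForm_smul_left, sympForm_self, mul_zero,
        zero_add] at hxw
      have hne : sympForm m F (decompBasis hD.decomp ⟨i', 1⟩) (decompBasis hD.decomp ⟨i', 0⟩) ≠ 0 :=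
        right_ne_zero_of_mul hxw
      rcases eq_zero_or_one_of_card_two hq
        (sympForm m F (decompBasis hD.decomp ⟨i', 1⟩) (decompBasis hD.decomp ⟨i', 0⟩)) with h | h
      · exact absurd h hne
      · simp [h]
  · have := hD.orthogonal i' i hi (decompBasis hD.decomp ⟨i', j⟩) (decompBasis_mem hD.decomp i' j)
      (decompBasis hD.decomp ⟨i, 0⟩) (decompBasis_mem hD.decomp i 0)
    simp [hi, this]

/-- The linear form `x ↦ f(x, ∑_{i∈S} b_{i,0})` is the sum of the second coordinates over the blocks in `S`. -/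
theorem form_shear_vec {F : Type*} [Field F] [Fintype F] {m t : ℕ}
    {D : Fin t → Submodule F (Fin m ⊕ Fin m → F)} (hq : Fintype.card F = 2)
    (hD : IsNondegenerateMDecomposition (sympForm m F) 2 D) (S : Finset (Fin t))
    (x : Fin m ⊕ Fin m → F) :
    sympForm m F x (∑ i ∈ S, decompBasis hD.decomp ⟨i, 0⟩) =
      ∑ i ∈ S, (decompBasis hD.decomp).repr x ⟨i, 1⟩ := by
  let L₁ : (Fin m ⊕ Fin m → F) →ₗ[F] F :=
    { toFun := fun x => sympForm m F x (∑ i ∈ S, decompBasis hD.decomp ⟨i, 0⟩)
      map_add' := fun x y => sympForm_add_left m x y _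
      map_smul' := fun a x => by simp [sympForm_smul_left] }
  let L₂ : (Fin m ⊕ Fin m → F) →ₗ[F] F := ∑ i ∈ S, (decompBasis hD.decomp).coord ⟨i, 1⟩
  have hL : L₁ = L₂ := by
    apply (decompBasis hD.decomp).ext
    rintro ⟨i', j⟩
    show sympForm m F (decompBasis hD.decomp ⟨i', j⟩) (∑ i ∈ S, decompBasis hD.decomp ⟨i, 0⟩) =
      (∑ i ∈ S, (decompBasis hD.decomp).coord ⟨i, 1⟩) (decompBasis hD.decomp ⟨i', j⟩)
    rw [sympForm_sum_right, LinearMap.sum_apply]
    apply Finset.sum_congr rfl
    intro i _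
    rw [form_basis hq hD, Basis.coord_apply, Basis.repr_self, Finsupp.single_apply]
    simp [Sigma.mk.injEq]
  have := congrArg (fun L : (Fin m ⊕ Fin m → F) →ₗ[F] F => L x) hL
  simpa [L₁, L₂, LinearMap.sum_apply, Basis.coord_apply] using this

/-- A map `x ↦ x + f(x, v) • v` is symplectic. -/
theorem shear_mem_spGL {F : Type*} [Field F] {m : ℕ} (v : Fin m ⊕ Fin m → F)
    (T : GL (Fin m ⊕ Fin m) F)
    (hT : ∀ x, (T : Matrix (Fin m ⊕ Fin m) (Fin m ⊕ Fin m) F) *ᵥ x = x + sympForm m F x v • v) :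
    T ∈ spGL m F := by
  show ∀ x y, sympForm m F ((T : Matrix (Fin m ⊕ Fin m) (Fin m ⊕ Fin m) F) *ᵥ x)
    ((T : Matrix (Fin m ⊕ Fin m) (Fin m ⊕ Fin m) F) *ᵥ y) = sympForm m F x y
  intro x y
  rw [hT, hT]
  simp only [sympForm_add_left, sympForm_add_right, sympForm_smul_left, sympForm_smul_right,
    sympForm_self]
  rw [sympForm_swap m y v]
  ring

/-- Over the field with 2 elements and for m ≥ 7, let D be a decomposition of F^(2m) into t pairwise orthogonal non-degenerate 2-dimensional subspaces for the standard alternating form (t = m ≥ 2). Then the elements of Sp_2m(2) permuting the members of D form a subgroup that is not maximal: some subgroup lies strictly between it and Sp_2m(2). -/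
theorem result {F : Type*} [Field F] [Fintype F] (m : ℕ) (hm : 7 ≤ m) (hq : Fintype.card F = 2) {t : ℕ} (D : Fin t → Submodule F (Fin m ⊕ Fin m → F)) (hD : Cfsg.Geo.IsNondegenerateMDecomposition (Cfsg.sympForm m F) 2 D) : ∃ K : Subgroup (Matrix.GeneralLinearGroup (Fin m ⊕ Fin m) F), Cfsg.Geo.decompositionStabilizer D ⊓ Cfsg.spGL m F < K ∧ K < Cfsg.spGL m F := by
  have hcard : t * 2 = m + m := by simpa using decomp_card hD.decomp
  have ht : 7 ≤ t := by omega
  have c2 := two_eq_zero_of_card_two hq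
  obtain ⟨S, -, hS⟩ := Finset.exists_subset_card_eq (s := (Finset.univ : Finset (Fin t))) (n := 3)
    (by simp; omega)
  obtain ⟨i₁, h1, i₂, h2, i₃, h3, h12, h13, h23⟩ := Finset.two_lt_card.mp (by omega : 2 < S.card)
  have hdet : ∀ S' : Finset (Fin t), LinearMap.det (blockShear (decompBasis hD.decomp) S' 0 1) = 1 :=
    fun S' => by rw [det_blockShear, if_neg (by decide), add_zero]
  have hne : ∀ S' : Finset (Fin t), LinearMap.det (blockShear (decompBasis hD.decomp) S' 0 1) ≠ 0 :=
    fun S' => by rw [hdet]; exact one_ne_zero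
  have hsp : ∀ S' : Finset (Fin t),
      glOfLinearMap (blockShear (decompBasis hD.decomp) S' 0 1) (hne S') ∈ spGL m F := by
    intro S'
    apply shear_mem_spGL (∑ i ∈ S', decompBasis hD.decomp ⟨i, 0⟩)
    intro x
    rw [glOfLinearMap_mulVec, blockShear_apply, form_shear_vec hq hD]
  refine decomp_not_maximal hD.decomp _
    (glOfLinearMap (blockShear (decompBasis hD.decomp) S 0 1) (hne S)) (hsp S) ?_ ?_
    (glOfLinearMap (blockShear (decompBasis hD.decomp) {i₁, i₂} 0 1) (hne _)) (hsp _) ?_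
  · intro x
    rw [glOfLinearMap_mulVec, ← sub_eq_zero, bwt_blockShear2_cast_sub _ hq, hS]
    push_cast
    linear_combination (2 * (∑ i ∈ S, (decompBasis hD.decomp).repr x ⟨i, 1⟩) ^ 2) * c2
  · refine ⟨decompBasis hD.decomp ⟨i₁, 1⟩, ?_⟩
    rw [glOfLinearMap_mulVec, bwt_basis]
    exact (one_lt_bwt_blockShear (decompBasis hD.decomp) S 0 1 h1 h2 h3 h12 h13 h23).ne'
  · refine ⟨decompBasis hD.decomp ⟨i₁, 1⟩, ?_⟩
    rw [glOfLinearMap_mulVec]
    intro heq
    have hsub := bwt_blockShear2_cast_sub (decompBasis hD.decomp) hq {i₁, i₂}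
      (decompBasis hD.decomp ⟨i₁, 1⟩)
    rw [heq, sub_self, Finset.card_pair h12, Finset.sum_pair h12] at hsub
    have hne' : (⟨i₁, 1⟩ : (_ : Fin t) × Fin 2) ≠ ⟨i₂, 1⟩ := fun h => h12 (congrArg Sigma.fst h)
    simp [Basis.repr_self, hne'] at hsub
    have : (1 : F) = 0 := by linear_combination hsub + 2 * c2
    exact one_ne_zero this

end Cfsg.Agent.S5648
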