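import Cfsg.Statements.S5656
import Cfsg.Agent.Lib.helper95.Blocks
import Cfsg.Agent.Lib.helper17.Herm

set_option autoImplicit false
open Cfsg

namespace Cfsg.Agent.S5656

open Cfsg.Agent.Lib.helper95 Cfsg.Agent.Lib.helper17 Cfsg.Geo Matrix Module

section Field4

variable {F : Type*} [Field F] [Fintype F]

omit [Field F] in
theorem card_eq_sq (hF : Fintype.card F = 4) : Fintype.card F = 2 ^ 2 := by rw [hF]; norm_num

theorem exists_ne_zero_ne_one (hF : Fintype.card F = 4) : ∃ b : F, b ≠ 0 ∧ b ≠ 1 := by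
  classical
  have hlt : ({0, 1} : Finset F).card < (Finset.univ : Finset F).card := by
    rw [Finset.card_univ, hF]
    exact lt_of_le_of_lt (Finset.card_insert_le _ _) (by simp)
  obtain ⟨b, -, hb⟩ := Finset.exists_mem_notMem_of_card_lt_card hlt
  exact ⟨b, fun h => hb (by simp [h]), fun h => hb (by simp [h])⟩

theorem cube_eq_one (hF : Fintype.card F = 4) {a : F} (ha : a ≠ 0) : a ^ 3 = 1 := by
  have := FiniteField.pow_card_sub_one_eq_one a ha
  rwa [hF] at this

theorem herm_self (hF : Fintype.card F = 4) (n : ℕ) (y : Fin n → F) :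
    hermForm n F 2 y y = 0 ∨ hermForm n F 2 y y = 1 := by
  have h := hermForm_conj (card_eq_sq hF) n y y
  have h2 : hermForm n F 2 y y * (hermForm n F 2 y y - 1) = 0 := by linear_combination h
  rcases mul_eq_zero.mp h2 with h3 | h3
  · exact Or.inl h3
  · exact Or.inr (sub_eq_zero.mp h3)

theorem exists_herm_one (hF : Fintype.card F = 4) (n : ℕ) (W : Submodule F (Fin n → F))
    (hW : IsNondegenerateOn (hermForm n F 2) W) (hne : W ≠ ⊥) :
    ∃ e ∈ W, hermForm n F 2 e e = 1 := by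
  by_contra hcon
  push Not at hcon
  have hall : ∀ e ∈ W, hermForm n F 2 e e = 0 := fun e he =>
    (herm_self hF n e).resolve_right (hcon e he)
  obtain ⟨w, hw, hw0⟩ := Submodule.exists_mem_ne_zero_of_ne_bot hne
  obtain ⟨⟨x, hx, hxw⟩, -⟩ := hW w hw hw0
  obtain ⟨b, hb0, hb1⟩ := exists_ne_zero_ne_one hF
  have c2 : (2 : F) = 0 := two_eq_zero_of_card_four hF
  have hF2 := card_eq_sq hF
  have hconj : hermForm n F 2 w x = (hermForm n F 2 x w) ^ 2 := (hermForm_conj hF2 n x w).symm
  have key := hall ((b * (hermForm n F 2 x w)⁻¹) • x + w) (W.add_mem (W.smul_mem _ hx) hw)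
  rw [hermForm_add_left, hermForm_add_right hF2, hermForm_add_right hF2, hermForm_smul_left,
    hermForm_smul_left, hermForm_smul_right, hermForm_smul_right, hall x hx, hall w hw, hconj] at key
  have hcc : (hermForm n F 2 x w)⁻¹ * hermForm n F 2 x w = 1 := inv_mul_cancel₀ hxw
  have hb : b * (b + 1) = 0 := by
    linear_combination key - (b + b ^ 2 * ((hermForm n F 2 x w)⁻¹ * hermForm n F 2 x w + 1)) * hcc
  rcases mul_eq_zero.mp hb with h | h
  · exact hb0 h
  · exact hb1 (by linear_combination h - c2)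

/-- The linear functional `x ↦ h(x, w)`. -/
def hermL (n : ℕ) (w : Fin n → F) : (Fin n → F) →ₗ[F] F where
  toFun x := hermForm n F 2 x w
  map_add' x y := hermForm_add_left n 2 x y w
  map_smul' a x := by simpa using hermForm_smul_left n 2 a x w

omit [Fintype F] in
theorem hermL_apply (n : ℕ) (w x : Fin n → F) : hermL n w x = hermForm n F 2 x w := rfl

omit [Fintype F] in
theorem herm_zero_left (n : ℕ) (w : Fin n → F) : hermForm n F 2 0 w = 0 := by
  simp [hermForm]

omit [Fintype F] in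
theorem herm_zero_right (n : ℕ) (w : Fin n → F) : hermForm n F 2 w 0 = 0 := by
  simp [hermForm]

theorem exists_orthonormal_basis (hF : Fintype.card F = 4) (n : ℕ) (W : Submodule F (Fin n → F))
    (hW : IsNondegenerateOn (hermForm n F 2) W) (hdim : Module.finrank F W = 2) :
    ∃ b : Basis (Fin 2) F W,
      ∀ j j', hermForm n F 2 (b j : Fin n → F) (b j' : Fin n → F) = if j = j' then 1 else 0 := by
  have hF2 := card_eq_sq hF
  have hne : W ≠ ⊥ := by
    rintro rfl
    simp at hdim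
  obtain ⟨e, he, hee⟩ := exists_herm_one hF n W hW hne
  have hker : LinearMap.ker ((hermL n e).comp W.subtype) ≠ ⊥ := by
    apply LinearMap.ker_ne_bot_of_finrank_lt
    rw [hdim, Module.finrank_self]
    norm_num
  obtain ⟨e', he'ker, he'0⟩ := Submodule.exists_mem_ne_zero_of_ne_bot hker
  have h1 : hermForm n F 2 (e' : Fin n → F) e = 0 := he'ker
  have h2 : hermForm n F 2 e (e' : Fin n → F) = 0 := by
    rw [← hermForm_conj hF2, h1]
    simp
  have hli : LinearIndependent F ![(⟨e, he⟩ : W), e'] := by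
    rw [LinearIndependent.pair_iff]
    intro s t hst
    have hst' : s • e + t • (e' : Fin n → F) = 0 := by
      have := congrArg Subtype.val hst
      simpa using this
    have hs : s = 0 := by
      have := congrArg (fun x => hermForm n F 2 x e) hst'
      simp only [hermForm_add_left, hermForm_smul_left, hee, h1, herm_zero_left] at this
      simpa using this
    refine ⟨hs, ?_⟩
    rw [hs, zero_smul, zero_add] at hst'
    rcases smul_eq_zero.mp hst' with h | h
    · exact h
    · exact absurd (Subtype.ext h) he'0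
  let b : Basis (Fin 2) F W := basisOfLinearIndependentOfCardEqFinrank hli (by simp [hdim])
  have hb0 : (b 0 : Fin n → F) = e := by
    simp [b, coe_basisOfLinearIndependentOfCardEqFinrank]
  have hb1 : b 1 = e' := by
    simp [b, coe_basisOfLinearIndependentOfCardEqFinrank]
  have he'e' : hermForm n F 2 (e' : Fin n → F) (e' : Fin n → F) = 1 := by
    rcases herm_self hF n (e' : Fin n → F) with h | h
    · exfalso
      have he'0' : (e' : Fin n → F) ≠ 0 := fun h0 => he'0 (Subtype.ext h0)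
      obtain ⟨⟨x, hx, hxe'⟩, -⟩ := hW e' e'.2 he'0'
      have hsum := b.sum_repr ⟨x, hx⟩
      rw [Fin.sum_univ_two] at hsum
      have hx' : x = b.repr ⟨x, hx⟩ 0 • e + b.repr ⟨x, hx⟩ 1 • (e' : Fin n → F) := by
        have := congrArg Subtype.val hsum
        rw [← hb0, ← hb1]
        simpa using this.symm
      apply hxe'
      rw [hx', hermForm_add_left, hermForm_smul_left, hermForm_smul_left, h2, h]
      simp
    · exact h
  refine ⟨b, ?_⟩
  intro j j'
  fin_cases j <;> fin_cases j'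
  · simpa [hb0] using hee
  · simpa [hb0, hb1] using h2
  · simpa [hb0, hb1] using h1
  · simpa [hb1] using he'e'

theorem exists_frame (hF : Fintype.card F = 4) (n : ℕ) {t : ℕ} (D : Fin t → Submodule F (Fin n → F))
    (hD : IsNondegenerateMDecomposition (hermForm n F 2) 2 D) :
    ∃ E : Basis ((_ : Fin t) × Fin 2) F (Fin n → F), (∀ i, blk E i = D i) ∧
      ∀ a a', hermForm n F 2 (E a) (E a') = if a = a' then 1 else 0 := by
  choose bD hbD using fun i =>
    exists_orthonormal_basis hF n (D i) (hD.nondegenerate i) (hD.decomp.finrank_eq i)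
  refine ⟨decompBasisOf hD.decomp bD, blk_decompBasisOf hD.decomp bD, ?_⟩
  rintro ⟨i, j⟩ ⟨i', j'⟩
  rw [decompBasisOf_apply, decompBasisOf_apply]
  by_cases hii : i = i'
  · subst hii
    rw [hbD]
    simp [Sigma.mk.injEq]
  · rw [hD.orthogonal i i' hii _ (bD i j).2 _ (bD i' j').2, if_neg]
    intro heq
    exact hii (congrArg Sigma.fst heq)

omit [Fintype F] in
theorem herm_basis_right (n : ℕ) {κ : Type*} [DecidableEq κ] (E : Basis κ F (Fin n → F))
    (hE : ∀ a a', hermForm n F 2 (E a) (E a') = if a = a' then 1 else 0) (x : Fin n → F) (a : κ) :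
    hermForm n F 2 x (E a) = E.repr x a := by
  have h : hermL n (E a) = E.coord a := by
    apply E.ext
    intro a'
    rw [hermL_apply, hE, Basis.coord_apply, Basis.repr_self, Finsupp.single_apply]
  have := LinearMap.congr_fun h x
  rwa [hermL_apply, Basis.coord_apply] at this

theorem herm_sum_right (hF : Fintype.card F = 4) (n : ℕ) {κ : Type*} (S : Finset κ) (x : Fin n → F)
    (y : κ → Fin n → F) :
    hermForm n F 2 x (∑ i ∈ S, y i) = ∑ i ∈ S, hermForm n F 2 x (y i) := by
  classical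
  induction S using Finset.induction_on with
  | empty => simp [herm_zero_right]
  | insert a s ha ih =>
    rw [Finset.sum_insert ha, Finset.sum_insert ha, hermForm_add_right (card_eq_sq hF), ih]

theorem shear_eq (hF : Fintype.card F = 4) (n : ℕ) {t : ℕ} (E : Basis ((_ : Fin t) × Fin 2) F (Fin n → F))
    (hE : ∀ a a', hermForm n F 2 (E a) (E a') = if a = a' then 1 else 0) (S : Finset (Fin t))
    (x : Fin n → F) :
    blockShear E S 0 0 x =
      x + hermForm n F 2 x (∑ i ∈ S, E ⟨i, 0⟩) • ∑ i ∈ S, E ⟨i, 0⟩ := by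
  rw [blockShear_apply, herm_sum_right hF]
  simp_rw [herm_basis_right n E hE]

theorem herm_shear_vec (hF : Fintype.card F = 4) (n : ℕ) {t : ℕ}
    (E : Basis ((_ : Fin t) × Fin 2) F (Fin n → F))
    (hE : ∀ a a', hermForm n F 2 (E a) (E a') = if a = a' then 1 else 0) (S : Finset (Fin t)) :
    hermForm n F 2 (∑ i ∈ S, E ⟨i, 0⟩) (∑ i ∈ S, E ⟨i, 0⟩) = (S.card : F) := by
  rw [herm_sum_right hF]
  simp_rw [herm_basis_right n E hE]
  rw [Finset.card_eq_sum_ones, Nat.cast_sum]
  apply Finset.sum_congr rfl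
  intro i hi
  rw [map_sum, Finsupp.finsetSum_apply, Finset.sum_eq_single i]
  · simp
  · intro i' _ hne
    have hne' : (⟨i', 0⟩ : (_ : Fin t) × Fin 2) ≠ ⟨i, 0⟩ := fun h => hne (congrArg Sigma.fst h)
    simp [Basis.repr_self, hne']
  · intro h
    exact absurd hi h

theorem shear_isometry (hF : Fintype.card F = 4) (n : ℕ) {t : ℕ}
    (E : Basis ((_ : Fin t) × Fin 2) F (Fin n → F))
    (hE : ∀ a a', hermForm n F 2 (E a) (E a') = if a = a' then 1 else 0) (S : Finset (Fin t))
    (hS : (S.card : F) = 0) (x y : Fin n → F) :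
    hermForm n F 2 (blockShear E S 0 0 x) (blockShear E S 0 0 y) = hermForm n F 2 x y := by
  have hv := herm_shear_vec hF n E hE S
  rw [hS] at hv
  have c2 : (2 : F) = 0 := two_eq_zero_of_card_four hF
  have key := hermForm_unitaryTransvection (card_eq_sq hF) n (∑ i ∈ S, E ⟨i, 0⟩) hv 1 x y
  rw [unitaryTransvection_mulVec, unitaryTransvection_mulVec, one_mul, one_mul] at key
  rw [shear_eq hF n E hE, shear_eq hF n E hE, key]
  linear_combination (hermForm n F 2 x (∑ i ∈ S, E ⟨i, 0⟩) * hermForm n F 2 (∑ i ∈ S, E ⟨i, 0⟩) y) * c2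

open scoped Classical in
/-- Indicator of being non-zero, as a natural number. -/
noncomputable def cnt (a : F) : ℕ := if a = 0 then 0 else 1

/-- The frame weight: the number of non-zero coordinates. -/
noncomputable def fw {n : ℕ} {κ : Type*} [Fintype κ] (E : Basis κ F (Fin n → F)) (x : Fin n → F) : ℕ :=
  ∑ a, cnt (E.repr x a)

open scoped Classical in
/-- The weight of a vector `y` of a non-degenerate plane, read off from the form. -/
noncomputable def pw (n : ℕ) (y : Fin n → F) : ℕ :=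
  if y = 0 then 0 else if hermForm n F 2 y y = 0 then 2 else 1

omit [Fintype F] in
theorem pw_gu (n : ℕ) (g : GL (Fin n) F) (hg : g ∈ GU n F 2) (y : Fin n → F) :
    pw n ((g : Matrix (Fin n) (Fin n) F) *ᵥ y) = pw n y := by
  have h1 : hermForm n F 2 ((g : Matrix (Fin n) (Fin n) F) *ᵥ y) ((g : Matrix (Fin n) (Fin n) F) *ᵥ y)
      = hermForm n F 2 y y := hg y y
  unfold pw
  rw [h1]
  by_cases hy : y = 0
  · rw [if_pos hy, if_pos ((gl_mulVec_eq_zero_iff g y).mpr hy)]
  · rw [if_neg hy, if_neg (fun h => hy ((gl_mulVec_eq_zero_iff g y).mp h))]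

theorem pw_bproj (hF : Fintype.card F = 4) (n : ℕ) {t : ℕ}
    (E : Basis ((_ : Fin t) × Fin 2) F (Fin n → F))
    (hE : ∀ a a', hermForm n F 2 (E a) (E a') = if a = a' then 1 else 0) (i : Fin t) (x : Fin n → F) :
    pw n (bproj E i x) = cnt (E.repr x ⟨i, 0⟩) + cnt (E.repr x ⟨i, 1⟩) := by
  have hF2 := card_eq_sq hF
  have c2 : (2 : F) = 0 := two_eq_zero_of_card_four hF
  have hval : hermForm n F 2 (bproj E i x) (bproj E i x) =
      (E.repr x ⟨i, 0⟩) ^ 3 + (E.repr x ⟨i, 1⟩) ^ 3 := by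
    rw [bproj_apply, Fin.sum_univ_two]
    simp only [hermForm_add_left, hermForm_add_right hF2, hermForm_smul_left, hermForm_smul_right, hE]
    simp [Sigma.mk.injEq]
    ring
  have hzero : bproj E i x = 0 ↔ E.repr x ⟨i, 0⟩ = 0 ∧ E.repr x ⟨i, 1⟩ = 0 := by
    rw [bproj_eq_zero_iff, Fin.forall_fin_two]
  unfold pw cnt
  by_cases h0 : E.repr x ⟨i, 0⟩ = 0
  · by_cases h1 : E.repr x ⟨i, 1⟩ = 0
    · rw [if_pos (hzero.mpr ⟨h0, h1⟩), if_pos h0, if_pos h1]
    · have hne : bproj E i x ≠ 0 := fun h => h1 (hzero.mp h).2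
      rw [if_neg hne, hval, h0, cube_eq_one hF h1, if_pos rfl, if_neg h1]
      simp
    
  · by_cases h1 : E.repr x ⟨i, 1⟩ = 0
    · have hne : bproj E i x ≠ 0 := fun h => h0 (hzero.mp h).1
      rw [if_neg hne, hval, h1, cube_eq_one hF h0, if_neg h0, if_pos rfl]
      simp
    · have hne : bproj E i x ≠ 0 := fun h => h0 (hzero.mp h).1
      rw [if_neg hne, hval, cube_eq_one hF h0, cube_eq_one hF h1, if_neg h0, if_neg h1]
      have : (1 : F) + 1 = 0 := by linear_combination c2
      simp [this]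

theorem fw_eq (hF : Fintype.card F = 4) (n : ℕ) {t : ℕ}
    (E : Basis ((_ : Fin t) × Fin 2) F (Fin n → F))
    (hE : ∀ a a', hermForm n F 2 (E a) (E a') = if a = a' then 1 else 0) (x : Fin n → F) :
    fw E x = ∑ i, pw n (bproj E i x) := by
  unfold fw
  rw [Fintype.sum_sigma]
  apply Finset.sum_congr rfl
  intro i _
  rw [Fin.sum_univ_two, pw_bproj hF n E hE]

theorem fw_map (hF : Fintype.card F = 4) (n : ℕ) {t : ℕ}
    (E : Basis ((_ : Fin t) × Fin 2) F (Fin n → F))
    (hE : ∀ a a', hermForm n F 2 (E a) (E a') = if a = a' then 1 else 0)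
    (D : Fin t → Submodule F (Fin n → F)) (hblk : ∀ i, blk E i = D i) (g : GL (Fin n) F)
    (hgD : g ∈ decompositionStabilizer D) (hgU : g ∈ GU n F 2) (x : Fin n → F) :
    fw E ((g : Matrix (Fin n) (Fin n) F) *ᵥ x) = fw E x := by
  obtain ⟨σ, hσ⟩ := hgD
  rw [fw_eq hF n E hE, fw_eq hF n E hE,
    ← Equiv.sum_comp σ (fun i => pw n (bproj E i ((g : Matrix (Fin n) (Fin n) F) *ᵥ x)))]
  apply Finset.sum_congr rfl
  intro i _
  rw [bproj_map E g σ (fun i => by rw [hblk, hblk]; exact hσ i), pw_gu n g hgU]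

omit [Fintype F] in
theorem fw_swap (c2 : (2 : F) = 0) {n t : ℕ} (E : Basis ((_ : Fin t) × Fin 2) F (Fin n → F))
    {i₁ i₂ : Fin t} (h12 : i₁ ≠ i₂) (x : Fin n → F) :
    fw E (blockShear E {i₁, i₂} 0 0 x) = fw E x := by
  unfold fw
  rw [← Equiv.sum_comp (Equiv.swap (⟨i₁, 0⟩ : (_ : Fin t) × Fin 2) ⟨i₂, 0⟩)
    (fun a => cnt (E.repr x a))]
  apply Finset.sum_congr rfl
  rintro ⟨i, k⟩ -
  congr 1
  rw [repr_blockShear, Finset.sum_pair h12]
  by_cases hk : k = 0
  · subst hk
    by_cases hi1 : i = i₁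
    · subst hi1
      rw [Equiv.swap_apply_left]
      simp only [Finset.mem_insert, Finset.mem_singleton, true_or, and_self, if_true, mul_one]
      linear_combination (E.repr x ⟨i, 0⟩) * c2
    · by_cases hi2 : i = i₂
      · subst hi2
        rw [Equiv.swap_apply_right]
        simp only [Finset.mem_insert, Finset.mem_singleton, or_true, and_self, if_true, mul_one]
        linear_combination (E.repr x ⟨i, 0⟩) * c2
      · rw [Equiv.swap_apply_of_ne_of_ne (fun h => hi1 (congrArg Sigma.fst h))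
          (fun h => hi2 (congrArg Sigma.fst h))]
        simp [hi1, hi2]
  · have hk' : ∀ i' : Fin t, (⟨i, k⟩ : (_ : Fin t) × Fin 2) ≠ ⟨i', 0⟩ := by
      intro i' h
      simp [Sigma.mk.injEq] at h
      exact hk h.2
    rw [Equiv.swap_apply_of_ne_of_ne (hk' i₁) (hk' i₂)]
    simp [hk]

omit [Fintype F] in
theorem fw_basis {n : ℕ} {κ : Type*} [Fintype κ] [DecidableEq κ] (E : Basis κ F (Fin n → F)) (a : κ) :
    fw E (E a) = 1 := by
  unfold fw
  rw [Finset.sum_eq_single a]
  · simp [cnt]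
  · intro b _ hb
    simp [cnt, hb.symm]
  · simp

omit [Fintype F] in
theorem one_lt_fw {n : ℕ} {κ : Type*} [Fintype κ] [DecidableEq κ] (E : Basis κ F (Fin n → F))
    {x : Fin n → F} {a a' : κ} (hne : a ≠ a') (h : E.repr x a ≠ 0) (h' : E.repr x a' ≠ 0) :
    1 < fw E x := by
  unfold fw
  calc 1 < ∑ b ∈ ({a, a'} : Finset κ), cnt (E.repr x b) := by
        rw [Finset.sum_pair hne]
        simp [cnt, h, h']
    _ ≤ ∑ b, cnt (E.repr x b) := Finset.sum_le_sum_of_subset (Finset.subset_univ _)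

end Field4

/-- Let F be the field with 4 elements (q = 2) and n ≥ 13. Let D be a decomposition of F^n into t pairwise orthogonal 2-dimensional subspaces, each non-degenerate for the standard unitary form Σ u_i v_i². Then the elements of SU_n(2) permuting the members of D form a subgroup that is not maximal: some subgroup lies strictly between it and SU_n(2). -/
theorem result {F : Type*} [Field F] [Fintype F] (n : ℕ) (hF : Fintype.card F = 4) (hn : 13 ≤ n) {t : ℕ} (D : Fin t → Submodule F (Fin n → F)) (hD : Cfsg.Geo.IsNondegenerateMDecomposition (Cfsg.hermForm n F 2) 2 D) : ∃ K : Subgroup (Matrix.GeneralLinearGroup (Fin n) F), Cfsg.Geo.decompositionStabilizer D ⊓ (Cfsg.GU n F 2 ⊓ Cfsg.Geo.specialLinear (Fin n) F) < K ∧ K < (Cfsg.GU n F 2 ⊓ Cfsg.Geo.specialLinear (Fin n) F) := by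
  have c2 := two_eq_zero_of_card_four hF
  have hcard : t * 2 = n := by simpa using decomp_card hD.decomp
  have ht : 7 ≤ t := by omega
  obtain ⟨E, hblk, hE⟩ := exists_frame hF n D hD
  obtain ⟨S, -, hS⟩ := Finset.exists_subset_card_eq (s := (Finset.univ : Finset (Fin t))) (n := 4)
    (by simp; omega)
  obtain ⟨i₁, h1, i₂, h2, i₃, h3, h12, h13, h23⟩ := Finset.two_lt_card.mp (by omega : 2 < S.card)
  have hev : ∀ S' : Finset (Fin t), (S'.card : F) = 0 → LinearMap.det (blockShear E S' 0 0) = 1 := by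
    intro S' h
    rw [det_blockShear, if_pos rfl, h, add_zero]
  have hS4 : (S.card : F) = 0 := by
    rw [hS]
    push_cast
    linear_combination 2 * c2
  have hP : (({i₁, i₂} : Finset (Fin t)).card : F) = 0 := by
    rw [Finset.card_pair h12]
    push_cast
    exact c2
  have hmem : ∀ (S' : Finset (Fin t)) (_ : (S'.card : F) = 0)
      (hne : LinearMap.det (blockShear E S' 0 0) ≠ 0),
      glOfLinearMap (blockShear E S' 0 0) hne ∈ GU n F 2 ⊓ specialLinear (Fin n) F := by
    intro S' h0 hne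
    refine Subgroup.mem_inf.mpr ⟨?_, ?_⟩
    · show ∀ x y, hermForm n F 2
        ((glOfLinearMap (blockShear E S' 0 0) hne : Matrix (Fin n) (Fin n) F) *ᵥ x)
        ((glOfLinearMap (blockShear E S' 0 0) hne : Matrix (Fin n) (Fin n) F) *ᵥ y) = hermForm n F 2 x y
      intro x y
      rw [glOfLinearMap_mulVec, glOfLinearMap_mulVec]
      exact shear_isometry hF n E hE S' h0 x y
    · rw [mem_specialLinear_iff, det_glOfLinearMap, hev S' h0]
  have hneP : LinearMap.det (blockShear E {i₁, i₂} 0 0) ≠ 0 := by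
    rw [hev _ hP]
    exact one_ne_zero
  have hneS : LinearMap.det (blockShear E S 0 0) ≠ 0 := by
    rw [hev _ hS4]
    exact one_ne_zero
  refine not_maximal_of_fn (fw E) (decompositionStabilizer D) _ ?_
    (glOfLinearMap (blockShear E {i₁, i₂} 0 0) hneP) (hmem _ hP _) ?_ ?_
    (glOfLinearMap (blockShear E S 0 0) hneS) (hmem _ hS4 _) ?_
  · intro g hg x
    exact fw_map hF n E hE D hblk g hg.1 hg.2.1 x
  · intro x
    rw [glOfLinearMap_mulVec]
    exact fw_swap c2 E h12 x
  · rintro ⟨σ, hσ⟩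
    have hb := bwt_map E _ σ (fun i => by rw [hblk, hblk]; exact hσ i) (E ⟨i₁, 0⟩ + E ⟨i₁, 1⟩)
    rw [glOfLinearMap_mulVec] at hb
    have hx0 : E ⟨i₁, 0⟩ + E ⟨i₁, 1⟩ ≠ 0 := by
      intro h0
      have := congrArg (fun v => E.repr v ⟨i₁, 0⟩) h0
      simp [Basis.repr_self, Sigma.mk.injEq] at this
    have hne21 : (⟨i₂, 0⟩ : (_ : Fin t) × Fin 2) ≠ ⟨i₁, 0⟩ := fun h => h12 (congrArg Sigma.fst h).symm
    have hne11 : (⟨i₁, 1⟩ : (_ : Fin t) × Fin 2) ≠ ⟨i₁, 0⟩ := by
      intro h
      simp [Sigma.mk.injEq] at h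
    have himg : blockShear E {i₁, i₂} 0 0 (E ⟨i₁, 0⟩ + E ⟨i₁, 1⟩) = E ⟨i₁, 1⟩ + E ⟨i₂, 0⟩ := by
      rw [blockShear_apply, Finset.sum_pair h12, Finset.sum_pair h12]
      simp only [map_add, Basis.repr_self, Finsupp.add_apply, Finsupp.single_apply]
      have hne12 : (⟨i₁, 1⟩ : (_ : Fin t) × Fin 2) ≠ ⟨i₂, 0⟩ := fun h => h12 (congrArg Sigma.fst h)
      simp only [hne11, hne12, hne21.symm, if_true, if_false, add_zero, one_smul]
      have h2 : (2 : F) • E ⟨i₁, 0⟩ = 0 := by rw [c2, zero_smul]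
      rw [two_smul] at h2
      calc E ⟨i₁, 0⟩ + E ⟨i₁, 1⟩ + (E ⟨i₁, 0⟩ + E ⟨i₂, 0⟩)
          = (E ⟨i₁, 0⟩ + E ⟨i₁, 0⟩) + (E ⟨i₁, 1⟩ + E ⟨i₂, 0⟩) := by abel
        _ = E ⟨i₁, 1⟩ + E ⟨i₂, 0⟩ := by rw [h2, zero_add]
    rw [himg, bwt_basis_add E h12, bwt_of_mem_blk E
      ((blk E i₁).add_mem (basis_mem_blk E i₁ 0) (basis_mem_blk E i₁ 1)) hx0] at hb
    omega
  · refine ⟨E ⟨i₁, 0⟩, ?_⟩
    rw [glOfLinearMap_mulVec, fw_basis]
    have hne23 : (⟨i₂, 0⟩ : (_ : Fin t) × Fin 2) ≠ ⟨i₃, 0⟩ := fun h => h23 (congrArg Sigma.fst h)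
    refine (one_lt_fw E hne23 ?_ ?_).ne'
    · rw [repr_blockShear_basis E S 0 0 h1 h2 h12]
      exact one_ne_zero
    · rw [repr_blockShear_basis E S 0 0 h1 h3 h13]
      exact one_ne_zero

end Cfsg.Agent.S5656
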