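import Cfsg.Statements.S5667
import Cfsg.Agent.Lib.helper95.Tensor
import Cfsg.Agent.Lib.helper95.Bilin
import Cfsg.Agent.Lib.helper95.Ortho3
import Cfsg.Agent.Lib.helper17.Symp2

set_option autoImplicit false
open Cfsg

namespace Cfsg.Agent.S5667

open Cfsg.Agent.Lib.helper95 Cfsg.Agent.Lib.helper17 Cfsg.Geo Matrix Module
open scoped Kronecker

section Main

variable {F : Type*} [Field F] [Fintype F] {n₁ : ℕ}

/-- The tensor product form on `F^(n₁) ⊗ F^3`. -/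
def phiT (f₁ : (Fin n₁ → F) → (Fin n₁ → F) → F) (f₂ : (Fin 3 → F) → (Fin 3 → F) → F) :
    (Fin n₁ × Fin 3 → F) → (Fin n₁ × Fin 3 → F) → F :=
  formOfGram id (gramMatrix f₁ ⊗ₖ gramMatrix f₂)

omit [Fintype F] in
theorem phi_tp {f₁ : (Fin n₁ → F) → (Fin n₁ → F) → F} {f₂ : (Fin 3 → F) → (Fin 3 → F) → F}
    (hf₁ : IsBilinearForm f₁) (hf₂ : IsBilinearForm f₂) (x₁ y₁ : Fin n₁ → F) (x₂ y₂ : Fin 3 → F) :
    phiT f₁ f₂ (tp x₁ x₂) (tp y₁ y₂) = f₁ x₁ y₁ * f₂ x₂ y₂ := by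
  unfold phiT
  rw [formOfGram_tp _ (fun a b => rfl), ← bilin_eq_formOfGram hf₁, ← bilin_eq_formOfGram hf₂]

/-- The three blocks `F^(n₁) ⊗ c j`. -/
noncomputable def blocks (c : Basis (Fin 3) F (Fin 3 → F)) (j : Fin 3) :
    Submodule F (Fin n₁ × Fin 3 → F) :=
  LinearMap.range (tpR (n₁ := n₁) (c j))

omit [Fintype F] in
theorem symB_of_isSymmetricForm {f₂ : (Fin 3 → F) → (Fin 3 → F) → F} (hf₂ : IsSymmetricForm f₂) :
    SymB f₂ where
  add_left := hf₂.bilinear.add_left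
  smul_left := hf₂.bilinear.smul_left
  symm := hf₂.symm

theorem kron_le (hq : Fintype.card F = 3) {f₁ : (Fin n₁ → F) → (Fin n₁ → F) → F}
    {f₂ : (Fin 3 → F) → (Fin 3 → F) → F} (hf₁ : IsBilinearForm f₁) (hf₂ : IsSymmetricForm f₂)
    (c : Basis (Fin 3) F (Fin 3 → F)) {ε : F} (hε : ε ≠ 0)
    (hc : ∀ j l, f₂ (c j) (c l) = if j = l then ε else 0) {u₀ u₁ : Fin n₁ → F} (hu : f₁ u₀ u₁ ≠ 0) :
    kroneckerSubgroup n₁ 3 F ⊓ preserving (Units.coeHom (Matrix (Fin n₁ × Fin 3) (Fin n₁ × Fin 3) F))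
        (phiT f₁ f₂) ≤ decompositionStabilizer (blocks (n₁ := n₁) c) := by
  rintro M ⟨⟨a, b', hM⟩, hMΦ⟩
  have hΦ : ∀ x y, phiT f₁ f₂ ((M : Matrix _ _ F) *ᵥ x) ((M : Matrix _ _ F) *ᵥ y) = phiT f₁ f₂ x y := hMΦ
  have key : ∀ (x₁ y₁ : Fin n₁ → F) (u v : Fin 3 → F),
      f₁ ((a : Matrix (Fin n₁) (Fin n₁) F) *ᵥ x₁) ((a : Matrix (Fin n₁) (Fin n₁) F) *ᵥ y₁) *
        f₂ ((b' : Matrix (Fin 3) (Fin 3) F) *ᵥ u) ((b' : Matrix (Fin 3) (Fin 3) F) *ᵥ v) =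
          f₁ x₁ y₁ * f₂ u v := by
    intro x₁ y₁ u v
    have := hΦ (tp x₁ u) (tp y₁ v)
    rw [hM, kronecker_mulVec_tp, kronecker_mulVec_tp, phi_tp hf₁ hf₂.bilinear,
      phi_tp hf₁ hf₂.bilinear] at this
    exact this
  have hν : f₁ ((a : Matrix (Fin n₁) (Fin n₁) F) *ᵥ u₀) ((a : Matrix (Fin n₁) (Fin n₁) F) *ᵥ u₁) ≠ 0 := by
    intro h0
    have := key u₀ u₁ (c 0) (c 0)
    rw [h0, zero_mul, hc, if_pos rfl] at this
    exact (mul_ne_zero hu hε) this.symm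
  have hd : ∀ j l, f₂ ((b' : Matrix (Fin 3) (Fin 3) F) *ᵥ c j) ((b' : Matrix (Fin 3) (Fin 3) F) *ᵥ c l) =
      if j = l then ((f₁ ((a : Matrix (Fin n₁) (Fin n₁) F) *ᵥ u₀)
        ((a : Matrix (Fin n₁) (Fin n₁) F) *ᵥ u₁))⁻¹ * f₁ u₀ u₁) * ε else 0 := by
    intro j l
    have := key u₀ u₁ (c j) (c l)
    rw [hc] at this
    by_cases hjl : j = l
    · rw [if_pos hjl] at this ⊢
      rw [mul_assoc, ← this, ← mul_assoc, inv_mul_cancel₀ hν, one_mul]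
    · rw [if_neg hjl, mul_zero] at this
      rw [if_neg hjl]
      exact (mul_eq_zero.mp this).resolve_left hν
  obtain ⟨π, hπ⟩ := frame_monomial hq (symB_of_isSymmetricForm hf₂) c hε hc
    (fun j => (b' : Matrix (Fin 3) (Fin 3) F) *ᵥ c j) (mul_ne_zero (inv_ne_zero hν) hu) hd
  refine ⟨π, fun j => ?_⟩
  obtain ⟨s, hs, h⟩ := hπ j
  rw [hM]
  exact map_range_tpR a _ hs h

omit [Fintype F] in
theorem g0_mem {f₁ : (Fin n₁ → F) → (Fin n₁ → F) → F} {f₂ : (Fin 3 → F) → (Fin 3 → F) → F}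
    (hf₁ : IsBilinearForm f₁) (hf₂ : IsSymmetricForm f₂) (hΦ : AltB (phiT f₁ f₂))
    (c : Basis (Fin 3) F (Fin 3 → F)) {ε : F}
    (hc : ∀ j l, f₂ (c j) (c l) = if j = l then ε else 0) (u₁ : Fin n₁ → F) :
    hΦ.tv (tp u₁ (c 0)) ∈ decompositionStabilizer (blocks (n₁ := n₁) c) := by
  refine ⟨1, fun j => ?_⟩
  rw [Equiv.Perm.one_apply]
  apply map_eq_of_mapsTo
  rintro _ ⟨u, rfl⟩
  rw [AltB.tv_mulVec, tpR_apply, phi_tp hf₁ hf₂.bilinear, hc]
  by_cases hj : j = 0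
  · subst hj
    rw [if_pos rfl]
    refine ⟨u + (f₁ u u₁ * ε) • u₁, ?_⟩
    rw [tpR_apply, tp_add_left, tp_smul_left]
  · rw [if_neg hj, mul_zero, zero_smul, add_zero]
    exact ⟨u, rfl⟩

omit [Fintype F] in
theorem g0_notMem {f₁ : (Fin n₁ → F) → (Fin n₁ → F) → F} {f₂ : (Fin 3 → F) → (Fin 3 → F) → F}
    (hf₁ : IsSymplecticForm f₁) (hf₂ : IsSymmetricForm f₂) (hΦ : AltB (phiT f₁ f₂))
    (c : Basis (Fin 3) F (Fin 3 → F)) {ε : F} (hε : ε ≠ 0)
    (hc : ∀ j l, f₂ (c j) (c l) = if j = l then ε else 0) {u₀ u₁ : Fin n₁ → F} (hu : f₁ u₀ u₁ ≠ 0) :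
    hΦ.tv (tp u₁ (c 0)) ∉ kroneckerSubgroup n₁ 3 F := by
  rintro ⟨a, b', hM⟩
  have hu₁ : u₁ ≠ 0 := by
    rintro rfl
    exact hu (bilin_zero_right hf₁.bilinear u₀)
  have hu₀ : u₀ ≠ 0 := by
    rintro rfl
    exact hu (bilin_zero_left hf₁.bilinear u₁)
  have hact : ∀ (j : Fin 3) (u : Fin n₁ → F),
      tp ((a : Matrix (Fin n₁) (Fin n₁) F) *ᵥ u) ((b' : Matrix (Fin 3) (Fin 3) F) *ᵥ c j) =
        tp u (c j) + (f₁ u u₁ * f₂ (c j) (c 0)) • tp u₁ (c 0) := by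
    intro j u
    rw [← kronecker_mulVec_tp, ← hM, AltB.tv_mulVec, phi_tp hf₁.bilinear hf₂.bilinear]
  have hS := symB_of_isSymmetricForm hf₂
  have h1 : ∀ u, f₂ ((b' : Matrix (Fin 3) (Fin 3) F) *ᵥ c 1) (c 1) •
      ((a : Matrix (Fin n₁) (Fin n₁) F) *ᵥ u) = ε • u := by
    intro u
    have := congrArg (ctrR (hS.toLin (c 1))) (hact 1 u)
    rw [ctrR_tp, map_add, map_smul, ctrR_tp, ctrR_tp] at this
    simpa [SymB.toLin_apply, hc] using this
  have h0 : ∀ u, f₂ ((b' : Matrix (Fin 3) (Fin 3) F) *ᵥ c 0) (c 0) •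
      ((a : Matrix (Fin n₁) (Fin n₁) F) *ᵥ u) = ε • u + (f₁ u u₁ * ε) • (ε • u₁) := by
    intro u
    have := congrArg (ctrR (hS.toLin (c 0))) (hact 0 u)
    rw [ctrR_tp, map_add, map_smul, ctrR_tp, ctrR_tp] at this
    simpa [SymB.toLin_apply, hc] using this
  have hlam : f₂ ((b' : Matrix (Fin 3) (Fin 3) F) *ᵥ c 1) (c 1) ≠ 0 := by
    intro h
    have := h1 u₀
    rw [h, zero_smul] at this
    rcases smul_eq_zero.mp this.symm with h' | h'
    · exact hε h'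
    · exact hu₀ h'
  have hau : (a : Matrix (Fin n₁) (Fin n₁) F) *ᵥ u₀ =
      ((f₂ ((b' : Matrix (Fin 3) (Fin 3) F) *ᵥ c 1) (c 1))⁻¹ * ε) • u₀ := by
    have := congrArg (fun x => (f₂ ((b' : Matrix (Fin 3) (Fin 3) F) *ᵥ c 1) (c 1))⁻¹ • x) (h1 u₀)
    simp only [smul_smul, inv_mul_cancel₀ hlam, one_smul] at this
    exact this
  have h0' := h0 u₀
  rw [hau, smul_smul] at h0'
  have h2 := congrArg (fun x => f₁ x u₁) h0'
  simp only [hf₁.bilinear.smul_left, hf₁.bilinear.add_left, hf₁.alternating u₁, mul_zero, add_zero] at h2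
  have h3 : f₂ ((b' : Matrix (Fin 3) (Fin 3) F) *ᵥ c 0) (c 0) *
      ((f₂ ((b' : Matrix (Fin 3) (Fin 3) F) *ᵥ c 1) (c 1))⁻¹ * ε) = ε :=
    mul_right_cancel₀ hu h2
  rw [h3] at h0'
  have h4 : (f₁ u₀ u₁ * ε) • (ε • u₁) = 0 := by simpa using h0'
  rcases smul_eq_zero.mp h4 with h | h
  · exact (mul_ne_zero hu hε) h
  · rcases smul_eq_zero.mp h with h' | h'
    · exact hε h'
    · exact hu₁ h'

omit [Fintype F] in
theorem tau0_notMem {f₁ : (Fin n₁ → F) → (Fin n₁ → F) → F} {f₂ : (Fin 3 → F) → (Fin 3 → F) → F}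
    (hf₁ : IsSymplecticForm f₁) (hf₂ : IsSymmetricForm f₂) (hΦ : AltB (phiT f₁ f₂))
    (c : Basis (Fin 3) F (Fin 3 → F)) {ε : F} (hε : ε ≠ 0)
    (hc : ∀ j l, f₂ (c j) (c l) = if j = l then ε else 0) {u₀ u₁ : Fin n₁ → F} (hu : f₁ u₀ u₁ ≠ 0) :
    hΦ.tv (tp u₁ (c 0 + c 1)) ∉ decompositionStabilizer (blocks (n₁ := n₁) c) := by
  rintro ⟨σ, hσ⟩
  have hu₁ : u₁ ≠ 0 := by
    rintro rfl
    exact hu (bilin_zero_right hf₁.bilinear u₀)
  have hS := symB_of_isSymmetricForm hf₂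
  have hmem : ((hΦ.tv (tp u₁ (c 0 + c 1)) : GL _ F) : Matrix _ _ F) *ᵥ tp u₀ (c 0) ∈
      blocks (n₁ := n₁) c (σ 0) := by
    rw [← hσ 0]
    exact ⟨tp u₀ (c 0), ⟨u₀, rfl⟩, by rw [Matrix.toLin'_apply]⟩
  rw [AltB.tv_mulVec, phi_tp hf₁.bilinear hf₂.bilinear] at hmem
  obtain ⟨u', hu'⟩ := hmem
  have hcl : ∀ l : Fin 3, f₂ (c (σ 0)) (c l) • u' =
      f₂ (c 0) (c l) • u₀ + (f₁ u₀ u₁ * f₂ (c 0) (c 0 + c 1)) • (f₂ (c 0 + c 1) (c l) • u₁) := by
    intro l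
    have := congrArg (ctrR (hS.toLin (c l))) hu'
    rw [tpR_apply, ctrR_tp, map_add, map_smul, ctrR_tp, ctrR_tp] at this
    exact this
  have hval : f₂ (c 0) (c 0 + c 1) = ε := by
    rw [hS.add_right, hc, hc]
    simp
  by_cases hk : σ 0 = 1
  · have := hcl 0
    rw [hk, hval, hS.add_left] at this
    simp only [hc] at this
    simp at this
    have h2 := congrArg (fun x => f₁ x u₁) this
    simp only [bilin_zero_left hf₁.bilinear, hf₁.bilinear.smul_left, hf₁.bilinear.add_left,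
      hf₁.alternating u₁, mul_zero, add_zero] at h2
    exact (mul_ne_zero hε hu) h2.symm
  · have := hcl 1
    rw [hval, hS.add_left] at this
    simp only [hc] at this
    rw [if_neg hk, zero_smul] at this
    have h4 : (f₁ u₀ u₁ * ε) • (ε • u₁) = 0 := by simpa using this.symm
    rcases smul_eq_zero.mp h4 with h | h
    · exact (mul_ne_zero hu hε) h
    · rcases smul_eq_zero.mp h with h' | h'
      · exact hε h'
      · exact hu₁ h'

end Main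

/-- Over the field with 3 elements and for m ≥ 7, suppose the standard alternating form on F^(2m) is similar, through P and e, to the tensor product of a non-degenerate symplectic form f₁ on F^(n₁) and a non-degenerate symmetric bilinear form f₂ on F^3. Then the elements of Sp_2m(3) in the stabiliser of this tensor decomposition form a subgroup that is not maximal: some subgroup lies strictly between it and Sp_2m(3). -/
theorem result {F : Type*} [Field F] [Fintype F] (m : ℕ) (hm : 7 ≤ m) (hq : Fintype.card F = 3) (n₁ : ℕ) (e : (Fin m ⊕ Fin m) ≃ Fin n₁ × Fin 3) (P : Matrix.GeneralLinearGroup (Fin m ⊕ Fin m) F) (f₁ : (Fin n₁ → F) → (Fin n₁ → F) → F) (f₂ : (Fin 3 → F) → (Fin 3 → F) → F) (hf₁ : Cfsg.Geo.IsSymplecticForm f₁) (hf₂ : Cfsg.Geo.IsSymmetricForm f₂) (hT : Cfsg.Geo.IsTensorFormStructure id (Cfsg.sympForm m F) f₁ f₂ e P) : ∃ K : Subgroup (Matrix.GeneralLinearGroup (Fin m ⊕ Fin m)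 F), Cfsg.Geo.tensorProductSubgroup n₁ 3 e P ⊓ Cfsg.spGL m F < K ∧ K < Cfsg.spGL m F := by
  have hcard : m + m = n₁ * 3 := by simpa using Fintype.card_congr e
  have hn₁ : 0 < n₁ := by omega
  obtain ⟨c', hc', hT'⟩ := hT
  have hΦ : AltB (phiT f₁ f₂) :=
    { add_left := formOfGram_add_left _ _
      smul_left := formOfGram_smul_left _ _
      alt := by
        intro v
        have := hT' v v
        rw [sympForm_self] at this
        exact (mul_eq_zero.mp this.symm).resolve_left hc'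
      skew := by
        intro v w
        have h1 := hT' v w
        have h2 := hT' w v
        rw [sympForm_swap, h1] at h2
        have : c' * (phiT f₁ f₂ v w + phiT f₁ f₂ w v) = 0 := by
          unfold phiT
          linear_combination -h2
        have := (mul_eq_zero.mp this).resolve_left hc'
        linear_combination this }
  obtain ⟨ε, c, hε, hc⟩ := exists_frame3 hq (symB_of_isSymmetricForm hf₂)
    (fun w hw => (hf₂.nondegenerate w hw).1) (by simp)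
  have hu₁ : (fun _ : Fin n₁ => (1 : F)) ≠ 0 := by
    intro h
    have := congrFun h ⟨0, hn₁⟩
    simp at this
  obtain ⟨u₀, hu⟩ := (hf₁.nondegenerate _ hu₁).1
  rw [tensorProductSubgroup_eq_map]
  refine transport_not_maximal e P _
    (preserving (Units.coeHom (Matrix (Fin n₁ × Fin 3) (Fin n₁ × Fin 3) F)) (phiT f₁ f₂))
    (decompositionStabilizer (blocks (n₁ := n₁) c)) _ ?_ (kron_le hq hf₁.bilinear hf₂ c hε hc hu)
    (hΦ.tv _) (hΦ.tv_mem_preserving _) (g0_mem hf₁.bilinear hf₂ hΦ c hc _)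
    (g0_notMem hf₁ hf₂ hΦ c hε hc hu)
    (hΦ.tv _) (hΦ.tv_mem_preserving _) (tau0_notMem hf₁ hf₂ hΦ c hε hc hu)
  intro M
  exact transportHom_preserves_iff e P (sympForm m F) (phiT f₁ f₂) c' hc' hT' M

end Cfsg.Agent.S5667
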