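import Cfsg.Statements.S5671
import Cfsg.Agent.Lib.helper95.Tensor
import Cfsg.Agent.Lib.helper95.Unitary4

set_option autoImplicit false
open Cfsg

namespace Cfsg.Agent.S5671

open Cfsg.Agent.Lib.helper95 Cfsg.Geo Matrix Module
open scoped Kronecker

section Main

variable {F : Type*} [Field F] [Fintype F] {n₂ : ℕ}

/-- The tensor product form on `F^2 ⊗ F^(n₂)`. -/
def phiT (f₁ : (Fin 2 → F) → (Fin 2 → F) → F) (f₂ : (Fin n₂ → F) → (Fin n₂ → F) → F) :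
    (Fin 2 × Fin n₂ → F) → (Fin 2 × Fin n₂ → F) → F :=
  formOfGram (fun x : F => x ^ 2) (gramMatrix f₁ ⊗ₖ gramMatrix f₂)

theorem phi_sesq (hF : Fintype.card F = 4) {f₁ : (Fin 2 → F) → (Fin 2 → F) → F}
    {f₂ : (Fin n₂ → F) → (Fin n₂ → F) → F} (hf₁ : Sesq2 f₁) (hf₂ : Sesq2 f₂) : Sesq2 (phiT f₁ f₂) := by
  apply sesq2_formOfGram hF
  rintro ⟨i, r⟩ ⟨j, s⟩
  simp only [Matrix.kronecker_apply, gramMatrix, mul_pow]
  rw [← hf₁.herm, ← hf₂.herm]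

theorem phi_tp (hF : Fintype.card F = 4) {f₁ : (Fin 2 → F) → (Fin 2 → F) → F}
    {f₂ : (Fin n₂ → F) → (Fin n₂ → F) → F} (hf₁ : Sesq2 f₁) (hf₂ : Sesq2 f₂)
    (x₁ y₁ : Fin 2 → F) (x₂ y₂ : Fin n₂ → F) :
    phiT f₁ f₂ (tp x₁ x₂) (tp y₁ y₂) = f₁ x₁ y₁ * f₂ x₂ y₂ := by
  unfold phiT
  rw [formOfGram_tp _ (fun a b => mul_pow a b 2), ← hf₁.eq_formOfGram hF, ← hf₂.eq_formOfGram hF]

omit [Fintype F] in
theorem expand2 {f₁ : (Fin 2 → F) → (Fin 2 → F) → F} (hf₁ : Sesq2 f₁)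
    (b : Basis (Fin 2) F (Fin 2 → F)) (hb : ∀ j j', f₁ (b j) (b j') = if j = j' then 1 else 0)
    (x : Fin 2 → F) : x = f₁ x (b 0) • b 0 + f₁ x (b 1) • b 1 := by
  have h := b.sum_repr x
  rw [Fin.sum_univ_two, hf₁.repr_orthonormal b hb, hf₁.repr_orthonormal b hb] at h
  exact h.symm

theorem f_comb (hF : Fintype.card F = 4) {f₁ : (Fin 2 → F) → (Fin 2 → F) → F} (hf₁ : Sesq2 f₁)
    (b : Basis (Fin 2) F (Fin 2 → F)) (hb : ∀ j j', f₁ (b j) (b j') = if j = j' then 1 else 0)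
    (s t s' t' : F) :
    f₁ (s • b 0 + t • b 1) (s' • b 0 + t' • b 1) = s * s' ^ 2 + t * t' ^ 2 := by
  simp only [hf₁.add_left, hf₁.add_right hF, hf₁.smul_left, hf₁.smul_right, hb]
  simp

/-- A matrix mapping the orthonormal basis to orthogonal non-isotropic vectors is monomial in that basis. -/
theorem monomial_of_preserves (hF : Fintype.card F = 4) {f₁ : (Fin 2 → F) → (Fin 2 → F) → F}
    (hf₁ : Sesq2 f₁) (b : Basis (Fin 2) F (Fin 2 → F))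
    (hb : ∀ j j', f₁ (b j) (b j') = if j = j' then 1 else 0) (a : Matrix (Fin 2) (Fin 2) F)
    (A1 : f₁ (a *ᵥ b 0) (a *ᵥ b 0) ≠ 0) (A2 : f₁ (a *ᵥ b 1) (a *ᵥ b 1) ≠ 0)
    (A3 : f₁ (a *ᵥ b 0) (a *ᵥ b 1) = 0) :
    ∃ σ : Equiv.Perm (Fin 2), ∀ i, ∃ c : F, c ≠ 0 ∧ a *ᵥ b i = c • b (σ i) := by
  have c2 := two_eq_zero_of_card_four hF
  have cube : ∀ x : F, x ≠ 0 → x ^ 3 = 1 := fun x hx => by
    have := FiniteField.pow_card_sub_one_eq_one x hx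
    rwa [hF] at this
  obtain ⟨s, t, e0⟩ : ∃ s t, a *ᵥ b 0 = s • b 0 + t • b 1 := ⟨_, _, expand2 hf₁ b hb _⟩
  obtain ⟨s', t', e1⟩ : ∃ s' t', a *ᵥ b 1 = s' • b 0 + t' • b 1 := ⟨_, _, expand2 hf₁ b hb _⟩
  rw [e0, f_comb hF hf₁ b hb] at A1
  rw [e1, f_comb hF hf₁ b hb] at A2
  rw [e0, e1, f_comb hF hf₁ b hb] at A3
  by_cases hs : s = 0
  · have ht : t ≠ 0 := by
      rintro rfl
      apply A1
      rw [hs]
      ring
    have ht' : t' = 0 := by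
      rw [hs, zero_mul, zero_add] at A3
      rcases mul_eq_zero.mp A3 with h | h
      · exact absurd h ht
      · exact pow_eq_zero_iff (two_ne_zero) |>.mp h
    have hs' : s' ≠ 0 := by
      rintro rfl
      apply A2
      rw [ht']
      ring
    refine ⟨Equiv.swap 0 1, ?_⟩
    intro i
    fin_cases i
    · exact ⟨t, ht, by simp [e0, hs]⟩
    · exact ⟨s', hs', by simp [e1, ht']⟩
  · have ht : t = 0 := by
      by_contra ht
      apply A1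
      have h1 := cube s hs
      have h2 := cube t ht
      linear_combination h1 + h2 + c2
    have hs' : s' = 0 := by
      rw [ht, zero_mul, add_zero] at A3
      rcases mul_eq_zero.mp A3 with h | h
      · exact absurd h hs
      · exact pow_eq_zero_iff (two_ne_zero) |>.mp h
    have ht' : t' ≠ 0 := by
      rintro rfl
      apply A2
      rw [hs']
      ring
    refine ⟨1, ?_⟩
    intro i
    fin_cases i
    · exact ⟨s, hs, by simp [e0, ht]⟩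
    · exact ⟨t', ht', by simp [e1, hs']⟩

/-- The two blocks `b i ⊗ F^(n₂)`. -/
noncomputable def blocks (b : Basis (Fin 2) F (Fin 2 → F)) (i : Fin 2) : Submodule F (Fin 2 × Fin n₂ → F) :=
  LinearMap.range (tpL (n₂ := n₂) (b i))

theorem kron_le (hF : Fintype.card F = 4) {f₁ : (Fin 2 → F) → (Fin 2 → F) → F}
    {f₂ : (Fin n₂ → F) → (Fin n₂ → F) → F} (hf₁ : Sesq2 f₁) (hf₂ : Sesq2 f₂)
    (b : Basis (Fin 2) F (Fin 2 → F)) (hb : ∀ j j', f₁ (b j) (b j') = if j = j' then 1 else 0)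
    {x₂ w : Fin n₂ → F} (hxw : f₂ x₂ w ≠ 0) :
    kroneckerSubgroup 2 n₂ F ⊓ (preserving (Units.coeHom (Matrix (Fin 2 × Fin n₂) (Fin 2 × Fin n₂) F))
        (phiT f₁ f₂) ⊓ specialLinear (Fin 2 × Fin n₂) F) ≤ decompositionStabilizer (blocks (n₂ := n₂) b) := by
  rintro M ⟨⟨a, b', hM⟩, hMΦ, -⟩
  have hΦ : ∀ x y, phiT f₁ f₂ ((M : Matrix _ _ F) *ᵥ x) ((M : Matrix _ _ F) *ᵥ y) = phiT f₁ f₂ x y := hMΦ
  have key : ∀ (x₁ y₁ : Fin 2 → F) (u v : Fin n₂ → F),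
      f₁ ((a : Matrix (Fin 2) (Fin 2) F) *ᵥ x₁) ((a : Matrix (Fin 2) (Fin 2) F) *ᵥ y₁) *
        f₂ ((b' : Matrix (Fin n₂) (Fin n₂) F) *ᵥ u) ((b' : Matrix (Fin n₂) (Fin n₂) F) *ᵥ v) = f₁ x₁ y₁ * f₂ u v := by
    intro x₁ y₁ u v
    have := hΦ (tp x₁ u) (tp y₁ v)
    rw [hM, kronecker_mulVec_tp, kronecker_mulVec_tp, phi_tp hF hf₁ hf₂, phi_tp hF hf₁ hf₂] at this
    exact this
  have h11 := key (b 0) (b 0) x₂ w
  have h22 := key (b 1) (b 1) x₂ w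
  have h12 := key (b 0) (b 1) x₂ w
  rw [hb] at h11 h22 h12
  simp only [if_true, one_mul] at h11 h22
  have h01 : ((0 : Fin 2) = 1) = False := by simp
  simp only [h01, if_false, zero_mul] at h12
  have hν : f₂ ((b' : Matrix (Fin n₂) (Fin n₂) F) *ᵥ x₂) ((b' : Matrix (Fin n₂) (Fin n₂) F) *ᵥ w) ≠ 0 := by
    intro h0
    rw [h0, mul_zero] at h11
    exact hxw h11.symm
  have A1 : f₁ ((a : Matrix (Fin 2) (Fin 2) F) *ᵥ b 0) ((a : Matrix (Fin 2) (Fin 2) F) *ᵥ b 0) ≠ 0 := by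
    intro h0
    rw [h0, zero_mul] at h11
    exact hxw h11.symm
  have A2 : f₁ ((a : Matrix (Fin 2) (Fin 2) F) *ᵥ b 1) ((a : Matrix (Fin 2) (Fin 2) F) *ᵥ b 1) ≠ 0 := by
    intro h0
    rw [h0, zero_mul] at h22
    exact hxw h22.symm
  have A3 : f₁ ((a : Matrix (Fin 2) (Fin 2) F) *ᵥ b 0) ((a : Matrix (Fin 2) (Fin 2) F) *ᵥ b 1) = 0 := by
    rcases mul_eq_zero.mp h12 with h | h
    · exact h
    · exact absurd h hν
  obtain ⟨σ, hσ⟩ := monomial_of_preserves hF hf₁ b hb _ A1 A2 A3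
  refine ⟨σ, fun i => ?_⟩
  obtain ⟨c, hc, h⟩ := hσ i
  rw [hM]
  exact map_range_tpL _ b' hc h

theorem g0_mem (hF : Fintype.card F = 4) {f₁ : (Fin 2 → F) → (Fin 2 → F) → F}
    {f₂ : (Fin n₂ → F) → (Fin n₂ → F) → F} (hf₁ : Sesq2 f₁) (hf₂ : Sesq2 f₂)
    (b : Basis (Fin 2) F (Fin 2 → F)) (hb : ∀ j j', f₁ (b j) (b j') = if j = j' then 1 else 0)
    {w : Fin n₂ → F} (hv : phiT f₁ f₂ (tp (b 1) w) (tp (b 1) w) = 0) :
    (phi_sesq hF hf₁ hf₂).tv (tp (b 1) w) hv ∈ decompositionStabilizer (blocks (n₂ := n₂) b) := by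
  refine ⟨1, fun i => ?_⟩
  rw [Equiv.Perm.one_apply]
  apply map_eq_of_mapsTo
  rintro _ ⟨u, rfl⟩
  rw [Sesq2.tv_mulVec, tpL_apply, phi_tp hF hf₁ hf₂, hb]
  fin_cases i
  · simp only [Fin.zero_eta, Fin.isValue, zero_ne_one, if_false, zero_mul, zero_smul, add_zero]
    exact ⟨u, rfl⟩
  · simp only [Fin.mk_one, Fin.isValue, if_true, one_mul]
    refine ⟨u + f₂ u w • w, ?_⟩
    rw [tpL_apply, tp_add_right, tp_smul_right]

theorem g0_notMem (hF : Fintype.card F = 4) {f₁ : (Fin 2 → F) → (Fin 2 → F) → F}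
    {f₂ : (Fin n₂ → F) → (Fin n₂ → F) → F} (hf₁ : Sesq2 f₁) (hf₂ : Sesq2 f₂)
    (b : Basis (Fin 2) F (Fin 2 → F)) (hb : ∀ j j', f₁ (b j) (b j') = if j = j' then 1 else 0)
    {w u₀ : Fin n₂ → F} (hw0 : w ≠ 0) (hww : f₂ w w = 0) (hu₀ : f₂ u₀ w ≠ 0)
    (hv : phiT f₁ f₂ (tp (b 1) w) (tp (b 1) w) = 0) :
    (phi_sesq hF hf₁ hf₂).tv (tp (b 1) w) hv ∉ kroneckerSubgroup 2 n₂ F := by
  rintro ⟨a, b', hM⟩
  have hact : ∀ (i : Fin 2) (u : Fin n₂ → F),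
      tp ((a : Matrix (Fin 2) (Fin 2) F) *ᵥ b i) ((b' : Matrix (Fin n₂) (Fin n₂) F) *ᵥ u) =
        tp (b i) u + (f₁ (b i) (b 1) * f₂ u w) • tp (b 1) w := by
    intro i u
    rw [← kronecker_mulVec_tp, ← hM, Sesq2.tv_mulVec, phi_tp hF hf₁ hf₂]
  have h0 : ∀ u, f₁ ((a : Matrix (Fin 2) (Fin 2) F) *ᵥ b 0) (b 0) • ((b' : Matrix (Fin n₂) (Fin n₂) F) *ᵥ u) = u := by
    intro u
    have := congrArg (ctrL (hf₁.toLin (b 0))) (hact 0 u)
    rw [ctrL_tp, map_add, map_smul, ctrL_tp, ctrL_tp] at this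
    simpa [Sesq2.toLin_apply, hb] using this
  have h1 : ∀ u, f₁ ((a : Matrix (Fin 2) (Fin 2) F) *ᵥ b 1) (b 1) • ((b' : Matrix (Fin n₂) (Fin n₂) F) *ᵥ u) = u + f₂ u w • w := by
    intro u
    have := congrArg (ctrL (hf₁.toLin (b 1))) (hact 1 u)
    rw [ctrL_tp, map_add, map_smul, ctrL_tp, ctrL_tp] at this
    simpa [Sesq2.toLin_apply, hb] using this
  have hu₀0 : u₀ ≠ 0 := by
    rintro rfl
    exact hu₀ (hf₂.zero_left w)
  have hlam : f₁ ((a : Matrix (Fin 2) (Fin 2) F) *ᵥ b 0) (b 0) ≠ 0 := by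
    intro h
    have := h0 u₀
    rw [h, zero_smul] at this
    exact hu₀0 this.symm
  have hb'u : (b' : Matrix (Fin n₂) (Fin n₂) F) *ᵥ u₀ = (f₁ ((a : Matrix (Fin 2) (Fin 2) F) *ᵥ b 0) (b 0))⁻¹ • u₀ := by
    have := congrArg (fun x => (f₁ ((a : Matrix (Fin 2) (Fin 2) F) *ᵥ b 0) (b 0))⁻¹ • x) (h0 u₀)
    simp only [smul_smul, inv_mul_cancel₀ hlam, one_smul] at this
    exact this
  have h1' := h1 u₀
  rw [hb'u, smul_smul] at h1'
  have h2 := congrArg (fun x => f₂ x w) h1'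
  simp only [hf₂.smul_left, hf₂.add_left, hww, mul_zero, add_zero] at h2
  have h3 : f₁ ((a : Matrix (Fin 2) (Fin 2) F) *ᵥ b 1) (b 1) * (f₁ ((a : Matrix (Fin 2) (Fin 2) F) *ᵥ b 0) (b 0))⁻¹ = 1 := by
    have : (f₁ ((a : Matrix (Fin 2) (Fin 2) F) *ᵥ b 1) (b 1) * (f₁ ((a : Matrix (Fin 2) (Fin 2) F) *ᵥ b 0) (b 0))⁻¹ - 1) *
        f₂ u₀ w = 0 := by linear_combination h2
    rcases mul_eq_zero.mp this with h | h
    · exact sub_eq_zero.mp h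
    · exact absurd h hu₀
  rw [h3, one_smul] at h1'
  have h4 : f₂ u₀ w • w = 0 := by simpa using h1'
  rcases smul_eq_zero.mp h4 with h | h
  · exact hu₀ h
  · exact hw0 h

theorem tau0_notMem (hF : Fintype.card F = 4) {f₁ : (Fin 2 → F) → (Fin 2 → F) → F}
    {f₂ : (Fin n₂ → F) → (Fin n₂ → F) → F} (hf₁ : Sesq2 f₁) (hf₂ : Sesq2 f₂)
    (b : Basis (Fin 2) F (Fin 2 → F)) (hb : ∀ j j', f₁ (b j) (b j') = if j = j' then 1 else 0)
    {w u₀ : Fin n₂ → F} (hw0 : w ≠ 0) (hww : f₂ w w = 0) (hu₀ : f₂ u₀ w ≠ 0)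
    (hv : phiT f₁ f₂ (tp (b 0 + b 1) w) (tp (b 0 + b 1) w) = 0) :
    (phi_sesq hF hf₁ hf₂).tv (tp (b 0 + b 1) w) hv ∉ decompositionStabilizer (blocks (n₂ := n₂) b) := by
  rintro ⟨σ, hσ⟩
  have hmem : (((phi_sesq hF hf₁ hf₂).tv (tp (b 0 + b 1) w) hv : GL _ F) : Matrix _ _ F) *ᵥ tp (b 0) u₀ ∈
      blocks (n₂ := n₂) b (σ 0) := by
    rw [← hσ 0]
    exact ⟨tp (b 0) u₀, ⟨u₀, rfl⟩, by rw [Matrix.toLin'_apply]⟩
  rw [Sesq2.tv_mulVec, phi_tp hF hf₁ hf₂, hf₁.add_right hF, hb, hb] at hmem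
  obtain ⟨u', hu'⟩ := hmem
  have hc : ∀ k : Fin 2, f₁ (b (σ 0)) (b k) • u' =
      f₁ (b 0) (b k) • u₀ + (((if (0 : Fin 2) = 0 then (1 : F) else 0) + (if (0 : Fin 2) = 1 then (1 : F) else 0)) * f₂ u₀ w) •
        (f₁ (b 0 + b 1) (b k) • w) := by
    intro k
    have := congrArg (ctrL (hf₁.toLin (b k))) hu'
    rw [tpL_apply, ctrL_tp, map_add, map_smul, ctrL_tp, ctrL_tp] at this
    exact this
  have h01 : σ 0 = 0 ∨ σ 0 = 1 := by
    generalize σ 0 = j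
    fin_cases j <;> simp
  rcases h01 with h | h
  · have := hc 1
    simp only [h, hf₁.add_left, hb] at this
    have h3 : f₂ u₀ w • w = 0 := by
      simpa using this.symm
    rcases smul_eq_zero.mp h3 with h' | h'
    · exact hu₀ h'
    · exact hw0 h'
  · have := hc 0
    simp only [h, hf₁.add_left, hb] at this
    simp at this
    have h2 := congrArg (fun x => f₂ x w) this
    simp only [hf₂.zero_left, hf₂.smul_left, hf₂.add_left, hww, mul_zero, add_zero] at h2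
    exact hu₀ h2.symm

end Main

/-- Let F be the field with 4 elements (q = 2) and n = 2 n₂ ≥ 13. Suppose the standard unitary form Σ u_i v_i² on F^n is similar, through P and e, to the tensor product of non-degenerate unitary forms f₁ on F^2 and f₂ on F^(n₂). Then the elements of SU_n(2) in the stabiliser of this tensor decomposition form a subgroup that is not maximal: some subgroup lies strictly between it and SU_n(2). -/
theorem result {F : Type*} [Field F] [Fintype F] (n : ℕ) (hF : Fintype.card F = 4) (hn : 13 ≤ n) (n₂ : ℕ) (e : Fin n ≃ Fin 2 × Fin n₂) (P : Matrix.GeneralLinearGroup (Fin n) F) (f₁ : (Fin 2 → F) → (Fin 2 → F) → F) (f₂ : (Fin n₂ → F) → (Fin n₂ → F) → F) (hf₁ : Cfsg.Geo.IsUnitaryFormPow 2 f₁) (hf₂ : Cfsg.Geo.IsUnitaryFormPow 2 f₂) (hT : Cfsg.Geo.IsTensorFormStructure (fun x : F => x ^ 2) (Cfsg.hermForm n F 2) f₁ f₂ e P) : ∃ K : Subgroup (Matrix.GeneralLinearGroup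 (Fin n) F), Cfsg.Geo.tensorProductSubgroup 2 n₂ e P ⊓ (Cfsg.GU n F 2 ⊓ Cfsg.Geo.specialLinear (Fin n) F) < K ∧ K < (Cfsg.GU n F 2 ⊓ Cfsg.Geo.specialLinear (Fin n) F) := by
  have hf₁' := sesq2_of_isUnitaryFormPow hf₁
  have hf₂' := sesq2_of_isUnitaryFormPow hf₂
  have hcard : n = 2 * n₂ := by simpa using Fintype.card_congr e
  have hn₂ : 2 ≤ n₂ := by omega
  obtain ⟨b, hb⟩ := hf₁'.exists_orthonormal_basis hF (fun w hw => (hf₁.nondegenerate w hw).1) (by simp)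
  have hnd₂ : ∀ w : Fin n₂ → F, w ≠ 0 → ∃ x, f₂ x w ≠ 0 := fun w hw => (hf₂.nondegenerate w hw).1
  obtain ⟨w, hw0, hww⟩ := hf₂'.exists_isotropic hF hnd₂ (by simpa using hn₂)
  obtain ⟨u₀, hu₀⟩ := hnd₂ w hw0
  obtain ⟨c, hc, hT'⟩ := hT
  have hΦ := phi_sesq hF hf₁' hf₂'
  have hv0 : phiT f₁ f₂ (tp (b 1) w) (tp (b 1) w) = 0 := by rw [phi_tp hF hf₁' hf₂', hww, mul_zero]
  have hv1 : phiT f₁ f₂ (tp (b 0 + b 1) w) (tp (b 0 + b 1) w) = 0 := by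
    rw [phi_tp hF hf₁' hf₂', hww, mul_zero]
  rw [tensorProductSubgroup_eq_map]
  refine transport_not_maximal e P _
    (preserving (Units.coeHom (Matrix (Fin 2 × Fin n₂) (Fin 2 × Fin n₂) F)) (phiT f₁ f₂) ⊓
      specialLinear (Fin 2 × Fin n₂) F)
    (decompositionStabilizer (blocks (n₂ := n₂) b)) _ ?_ (kron_le hF hf₁' hf₂' b hb hu₀)
    (hΦ.tv _ hv0) (Subgroup.mem_inf.mpr ⟨hΦ.tv_mem_preserving hF _ hv0, hΦ.tv_mem_specialLinear _ hv0⟩)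
    (g0_mem hF hf₁' hf₂' b hb hv0) (g0_notMem hF hf₁' hf₂' b hb hw0 hww hu₀ hv0)
    (hΦ.tv _ hv1) (Subgroup.mem_inf.mpr ⟨hΦ.tv_mem_preserving hF _ hv1, hΦ.tv_mem_specialLinear _ hv1⟩)
    (tau0_notMem hF hf₁' hf₂' b hb hw0 hww hu₀ hv1)
  intro M
  rw [Subgroup.mem_inf, Subgroup.mem_inf, transportHom_mem_specialLinear_iff]
  apply and_congr_left'
  exact transportHom_preserves_iff e P (hermForm n F 2) (phiT f₁ f₂) c hc hT' M

end Cfsg.Agent.S5671
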