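import Cfsg.Statements.S5674
import Cfsg.Agent.S0295
import Cfsg.Agent.Lib.helper7.RootParab

set_option autoImplicit false
open Cfsg

namespace Cfsg.Agent.S5674

/-- Let F be a finite field of odd order, m ≥ 6, Q the standard quadratic form x₀² + Σ x_i y_i on F^(2m+1) and Ω the commutator subgroup of its isometry group inside GL_(2m+1)(F). The elements of Ω stabilising a non-zero subspace on which Q vanishes form a maximal subgroup of Ω. -/
theorem result {F : Type*} [Field F] [Fintype F] (hodd : Odd (Fintype.card F)) (m : ℕ) (hm : 6 ≤ m) (W : Submodule F (Unit ⊕ (Fin m ⊕ Fin m) → F)) (hW0 : W ≠ ⊥) (hW : Cfsg.Geo.IsTotallySingularQuad (Cfsg.quadFormOdd m F) W) : Cfsg.Geo.IsMaximalIn (Cfsg.Geo.omegaGL (Cfsg.quadFormOdd m F)) (Cfsg.Geo.subspaceStabilizer W ⊓ Cfsg.Geo.omegaGL (Cfsg.quadFormOdd m F)) := by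
  have hF : (2 : F) ≠ 0 := by
    apply Ring.two_ne_zero
    intro hchar
    have := FiniteField.even_card_of_char_two hchar
    rcases hodd with ⟨t, ht⟩
    omega
  have hQ := Cfsg.Agent.S0295.oddForm_nondegenerate hF m
  have hcard : Fintype.card (Unit ⊕ (Fin m ⊕ Fin m)) = 1 + (m + m) := by simp
  refine Cfsg.Agent.Lib.helper7.RootElt.isMaximalIn_stab_sing (Cfsg.Agent.Lib.helper49.oddForm m F) hQ
    (by rw [hcard]; omega)
    (Cfsg.Agent.S0786.reflSubgroup_eq_top' _ hQ (Or.inr (by rw [hcard]; omega))) W hW0 hW ?_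
  intro T hWT hT
  have h1 := Submodule.finrank_lt_finrank_of_lt hWT
  have h2 := Cfsg.Agent.Lib.helper7.QGeom.two_mul_finrank_le_of_sing
    (Cfsg.Agent.Lib.helper49.oddForm m F) hQ hT
  rw [Module.finrank_fintype_fun_eq_card, hcard] at h2
  rw [hcard]
  omega

end Cfsg.Agent.S5674
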