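import Cfsg.Statements.S5675
import Cfsg.Agent.S0295
import Cfsg.Agent.Lib.helper49.NondegStab

set_option autoImplicit false
open Cfsg

namespace Cfsg.Agent.S5675

/-- Let F be a finite field of odd order q, m ≥ 6, Q the standard quadratic form on F^(2m+1) and Ω the commutator subgroup of its isometry group. Let W be a non-zero subspace of even dimension on which the polar form of Q is non-degenerate; exclude the case q = 3, dim W = 2 with Q vanishing on some line of W (a plus-type plane). Then the elements of Ω stabilising W (equivalently, stabilising its orthogonal complement, of odd dimension) form a maximal subgroup of Ω. -/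
theorem result {F : Type*} [Field F] [Fintype F] (hodd : Odd (Fintype.card F)) (m : ℕ) (hm : 6 ≤ m) (W : Submodule F (Unit ⊕ (Fin m ⊕ Fin m) → F)) (hW0 : W ≠ ⊥) (hev : Even (Module.finrank F W)) (hW : Cfsg.Geo.IsNondegenerateOn (QuadraticMap.polar (Cfsg.quadFormOdd m F)) W) (hex : ¬ (Fintype.card F = 3 ∧ Module.finrank F W = 2 ∧ Cfsg.Geo.IsPlusTypeOn (Cfsg.quadFormOdd m F) W)) : Cfsg.Geo.IsMaximalIn (Cfsg.Geo.omegaGL (Cfsg.quadFormOdd m F)) (Cfsg.Geo.subspaceStabilizer W ⊓ Cfsg.Geo.omegaGL (Cfsg.quadFormOdd m F)) := by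
  classical
  have hF : (2 : F) ≠ 0 := by
    apply Ring.two_ne_zero
    intro hchar
    have := FiniteField.even_card_of_char_two hchar
    rcases hodd with ⟨t, ht⟩
    omega
  have hnd := Cfsg.Agent.S0295.oddForm_nondegenerate hF m
  have hcard : Fintype.card (Unit ⊕ (Fin m ⊕ Fin m)) = 1 + (m + m) := by simp
  have hs := Cfsg.Agent.Lib.helper49.orthSplit_of_nondegenerateOn
    (Cfsg.Agent.Lib.helper49.oddForm m F) hnd W hW
  have hadd := hs.finrank_add
  rw [hcard] at hadd
  obtain ⟨t, ht⟩ := hev
  have hW'0 : LinearMap.BilinForm.orthogonal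
      (QuadraticMap.polarBilin (Cfsg.Agent.Lib.helper49.oddForm m F)) W ≠ ⊥ := by
    intro h0
    rw [h0, finrank_bot] at hadd
    omega
  refine Cfsg.Agent.Lib.helper49.isMaximalIn_stab_nondeg (Cfsg.Agent.Lib.helper49.oddForm m F) hnd
    (by rw [hcard]; omega) hs hW0 hW'0 (by omega) ?_ ?_
  · intro hc hfr x hxW hQx
    by_contra hx0
    apply hex
    have h1 : 1 < Fintype.card F := Fintype.one_lt_card
    have h3 : Fintype.card F = 3 := by
      rcases hodd with ⟨s, hs'⟩
      omega
    exact ⟨h3, hfr, Cfsg.Agent.Lib.helper49.isPlusTypeOn_of_singular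
      (Cfsg.Agent.Lib.helper49.oddForm m F) W hfr x hxW hx0 hQx⟩
  · intro hc hfr x hxW' hQx
    omega

end Cfsg.Agent.S5675
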