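import Cfsg.Statements.S5676
import Cfsg.Agent.Lib.helper95.PlusPlane
import Cfsg.Agent.Lib.helper49.Forms

set_option autoImplicit false
open Cfsg

namespace Cfsg.Agent.S5676

open Cfsg.Agent.Lib.helper95 Cfsg.Agent.Lib.helper49 Cfsg.Geo Matrix in
/-- The polar form of the standard quadratic form in odd dimension is non-degenerate in odd
characteristic. -/
theorem oddForm_nondeg {F : Type*} [Field F] (h2 : (2 : F) ≠ 0) (m : ℕ)
    (z : Unit ⊕ (Fin m ⊕ Fin m) → F) (hz : z ≠ 0) :
    ∃ y, QuadraticMap.polar (oddForm m F) y z ≠ 0 := by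
  have hex : ∃ k, z k ≠ 0 := by
    by_contra h
    push Not at h
    exact hz (funext h)
  obtain ⟨k, hk⟩ := hex
  have hpol : ∀ k', QuadraticMap.polar (oddForm m F) (Pi.single k' 1) z = (gramOdd m F *ᵥ z) k' := by
    intro k'
    rw [oddForm_coe, polar_quadFormOdd, Matrix.toBilin'_apply', single_dotProduct, one_mul]
  rcases k with ⟨⟩ | i | i
  · refine ⟨Pi.single (Sum.inl ()) 1, ?_⟩
    rw [hpol]
    simp [gramOdd, Matrix.fromBlocks_mulVec, Matrix.mulVec, dotProduct]
    exact ⟨h2, hk⟩
  · refine ⟨Pi.single (Sum.inr (Sum.inr i)) 1, ?_⟩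
    rw [hpol]
    simpa [gramOdd, Matrix.fromBlocks_mulVec] using hk
  · refine ⟨Pi.single (Sum.inr (Sum.inl i)) 1, ?_⟩
    rw [hpol]
    simpa [gramOdd, Matrix.fromBlocks_mulVec] using hk

/-- Let F be the field with 3 elements, m ≥ 6, Q the standard quadratic form on F^(2m+1) and Ω the commutator subgroup of its isometry group. Let W be a 2-dimensional subspace on which the polar form is non-degenerate and which contains a line on which Q vanishes. Then the elements of Ω stabilising W form a subgroup that is not maximal: some subgroup lies strictly between it and Ω. -/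
theorem result {F : Type*} [Field F] [Fintype F] (hq : Fintype.card F = 3) (m : ℕ) (hm : 6 ≤ m) (W : Submodule F (Unit ⊕ (Fin m ⊕ Fin m) → F)) (hdim : Module.finrank F W = 2) (hW : Cfsg.Geo.IsNondegenerateOn (QuadraticMap.polar (Cfsg.quadFormOdd m F)) W) (hplus : Cfsg.Geo.IsPlusTypeOn (Cfsg.quadFormOdd m F) W) : ∃ K : Subgroup (Matrix.GeneralLinearGroup (Unit ⊕ (Fin m ⊕ Fin m)) F), Cfsg.Geo.subspaceStabilizer W ⊓ Cfsg.Geo.omegaGL (Cfsg.quadFormOdd m F) < K ∧ K < Cfsg.Geo.omegaGL (Cfsg.quadFormOdd m F) := by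
  exact Cfsg.Agent.Lib.helper95.plus_plane_not_maximal_three hq (Cfsg.Agent.Lib.helper49.oddForm m F)
    (oddForm_nondeg (Cfsg.Agent.Lib.helper95.two_ne_zero_of_card_three hq) m)
    (by simp only [Fintype.card_sum, Fintype.card_unit, Fintype.card_fin]; omega) W hdim hW hplus

end Cfsg.Agent.S5676
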