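import Cfsg.Statements.S5677
import Cfsg.Agent.S0295
import Cfsg.Agent.Lib.helper17.OrthDec6

set_option autoImplicit false
open Cfsg

namespace Cfsg.Agent.S5677

/-- Let F be a finite field of odd order q, m ≥ 6, Q the standard quadratic form on F^(2m+1) and Ω the commutator subgroup of its isometry group. Let D be a decomposition of F^(2m+1) into t ≥ 2 pairwise orthogonal, pairwise Q-isometric subspaces of equal dimension k > 1 on which the polar form is non-degenerate. Unless q = 3 and k = 3, the elements of Ω permuting the members of D form a maximal subgroup of Ω. -/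
theorem result {F : Type*} [Field F] [Fintype F] (hodd : Odd (Fintype.card F)) (m : ℕ) (hm : 6 ≤ m) {t : ℕ} (k : ℕ) (hk : 1 < k) (D : Fin t → Submodule F (Unit ⊕ (Fin m ⊕ Fin m) → F)) (hD : Cfsg.Geo.IsOrthogonalMDecomposition (Cfsg.quadFormOdd m F) k D) (hex : ¬ (Fintype.card F = 3 ∧ k = 3)) : Cfsg.Geo.IsMaximalIn (Cfsg.Geo.omegaGL (Cfsg.quadFormOdd m F)) (Cfsg.Geo.decompositionStabilizer D ⊓ Cfsg.Geo.omegaGL (Cfsg.quadFormOdd m F)) := by
  classical
  have hF : (2 : F) ≠ 0 := by
    apply Ring.two_ne_zero
    intro hchar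
    have := FiniteField.even_card_of_char_two hchar
    rcases hodd with ⟨s, hs⟩
    omega
  have hnd := Cfsg.Agent.S0295.oddForm_nondegenerate hF m
  have hcard : Fintype.card (Unit ⊕ (Fin m ⊕ Fin m)) = 1 + (m + m) := by simp
  have hdec := hD.decomp.decomp
  -- `t * k = 2 m + 1`
  have hint : DirectSum.IsInternal D :=
    (DirectSum.isInternal_submodule_iff_iSupIndep_and_iSup_eq_top D).mpr ⟨hdec.indep, hdec.iSup_eq_top⟩
  have htk : t * k = 1 + (m + m) := by
    have b := hint.collectedBasis (fun i => Module.finBasisOfFinrankEq F (D i) (hdec.finrank_eq i))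
    have h1 := Module.finrank_eq_card_basis b
    rw [Module.finrank_fintype_fun_eq_card, hcard] at h1
    rw [h1]
    simp
  have hoddtk : Odd (t * k) := by
    rw [htk]
    exact ⟨m, by omega⟩
  obtain ⟨hot, hok⟩ := Nat.odd_mul.mp hoddtk
  obtain ⟨a, ha⟩ := hot
  obtain ⟨b, hb⟩ := hok
  have ht2 := hdec.two_le
  have ht3 : 3 ≤ t := by omega
  have hk3 : 3 ≤ k := by omega
  have hq1 : 1 < Fintype.card F := Fintype.one_lt_card
  have hqk : 5 ≤ Fintype.card F ∨ 4 ≤ k := by
    by_cases h5 : 5 ≤ Fintype.card F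
    · left
      exact h5
    · right
      have h3 : Fintype.card F = 3 := by
        rcases hodd with ⟨s, hs⟩
        omega
      by_contra hk4
      exact hex ⟨h3, by omega⟩
  have hOD : Cfsg.Agent.Lib.helper17.OD (Cfsg.Agent.Lib.helper49.oddForm m F) k D := by
    refine ⟨?_, ?_, ?_, hdec.finrank_eq, hk3, hD.isometric, hnd, hF⟩
    · intro i j hij u hu v hv
      exact hD.decomp.orthogonal i j hij u hu v hv
    · intro i u hu hu0
      exact (hD.decomp.nondegenerate i u hu hu0).2
    · intro x
      have hx : x ∈ ⨆ i, D i := by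
        rw [hdec.iSup_eq_top]
        exact Submodule.mem_top
      refine Submodule.iSup_induction D (motive := fun x => ∃ c : Fin t → (Unit ⊕ (Fin m ⊕ Fin m) → F),
        (∀ b, c b ∈ D b) ∧ x = ∑ b, c b) hx ?_ ?_ ?_
      · intro i y hy
        refine ⟨Pi.single i y, fun b => ?_, ?_⟩
        · by_cases hbi : b = i
          · subst hbi
            rw [Pi.single_eq_same]
            exact hy
          · rw [Pi.single_eq_of_ne hbi]
            exact (D b).zero_mem
        · rw [Finset.sum_pi_single']
          simp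
      · exact ⟨0, fun b => (D b).zero_mem, by simp⟩
      · rintro y z ⟨c, hc, rfl⟩ ⟨c', hc', rfl⟩
        exact ⟨c + c', fun b => (D b).add_mem (hc b) (hc' b), by
          rw [← Finset.sum_add_distrib]
          rfl⟩
  exact Cfsg.Agent.Lib.helper17.od_stab_maximal (Cfsg.Agent.Lib.helper49.oddForm m F) D hOD hqk ht3
    (by rw [hcard]; omega)

end Cfsg.Agent.S5677
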