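import Cfsg.Statements.S5682
import Cfsg.Agent.Lib.helper95.OmegaTensor
import Cfsg.Agent.Lib.helper95.Bilin
import Cfsg.Agent.Lib.helper49.Forms

set_option autoImplicit false
open Cfsg

namespace Cfsg.Agent.S5682

open Cfsg.Agent.Lib.helper95 Cfsg.Agent.Lib.helper49 Cfsg.Geo Matrix Module
open scoped Kronecker

section Main

variable {F : Type*} [Field F] [Fintype F] {n₂ : ℕ}

/-- The tensor product form on `F^3 ⊗ F^(n₂)`. -/
def phiT (f₁ : (Fin 3 → F) → (Fin 3 → F) → F) (f₂ : (Fin n₂ → F) → (Fin n₂ → F) → F) :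
    (Fin 3 × Fin n₂ → F) → (Fin 3 × Fin n₂ → F) → F :=
  formOfGram id (gramMatrix f₁ ⊗ₖ gramMatrix f₂)

omit [Fintype F] in
theorem phi_tp {f₁ : (Fin 3 → F) → (Fin 3 → F) → F} {f₂ : (Fin n₂ → F) → (Fin n₂ → F) → F}
    (hf₁ : IsBilinearForm f₁) (hf₂ : IsBilinearForm f₂) (x₁ y₁ : Fin 3 → F) (x₂ y₂ : Fin n₂ → F) :
    phiT f₁ f₂ (tp x₁ x₂) (tp y₁ y₂) = f₁ x₁ y₁ * f₂ x₂ y₂ := by
  unfold phiT
  rw [formOfGram_tp _ (fun a b => rfl), ← bilin_eq_formOfGram hf₁, ← bilin_eq_formOfGram hf₂]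

/-- The three blocks `c j ⊗ F^(n₂)`. -/
noncomputable def blocks (c : Basis (Fin 3) F (Fin 3 → F)) (j : Fin 3) :
    Submodule F (Fin 3 × Fin n₂ → F) :=
  LinearMap.range (tpL (n₂ := n₂) (c j))

omit [Fintype F] in
theorem symB_of {k : ℕ} {f : (Fin k → F) → (Fin k → F) → F} (hf : IsSymmetricForm f) : SymB f where
  add_left := hf.bilinear.add_left
  smul_left := hf.bilinear.smul_left
  symm := hf.symm

omit [Fintype F] in
theorem polar_tp {f₁ : (Fin 3 → F) → (Fin 3 → F) → F} {f₂ : (Fin n₂ → F) → (Fin n₂ → F) → F}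
    (hf₁ : IsBilinearForm f₁) (hf₂ : IsBilinearForm f₂) (Q' : QuadraticForm F (Fin 3 × Fin n₂ → F))
    {c' : F} (hpol : ∀ x y, QuadraticMap.polar Q' x y = c' * phiT f₁ f₂ x y)
    (x₁ y₁ : Fin 3 → F) (x₂ y₂ : Fin n₂ → F) :
    QuadraticMap.polar Q' (tp x₁ x₂) (tp y₁ y₂) = c' * (f₁ x₁ y₁ * f₂ x₂ y₂) := by
  rw [hpol, phi_tp hf₁ hf₂]

theorem quad_tp (hq : Fintype.card F = 3) {f₁ : (Fin 3 → F) → (Fin 3 → F) → F}
    {f₂ : (Fin n₂ → F) → (Fin n₂ → F) → F}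
    (hf₁ : IsBilinearForm f₁) (hf₂ : IsBilinearForm f₂) (Q' : QuadraticForm F (Fin 3 × Fin n₂ → F))
    {c' : F} (hpol : ∀ x y, QuadraticMap.polar Q' x y = c' * phiT f₁ f₂ x y)
    (x₁ : Fin 3 → F) (x₂ : Fin n₂ → F) :
    Q' (tp x₁ x₂) = -(c' * (f₁ x₁ x₁ * f₂ x₂ x₂)) := by
  have h := polar_tp hf₁ hf₂ Q' hpol x₁ x₁ x₂ x₂
  rw [QuadraticMap.polar_self] at h
  simp only [nsmul_eq_mul, Nat.cast_ofNat] at h
  have h3 := three_eq_zero_of_card_three hq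
  linear_combination (Q' (tp x₁ x₂)) * h3 - h

theorem kron_le (hq : Fintype.card F = 3) {f₁ : (Fin 3 → F) → (Fin 3 → F) → F}
    {f₂ : (Fin n₂ → F) → (Fin n₂ → F) → F} (hf₁ : IsSymmetricForm f₁) (hf₂ : IsBilinearForm f₂)
    (Q' : QuadraticForm F (Fin 3 × Fin n₂ → F)) {c' : F} (hc' : c' ≠ 0)
    (hpol : ∀ x y, QuadraticMap.polar Q' x y = c' * phiT f₁ f₂ x y)
    (c : Basis (Fin 3) F (Fin 3 → F)) {ε : F} (hε : ε ≠ 0)
    (hc : ∀ j l, f₁ (c j) (c l) = if j = l then ε else 0) {u₀ u₁ : Fin n₂ → F} (hu : f₂ u₀ u₁ ≠ 0) :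
    kroneckerSubgroup 3 n₂ F ⊓ omegaGL ⇑Q' ≤ decompositionStabilizer (blocks (n₂ := n₂) c) := by
  rintro M ⟨⟨a, b', hM⟩, hMΩ⟩
  have hiso : ∀ x, Q' ((M : Matrix _ _ F) *ᵥ x) = Q' x := fun x => isometry_of_mem_omegaGL hMΩ x
  have hΦ : ∀ x y, QuadraticMap.polar Q' ((M : Matrix _ _ F) *ᵥ x) ((M : Matrix _ _ F) *ᵥ y) =
      QuadraticMap.polar Q' x y := polar_of_isometry hiso
  have key : ∀ (x₁ y₁ : Fin 3 → F) (u v : Fin n₂ → F),
      f₁ ((a : Matrix (Fin 3) (Fin 3) F) *ᵥ x₁) ((a : Matrix (Fin 3) (Fin 3) F) *ᵥ y₁) *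
        f₂ ((b' : Matrix (Fin n₂) (Fin n₂) F) *ᵥ u) ((b' : Matrix (Fin n₂) (Fin n₂) F) *ᵥ v) =
          f₁ x₁ y₁ * f₂ u v := by
    intro x₁ y₁ u v
    have := hΦ (tp x₁ u) (tp y₁ v)
    rw [hM, kronecker_mulVec_tp, kronecker_mulVec_tp, polar_tp hf₁.bilinear hf₂ Q' hpol,
      polar_tp hf₁.bilinear hf₂ Q' hpol] at this
    exact mul_left_cancel₀ hc' this
  have hν : f₂ ((b' : Matrix (Fin n₂) (Fin n₂) F) *ᵥ u₀) ((b' : Matrix (Fin n₂) (Fin n₂) F) *ᵥ u₁) ≠ 0 := by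
    intro h0
    have := key (c 0) (c 0) u₀ u₁
    rw [h0, mul_zero, hc, if_pos rfl] at this
    exact (mul_ne_zero hε hu) this.symm
  have hd : ∀ j l, f₁ ((a : Matrix (Fin 3) (Fin 3) F) *ᵥ c j) ((a : Matrix (Fin 3) (Fin 3) F) *ᵥ c l) =
      if j = l then ((f₂ ((b' : Matrix (Fin n₂) (Fin n₂) F) *ᵥ u₀)
        ((b' : Matrix (Fin n₂) (Fin n₂) F) *ᵥ u₁))⁻¹ * f₂ u₀ u₁) * ε else 0 := by
    intro j l
    have := key (c j) (c l) u₀ u₁
    rw [hc] at this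
    by_cases hjl : j = l
    · rw [if_pos hjl] at this ⊢
      have h' : f₁ ((a : Matrix (Fin 3) (Fin 3) F) *ᵥ c j) ((a : Matrix (Fin 3) (Fin 3) F) *ᵥ c l) =
          (f₁ ((a : Matrix (Fin 3) (Fin 3) F) *ᵥ c j) ((a : Matrix (Fin 3) (Fin 3) F) *ᵥ c l) *
            f₂ ((b' : Matrix (Fin n₂) (Fin n₂) F) *ᵥ u₀) ((b' : Matrix (Fin n₂) (Fin n₂) F) *ᵥ u₁)) *
            (f₂ ((b' : Matrix (Fin n₂) (Fin n₂) F) *ᵥ u₀)
              ((b' : Matrix (Fin n₂) (Fin n₂) F) *ᵥ u₁))⁻¹ := by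
        rw [mul_assoc, mul_inv_cancel₀ hν, mul_one]
      rw [h', this]
      ring
    · rw [if_neg hjl, zero_mul] at this
      rw [if_neg hjl]
      exact (mul_eq_zero.mp this).resolve_right hν
  obtain ⟨π, hπ⟩ := frame_monomial hq (symB_of hf₁) c hε hc
    (fun j => (a : Matrix (Fin 3) (Fin 3) F) *ᵥ c j) (mul_ne_zero (inv_ne_zero hν) hu) hd
  refine ⟨π, fun j => ?_⟩
  obtain ⟨s, hs, h⟩ := hπ j
  rw [hM]
  exact map_range_tpL _ b' hs h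

omit [Fintype F] in
theorem refl_block {f₁ : (Fin 3 → F) → (Fin 3 → F) → F} {f₂ : (Fin n₂ → F) → (Fin n₂ → F) → F}
    (hf₁ : IsBilinearForm f₁) (hf₂ : IsBilinearForm f₂) (Q' : QuadraticForm F (Fin 3 × Fin n₂ → F))
    {c' : F} (hpol : ∀ x y, QuadraticMap.polar Q' x y = c' * phiT f₁ f₂ x y)
    (c : Basis (Fin 3) F (Fin 3 → F)) {ε : F}
    (hc : ∀ j l, f₁ (c j) (c l) = if j = l then ε else 0) (u : Fin n₂ → F) (j : Fin 3)
    (x : Fin 3 × Fin n₂ → F) (hx : x ∈ blocks (n₂ := n₂) c j) :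
    reflectionMatrix ⇑Q' (tp (c 0) u) *ᵥ x ∈ blocks (n₂ := n₂) c j := by
  obtain ⟨v, rfl⟩ := hx
  rw [refl_mulVec, tpL_apply, polar_tp hf₁ hf₂ Q' hpol, hc]
  by_cases hj : j = 0
  · subst hj
    rw [if_pos rfl]
    refine ⟨v - ((Q' (tp (c 0) u))⁻¹ * (c' * (ε * f₂ u v))) • u, ?_⟩
    rw [map_sub, map_smul, tpL_apply, tpL_apply]
  · rw [if_neg (Ne.symm hj), zero_mul, mul_zero, mul_zero, zero_smul, sub_zero]
    exact ⟨v, rfl⟩

omit [Fintype F] in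
theorem g0_mem {f₁ : (Fin 3 → F) → (Fin 3 → F) → F} {f₂ : (Fin n₂ → F) → (Fin n₂ → F) → F}
    (hf₁ : IsBilinearForm f₁) (hf₂ : IsBilinearForm f₂) (Q' : QuadraticForm F (Fin 3 × Fin n₂ → F))
    {c' : F} (hpol : ∀ x y, QuadraticMap.polar Q' x y = c' * phiT f₁ f₂ x y)
    (c : Basis (Fin 3) F (Fin 3 → F)) {ε : F}
    (hc : ∀ j l, f₁ (c j) (c l) = if j = l then ε else 0) (u w : Fin n₂ → F)
    (hu : Q' (tp (c 0) u) ≠ 0) (hw : Q' (tp (c 0) w) ≠ 0) :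
    refl2 Q' (tp (c 0) u) (tp (c 0) w) hu hw ∈ decompositionStabilizer (blocks (n₂ := n₂) c) := by
  refine ⟨1, fun j => ?_⟩
  rw [Equiv.Perm.one_apply]
  apply map_eq_of_mapsTo
  intro x hx
  rw [refl2_mulVec]
  exact refl_block hf₁ hf₂ Q' hpol c hc u j _ (refl_block hf₁ hf₂ Q' hpol c hc w j x hx)

theorem g0_notMem (hq : Fintype.card F = 3) {f₁ : (Fin 3 → F) → (Fin 3 → F) → F}
    {f₂ : (Fin n₂ → F) → (Fin n₂ → F) → F} (hf₁ : IsSymmetricForm f₁) (hf₂ : IsSymmetricForm f₂)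
    (Q' : QuadraticForm F (Fin 3 × Fin n₂ → F)) {c' : F}
    (hpol : ∀ x y, QuadraticMap.polar Q' x y = c' * phiT f₁ f₂ x y)
    (c : Basis (Fin 3) F (Fin 3 → F)) {ε : F} (hε : ε ≠ 0)
    (hc : ∀ j l, f₁ (c j) (c l) = if j = l then ε else 0) {u w y : Fin n₂ → F}
    (hu0 : f₂ u u ≠ 0) (huw0 : f₂ u w = 0) (hy0 : y ≠ 0) (hyu : f₂ y u = 0) (hyw : f₂ y w = 0)
    (hu : Q' (tp (c 0) u) ≠ 0) (hw : Q' (tp (c 0) w) ≠ 0) :
    refl2 Q' (tp (c 0) u) (tp (c 0) w) hu hw ∉ kroneckerSubgroup 3 n₂ F := by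
  rintro ⟨a, b', hM⟩
  have h2 := two_ne_zero_of_card_three hq
  have hS := symB_of hf₁
  have hpt := polar_tp hf₁.bilinear hf₂.bilinear Q' hpol
  have hne_u : u ≠ 0 := by
    rintro rfl
    exact hu0 (bilin_zero_left hf₂.bilinear 0)
  have hact : ∀ (x₁ : Fin 3 → F) (v : Fin n₂ → F),
      tp ((a : Matrix (Fin 3) (Fin 3) F) *ᵥ x₁) ((b' : Matrix (Fin n₂) (Fin n₂) F) *ᵥ v) =
        reflectionMatrix ⇑Q' (tp (c 0) u) *ᵥ (reflectionMatrix ⇑Q' (tp (c 0) w) *ᵥ tp x₁ v) := by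
    intro x₁ v
    rw [← kronecker_mulVec_tp, ← hM, refl2_mulVec]
  have hfix1 : ∀ v, tp ((a : Matrix (Fin 3) (Fin 3) F) *ᵥ c 1)
      ((b' : Matrix (Fin n₂) (Fin n₂) F) *ᵥ v) = tp (c 1) v := by
    intro v
    rw [hact, refl_mulVec_of_orth Q' (tp (c 0) w) (tp (c 1) v)
        (by rw [hpt, hc, if_neg (by decide), zero_mul, mul_zero]),
      refl_mulVec_of_orth Q' (tp (c 0) u) (tp (c 1) v)
        (by rw [hpt, hc, if_neg (by decide), zero_mul, mul_zero])]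
  have h1 : ∀ v, f₁ ((a : Matrix (Fin 3) (Fin 3) F) *ᵥ c 1) (c 1) •
      ((b' : Matrix (Fin n₂) (Fin n₂) F) *ᵥ v) = ε • v := by
    intro v
    have := congrArg (ctrL (hS.toLin (c 1))) (hfix1 v)
    rw [ctrL_tp, ctrL_tp] at this
    simpa [SymB.toLin_apply, hc] using this
  have hlam : f₁ ((a : Matrix (Fin 3) (Fin 3) F) *ᵥ c 1) (c 1) ≠ 0 := by
    intro h
    have := h1 u
    rw [h, zero_smul] at this
    rcases smul_eq_zero.mp this.symm with h' | h'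
    · exact hε h'
    · exact hne_u h'
  have hb : ∀ v, (b' : Matrix (Fin n₂) (Fin n₂) F) *ᵥ v =
      ((f₁ ((a : Matrix (Fin 3) (Fin 3) F) *ᵥ c 1) (c 1))⁻¹ * ε) • v := by
    intro v
    have := congrArg (fun x => (f₁ ((a : Matrix (Fin 3) (Fin 3) F) *ᵥ c 1) (c 1))⁻¹ • x) (h1 v)
    simp only [smul_smul, inv_mul_cancel₀ hlam, one_smul] at this
    exact this
  have hfixy : tp ((a : Matrix (Fin 3) (Fin 3) F) *ᵥ c 0) ((b' : Matrix (Fin n₂) (Fin n₂) F) *ᵥ y) =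
      tp (c 0) y := by
    rw [hact, refl_mulVec_of_orth Q' (tp (c 0) w) (tp (c 0) y)
        (by rw [hpt, hf₂.symm w y, hyw, mul_zero, mul_zero]),
      refl_mulVec_of_orth Q' (tp (c 0) u) (tp (c 0) y)
        (by rw [hpt, hf₂.symm u y, hyu, mul_zero, mul_zero])]
  have hnegu : tp ((a : Matrix (Fin 3) (Fin 3) F) *ᵥ c 0) ((b' : Matrix (Fin n₂) (Fin n₂) F) *ᵥ u) =
      -tp (c 0) u := by
    rw [hact, refl_mulVec_of_orth Q' (tp (c 0) w) (tp (c 0) u)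
      (by rw [hpt, hf₂.symm w u, huw0, mul_zero, mul_zero]), refl_mulVec, QuadraticMap.polar_self]
    have h2u : (Q' (tp (c 0) u))⁻¹ * (2 • Q' (tp (c 0) u)) = 2 := by
      rw [nsmul_eq_mul, Nat.cast_ofNat, mul_comm, mul_assoc, mul_inv_cancel₀ hu, mul_one]
    rw [h2u, two_smul]
    abel
  have hy' := congrArg (ctrL (hS.toLin (c 0))) hfixy
  have hu' := congrArg (ctrL (hS.toLin (c 0))) hnegu
  rw [ctrL_tp, ctrL_tp, hb, SymB.toLin_apply, SymB.toLin_apply, hc, if_pos rfl, smul_smul] at hy'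
  rw [map_neg, ctrL_tp, ctrL_tp, hb, SymB.toLin_apply, SymB.toLin_apply, hc, if_pos rfl, smul_smul] at hu'
  obtain ⟨κμ, hκμ⟩ : ∃ κμ : F, κμ = f₁ ((a : Matrix (Fin 3) (Fin 3) F) *ᵥ c 0) (c 0) *
      ((f₁ ((a : Matrix (Fin 3) (Fin 3) F) *ᵥ c 1) (c 1))⁻¹ * ε) := ⟨_, rfl⟩
  rw [← hκμ] at hy' hu'
  have e1 : κμ = ε := by
    have h0 : (κμ - ε) • y = 0 := by rw [sub_smul, hy', sub_self]
    rcases smul_eq_zero.mp h0 with h | h
    · exact sub_eq_zero.mp h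
    · exact absurd h hy0
  have e2 : κμ = -ε := by
    have h0 : (κμ + ε) • u = 0 := by rw [add_smul, hu', neg_add_cancel]
    rcases smul_eq_zero.mp h0 with h | h
    · exact eq_neg_of_add_eq_zero_left h
    · exact absurd h hne_u
  have h20 : (2 : F) * ε = 0 := by linear_combination e2 - e1
  exact hε ((mul_eq_zero.mp h20).resolve_left h2)

theorem tau0_notMem (hq : Fintype.card F = 3) {f₁ : (Fin 3 → F) → (Fin 3 → F) → F}
    {f₂ : (Fin n₂ → F) → (Fin n₂ → F) → F} (hf₁ : IsSymmetricForm f₁) (hf₂ : IsSymmetricForm f₂)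
    (Q' : QuadraticForm F (Fin 3 × Fin n₂ → F)) {c' : F} (hc' : c' ≠ 0)
    (hpol : ∀ x y, QuadraticMap.polar Q' x y = c' * phiT f₁ f₂ x y)
    (c : Basis (Fin 3) F (Fin 3 → F)) {ε : F} (hε : ε ≠ 0)
    (hc : ∀ j l, f₁ (c j) (c l) = if j = l then ε else 0) {u w y : Fin n₂ → F}
    (hu0 : f₂ u u ≠ 0) (huw0 : f₂ u w = 0) (hy0 : y ≠ 0) (hyu : f₂ y u = 0) (hyw : f₂ y w = 0)
    (hU : Q' (tp (c 0 + c 1) u) ≠ 0) (hW : Q' (tp (c 0 + c 1) w) ≠ 0) :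
    refl2 Q' (tp (c 0 + c 1) u) (tp (c 0 + c 1) w) hU hW ∉
      decompositionStabilizer (blocks (n₂ := n₂) c) := by
  rintro ⟨σ, hσ⟩
  have h3 := three_eq_zero_of_card_three hq
  have hS := symB_of hf₁
  have hpt := polar_tp hf₁.bilinear hf₂.bilinear Q' hpol
  have hne_u : u ≠ 0 := by
    rintro rfl
    exact hu0 (bilin_zero_left hf₂.bilinear 0)
  have hval0 : f₁ (c 0 + c 1) (c 0) = ε := by
    rw [hS.add_left, hc, hc]
    simp
  have hval1 : f₁ (c 0 + c 1) (c 1) = ε := by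
    rw [hS.add_left, hc, hc]
    simp
  have hvalp : f₁ (c 0 + c 1) (c 0 + c 1) = 2 * ε := by
    rw [hS.add_right, hval0, hval1]
    ring
  have hmem : ∀ v, ((refl2 Q' (tp (c 0 + c 1) u) (tp (c 0 + c 1) w) hU hW : GL (Fin 3 × Fin n₂) F) :
      Matrix (Fin 3 × Fin n₂) (Fin 3 × Fin n₂) F) *ᵥ tp (c 0) v ∈ blocks (n₂ := n₂) c (σ 0) := by
    intro v
    rw [← hσ 0]
    exact ⟨tp (c 0) v, ⟨v, rfl⟩, by rw [Matrix.toLin'_apply]⟩
  have hy1 := hmem y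
  rw [refl2_mulVec, refl_mulVec_of_orth Q' (tp (c 0 + c 1) w) (tp (c 0) y)
      (by rw [hpt, hf₂.symm w y, hyw, mul_zero, mul_zero]),
    refl_mulVec_of_orth Q' (tp (c 0 + c 1) u) (tp (c 0) y)
      (by rw [hpt, hf₂.symm u y, hyu, mul_zero, mul_zero])] at hy1
  obtain ⟨v', hv'⟩ := hy1
  have hσ0 : σ 0 = 0 := by
    by_contra hne
    have := congrArg (ctrL (hS.toLin (c 0))) hv'
    rw [tpL_apply, ctrL_tp, ctrL_tp, SymB.toLin_apply, SymB.toLin_apply, hc, hc, if_neg hne,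
      if_pos rfl, zero_smul] at this
    rcases smul_eq_zero.mp this.symm with h | h
    · exact hε h
    · exact hy0 h
  have hu1 := hmem u
  rw [hσ0, refl2_mulVec, refl_mulVec_of_orth Q' (tp (c 0 + c 1) w) (tp (c 0) u)
    (by rw [hpt, hf₂.symm w u, huw0, mul_zero, mul_zero]), refl_mulVec, hpt, hval0,
    quad_tp hq hf₁.bilinear hf₂.bilinear Q' hpol, hvalp] at hu1
  have hcoef : (-(c' * (2 * ε * f₂ u u)))⁻¹ * (c' * (ε * f₂ u u)) = 1 := by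
    have hX : c' * (ε * f₂ u u) ≠ 0 := mul_ne_zero hc' (mul_ne_zero hε hu0)
    have hXe : -(c' * (2 * ε * f₂ u u)) = c' * (ε * f₂ u u) := by
      linear_combination (-(c' * ε * f₂ u u)) * h3
    rw [hXe, inv_mul_cancel₀ hX]
  rw [hcoef, one_smul] at hu1
  obtain ⟨v'', hv''⟩ := hu1
  have := congrArg (ctrL (hS.toLin (c 1))) hv''
  rw [tpL_apply, ctrL_tp, map_sub, ctrL_tp, ctrL_tp] at this
  simp only [SymB.toLin_apply] at this
  rw [hc, if_neg (by decide), hval1, zero_smul, zero_smul, zero_sub] at this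
  have h' : ε • u = 0 := by simpa using this.symm
  rcases smul_eq_zero.mp h' with h | h
  · exact hε h
  · exact hne_u h

end Main

/-- Let F be the field with 3 elements, m ≥ 6, Q the standard quadratic form on F^(2m+1) and Ω the commutator subgroup of its isometry group. Suppose the polar form of Q is similar, through P and e, to the tensor product of non-degenerate symmetric bilinear forms f₁ on F^3 and f₂ on F^(n₂) with 3 < n₂. Then the elements of Ω in the stabiliser of this tensor decomposition form a subgroup that is not maximal: some subgroup lies strictly between it and Ω. -/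
theorem result {F : Type*} [Field F] [Fintype F] (hq : Fintype.card F = 3) (m : ℕ) (hm : 6 ≤ m) (n₂ : ℕ) (h2 : 3 < n₂) (e : (Unit ⊕ (Fin m ⊕ Fin m)) ≃ Fin 3 × Fin n₂) (P : Matrix.GeneralLinearGroup (Unit ⊕ (Fin m ⊕ Fin m)) F) (f₁ : (Fin 3 → F) → (Fin 3 → F) → F) (f₂ : (Fin n₂ → F) → (Fin n₂ → F) → F) (hf₁ : Cfsg.Geo.IsSymmetricForm f₁) (hf₂ : Cfsg.Geo.IsSymmetricForm f₂) (hT : Cfsg.Geo.IsTensorFormStructure id (QuadraticMap.polar (Cfsg.quadFormOdd m F)) f₁ f₂ e P) : ∃ K : Subgroup (Matrix.GeneralLinearGroup (Unit ⊕ (Fin m ⊕ Fin m)) F), Cfsg.Geo.tensorProductSubgroup 3 n₂ e P ⊓ Cfsg.Geo.omegaGL (Cfsg.quadFormOdd m F) < K ∧ K < Cfsg.Geo.omegaGL (Cfsg.quadFormOdd m F) := by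
  have h3 := three_eq_zero_of_card_three hq
  have h2' := two_ne_zero_of_card_three hq
  obtain ⟨c', hc', hT'⟩ := hT
  obtain ⟨Q', hQ'⟩ : ∃ Q' : QuadraticForm F (Fin 3 × Fin n₂ → F), Q' = qT (oddForm m F) e P := ⟨_, rfl⟩
  have hpol : ∀ x y, QuadraticMap.polar Q' x y = c' * phiT f₁ f₂ x y := by
    intro x y
    rw [hQ', polar_qT]
    exact hT' x y
  obtain ⟨ε, c, hε, hc⟩ := exists_frame3 hq (symB_of hf₁)
    (fun w hw => (hf₁.nondegenerate w hw).1) (by simp)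
  obtain ⟨u, w, y, huw, hu0, huw0, hy0, hyu, hyw⟩ := exists_orth_triple hq (symB_of hf₂)
    (fun w hw => (hf₂.nondegenerate w hw).1) (by simp; omega)
  have hQt : ∀ (x₁ : Fin 3 → F) (x₂ : Fin n₂ → F), Q' (tp x₁ x₂) = -(c' * (f₁ x₁ x₁ * f₂ x₂ x₂)) :=
    quad_tp hq hf₁.bilinear hf₂.bilinear Q' hpol
  have hpt := polar_tp hf₁.bilinear hf₂.bilinear Q' hpol
  have hU : Q' (tp (c 0) u) ≠ 0 := by
    rw [hQt, hc, if_pos rfl]
    exact neg_ne_zero.mpr (mul_ne_zero hc' (mul_ne_zero hε hu0))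
  have hW : Q' (tp (c 0) w) ≠ 0 := by
    rw [hQt, hc, if_pos rfl, ← huw]
    exact neg_ne_zero.mpr (mul_ne_zero hc' (mul_ne_zero hε hu0))
  have hvalp : f₁ (c 0 + c 1) (c 0 + c 1) = 2 * ε := by
    rw [(symB_of hf₁).add_left, (symB_of hf₁).add_right, (symB_of hf₁).add_right, hc, hc, hc, hc]
    simp
    ring
  have hU' : Q' (tp (c 0 + c 1) u) ≠ 0 := by
    rw [hQt, hvalp]
    exact neg_ne_zero.mpr (mul_ne_zero hc' (mul_ne_zero (mul_ne_zero h2' hε) hu0))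
  have hW' : Q' (tp (c 0 + c 1) w) ≠ 0 := by
    rw [hQt, hvalp, ← huw]
    exact neg_ne_zero.mpr (mul_ne_zero hc' (mul_ne_zero (mul_ne_zero h2' hε) hu0))
  rw [tensorProductSubgroup_eq_map]
  refine transport_not_maximal e P _ (omegaGL ⇑Q') (decompositionStabilizer (blocks (n₂ := n₂) c)) _ ?_
    (kron_le hq hf₁ hf₂.bilinear Q' hc' hpol c hε hc hu0)
    (refl2 Q' (tp (c 0) u) (tp (c 0) w) hU hW) ?_
    (g0_mem hf₁.bilinear hf₂.bilinear Q' hpol c hc u w hU hW)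
    (g0_notMem hq hf₁ hf₂ Q' hpol c hε hc hu0 huw0 hy0 hyu hyw hU hW)
    (refl2 Q' (tp (c 0 + c 1) u) (tp (c 0 + c 1) w) hU' hW') ?_
    (tau0_notMem hq hf₁ hf₂ Q' hc' hpol c hε hc hu0 huw0 hy0 hyu hyw hU' hW')
  · intro M
    rw [hQ']
    exact transportHom_mem_omegaGL_iff e P (quadFormOdd m F) M
  · apply refl2_mem_omegaGL_of_orth h2' Q' _ _ hU hW
    · rw [hQt, hQt, huw]
    · rw [hpt, huw0, mul_zero, mul_zero]
  · apply refl2_mem_omegaGL_of_orth h2' Q' _ _ hU' hW'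
    · rw [hQt, hQt, huw]
    · rw [hpt, huw0, mul_zero, mul_zero]

end Cfsg.Agent.S5682
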