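import Cfsg.Statements.S5686
import Cfsg.Agent.Lib.helper42.TwoClassesGeo

set_option autoImplicit false
open Cfsg

namespace Cfsg.Agent.S5686

open Cfsg.Agent.Lib.helper42 Cfsg.Agent.Lib.helper95 Cfsg.Agent.Lib.helper17 Cfsg.Geo Matrix Module

/-- Let F be a finite field with q elements, n ≥ 13 even, Q a non-degenerate quadratic form on F^n of plus type (some subspace of dimension n/2 is totally singular), and Ω the commutator subgroup of the isometry group of Q, viewed inside GL_n(F). The elements of Ω stabilising a subspace of dimension n/2 − 1 on which Q vanishes form a subgroup that is not maximal: some subgroup lies strictly between it and Ω. -/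
theorem result {F : Type*} [Field F] [Fintype F] {n : ℕ} (hn : 13 ≤ n) (heven : Even n) (Q : (Fin n → F) → F) (hQ : Cfsg.Geo.IsNondegenerateQuadraticForm Q) (hplus : Cfsg.Geo.IsPlusTypeOn Q ⊤) (W : Submodule F (Fin n → F)) (hW : Cfsg.Geo.IsTotallySingularQuad Q W) (hdim : 2 * (Module.finrank F W + 1) = n) : ∃ K : Subgroup (Matrix.GeneralLinearGroup (Fin n) F), Cfsg.Geo.subspaceStabilizer W ⊓ Cfsg.Geo.omegaGL Q < K ∧ K < Cfsg.Geo.omegaGL Q := by
  classical
  have hnd : (QuadraticMap.polarBilin (qfOfNondeg Q hQ)).Nondegenerate :=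
    polarBilin_nondeg_of_isNondeg Q hQ
  have hcard : Fintype.card (Fin n) = n := Fintype.card_fin n
  have hgen : reflSubgroup (qfOfNondeg Q hQ) = ⊤ :=
    S0786.reflSubgroup_eq_top' _ hnd (Or.inr (by rw [hcard]; omega))
  have h3 : 3 ≤ Fintype.card (Fin n) := by rw [hcard]; omega
  obtain ⟨U0, -, hU0, hU0d⟩ := hplus
  have hU0d' : 2 * finrank F U0 = Fintype.card (Fin n) := by
    rw [hU0d, finrank_top, Module.finrank_fintype_fun_eq_card]
  have hU0' : ∀ u ∈ U0, (qfOfNondeg Q hQ) u = 0 := hU0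
  have hW' : ∀ u ∈ W, (qfOfNondeg Q hQ) u = 0 := hW
  obtain ⟨U1, hWU, hU1, hU1d⟩ := exists_max_ts_ge (qfOfNondeg Q hQ) hnd U0 hU0' hU0d' W hW'
  have hne : W ≠ ⊥ := by
    intro h
    rw [h, finrank_bot] at hdim
    omega
  have hlt : W ≠ U1 := by
    intro h
    rw [h] at hdim
    omega
  have hne1 : U1 ≠ ⊥ := by
    intro h
    rw [h, finrank_bot] at hU1d
    omega
  refine ⟨subspaceStabilizer U1 ⊓ omegaGL Q, ?_, ?_⟩
  · rw [SetLike.lt_iff_le_and_exists]
    refine ⟨?_, ?_⟩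
    · rintro x ⟨hx1, hx2⟩
      refine ⟨?_, hx2⟩
      obtain ⟨g, hg, rfl⟩ := hx2
      apply mem_subspaceStabilizer_of_isometry (qfOfNondeg Q hQ) hnd U1 _
        ((mem_isometryGroup_iff _ _).mp g.2)
      exact stabilizes_of_stabilizes_hyperplane (qfOfNondeg Q hQ) hnd hgen U1 hU1 hU1d W hWU
        (by omega) g hg (fun w hw => (hx1 w).mp hw)
    · obtain ⟨g, hg, hgU, w, hw, hgw⟩ :=
        exists_Omega_stab_not_stab (qfOfNondeg Q hQ) hnd U1 hU1 W hWU hne hlt
      refine ⟨(g : Matrix.GeneralLinearGroup (Fin n) F),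
        ⟨mem_subspaceStabilizer_of_isometry (qfOfNondeg Q hQ) hnd U1 _
          ((mem_isometryGroup_iff _ _).mp g.2) hgU, mem_omegaGL_of_mem Q g hg⟩, ?_⟩
      rintro ⟨h1, -⟩
      exact hgw ((h1 w).mp hw)
  · rw [SetLike.lt_iff_le_and_exists]
    refine ⟨inf_le_right, ?_⟩
    obtain ⟨g, hg, x, hx, hgx⟩ := exists_Omega_not_stab (qfOfNondeg Q hQ) hnd h3 U1 hU1 hne1
    refine ⟨(g : Matrix.GeneralLinearGroup (Fin n) F), mem_omegaGL_of_mem Q g hg, ?_⟩
    rintro ⟨h1, -⟩
    exact hgx ((h1 x).mp hx)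

end Cfsg.Agent.S5686
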