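import Cfsg.Statements.S5693
import Cfsg.Agent.Lib.helper17.OrthNM3
import Cfsg.Agent.Lib.helper7.RootParabFun

set_option autoImplicit false
open Cfsg

namespace Cfsg.Agent.S5693

/-- Let F be a finite field with q elements, n ≥ 13 even, Q a non-degenerate quadratic form on F^n of plus type (some subspace of dimension n/2 is totally singular), and Ω the commutator subgroup of the isometry group of Q, viewed inside GL_n(F). Let D be a decomposition of F^n into t ≥ 2 pairwise orthogonal, pairwise Q-isometric subspaces of equal dimension k on which the polar form is non-degenerate (with, for even k, all members of plus type or t even; for odd k, q odd and square discriminant), in one of the cases: k = 2 with q = 3; k = 2 with plus-type members and q ∈ {2, 4, 5}; k = 3 with q = 3; k = 4 with plus-type members and q = 2. Then the elements of Ω permuting the members of D form a subgroup that is not maximal: some subgroup lies strictly between it and Ω. -/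
theorem result {F : Type*} [Field F] [Fintype F] {n : ℕ} (hn : 13 ≤ n) (heven : Even n) (Q : (Fin n → F) → F) (hQ : Cfsg.Geo.IsNondegenerateQuadraticForm Q) (hplus : Cfsg.Geo.IsPlusTypeOn Q ⊤) {t : ℕ} (k : ℕ) (D : Fin t → Submodule F (Fin n → F)) (hD : Cfsg.Geo.IsOrthogonalMDecomposition Q k D) (hke : Even k → ((∀ i, Cfsg.Geo.IsPlusTypeOn Q (D i)) ∨ Even t)) (hko : Odd k → (Odd (Fintype.card F) ∧ Cfsg.Geo.HasSquareDiscriminant Q)) (hcase : ((k = 2 ∧ (Fintype.card F = 3 ∨ ((∀ i, Cfsg.Geo.IsPlusTypeOn Q (D i)) ∧ (Fintype.card F = 2 ∨ Fintype.card F = 4 ∨ Fintype.card F = 5)))) ∨ (k = 3 ∧ Fintype.card F = 3) ∨ (k = 4 ∧ Fintype.card F = 2 ∧ ∀ i, Cfsg.Geo.IsPlusTypeOn Q (D i)))) : ∃ K : Subgroup (Matrix.GeneralLinearGroup (Fin n) F), Cfsg.Geo.decompositionStabilizer D ⊓ Cfsg.Geo.omegaGL Q < K ∧ K < Cfsg.Geo.omegaGL Q := by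
  classical
  have hcard : t * k = n := by
    have := Cfsg.Agent.Lib.helper95.decomp_card hD.decomp.decomp
    simpa using this
  have hnd := Cfsg.Agent.Lib.helper7.RootElt.polarBilin_qfOfNondeg_nondegenerate Q hQ
  have hn7 : 7 ≤ Fintype.card (Fin n) := by
    rw [Fintype.card_fin]
    omega
  rcases hcase with ⟨rfl, h3 | ⟨hpl, h245⟩⟩ | ⟨rfl, h3⟩ | ⟨rfl, hq2, hpl⟩
  · by_cases hall : ∀ i, Cfsg.Geo.IsPlusTypeOn Q (D i)
    · exact Cfsg.Agent.Lib.helper17.plus3_not_maximal h3 (Cfsg.Agent.Lib.helper95.qfOfNondeg Q hQ)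
        (by omega) D hD hall
    · push Not at hall
      obtain ⟨i₀, hi₀⟩ := hall
      have han0 := Cfsg.Agent.Lib.helper95.aniso_of_not_plus (Cfsg.Agent.Lib.helper95.qfOfNondeg Q hQ)
        (D i₀) (hD.decomp.decomp.finrank_eq i₀) hi₀
      refine Cfsg.Agent.Lib.helper95.decomp2_aniso_not_maximal h3
        (Cfsg.Agent.Lib.helper95.qfOfNondeg Q hQ) (by omega) D hD ?_
      intro i w hw hw0 hQw
      obtain ⟨e, he⟩ := hD.isometric i i₀
      have h1 := he ⟨w, hw⟩
      apply han0 ((e ⟨w, hw⟩ : D i₀) : Fin n → F) (e ⟨w, hw⟩).2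
      · intro h0
        have h0' : e ⟨w, hw⟩ = 0 := Subtype.ext h0
        rw [LinearEquiv.map_eq_zero_iff] at h0'
        exact hw0 (congrArg Subtype.val h0')
      · exact h1.trans hQw
  · rcases h245 with h | h | h
    · exact Cfsg.Agent.Lib.helper17.plus24_not_maximal
        (Cfsg.Agent.Lib.helper95.two_eq_zero_of_card_two h)
        (fun s hs => by
          rcases Cfsg.Agent.Lib.helper95.eq_zero_or_one_of_card_two h s with h0 | h0
          · exact absurd h0 hs
          · rw [h0, one_pow])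
        (Cfsg.Agent.Lib.helper95.qfOfNondeg Q hQ) hnd hn7 (by omega) D hD hpl
    · exact Cfsg.Agent.Lib.helper17.plus24_not_maximal
        (Cfsg.Agent.Lib.helper95.two_eq_zero_of_card_four h)
        (fun s hs => by
          have h4 := FiniteField.pow_card_sub_one_eq_one s hs
          rw [h] at h4
          exact h4)
        (Cfsg.Agent.Lib.helper95.qfOfNondeg Q hQ) hnd hn7 (by omega) D hD hpl
    · exact Cfsg.Agent.Lib.helper17.plus5_not_maximal h (Cfsg.Agent.Lib.helper95.qfOfNondeg Q hQ)
        (by omega) D hD hpl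
  · exact Cfsg.Agent.Lib.helper95.decomp3_not_maximal h3 (Cfsg.Agent.Lib.helper95.qfOfNondeg Q hQ)
      (by omega) D hD
  · exact Cfsg.Agent.Lib.helper17.plus42_not_maximal hq2 (Cfsg.Agent.Lib.helper95.qfOfNondeg Q hQ)
      hnd hn7 (by omega) D hD hpl

end Cfsg.Agent.S5693
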