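import Cfsg.Statements.S5698
import Cfsg.Agent.Lib.helper42.TwoClassesGeo

set_option autoImplicit false
open Cfsg

namespace Cfsg.Agent.S5698

open Cfsg.Agent.Lib.helper42 Cfsg.Agent.Lib.helper95 Cfsg.Agent.Lib.helper17 Cfsg.Geo Matrix Module

/-- Let F be a finite field with q elements, n ≥ 13 even, Q a non-degenerate quadratic form on F^n of plus type (some subspace of dimension n/2 is totally singular), and Ω the commutator subgroup of the isometry group of Q, viewed inside GL_n(F). Suppose n/2 is odd and let D be a decomposition of F^n into two complementary subspaces of dimension n/2 on each of which Q vanishes. Then the elements of Ω preserving or interchanging the two subspaces form a subgroup that is not maximal: some subgroup lies strictly between it and Ω. -/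
theorem result {F : Type*} [Field F] [Fintype F] {n : ℕ} (hn : 13 ≤ n) (heven : Even n) (Q : (Fin n → F) → F) (hQ : Cfsg.Geo.IsNondegenerateQuadraticForm Q) (hplus : Cfsg.Geo.IsPlusTypeOn Q ⊤) (k : ℕ) (hk : 2 * k = n) (hko : Odd k) (D : Fin 2 → Submodule F (Fin n → F)) (hD : Cfsg.Geo.IsMDecomposition k D) (hts : ∀ i, Cfsg.Geo.IsTotallySingularQuad Q (D i)) : ∃ K : Subgroup (Matrix.GeneralLinearGroup (Fin n) F), Cfsg.Geo.decompositionStabilizer D ⊓ Cfsg.Geo.omegaGL Q < K ∧ K < Cfsg.Geo.omegaGL Q := by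
  classical
  have hnd : (QuadraticMap.polarBilin (qfOfNondeg Q hQ)).Nondegenerate :=
    polarBilin_nondeg_of_isNondeg Q hQ
  have hcard : Fintype.card (Fin n) = n := Fintype.card_fin n
  have hgen : reflSubgroup (qfOfNondeg Q hQ) = ⊤ :=
    S0786.reflSubgroup_eq_top' _ hnd (Or.inr (by rw [hcard]; omega))
  have hU0 : ∀ u ∈ D 0, (qfOfNondeg Q hQ) u = 0 := hts 0
  have hU1 : ∀ u ∈ D 1, (qfOfNondeg Q hQ) u = 0 := hts 1
  have hd0 : finrank F (D 0) = k := hD.finrank_eq 0
  have hdisj : D 0 ⊓ D 1 = ⊥ :=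
    (hD.indep.pairwiseDisjoint (by decide : (0 : Fin 2) ≠ 1)).eq_bot
  have hsup : ∀ x : Fin n → F, x ∈ D 0 ⊔ D 1 := by
    intro x
    have h1 : iSup D ≤ D 0 ⊔ D 1 := by
      apply iSup_le
      intro i
      fin_cases i
      · exact le_sup_left
      · exact le_sup_right
    rw [hD.iSup_eq_top] at h1
    exact h1 Submodule.mem_top
  have hne0 : D 0 ≠ ⊥ := by
    intro h
    have h0 := hD.pos
    rw [h, finrank_bot] at hd0
    omega
  have hdim0 : 2 * finrank F (D 0) = Fintype.card (Fin n) := by rw [hd0, hcard]; exact hk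
  have h3 : 3 ≤ Fintype.card (Fin n) := by rw [hcard]; omega
  refine ⟨subspaceStabilizer (D 0) ⊓ omegaGL Q, ?_, ?_⟩
  · rw [SetLike.lt_iff_le_and_exists]
    refine ⟨?_, ?_⟩
    · -- elements of Ω permuting the pair fix `D 0`
      rintro x ⟨hx1, hx2⟩
      refine ⟨?_, hx2⟩
      obtain ⟨g, hg, rfl⟩ := hx2
      obtain ⟨σ, hσ⟩ := hx1
      have hσ0 : (D 0).map (Matrix.mulVecLin
          ((g : Matrix.GeneralLinearGroup (Fin n) F) : Matrix (Fin n) (Fin n) F)) = D (σ 0) := hσ 0
      have hcase : σ 0 = 0 := by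
        by_contra hcon
        have h1 : σ 0 = 1 := by
          have : ∀ j : Fin 2, j ≠ 0 → j = 1 := by decide
          exact this _ hcon
        rw [h1] at hσ0
        exact not_map_eq_of_odd (qfOfNondeg Q hQ) hnd hgen (D 0) hU0 hdim0 (by rw [hd0]; exact hko)
          (D 1) hdisj g hg hσ0
      rw [hcase] at hσ0
      apply mem_subspaceStabilizer_of_isometry (qfOfNondeg Q hQ) hnd (D 0) _
        ((mem_isometryGroup_iff _ _).mp g.2)
      intro u hu
      have := Submodule.mem_map_of_mem (f := Matrix.mulVecLin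
        ((g : Matrix.GeneralLinearGroup (Fin n) F) : Matrix (Fin n) (Fin n) F)) hu
      rw [hσ0] at this
      exact this
    · -- an element of Ω fixing `D 0` and moving `D 1`
      obtain ⟨e, he, he0⟩ := Submodule.exists_mem_ne_zero_of_ne_bot hne0
      have hx : ∃ x ∈ D 1, QuadraticMap.polar (qfOfNondeg Q hQ) e x ≠ 0 := by
        by_contra hcon
        push Not at hcon
        apply he0
        apply eq_zero_of_polar (qfOfNondeg Q hQ) hnd
        intro y
        obtain ⟨a, ha, b, hb, rfl⟩ := Submodule.mem_sup.mp (hsup y)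
        rw [QuadraticMap.polar_add_right, polar_eq_zero_of_ts _ (D 0) hU0 he ha, hcon b hb,
          add_zero]
      obtain ⟨x, hx, hex⟩ := hx
      obtain ⟨g, hg, hgU, hgx⟩ := exists_Omega_moving (qfOfNondeg Q hQ) hnd h3 (D 0) hU0 e x he hex
      have hiso := (mem_isometryGroup_iff _ _).mp g.2
      refine ⟨(g : Matrix.GeneralLinearGroup (Fin n) F),
        ⟨mem_subspaceStabilizer_of_isometry (qfOfNondeg Q hQ) hnd (D 0) _ hiso hgU,
          mem_omegaGL_of_mem Q g hg⟩, ?_⟩
      rintro ⟨⟨σ, hσ⟩, -⟩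
      have hσ0 : (D 0).map (Matrix.mulVecLin
          ((g : Matrix.GeneralLinearGroup (Fin n) F) : Matrix (Fin n) (Fin n) F)) = D (σ 0) := hσ 0
      have hσ1 : (D 1).map (Matrix.mulVecLin
          ((g : Matrix.GeneralLinearGroup (Fin n) F) : Matrix (Fin n) (Fin n) F)) = D (σ 1) := hσ 1
      rw [map_eq_self_of_isometry (qfOfNondeg Q hQ) hnd (D 0) _ hiso hgU] at hσ0
      have hcase : σ 0 = 0 := by
        by_contra hcon
        have h1 : σ 0 = 1 := by
          have : ∀ j : Fin 2, j ≠ 0 → j = 1 := by decide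
          exact this _ hcon
        rw [h1] at hσ0
        rw [← hσ0, inf_idem] at hdisj
        exact hne0 hdisj
      have hcase1 : σ 1 = 1 := by
        by_contra hcon
        have h1 : σ 1 = 0 := by
          have : ∀ j : Fin 2, j ≠ 1 → j = 0 := by decide
          exact this _ hcon
        have := σ.injective (hcase.trans h1.symm)
        exact absurd this (by decide)
      rw [hcase1] at hσ1
      have h5 := Submodule.mem_map_of_mem (f := Matrix.mulVecLin
        ((g : Matrix.GeneralLinearGroup (Fin n) F) : Matrix (Fin n) (Fin n) F)) hx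
      rw [hσ1] at h5
      exact hgx (hU1 _ ((D 1).sub_mem h5 hx))
  · rw [SetLike.lt_iff_le_and_exists]
    refine ⟨inf_le_right, ?_⟩
    obtain ⟨g, hg, x, hx, hgx⟩ := exists_Omega_not_stab (qfOfNondeg Q hQ) hnd h3 (D 0) hU0 hne0
    refine ⟨(g : Matrix.GeneralLinearGroup (Fin n) F), mem_omegaGL_of_mem Q g hg, ?_⟩
    rintro ⟨h1, -⟩
    exact hgx ((h1 x).mp hx)

end Cfsg.Agent.S5698
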