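import Cfsg.Statements.S5699
import Cfsg.Agent.Lib.helper49.NondegStab
import Cfsg.Agent.Lib.helper7.RootParabFun

set_option autoImplicit false
open Cfsg

namespace Cfsg.Agent.S5699

open Cfsg.Agent.Lib.helper49 in
theorem map_eq_of_mem_stab {F : Type*} [Field F] {ι : Type} [Fintype ι] [DecidableEq ι]
    (U : Submodule F (ι → F)) (g : Matrix.GeneralLinearGroup ι F)
    (hg : g ∈ Cfsg.Geo.subspaceStabilizer U) :
    U.map (Matrix.toLin' (g : Matrix ι ι F)) = U := by
  ext x
  constructor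
  · rintro ⟨u, hu, rfl⟩
    rw [Matrix.toLin'_apply]
    exact (hg u).mp hu
  · intro hx
    have hginv : g⁻¹ ∈ Cfsg.Geo.subspaceStabilizer U := (Cfsg.Geo.subspaceStabilizer U).inv_mem hg
    refine ⟨((g⁻¹ : Matrix.GeneralLinearGroup ι F) : Matrix ι ι F).mulVec x, (hginv x).mp hx, ?_⟩
    rw [Matrix.toLin'_apply, Matrix.mulVec_mulVec, ← Units.val_mul, mul_inv_cancel, Units.val_one,
      Matrix.one_mulVec]

/-- Let F be a finite field with q elements, n ≥ 13 even, Q a non-degenerate quadratic form on F^n (of either type), and Ω the commutator subgroup of the isometry group of Q, viewed inside GL_n(F). Let D be a decomposition of F^n into two orthogonal subspaces of odd dimension n/2 on which the polar form is non-degenerate and which are not Q-isometric to each other. Then the elements of Ω permuting (necessarily fixing) the two subspaces form a maximal subgroup of Ω. -/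
theorem result {F : Type*} [Field F] [Fintype F] {n : ℕ} (hn : 13 ≤ n) (heven : Even n) (Q : (Fin n → F) → F) (hQ : Cfsg.Geo.IsNondegenerateQuadraticForm Q) (k : ℕ) (hk : 2 * k = n) (hko : Odd k) (D : Fin 2 → Submodule F (Fin n → F)) (hD : Cfsg.Geo.IsNondegenerateMDecomposition (QuadraticMap.polar Q) k D) (hni : ¬ Cfsg.Geo.AreIsometricFor Q (D 0) (D 1)) : Cfsg.Geo.IsMaximalIn (Cfsg.Geo.omegaGL Q) (Cfsg.Geo.decompositionStabilizer D ⊓ Cfsg.Geo.omegaGL Q) := by
  classical
  have hnd := Cfsg.Agent.Lib.helper7.RootElt.polarBilin_qfOfNondeg_nondegenerate Q hQ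
  have hk7 : 7 ≤ k := by omega
  have hfr := hD.decomp.finrank_eq
  have hs : Cfsg.Agent.Lib.helper49.OrthSplit (Cfsg.Agent.Lib.helper95.qfOfNondeg Q hQ) (D 0) (D 1) := by
    refine ⟨fun u hu u' hu' => hD.orthogonal 0 1 (by decide) u hu u' hu', ⟨?_, ?_⟩⟩
    · exact hD.decomp.indep.pairwiseDisjoint (by decide : (0 : Fin 2) ≠ 1)
    · rw [codisjoint_iff, eq_top_iff, ← hD.decomp.iSup_eq_top]
      apply iSup_le
      intro i
      fin_cases i
      · exact le_sup_left
      · exact le_sup_right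
  have hswap : ∀ g : ↥(Cfsg.isometryGroup F ⇑(Cfsg.Agent.Lib.helper95.qfOfNondeg Q hQ)),
      ¬ ∀ u ∈ D 0, Cfsg.Agent.Lib.helper49.isoAct (⇑(Cfsg.Agent.Lib.helper95.qfOfNondeg Q hQ)) g u ∈ D 1 := by
    intro g hg
    exact hni (Cfsg.Agent.Lib.helper49.areIsometricFor_of_maps (Cfsg.Agent.Lib.helper95.qfOfNondeg Q hQ)
      (D 0) (D 1) (by rw [hfr 0, hfr 1]) g hg)
  have hD10 : D 1 ≠ ⊥ := by
    intro h0
    have := hfr 1
    rw [h0, finrank_bot] at this
    omega
  have key := Cfsg.Agent.Lib.helper49.isMaximalIn_stab_of_split (Cfsg.Agent.Lib.helper95.qfOfNondeg Q hQ) hnd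
    hs (by rw [hfr 0]; exact hk7) hD10 hswap (by intro _ h2; rw [hfr 1] at h2; omega)
  have heq : Cfsg.Geo.decompositionStabilizer D ⊓ Cfsg.Geo.omegaGL Q =
      Cfsg.Geo.subspaceStabilizer (D 0) ⊓ Cfsg.Geo.omegaGL Q := by
    ext x
    constructor
    · rintro ⟨⟨σ, hσ⟩, hx2⟩
      refine ⟨?_, hx2⟩
      obtain ⟨g, hg, rfl⟩ := hx2
      have hmaps : ∀ u ∈ D 0, Cfsg.Agent.Lib.helper49.isoAct
          (⇑(Cfsg.Agent.Lib.helper95.qfOfNondeg Q hQ)) g u ∈ D (σ 0) := by
        intro u hu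
        rw [← hσ 0]
        exact ⟨u, hu, Matrix.toLin'_apply _ _⟩
      have hσ0 : σ 0 = 0 := by
        by_contra hne
        have h1 : σ 0 = 1 := by
          have : ∀ j : Fin 2, j ≠ 0 → j = 1 := by decide
          exact this _ hne
        rw [h1] at hmaps
        exact hswap g hmaps
      rw [hσ0] at hmaps
      exact (Cfsg.Agent.Lib.helper49.mem_stab_iff (Cfsg.Agent.Lib.helper95.qfOfNondeg Q hQ) (D 0) g).mpr hmaps
    · rintro ⟨hx1, hx2⟩
      refine ⟨?_, hx2⟩
      obtain ⟨g, hg, rfl⟩ := hx2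
      have hx1' := hs.stab_of_stab hnd g hx1
      refine ⟨1, fun i => ?_⟩
      fin_cases i
      · exact map_eq_of_mem_stab (D 0) _ hx1
      · exact map_eq_of_mem_stab (D 1) _ hx1'
  rw [heq]
  exact key

end Cfsg.Agent.S5699
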