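import Cfsg.Statements.S5705
import Cfsg.Agent.Lib.helper95.OmegaTensor
import Cfsg.Agent.Lib.helper95.Bilin
import Cfsg.Agent.S5638

set_option autoImplicit false
open Cfsg

namespace Cfsg.Agent.S5705

open Cfsg.Agent.Lib.helper95 Cfsg.Agent.Lib.helper49 Cfsg.Geo Matrix Module
open scoped Kronecker

section Main

variable {F : Type*} [Field F] [Fintype F] {n₂ : ℕ}

/-- The tensor product form on `F^2 ⊗ F^(n₂)`. -/
def phiT (f₁ : (Fin 2 → F) → (Fin 2 → F) → F) (f₂ : (Fin n₂ → F) → (Fin n₂ → F) → F) :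
    (Fin 2 × Fin n₂ → F) → (Fin 2 × Fin n₂ → F) → F :=
  formOfGram id (gramMatrix f₁ ⊗ₖ gramMatrix f₂)

omit [Fintype F] in
theorem phi_tp {f₁ : (Fin 2 → F) → (Fin 2 → F) → F} {f₂ : (Fin n₂ → F) → (Fin n₂ → F) → F}
    (hf₁ : IsBilinearForm f₁) (hf₂ : IsBilinearForm f₂) (x₁ y₁ : Fin 2 → F) (x₂ y₂ : Fin n₂ → F) :
    phiT f₁ f₂ (tp x₁ x₂) (tp y₁ y₂) = f₁ x₁ y₁ * f₂ x₂ y₂ := by
  unfold phiT
  rw [formOfGram_tp _ (fun a b => rfl), ← bilin_eq_formOfGram hf₁, ← bilin_eq_formOfGram hf₂]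

/-- The standard basis vectors of `F^2`. -/
def e0 : Fin 2 → F := ![1, 0]

/-- The standard basis vectors of `F^2`. -/
def e1 : Fin 2 → F := ![0, 1]

/-- The vector `e0 ⊗ a + e1 ⊗ b`. -/
def pr (a b : Fin n₂ → F) : Fin 2 × Fin n₂ → F := tp e0 a + tp e1 b

omit [Fintype F] in
theorem rep (v : Fin 2 × Fin n₂ → F) : v = pr (fun r => v (0, r)) (fun r => v (1, r)) := by
  ext ⟨i, r⟩
  fin_cases i <;> simp [pr, tp, e0, e1]

omit [Fintype F] in
theorem pr_add (a b a' b' : Fin n₂ → F) : pr a b + pr a' b' = pr (a + a') (b + b') := by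
  unfold pr
  rw [tp_add_right, tp_add_right]
  abel

omit [Fintype F] in
theorem pr_sub (a b a' b' : Fin n₂ → F) : pr a b - pr a' b' = pr (a - a') (b - b') := by
  ext ⟨i, r⟩
  fin_cases i <;> simp [pr, tp, e0, e1]

omit [Fintype F] in
theorem pr_zero_right (a : Fin n₂ → F) : pr a 0 = tp e0 a := by
  unfold pr
  rw [tp_zero_right, add_zero]

omit [Fintype F] in
theorem pr_fst (a b : Fin n₂ → F) : (fun r => pr a b (0, r)) = a := by
  ext r
  simp [pr, tp, e0, e1]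

omit [Fintype F] in
theorem pr_snd (a b : Fin n₂ → F) : (fun r => pr a b (1, r)) = b := by
  ext r
  simp [pr, tp, e0, e1]

omit [Fintype F] in
theorem pr_inj {a b a' b' : Fin n₂ → F} (h : pr a b = pr a' b') : a = a' ∧ b = b' := by
  constructor
  · rw [← pr_fst a b, h, pr_fst]
  · rw [← pr_snd a b, h, pr_snd]

omit [Fintype F] in
theorem omgU_pr (c2 : (2 : F) = 0) (a b : Fin n₂ → F) :
    ((Cfsg.Agent.S5638.omgU c2 n₂ : GL (Fin 2 × Fin n₂) F) : Matrix (Fin 2 × Fin n₂) (Fin 2 × Fin n₂) F) *ᵥ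
      pr a b = pr b (a + b) := by
  show ((Cfsg.Agent.S5638.omg : Matrix (Fin 2) (Fin 2) F) ⊗ₖ (1 : Matrix (Fin n₂) (Fin n₂) F)) *ᵥ
    pr a b = pr b (a + b)
  unfold pr
  rw [Matrix.mulVec_add, kronecker_mulVec_tp, kronecker_mulVec_tp, Matrix.one_mulVec, Matrix.one_mulVec]
  ext ⟨i, r⟩
  fin_cases i <;>
    simp [tp, e0, e1, Cfsg.Agent.S5638.omg, Matrix.mulVec, dotProduct, Fin.sum_univ_two]

/-- The hypotheses on the transported quadratic form, in terms of the pairs `pr a b`. -/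
structure TData (f₂ : (Fin n₂ → F) → (Fin n₂ → F) → F) (Q' : QuadraticForm F (Fin 2 × Fin n₂ → F)) :
    Prop where
  quad : ∀ a b : Fin n₂ → F, Q' (pr a b) = f₂ a b
  polar : ∀ a b a' b' : Fin n₂ → F, QuadraticMap.polar Q' (pr a b) (pr a' b') = f₂ a b' + f₂ a' b

omit [Fintype F] in
theorem tdata_mk {f₁ : (Fin 2 → F) → (Fin 2 → F) → F} {f₂ : (Fin n₂ → F) → (Fin n₂ → F) → F}
    (hf₁ : IsSymplecticForm f₁) (hf₂ : IsSymplecticForm f₂) (Q' : QuadraticForm F (Fin 2 × Fin n₂ → F))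
    (hpol : ∀ x y, QuadraticMap.polar Q' x y = phiT f₁ f₂ x y)
    (hpure : ∀ (a : Fin 2 → F) (v : Fin n₂ → F), Q' (tp a v) = 0) (hφ : f₁ e0 e1 = 1) :
    TData f₂ Q' := by
  have h01 : ∀ v v' : Fin n₂ → F, QuadraticMap.polar Q' (tp e0 v) (tp e1 v') = f₂ v v' := by
    intro v v'
    rw [hpol, phi_tp hf₁.bilinear hf₂.bilinear, hφ, one_mul]
  have h00 : ∀ (a : Fin 2 → F) (v v' : Fin n₂ → F), QuadraticMap.polar Q' (tp a v) (tp a v') = 0 := by
    intro a v v'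
    rw [hpol, phi_tp hf₁.bilinear hf₂.bilinear, hf₁.alternating, zero_mul]
  constructor
  · intro a b
    unfold pr
    rw [QuadraticMap.map_add (⇑Q'), hpure, hpure, h01]
    ring
  · intro a b a' b'
    unfold pr
    rw [QuadraticMap.polar_add_left, QuadraticMap.polar_add_right, QuadraticMap.polar_add_right,
      h00, h00, h01, QuadraticMap.polar_comm (⇑Q') (tp e1 b) (tp e0 a'), h01]
    ring

omit [Fintype F] in
theorem omg_isometry (c2 : (2 : F) = 0) {f₂ : (Fin n₂ → F) → (Fin n₂ → F) → F}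
    (hf₂ : IsSymplecticForm f₂) {Q' : QuadraticForm F (Fin 2 × Fin n₂ → F)} (hD : TData f₂ Q')
    (v : Fin 2 × Fin n₂ → F) :
    Q' (((Cfsg.Agent.S5638.omgU c2 n₂ : GL (Fin 2 × Fin n₂) F) :
      Matrix (Fin 2 × Fin n₂) (Fin 2 × Fin n₂) F) *ᵥ v) = Q' v := by
  rw [rep v, omgU_pr, hD.quad, hD.quad, hf₂.bilinear.add_right, hf₂.alternating, add_zero, hf₂.skew]
  have h : ∀ t : F, -t = t := fun t => by linear_combination (-t) * c2
  exact h _

omit [Fintype F] in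
theorem omg_sq (c2 : (2 : F) = 0) (v : Fin 2 × Fin n₂ → F) :
    ((Cfsg.Agent.S5638.omgU c2 n₂ : GL (Fin 2 × Fin n₂) F) :
      Matrix (Fin 2 × Fin n₂) (Fin 2 × Fin n₂) F) *ᵥ
      (((Cfsg.Agent.S5638.omgU c2 n₂ : GL (Fin 2 × Fin n₂) F) :
        Matrix (Fin 2 × Fin n₂) (Fin 2 × Fin n₂) F) *ᵥ v) =
      v + ((Cfsg.Agent.S5638.omgU c2 n₂ : GL (Fin 2 × Fin n₂) F) :
        Matrix (Fin 2 × Fin n₂) (Fin 2 × Fin n₂) F) *ᵥ v := by
  rw [rep v, omgU_pr, omgU_pr, pr_add]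

/-- `ω ⊗ 1` as an isometry. -/
def omgI (c2 : (2 : F) = 0) {f₂ : (Fin n₂ → F) → (Fin n₂ → F) → F}
    (hf₂ : IsSymplecticForm f₂) {Q' : QuadraticForm F (Fin 2 × Fin n₂ → F)} (hD : TData f₂ Q') :
    isometryGroup F ⇑Q' :=
  ⟨Cfsg.Agent.S5638.omgU c2 n₂,
    (Cfsg.Agent.Lib.helper95.mem_isometryGroup_iff _ _).mpr (omg_isometry c2 hf₂ hD)⟩

omit [Fintype F] in
theorem vsub_eq_add (c2 : (2 : F) = 0) {κ : Type*} (a b : κ → F) : a - b = a + b := by
  ext r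
  simp only [Pi.sub_apply, Pi.add_apply]
  linear_combination (-(b r)) * c2

omit [Fintype F] in
theorem neg_eq_self (c2 : (2 : F) = 0) (t : F) : -t = t := by
  linear_combination (-t) * c2

omit [Fintype F] in
/-- The numerical facts on the vectors `u = pr x y` and `ω u = pr y (x + y)`. -/
theorem facts (c2 : (2 : F) = 0) {f₂ : (Fin n₂ → F) → (Fin n₂ → F) → F}
    (hf₂ : IsSymplecticForm f₂) {Q' : QuadraticForm F (Fin 2 × Fin n₂ → F)} (hD : TData f₂ Q')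
    {x y : Fin n₂ → F} (hxy : f₂ x y = 1) :
    f₂ y x = 1 ∧ Q' (pr x y) = 1 ∧ Q' (pr y (x + y)) = 1 ∧
      QuadraticMap.polar Q' (pr x y) (pr y (x + y)) = 1 ∧
      QuadraticMap.polar Q' (pr y (x + y)) (pr x y) = 1 := by
  have hyx : f₂ y x = 1 := by rw [hf₂.skew, hxy, neg_eq_self c2]
  have h1 : QuadraticMap.polar Q' (pr x y) (pr y (x + y)) = 1 := by
    rw [hD.polar, hf₂.bilinear.add_right, hf₂.alternating, hf₂.alternating, hxy]
    ring
  refine ⟨hyx, ?_, ?_, h1, ?_⟩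
  · rw [hD.quad, hxy]
  · rw [hD.quad, hf₂.bilinear.add_right, hf₂.alternating, hyx, add_zero]
  · rw [QuadraticMap.polar_comm]
    exact h1

theorem g0_mem_omega (c2 : (2 : F) = 0) {f₂ : (Fin n₂ → F) → (Fin n₂ → F) → F}
    (hf₂ : IsSymplecticForm f₂) {Q' : QuadraticForm F (Fin 2 × Fin n₂ → F)} (hD : TData f₂ Q')
    {x y : Fin n₂ → F} (hxy : f₂ x y = 1) (hu : Q' (pr x y) ≠ 0) (hΩu : Q' (pr y (x + y)) ≠ 0) :
    refl2 Q' (pr x y) (pr y (x + y)) hu hΩu ∈ omegaGL ⇑Q' := by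
  obtain ⟨-, q1, q2, p1, -⟩ := facts c2 hf₂ hD hxy
  apply refl2_mem_omegaGL Q' _ _ hu hΩu (by rw [q1, q2])
  rw [quad_sub, q1, q2, p1]
  norm_num

theorem g0_mem (c2 : (2 : F) = 0) {f₂ : (Fin n₂ → F) → (Fin n₂ → F) → F}
    (hf₂ : IsSymplecticForm f₂) {Q' : QuadraticForm F (Fin 2 × Fin n₂ → F)} (hD : TData f₂ Q')
    {x y : Fin n₂ → F} (hxy : f₂ x y = 1) (hu : Q' (pr x y) ≠ 0) (hΩu : Q' (pr y (x + y)) ≠ 0) :
    refl2 Q' (pr x y) (pr y (x + y)) hu hΩu ∈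
      Cfsg.Agent.S5638.extCentralizer (Cfsg.Agent.S5638.omgU c2 n₂) := by
  left
  obtain ⟨hyx, q1, q2, p1, p2⟩ := facts c2 hf₂ hD hxy
  have hΩΩu : Q' (pr (x + y) (y + (x + y))) ≠ 0 := by
    have := omg_isometry c2 hf₂ hD (pr y (x + y))
    rw [omgU_pr] at this
    rw [this]
    exact hΩu
  have ha : omgI c2 hf₂ hD * reflG Q' (pr x y) hu * (omgI c2 hf₂ hD)⁻¹ =
      reflG Q' (pr y (x + y)) hΩu := by
    have himg : (((omgI c2 hf₂ hD : isometryGroup F ⇑Q') : GL (Fin 2 × Fin n₂) F) :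
        Matrix (Fin 2 × Fin n₂) (Fin 2 × Fin n₂) F) *ᵥ pr x y = pr y (x + y) := omgU_pr c2 x y
    have hgv : Q' ((((omgI c2 hf₂ hD : isometryGroup F ⇑Q') : GL (Fin 2 × Fin n₂) F) :
        Matrix (Fin 2 × Fin n₂) (Fin 2 × Fin n₂) F) *ᵥ pr x y) ≠ 0 := by
      rw [himg]
      exact hΩu
    rw [refl_conj Q' (omgI c2 hf₂ hD) (pr x y) hu hgv]
    exact reflG_congr Q' himg hgv hΩu
  have hb : omgI c2 hf₂ hD * reflG Q' (pr y (x + y)) hΩu * (omgI c2 hf₂ hD)⁻¹ =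
      reflG Q' (pr (x + y) (y + (x + y))) hΩΩu := by
    have himg : (((omgI c2 hf₂ hD : isometryGroup F ⇑Q') : GL (Fin 2 × Fin n₂) F) :
        Matrix (Fin 2 × Fin n₂) (Fin 2 × Fin n₂) F) *ᵥ pr y (x + y) = pr (x + y) (y + (x + y)) :=
      omgU_pr c2 y (x + y)
    have hgv : Q' ((((omgI c2 hf₂ hD : isometryGroup F ⇑Q') : GL (Fin 2 × Fin n₂) F) :
        Matrix (Fin 2 × Fin n₂) (Fin 2 × Fin n₂) F) *ᵥ pr y (x + y)) ≠ 0 := by
      rw [himg]
      exact hΩΩu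
    rw [refl_conj Q' (omgI c2 hf₂ hD) (pr y (x + y)) hΩu hgv]
    exact reflG_congr Q' himg hgv hΩΩu
  have hd : reflG Q' (pr y (x + y)) hΩu * reflG Q' (pr x y) hu * (reflG Q' (pr y (x + y)) hΩu)⁻¹ =
      reflG Q' (pr (x + y) (y + (x + y))) hΩΩu := by
    have himg : (((reflG Q' (pr y (x + y)) hΩu : isometryGroup F ⇑Q') : GL (Fin 2 × Fin n₂) F) :
        Matrix (Fin 2 × Fin n₂) (Fin 2 × Fin n₂) F) *ᵥ pr x y = pr (x + y) (y + (x + y)) := by
      rw [reflG_val, refl_mulVec, p2, q2, inv_one, one_mul, one_smul, vsub_eq_add c2, pr_add]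
    have hgv : Q' ((((reflG Q' (pr y (x + y)) hΩu : isometryGroup F ⇑Q') : GL (Fin 2 × Fin n₂) F) :
        Matrix (Fin 2 × Fin n₂) (Fin 2 × Fin n₂) F) *ᵥ pr x y) ≠ 0 := by
      rw [himg]
      exact hΩΩu
    rw [refl_conj Q' (reflG Q' (pr y (x + y)) hΩu) (pr x y) hu hgv]
    exact reflG_congr Q' himg hgv hΩΩu
  have hs2 : reflG Q' (pr y (x + y)) hΩu * reflG Q' (pr y (x + y)) hΩu = 1 := reflG_mul_self _ _ _
  have hinv : (reflG Q' (pr y (x + y)) hΩu)⁻¹ = reflG Q' (pr y (x + y)) hΩu :=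
    inv_eq_of_mul_eq_one_right hs2
  have key : omgI c2 hf₂ hD * (reflG Q' (pr x y) hu * reflG Q' (pr y (x + y)) hΩu) *
      (omgI c2 hf₂ hD)⁻¹ = reflG Q' (pr x y) hu * reflG Q' (pr y (x + y)) hΩu := by
    calc omgI c2 hf₂ hD * (reflG Q' (pr x y) hu * reflG Q' (pr y (x + y)) hΩu) *
        (omgI c2 hf₂ hD)⁻¹
        = (omgI c2 hf₂ hD * reflG Q' (pr x y) hu * (omgI c2 hf₂ hD)⁻¹) *
          (omgI c2 hf₂ hD * reflG Q' (pr y (x + y)) hΩu * (omgI c2 hf₂ hD)⁻¹) := by group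
      _ = reflG Q' (pr y (x + y)) hΩu * (reflG Q' (pr y (x + y)) hΩu * reflG Q' (pr x y) hu *
          (reflG Q' (pr y (x + y)) hΩu)⁻¹) := by rw [ha, hb, hd]
      _ = (reflG Q' (pr y (x + y)) hΩu * reflG Q' (pr y (x + y)) hΩu) * reflG Q' (pr x y) hu *
          (reflG Q' (pr y (x + y)) hΩu)⁻¹ := by group
      _ = reflG Q' (pr x y) hu * reflG Q' (pr y (x + y)) hΩu := by rw [hs2, one_mul, hinv]
  have key' : (reflG Q' (pr x y) hu * reflG Q' (pr y (x + y)) hΩu) * omgI c2 hf₂ hD =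
      omgI c2 hf₂ hD * (reflG Q' (pr x y) hu * reflG Q' (pr y (x + y)) hΩu) := by
    have := congrArg (fun g => g * omgI c2 hf₂ hD) key
    simp only [inv_mul_cancel_right] at this
    exact this.symm
  exact congrArg (fun g : isometryGroup F ⇑Q' => (g : GL (Fin 2 × Fin n₂) F)) key'

omit [Fintype F] in
theorem g0_notMem (c2 : (2 : F) = 0) {f₂ : (Fin n₂ → F) → (Fin n₂ → F) → F}
    (hf₂ : IsSymplecticForm f₂) {Q' : QuadraticForm F (Fin 2 × Fin n₂ → F)} (hD : TData f₂ Q')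
    {x y z : Fin n₂ → F} (hxy : f₂ x y = 1) (hz0 : z ≠ 0) (hxz : f₂ x z = 0) (hyz : f₂ y z = 0)
    (hu : Q' (pr x y) ≠ 0) (hΩu : Q' (pr y (x + y)) ≠ 0) :
    refl2 Q' (pr x y) (pr y (x + y)) hu hΩu ∉ kroneckerSubgroup 2 n₂ F := by
  rintro ⟨a, b', hM⟩
  obtain ⟨hyx, q1, q2, p1, p2⟩ := facts c2 hf₂ hD hxy
  have hzx : f₂ z x = 0 := by rw [hf₂.skew, hxz, neg_zero]
  have hzy : f₂ z y = 0 := by rw [hf₂.skew, hyz, neg_zero]
  have hact : tp ((a : Matrix (Fin 2) (Fin 2) F) *ᵥ e0)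
      ((b' : Matrix (Fin n₂) (Fin n₂) F) *ᵥ (x + y + z)) =
      reflectionMatrix ⇑Q' (pr x y) *ᵥ (reflectionMatrix ⇑Q' (pr y (x + y)) *ᵥ pr (x + y + z) 0) := by
    rw [← kronecker_mulVec_tp, ← hM, refl2_mulVec, pr_zero_right]
  have e1' : QuadraticMap.polar Q' (pr y (x + y)) (pr (x + y + z) 0) = 0 := by
    rw [hD.polar]
    simp only [hf₂.bilinear.add_left, hf₂.bilinear.add_right, bilin_zero_right hf₂.bilinear,
      hf₂.alternating, hxy, hyx, hzx, hzy]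
    linear_combination c2
  have e2' : QuadraticMap.polar Q' (pr x y) (pr (x + y + z) 0) = 1 := by
    rw [hD.polar]
    simp only [hf₂.bilinear.add_left, bilin_zero_right hf₂.bilinear, hf₂.alternating, hxy, hzy]
    ring
  rw [refl_mulVec_of_orth Q' (pr y (x + y)) (pr (x + y + z) 0) e1', refl_mulVec, e2', q1, inv_one,
    one_mul, one_smul, vsub_eq_add c2, pr_add] at hact
  have h0 := (pr_fst (x + y + z + x) (0 + y)).symm
  have h1 := (pr_snd (x + y + z + x) (0 + y)).symm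
  rw [← hact] at h0 h1
  have t0 : (fun r => tp ((a : Matrix (Fin 2) (Fin 2) F) *ᵥ e0)
      ((b' : Matrix (Fin n₂) (Fin n₂) F) *ᵥ (x + y + z)) (0, r)) =
      ((a : Matrix (Fin 2) (Fin 2) F) *ᵥ e0) 0 • ((b' : Matrix (Fin n₂) (Fin n₂) F) *ᵥ (x + y + z)) := by
    ext r
    simp [tp]
  have t1 : (fun r => tp ((a : Matrix (Fin 2) (Fin 2) F) *ᵥ e0)
      ((b' : Matrix (Fin n₂) (Fin n₂) F) *ᵥ (x + y + z)) (1, r)) =
      ((a : Matrix (Fin 2) (Fin 2) F) *ᵥ e0) 1 • ((b' : Matrix (Fin n₂) (Fin n₂) F) *ᵥ (x + y + z)) := by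
    ext r
    simp [tp]
  rw [t0] at h0
  rw [t1] at h1
  obtain ⟨l0, hl0⟩ : ∃ l0 : F, l0 = ((a : Matrix (Fin 2) (Fin 2) F) *ᵥ e0) 0 := ⟨_, rfl⟩
  obtain ⟨l1, hl1⟩ : ∃ l1 : F, l1 = ((a : Matrix (Fin 2) (Fin 2) F) *ᵥ e0) 1 := ⟨_, rfl⟩
  obtain ⟨bv, hbv⟩ : ∃ bv : Fin n₂ → F, bv = (b' : Matrix (Fin n₂) (Fin n₂) F) *ᵥ (x + y + z) :=
    ⟨_, rfl⟩
  rw [← hl0, ← hbv] at h0
  rw [← hl1, ← hbv] at h1
  -- h0 : x + y + z + x = l0 • bv,  h1 : 0 + y = l1 • bv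
  have E : l1 • (x + y + z + x) = l0 • (0 + y) := by
    rw [h0, h1, smul_comm]
  have hl : l1 = l0 := by
    have := congrArg (fun w => f₂ x w) E
    simp only [hf₂.bilinear.smul_right, hf₂.bilinear.add_right, bilin_zero_right hf₂.bilinear,
      hf₂.alternating, hxy, hxz] at this
    linear_combination this
  have hl1' : l1 ≠ 0 := by
    intro h
    rw [h, zero_smul, zero_add] at h1
    rw [h1, bilin_zero_right hf₂.bilinear] at hxy
    exact zero_ne_one hxy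
  rw [← hl] at E
  have E' : x + y + z + x = 0 + y := by
    have := congrArg (fun w => l1⁻¹ • w) E
    simp only [smul_smul, inv_mul_cancel₀ hl1', one_smul] at this
    exact this
  apply hz0
  ext r
  have := congrFun E' r
  simp only [Pi.add_apply, Pi.zero_apply] at this
  simp only [Pi.zero_apply]
  linear_combination this - (x r) * c2

theorem tau0_mem_omega (c2 : (2 : F) = 0) {f₂ : (Fin n₂ → F) → (Fin n₂ → F) → F}
    (hf₂ : IsSymplecticForm f₂) {Q' : QuadraticForm F (Fin 2 × Fin n₂ → F)} (hD : TData f₂ Q')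
    {x y z : Fin n₂ → F} (hxy : f₂ x y = 1) (hxz : f₂ x z = 0) (hyz : f₂ y z = 0)
    (hu : Q' (pr x y) ≠ 0) (hw : Q' (pr (y + z) (x + y)) ≠ 0) :
    refl2 Q' (pr x y) (pr (y + z) (x + y)) hu hw ∈ omegaGL ⇑Q' := by
  obtain ⟨hyx, q1, q2, p1, p2⟩ := facts c2 hf₂ hD hxy
  have hzx : f₂ z x = 0 := by rw [hf₂.skew, hxz, neg_zero]
  have hzy : f₂ z y = 0 := by rw [hf₂.skew, hyz, neg_zero]
  have qw : Q' (pr (y + z) (x + y)) = 1 := by
    rw [hD.quad]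
    simp only [hf₂.bilinear.add_left, hf₂.bilinear.add_right, hf₂.alternating, hyx, hzx, hzy]
    ring
  have puw : QuadraticMap.polar Q' (pr x y) (pr (y + z) (x + y)) = 1 := by
    rw [hD.polar]
    simp only [hf₂.bilinear.add_left, hf₂.bilinear.add_right, hf₂.alternating, hxy, hzy]
    ring
  apply refl2_mem_omegaGL Q' _ _ hu hw (by rw [q1, qw])
  rw [quad_sub, q1, qw, puw]
  norm_num

omit [Fintype F] in
theorem tau0_notMem (c2 : (2 : F) = 0) {f₂ : (Fin n₂ → F) → (Fin n₂ → F) → F}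
    (hf₂ : IsSymplecticForm f₂) {Q' : QuadraticForm F (Fin 2 × Fin n₂ → F)} (hD : TData f₂ Q')
    {x y z : Fin n₂ → F} (hxy : f₂ x y = 1) (hz0 : z ≠ 0) (hxz : f₂ x z = 0) (hyz : f₂ y z = 0)
    (hu : Q' (pr x y) ≠ 0) (hw : Q' (pr (y + z) (x + y)) ≠ 0) :
    refl2 Q' (pr x y) (pr (y + z) (x + y)) hu hw ∉
      Cfsg.Agent.S5638.extCentralizer (Cfsg.Agent.S5638.omgU c2 n₂) := by
  obtain ⟨hyx, q1, q2, p1, p2⟩ := facts c2 hf₂ hD hxy
  have hzx : f₂ z x = 0 := by rw [hf₂.skew, hxz, neg_zero]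
  have hzy : f₂ z y = 0 := by rw [hf₂.skew, hyz, neg_zero]
  have qw : Q' (pr (y + z) (x + y)) = 1 := by
    rw [hD.quad]
    simp only [hf₂.bilinear.add_left, hf₂.bilinear.add_right, hf₂.alternating, hyx, hzx, hzy]
    ring
  have pwu : QuadraticMap.polar Q' (pr (y + z) (x + y)) (pr x y) = 1 := by
    rw [hD.polar]
    simp only [hf₂.bilinear.add_left, hf₂.bilinear.add_right, hf₂.alternating, hxy, hzy]
    ring
  -- the action on `u`
  have hτu : ((refl2 Q' (pr x y) (pr (y + z) (x + y)) hu hw : GL (Fin 2 × Fin n₂) F) :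
      Matrix (Fin 2 × Fin n₂) (Fin 2 × Fin n₂) F) *ᵥ pr x y =
      pr (x + (y + z) + x) (y + (x + y) + y) := by
    have e1' : QuadraticMap.polar Q' (pr x y) (pr (x + (y + z)) (y + (x + y))) = 1 := by
      rw [hD.polar]
      simp only [hf₂.bilinear.add_left, hf₂.bilinear.add_right, hf₂.alternating, hxy, hyx, hzy]
      linear_combination c2
    rw [refl2_mulVec, refl_mulVec Q' (pr (y + z) (x + y)), pwu, qw, inv_one, one_mul, one_smul,
      vsub_eq_add c2, pr_add, refl_mulVec, e1', q1, inv_one, one_mul, one_smul, vsub_eq_add c2, pr_add]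
  -- the action on `ω u`
  have hτΩu : ((refl2 Q' (pr x y) (pr (y + z) (x + y)) hu hw : GL (Fin 2 × Fin n₂) F) :
      Matrix (Fin 2 × Fin n₂) (Fin 2 × Fin n₂) F) *ᵥ pr y (x + y) = pr (y + x) (x + y + y) := by
    have e1' : QuadraticMap.polar Q' (pr (y + z) (x + y)) (pr y (x + y)) = 0 := by
      rw [hD.polar]
      simp only [hf₂.bilinear.add_left, hf₂.bilinear.add_right, hf₂.alternating, hyx, hzx, hzy]
      linear_combination c2
    rw [refl2_mulVec, refl_mulVec_of_orth Q' (pr (y + z) (x + y)) (pr y (x + y)) e1', refl_mulVec,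
      p1, q1, inv_one, one_mul, one_smul, vsub_eq_add c2, pr_add]
  rintro (h | h)
  · have hm : ((refl2 Q' (pr x y) (pr (y + z) (x + y)) hu hw : GL (Fin 2 × Fin n₂) F) :
        Matrix (Fin 2 × Fin n₂) (Fin 2 × Fin n₂) F) *ᵥ
        (((Cfsg.Agent.S5638.omgU c2 n₂ : GL (Fin 2 × Fin n₂) F) :
          Matrix (Fin 2 × Fin n₂) (Fin 2 × Fin n₂) F) *ᵥ pr x y) =
        ((Cfsg.Agent.S5638.omgU c2 n₂ : GL (Fin 2 × Fin n₂) F) :
          Matrix (Fin 2 × Fin n₂) (Fin 2 × Fin n₂) F) *ᵥ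
        (((refl2 Q' (pr x y) (pr (y + z) (x + y)) hu hw : GL (Fin 2 × Fin n₂) F) :
          Matrix (Fin 2 × Fin n₂) (Fin 2 × Fin n₂) F) *ᵥ pr x y) := by
      rw [Matrix.mulVec_mulVec, Matrix.mulVec_mulVec, ← Units.val_mul, ← Units.val_mul, h.eq]
    rw [omgU_pr, hτΩu, hτu, omgU_pr] at hm
    have E2 := (pr_inj hm).2
    apply hz0
    ext r
    have := congrFun E2 r
    simp only [Pi.add_apply, Pi.zero_apply] at this
    simp only [Pi.zero_apply]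
    linear_combination -this - (x r + y r) * c2
  · have h' : Cfsg.Agent.S5638.omgU c2 n₂ * refl2 Q' (pr x y) (pr (y + z) (x + y)) hu hw *
        Cfsg.Agent.S5638.omgU c2 n₂ = refl2 Q' (pr x y) (pr (y + z) (x + y)) hu hw := by
      rw [mul_assoc, h.eq, ← mul_assoc, mul_inv_cancel, one_mul]
    have hm : ((Cfsg.Agent.S5638.omgU c2 n₂ : GL (Fin 2 × Fin n₂) F) :
          Matrix (Fin 2 × Fin n₂) (Fin 2 × Fin n₂) F) *ᵥ
        (((refl2 Q' (pr x y) (pr (y + z) (x + y)) hu hw : GL (Fin 2 × Fin n₂) F) :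
          Matrix (Fin 2 × Fin n₂) (Fin 2 × Fin n₂) F) *ᵥ
        (((Cfsg.Agent.S5638.omgU c2 n₂ : GL (Fin 2 × Fin n₂) F) :
          Matrix (Fin 2 × Fin n₂) (Fin 2 × Fin n₂) F) *ᵥ pr x y)) =
        ((refl2 Q' (pr x y) (pr (y + z) (x + y)) hu hw : GL (Fin 2 × Fin n₂) F) :
          Matrix (Fin 2 × Fin n₂) (Fin 2 × Fin n₂) F) *ᵥ pr x y := by
      rw [Matrix.mulVec_mulVec, Matrix.mulVec_mulVec, ← Units.val_mul, ← Units.val_mul, h']
    rw [omgU_pr, hτΩu, hτu, omgU_pr] at hm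
    have E2 := (pr_inj hm).2
    have hx0 : x = 0 := by
      ext r
      have := congrFun E2 r
      simp only [Pi.add_apply, Pi.zero_apply] at this
      simp only [Pi.zero_apply]
      linear_combination this
    rw [hx0, bilin_zero_left hf₂.bilinear] at hxy
    exact zero_ne_one hxy

omit [Fintype F] in
/-- The vectors used for the witnesses. -/
theorem exists_xyz (hF : ∀ a : F, a ≠ 0 → a = 1) {f₂ : (Fin n₂ → F) → (Fin n₂ → F) → F}
    (hf₂ : IsSymplecticForm f₂) (h2 : 2 < n₂) :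
    ∃ x y z : Fin n₂ → F, f₂ x y = 1 ∧ z ≠ 0 ∧ f₂ x z = 0 ∧ f₂ y z = 0 := by
  have hx : (Pi.single (⟨0, by omega⟩ : Fin n₂) (1 : F) : Fin n₂ → F) ≠ 0 := by
    intro h
    have := congrFun h ⟨0, by omega⟩
    simp at this
  obtain ⟨y, hy⟩ := (hf₂.nondegenerate _ hx).2
  obtain ⟨x, hxdef⟩ : ∃ x : Fin n₂ → F, x = Pi.single (⟨0, by omega⟩ : Fin n₂) (1 : F) := ⟨_, rfl⟩
  rw [← hxdef] at hy
  have hker : LinearMap.ker (LinearMap.pi (fun i : Fin 2 =>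
      ({ toFun := fun v => f₂ ((![x, y] : Fin 2 → Fin n₂ → F) i) v
         map_add' := fun v v' => hf₂.bilinear.add_right _ v v'
         map_smul' := fun c v => by
          simp only [RingHom.id_apply, smul_eq_mul]
          exact hf₂.bilinear.smul_right c _ v } : (Fin n₂ → F) →ₗ[F] F)) :
      (Fin n₂ → F) →ₗ[F] (Fin 2 → F)) ≠ ⊥ := by
    apply LinearMap.ker_ne_bot_of_finrank_lt
    rw [Module.finrank_fin_fun, Module.finrank_fin_fun]
    exact h2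
  obtain ⟨z, hzker, hz0⟩ := Submodule.exists_mem_ne_zero_of_ne_bot hker
  refine ⟨x, y, z, hF _ hy, hz0, ?_, ?_⟩
  · have := congrFun (LinearMap.mem_ker.mp hzker) 0
    simpa using this
  · have := congrFun (LinearMap.mem_ker.mp hzker) 1
    simpa using this

omit [Fintype F] in
theorem f1_e0_e1 (hF : ∀ a : F, a ≠ 0 → a = 1) {f₁ : (Fin 2 → F) → (Fin 2 → F) → F}
    (hf₁ : IsSymplecticForm f₁) : f₁ e0 e1 = 1 := by
  apply hF
  intro h0
  have he0 : (e0 : Fin 2 → F) ≠ 0 := by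
    intro h
    have := congrFun h 0
    simp [e0] at this
  obtain ⟨x, hx⟩ := (hf₁.nondegenerate e0 he0).1
  apply hx
  have hrep : x = x 0 • e0 + x 1 • e1 := by
    ext i
    fin_cases i <;> simp [e0, e1]
  rw [hrep, hf₁.bilinear.add_left, hf₁.bilinear.smul_left, hf₁.bilinear.smul_left, hf₁.alternating,
    hf₁.skew e1 e0, h0]
  simp

end Main

/-- Let F be the field with 2 elements, n = 2 n₂ ≥ 13 even, Q a non-degenerate quadratic form on F^n of plus type and Ω the commutator subgroup of its isometry group. Suppose that, through P and e, the polar form of Q is similar to the tensor product of non-degenerate symplectic forms f₁ on F^2 and f₂ on F^(n₂), and Q vanishes on the images of all pure tensors. Then the elements of Ω in the stabiliser of this tensor decomposition form a subgroup that is not maximal: some subgroup lies strictly between it and Ω. -/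
theorem result {F : Type*} [Field F] [Fintype F] {n : ℕ} (hn : 13 ≤ n) (heven : Even n) (Q : (Fin n → F) → F) (hQ : Cfsg.Geo.IsNondegenerateQuadraticForm Q) (hplus : Cfsg.Geo.IsPlusTypeOn Q ⊤) (hq : Fintype.card F = 2) (n₂ : ℕ) (h2 : 2 < n₂) (e : (Fin n) ≃ Fin 2 × Fin n₂) (P : Matrix.GeneralLinearGroup (Fin n) F) (f₁ : (Fin 2 → F) → (Fin 2 → F) → F) (f₂ : (Fin n₂ → F) → (Fin n₂ → F) → F) (hf₁ : Cfsg.Geo.IsSymplecticForm f₁) (hf₂ : Cfsg.Geo.IsSymplecticForm f₂) (hT : Cfsg.Geo.IsTensorFormStructure id (QuadraticMap.polar Q) f₁ f₂ e P) (hpure : (∀ (x₁ : Fin 2 → F) (x₂ : Fin n₂ → F), Q (Matrix.mulVec (P : Matrix (Fin n) (Fin n) F) ((fun a : Fin 2 × Fin n₂ => x₁ a.1 * x₂ a.2) ∘ e)) = 0)) : ∃ K : Subgroup (Matrix.GeneralLinearGroup (Fin n) F), Cfsg.Geo.tensorProductSubgroup 2 n₂ e P ⊓ Cfsg.Geo.omegaGL Q < K ∧ K < Cfsg.Geo.omegaGL Q := by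
  have c2 := two_eq_zero_of_card_two hq
  have hF : ∀ a : F, a ≠ 0 → a = 1 := fun a ha => (eq_zero_or_one_of_card_two hq a).resolve_left ha
  obtain ⟨c', hc', hT'⟩ := hT
  have hc1 : c' = 1 := hF c' hc'
  obtain ⟨Q', hQ'⟩ : ∃ Q' : QuadraticForm F (Fin 2 × Fin n₂ → F),
      Q' = qT (qfOfNondeg Q hQ) e P := ⟨_, rfl⟩
  have hpol : ∀ x y, QuadraticMap.polar Q' x y = phiT f₁ f₂ x y := by
    intro x y
    have := hT' x y
    rw [hc1, one_mul] at this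
    rw [hQ', polar_qT]
    exact this
  have hpure' : ∀ (a : Fin 2 → F) (v : Fin n₂ → F), Q' (tp a v) = 0 := by
    intro a v
    rw [hQ', qT_apply]
    exact hpure a v
  have hD : TData f₂ Q' := tdata_mk hf₁ hf₂ Q' hpol hpure' (f1_e0_e1 hF hf₁)
  obtain ⟨x, y, z, hxy, hz0, hxz, hyz⟩ := exists_xyz hF hf₂ h2
  obtain ⟨hyx, q1, q2, p1, p2⟩ := facts c2 hf₂ hD hxy
  have hu : Q' (pr x y) ≠ 0 := by
    rw [q1]
    exact one_ne_zero
  have hΩu : Q' (pr y (x + y)) ≠ 0 := by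
    rw [q2]
    exact one_ne_zero
  have hw : Q' (pr (y + z) (x + y)) ≠ 0 := by
    rw [hD.quad]
    simp only [hf₂.bilinear.add_left, hf₂.bilinear.add_right, hf₂.alternating, hyx,
      hf₂.skew z x, hf₂.skew z y, hxz, hyz]
    simp
  rw [tensorProductSubgroup_eq_map]
  refine transport_not_maximal e P _ (omegaGL ⇑Q')
    (Cfsg.Agent.S5638.extCentralizer (Cfsg.Agent.S5638.omgU c2 n₂)) _ ?_
    (inf_le_left.trans (Cfsg.Agent.S5638.kron_le hq n₂))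
    (refl2 Q' (pr x y) (pr y (x + y)) hu hΩu) (g0_mem_omega c2 hf₂ hD hxy hu hΩu)
    (g0_mem c2 hf₂ hD hxy hu hΩu) (g0_notMem c2 hf₂ hD hxy hz0 hxz hyz hu hΩu)
    (refl2 Q' (pr x y) (pr (y + z) (x + y)) hu hw) (tau0_mem_omega c2 hf₂ hD hxy hxz hyz hu hw)
    (tau0_notMem c2 hf₂ hD hxy hz0 hxz hyz hu hw)
  intro M
  rw [hQ']
  exact transportHom_mem_omegaGL_iff e P Q M

end Cfsg.Agent.S5705
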