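import Cfsg.Statements.S5710
import Cfsg.Agent.S5682

set_option autoImplicit false
open Cfsg

namespace Cfsg.Agent.S5710

/-- Let F be the field with 3 elements, n = 3 n₂ ≥ 13 even, Q a non-degenerate quadratic form on F^n of minus type and Ω the commutator subgroup of its isometry group. Suppose that, through P and e, the polar form of Q is similar to the tensor product of non-degenerate symmetric bilinear forms f₁ on F^3 and f₂ on F^(n₂), n₂ even and at least 4, of minus type. Then the elements of Ω in the stabiliser of this tensor decomposition form a subgroup that is not maximal: some subgroup lies strictly between it and Ω. -/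
theorem result {F : Type*} [Field F] [Fintype F] {n : ℕ} (hn : 13 ≤ n) (heven : Even n) (Q : (Fin n → F) → F) (hQ : Cfsg.Geo.IsNondegenerateQuadraticForm Q) (hminus : ¬ Cfsg.Geo.IsPlusTypeOn Q ⊤) (hq : Fintype.card F = 3) (n₂ : ℕ) (h2 : 4 ≤ n₂) (h2e : Even n₂) (e : (Fin n) ≃ Fin 3 × Fin n₂) (P : Matrix.GeneralLinearGroup (Fin n) F) (f₁ : (Fin 3 → F) → (Fin 3 → F) → F) (f₂ : (Fin n₂ → F) → (Fin n₂ → F) → F) (hf₁ : Cfsg.Geo.IsSymmetricForm f₁) (hf₂ : Cfsg.Geo.IsSymmetricForm f₂) (hf₂m : ¬ Cfsg.Geo.IsPlusTypeOn (fun v : Fin n₂ → F => f₂ v v) ⊤) (hT : Cfsg.Geo.IsTensorFormStructure id (QuadraticMap.polar Q) f₁ f₂ e P) : ∃ K : Subgroup (Matrix.GeneralLinearGroup (Fin n) F), Cfsg.Geo.tensorProductSubgroup 3 n₂ e P ⊓ Cfsg.Geo.omegaGL Q < K ∧ K < Cfsg.Geo.omegaGL Q := by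
  have h3 := Cfsg.Agent.Lib.helper95.three_eq_zero_of_card_three hq
  have h2' := Cfsg.Agent.Lib.helper95.two_ne_zero_of_card_three hq
  obtain ⟨c', hc', hT'⟩ := hT
  obtain ⟨Q', hQ'⟩ : ∃ Q' : QuadraticForm F (Fin 3 × Fin n₂ → F),
      Q' = Cfsg.Agent.Lib.helper95.qT (Cfsg.Agent.Lib.helper95.qfOfNondeg Q hQ) e P := ⟨_, rfl⟩
  have hpol : ∀ x y, QuadraticMap.polar Q' x y = c' * Cfsg.Agent.S5682.phiT f₁ f₂ x y := by
    intro x y
    rw [hQ', Cfsg.Agent.Lib.helper95.polar_qT]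
    exact hT' x y
  obtain ⟨ε, c, hε, hc⟩ := Cfsg.Agent.Lib.helper95.exists_frame3 hq (Cfsg.Agent.S5682.symB_of hf₁)
    (fun w hw => (hf₁.nondegenerate w hw).1) (by simp)
  obtain ⟨u, w, y, huw, hu0, huw0, hy0, hyu, hyw⟩ :=
    Cfsg.Agent.Lib.helper95.exists_orth_triple hq (Cfsg.Agent.S5682.symB_of hf₂)
    (fun w hw => (hf₂.nondegenerate w hw).1) (by simp; omega)
  have hQt : ∀ (x₁ : Fin 3 → F) (x₂ : Fin n₂ → F),
      Q' (Cfsg.Agent.Lib.helper95.tp x₁ x₂) = -(c' * (f₁ x₁ x₁ * f₂ x₂ x₂)) :=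
    Cfsg.Agent.S5682.quad_tp hq hf₁.bilinear hf₂.bilinear Q' hpol
  have hpt := Cfsg.Agent.S5682.polar_tp hf₁.bilinear hf₂.bilinear Q' hpol
  have hU : Q' (Cfsg.Agent.Lib.helper95.tp (c 0) u) ≠ 0 := by
    rw [hQt, hc, if_pos rfl]
    exact neg_ne_zero.mpr (mul_ne_zero hc' (mul_ne_zero hε hu0))
  have hW : Q' (Cfsg.Agent.Lib.helper95.tp (c 0) w) ≠ 0 := by
    rw [hQt, hc, if_pos rfl, ← huw]
    exact neg_ne_zero.mpr (mul_ne_zero hc' (mul_ne_zero hε hu0))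
  have hvalp : f₁ (c 0 + c 1) (c 0 + c 1) = 2 * ε := by
    rw [(Cfsg.Agent.S5682.symB_of hf₁).add_left, (Cfsg.Agent.S5682.symB_of hf₁).add_right,
      (Cfsg.Agent.S5682.symB_of hf₁).add_right, hc, hc, hc, hc]
    simp
    ring
  have hU' : Q' (Cfsg.Agent.Lib.helper95.tp (c 0 + c 1) u) ≠ 0 := by
    rw [hQt, hvalp]
    exact neg_ne_zero.mpr (mul_ne_zero hc' (mul_ne_zero (mul_ne_zero h2' hε) hu0))
  have hW' : Q' (Cfsg.Agent.Lib.helper95.tp (c 0 + c 1) w) ≠ 0 := by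
    rw [hQt, hvalp, ← huw]
    exact neg_ne_zero.mpr (mul_ne_zero hc' (mul_ne_zero (mul_ne_zero h2' hε) hu0))
  rw [Cfsg.Agent.Lib.helper95.tensorProductSubgroup_eq_map]
  refine Cfsg.Agent.Lib.helper95.transport_not_maximal e P _ (Cfsg.Geo.omegaGL ⇑Q')
    (Cfsg.Geo.decompositionStabilizer (Cfsg.Agent.S5682.blocks (n₂ := n₂) c)) _ ?_
    (Cfsg.Agent.S5682.kron_le hq hf₁ hf₂.bilinear Q' hc' hpol c hε hc hu0)
    (Cfsg.Agent.Lib.helper95.refl2 Q' (Cfsg.Agent.Lib.helper95.tp (c 0) u)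
      (Cfsg.Agent.Lib.helper95.tp (c 0) w) hU hW) ?_
    (Cfsg.Agent.S5682.g0_mem hf₁.bilinear hf₂.bilinear Q' hpol c hc u w hU hW)
    (Cfsg.Agent.S5682.g0_notMem hq hf₁ hf₂ Q' hpol c hε hc hu0 huw0 hy0 hyu hyw hU hW)
    (Cfsg.Agent.Lib.helper95.refl2 Q' (Cfsg.Agent.Lib.helper95.tp (c 0 + c 1) u)
      (Cfsg.Agent.Lib.helper95.tp (c 0 + c 1) w) hU' hW') ?_
    (Cfsg.Agent.S5682.tau0_notMem hq hf₁ hf₂ Q' hc' hpol c hε hc hu0 huw0 hy0 hyu hyw hU' hW')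
  · intro M
    rw [hQ']
    exact Cfsg.Agent.Lib.helper95.transportHom_mem_omegaGL_iff e P Q M
  · apply Cfsg.Agent.Lib.helper95.refl2_mem_omegaGL_of_orth h2' Q' _ _ hU hW
    · rw [hQt, hQt, huw]
    · rw [hpt, huw0, mul_zero, mul_zero]
  · apply Cfsg.Agent.Lib.helper95.refl2_mem_omegaGL_of_orth h2' Q' _ _ hU' hW'
    · rw [hQt, hQt, huw]
    · rw [hpt, huw0, mul_zero, mul_zero]

end Cfsg.Agent.S5710
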