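import Mathlib
import Cfsg.Statements.S5713

set_option autoImplicit false
open Cfsg

namespace Cfsg.Agent.S5713


open scoped Pointwise

section basics

variable (G : Type*) {Ω : Type*} [Group G] [MulAction G Ω]

/-- `z` does not distinguish `x` and `y`. -/
def EE (x y z : Ω) : Prop := ∃ g : G, g • x = y ∧ g • z = z

variable {G}

lemma EE_refl (x z : Ω) : EE G x x z := ⟨1, by simp, by simp⟩

lemma EE_symm {x y z : Ω} (h : EE G x y z) : EE G y x z := by
  obtain ⟨g, h1, h2⟩ := h
  refine ⟨g⁻¹, ?_, ?_⟩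
  · rw [← h1, inv_smul_smul]
  · rw [inv_smul_eq_iff, h2]

lemma EE_trans {x y w z : Ω} (h : EE G x y z) (h' : EE G y w z) : EE G x w z := by
  obtain ⟨g, h1, h2⟩ := h
  obtain ⟨g', h1', h2'⟩ := h'
  refine ⟨g' * g, ?_, ?_⟩
  · rw [mul_smul, h1, h1']
  · rw [mul_smul, h2, h2']

lemma EE_smul {x y z : Ω} (h : G) (hE : EE G x y z) : EE G (h • x) (h • y) (h • z) := by
  obtain ⟨g, h1, h2⟩ := hE
  refine ⟨h * g * h⁻¹, ?_, ?_⟩
  · rw [mul_smul, mul_smul, inv_smul_smul, h1]
  · rw [mul_smul, mul_smul, inv_smul_smul, h2]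

lemma EE_smul_iff {x y z : Ω} (h : G) : EE G (h • x) (h • y) (h • z) ↔ EE G x y z := by
  constructor
  · intro hE
    have := EE_smul h⁻¹ hE
    simpa using this
  · exact EE_smul h

/-- connectivity from primitivity -/
lemma conn (hprim : MulAction.IsPreprimitive G Ω) (r : Ω → Ω → Prop)
    (hr : ∀ (g : G) (u v : Ω), r u v → r (g • u) (g • v))
    (u₀ v₀ : Ω) (h0 : r u₀ v₀) (hne : u₀ ≠ v₀)
    (S : Set Ω) (hS : ∀ u v, r u v → (u ∈ S ↔ v ∈ S)) (s : Ω) (hs : s ∈ S) (w : Ω) : w ∈ S := by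
  have hR : ∀ (g : G) (u v : Ω), Relation.EqvGen r u v → Relation.EqvGen r (g • u) (g • v) := by
    intro g u v h
    induction h with
    | rel a b h => exact Relation.EqvGen.rel _ _ (hr g a b h)
    | refl a => exact Relation.EqvGen.refl _
    | symm a b _ ih => exact Relation.EqvGen.symm _ _ ih
    | trans a b c _ _ ih1 ih2 => exact Relation.EqvGen.trans _ _ _ ih1 ih2
  have hmem : ∀ (g : G) (y : Ω), y ∈ g • {w | Relation.EqvGen r u₀ w} ↔ Relation.EqvGen r (g • u₀) y := by
    intro g y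
    rw [Set.mem_smul_set_iff_inv_smul_mem]
    constructor
    · intro h
      have := hR g _ _ h
      simpa using this
    · intro h
      have := hR g⁻¹ _ _ h
      simpa using this
  have hB : MulAction.IsBlock G {w | Relation.EqvGen r u₀ w} := by
    rw [MulAction.isBlock_iff_smul_eq_smul_of_nonempty]
    intro g₁ g₂ hne'
    obtain ⟨y, hy1, hy2⟩ := hne'
    rw [hmem] at hy1 hy2
    ext t
    rw [hmem, hmem]
    constructor
    · intro h
      exact Relation.EqvGen.trans _ _ _ (Relation.EqvGen.trans _ _ _ hy2 (Relation.EqvGen.symm _ _ hy1)) h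
    · intro h
      exact Relation.EqvGen.trans _ _ _ (Relation.EqvGen.trans _ _ _ hy1 (Relation.EqvGen.symm _ _ hy2)) h
  have htriv := hprim.isTrivialBlock_of_isBlock hB
  have huniv : {w | Relation.EqvGen r u₀ w} = Set.univ := by
    rcases htriv with h | h
    · exfalso
      exact hne (h (Relation.EqvGen.refl _) (Relation.EqvGen.rel _ _ h0))
    · exact h
  have hall : ∀ a b, Relation.EqvGen r a b → (a ∈ S ↔ b ∈ S) := by
    intro a b h
    induction h with
    | rel a b h => exact hS a b h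
    | refl a => exact Iff.rfl
    | symm a b _ ih => exact ih.symm
    | trans a b c _ _ ih1 ih2 => exact ih1.trans ih2
  have h1 : Relation.EqvGen r u₀ s := by
    have : s ∈ {w | Relation.EqvGen r u₀ w} := by rw [huniv]; trivial
    exact this
  have h2 : Relation.EqvGen r u₀ w := by
    have : w ∈ {w | Relation.EqvGen r u₀ w} := by rw [huniv]; trivial
    exact this
  exact (hall _ _ (Relation.EqvGen.trans _ _ _ (Relation.EqvGen.symm _ _ h1) h2)).mp hs

end basics


section dist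

variable (G : Type*) {Ω : Type*} [Group G] [MulAction G Ω] [Fintype Ω]

open Classical in
/-- the set of points distinguishing `x` and `y` -/
noncomputable def Dset (x y : Ω) : Finset Ω := Finset.univ.filter (fun z => ¬ EE G x y z)

/-- the number of points distinguishing `x` and `y` -/
noncomputable def dd (x y : Ω) : ℕ := (Dset G x y).card

variable {G}

lemma mem_Dset {x y z : Ω} : z ∈ Dset G x y ↔ ¬ EE G x y z := by
  classical
  simp [Dset]

lemma dd_comm (x y : Ω) : dd G x y = dd G y x := by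
  unfold dd
  congr 1
  ext z
  rw [mem_Dset, mem_Dset]
  exact not_congr ⟨EE_symm, EE_symm⟩

lemma dd_self (x : Ω) : dd G x x = 0 := by
  unfold dd
  rw [Finset.card_eq_zero]
  ext z
  simp only [mem_Dset, Finset.notMem_empty, iff_false, not_not]
  exact EE_refl x z

lemma dd_triangle (x y w : Ω) : dd G x w ≤ dd G x y + dd G y w := by
  classical
  unfold dd
  refine le_trans (Finset.card_le_card ?_) (Finset.card_union_le _ _)
  intro z hz
  rw [mem_Dset] at hz
  rw [Finset.mem_union, mem_Dset, mem_Dset]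
  by_contra hcon
  rw [not_or, not_not, not_not] at hcon
  exact hz (EE_trans hcon.1 hcon.2)

lemma dd_smul (h : G) (x y : Ω) : dd G (h • x) (h • y) = dd G x y := by
  unfold dd
  symm
  refine Finset.card_bij (fun z _ => h • z) ?_ ?_ ?_
  · intro z hz
    rw [mem_Dset] at hz ⊢
    rwa [EE_smul_iff]
  · intro a _ b _ hab
    exact MulAction.injective h hab
  · intro b hb
    refine ⟨h⁻¹ • b, ?_, by simp⟩
    rw [mem_Dset] at hb ⊢
    intro hE
    apply hb
    have := EE_smul h hE
    simpa using this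

lemma left_mem_Dset {x y : Ω} (hxy : x ≠ y) : x ∈ Dset G x y := by
  rw [mem_Dset]
  rintro ⟨g, h1, h2⟩
  exact hxy (h2.symm.trans h1)

lemma right_mem_Dset {x y : Ω} (hxy : x ≠ y) : y ∈ Dset G x y := by
  rw [mem_Dset]
  rintro ⟨g, h1, h2⟩
  apply hxy
  have : g • x = g • y := h1.trans h2.symm
  exact MulAction.injective g this

lemma dd_le_support [DecidableEq Ω] (g : G) (x : Ω) :
    dd G x (g • x) ≤ (Finset.univ.filter (fun z : Ω => g • z ≠ z)).card := by
  unfold dd
  apply Finset.card_le_card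
  intro z hz
  rw [mem_Dset] at hz
  rw [Finset.mem_filter]
  refine ⟨Finset.mem_univ _, ?_⟩
  intro hfix
  exact hz ⟨g, rfl, hfix⟩

end dist


section babai

variable {G : Type*} {Ω : Type*} [Group G] [MulAction G Ω] [Fintype Ω]

/-- key claim: every `u ≠ z` has a neighbour `v` such that `z` distinguishes `u` and `v`. -/
lemma exists_nb_dist (hprim : MulAction.IsPreprimitive G Ω) (δ : ℕ) (x₀ y₀ : Ω) (hne : x₀ ≠ y₀)
    (hδ : dd G x₀ y₀ = δ) (z u : Ω) (huz : u ≠ z) :
    ∃ v, (u ≠ v ∧ dd G u v = δ) ∧ ¬ EE G u v z := by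
  by_contra hcon
  have hcon' : ∀ v, u ≠ v → dd G u v = δ → EE G u v z := by
    intro v h1 h2
    by_contra h3
    exact hcon ⟨v, ⟨h1, h2⟩, h3⟩
  have hr : ∀ (g : G) (a b : Ω), (a ≠ b ∧ dd G a b = δ) → (g • a ≠ g • b ∧ dd G (g • a) (g • b) = δ) := by
    intro g a b h
    refine ⟨fun h' => h.1 (MulAction.injective g h'), ?_⟩
    rw [dd_smul]; exact h.2
  have hstep : ∀ a b : Ω, (a ≠ b ∧ dd G a b = δ) → EE G u a z → EE G u b z := by
    intro a b hab ha
    obtain ⟨g, hg1, hg2⟩ := ha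
    have h1 := hr g⁻¹ a b hab
    rw [← hg1, inv_smul_smul] at h1
    obtain ⟨h, hh1, hh2⟩ := hcon' _ h1.1 h1.2
    refine ⟨g * h, ?_, ?_⟩
    · rw [mul_smul, hh1, smul_inv_smul]
    · rw [mul_smul, hh2, hg2]
  have hS : ∀ a b : Ω, (a ≠ b ∧ dd G a b = δ) → (a ∈ {w | EE G u w z} ↔ b ∈ {w | EE G u w z}) := by
    intro a b hab
    constructor
    · exact hstep a b hab
    · apply hstep b a
      refine ⟨hab.1.symm, ?_⟩
      rw [dd_comm]; exact hab.2
  have hz : z ∈ {w | EE G u w z} :=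
    conn hprim (fun a b => a ≠ b ∧ dd G a b = δ) hr x₀ y₀ ⟨hne, hδ⟩ hne _ hS u (EE_refl u z) z
  obtain ⟨g, hg1, hg2⟩ := hz
  apply huz
  have : g • u = g • z := hg1.trans hg2.symm
  exact MulAction.injective g this

open Classical in
lemma caseA (hprim : MulAction.IsPreprimitive G Ω) (δ : ℕ) (x₀ y₀ : Ω) (hne : x₀ ≠ y₀)
    (hδ : dd G x₀ y₀ = δ)
    (hA : ∀ u : Ω, (Finset.univ.filter (fun v => u ≠ v ∧ dd G u v = δ)).card ≤ 3 * δ) :
    Fintype.card Ω ≤ 3 * δ * δ + 1 := by
  set n := Fintype.card Ω with hn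
  have hnpos : 0 < n := Fintype.card_pos_iff.mpr ⟨x₀⟩
  -- the double count
  have hT1 : ∑ u : Ω, ∑ v ∈ Finset.univ.filter (fun v => u ≠ v ∧ dd G u v = δ), dd G u v
      ≤ n * (3 * δ * δ) := by
    have : ∀ u : Ω, ∑ v ∈ Finset.univ.filter (fun v => u ≠ v ∧ dd G u v = δ), dd G u v ≤ 3 * δ * δ := by
      intro u
      have h1 : ∑ v ∈ Finset.univ.filter (fun v => u ≠ v ∧ dd G u v = δ), dd G u v
          = ∑ v ∈ Finset.univ.filter (fun v => u ≠ v ∧ dd G u v = δ), δ := by
        apply Finset.sum_congr rfl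
        intro v hv
        exact (Finset.mem_filter.mp hv).2.2
      rw [h1, Finset.sum_const, smul_eq_mul]
      exact Nat.mul_le_mul_right δ (hA u)
    calc ∑ u : Ω, ∑ v ∈ Finset.univ.filter (fun v => u ≠ v ∧ dd G u v = δ), dd G u v
        ≤ ∑ u : Ω, 3 * δ * δ := Finset.sum_le_sum (fun u _ => this u)
      _ = n * (3 * δ * δ) := by rw [Finset.sum_const, smul_eq_mul, Finset.card_univ]
  have hT2 : n * (n - 1) ≤ ∑ u : Ω, ∑ v ∈ Finset.univ.filter (fun v => u ≠ v ∧ dd G u v = δ), dd G u v := by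
    have h1 : ∀ u v : Ω, dd G u v = ∑ z : Ω, if ¬ EE G u v z then 1 else 0 := by
      intro u v
      unfold dd Dset
      rw [Finset.card_filter]
    have h2 : ∑ u : Ω, ∑ v ∈ Finset.univ.filter (fun v => u ≠ v ∧ dd G u v = δ), dd G u v
        = ∑ z : Ω, ∑ u : Ω, ∑ v ∈ Finset.univ.filter (fun v => u ≠ v ∧ dd G u v = δ),
            (if ¬ EE G u v z then 1 else 0) := by
      rw [Finset.sum_comm]
      apply Finset.sum_congr rfl
      intro u _
      rw [Finset.sum_comm]
      apply Finset.sum_congr rfl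
      intro v _
      exact h1 u v
    rw [h2]
    have h3 : ∀ z : Ω, n - 1 ≤ ∑ u : Ω, ∑ v ∈ Finset.univ.filter (fun v => u ≠ v ∧ dd G u v = δ),
            (if ¬ EE G u v z then 1 else 0) := by
      intro z
      have h4 : ∑ u ∈ Finset.univ.erase z, 1 ≤ ∑ u ∈ Finset.univ.erase z,
          ∑ v ∈ Finset.univ.filter (fun v => u ≠ v ∧ dd G u v = δ), (if ¬ EE G u v z then 1 else 0) := by
        apply Finset.sum_le_sum
        intro u hu
        have huz : u ≠ z := Finset.ne_of_mem_erase hu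
        obtain ⟨v, hv1, hv2⟩ := exists_nb_dist hprim δ x₀ y₀ hne hδ z u huz
        have hvm : v ∈ Finset.univ.filter (fun v => u ≠ v ∧ dd G u v = δ) :=
          Finset.mem_filter.mpr ⟨Finset.mem_univ _, hv1⟩
        calc 1 = (if ¬ EE G u v z then 1 else 0) := by rw [if_pos hv2]
          _ ≤ _ := Finset.single_le_sum (f := fun v => if ¬ EE G u v z then 1 else 0)
                (fun i _ => Nat.zero_le _) hvm
      have h5 : ∑ u ∈ Finset.univ.erase z, 1 = n - 1 := by
        rw [Finset.sum_const, smul_eq_mul, mul_one, Finset.card_erase_of_mem (Finset.mem_univ z),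
          Finset.card_univ]
      rw [← h5]
      refine le_trans h4 ?_
      apply Finset.sum_le_sum_of_subset
      exact Finset.erase_subset _ _
    calc n * (n - 1) = ∑ z : Ω, (n - 1) := by rw [Finset.sum_const, smul_eq_mul, Finset.card_univ]
      _ ≤ _ := Finset.sum_le_sum (fun z _ => h3 z)
  have h6 : n * (n - 1) ≤ n * (3 * δ * δ) := le_trans hT2 hT1
  have h7 : n - 1 ≤ 3 * δ * δ := Nat.le_of_mul_le_mul_left h6 hnpos
  omega


open Classical in
lemma caseB1 (hprim : MulAction.IsPreprimitive G Ω) (δ : ℕ) (x₀ y₀ : Ω) (hne : x₀ ≠ y₀)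
    (hδ : dd G x₀ y₀ = δ) (x : Ω)
    (hx : 3 * δ < (Finset.univ.filter (fun v => x ≠ v ∧ dd G x v = δ)).card) :
    ∀ u v : Ω, dd G u v ≤ 2 * δ := by
  have hr : ∀ (g : G) (a b : Ω), (a ≠ b ∧ dd G a b = δ) → (g • a ≠ g • b ∧ dd G (g • a) (g • b) = δ) := by
    intro g a b h
    refine ⟨fun h' => h.1 (MulAction.injective g h'), ?_⟩
    rw [dd_smul]; exact h.2
  have hsymm : ∀ a b : Ω, (a ≠ b ∧ dd G a b = δ) → (b ≠ a ∧ dd G b a = δ) := by
    intro a b h
    refine ⟨h.1.symm, ?_⟩
    rw [dd_comm]; exact h.2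
  set S : Set Ω := {w | w = x ∨ (x ≠ w ∧ dd G x w = δ) ∨ ∃ y, (x ≠ y ∧ dd G x y = δ) ∧ (y ≠ w ∧ dd G y w = δ)}
    with hSdef
  have hbound : ∀ w, w ∈ S → dd G x w ≤ 2 * δ := by
    intro w hw
    rcases hw with rfl | h | ⟨y, h1, h2⟩
    · rw [dd_self]; exact Nat.zero_le _
    · rw [h.2]; omega
    · have := dd_triangle (G := G) x y w
      rw [h1.2, h2.2] at this
      omega
  have hstep : ∀ a b : Ω, (a ≠ b ∧ dd G a b = δ) → a ∈ S → b ∈ S := by
    intro a b hab ha
    by_contra hb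
    have h1 : dd G x b ≤ 3 * δ := by
      have := dd_triangle (G := G) x a b
      have h2 := hbound a ha
      rw [hab.2] at this
      omega
    have hsub : Finset.univ.filter (fun v => x ≠ v ∧ dd G x v = δ) ⊆ Dset G x b := by
      intro z hz
      rw [Finset.mem_filter] at hz
      rw [mem_Dset]
      rintro ⟨g, hg1, hg2⟩
      have h3 : dd G b z = δ := by
        rw [← hg1]
        conv_lhs => rw [← hg2]
        rw [dd_smul]
        exact hz.2.2
      have hbz : b ≠ z := by
        intro hbz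
        apply hb
        right; left
        rw [hbz]
        exact hz.2
      apply hb
      right; right
      exact ⟨z, hz.2, hsymm b z ⟨hbz, h3⟩⟩
    have := Finset.card_le_card hsub
    unfold dd at h1
    omega
  have hS : ∀ a b : Ω, (a ≠ b ∧ dd G a b = δ) → (a ∈ S ↔ b ∈ S) := by
    intro a b hab
    exact ⟨hstep a b hab, hstep b a (hsymm a b hab)⟩
  have hall : ∀ w, w ∈ S := by
    intro w
    exact conn hprim (fun a b => a ≠ b ∧ dd G a b = δ) hr x₀ y₀ ⟨hne, hδ⟩ hne S hS x (Or.inl rfl) w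
  intro u v
  have : MulAction.IsPretransitive G Ω := hprim.toIsPretransitive
  obtain ⟨g, hg⟩ := MulAction.exists_smul_eq G x u
  have h1 : dd G u v = dd G x (g⁻¹ • v) := by
    rw [← hg, ← dd_smul g x (g⁻¹ • v), smul_inv_smul]
  rw [h1]
  exact hbound _ (hall _)


open Classical in
lemma caseB2 (hprim : MulAction.IsPreprimitive G Ω)
    (h2 : ¬ ∀ x a b : Ω, a ≠ x → b ≠ x → ∃ g : G, g • x = x ∧ g • a = b)
    (M : ℕ) (hM : ∀ u v : Ω, dd G u v ≤ M) :
    Fintype.card Ω + M + 1 ≤ M * M := by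
  have : MulAction.IsPretransitive G Ω := hprim.toIsPretransitive
  set n := Fintype.card Ω with hn
  have hex : ∃ x₁ a₁ b₁ : Ω, a₁ ≠ x₁ ∧ b₁ ≠ x₁ ∧ ¬ ∃ g : G, g • x₁ = x₁ ∧ g • a₁ = b₁ := by
    by_contra hc
    apply h2
    intro x a b ha hb
    by_contra hg
    exact hc ⟨x, a, b, ha, hb, hg⟩
  obtain ⟨x, a₁, b₁, ha₁, hb₁, hno⟩ := hex
  -- the dominant suborbit
  set s : Finset Ω := Finset.univ.erase x with hs
  have hsne : s.Nonempty := ⟨a₁, Finset.mem_erase.mpr ⟨ha₁, Finset.mem_univ _⟩⟩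
  have key : ∑ y ∈ s, (s.filter (fun z => EE G x y z)).card
      = ∑ z ∈ s, (s.filter (fun y => EE G x y z)).card :=
    Finset.sum_card_bipartiteAbove_eq_sum_card_bipartiteBelow (fun y z => EE G x y z)
  have hy : ∀ y ∈ s, n - M ≤ (s.filter (fun z => EE G x y z)).card := by
    intro y hy
    have hyx : y ≠ x := Finset.ne_of_mem_erase hy
    have hsub : (Finset.univ : Finset Ω) ⊆ s.filter (fun z => EE G x y z) ∪ Dset G x y := by
      intro z _
      rw [Finset.mem_union, Finset.mem_filter, mem_Dset]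
      by_cases hE : EE G x y z
      · left
        refine ⟨?_, hE⟩
        rw [hs, Finset.mem_erase]
        refine ⟨?_, Finset.mem_univ _⟩
        rintro rfl
        obtain ⟨g, hg1, hg2⟩ := hE
        exact hyx (hg1.symm.trans hg2)
      · right; exact hE
    have h1 := Finset.card_le_card hsub
    have h2 := Finset.card_union_le (s.filter (fun z => EE G x y z)) (Dset G x y)
    have h3 := hM x y
    unfold dd at h3
    rw [Finset.card_univ] at h1
    omega
  have hsum : ∑ z ∈ s, (n - M) ≤ ∑ z ∈ s, (s.filter (fun y => EE G x y z)).card := by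
    rw [← key]
    exact Finset.sum_le_sum hy
  obtain ⟨β, hβs, hβ⟩ := Finset.exists_le_of_sum_le hsne hsum
  have hβx : β ≠ x := Finset.ne_of_mem_erase hβs
  -- orbital sets
  set Γ : Ω → Finset Ω := fun u => Finset.univ.filter (fun w => ∃ g : G, g • β = u ∧ g • x = w) with hΓ
  have memΓ : ∀ u w, w ∈ Γ u ↔ ∃ g : G, g • β = u ∧ g • x = w := by
    intro u w
    simp [hΓ]
  have hK : n + 1 ≤ (Γ β).card + M := by
    have hsub : insert x (s.filter (fun y => EE G x y β)) ⊆ Γ β := by
      intro w hw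
      rw [Finset.mem_insert] at hw
      rw [memΓ]
      rcases hw with rfl | hw
      · exact ⟨1, one_smul _ _, one_smul _ _⟩
      · obtain ⟨g, hg1, hg2⟩ := (Finset.mem_filter.mp hw).2
        exact ⟨g, hg2, hg1⟩
    have h1 := Finset.card_le_card hsub
    have hxn : x ∉ s.filter (fun y => EE G x y β) := by
      intro hx
      have := (Finset.mem_filter.mp hx).1
      rw [hs] at this
      exact (Finset.ne_of_mem_erase this) rfl
    rw [Finset.card_insert_of_notMem hxn] at h1
    omega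
  have hΓsmul : ∀ (h : G) (u w : Ω), w ∈ Γ u → h • w ∈ Γ (h • u) := by
    intro h u w hw
    rw [memΓ] at hw ⊢
    obtain ⟨g, hg1, hg2⟩ := hw
    exact ⟨h * g, by rw [mul_smul, hg1], by rw [mul_smul, hg2]⟩
  have hΓiff : ∀ (h : G) (u w : Ω), w ∈ Γ (h • u) ↔ h⁻¹ • w ∈ Γ u := by
    intro h u w
    constructor
    · intro hw
      have := hΓsmul h⁻¹ _ _ hw
      rwa [inv_smul_smul] at this
    · intro hw
      have := hΓsmul h _ _ hw
      rwa [smul_inv_smul] at this
  have hΓcard : ∀ u, (Γ u).card = (Γ β).card := by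
    intro u
    obtain ⟨h, hh⟩ := MulAction.exists_smul_eq G β u
    symm
    refine Finset.card_bij (fun w _ => h • w) ?_ ?_ ?_
    · intro w hw
      rw [← hh]
      exact hΓsmul h _ _ hw
    · intro a _ b _ hab
      exact MulAction.injective h hab
    · intro b hb
      refine ⟨h⁻¹ • b, ?_, smul_inv_smul _ _⟩
      rw [← hh, hΓiff] at hb
      exact hb
  -- a point outside the dominant suborbit
  have hexa : ∃ a, a ≠ β ∧ a ∉ Γ β := by
    by_contra hc
    have hc' : ∀ a, a ≠ β → a ∈ Γ β := by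
      intro a ha
      by_contra h
      exact hc ⟨a, ha, h⟩
    obtain ⟨h, hh⟩ := MulAction.exists_smul_eq G x β
    have h1 : h • a₁ ≠ β := by
      rw [← hh]; exact fun h' => ha₁ (MulAction.injective h h')
    have h2' : h • b₁ ≠ β := by
      rw [← hh]; exact fun h' => hb₁ (MulAction.injective h h')
    obtain ⟨g₁, hg1, hg1'⟩ := (memΓ _ _).mp (hc' _ h1)
    obtain ⟨g₂, hg2, hg2'⟩ := (memΓ _ _).mp (hc' _ h2')
    apply hno
    refine ⟨h⁻¹ * g₂ * g₁⁻¹ * h, ?_, ?_⟩
    · rw [mul_smul, mul_smul, mul_smul, hh, inv_smul_eq_iff.mpr hg1.symm, hg2, ← hh, inv_smul_smul]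
    · rw [mul_smul, mul_smul, mul_smul, ← hg1', inv_smul_smul, hg2', inv_smul_smul]
  obtain ⟨a, haβ, haΓ⟩ := hexa
  set Oa : Finset Ω := Finset.univ.filter (fun w => ∃ g : G, g • β = β ∧ g • a = w) with hOa
  have memOa : ∀ w, w ∈ Oa ↔ ∃ g : G, g • β = β ∧ g • a = w := by
    intro w
    simp [hOa]
  have hxΓ : x ∈ Γ β := (memΓ _ _).mpr ⟨1, one_smul _ _, one_smul _ _⟩
  -- a point of `Oa` whose `Γ` misses `x`
  have hv₁ : ∃ v₁ ∈ Oa, x ∉ Γ v₁ := by
    by_contra hcon
    have hcon' : ∀ v ∈ Oa, x ∈ Γ v := by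
      intro v hv
      by_contra h
      exact hcon ⟨v, hv, h⟩
    have hsub : Γ β ⊆ Γ a := by
      intro w hw
      obtain ⟨h, hh1, hh2⟩ := (memΓ _ _).mp hw
      have h1 : h⁻¹ • a ∈ Oa := by
        rw [memOa]
        exact ⟨h⁻¹, by rw [inv_smul_eq_iff, hh1], rfl⟩
      have h2' := hΓsmul h _ _ (hcon' _ h1)
      rwa [smul_inv_smul, hh2] at h2'
    have heq : Γ β = Γ a := Finset.eq_of_subset_of_card_le hsub (by rw [hΓcard a])
    have hr : ∀ (g : G) (u v : Ω), (∃ k : G, k • β = u ∧ k • a = v) →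
        (∃ k : G, k • β = g • u ∧ k • a = g • v) := by
      rintro g u v ⟨k, hk1, hk2⟩
      exact ⟨g * k, by rw [mul_smul, hk1], by rw [mul_smul, hk2]⟩
    have hS : ∀ u v : Ω, (∃ k : G, k • β = u ∧ k • a = v) →
        (u ∈ {v | Γ v = Γ β} ↔ v ∈ {v | Γ v = Γ β}) := by
      rintro u v ⟨k, hk1, hk2⟩
      have huv : Γ u = Γ v := by
        ext w
        rw [← hk1, ← hk2, hΓiff, hΓiff, heq]
      show Γ u = Γ β ↔ Γ v = Γ β
      rw [huv]
    have hxS : x ∈ {v | Γ v = Γ β} :=
      conn hprim (fun u v => ∃ k : G, k • β = u ∧ k • a = v) hr β a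
        ⟨1, one_smul _ _, one_smul _ _⟩ haβ.symm _ hS β rfl x
    have hxx : x ∈ Γ x := by
      have : Γ x = Γ β := hxS
      rw [this]; exact hxΓ
    obtain ⟨g, hg1, hg2⟩ := (memΓ _ _).mp hxx
    apply hβx
    have : g • β = g • x := hg1.trans hg2.symm
    exact MulAction.injective g this
  obtain ⟨v₁, hv₁O, hv₁x⟩ := hv₁
  -- the union bound
  have hB6 : (Γ β).card ≤ Oa.card * M := by
    have hsub : Γ β ⊆ Oa.biUnion (fun v => Γ β \ Γ v) := by
      intro w hw
      obtain ⟨h, hh1, hh2⟩ := (memΓ _ _).mp hw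
      rw [Finset.mem_biUnion]
      refine ⟨h • v₁, ?_, ?_⟩
      · obtain ⟨g, hg1, hg2⟩ := (memOa _).mp hv₁O
        rw [memOa]
        exact ⟨h * g, by rw [mul_smul, hg1, hh1], by rw [mul_smul, hg2]⟩
      · rw [Finset.mem_sdiff]
        refine ⟨hw, ?_⟩
        intro hcon
        rw [hΓiff, ← hh2, inv_smul_smul] at hcon
        exact hv₁x hcon
    have h1 := Finset.card_le_card hsub
    have h2' : (Oa.biUnion (fun v => Γ β \ Γ v)).card ≤ ∑ v ∈ Oa, (Γ β \ Γ v).card :=
      Finset.card_biUnion_le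
    have h3 : ∑ v ∈ Oa, (Γ β \ Γ v).card ≤ ∑ v ∈ Oa, M := by
      apply Finset.sum_le_sum
      intro v _
      have hsub' : Γ β \ Γ v ⊆ Dset G β v := by
        intro z hz
        rw [Finset.mem_sdiff] at hz
        rw [mem_Dset]
        rintro ⟨g, hg1, hg2⟩
        have := hΓsmul g _ _ hz.1
        rw [hg1, hg2] at this
        exact hz.2 this
      have h4 := Finset.card_le_card hsub'
      have h5 := hM β v
      unfold dd at h5
      omega
    rw [Finset.sum_const, smul_eq_mul] at h3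
    omega
  -- disjointness
  have hB7 : (Γ β).card + Oa.card + 1 ≤ n := by
    have hdisj : Disjoint (Γ β) Oa := by
      rw [Finset.disjoint_left]
      intro w hw1 hw2
      obtain ⟨g₁, hg1, hg1'⟩ := (memΓ _ _).mp hw1
      obtain ⟨g₂, hg2, hg2'⟩ := (memOa _).mp hw2
      apply haΓ
      rw [memΓ]
      refine ⟨g₂⁻¹ * g₁, ?_, ?_⟩
      · rw [mul_smul, hg1, inv_smul_eq_iff, hg2]
      · rw [mul_smul, hg1', inv_smul_eq_iff, hg2']
    have hβn : β ∉ Γ β ∪ Oa := by
      rw [Finset.mem_union]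
      rintro (h | h)
      · obtain ⟨g, hg1, hg2⟩ := (memΓ _ _).mp h
        apply hβx
        have : g • β = g • x := hg1.trans hg2.symm
        exact MulAction.injective g this
      · obtain ⟨g, hg1, hg2⟩ := (memOa _).mp h
        apply haβ
        have : g • a = g • β := hg2.trans hg1.symm
        exact MulAction.injective g this
    have h1 : (insert β (Γ β ∪ Oa)).card ≤ n := by
      rw [hn, ← Finset.card_univ]
      exact Finset.card_le_card (Finset.subset_univ _)
    rw [Finset.card_insert_of_notMem hβn, Finset.card_union_of_disjoint hdisj] at h1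
    exact h1
  have h8 : Oa.card + 2 ≤ M := by omega
  have h9 := Nat.mul_le_mul_right M h8
  nlinarith

end babai



lemma comm_three_cycle {α : Type*} [DecidableEq α] [Fintype α] (σ τ : Equiv.Perm α) (x : α)
    (hσ : σ x ≠ x) (hτ : τ x ≠ x) (hdis : ∀ y, σ y ≠ y → τ y ≠ y → y = x) :
    (σ⁻¹ * τ⁻¹ * σ * τ).IsThreeCycle := by
  have h1 : ∀ y, σ⁻¹ (σ y) = y := fun y => σ.symm_apply_apply y
  have h2 : ∀ y, σ (σ⁻¹ y) = y := fun y => σ.apply_symm_apply y
  have h3 : ∀ y, τ⁻¹ (τ y) = y := fun y => τ.symm_apply_apply y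
  have h4 : ∀ y, τ (τ⁻¹ y) = y := fun y => τ.apply_symm_apply y
  have hσi := σ.injective
  have hτi := τ.injective
  have fσ : ∀ y, y ≠ x → τ y ≠ y → σ y = y := by
    intro y hy ht
    by_contra hs
    exact hy (hdis y hs ht)
  have fτ : ∀ y, y ≠ x → σ y ≠ y → τ y = y := by
    intro y hy hs
    by_contra ht
    exact hy (hdis y hs ht)
  have gσ : ∀ y, σ y = y → σ⁻¹ y = y := by
    intro y hy
    have := h1 y
    rw [hy] at this
    exact this
  have gτ : ∀ y, τ y = y → τ⁻¹ y = y := by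
    intro y hy
    have := h3 y
    rw [hy] at this
    exact this
  have hpx : σ⁻¹ x ≠ x := by
    intro h
    apply hσ
    have := h2 x
    rw [h] at this
    exact this
  have hqx : τ⁻¹ x ≠ x := by
    intro h
    apply hτ
    have := h4 x
    rw [h] at this
    exact this
  have hτp : τ (σ⁻¹ x) = σ⁻¹ x := by
    apply fτ _ hpx
    rw [h2]; exact fun h' => hpx h'.symm
  have hσq : σ (τ⁻¹ x) = τ⁻¹ x := by
    apply fσ _ hqx
    rw [h4]; exact fun h' => hqx h'.symm
  have hpq : σ⁻¹ x ≠ τ⁻¹ x := by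
    intro h
    apply hpx
    have := h2 x
    rw [h, hσq] at this
    rw [h]; exact this
  have hcp : σ⁻¹ (τ⁻¹ (σ (τ (σ⁻¹ x)))) = τ⁻¹ x := by
    rw [hτp, h2, gσ _ hσq]
  have hcq : σ⁻¹ (τ⁻¹ (σ (τ (τ⁻¹ x)))) = x := by
    have hs : τ (σ x) = σ x := by
      apply fτ _ hσ
      exact fun h' => hσ (hσi h')
    rw [h4, gτ _ hs, h1]
  have hcx : σ⁻¹ (τ⁻¹ (σ (τ x))) = σ⁻¹ x := by
    have ht : σ (τ x) = τ x := by
      apply fσ _ hτ
      exact fun h' => hτ (hτi h')
    rw [ht, h3]
  have hco : ∀ y, y ≠ σ⁻¹ x → y ≠ τ⁻¹ x → y ≠ x → σ⁻¹ (τ⁻¹ (σ (τ y))) = y := by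
    intro y hy1 hy2 hy3
    by_cases hs : σ y = y
    · by_cases ht : τ y = y
      · rw [ht, hs, gτ _ ht, gσ _ hs]
      · have h5 : τ y ≠ x := by
          intro h
          apply hy2
          rw [← h, h3]
        have h6 : σ (τ y) = τ y := by
          apply fσ _ h5
          exact fun h' => ht (hτi h')
        rw [h6, h3, gσ _ hs]
    · have ht : τ y = y := fτ y hy3 hs
      have h5 : σ y ≠ x := by
        intro h
        apply hy1
        rw [← h, h1]
      have h6 : τ (σ y) = σ y := by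
        apply fτ _ h5
        exact fun h' => hs (hσi h')
      rw [ht, gτ _ h6, h1]
  have heq : σ⁻¹ * τ⁻¹ * σ * τ = Equiv.swap (σ⁻¹ x) x * Equiv.swap (σ⁻¹ x) (τ⁻¹ x) := by
    ext y
    simp only [Equiv.Perm.mul_apply]
    by_cases hy1 : y = σ⁻¹ x
    · rw [hy1, hcp, Equiv.swap_apply_left, Equiv.swap_apply_of_ne_of_ne (fun h => hpq h.symm) hqx]
    · by_cases hy2 : y = τ⁻¹ x
      · rw [hy2, hcq, Equiv.swap_apply_right, Equiv.swap_apply_left]
      · by_cases hy3 : y = x
        · rw [hy3, hcx, Equiv.swap_apply_of_ne_of_ne (fun h => hpx h.symm) (fun h => hqx h.symm),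
            Equiv.swap_apply_right]
        · rw [hco y hy1 hy2 hy3, Equiv.swap_apply_of_ne_of_ne hy1 hy2,
            Equiv.swap_apply_of_ne_of_ne hy1 hy3]
  rw [heq]
  exact Equiv.Perm.isThreeCycle_swap_mul_swap_same hpx hpq (fun h => hqx h.symm)



lemma two_trans_move {G : Type*} {Ω : Type*} [Group G] [MulAction G Ω] [Fintype Ω] [Finite G]
    [DecidableEq Ω]
    (h2T : ∀ x a b : Ω, a ≠ x → b ≠ x → ∃ k : G, k • x = x ∧ k • a = b)
    (x : Ω) (T : Finset Ω) (hxT : x ∉ T) (hT : T.card * T.card + 1 < Fintype.card Ω) :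
    ∃ k : G, k • x = x ∧ ∀ a ∈ T, k • a ∉ T := by
  classical
  have := Fintype.ofFinite G
  have hn1 : 1 < Fintype.card Ω := by omega
  obtain ⟨a₀, ha₀⟩ := Fintype.exists_ne_of_one_lt_card hn1 x
  have hex : ∀ b : Ω, ∃ k : G, b ≠ x → (k • x = x ∧ k • a₀ = b) := by
    intro b
    by_cases hb : b = x
    · exact ⟨1, fun h => absurd hb h⟩
    · obtain ⟨k, hk⟩ := h2T x a₀ b ha₀ hb
      exact ⟨k, fun _ => hk⟩
  choose p hp using hex
  have hpinv : ∀ b : Ω, b ≠ x → (p b)⁻¹ • x = x := by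
    intro b hb
    rw [inv_smul_eq_iff, (hp b hb).1]
  have hpinv' : ∀ b : Ω, b ≠ x → (p b)⁻¹ • b = a₀ := by
    intro b hb
    rw [inv_smul_eq_iff, (hp b hb).2]
  by_contra hcon
  have hcon' : ∀ k : G, k • x = x → ∃ a ∈ T, k • a ∈ T := by
    intro k hk
    by_contra h
    apply hcon
    refine ⟨k, hk, ?_⟩
    intro a ha hka
    exact h ⟨a, ha, hka⟩
  set A₀ : Finset G := Finset.univ.filter (fun k : G => k • x = x ∧ k • a₀ = a₀) with hA₀
  set Gx : Finset G := Finset.univ.filter (fun k : G => k • x = x) with hGx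
  have hA₀pos : 1 ≤ A₀.card := by
    apply Finset.card_pos.mpr
    exact ⟨1, Finset.mem_filter.mpr ⟨Finset.mem_univ _, one_smul _ _, one_smul _ _⟩⟩
  have h1 : Gx.card ≤ (T.card * T.card) * A₀.card := by
    have hsub : Gx ⊆ ((T ×ˢ T) ×ˢ A₀).image (fun q : (Ω × Ω) × G => p q.1.2 * q.2 * (p q.1.1)⁻¹) := by
      intro k hk
      have hkx : k • x = x := (Finset.mem_filter.mp hk).2
      obtain ⟨a, ha, hka⟩ := hcon' k hkx
      have hax : a ≠ x := fun h => hxT (h ▸ ha)
      have hbx : k • a ≠ x := fun h => hxT (h ▸ hka)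
      rw [Finset.mem_image]
      refine ⟨((a, k • a), (p (k • a))⁻¹ * k * p a), ?_, ?_⟩
      · rw [Finset.mem_product, Finset.mem_product]
        refine ⟨⟨ha, hka⟩, ?_⟩
        rw [hA₀, Finset.mem_filter]
        refine ⟨Finset.mem_univ _, ?_, ?_⟩
        · rw [mul_smul, mul_smul, (hp a hax).1, hkx, hpinv _ hbx]
        · rw [mul_smul, mul_smul, (hp a hax).2, hpinv' _ hbx]
      · simp only
        group
    have := Finset.card_le_card hsub
    have h2 := Finset.card_image_le (s := (T ×ˢ T) ×ˢ A₀)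
      (f := fun q : (Ω × Ω) × G => p q.1.2 * q.2 * (p q.1.1)⁻¹)
    rw [Finset.card_product, Finset.card_product] at h2
    omega
  have h2 : (Fintype.card Ω - 1) * A₀.card ≤ Gx.card := by
    have h3 : ((Finset.univ.erase x) ×ˢ A₀).card ≤ Gx.card := by
      apply Finset.card_le_card_of_injOn (fun q : Ω × G => p q.1 * q.2)
      · intro q hq
        rw [Finset.mem_coe, Finset.mem_product] at hq
        have hq1 : q.1 ≠ x := Finset.ne_of_mem_erase hq.1
        have hq2 := (Finset.mem_filter.mp hq.2).2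
        rw [Finset.mem_coe, hGx, Finset.mem_filter]
        refine ⟨Finset.mem_univ _, ?_⟩
        rw [mul_smul, hq2.1, (hp _ hq1).1]
      · intro q hq q' hq' heq
        rw [Finset.mem_coe, Finset.mem_product] at hq hq'
        have hq1 : q.1 ≠ x := Finset.ne_of_mem_erase hq.1
        have hq2 := (Finset.mem_filter.mp hq.2).2
        have hq1' : q'.1 ≠ x := Finset.ne_of_mem_erase hq'.1
        have hq2' := (Finset.mem_filter.mp hq'.2).2
        simp only at heq
        have h4 : (p q.1 * q.2) • a₀ = (p q'.1 * q'.2) • a₀ := by rw [heq]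
        rw [mul_smul, mul_smul, hq2.2, hq2'.2, (hp _ hq1).2, (hp _ hq1').2] at h4
        have h5 : q.2 = q'.2 := by
          rw [h4] at heq
          exact mul_left_cancel heq
        exact Prod.ext h4 h5
    rw [Finset.card_product, Finset.card_erase_of_mem (Finset.mem_univ x), Finset.card_univ] at h3
    exact h3
  have h3 : T.card * T.card < Fintype.card Ω - 1 := by omega
  have h4 : (T.card * T.card) * A₀.card < (Fintype.card Ω - 1) * A₀.card :=
    Nat.mul_lt_mul_of_pos_right h3 hA₀pos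
  omega


section babai2

variable {G : Type*} {Ω : Type*} [Group G] [MulAction G Ω] [Fintype Ω]

open Classical in
/-- Babai's bound on the distinguishing number, uniprimitive case. -/
theorem babai (hprim : MulAction.IsPreprimitive G Ω)
    (h2 : ¬ ∀ x a b : Ω, a ≠ x → b ≠ x → ∃ g : G, g • x = x ∧ g • a = b)
    (x₀ y₀ : Ω) (hne : x₀ ≠ y₀) :
    Fintype.card Ω ≤ (2 * dd G x₀ y₀ + 1) ^ 2 := by
  set δ := dd G x₀ y₀ with hδ
  by_cases hA : ∀ u : Ω, (Finset.univ.filter (fun v => u ≠ v ∧ dd G u v = δ)).card ≤ 3 * δ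
  · have := caseA hprim δ x₀ y₀ hne hδ.symm hA
    nlinarith
  · have hex : ∃ x : Ω, 3 * δ < (Finset.univ.filter (fun v => x ≠ v ∧ dd G x v = δ)).card := by
      by_contra hc
      apply hA
      intro u
      by_contra hu
      exact hc ⟨u, by omega⟩
    obtain ⟨x, hx⟩ := hex
    have hM := caseB1 hprim δ x₀ y₀ hne hδ.symm x hx
    have := caseB2 hprim h2 (2 * δ) hM
    nlinarith

end babai2

theorem main {G Ω : Type*} [Group G] [Finite G] [MulAction G Ω] [FaithfulSMul G Ω] [Fintype Ω] [DecidableEq Ω]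
    (hprim : MulAction.IsPreprimitive G Ω)
    (hA : ¬ alternatingGroup Ω ≤ (MulAction.toPermHom G Ω).range)
    (g : G) (hg : g ≠ 1) :
    Fintype.card Ω ≤ (2 * (Finset.univ.filter (fun z : Ω => g • z ≠ z)).card + 1) ^ 2 := by
  set m := (Finset.univ.filter (fun z : Ω => g • z ≠ z)).card with hm
  have hex : ∃ x : Ω, g • x ≠ x := by
    by_contra hc
    apply hg
    apply FaithfulSMul.eq_of_smul_eq_smul (α := Ω)
    intro a
    rw [one_smul]
    by_contra h
    exact hc ⟨a, h⟩
  obtain ⟨x, hx⟩ := hex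
  by_cases h2T : ∀ x a b : Ω, a ≠ x → b ≠ x → ∃ k : G, k • x = x ∧ k • a = b
  · by_contra hlt
    rw [not_le] at hlt
    have hxS : x ∈ Finset.univ.filter (fun z : Ω => g • z ≠ z) :=
      Finset.mem_filter.mpr ⟨Finset.mem_univ _, hx⟩
    set T := (Finset.univ.filter (fun z : Ω => g • z ≠ z)).erase x with hT
    have hTcard : T.card = m - 1 := Finset.card_erase_of_mem hxS
    have hmpos : 1 ≤ m := Finset.card_pos.mpr ⟨x, hxS⟩
    have hTlt : T.card * T.card + 1 < Fintype.card Ω := by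
      rw [hTcard]
      have : (m - 1) * (m - 1) ≤ m * m := Nat.mul_le_mul (Nat.sub_le _ _) (Nat.sub_le _ _)
      nlinarith
    obtain ⟨k, hkx, hk⟩ := two_trans_move h2T x T (Finset.notMem_erase x _) hTlt
    have hkx' : k⁻¹ • x = x := by rw [inv_smul_eq_iff, hkx]
    have hσ : (MulAction.toPerm g : Equiv.Perm Ω) x ≠ x := hx
    have hτ : (MulAction.toPerm (k * g * k⁻¹) : Equiv.Perm Ω) x ≠ x := by
      rw [MulAction.toPerm_apply, mul_smul, mul_smul, hkx']
      intro h
      apply hx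
      have h' : g • x = k⁻¹ • x := by
        rw [eq_inv_smul_iff]
        exact h
      rw [h', hkx']
    have hdis : ∀ y : Ω, (MulAction.toPerm g : Equiv.Perm Ω) y ≠ y →
        (MulAction.toPerm (k * g * k⁻¹) : Equiv.Perm Ω) y ≠ y → y = x := by
      intro y hy1 hy2
      by_contra hyx
      rw [MulAction.toPerm_apply] at hy1 hy2
      have hyT : y ∈ T := Finset.mem_erase.mpr ⟨hyx, Finset.mem_filter.mpr ⟨Finset.mem_univ _, hy1⟩⟩
      have hw1 : g • (k⁻¹ • y) ≠ k⁻¹ • y := by
        intro h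
        apply hy2
        rw [mul_smul, mul_smul, h, smul_inv_smul]
      have hw2 : k⁻¹ • y ≠ x := by
        intro h
        apply hyx
        rw [inv_smul_eq_iff, hkx] at h
        exact h
      have hwT : k⁻¹ • y ∈ T :=
        Finset.mem_erase.mpr ⟨hw2, Finset.mem_filter.mpr ⟨Finset.mem_univ _, hw1⟩⟩
      have := hk _ hwT
      rw [smul_inv_smul] at this
      exact this hyT
    have h3 := comm_three_cycle _ _ x hσ hτ hdis
    have hmemσ : (MulAction.toPerm g : Equiv.Perm Ω) ∈ (MulAction.toPermHom G Ω).range := ⟨g, rfl⟩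
    have hmemτ : (MulAction.toPerm (k * g * k⁻¹) : Equiv.Perm Ω) ∈ (MulAction.toPermHom G Ω).range :=
      ⟨k * g * k⁻¹, rfl⟩
    have hmem := Subgroup.mul_mem _ (Subgroup.mul_mem _ (Subgroup.mul_mem _
      (Subgroup.inv_mem _ hmemσ) (Subgroup.inv_mem _ hmemτ)) hmemσ) hmemτ
    have hprim' : MulAction.IsPreprimitive ↥(MulAction.toPermHom G Ω).range Ω := by
      let φ : G → ↥(MulAction.toPermHom G Ω).range := fun g => ⟨MulAction.toPermHom G Ω g, ⟨g, rfl⟩⟩
      let f : Ω →ₑ[φ] Ω := { toFun := id, map_smul' := fun _ _ => rfl }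
      have := hprim
      exact MulAction.IsPreprimitive.of_surjective (f := f) Function.surjective_id
    exact hA (Equiv.Perm.alternatingGroup_le_of_isPreprimitive_of_isThreeCycle_mem hprim' h3 hmem)
  · have hxne : x ≠ g • x := fun h => hx h.symm
    have h1 := babai hprim h2T x (g • x) hxne
    have h2 := dd_le_support g x
    rw [← hm] at h2
    have h3 : 2 * dd G x (g • x) + 1 ≤ 2 * m + 1 := by omega
    exact le_trans h1 (Nat.pow_le_pow_left h3 2)

/-- A classification-free minimal-degree bound. Let G be a finite group acting faithfully and primitively on a finite set Ω with n elements, and suppose that the image of G in the symmetric group on Ω does not contain the alternating group on Ω. Then every non-identity element of G moves at least (√n − 1)/2 points of Ω, that is, it fixes at most n − (√n − 1)/2 points. -/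
theorem result {G Ω : Type*} [Group G] [Finite G] [MulAction G Ω] [FaithfulSMul G Ω] [Fintype Ω] [DecidableEq Ω]
    (hprim : MulAction.IsPreprimitive G Ω)
    (hA : ¬ alternatingGroup Ω ≤ (MulAction.toPermHom G Ω).range)
    (g : G) (hg : g ≠ 1) :
    (Real.sqrt (Fintype.card Ω) - 1) / 2 ≤ (Fintype.card Ω : ℝ) - Nat.card (MulAction.fixedBy Ω g) := by
  have hmain := main hprim hA g hg
  set m := (Finset.univ.filter (fun z : Ω => g • z ≠ z)).card with hm
  have hfix : Nat.card (MulAction.fixedBy Ω g) + m = Fintype.card Ω := by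
    have h1 : Nat.card (MulAction.fixedBy Ω g) = (Finset.univ.filter (fun z : Ω => g • z = z)).card := by
      show Nat.card {z : Ω // g • z = z} = _
      rw [Nat.card_eq_fintype_card, Fintype.card_subtype]
    rw [h1, hm, Finset.card_filter_add_card_filter_not, Finset.card_univ]
  have h2 : (Fintype.card Ω : ℝ) - Nat.card (MulAction.fixedBy Ω g) = (m : ℝ) := by
    rw [← hfix]; push_cast; ring
  rw [h2]
  have h3 : Real.sqrt (Fintype.card Ω) ≤ 2 * (m : ℝ) + 1 := by
    rw [Real.sqrt_le_left (by positivity)]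
    exact_mod_cast hmain
  linarith

end Cfsg.Agent.S5713
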