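import Cfsg.Statements.S5726

set_option autoImplicit false
open Cfsg

namespace Cfsg.Agent.S5726

/-- A Sylow `p`-subgroup of a transitive group of degree `p ^ k` is transitive. -/
theorem sylow_transitive {G Ω : Type*} [Group G] [Finite G] [MulAction G Ω] [Fintype Ω]
    (htr : MulAction.IsPretransitive G Ω) (p k : ℕ) [hp : Fact p.Prime]
    (hΩ : Fintype.card Ω = p ^ k) (P : Sylow p G) (ω ω' : Ω) :
    ∃ h : G, h ∈ (P : Subgroup G) ∧ h • ω = ω' := by
  classical
  -- the orbit of `ω` under `P` has `p ^ k` elements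
  have hstab : MulAction.stabilizer (P : Subgroup G) ω =
      (MulAction.stabilizer G ω).subgroupOf (P : Subgroup G) := by
    ext x
    simp only [Subgroup.mem_subgroupOf, MulAction.mem_stabilizer_iff]
    exact Iff.rfl
  have hidx : (MulAction.stabilizer G ω).index = p ^ k := by
    rw [MulAction.index_stabilizer_of_transitive, Nat.card_eq_fintype_card, hΩ]
  have h1 : ((P : Subgroup G) ⊓ MulAction.stabilizer G ω).relIndex (P : Subgroup G) *
      (P : Subgroup G).index = ((P : Subgroup G) ⊓ MulAction.stabilizer G ω).index :=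
    Subgroup.relIndex_mul_index inf_le_left
  have h2 : ((P : Subgroup G) ⊓ MulAction.stabilizer G ω).relIndex (MulAction.stabilizer G ω) *
      (MulAction.stabilizer G ω).index = ((P : Subgroup G) ⊓ MulAction.stabilizer G ω).index :=
    Subgroup.relIndex_mul_index inf_le_right
  have h3 : p ^ k ∣ ((P : Subgroup G) ⊓ MulAction.stabilizer G ω).relIndex (P : Subgroup G) *
      (P : Subgroup G).index := by
    rw [h1, ← h2, hidx]
    exact dvd_mul_left _ _
  have hcop : Nat.Coprime (p ^ k) (P : Subgroup G).index := by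
    apply Nat.Coprime.pow_left
    rw [Nat.Prime.coprime_iff_not_dvd hp.out]
    exact P.not_dvd_index
  have h4 : p ^ k ∣ ((P : Subgroup G) ⊓ MulAction.stabilizer G ω).relIndex (P : Subgroup G) :=
    hcop.dvd_of_dvd_mul_right h3
  rw [Subgroup.inf_relIndex_left] at h4
  have h5 : (MulAction.stabilizer G ω).relIndex (P : Subgroup G) =
      (MulAction.orbit (P : Subgroup G) ω).ncard := by
    rw [← MulAction.index_stabilizer, hstab]
    rfl
  rw [h5] at h4
  have hpos : 0 < (MulAction.orbit (P : Subgroup G) ω).ncard := by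
    rw [Set.ncard_pos]
    exact MulAction.nonempty_orbit ω
  have h6 : p ^ k ≤ (MulAction.orbit (P : Subgroup G) ω).ncard := Nat.le_of_dvd hpos h4
  have h7 : MulAction.orbit (P : Subgroup G) ω = Set.univ := by
    rw [Set.eq_univ_iff_ncard]
    apply le_antisymm
    · calc (MulAction.orbit (P : Subgroup G) ω).ncard ≤ (Set.univ : Set Ω).ncard :=
          Set.ncard_le_ncard (Set.subset_univ _)
        _ = Nat.card Ω := Set.ncard_univ Ω
    · rw [Nat.card_eq_fintype_card, hΩ]
      exact h6
  have h8 : ω' ∈ MulAction.orbit (P : Subgroup G) ω := by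
    rw [h7]; exact Set.mem_univ _
  obtain ⟨⟨h, hh⟩, hhω⟩ := h8
  exact ⟨h, hh, hhω⟩

theorem result {G Ω : Type*} [Group G] [Finite G] [MulAction G Ω] [FaithfulSMul G Ω] [Fintype Ω] (htr : MulAction.IsPretransitive G Ω)
    (p k : ℕ) (hp : p.Prime) (hk : 1 ≤ k) (hΩ : Fintype.card Ω = p ^ k) :
    ∃ g : G, orderOf g = p ∧ ∀ ω : Ω, g • ω ≠ ω := by
  classical
  have : Fact p.Prime := ⟨hp⟩
  obtain ⟨P⟩ : Nonempty (Sylow p G) := inferInstance
  have htrP := sylow_transitive htr p k hΩ P
  -- `Ω` is nonempty and has at least two points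
  have hcard : 1 < Fintype.card Ω := by
    rw [hΩ]
    exact Nat.one_lt_pow (by omega) hp.one_lt
  obtain ⟨ω₀, ω₁, hne⟩ := Fintype.one_lt_card_iff.mp hcard
  -- `P` is nontrivial
  have : Nontrivial (P : Subgroup G) := by
    obtain ⟨h, hh, hhω⟩ := htrP ω₀ ω₁
    refine ⟨⟨⟨h, hh⟩, 1, ?_⟩⟩
    intro heq
    have : h = 1 := by simpa using congrArg Subtype.val heq
    rw [this, one_smul] at hhω
    exact hne hhω
  have := P.2.center_nontrivial
  -- an element of order `p` in the centre of `P`
  have hPc : IsPGroup p (Subgroup.center (P : Subgroup G)) := P.2.to_subgroup _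
  have hdvd : p ∣ Nat.card (Subgroup.center (P : Subgroup G)) := by
    obtain ⟨n, hn⟩ := IsPGroup.iff_card.mp hPc
    rw [hn]
    have : n ≠ 0 := by
      rintro rfl
      have h1 : Nat.card (Subgroup.center (P : Subgroup G)) = 1 := by simpa using hn
      have := Finite.one_lt_card (α := Subgroup.center (P : Subgroup G))
      omega
    exact dvd_pow_self p this
  obtain ⟨z, hz⟩ := exists_prime_orderOf_dvd_card' p hdvd
  refine ⟨((z : (P : Subgroup G)) : G), ?_, ?_⟩
  · rw [Subgroup.orderOf_coe, Subgroup.orderOf_coe]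
    exact hz
  · intro ω hω
    -- then `z` fixes every point, so `z = 1`
    have hall : ∀ ω' : Ω, ((z : (P : Subgroup G)) : G) • ω' = ω' := by
      intro ω'
      obtain ⟨h, hh, rfl⟩ := htrP ω ω'
      have hcomm : ((z : (P : Subgroup G)) : G) * h = h * ((z : (P : Subgroup G)) : G) := by
        have := Subgroup.mem_center_iff.mp z.2 ⟨h, hh⟩
        have := congrArg Subtype.val this
        simpa using this.symm
      rw [smul_smul, hcomm, ← smul_smul, hω]
    have h1 : ((z : (P : Subgroup G)) : G) = 1 := by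
      apply FaithfulSMul.eq_of_smul_eq_smul (α := Ω)
      intro a
      rw [hall a, one_smul]
    have h2 : z = 1 := by
      apply Subtype.ext
      apply Subtype.ext
      simpa using h1
    rw [h2, orderOf_one] at hz
    exact hp.one_lt.ne hz

end Cfsg.Agent.S5726
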