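import Cfsg.Statements.S5729

set_option autoImplicit false
open Cfsg

namespace Cfsg.Agent.S5729

/-- Burnside's lemma with `Nat.card`. -/
theorem burnside_nat (G X : Type*) [Group G] [Fintype G] [MulAction G X] [Finite X] :
    ∑ g : G, Nat.card (MulAction.fixedBy X g) =
      Nat.card (Quotient (MulAction.orbitRel G X)) * Nat.card G := by
  classical
  have := Fintype.ofFinite X
  have : Fintype (Quotient (MulAction.orbitRel G X)) := Fintype.ofFinite _
  have h := MulAction.sum_card_fixedBy_eq_card_orbits_mul_card_group G X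
  simp only [Nat.card_eq_fintype_card]
  convert h

/-- Fixed points on the square. -/
theorem card_fixedBy_prod (G X : Type*) [Group G] [MulAction G X] (g : G) :
    Nat.card (MulAction.fixedBy (X × X) g) = Nat.card (MulAction.fixedBy X g) ^ 2 := by
  rw [sq, ← Nat.card_prod]
  apply Nat.card_congr
  exact
    { toFun := fun x => (⟨x.1.1, congrArg Prod.fst x.2⟩, ⟨x.1.2, congrArg Prod.snd x.2⟩)
      invFun := fun y => ⟨(y.1.1, y.2.1), Prod.ext y.1.2 y.2.2⟩
      left_inv := fun x => rfl
      right_inv := fun y => rfl }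

/-- A group acting on a set with at least two points has at least two orbits on pairs. -/
theorem two_le_orbits_prod (G X : Type*) [Group G] [MulAction G X] [Finite X] (a b : X) (hab : a ≠ b) :
    2 ≤ Nat.card (Quotient (MulAction.orbitRel G (X × X))) := by
  have : Nontrivial (Quotient (MulAction.orbitRel G (X × X))) := by
    refine ⟨⟨Quotient.mk _ (a, a), Quotient.mk _ (a, b), ?_⟩⟩
    intro h
    have h' := Quotient.exact h
    change (a, a) ∈ MulAction.orbit G (a, b) at h'
    obtain ⟨g, hg⟩ := h'
    have h1 : g • a = a := congrArg Prod.fst hg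
    have h2 : g • b = a := congrArg Prod.snd hg
    exact hab (smul_left_cancel g (h1.trans h2.symm))
  exact Finite.one_lt_card_iff_nontrivial.mpr this

theorem result {G Ω : Type*} [Group G] [Finite G] [MulAction G Ω] [FaithfulSMul G Ω] [Fintype Ω] (htr : MulAction.IsPretransitive G Ω) (hn : 3 ≤ Fintype.card Ω) :
    ((MulAction.IsPretransitive G Ω ∧ (∃ g : G, g ≠ 1 ∧ ∃ ω : Ω, g • ω = ω) ∧ ∀ g : G, g ≠ 1 → Nat.card (MulAction.fixedBy Ω g) ≤ 1) ∧ Nat.card G = Fintype.card Ω * (Fintype.card Ω - 1) ∧ Fintype.card Ω * Nat.card {g : G // ∀ ω : Ω, g • ω ≠ ω} = Nat.card G) ∨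
    Nat.card G < Fintype.card Ω * Nat.card {g : G // ∀ ω : Ω, g • ω ≠ ω} := by
  classical
  let _ : Fintype G := Fintype.ofFinite G
  set n : ℕ := Fintype.card Ω with hn_def
  set N : ℕ := Nat.card G with hN_def
  set f : G → ℕ := fun g => Nat.card (MulAction.fixedBy Ω g) with hf_def
  set r : ℕ := Nat.card (Quotient (MulAction.orbitRel G (Ω × Ω))) with hr_def
  set d : ℕ := Nat.card {g : G // ∀ ω : Ω, g • ω ≠ ω} with hd_def
  have hNpos : 0 < N := Nat.card_pos
  -- two distinct points
  obtain ⟨a, b, hab⟩ := Fintype.one_lt_card_iff.mp (show 1 < Fintype.card Ω by omega)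
  -- Burnside on `Ω`
  have hB1 : ∑ g : G, f g = N := by
    have h := burnside_nat G Ω
    have h1 : Nat.card (Quotient (MulAction.orbitRel G Ω)) = 1 := by
      have : Subsingleton (Quotient (MulAction.orbitRel G Ω)) :=
        (MulAction.pretransitive_iff_subsingleton_quotient G Ω).mp htr
      have : Nonempty (Quotient (MulAction.orbitRel G Ω)) := ⟨Quotient.mk _ a⟩
      exact Nat.card_unique
    rw [h1, one_mul] at h
    exact h
  -- Burnside on `Ω × Ω`
  have hB2 : ∑ g : G, f g ^ 2 = r * N := by
    have h := burnside_nat G (Ω × Ω)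
    rw [← h]
    apply Finset.sum_congr rfl
    intro g _
    exact (card_fixedBy_prod G Ω g).symm
  have hr2 : 2 ≤ r := two_le_orbits_prod G Ω a b hab
  -- basic facts on `f`
  have hfle : ∀ g, f g ≤ n := by
    intro g
    have := Finite.card_subtype_le (fun x : Ω => x ∈ MulAction.fixedBy Ω g)
    rw [Nat.card_eq_fintype_card (α := Ω)] at this
    exact this
  have hf0 : ∀ g, f g = 0 ↔ ∀ ω : Ω, g • ω ≠ ω := by
    intro g
    rw [hf_def]
    simp only
    rw [Nat.card_eq_zero]
    constructor
    · rintro (h | h)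
      · intro ω hω
        exact h.false ⟨ω, hω⟩
      · exact absurd (inferInstance : Finite (MulAction.fixedBy Ω g)) (by simpa using h)
    · intro h
      left
      exact ⟨fun x => h x.1 x.2⟩
  have hfn : ∀ g, f g = n → g = 1 := by
    intro g hg
    have h1 : MulAction.fixedBy Ω g = Set.univ := by
      rw [Set.eq_univ_iff_ncard, ← Nat.card_coe_set_eq, Nat.card_eq_fintype_card (α := Ω)]
      exact hg
    apply FaithfulSMul.eq_of_smul_eq_smul (α := Ω)
    intro ω
    have : ω ∈ MulAction.fixedBy Ω g := by rw [h1]; exact Set.mem_univ _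
    rw [one_smul]
    exact this
  have hf1 : f 1 = n := by
    rw [hf_def]
    simp only
    rw [MulAction.fixedBy_one_eq_univ, Nat.card_coe_set_eq, Set.ncard_univ, Nat.card_eq_fintype_card]
  -- the number of derangements as a sum
  have hd : (d : ℤ) = ∑ g : G, (if f g = 0 then (1 : ℤ) else 0) := by
    rw [hd_def, Nat.card_eq_fintype_card, Fintype.card_subtype]
    rw [Finset.sum_boole]
    congr 2
    ext g
    simp only [Finset.mem_filter, Finset.mem_univ, true_and]
    exact (hf0 g).symm
  -- the pointwise inequality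
  have hpt : ∀ g : G, ((f g : ℤ) - 1) * ((f g : ℤ) - n) ≤ n * (if f g = 0 then (1 : ℤ) else 0) := by
    intro g
    by_cases h0 : f g = 0
    · rw [if_pos h0, h0]; simp
    · rw [if_neg h0]
      have h1 : (1 : ℤ) ≤ f g := by exact_mod_cast Nat.one_le_iff_ne_zero.mpr h0
      have h2 : (f g : ℤ) ≤ n := by exact_mod_cast hfle g
      nlinarith
  -- the sum of the left-hand sides
  have hsum : ∑ g : G, ((f g : ℤ) - 1) * ((f g : ℤ) - n) = ((r : ℤ) - 1) * N := by
    have e : ∀ g : G, ((f g : ℤ) - 1) * ((f g : ℤ) - n) =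
        ((f g ^ 2 : ℕ) : ℤ) - ((n : ℤ) + 1) * ((f g : ℕ) : ℤ) + n := by
      intro g; push_cast; ring
    rw [Finset.sum_congr rfl (fun g _ => e g)]
    rw [Finset.sum_add_distrib, Finset.sum_sub_distrib, ← Finset.mul_sum, ← Nat.cast_sum,
      ← Nat.cast_sum, hB1, hB2]
    simp only [Finset.sum_const, Finset.card_univ, nsmul_eq_mul]
    rw [← Nat.card_eq_fintype_card (α := G)]
    push_cast
    ring
  have hineq : ((r : ℤ) - 1) * N ≤ n * d := by
    rw [← hsum, hd, Finset.mul_sum]
    exact Finset.sum_le_sum (fun g _ => hpt g)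
  have hNle : (N : ℤ) ≤ n * d := by
    have h1 : (1 : ℤ) ≤ (r : ℤ) - 1 := by
      have : (2 : ℤ) ≤ r := by exact_mod_cast hr2
      linarith
    have h2 : (0 : ℤ) < N := by exact_mod_cast hNpos
    nlinarith
  by_cases hlt : N < n * d
  · right; exact hlt
  · left
    have heq : (N : ℤ) = n * d := by
      have : n * d ≤ N := not_lt.mp hlt
      have h' : ((n * d : ℕ) : ℤ) ≤ N := by exact_mod_cast this
      push_cast at h'
      linarith
    -- equality everywhere
    have hreq : r = 2 := by
      have h2 : (0 : ℤ) < N := by exact_mod_cast hNpos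
      have h3 : ((r : ℤ) - 1) * N ≤ N := by rw [← heq] at hineq; exact hineq
      have h4 : (r : ℤ) - 1 ≤ 1 := by
        by_contra hcon
        push Not at hcon
        nlinarith
      have : (r : ℤ) ≤ 2 := by linarith
      have : r ≤ 2 := by exact_mod_cast this
      omega
    have hpteq : ∀ g : G, ((f g : ℤ) - 1) * ((f g : ℤ) - n) = n * (if f g = 0 then (1 : ℤ) else 0) := by
      have hsumeq : ∑ g : G, ((f g : ℤ) - 1) * ((f g : ℤ) - n) =
          ∑ g : G, (n : ℤ) * (if f g = 0 then (1 : ℤ) else 0) := by
        rw [hsum, ← Finset.mul_sum, ← hd, ← heq, hreq]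
        push_cast
        ring
      intro g
      exact (Finset.sum_eq_sum_iff_of_le (fun g _ => hpt g)).mp hsumeq g (Finset.mem_univ g)
    have hfle1 : ∀ g : G, g ≠ 1 → f g ≤ 1 := by
      intro g hg
      by_contra hcon
      push Not at hcon
      have h0 : f g ≠ 0 := by omega
      have h := hpteq g
      rw [if_neg h0, mul_zero] at h
      rcases mul_eq_zero.mp h with h | h
      · have : (f g : ℤ) = 1 := by linarith
        have : f g = 1 := by exact_mod_cast this
        omega
      · have : (f g : ℤ) = n := by linarith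
        have : f g = n := by exact_mod_cast this
        exact hg (hfn g this)
    -- count
    have hcount : (∑ g : G, ((f g : ℤ) ^ 2 - (f g : ℤ))) = (n : ℤ) ^ 2 - n := by
      rw [Finset.sum_eq_single (1 : G)]
      · rw [hf1]
      · intro g _ hg
        have h1 := hfle1 g hg
        interval_cases h : f g <;> simp
      · intro h; exact absurd (Finset.mem_univ _) h
    have hNeq : (N : ℤ) = (n : ℤ) ^ 2 - n := by
      rw [← hcount, Finset.sum_sub_distrib]
      have e1 : ∑ g : G, (f g : ℤ) ^ 2 = ((∑ g : G, f g ^ 2 : ℕ) : ℤ) := by push_cast; rfl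
      have e2 : ∑ g : G, (f g : ℤ) = ((∑ g : G, f g : ℕ) : ℤ) := by push_cast; rfl
      rw [e1, e2, hB1, hB2, hreq]
      push_cast
      ring
    have hNnat : N = n * (n - 1) := by
      have h1 : 1 ≤ n := by omega
      zify [h1]
      rw [hNeq]; ring
    refine ⟨⟨htr, ?_, ?_⟩, hNnat, ?_⟩
    · -- some non-identity element fixes a point
      by_contra hcon
      push Not at hcon
      have hz : ∀ g : G, g ≠ 1 → f g = 0 := by
        intro g hg
        rw [hf0]
        exact hcon g hg
      have hs : ∑ g : G, f g = n := by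
        rw [Finset.sum_eq_single (1 : G)]
        · exact hf1
        · intro g _ hg; exact hz g hg
        · intro h; exact absurd (Finset.mem_univ _) h
      rw [hB1] at hs
      rw [hs] at hNnat
      have h3 : 2 ≤ n - 1 := by omega
      have : n * 2 ≤ n * (n - 1) := Nat.mul_le_mul_left n h3
      omega
    · intro g hg
      exact hfle1 g hg
    · have : ((n * d : ℕ) : ℤ) = N := by push_cast; exact heq.symm
      exact_mod_cast this

end Cfsg.Agent.S5729
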