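import Cfsg.Statements.S5727
import Cfsg.Agent.S5726
import Cfsg.Agent.S5729

set_option autoImplicit false
open Cfsg

namespace Cfsg.Agent.S5727

/-- If all orbits have `p` elements, then the number of orbits times `p` is the number of points. -/
theorem card_orbits_mul {H Ω : Type*} [Group H] [MulAction H Ω] [Finite Ω] (p : ℕ)
    (horb : ∀ x : Ω, (MulAction.orbit H x).ncard = p) :
    Nat.card (Quotient (MulAction.orbitRel H Ω)) * p = Nat.card Ω := by
  classical
  let _ : Fintype (Quotient (MulAction.orbitRel H Ω)) := Fintype.ofFinite _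
  rw [Nat.card_congr (MulAction.selfEquivSigmaOrbits H Ω), Nat.card_sigma]
  simp only [Nat.card_coe_set_eq, horb, Finset.sum_const, Finset.card_univ, smul_eq_mul,
    Nat.card_eq_fintype_card]

/-- A `p`-group all of whose orbits on a set with `m * p` points (`m < p`) have `p` elements
contains an element of exponent `p` without fixed points. -/
theorem exists_derangement {H Ω : Type*} [Group H] [Finite H] [MulAction H Ω] [Fintype Ω]
    (p m : ℕ) (hp : p.Prime) (hH : IsPGroup p H) (hm : 1 ≤ m) (hmp : m < p)
    (hΩ : Fintype.card Ω = m * p)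
    (horb : ∀ x : Ω, (MulAction.orbit H x).ncard = p) :
    ∃ g : H, (∀ x : Ω, g • x ≠ x) ∧ ∀ x : Ω, g ^ p • x = x := by
  classical
  let _ : Fintype H := Fintype.ofFinite H
  have : Fact p.Prime := ⟨hp⟩
  have hΩpos : 0 < Fintype.card Ω := by rw [hΩ]; exact Nat.mul_pos hm hp.pos
  obtain ⟨x₀⟩ : Nonempty Ω := Fintype.card_pos_iff.mp hΩpos
  -- stabilizers have index `p`
  have hidx : ∀ x : Ω, (MulAction.stabilizer H x).index = p := by
    intro x
    rw [MulAction.index_stabilizer, horb]
  -- `p` is the least prime factor of `|H|`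
  have hminFac : (Nat.card H).minFac = p := by
    obtain ⟨a, ha⟩ := IsPGroup.iff_card.mp hH
    have hdvd : p ∣ Nat.card H := by
      rw [← hidx x₀]
      exact Subgroup.index_dvd_card _
    rw [ha] at hdvd ⊢
    have ha0 : a ≠ 0 := by
      rintro rfl
      simp at hdvd
      exact hp.one_lt.ne' hdvd
    exact hp.pow_minFac ha0
  have hnormal : ∀ x : Ω, (MulAction.stabilizer H x).Normal := by
    intro x
    apply Subgroup.normal_of_index_eq_minFac_card
    rw [hidx, hminFac]
  -- an element fixing a point fixes its whole orbit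
  have hfixorb : ∀ (g : H) (x : Ω), g • x = x → MulAction.orbit H x ⊆ MulAction.fixedBy Ω g := by
    intro g x hgx y hy
    obtain ⟨h, rfl⟩ := hy
    have h1 : h⁻¹ * g * h⁻¹⁻¹ ∈ MulAction.stabilizer H x :=
      (hnormal x).conj_mem g hgx h⁻¹
    rw [MulAction.mem_stabilizer_iff] at h1
    rw [MulAction.mem_fixedBy]
    have h2 : g • h • x = h • (h⁻¹ * g * h⁻¹⁻¹) • x := by
      simp [smul_smul, mul_assoc]
    rw [h2, h1]
  -- powers
  have hpow : ∀ (g : H) (x : Ω), g ^ p • x = x := by
    intro g x
    have := hnormal x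
    have := (MulAction.stabilizer H x).pow_index_mem g
    rw [hidx] at this
    exact this
  -- Burnside count
  have hB : ∑ g : H, Nat.card (MulAction.fixedBy Ω g) = m * Nat.card H := by
    rw [Cfsg.Agent.S5729.burnside_nat H Ω]
    congr 1
    have h1 := card_orbits_mul (H := H) (Ω := Ω) p horb
    rw [Nat.card_eq_fintype_card (α := Ω), hΩ] at h1
    exact Nat.eq_of_mul_eq_mul_right hp.pos h1
  by_contra hcon
  push Not at hcon
  have hge : ∀ g : H, p ≤ Nat.card (MulAction.fixedBy Ω g) := by
    intro g
    by_cases hg : ∀ x : Ω, g • x ≠ x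
    · obtain ⟨x, hx⟩ := hcon g hg
      exact absurd (hpow g x) hx
    · push Not at hg
      obtain ⟨x, hx⟩ := hg
      rw [Nat.card_coe_set_eq, ← horb x]
      exact Set.ncard_le_ncard (hfixorb g x hx)
  have hsum : p * Nat.card H ≤ ∑ g : H, Nat.card (MulAction.fixedBy Ω g) := by
    calc p * Nat.card H = ∑ _g : H, p := by
          simp [Finset.sum_const, Finset.card_univ, Nat.card_eq_fintype_card, mul_comm]
      _ ≤ ∑ g : H, Nat.card (MulAction.fixedBy Ω g) := Finset.sum_le_sum (fun g _ => hge g)
  rw [hB] at hsum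
  have hHpos : 0 < Nat.card H := Nat.card_pos
  have : p ≤ m := Nat.le_of_mul_le_mul_right hsum hHpos
  omega

theorem result {G Ω : Type*} [Group G] [Finite G] [MulAction G Ω] [FaithfulSMul G Ω] [Fintype Ω] (htr : MulAction.IsPretransitive G Ω)
    (p m : ℕ) (hp : p.Prime) (hm : 1 ≤ m) (hmp : m ≤ p) (hΩ : Fintype.card Ω = m * p) :
    ∃ g : G, orderOf g = p ∧ ∀ ω : Ω, g • ω ≠ ω := by
  classical
  rcases Nat.eq_or_lt_of_le hmp with rfl | hlt
  · exact Cfsg.Agent.S5726.result htr m 2 hp (by norm_num) (by rw [hΩ]; ring)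
  have : Fact p.Prime := ⟨hp⟩
  obtain ⟨P⟩ : Nonempty (Sylow p G) := inferInstance
  have hΩpos : 0 < Fintype.card Ω := by rw [hΩ]; exact Nat.mul_pos hm hp.pos
  obtain ⟨x₀⟩ : Nonempty Ω := Fintype.card_pos_iff.mp hΩpos
  -- all orbits of `P` have `p` elements
  have horb : ∀ ω : Ω, (MulAction.orbit (P : Subgroup G) ω).ncard = p := by
    intro ω
    have hstab : MulAction.stabilizer (P : Subgroup G) ω =
        (MulAction.stabilizer G ω).subgroupOf (P : Subgroup G) := by
      ext x
      simp only [Subgroup.mem_subgroupOf, MulAction.mem_stabilizer_iff]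
      exact Iff.rfl
    have hidx : (MulAction.stabilizer G ω).index = m * p := by
      rw [MulAction.index_stabilizer_of_transitive, Nat.card_eq_fintype_card, hΩ]
    have h1 : ((P : Subgroup G) ⊓ MulAction.stabilizer G ω).relIndex (P : Subgroup G) *
        (P : Subgroup G).index = ((P : Subgroup G) ⊓ MulAction.stabilizer G ω).index :=
      Subgroup.relIndex_mul_index inf_le_left
    have h2 : ((P : Subgroup G) ⊓ MulAction.stabilizer G ω).relIndex (MulAction.stabilizer G ω) *
        (MulAction.stabilizer G ω).index = ((P : Subgroup G) ⊓ MulAction.stabilizer G ω).index :=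
      Subgroup.relIndex_mul_index inf_le_right
    have h3 : p ∣ ((P : Subgroup G) ⊓ MulAction.stabilizer G ω).relIndex (P : Subgroup G) *
        (P : Subgroup G).index := by
      rw [h1, ← h2, hidx]
      exact Dvd.dvd.mul_left (dvd_mul_left p m) _
    have h4 : p ∣ ((P : Subgroup G) ⊓ MulAction.stabilizer G ω).relIndex (P : Subgroup G) := by
      rcases (Nat.Prime.dvd_mul hp).mp h3 with h | h
      · exact h
      · exact absurd h P.not_dvd_index
    rw [Subgroup.inf_relIndex_left] at h4
    have h5 : (MulAction.stabilizer G ω).relIndex (P : Subgroup G) =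
        (MulAction.orbit (P : Subgroup G) ω).ncard := by
      rw [← MulAction.index_stabilizer, hstab]
      rfl
    rw [h5] at h4
    obtain ⟨j, hj⟩ := P.2.card_orbit ω
    rw [Nat.card_coe_set_eq] at hj
    have hle : (MulAction.orbit (P : Subgroup G) ω).ncard ≤ m * p := by
      calc (MulAction.orbit (P : Subgroup G) ω).ncard ≤ (Set.univ : Set Ω).ncard :=
            Set.ncard_le_ncard (Set.subset_univ _)
        _ = Nat.card Ω := Set.ncard_univ Ω
        _ = m * p := by rw [Nat.card_eq_fintype_card, hΩ]
    rw [hj] at h4 hle ⊢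
    have hj1 : j ≠ 0 := by
      rintro rfl
      simp at h4
      exact hp.one_lt.ne' h4
    have hj2 : j < 2 := by
      by_contra hcon
      push Not at hcon
      have : p ^ 2 ≤ p ^ j := Nat.pow_le_pow_right hp.pos hcon
      have : m * p < p * p := Nat.mul_lt_mul_of_pos_right hlt hp.pos
      nlinarith
    have : j = 1 := by omega
    rw [this, pow_one]
  obtain ⟨g, hg1, hg2⟩ := exists_derangement (H := (P : Subgroup G)) (Ω := Ω) p m hp P.2 hm hlt hΩ horb
  refine ⟨(g : G), ?_, ?_⟩
  · have hpow : (g : G) ^ p = 1 := by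
      apply FaithfulSMul.eq_of_smul_eq_smul (α := Ω)
      intro a
      rw [one_smul]
      exact hg2 a
    have hne : (g : G) ≠ 1 := by
      intro h
      have := hg1 x₀
      apply this
      show (g : G) • x₀ = x₀
      rw [h, one_smul]
    have hdvd : orderOf (g : G) ∣ p := orderOf_dvd_of_pow_eq_one hpow
    rcases (Nat.dvd_prime hp).mp hdvd with h | h
    · exact absurd (orderOf_eq_one_iff.mp h) hne
    · exact h
  · intro ω
    exact hg1 ω

end Cfsg.Agent.S5727
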