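import Cfsg.Statements.S5728

set_option autoImplicit false
open Cfsg

namespace Cfsg.Agent.S5728

/-- An element `a` of a field of characteristic `p` with `a ^ p = a` lies in the prime field. -/
theorem exists_algebraMap_eq {p : ℕ} [Fact p.Prime] {K : Type*} [Field K] [Algebra (ZMod p) K]
    [CharP K p] (a : K) (ha : a ^ p = a) : ∃ z : ZMod p, algebraMap (ZMod p) K z = a := by
  have h1 : a ∈ (⊥ : Subfield K) := (Subfield.mem_bot_iff_pow_eq_self K p).mpr ha
  rw [← ZMod.fieldRange_castHom_eq_bot p] at h1
  obtain ⟨z, hz⟩ := RingHom.mem_fieldRange.mp h1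
  refine ⟨z, ?_⟩
  rw [← hz]
  exact congrArg (fun f : ZMod p →+* K => f z) (Subsingleton.elim _ _)

theorem result (p s : ℕ) [Fact p.Prime] (hs : p = 2 ^ s - 1)
    (g : Equiv.Perm (GaloisField p 2)) (hg : g ∈ Cfsg.affineGroup (GaloisField p 2)) (hord : (orderOf g).Prime) :
    ∃ x ∈ Cfsg.affineGroup (GaloisField p 2), ∃ a b : ZMod p, a ≠ 0 ∧
      ∀ y : GaloisField p 2, (x * g * x⁻¹) y = algebraMap (ZMod p) (GaloisField p 2) a * y + algebraMap (ZMod p) (GaloisField p 2) b := by
  classical
  have hp : p.Prime := Fact.out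
  -- arithmetic of `p`
  have hpow : 2 ^ s = p + 1 := by
    have : 1 ≤ 2 ^ s := Nat.one_le_two_pow
    omega
  have hp2 : p ≠ 2 := by
    rintro rfl
    rcases s with _ | s
    · simp at hpow
    · rw [pow_succ] at hpow
      omega
  have hpodd : 2 ∣ p - 1 := by
    rcases hp.eq_two_or_odd with h | h
    · exact absurd h hp2
    · omega
  obtain ⟨a, b, hab⟩ := hg
  by_cases ha1 : (a : GaloisField p 2) = 1
  · -- a translation
    have hb : b ≠ 0 := by
      rintro rfl
      have : g = 1 := by
        ext y
        rw [hab y, ha1]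
        simp
      rw [this, orderOf_one] at hord
      exact Nat.not_prime_one hord
    refine ⟨Equiv.mulLeft₀ b⁻¹ (inv_ne_zero hb), ⟨Units.mk0 b⁻¹ (inv_ne_zero hb), 0, fun y => by simp⟩,
      1, 1, one_ne_zero, ?_⟩
    intro y
    have hinv : (Equiv.mulLeft₀ b⁻¹ (inv_ne_zero hb))⁻¹ y = b * y := by
      rw [Equiv.Perm.inv_def, Equiv.symm_apply_eq]
      simp [hb]
    rw [Equiv.Perm.mul_apply, Equiv.Perm.mul_apply, hinv, hab, ha1]
    simp only [Equiv.mulLeft₀_apply, one_mul, map_one]
    field_simp
  · -- a map with a fixed point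
    have h1a : (1 : GaloisField p 2) - a ≠ 0 := by
      intro h
      exact ha1 (sub_eq_zero.mp h).symm
    set y0 : GaloisField p 2 := b / (1 - a) with hy0
    have hfix : (a : GaloisField p 2) * y0 + b = y0 := by
      rw [hy0]
      field_simp
      ring
    -- powers of `g`
    have hpowg : ∀ (k : ℕ) (t : GaloisField p 2), (g ^ k) (y0 + t) = y0 + (a : GaloisField p 2) ^ k * t := by
      intro k
      induction k with
      | zero => intro t; simp
      | succ k ih =>
        intro t
        rw [pow_succ', Equiv.Perm.mul_apply, ih, hab, pow_succ']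
        calc (a : GaloisField p 2) * (y0 + (a : GaloisField p 2) ^ k * t) + b
            = ((a : GaloisField p 2) * y0 + b) + (a : GaloisField p 2) * (a : GaloisField p 2) ^ k * t := by ring
          _ = y0 + (a : GaloisField p 2) * (a : GaloisField p 2) ^ k * t := by rw [hfix]
    have har : (a : GaloisField p 2) ^ orderOf g = 1 := by
      have := hpowg (orderOf g) 1
      rw [pow_orderOf_eq_one, Equiv.Perm.one_apply, mul_one] at this
      exact (add_left_cancel this).symm
    have har' : a ^ orderOf g = 1 := Units.ext (by simpa using har)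
    have hane : a ≠ 1 := fun h => ha1 (by rw [h]; rfl)
    have hoa : orderOf a = orderOf g := by
      have hdvd : orderOf a ∣ orderOf g := orderOf_dvd_of_pow_eq_one har'
      rcases (Nat.dvd_prime hord).mp hdvd with h | h
      · exact absurd (orderOf_eq_one_iff.mp h) hane
      · exact h
    -- the order of `a` divides `p ^ 2 - 1`
    have hcard : Nat.card (GaloisField p 2)ˣ = p ^ 2 - 1 := by
      rw [Nat.card_units, GaloisField.card p 2 (by norm_num)]
    have hdvd1 : orderOf g ∣ p ^ 2 - 1 := by
      rw [← hoa, ← hcard]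
      exact orderOf_dvd_natCard a
    have hfac : p ^ 2 - 1 = (p - 1) * 2 ^ s := by
      rw [hpow]
      have : 1 ≤ p := hp.one_lt.le
      zify [this, Nat.one_le_pow 2 p this]
      ring
    rw [hfac] at hdvd1
    have hdvd2 : orderOf g ∣ p - 1 := by
      rcases (Nat.Prime.dvd_mul hord).mp hdvd1 with h | h
      · exact h
      · have h2 : orderOf g ∣ 2 := hord.dvd_of_dvd_pow h
        have h3 : orderOf g = 2 := by
          rcases (Nat.dvd_prime Nat.prime_two).mp h2 with h | h
          · rw [h] at hord; exact absurd hord Nat.not_prime_one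
          · exact h
        rw [h3]; exact hpodd
    have hap : (a : GaloisField p 2) ^ p = a := by
      obtain ⟨m, hm⟩ := hdvd2
      have h1 : (a : GaloisField p 2) ^ (p - 1) = 1 := by
        rw [hm, pow_mul, har, one_pow]
      have h2 : (p - 1) + 1 = p := by have := hp.one_lt; omega
      have h3 : (a : GaloisField p 2) ^ ((p - 1) + 1) = a := by rw [pow_succ, h1, one_mul]
      rw [h2] at h3
      exact h3
    obtain ⟨z, hz⟩ := exists_algebraMap_eq (p := p) (a : GaloisField p 2) hap
    have hz0 : z ≠ 0 := by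
      rintro rfl
      rw [map_zero] at hz
      exact a.ne_zero hz.symm
    refine ⟨Equiv.subRight y0, ⟨1, -y0, fun y => by simp [sub_eq_add_neg]⟩, z, 0, hz0, ?_⟩
    intro y
    have hinv : (Equiv.subRight y0)⁻¹ y = y0 + y := by
      rw [Equiv.Perm.inv_def, Equiv.symm_apply_eq]
      simp
    rw [Equiv.Perm.mul_apply, Equiv.Perm.mul_apply, hinv]
    have := hpowg 1 y
    rw [pow_one, pow_one] at this
    rw [this, hz, map_zero]
    simp

end Cfsg.Agent.S5728
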