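import Cfsg.Statements.S5738
import Cfsg.Agent.Lib.helper96.Singer

set_option autoImplicit false
open Cfsg

namespace Cfsg.Agent.S5738

open Cfsg.Agent.Lib.helper96

variable {F K : Type*} [Field F] [Field K] [Algebra F K]

theorem lmul_apply' (a x : K) : Algebra.lmul F K a x = a * x := rfl

/-- The semilinear maps `x ↦ c * σ x`. -/
noncomputable def semi (p : Kˣ × (K ≃ₐ[F] K)) : (Module.End F K)ˣ :=
  Units.map ((Algebra.lmul F K : K →ₐ[F] Module.End F K) : K →* Module.End F K) p.1 *
    LinearMap.GeneralLinearGroup.ofLinearEquiv p.2.toLinearEquiv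

theorem semi_apply (p : Kˣ × (K ≃ₐ[F] K)) (x : K) :
    (semi p : Module.End F K) x = (p.1 : K) * p.2 x := by
  simp [semi]

theorem semi_injective : Function.Injective (semi : Kˣ × (K ≃ₐ[F] K) → (Module.End F K)ˣ) := by
  rintro ⟨c, σ⟩ ⟨c', σ'⟩ h
  have h1 : ∀ x : K, (c : K) * σ x = (c' : K) * σ' x := by
    intro x
    have := congrArg (fun u : (Module.End F K)ˣ => (u : Module.End F K) x) h
    simpa only [semi_apply] using this
  have hc : (c : K) = (c' : K) := by simpa using h1 1
  have hc' : c = c' := Units.ext hc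
  subst hc'
  have hσ : σ = σ' := by
    ext x
    exact mul_left_cancel₀ c.ne_zero (h1 x)
  rw [hσ]

theorem semi_mem_normalizer [Finite K] (p : Kˣ × (K ≃ₐ[F] K)) :
    semi p ∈ Subgroup.normalizer ((singer F K : Subgroup (Module.End F K)ˣ) : Set (Module.End F K)ˣ) := by
  rw [Subgroup.mem_normalizer_iff_map_conj_eq]
  apply map_conj_eq_of_conjSub_eq_top
  intro a
  rw [mem_conjSub]
  refine ⟨p.2.symm a, ?_⟩
  rw [Units.eq_mul_inv_iff_mul_eq]
  ext x
  simp only [Module.End.mul_apply, semi_apply, lmul_apply', map_mul,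
    AlgEquiv.apply_symm_apply]
  ring

theorem exists_semi_of_mem_normalizer [Finite K] (g : (Module.End F K)ˣ)
    (hg : g ∈ Subgroup.normalizer ((singer F K : Subgroup (Module.End F K)ˣ) : Set (Module.End F K)ˣ)) :
    ∃ p : Kˣ × (K ≃ₐ[F] K), semi p = g := by
  rw [Subgroup.mem_normalizer_iff_map_conj_eq] at hg
  -- the candidate field automorphism
  set w : K := ((g⁻¹ : (Module.End F K)ˣ) : Module.End F K) 1 with hw
  let τl : K →ₗ[F] K := (g : Module.End F K) * Algebra.lmul F K w
  have hτl : ∀ a : K, τl a = (g : Module.End F K) (w * a) := fun a => rfl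
  have hgg : ∀ x : K, (g : Module.End F K) (((g⁻¹ : (Module.End F K)ˣ) : Module.End F K) x) = x := by
    intro x
    have : (g : Module.End F K) * ((g⁻¹ : (Module.End F K)ˣ) : Module.End F K) = 1 := Units.mul_inv g
    exact congrArg (fun f : Module.End F K => f x) this
  have hgg' : ∀ x : K, ((g⁻¹ : (Module.End F K)ˣ) : Module.End F K) ((g : Module.End F K) x) = x := by
    intro x
    have : ((g⁻¹ : (Module.End F K)ˣ) : Module.End F K) * (g : Module.End F K) = 1 := Units.inv_mul g
    exact congrArg (fun f : Module.End F K => f x) this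
  -- conjugation of multiplications
  have hconj : ∀ a : K, (g : Module.End F K) * Algebra.lmul F K a *
      ((g⁻¹ : (Module.End F K)ˣ) : Module.End F K) = Algebra.lmul F K (τl a) := by
    intro a
    by_cases ha : a = 0
    · subst ha
      simp
    · have hmem : MulAut.conj g (Units.map ((Algebra.lmul F K : K →ₐ[F] Module.End F K) :
          K →* Module.End F K) (Units.mk0 a ha)) ∈ singer F K := by
        rw [← hg]
        exact ⟨_, lmul_unit_mem_singer _, rfl⟩
      obtain ⟨b, hb⟩ := (mem_singer_iff _).mp hmem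
      have hb' : (g : Module.End F K) * Algebra.lmul F K a *
          ((g⁻¹ : (Module.End F K)ˣ) : Module.End F K) = Algebra.lmul F K (b : K) := by
        rw [← hb]
        simp [MulAut.conj_apply]
      have hb1 : τl a = (b : K) := by
        have := congrArg (fun f : Module.End F K => f 1) hb'
        simp only [Module.End.mul_apply, lmul_apply', mul_one] at this
        rw [hτl, mul_comm]
        exact this
      rw [hb', hb1]
  have hone : τl 1 = 1 := by
    rw [hτl, mul_one, hw]
    exact hgg 1
  have hmul : ∀ x y : K, τl (x * y) = τl x * τl y := by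
    intro x y
    apply Algebra.lmul_injective (R := F)
    rw [map_mul (Algebra.lmul F K) (τl x) (τl y), ← hconj, ← hconj, ← hconj, map_mul]
    simp only [mul_assoc, Units.inv_mul_cancel_left]
  let τ : K →ₐ[F] K := AlgHom.ofLinearMap τl hone hmul
  have hτ : ∀ a : K, τ a = τl a := fun a => rfl
  have : FiniteDimensional F K := Module.Finite.of_finite
  let σ : K ≃ₐ[F] K := AlgEquiv.ofBijective τ (AlgHom.bijective τ)
  have hσ : ∀ a : K, σ a = τl a := fun a => rfl
  have hc : (g : Module.End F K) 1 ≠ 0 := by
    intro h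
    have := hgg' 1
    rw [h, map_zero] at this
    exact zero_ne_one this
  refine ⟨(Units.mk0 _ hc, σ), Units.ext ?_⟩
  ext x
  rw [semi_apply]
  show (g : Module.End F K) 1 * σ x = (g : Module.End F K) x
  have h1 : (g : Module.End F K) * Algebra.lmul F K x = Algebra.lmul F K (τl x) * (g : Module.End F K) := by
    rw [← hconj]
    simp only [mul_assoc, Units.inv_mul, mul_one]
  have h2 := congrArg (fun f : Module.End F K => f 1) h1
  simp only [Module.End.mul_apply, lmul_apply', mul_one] at h2
  rw [hσ, mul_comm, ← h2]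

theorem result {F K : Type*} [Field F] [Fintype F] [Field K] [Fintype K] [Algebra F K] (n : ℕ) (hn : 2 ≤ n) (hdim : Module.finrank F K = n) :
    Nat.card (Subgroup.normalizer (((Units.map ((Algebra.lmul F K : K →ₐ[F] Module.End F K) : K →* Module.End F K)).range : Subgroup (Module.End F K)ˣ) : Set (Module.End F K)ˣ)) = n * (Fintype.card K - 1) := by
  classical
  show Nat.card (Subgroup.normalizer ((singer F K : Subgroup (Module.End F K)ˣ) : Set (Module.End F K)ˣ)) = n * (Fintype.card K - 1)
  let Φ : Kˣ × (K ≃ₐ[F] K) →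
      Subgroup.normalizer ((singer F K : Subgroup (Module.End F K)ˣ) : Set (Module.End F K)ˣ) :=
    fun p => ⟨semi p, semi_mem_normalizer p⟩
  have hΦ : Function.Bijective Φ := by
    constructor
    · intro p q h
      exact semi_injective (congrArg Subtype.val h)
    · rintro ⟨g, hg⟩
      obtain ⟨p, hp⟩ := exists_semi_of_mem_normalizer g hg
      exact ⟨p, Subtype.ext hp⟩
  rw [← Nat.card_congr (Equiv.ofBijective Φ hΦ), Nat.card_prod, Nat.card_units,
    IsGalois.card_aut_eq_finrank, hdim, Nat.card_eq_fintype_card, mul_comm]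

end Cfsg.Agent.S5738
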