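import Cfsg.Statements.S5739
import Cfsg.Agent.Lib.helper96.Singer

set_option autoImplicit false
open Cfsg

namespace Cfsg.Agent.S5739

open Cfsg.Agent.Lib.helper96

theorem result {F K : Type*} [Field F] [Fintype F] [Field K] [Fintype K] [Algebra F K] (n : ℕ) (hn : 2 ≤ n) (hdim : Module.finrank F K = n)
    (g : (Module.End F K)ˣ) (hg : ((Units.map ((Algebra.lmul F K : K →ₐ[F] Module.End F K) : K →* Module.End F K)).range).map (MulAut.conj g).toMonoidHom ≠ (Units.map ((Algebra.lmul F K : K →ₐ[F] Module.End F K) : K →* Module.End F K)).range) :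
    ∃ r : ℕ, 1 ≤ r ∧ r ∣ n ∧ r < n ∧ Nat.card ↥(((Units.map ((Algebra.lmul F K : K →ₐ[F] Module.End F K) : K →* Module.End F K)).range).map (MulAut.conj g).toMonoidHom ⊓ (Units.map ((Algebra.lmul F K : K →ₐ[F] Module.End F K) : K →* Module.End F K)).range) ∣ Fintype.card F ^ r - 1 := by
  classical
  change (singer F K).map (MulAut.conj g).toMonoidHom ≠ singer F K at hg
  show ∃ r : ℕ, 1 ≤ r ∧ r ∣ n ∧ r < n ∧
    Nat.card ↥((singer F K).map (MulAut.conj g).toMonoidHom ⊓ singer F K) ∣ Fintype.card F ^ r - 1
  let E : IntermediateField F K := subalgebraEquivIntermediateField (conjSub g)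
  have hmemE : ∀ a : K, a ∈ E ↔ a ∈ conjSub g := fun a => mem_subalgebraEquivIntermediateField
  have hle : Module.finrank F E ≤ Module.finrank F K :=
    Submodule.finrank_le E.toSubalgebra.toSubmodule
  refine ⟨Module.finrank F E, Module.finrank_pos, ?_, ?_, ?_⟩
  · rw [← hdim]
    exact ⟨_, (Module.finrank_mul_finrank F E K).symm⟩
  · rw [← hdim]
    by_contra hcon
    have heq : Module.finrank F E = Module.finrank F K := by omega
    have htop : E.toSubalgebra.toSubmodule = ⊤ := Submodule.eq_top_of_finrank_eq heq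
    apply hg
    apply map_conj_eq_of_conjSub_eq_top
    intro a
    rw [← hmemE]
    have : a ∈ E.toSubalgebra.toSubmodule := by rw [htop]; exact Submodule.mem_top
    exact this
  · -- the intersection embeds in `Eˣ`
    let ψ : Eˣ →* (Module.End F K)ˣ :=
      (Units.map ((Algebra.lmul F K : K →ₐ[F] Module.End F K) : K →* Module.End F K)).comp
        (Units.map (E.val : E →* K))
    have hψ : Function.Injective ψ := by
      intro x y hxy
      have h1 : Algebra.lmul F K ((x : E) : K) = Algebra.lmul F K ((y : E) : K) :=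
        congrArg Units.val hxy
      have h2 : ((x : E) : K) = ((y : E) : K) := Algebra.lmul_injective (R := F) h1
      exact Units.ext (Subtype.ext h2)
    have hsub : (singer F K).map (MulAut.conj g).toMonoidHom ⊓ singer F K ≤ ψ.range := by
      intro u hu
      obtain ⟨a, ha, hau⟩ := exists_of_mem_inf g u hu
      have ha' : (a : K) ∈ E := (hmemE _).mpr ha
      have ha0 : (⟨(a : K), ha'⟩ : E) ≠ 0 := by
        intro h
        exact a.ne_zero (congrArg Subtype.val h)
      refine ⟨Units.mk0 ⟨(a : K), ha'⟩ ha0, Units.ext ?_⟩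
      rw [hau]
      rfl
    have h1 : Nat.card ↥((singer F K).map (MulAut.conj g).toMonoidHom ⊓ singer F K) ∣
        Nat.card ψ.range := Subgroup.card_dvd_of_le hsub
    have h2 : Nat.card ψ.range = Nat.card Eˣ :=
      (Nat.card_congr (Equiv.ofInjective ψ hψ)).symm
    have h3 : Nat.card Eˣ = Fintype.card F ^ Module.finrank F E - 1 := by
      rw [Nat.card_units, Module.natCard_eq_pow_finrank (K := F) (V := E), Nat.card_eq_fintype_card]
    rw [h2, h3] at h1
    exact h1

end Cfsg.Agent.S5739
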