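import Cfsg.Statements.S5747

set_option autoImplicit false
open Cfsg

namespace Cfsg.Agent.S5747

theorem count_eq_card_fiber {α : Type*} [DecidableEq α] {t : ℕ} (f : Fin t → α) (c : α) :
    List.count c (List.ofFn f) = Nat.card {a : Fin t // f a = c} := by
  have h1 : ((Finset.univ : Finset (Fin t)).val.map f) = ((List.ofFn f : List α) : Multiset α) :=
    Fin.univ_val_map f
  rw [← Multiset.coe_count, ← h1, Multiset.count_map, Nat.card_eq_fintype_card, Fintype.card_subtype]
  rw [← Finset.filter_val, Finset.card_def]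
  congr 2
  ext a
  simp [eq_comm]

theorem exists_perm_of_perm {α : Type*} {t : ℕ} (f g : Fin t → α)
    (h : List.Perm (List.ofFn g) (List.ofFn f)) : ∃ σ : Equiv.Perm (Fin t), g = f ∘ σ := by
  classical
  have hc : ∀ c : α, Nat.card {a : Fin t // g a = c} = Nat.card {b : Fin t // f b = c} := by
    intro c
    rw [← count_eq_card_fiber, ← count_eq_card_fiber]
    exact h.count_eq c
  let e : ∀ c : α, {a : Fin t // g a = c} ≃ {b : Fin t // f b = c} :=
    fun c => Classical.choice (Finite.card_eq.mp (hc c))
  refine ⟨Equiv.ofFiberEquiv e, ?_⟩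
  funext a
  exact (Equiv.ofFiberEquiv_map e a).symm

variable {Ω : Type*}

/-- `z` is moved by the pointwise stabiliser of `l`. -/
def Moved (G : Type*) [Group G] [MulAction G Ω] (l : List Ω) (z : Ω) : Prop :=
  ∃ g : G, (∀ x ∈ l, g • x = x) ∧ g • z ≠ z

/-- Irredundant sequences (as lists). -/
def Irr (G : Type*) [Group G] [MulAction G Ω] (l : List Ω) : Prop :=
  ∀ (i : ℕ) (h : i < l.length), ∃ g : G, (∀ (j : ℕ) (hj : j < i), g • l[j] = l[j]) ∧ g • l[i] ≠ l[i]

/-- Bases (as lists). -/
def IsBase (G : Type*) [Group G] [MulAction G Ω] (l : List Ω) : Prop :=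
  ∀ g : G, (∀ x ∈ l, g • x = x) → g = 1

/-- Irredundant bases (as lists). -/
def IB (G : Type*) [Group G] [MulAction G Ω] (l : List Ω) : Prop := IsBase G l ∧ Irr G l

/-- Irredundant bases (as tuples), in the form of the statement. -/
def TB (G : Type*) [Group G] [MulAction G Ω] {t : ℕ} (f : Fin t → Ω) : Prop :=
  (∀ g : G, (∀ i : Fin t, g • f i = f i) → g = 1) ∧
    ∀ i : Fin t, ∃ g : G, (∀ j : Fin t, j < i → g • f j = f j) ∧ g • f i ≠ f i

variable {G : Type*} [Group G] [MulAction G Ω]

theorem tb_iff {t : ℕ} (f : Fin t → Ω) : TB G f ↔ IB G (List.ofFn f) := by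
  unfold TB IB IsBase Irr
  constructor
  · rintro ⟨h1, h2⟩
    constructor
    · intro g hg
      apply h1 g
      intro i
      exact hg _ (List.mem_ofFn.mpr ⟨i, rfl⟩)
    · intro i hi
      have hi' : i < t := by simpa using hi
      obtain ⟨g, hg1, hg2⟩ := h2 ⟨i, hi'⟩
      refine ⟨g, ?_, ?_⟩
      · intro j hj
        simp only [List.getElem_ofFn]
        exact hg1 ⟨j, by omega⟩ hj
      · simp only [List.getElem_ofFn]
        exact hg2
  · rintro ⟨h1, h2⟩
    constructor
    · intro g hg
      apply h1 g
      intro x hx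
      obtain ⟨i, rfl⟩ := List.mem_ofFn.mp hx
      exact hg i
    · intro i
      obtain ⟨g, hg1, hg2⟩ := h2 i.1 (by simp)
      refine ⟨g, ?_, ?_⟩
      · intro j hj
        have := hg1 j.1 hj
        simpa only [List.getElem_ofFn] using this
      · simpa only [List.getElem_ofFn] using hg2

theorem irr_snoc (l : List Ω) (z : Ω) : Irr G (l ++ [z]) ↔ Irr G l ∧ Moved G l z := by
  constructor
  · intro h
    constructor
    · intro i hi
      obtain ⟨g, hg1, hg2⟩ := h i (by simp; omega)
      refine ⟨g, ?_, ?_⟩
      · intro j hj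
        have := hg1 j hj
        rwa [List.getElem_append_left (by omega)] at this
      · rwa [List.getElem_append_left hi] at hg2
    · obtain ⟨g, hg1, hg2⟩ := h l.length (by simp)
      refine ⟨g, ?_, ?_⟩
      · intro x hx
        obtain ⟨j, hj, rfl⟩ := List.getElem_of_mem hx
        have := hg1 j hj
        rwa [List.getElem_append_left hj] at this
      · simpa using hg2
  · rintro ⟨h1, g, hg1, hg2⟩ i hi
    rw [List.length_append, List.length_singleton] at hi
    rcases Nat.lt_succ_iff_lt_or_eq.mp hi with hi' | rfl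
    · obtain ⟨g', hg'1, hg'2⟩ := h1 i hi'
      refine ⟨g', ?_, ?_⟩
      · intro j hj
        rw [List.getElem_append_left (by omega)]
        exact hg'1 j hj
      · rw [List.getElem_append_left hi']; exact hg'2
    · refine ⟨g, ?_, ?_⟩
      · intro j hj
        rw [List.getElem_append_left hj]
        exact hg1 _ (List.getElem_mem hj)
      · simpa using hg2

theorem irr_nil : Irr G ([] : List Ω) := by
  intro i hi
  simp at hi

theorem irr_nodup {l : List Ω} (h : Irr G l) : l.Nodup := by
  rw [List.Nodup, List.pairwise_iff_getElem]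
  intro i j hi hj hij heq
  obtain ⟨g, hg1, hg2⟩ := h j hj
  have := hg1 i hij
  rw [heq] at this
  exact hg2 this

/-- Pruning a list to an irredundant sublist with the same pointwise stabiliser. -/
theorem exists_prune (l : List Ω) : ∃ l' : List Ω, l'.Sublist l ∧ Irr G l' ∧
    ∀ g : G, (∀ x ∈ l', g • x = x) → ∀ x ∈ l, g • x = x := by
  induction l using List.reverseRecOn with
  | nil => exact ⟨[], List.Sublist.refl _, irr_nil, fun g _ x hx => by simp at hx⟩
  | append_singleton l z ih =>
    obtain ⟨l', hsub, hirr, hfix⟩ := ih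
    by_cases hz : Moved G l' z
    · refine ⟨l' ++ [z], List.Sublist.append hsub (List.Sublist.refl _),
        (irr_snoc l' z).mpr ⟨hirr, hz⟩, ?_⟩
      intro g hg x hx
      rcases List.mem_append.mp hx with hx | hx
      · exact hfix g (fun y hy => hg y (List.mem_append_left _ hy)) x hx
      · exact hg x (List.mem_append_right _ hx)
    · refine ⟨l', hsub.trans (List.sublist_append_left l [z]), hirr, ?_⟩
      intro g hg x hx
      rcases List.mem_append.mp hx with hx | hx
      · exact hfix g hg x hx
      · have hxz : x = z := by simpa using hx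
        subst hxz
        by_contra hne
        exact hz ⟨g, hg, hne⟩

/-- Equal sizes imply invariance under reordering. -/
theorem perm_of_length (hA : ∀ l l' : List Ω, IB G l → IB G l' → l.length = l'.length)
    {l l' : List Ω} (hp : l'.Perm l) (h : IB G l) : IB G l' := by
  have hbase : IsBase G l' := by
    intro g hg
    exact h.1 g (fun x hx => hg x (hp.mem_iff.mpr hx))
  obtain ⟨l'', hsub, hirr, hfix⟩ := exists_prune (G := G) l'
  have hIB : IB G l'' := ⟨fun g hg => hbase g (hfix g hg), hirr⟩
  have hlen : l''.length = l'.length := by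
    rw [← hA l l'' h hIB, hp.length_eq]
  have : l'' = l' := hsub.eq_of_length hlen
  rw [← this]
  exact hIB

/-- Exchange: the last point of an irredundant base can be replaced by any point moved by the
stabiliser of the others. -/
theorem exchange (hB : ∀ l l' : List Ω, l'.Perm l → IB G l → IB G l')
    (l₀ : List Ω) (x z : Ω) (h : IB G (l₀ ++ [x])) (hz : Moved G l₀ z) : IB G (l₀ ++ [z]) := by
  have hirr0 : Irr G l₀ := ((irr_snoc l₀ x).mp h.2).1
  have hirr : Irr G (l₀ ++ [z]) := (irr_snoc l₀ z).mpr ⟨hirr0, hz⟩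
  refine ⟨?_, hirr⟩
  intro g hg
  by_contra hne
  -- then `x` is moved by the stabiliser of `l₀ ++ [z]`
  have hgx : g • x ≠ x := by
    intro hgx
    apply hne
    apply h.1 g
    intro y hy
    rcases List.mem_append.mp hy with hy | hy
    · exact hg y (List.mem_append_left _ hy)
    · have : y = x := by simpa using hy
      rw [this]; exact hgx
  have h1 : IB G (l₀ ++ [z] ++ [x]) := by
    refine ⟨?_, (irr_snoc _ x).mpr ⟨hirr, g, hg, hgx⟩⟩
    intro g' hg'
    apply h.1 g'
    intro y hy
    apply hg' y
    rcases List.mem_append.mp hy with hy | hy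
    · exact List.mem_append_left _ (List.mem_append_left _ hy)
    · exact List.mem_append_right _ hy
  have hperm : (l₀ ++ [x] ++ [z]).Perm (l₀ ++ [z] ++ [x]) := by
    rw [List.append_assoc, List.append_assoc]
    exact List.Perm.append_left l₀ (List.Perm.swap z x [])
  have h2 : IB G (l₀ ++ [x] ++ [z]) := hB _ _ hperm h1
  obtain ⟨g', hg'1, hg'2⟩ := ((irr_snoc _ z).mp h2.2).2
  have : g' = 1 := h.1 g' hg'1
  rw [this, one_smul] at hg'2
  exact hg'2 rfl

/-- Invariance under reordering implies equal sizes. -/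
theorem length_of_perm [DecidableEq Ω] (hB : ∀ l l' : List Ω, l'.Perm l → IB G l → IB G l') :
    ∀ (n : ℕ) (l l' : List Ω), IB G l → IB G l' → l.countP (fun x => decide (x ∉ l')) = n →
      l.length = l'.length := by
  intro n
  induction n with
  | zero =>
    intro l l' h h' hn
    have hsub : ∀ x ∈ l, x ∈ l' := by
      intro x hx
      by_contra hx'
      have : 0 < l.countP (fun x => decide (x ∉ l')) :=
        List.countP_pos_iff.mpr ⟨x, hx, by simpa using hx'⟩
      omega
    have hsub' : ∀ y ∈ l', y ∈ l := by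
      intro y hy
      by_contra hy'
      have hperm : (l'.erase y ++ [y]).Perm l' := by
        refine (List.perm_append_comm).trans ?_
        exact (List.perm_cons_erase hy).symm
      have h2 := hB _ _ hperm h'
      obtain ⟨g, hg1, hg2⟩ := ((irr_snoc _ y).mp h2.2).2
      have : g = 1 := by
        apply h.1 g
        intro x hx
        apply hg1 x
        have hxy : x ≠ y := by
          rintro rfl
          exact hy' hx
        exact (List.mem_erase_of_ne hxy).mpr (hsub x hx)
      rw [this, one_smul] at hg2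
      exact hg2 rfl
    have hperm : l.Perm l' :=
      (List.perm_ext_iff_of_nodup (irr_nodup h.2) (irr_nodup h'.2)).mpr
        (fun a => ⟨hsub a, hsub' a⟩)
    exact hperm.length_eq
  | succ n ih =>
    intro l l' h h' hn
    obtain ⟨x, hx, hx'⟩ : ∃ x ∈ l, x ∉ l' := by
      have : 0 < l.countP (fun x => decide (x ∉ l')) := by omega
      obtain ⟨x, hx, hx'⟩ := List.countP_pos_iff.mp this
      exact ⟨x, hx, by simpa using hx'⟩
    have hperm : (l.erase x ++ [x]).Perm l := by
      refine (List.perm_append_comm).trans ?_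
      exact (List.perm_cons_erase hx).symm
    have h2 := hB _ _ hperm h
    obtain ⟨g, hg1, hg2⟩ := ((irr_snoc _ x).mp h2.2).2
    -- `g` moves some point of `l'`
    obtain ⟨y, hy, hgy⟩ : ∃ y ∈ l', g • y ≠ y := by
      by_contra hcon
      push Not at hcon
      have : g = 1 := h'.1 g hcon
      rw [this, one_smul] at hg2
      exact hg2 rfl
    have h3 : IB G (l.erase x ++ [y]) := exchange hB _ x y h2 ⟨g, hg1, hgy⟩
    have hcount : (l.erase x ++ [y]).countP (fun x => decide (x ∉ l')) = n := by
      have e1 : l.countP (fun x => decide (x ∉ l')) =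
          (l.erase x ++ [x]).countP (fun x => decide (x ∉ l')) := hperm.symm.countP_eq _
      rw [hn, List.countP_append] at e1
      rw [List.countP_append]
      simp [hx', hy] at e1 ⊢
      omega
    have h4 := ih _ l' h3 h' hcount
    rw [← h4, ← hperm.length_eq]
    simp

theorem result {G Ω : Type*} [Group G] [Finite G] [MulAction G Ω] [Fintype Ω] :
    (∀ (t t' : ℕ) (f : Fin t → Ω) (f' : Fin t' → Ω), ((∀ g : G, (∀ i : Fin t, g • f i = f i) → g = 1) ∧ ∀ i : Fin t, ∃ g : G, (∀ j : Fin t, j < i → g • f j = f j) ∧ g • f i ≠ f i) → ((∀ g : G, (∀ i : Fin t', g • f' i = f' i) → g = 1) ∧ ∀ i : Fin t', ∃ g : G, (∀ j : Fin t', j < i → g • f' j = f' j) ∧ g • f' i ≠ f' i) → t = t') ↔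
    (∀ (t : ℕ) (f : Fin t → Ω) (σ : Equiv.Perm (Fin t)), ((∀ g : G, (∀ i : Fin t, g • f i = f i) → g = 1) ∧ ∀ i : Fin t, ∃ g : G, (∀ j : Fin t, j < i → g • f j = f j) ∧ g • f i ≠ f i) → ((∀ g : G, (∀ i : Fin t, g • (f ∘ σ) i = (f ∘ σ) i) → g = 1) ∧ ∀ i : Fin t, ∃ g : G, (∀ j : Fin t, j < i → g • (f ∘ σ) j = (f ∘ σ) j) ∧ g • (f ∘ σ) i ≠ (f ∘ σ) i)) := by
  classical
  show (∀ (t t' : ℕ) (f : Fin t → Ω) (f' : Fin t' → Ω), TB G f → TB G f' → t = t') ↔
    (∀ (t : ℕ) (f : Fin t → Ω) (σ : Equiv.Perm (Fin t)), TB G f → TB G (f ∘ σ))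
  constructor
  · intro hA t f σ hf
    have hA' : ∀ l l' : List Ω, IB G l → IB G l' → l.length = l'.length := by
      intro l l' h h'
      have e1 : List.ofFn l.get = l := List.ofFn_get l
      have e2 : List.ofFn l'.get = l' := List.ofFn_get l'
      rw [← e1] at h
      rw [← e2] at h'
      exact hA _ _ _ _ ((tb_iff _).mpr h) ((tb_iff _).mpr h')
    rw [tb_iff] at hf ⊢
    exact perm_of_length hA' (Equiv.Perm.ofFn_comp_perm σ f) hf
  · intro hB t t' f f' hf hf'
    have hB' : ∀ l l' : List Ω, l'.Perm l → IB G l → IB G l' := by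
      intro l l' hp h
      have e1 : List.ofFn l.get = l := List.ofFn_get l
      have hlen : l'.length = l.length := hp.length_eq
      let g' : Fin l.length → Ω := fun i => l'[i.1]'(by rw [hlen]; exact i.2)
      have e2 : List.ofFn g' = l' := by
        apply List.ext_getElem
        · simp [hlen]
        · intro i h1 h2
          simp [g']
      have hp' : (List.ofFn g').Perm (List.ofFn l.get) := by rw [e1, e2]; exact hp
      obtain ⟨σ, hσ⟩ := exists_perm_of_perm l.get g' hp'
      rw [← e1] at h
      have := hB _ l.get σ ((tb_iff _).mpr h)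
      rw [← hσ, tb_iff, e2] at this
      exact this
    have h1 := (tb_iff f).mp hf
    have h2 := (tb_iff f').mp hf'
    have := length_of_perm hB' _ _ _ h1 h2 rfl
    simpa using this

end Cfsg.Agent.S5747
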