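import Cfsg.Statements.S5748
import Cfsg.Agent.S2202
import Cfsg.Agent.S0182
import Cfsg.Agent.Lib.helper81.CTsl2
import Cfsg.Agent.Lib.helper7.CardSL

set_option autoImplicit false
open Cfsg

namespace Cfsg.Agent.S5748

/-- A simple group of order 6 does not exist. -/
theorem h81_not_simple_six {G : Type*} [Group G] [Finite G] [IsSimpleGroup G] (h6 : Nat.card G = 6) :
    False := by
  have : Fact (Nat.Prime 3) := ⟨Nat.prime_three⟩
  obtain ⟨g, hg⟩ := exists_prime_orderOf_dvd_card' (G := G) 3 (by rw [h6]; norm_num)
  have hZ : Nat.card (Subgroup.zpowers g) = 3 := by rw [Nat.card_zpowers, hg]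
  have hidx : (Subgroup.zpowers g).index = 2 := by
    have := (Subgroup.zpowers g).card_mul_index
    rw [hZ, h6] at this
    omega
  have hn : (Subgroup.zpowers g).Normal := Subgroup.normal_of_index_eq_two hidx
  rcases IsSimpleGroup.eq_bot_or_eq_top_of_normal (Subgroup.zpowers g) hn with hb | ht
  · rw [hb, Subgroup.card_bot] at hZ
    omega
  · rw [ht, Subgroup.card_top, h6] at hZ
    omega

/-- A finite non-abelian simple group in which commuting is a transitive relation on the non-identity elements (equivalently, every non-identity element has abelian centraliser) is isomorphic to PSL₂ over a field with 2^f elements for some f ≥ 2; conversely these groups have that property. -/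
theorem result {G : Type*} [Group G] [Finite G] [IsSimpleGroup G] (hG : ¬ IsMulCommutative G) :
    (∀ a b c : G, a ≠ 1 → b ≠ 1 → c ≠ 1 → Commute a b → Commute b c → Commute a c) ↔
    ∃ (F : Type) (_ : Field F) (_ : Fintype F) (f : ℕ), 2 ≤ f ∧ Fintype.card F = 2 ^ f ∧ Nonempty (G ≃* Matrix.ProjectiveSpecialLinearGroup (Fin 2) F) := by
  have hnc : ¬ ∀ a b : G, a * b = b * a := fun h => hG ⟨⟨h⟩⟩
  constructor
  · intro hCT
    -- centralizers of non-identity elements are abelian
    have hCA : ∀ x : G, x ≠ 1 → ∀ a ∈ Subgroup.centralizer ({x} : Set G),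
        ∀ b ∈ Subgroup.centralizer ({x} : Set G), a * b = b * a := by
      intro x hx a ha b hb
      by_cases ha1 : a = 1
      · subst ha1; simp
      by_cases hb1 : b = 1
      · subst hb1; simp
      have hxa : x * a = a * x := Subgroup.mem_centralizer_iff.mp ha x rfl
      have hxb : x * b = b * x := Subgroup.mem_centralizer_iff.mp hb x rfl
      exact (hCT a x b ha1 hx hb1 hxa.symm hxb).eq
    rcases Nat.even_or_odd (Nat.card G) with heven | hodd
    · -- even order: S2202
      have h : ∀ t : G, orderOf t = 2 → IsMulCommutative ↥(Subgroup.centralizer ({t} : Set G)) := by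
        intro t ht
        have ht1 : t ≠ 1 := by
          rintro rfl
          simp at ht
        exact ⟨⟨fun a b => Subtype.ext (hCA t ht1 a a.2 b b.2)⟩⟩
      have : Fact (Nat.Prime 2) := ⟨Nat.prime_two⟩
      rcases Cfsg.Agent.S2202.result heven h with hcyc | hnor |
        ⟨F, instF, instFt, A, instA, instAf, hchar, hAodd, ⟨e⟩⟩
      · -- cyclic Sylow 2-subgroups: Burnside's normal complement
        exfalso
        have h2 : (Nat.card G).minFac = 2 := (Nat.minFac_eq_two_iff _).mpr heven.two_dvd
        obtain ⟨P⟩ : Nonempty (Sylow 2 G) := inferInstance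
        have hP : IsCyclic ↥P := hcyc P
        have hcomp := IsCyclic.isComplement' h2 hP
        have hcard := hcomp.card_mul_card
        have hPne : (P : Subgroup G) ≠ ⊥ := P.ne_bot_of_dvd_card heven.two_dvd
        rcases IsSimpleGroup.eq_bot_or_eq_top_of_normal _
          (MonoidHom.normal_ker (MonoidHom.transferSylow P (hP.normalizer_le_centralizer h2))) with hN | hN
        · -- the complement is trivial: G = P is cyclic
          rw [hN, Subgroup.card_bot, one_mul] at hcard
          have hPtop : (P : Subgroup G) = ⊤ := Subgroup.eq_top_of_card_eq _ hcard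
          apply hnc
          intro a b
          have ha : a ∈ (P : Subgroup G) := hPtop ▸ Subgroup.mem_top a
          have hb : b ∈ (P : Subgroup G) := hPtop ▸ Subgroup.mem_top b
          obtain ⟨g, hg⟩ := hP.exists_generator
          obtain ⟨i, hi⟩ := Subgroup.mem_zpowers_iff.mp (hg ⟨a, ha⟩)
          obtain ⟨j, hj⟩ := Subgroup.mem_zpowers_iff.mp (hg ⟨b, hb⟩)
          have hab : (⟨a, ha⟩ : ↥(P : Subgroup G)) * ⟨b, hb⟩ = ⟨b, hb⟩ * ⟨a, ha⟩ := by
            rw [← hi, ← hj]
            exact zpow_mul_comm g i j
          exact congrArg Subtype.val hab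
        · -- the complement is everything: P is trivial
          rw [hN, Subgroup.card_top] at hcard
          have hP1 : Nat.card ↥(P : Subgroup G) = 1 := by
            have hpos : 0 < Nat.card G := Nat.card_pos
            exact Nat.eq_of_mul_eq_mul_left hpos (by rw [hcard, mul_one])
          exact hPne (Subgroup.card_eq_one.mp hP1)
      · -- normal Sylow 2-subgroup: G is a 2-group
        exfalso
        obtain ⟨P⟩ : Nonempty (Sylow 2 G) := inferInstance
        have hPne : (P : Subgroup G) ≠ ⊥ := P.ne_bot_of_dvd_card heven.two_dvd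
        rcases IsSimpleGroup.eq_bot_or_eq_top_of_normal (P : Subgroup G) (hnor P) with hb | ht
        · exact hPne hb
        · have hpg : IsPGroup 2 G := by
            intro g
            have hgP : g ∈ (P : Subgroup G) := ht ▸ Subgroup.mem_top g
            obtain ⟨k, hk⟩ := P.isPGroup' ⟨g, hgP⟩
            exact ⟨k, by simpa using congrArg Subtype.val hk⟩
          have : Group.IsNilpotent G := hpg.isNilpotent
          exact hnc (IsSimpleGroup.comm_iff_isSolvable.mpr inferInstance)
      · -- G ≃* SL₂(F) × A
        let φ : G →* Matrix.SpecialLinearGroup (Fin 2) F :=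
          (MonoidHom.fst (Matrix.SpecialLinearGroup (Fin 2) F) A).comp e.toMonoidHom
        have hφs : Function.Surjective φ := by
          intro x
          refine ⟨e.symm (x, 1), ?_⟩
          simp [φ]
        have h2F : (2 : F) = 0 := CharTwo.two_eq_zero
        rcases IsSimpleGroup.eq_bot_or_eq_top_of_normal φ.ker (MonoidHom.normal_ker φ) with hk | hk
        · have hφi : Function.Injective φ := (MonoidHom.ker_eq_bot_iff φ).mp hk
          let e' : G ≃* Matrix.SpecialLinearGroup (Fin 2) F := MulEquiv.ofBijective φ ⟨hφi, hφs⟩
          obtain ⟨n, -, hn⟩ := FiniteField.card F 2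
          have hf : 2 ≤ (n : ℕ) := by
            by_contra hlt
            have hn1 : (n : ℕ) = 1 := by
              have := n.pos
              omega
            have hcF : Fintype.card F = 2 := by rw [hn, hn1]; rfl
            have hcG : Nat.card G = 6 := by
              rw [Nat.card_congr e'.toEquiv, Cfsg.Agent.Lib.helper7.card_SL2 hcF]
              norm_num
            exact h81_not_simple_six hcG
          exact ⟨F, instF, instFt, n, hf, hn,
            ⟨e'.trans (Cfsg.Agent.Lib.helper81.h81_sl2_equiv_psl2 h2F)⟩⟩
        · exfalso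
          obtain ⟨g, hg⟩ := hφs ⟨!![1, 1; 0, 1], by simp [Matrix.det_fin_two]⟩
          have hg1 : φ g = 1 := by
            have : g ∈ φ.ker := hk ▸ Subgroup.mem_top g
            exact this
          rw [hg1] at hg
          have h01 := congrArg (fun m : Matrix.SpecialLinearGroup (Fin 2) F =>
            (m : Matrix (Fin 2) (Fin 2) F) 0 1) hg
          simp at h01
    · -- odd order: S0182
      exact absurd (IsSimpleGroup.comm_iff_isSolvable.mpr (Cfsg.Agent.S0182.result hodd hCA)) hnc
  · rintro ⟨F, instF, instFt, f, hf, hcard, ⟨e⟩⟩
    have h2F : (2 : F) = 0 := by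
      have h0 : ((Fintype.card F : ℕ) : F) = 0 := Nat.cast_card_eq_zero F
      rw [hcard] at h0
      push_cast at h0
      exact pow_eq_zero_iff (by omega) |>.mp h0
    intro a b c _ hb _ hab hbc
    have hb' : e b ≠ 1 := by
      intro h
      exact hb (e.injective (by rw [h, map_one]))
    have hac := Cfsg.Agent.Lib.helper81.h81_psl2_ct h2F (e a) (e b) (e c) hb' (hab.map e) (hbc.map e)
    have : e (a * c) = e (c * a) := by
      rw [map_mul, map_mul]
      exact hac.eq
    exact e.injective this

end Cfsg.Agent.S5748
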