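import Cfsg.Statements.S5752
import Cfsg.Agent.Lib.helper96.TWB
import Cfsg.Agent.Lib.helper96.TWC

set_option autoImplicit false
open Cfsg

namespace Cfsg.Agent.S5752

open Cfsg.Agent.Lib.helper96.TW in
/-- A form of the Thompson–Wielandt Theorem on primitive permutation groups. Let G be a finite group and M₁, M₂ two distinct conjugate maximal subgroups of G with trivial core in G; define two descending sequences of subgroups by A₀ = M₁, B₀ = M₂ and, for every i, A_{i+1} = the core in M₁ of A_i ∩ B_i and B_{i+1} = the core in M₂ of A_i ∩ B_i (the core in M of a subgroup Y ≤ M is the largest normal subgroup of M contained in Y). If A₂ and B₂ are both non-trivial, then for some prime p the subgroup generated by A₂ and B₂ is a p-group, and for each j the generalized Fitting subgroups of M_j and of its first core (A₁, resp. B₁) are their largest normal p-subgroups. -/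
theorem result {G : Type*} [Group G] [Finite G] (M₁ M₂ : Subgroup G) (hmax : IsCoatom M₁) (g : G)
    (hconj : M₂ = M₁.map (MulAut.conj g).toMonoidHom) (hne : M₁ ≠ M₂) (hcore : M₁.normalCore = ⊥)
    (A B : ℕ → Subgroup G) (hA0 : A 0 = M₁) (hB0 : B 0 = M₂)
    (hA : ∀ i, A (i + 1) = ((A i ⊓ B i).subgroupOf M₁).normalCore.map M₁.subtype)
    (hB : ∀ i, B (i + 1) = ((A i ⊓ B i).subgroupOf M₂).normalCore.map M₂.subtype) (hA2 : A 2 ≠ ⊥) (hB2 : B 2 ≠ ⊥) :
    ∃ p : ℕ, p.Prime ∧ IsPGroup p ↥(A 2 ⊔ B 2) ∧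
      Cfsg.generalizedFittingSubgroup ↥M₁ = Cfsg.pCore p ↥M₁ ∧ Cfsg.generalizedFittingSubgroup ↥(A 1) = Cfsg.pCore p ↥(A 1) ∧
      Cfsg.generalizedFittingSubgroup ↥M₂ = Cfsg.pCore p ↥M₂ ∧ Cfsg.generalizedFittingSubgroup ↥(B 1) = Cfsg.pCore p ↥(B 1) := by
  have hA1 : A 1 = coreIn M₁ (M₁ ⊓ M₂) := by
    have h := hA 0
    rw [hA0, hB0] at h
    exact h
  have hB1 : B 1 = coreIn M₂ (M₁ ⊓ M₂) := by
    have h := hB 0
    rw [hA0, hB0] at h
    exact h
  have hA2' : A 2 = coreIn M₁ (A 1 ⊓ B 1) := hA 1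
  have hB2' : B 2 = coreIn M₂ (A 1 ⊓ B 1) := hB 1
  have nX := normalizer_le_of_coatom hmax hcore
  have nY : ∀ N : Subgroup G, N ≠ ⊥ → N ≤ M₂ → M₂ ≤ Subgroup.normalizer (N : Set G) →
      Subgroup.normalizer (N : Set G) ≤ M₂ := by
    rw [hconj]; exact nY_of_nX g nX
  have hcard : Nat.card M₂ = Nat.card M₁ := by
    rw [hconj, Subgroup.card_map_of_injective (MulAut.conj g).injective]
  have nle : ¬ M₂ ≤ M₁ := fun hle =>
    hne (Subgroup.eq_of_le_of_card_ge hle (le_of_eq hcard.symm)).symm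
  have nle' : ¬ M₁ ≤ M₂ := fun hle =>
    hne (Subgroup.eq_of_le_of_card_ge hle (le_of_eq hcard))
  have hcfg : Cfg M₁ M₂ (A 1) (B 1) (A 2) (B 2) :=
    { nX := nX
      nY := nY
      nle := nle
      nle' := nle'
      X1X := by rw [hA1]; exact coreIn_le_left _ _
      X1Y := by rw [hA1]; exact (coreIn_le_right _ _).trans inf_le_right
      XnX1 := by rw [hA1]; exact le_normalizer_coreIn _ _
      coreX := by
        intro N h1 h2 h3
        rw [hA1]
        exact le_coreIn h1 (le_inf h1 h2) h3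
      Y1Y := by rw [hB1]; exact coreIn_le_left _ _
      Y1X := by rw [hB1]; exact (coreIn_le_right _ _).trans inf_le_left
      YnY1 := by rw [hB1]; exact le_normalizer_coreIn _ _
      coreY := by
        intro N h1 h2 h3
        rw [hB1]
        exact le_coreIn h1 (le_inf h2 h1) h3
      AX1 := by rw [hA2']; exact (coreIn_le_right _ _).trans inf_le_left
      AY1 := by rw [hA2']; exact (coreIn_le_right _ _).trans inf_le_right
      XnA := by rw [hA2']; exact le_normalizer_coreIn _ _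
      BX1 := by rw [hB2']; exact (coreIn_le_right _ _).trans inf_le_left
      BY1 := by rw [hB2']; exact (coreIn_le_right _ _).trans inf_le_right
      YnB := by rw [hB2']; exact le_normalizer_coreIn _ _
      hA := hA2
      hB := hB2
      cardP := by
        intro p
        rw [hconj]
        exact (card_pCoreOf_conj p M₁ g).symm
      cardE := by
        rw [hconj]
        exact (card_EOf_conj M₁ g).symm }
  have hex : ∃ p : ℕ, p.Prime ∧ pCoreOf p M₁ ≠ ⊥ := by
    by_contra hno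
    apply nonsolv hcfg
    intro q hq
    by_contra hq'
    exact hno ⟨q, hq, hq'⟩
  obtain ⟨p, hp, hPX⟩ := hex
  have : Fact p.Prime := ⟨hp⟩
  have hPY : pCoreOf p M₂ ≠ ⊥ := by
    intro hbot
    apply hPX
    rw [← Subgroup.card_eq_one, hcfg.cardP p, Subgroup.card_eq_one]
    exact hbot
  have hBp : IsPGroup p (B 2) := factP hcfg hPX
  have hAp : IsPGroup p (A 2) := factP hcfg.symm hPY
  have hX : Cfsg.Agent.Lib.helper54.CharPIn p M₁ := charP hcfg hAp hBp
  have hY : Cfsg.Agent.Lib.helper54.CharPIn p M₂ := charP hcfg.symm hBp hAp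
  have hX1 : Cfsg.Agent.Lib.helper54.CharPIn p (A 1) :=
    Cfsg.Agent.Lib.helper54.CharPIn.of_normal hcfg.X1X hcfg.XnX1 hX
  have hY1 : Cfsg.Agent.Lib.helper54.CharPIn p (B 1) :=
    Cfsg.Agent.Lib.helper54.CharPIn.of_normal hcfg.Y1Y hcfg.YnY1 hY
  refine ⟨p, hp, ?_, (Cfsg.Agent.Lib.helper54.charPIn_iff_fstar M₁).mp hX,
    (Cfsg.Agent.Lib.helper54.charPIn_iff_fstar (A 1)).mp hX1,
    (Cfsg.Agent.Lib.helper54.charPIn_iff_fstar M₂).mp hY,
    (Cfsg.Agent.Lib.helper54.charPIn_iff_fstar (B 1)).mp hY1⟩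
  exact hAp.to_sup_of_normal_right' hBp ((hcfg.AY1.trans hcfg.Y1Y).trans hcfg.YnB)

end Cfsg.Agent.S5752
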