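import Cfsg.Statements.S5754

set_option autoImplicit false
open Cfsg

namespace Cfsg.Agent.S5754

variable {F V : Type*} [Field F] [AddCommGroup V] [Module F V]

/-- The linear functional `y ↦ (Q v)⁻¹ * polar Q y v`. -/
noncomputable def coroot (Q : QuadraticForm F V) (v : V) : Module.Dual F V :=
  (Q v)⁻¹ • (QuadraticMap.polarBilin Q).flip v

theorem coroot_apply (Q : QuadraticForm F V) (v y : V) :
    coroot Q v y = (Q v)⁻¹ * QuadraticMap.polar Q y v := by
  simp [coroot]

theorem coroot_self (Q : QuadraticForm F V) (v : V) (hv : Q v ≠ 0) : coroot Q v v = 2 := by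
  rw [coroot_apply, QuadraticMap.polar_self]
  simp only [nsmul_eq_mul, Nat.cast_ofNat]
  field_simp

theorem map_sub_smul (Q : QuadraticForm F V) (y v : V) (t : F) :
    Q (y - t • v) = Q y + t * t * Q v - t * QuadraticMap.polar Q y v := by
  have h1 : y - t • v = y + (-t) • v := by rw [neg_smul, sub_eq_add_neg]
  rw [h1, QuadraticMap.map_add (⇑Q), QuadraticMap.map_smul, QuadraticMap.polar_smul_right]
  simp only [smul_eq_mul]
  ring

/-- The reflection along an anisotropic vector, as an isometry. -/
noncomputable def refl (Q : QuadraticForm F V) (v : V) (hv : Q v ≠ 0) : Q.IsometryEquiv Q :=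
  { Module.reflection (coroot_self Q v hv) with
    map_app' := by
      intro y
      show Q (Module.reflection (coroot_self Q v hv) y) = Q y
      rw [Module.reflection_apply, map_sub_smul, coroot_apply]
      field_simp
      ring }

theorem refl_apply (Q : QuadraticForm F V) (v : V) (hv : Q v ≠ 0) (y : V) :
    refl Q v hv y = y - ((Q v)⁻¹ * QuadraticMap.polar Q y v) • v := by
  show Module.reflection (coroot_self Q v hv) y = _
  rw [Module.reflection_apply, coroot_apply]

theorem polar_map (Q : QuadraticForm F V) (φ : Q.IsometryEquiv Q) (x y : V) :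
    QuadraticMap.polar Q (φ x) (φ y) = QuadraticMap.polar Q x y := by
  simp only [QuadraticMap.polar]
  rw [← map_add, QuadraticMap.IsometryEquiv.map_app, QuadraticMap.IsometryEquiv.map_app,
    QuadraticMap.IsometryEquiv.map_app]

theorem map_sub_eq (Q : QuadraticForm F V) (a b : V) :
    Q (a - b) = Q a + Q b - QuadraticMap.polar Q a b := by
  have := map_sub_smul Q a b 1
  simpa using this

/-- Families with the same Gram data are carried to one another by an isometry (anisotropic case). -/
theorem exists_isometry {ι : Type*} (Q : QuadraticForm F V) (hQ : Q.Anisotropic) (w w' : ι → V)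
    (hq : ∀ i, Q (w i) = Q (w' i))
    (hp : ∀ i j, QuadraticMap.polar Q (w i) (w j) = QuadraticMap.polar Q (w' i) (w' j))
    (s : Finset ι) : ∃ φ : Q.IsometryEquiv Q, ∀ i ∈ s, φ (w i) = w' i := by
  classical
  induction s using Finset.induction_on with
  | empty => exact ⟨QuadraticMap.IsometryEquiv.refl Q, by simp⟩
  | insert k s hk ih =>
    obtain ⟨φ, hφ⟩ := ih
    by_cases hx : φ (w k) = w' k
    · refine ⟨φ, ?_⟩
      intro i hi
      rcases Finset.mem_insert.mp hi with rfl | hi
      · exact hx
      · exact hφ i hi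
    · have hv0 : φ (w k) - w' k ≠ 0 := sub_ne_zero.mpr hx
      have hv : Q (φ (w k) - w' k) ≠ 0 := fun h => hv0 (hQ _ h)
      have hQx : Q (φ (w k)) = Q (w' k) := by
        rw [QuadraticMap.IsometryEquiv.map_app, hq]
      refine ⟨φ.trans (refl Q _ hv), ?_⟩
      intro i hi
      show refl Q _ hv (φ (w i)) = w' i
      rcases Finset.mem_insert.mp hi with rfl | hi
      · rw [refl_apply]
        have h1 : QuadraticMap.polar Q (φ (w i)) (φ (w i) - w' i) = Q (φ (w i) - w' i) := by
          rw [QuadraticMap.polar_sub_right, QuadraticMap.polar_self, map_sub_eq, hQx]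
          simp only [nsmul_eq_mul, Nat.cast_ofNat]
          ring
        rw [h1, inv_mul_cancel₀ hv, one_smul]
        abel
      · rw [hφ i hi, refl_apply]
        have h1 : QuadraticMap.polar Q (w' i) (φ (w k) - w' k) = 0 := by
          rw [QuadraticMap.polar_sub_right, ← hφ i hi, polar_map, hφ i hi, hp]
          ring
        rw [h1, mul_zero, zero_smul, sub_zero]

theorem result {F V : Type*} [Field F] [Finite F] [AddCommGroup V] [Module F V] [Module.Finite F V]
    (Q : QuadraticForm F V) (hQ : Q.Anisotropic) (n : ℕ) (hn : 2 ≤ n) (u u' : Fin n → V)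
    (h2 : ∀ i j : Fin n, i ≠ j → ∃ (φ : Q.IsometryEquiv Q) (c : V), φ (u i) + c = u' i ∧ φ (u j) + c = u' j) :
    ∃ (φ : Q.IsometryEquiv Q) (c : V), ∀ i, φ (u i) + c = u' i := by
  classical
  -- pairwise differences have the same `Q`-value
  have hD : ∀ i j : Fin n, Q (u i - u j) = Q (u' i - u' j) := by
    intro i j
    by_cases hij : i = j
    · subst hij; simp
    · obtain ⟨φ, c, h1, h2'⟩ := h2 i j hij
      have : φ (u i - u j) = u' i - u' j := by
        rw [map_sub, ← h1, ← h2']
        abel
      rw [← this, QuadraticMap.IsometryEquiv.map_app]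
  let i0 : Fin n := ⟨0, by omega⟩
  obtain ⟨φ, hφ⟩ := exists_isometry Q hQ (fun i => u i - u i0) (fun i => u' i - u' i0)
    (fun i => hD i i0)
    (fun i j => by
      have e1 : ∀ a b : V, QuadraticMap.polar Q a b = Q a + Q b - Q (a - b) := by
        intro a b
        rw [map_sub_eq]
        ring
      rw [e1, e1]
      have e2 : u i - u i0 - (u j - u i0) = u i - u j := by abel
      have e3 : u' i - u' i0 - (u' j - u' i0) = u' i - u' j := by abel
      rw [e2, e3, hD i i0, hD j i0, hD i j])
    Finset.univ
  refine ⟨φ, u' i0 - φ (u i0), ?_⟩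
  intro i
  have := hφ i (Finset.mem_univ i)
  simp only [map_sub] at this
  rw [← sub_eq_zero]
  have h3 : φ (u i) + (u' i0 - φ (u i0)) - u' i = (φ (u i) - φ (u i0)) - (u' i - u' i0) := by abel
  rw [h3, this, sub_self]

end Cfsg.Agent.S5754
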