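import Cfsg.Statements.S5763

set_option autoImplicit false
open Cfsg

namespace Cfsg.Agent.S5763

/-- The standard fixed-point-free involution, as a function. -/
def aF : Fin 8 → Fin 8 := ![1, 0, 3, 2, 5, 4, 7, 6]

/-- The index of the pair `{2k, 2k+1}` containing `i`, as an element of the Klein four-group. -/
def q (i : Fin 8) : Fin 2 × Fin 2 := (⟨i.val / 4, by omega⟩, ⟨(i.val / 2) % 2, by omega⟩)

/-- A section of `q`. -/
def rep (v : Fin 2 × Fin 2) : Fin 8 := ⟨4 * v.1.val + 2 * v.2.val, by omega⟩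

theorem F0 : ∀ i : Fin 8, aF (aF i) = i := by decide
theorem F0' : ∀ i : Fin 8, aF i ≠ i := by decide
theorem F1 : ∀ i j : Fin 8, q i = q j → j = i ∨ j = aF i := by decide
theorem F1' : ∀ i : Fin 8, q (aF i) = q i := by decide
theorem F2 : ∀ π : Fin 2 × Fin 2 → Fin 2 × Fin 2, (∀ v, π v ≠ v ∧ π (π v) = v) →
    ∀ v, π v = v + π 0 := by
  decide +kernel
theorem F3 : ∀ v : Fin 2 × Fin 2, q (rep v) = v := by decide
theorem F4 : ∀ t : Fin 2 × Fin 2, t + t = 0 := by decide

/-- The standard fixed-point-free involution. -/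
def a : Equiv.Perm (Fin 8) := ⟨aF, aF, F0, F0⟩

/-- A list of values as a function on `Fin 8`. -/
def fn (l : List (Fin 8)) (i : Fin 8) : Fin 8 := l.getD i.val 0

/-- Admissible next value of a fixed-point-free involution. -/
def ok (l : List (Fin 8)) (v : Fin 8) : Prop :=
  v.val ≠ l.length ∧ v ∉ l ∧ (∀ j : Fin 8, j.val < l.length → (fn l j).val = l.length → v = j) ∧
    (v.val < l.length → (fn l v).val = l.length)

instance decOk (l : List (Fin 8)) (v : Fin 8) : Decidable (ok l v) := by unfold ok; infer_instance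

/-- Exhaustive search over the fixed-point-free involutions. -/
def Search (P : (Fin 8 → Fin 8) → Prop) : ℕ → List (Fin 8) → Prop
  | 0, l => P (fn l)
  | n + 1, l => ∀ v : Fin 8, ok l v → Search P n (l ++ [v])

instance decSearch (P : (Fin 8 → Fin 8) → Prop) [DecidablePred P] :
    ∀ (n : ℕ) (l : List (Fin 8)), Decidable (Search P n l)
  | 0, l => inferInstanceAs (Decidable (P (fn l)))
  | n + 1, l =>
    haveI : ∀ v, Decidable (Search P n (l ++ [v])) := fun v => decSearch P n (l ++ [v])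
    inferInstanceAs (Decidable (∀ v : Fin 8, ok l v → Search P n (l ++ [v])))

/-- A transposition, as a function. -/
def swapFn (u v i : Fin 8) : Fin 8 := if i = u then v else if i = v then u else i

/-- `C` commutes with the fixed-point-free involution `e` and acts on the orbits of `e` trivially
or as a fixed-point-free involution. -/
def GoodFn (C e : Fin 8 → Fin 8) : Prop :=
  (∀ i, C (e i) = e (C i)) ∧ ((∀ i, C i = i ∨ C i = e i) ∨
    (∀ i, C i ≠ i ∧ C i ≠ e i ∧ (C (C i) = i ∨ C (C i) = e i)))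

instance decGoodFn (C e : Fin 8 → Fin 8) : Decidable (GoodFn C e) := by unfold GoodFn; infer_instance

/-- The conclusion of the search. -/
def ConclFn (f : Fin 8 → Fin 8) : Prop :=
  (∃ u, f u = aF u ∧ GoodFn (swapFn u (aF u)) aF ∧ GoodFn (swapFn u (aF u)) f) ∨
  ((∃ i, aF (f i) ≠ i) ∧ GoodFn (aF ∘ f) aF ∧ GoodFn (aF ∘ f) f) ∨
  ((∃ i, aF (f (aF (f i))) ≠ i) ∧ GoodFn (aF ∘ f ∘ aF ∘ f) aF ∧ GoodFn (aF ∘ f ∘ aF ∘ f) f)

instance decConclFn : DecidablePred ConclFn := fun f => by unfold ConclFn; infer_instance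

set_option maxRecDepth 100000 in
theorem S1 : Search ConclFn 8 [] := by decide +kernel

theorem fn_take (b : Equiv.Perm (Fin 8)) (k : ℕ) (j : Fin 8) (hj : j.val < k) :
    fn ((List.ofFn ⇑b).take k) j = b j := by
  unfold fn
  have hlen : j.val < ((List.ofFn ⇑b).take k).length := by
    rw [List.length_take, List.length_ofFn]
    exact lt_min hj j.2
  rw [List.getD_eq_getElem _ _ hlen, List.getElem_take, List.getElem_ofFn]

theorem search_sound (P : (Fin 8 → Fin 8) → Prop) (b : Equiv.Perm (Fin 8))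
    (hb2 : ∀ i, b (b i) = i) (hb : ∀ i, b i ≠ i) :
    ∀ (n k : ℕ), k + n = 8 → Search P n ((List.ofFn ⇑b).take k) → P ⇑b := by
  intro n
  induction n with
  | zero =>
    intro k hk h
    have hk8 : k = 8 := by omega
    subst hk8
    have h' : P (fn ((List.ofFn ⇑b).take 8)) := h
    have e : fn ((List.ofFn ⇑b).take 8) = ⇑b := by
      funext j
      exact fn_take b 8 j j.2
    rw [e] at h'
    exact h'
  | succ n ih =>
    intro k hk h
    have hk8 : k < 8 := by omega
    have hlen : ((List.ofFn ⇑b).take k).length = k := by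
      rw [List.length_take, List.length_ofFn]
      exact min_eq_left hk8.le
    have h' : ∀ v : Fin 8, ok ((List.ofFn ⇑b).take k) v →
        Search P n ((List.ofFn ⇑b).take k ++ [v]) := h
    have hstep : (List.ofFn ⇑b).take k ++ [b ⟨k, hk8⟩] = (List.ofFn ⇑b).take (k + 1) := by
      rw [List.take_add_one]
      congr 1
      rw [List.getElem?_ofFn]
      simp [hk8]
    apply ih (k + 1) (by omega)
    rw [← hstep]
    apply h'
    refine ⟨?_, ?_, ?_, ?_⟩
    · rw [hlen]
      intro hval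
      exact hb ⟨k, hk8⟩ (Fin.ext hval)
    · intro hmem
      obtain ⟨j, hj, hjeq⟩ := List.getElem_of_mem hmem
      rw [hlen] at hj
      rw [List.getElem_take, List.getElem_ofFn] at hjeq
      have := b.injective hjeq
      have : j = k := by simpa using congrArg Fin.val this
      omega
    · intro j hj hval
      rw [hlen] at hj hval
      rw [fn_take b k j hj] at hval
      have : b j = ⟨k, hk8⟩ := Fin.ext hval
      rw [← this, hb2]
    · intro hv
      rw [hlen] at hv ⊢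
      rw [fn_take b k _ hv, hb2]

/-- The search, for permutations. -/
theorem concl_of_involution (b : Equiv.Perm (Fin 8)) (hb2 : ∀ i, b (b i) = i) (hb : ∀ i, b i ≠ i) :
    ConclFn ⇑b :=
  search_sound ConclFn b hb2 hb 8 0 (by norm_num) S1

theorem apply_inv (f : Equiv.Perm (Fin 8)) (x : Fin 8) : f (f⁻¹ x) = x := f.apply_symm_apply x

theorem inv_apply (f : Equiv.Perm (Fin 8)) (x : Fin 8) : f⁻¹ (f x) = x := f.symm_apply_apply x

/-- The normal 2-subgroup of the centraliser of the standard involution. -/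
def N0 : Subgroup (Equiv.Perm (Fin 8)) where
  carrier := {σ | ∃ t : Fin 2 × Fin 2, ∀ i, q (σ i) = q i + t}
  mul_mem' := by
    rintro σ τ ⟨s, hs⟩ ⟨t, ht⟩
    refine ⟨t + s, fun i => ?_⟩
    rw [Equiv.Perm.mul_apply, hs, ht, add_assoc]
  one_mem' := ⟨0, fun i => by simp⟩
  inv_mem' := by
    rintro σ ⟨s, hs⟩
    refine ⟨-s, fun i => ?_⟩
    have := hs (σ⁻¹ i)
    rw [apply_inv] at this
    exact eq_add_neg_of_add_eq this.symm

theorem mem_N0 (σ : Equiv.Perm (Fin 8)) :
    σ ∈ N0 ↔ ∃ t : Fin 2 × Fin 2, ∀ i, q (σ i) = q i + t := Iff.rfl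

theorem pow_four_of_mem_N0 (σ : Equiv.Perm (Fin 8)) (hσ : σ ∈ N0) : σ ^ 4 = 1 := by
  obtain ⟨t, ht⟩ := hσ
  have h2 : ∀ i, q ((σ * σ) i) = q i := by
    intro i
    rw [Equiv.Perm.mul_apply, ht, ht, add_assoc, F4, add_zero]
  have h3 : ∀ i, (σ * σ) ((σ * σ) i) = i := by
    intro i
    rcases F1 i ((σ * σ) i) (h2 i).symm with h | h
    · rw [h, h]
    · rw [h]
      rcases F1 (aF i) ((σ * σ) (aF i)) (h2 (aF i)).symm with h' | h'
      · exfalso
        have : (σ * σ) (aF i) = (σ * σ) i := by rw [h', h]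
        exact F0' i ((σ * σ).injective this)
      · rw [h', F0]
  ext i
  have : σ ^ 4 = (σ * σ) * (σ * σ) := by
    rw [show (4 : ℕ) = 2 + 2 from rfl, pow_add, pow_two]
  rw [this, Equiv.Perm.mul_apply, h3]
  rfl

theorem isPGroup_N0 : IsPGroup 2 N0 := by
  intro g
  refine ⟨2, ?_⟩
  apply Subtype.ext
  have := pow_four_of_mem_N0 g.1 g.2
  simpa using this

/-- Good permutations for the standard involution lie in `N0`. -/
theorem mem_N0_of_good (c : Equiv.Perm (Fin 8)) (h : GoodFn ⇑c aF) : c ∈ N0 := by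
  obtain ⟨hcomm, h | h⟩ := h
  · refine ⟨0, fun i => ?_⟩
    rw [add_zero]
    rcases h i with h | h
    · rw [h]
    · rw [h, F1']
  · let π : Fin 2 × Fin 2 → Fin 2 × Fin 2 := fun v => q (c (rep v))
    have hK : ∀ i, q (c i) = π (q i) := by
      intro i
      have key : ∀ r : Fin 8, (i = r ∨ i = aF r) → q (c i) = q (c r) := by
        rintro r (h' | h')
        · rw [h']
        · rw [h', hcomm, F1']
      exact key (rep (q i)) (F1 (rep (q i)) i (F3 (q i)))
    have hπ : ∀ v, π v ≠ v ∧ π (π v) = v := by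
      intro v
      constructor
      · intro hv
        have h1 : q (rep v) = q (c (rep v)) := by rw [F3]; exact hv.symm
        rcases F1 _ _ h1 with h' | h'
        · exact (h (rep v)).1 h'
        · exact (h (rep v)).2.1 h'
      · show π (q (c (rep v))) = v
        rw [← hK]
        rcases (h (rep v)).2.2 with h' | h'
        · rw [h', F3]
        · rw [h', F1', F3]
    refine ⟨π 0, fun i => ?_⟩
    rw [hK, F2 π hπ]

/-- Transport of goodness under conjugation. -/
theorem good_conj (y c : Equiv.Perm (Fin 8)) (h : GoodFn ⇑c ⇑(y * a * y⁻¹)) :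
    GoodFn ⇑(y⁻¹ * c * y) aF := by
  have hb : ∀ i, (y * a * y⁻¹) (y i) = y (aF i) := by
    intro i
    show y (aF (y⁻¹ (y i))) = y (aF i)
    rw [inv_apply]
  have hc : ∀ i, (y⁻¹ * c * y) i = y⁻¹ (c (y i)) := fun i => rfl
  have hinv : ∀ z w : Fin 8, y⁻¹ z = w ↔ z = y w := fun z w => Equiv.Perm.inv_eq_iff_eq
  obtain ⟨hcomm, halt⟩ := h
  refine ⟨?_, ?_⟩
  · intro i
    rw [hc, hc, hinv]
    have e1 : y (aF i) = (y * a * y⁻¹) (y i) := (hb i).symm
    have e2 : y (aF (y⁻¹ (c (y i)))) = (y * a * y⁻¹) (c (y i)) := by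
      rw [← hb, apply_inv]
    rw [e1, e2]
    exact hcomm (y i)
  · rcases halt with h | h
    · left
      intro i
      rw [hc, hinv, hinv, ← hb]
      exact h (y i)
    · right
      intro i
      have h1 := h (y i)
      refine ⟨?_, ?_, ?_⟩
      · rw [hc, Ne, hinv]; exact h1.1
      · rw [hc, Ne, hinv, ← hb]; exact h1.2.1
      · rw [hc, hc, apply_inv, hinv, hinv, ← hb]
        exact h1.2.2

/-- Any two conjugates of `N0` meet non-trivially. -/
theorem exists_common (y : Equiv.Perm (Fin 8)) :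
    ∃ c : Equiv.Perm (Fin 8), c ≠ 1 ∧ c ∈ N0 ∧ y⁻¹ * c * y ∈ N0 := by
  set b : Equiv.Perm (Fin 8) := y * a * y⁻¹ with hb
  have hbapp : ∀ i, b i = y (aF (y⁻¹ i)) := fun i => rfl
  have hb2 : ∀ i, b (b i) = i := by
    intro i
    rw [hbapp, hbapp, inv_apply, F0, apply_inv]
  have hbf : ∀ i, b i ≠ i := by
    intro i h
    rw [hbapp] at h
    have h1 : aF (y⁻¹ i) = y⁻¹ i := Equiv.Perm.eq_inv_iff_eq.mpr h
    exact F0' _ h1
  have hconcl := concl_of_involution b hb2 hbf
  have fin : ∀ c : Equiv.Perm (Fin 8), c ≠ 1 → GoodFn ⇑c aF → GoodFn ⇑c ⇑b →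
      ∃ c : Equiv.Perm (Fin 8), c ≠ 1 ∧ c ∈ N0 ∧ y⁻¹ * c * y ∈ N0 :=
    fun c h1 h2 h3 => ⟨c, h1, mem_N0_of_good c h2, mem_N0_of_good _ (good_conj y c h3)⟩
  rcases hconcl with ⟨u, hu, h1, h2⟩ | ⟨⟨i, hi⟩, h1, h2⟩ | ⟨⟨i, hi⟩, h1, h2⟩
  · have e : ⇑(Equiv.swap u (aF u)) = swapFn u (aF u) := by
      funext i
      simp [swapFn, Equiv.swap_apply_def]
    refine fin (Equiv.swap u (aF u)) ?_ ?_ ?_
    · intro h
      have := congrArg (fun σ : Equiv.Perm (Fin 8) => σ u) h
      simp only [Equiv.swap_apply_left, Equiv.Perm.one_apply] at this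
      exact F0' u this
    · rw [e]; exact h1
    · rw [e]; exact h2
  · refine fin (a * b) ?_ h1 h2
    intro h
    apply hi
    exact congrArg (fun σ : Equiv.Perm (Fin 8) => σ i) h
  · refine fin (a * b * (a * b)) ?_ h1 h2
    intro h
    apply hi
    exact congrArg (fun σ : Equiv.Perm (Fin 8) => σ i) h

theorem result (H : Sylow 2 (Equiv.Perm (Fin 8))) (x : Equiv.Perm (Fin 8)) :
    (H : Subgroup (Equiv.Perm (Fin 8))) ⊓ (H : Subgroup (Equiv.Perm (Fin 8))).map (MulAut.conj x).toMonoidHom ≠ ⊥ := by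
  obtain ⟨Q, hQ⟩ := isPGroup_N0.exists_le_sylow
  obtain ⟨g, hg⟩ := MulAction.exists_smul_eq (Equiv.Perm (Fin 8)) Q H
  -- conjugates by `g` of elements of `N0` lie in `H`
  have hmem : ∀ c ∈ N0, g * c * g⁻¹ ∈ (H : Subgroup (Equiv.Perm (Fin 8))) := by
    intro c hc
    have h1 : c ∈ (Q : Subgroup (Equiv.Perm (Fin 8))) := hQ hc
    rw [← hg, Sylow.coe_subgroup_smul]
    have := Subgroup.smul_mem_pointwise_smul c (MulAut.conj g) (Q : Subgroup (Equiv.Perm (Fin 8))) h1
    simpa [MulAut.smul_def] using this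
  obtain ⟨c, hc1, hc2, hc3⟩ := exists_common (g⁻¹ * x * g)
  intro hbot
  have hmem2 : g * c * g⁻¹ ∈ (H : Subgroup (Equiv.Perm (Fin 8))) ⊓
      (H : Subgroup (Equiv.Perm (Fin 8))).map (MulAut.conj x).toMonoidHom := by
    refine ⟨hmem c hc2, ?_⟩
    refine ⟨g * ((g⁻¹ * x * g)⁻¹ * c * (g⁻¹ * x * g)) * g⁻¹, hmem _ hc3, ?_⟩
    show x * (g * ((g⁻¹ * x * g)⁻¹ * c * (g⁻¹ * x * g)) * g⁻¹) * x⁻¹ = g * c * g⁻¹
    group
  rw [hbot, Subgroup.mem_bot] at hmem2
  apply hc1
  have : c = g⁻¹ * (g * c * g⁻¹) * g := by group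
  rw [this, hmem2]
  group

end Cfsg.Agent.S5763
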