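import Cfsg.Statements.S5876
-- import your own Cfsg.Agent.* helpers here

set_option autoImplicit false
open Cfsg

namespace Cfsg.Agent.S5876

open scoped commutatorElement

/-- Abstract group-theoretic core: a "fixed-space dimension" function `d` on a finite solvable
group which vanishes on non-identity elements of abelian normal subgroups and satisfies the
intersection inequality is bounded by `3n/4` on non-identity elements. -/
theorem abstract_bound {Γ : Type*} [Group Γ] [Finite Γ] [Group.IsSolvable Γ] (d : Γ → ℕ) (n : ℕ)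
    (hd : ∀ g x : Γ, 2 * d g ≤ n + d (g⁻¹ * (x⁻¹ * g * x)))
    (h0 : ∀ A : Subgroup Γ, A.Normal → A ≤ Subgroup.centralizer (A : Set Γ) →
      ∀ a ∈ A, a ≠ 1 → d a = 0)
    (g : Γ) (hg : g ≠ 1) : 4 * d g ≤ 3 * n := by
  classical
  -- basic commutation facts
  have comm_of : ∀ u v : Γ, u⁻¹ * (v⁻¹ * u * v) = 1 → u * v = v * u := by
    intro u v h
    have h' : u = v⁻¹ * u * v := inv_mul_eq_one.mp h
    calc u * v = v * (v⁻¹ * u * v) := by simp [mul_assoc]
      _ = v * u := by rw [← h']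
  have conj_mem : ∀ (X : Subgroup Γ), X.Normal → ∀ u : Γ, ∀ v ∈ X, u⁻¹ * (v⁻¹ * u * v) ∈ X := by
    intro X hX u v hv
    have h1 : u⁻¹ * v⁻¹ * u⁻¹⁻¹ ∈ X := hX.conj_mem _ (X.inv_mem hv) _
    rw [inv_inv] at h1
    have h2 := X.mul_mem h1 hv
    simpa [mul_assoc] using h2
  -- a maximal abelian normal subgroup
  let P : Set (Subgroup Γ) := {A | A.Normal ∧ A ≤ Subgroup.centralizer (A : Set Γ)}
  have hbot : (⊥ : Subgroup Γ) ∈ P := ⟨inferInstance, bot_le⟩
  obtain ⟨A, -, hAmax⟩ := (Set.toFinite P).exists_le_maximal hbot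
  obtain ⟨⟨hAn, hAc⟩, hAm⟩ := hAmax
  by_cases hgA : ∀ a ∈ A, g * a = a * g
  swap
  · push Not at hgA
    obtain ⟨a, ha, hne⟩ := hgA
    have hz : g⁻¹ * (a⁻¹ * g * a) ∈ A := conj_mem A hAn g a ha
    have hz1 : g⁻¹ * (a⁻¹ * g * a) ≠ 1 := fun h => hne (comm_of g a h)
    have := hd g a
    rw [h0 A hAn hAc _ hz hz1] at this
    omega
  -- now `g` centralises `A`
  let Q : Set (Subgroup Γ) := {D | D.Normal ∧ A ≤ D ∧ D ≤ Subgroup.centralizer (A : Set Γ) ∧
    D ≤ Subgroup.centralizer ({g} : Set Γ)}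
  have hAQ : A ∈ Q := ⟨hAn, le_rfl, hAc, fun a ha => by
    rw [Subgroup.mem_centralizer_iff]
    rintro h rfl
    exact hgA a ha⟩
  obtain ⟨D, -, hDmax⟩ := (Set.toFinite Q).exists_le_maximal hAQ
  obtain ⟨⟨hDn, hAD, hDA, hDg⟩, hDm⟩ := hDmax
  let C := Subgroup.centralizer (D : Set Γ)
  have hCn : C.Normal := Subgroup.normal_centralizer
  have hgC : g ∈ C := by
    rw [Subgroup.mem_centralizer_iff]
    intro x hx
    have := Subgroup.mem_centralizer_iff.mp (hDg hx) g rfl
    exact this.symm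
  have hAC : A ≤ C := Subgroup.le_centralizer_iff.mpr hDA
  have hDC : D ⊓ C ≤ A := by
    have hmem : D ⊓ C ∈ P := by
      refine ⟨Subgroup.normal_inf_normal D C, ?_⟩
      intro x hx
      rw [Subgroup.mem_centralizer_iff]
      intro y hy
      exact Subgroup.mem_centralizer_iff.mp hx.2 y hy.1
    exact hAm hmem (le_inf hAD hAC)
  by_cases hCA : C ≤ A
  · have := h0 A hAn hAc g (hCA hgC) hg
    omega
  obtain ⟨k, hk⟩ := Group.IsSolvable.solvable (G := Γ)
  let X : ℕ → Subgroup Γ := fun i => derivedSeries Γ i ⊓ C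
  have hX0 : ¬ X 0 ≤ A := by
    intro h
    apply hCA
    intro c hc
    exact h ⟨by simp, hc⟩
  have hXk : X k ≤ A := by
    intro c hc
    have : c ∈ derivedSeries Γ k := hc.1
    rw [hk, Subgroup.mem_bot] at this
    rw [this]; exact A.one_mem
  have hex : ∃ i, ¬ X i ≤ A ∧ X (i + 1) ≤ A := by
    by_contra hcon
    push Not at hcon
    have hall : ∀ i, ¬ X i ≤ A := by
      intro i
      induction i with
      | zero => exact hX0
      | succ i ih => exact hcon i ih
    exact hall k hXk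
  obtain ⟨i, hXi, hXi1⟩ := hex
  have hXn : (X i).Normal := by
    have := derivedSeries_normal Γ i
    exact Subgroup.normal_inf_normal _ C
  have hXC : X i ≤ C := inf_le_right
  have hXA : X i ≤ Subgroup.centralizer (A : Set Γ) :=
    hXC.trans (Subgroup.centralizer_le hAD)
  by_cases hgX : ∀ x ∈ X i, g * x = x * g
  · exfalso
    have hD' : D ⊔ X i ∈ Q := by
      refine ⟨Subgroup.sup_normal D (X i), le_sup_of_le_left hAD, sup_le hDA hXA, sup_le hDg ?_⟩
      intro x hx
      rw [Subgroup.mem_centralizer_iff]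
      rintro h rfl
      exact hgX x hx
    have hle := hDm hD' le_sup_left
    have hXD : X i ≤ D := le_sup_right.trans hle
    exact hXi (fun x hx => hDC ⟨hXD hx, hXC hx⟩)
  · push Not at hgX
    obtain ⟨x, hx, hne⟩ := hgX
    have hzX : g⁻¹ * (x⁻¹ * g * x) ∈ X i := conj_mem (X i) hXn g x hx
    have hz1 : g⁻¹ * (x⁻¹ * g * x) ≠ 1 := fun h => hne (comm_of g x h)
    have h1 := hd g x
    by_cases hzA : g⁻¹ * (x⁻¹ * g * x) ∈ A
    · rw [h0 A hAn hAc _ hzA hz1] at h1
      omega
    · have hexb : ∃ b ∈ X i, g⁻¹ * (x⁻¹ * g * x) * b ≠ b * (g⁻¹ * (x⁻¹ * g * x)) := by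
        by_contra hcon
        push Not at hcon
        let Y := X i ⊓ Subgroup.centralizer (X i : Set Γ)
        have hzY : g⁻¹ * (x⁻¹ * g * x) ∈ Y :=
          ⟨hzX, Subgroup.mem_centralizer_iff.mpr (fun b hb => (hcon b hb).symm)⟩
        have hYn : Y.Normal := Subgroup.normal_inf_normal _ _
        have hYA : Y ≤ Subgroup.centralizer (A : Set Γ) := inf_le_left.trans hXA
        have hAY : A ≤ Subgroup.centralizer (Y : Set Γ) := Subgroup.le_centralizer_iff.mpr hYA
        have hYY : Y ≤ Subgroup.centralizer (Y : Set Γ) := by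
          intro y hy
          rw [Subgroup.mem_centralizer_iff]
          intro y' hy'
          exact Subgroup.mem_centralizer_iff.mp hy.2 y' hy'.1
        have hmem : A ⊔ Y ∈ P := by
          refine ⟨Subgroup.sup_normal A Y, sup_le ?_ ?_⟩
          · exact Subgroup.le_centralizer_iff.mpr (sup_le hAc hYA)
          · exact Subgroup.le_centralizer_iff.mpr (sup_le hAY hYY)
        exact hzA ((le_sup_right.trans (hAm hmem le_sup_left)) hzY)
      obtain ⟨b, hb, hbz⟩ := hexb
      set z := g⁻¹ * (x⁻¹ * g * x) with hz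
      have hc1 : z⁻¹ * (b⁻¹ * z * b) ≠ 1 := fun h => hbz (comm_of z b h)
      have hcA : z⁻¹ * (b⁻¹ * z * b) ∈ A := by
        apply hXi1
        refine ⟨?_, ?_⟩
        · have hcomm : z⁻¹ * (b⁻¹ * z * b) = ⁅z⁻¹, b⁻¹⁆ := by
            simp [commutatorElement_def, mul_assoc]
          rw [hcomm, derivedSeries_succ]
          exact Subgroup.commutator_mem_commutator (Subgroup.inv_mem _ hzX.1) (Subgroup.inv_mem _ hb.1)
        · exact C.mul_mem (C.inv_mem hzX.2) (C.mul_mem (C.mul_mem (C.inv_mem hb.2) hzX.2) hb.2)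
      have h2 := hd z b
      rw [h0 A hAn hAc _ hcA hc1] at h2
      omega


section key

variable {F : Type*} [Field F] {n : ℕ}

/-- conjugation of a matrix by an invertible matrix -/
def cj (u : Matrix.GeneralLinearGroup (Fin n) F) (x : Matrix (Fin n) (Fin n) F) :
    Matrix (Fin n) (Fin n) F :=
  (u : Matrix (Fin n) (Fin n) F) * x *
    ((u⁻¹ : Matrix.GeneralLinearGroup (Fin n) F) : Matrix (Fin n) (Fin n) F)

theorem cj_one (x : Matrix (Fin n) (Fin n) F) : cj 1 x = x := by
  simp [cj]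

theorem cj_zero (u : Matrix.GeneralLinearGroup (Fin n) F) : cj u (0 : Matrix (Fin n) (Fin n) F) = 0 := by
  simp [cj]

theorem cj_mul (u v : Matrix.GeneralLinearGroup (Fin n) F) (x : Matrix (Fin n) (Fin n) F) :
    cj (u * v) x = cj u (cj v x) := by
  simp [cj, mul_assoc]

theorem cj_mul_cj (u : Matrix.GeneralLinearGroup (Fin n) F) (x y : Matrix (Fin n) (Fin n) F) :
    cj u x * cj u y = cj u (x * y) := by
  simp [cj, mul_assoc]

theorem cj_eq_zero {u : Matrix.GeneralLinearGroup (Fin n) F} {x : Matrix (Fin n) (Fin n) F}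
    (h : cj u x = 0) : x = 0 := by
  have h2 := congrArg (cj u⁻¹) h
  rwa [← cj_mul, inv_mul_cancel, cj_one, cj_zero] at h2

theorem toLin_injective (u : Matrix.GeneralLinearGroup (Fin n) F) :
    Function.Injective (Matrix.toLin' (u : Matrix (Fin n) (Fin n) F)) := by
  intro v w h
  have h2 := congrArg (Matrix.toLin' ((u⁻¹ : Matrix.GeneralLinearGroup (Fin n) F) : Matrix (Fin n) (Fin n) F)) h
  simpa using h2

theorem toLin_surjective (u : Matrix.GeneralLinearGroup (Fin n) F) :
    Function.Surjective (Matrix.toLin' (u : Matrix (Fin n) (Fin n) F)) :=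
  LinearMap.injective_iff_surjective.mp (toLin_injective u)

/-- the column space of a matrix -/
def rg (x : Matrix (Fin n) (Fin n) F) : Submodule F (Fin n → F) :=
  LinearMap.range (Matrix.toLin' x)

theorem rg_mul_le (a b : Matrix (Fin n) (Fin n) F) : rg (a * b) ≤ rg a := by
  unfold rg
  rw [Matrix.toLin'_mul]
  exact LinearMap.range_comp_le_range _ _

theorem rg_mul (a b : Matrix (Fin n) (Fin n) F) : rg (a * b) = (rg b).map (Matrix.toLin' a) := by
  unfold rg
  rw [Matrix.toLin'_mul, LinearMap.range_comp]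

theorem rg_eq_bot {a : Matrix (Fin n) (Fin n) F} : rg a = ⊥ ↔ a = 0 := by
  unfold rg
  rw [LinearMap.range_eq_bot]
  exact LinearEquiv.map_eq_zero_iff _

theorem rg_cj (u : Matrix.GeneralLinearGroup (Fin n) F) (x : Matrix (Fin n) (Fin n) F) :
    rg (cj u x) = (rg x).map (Matrix.toLin' (u : Matrix (Fin n) (Fin n) F)) := by
  unfold cj rg
  rw [Matrix.toLin'_mul, Matrix.toLin'_mul, LinearMap.comp_assoc, LinearMap.range_comp,
    LinearMap.range_comp_of_range_eq_top _ (LinearMap.range_eq_top.mpr (toLin_surjective u⁻¹))]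

theorem finrank_rg_cj (u : Matrix.GeneralLinearGroup (Fin n) F) (x : Matrix (Fin n) (Fin n) F) :
    Module.finrank F (rg (cj u x)) = Module.finrank F (rg x) := by
  rw [rg_cj]
  exact (Submodule.equivMapOfInjective _ (toLin_injective u) _).finrank_eq.symm


/-- Claim A: two minimal-rank non-zero elements of a commutative multiplicatively closed set
with non-zero product have the same column space. -/
theorem claimA (E : Set (Matrix (Fin n) (Fin n) F))
    (hEc : ∀ x ∈ E, ∀ y ∈ E, x * y = y * x)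
    (hEm : ∀ x ∈ E, ∀ y ∈ E, x * y ∈ E)
    (z z' : Matrix (Fin n) (Fin n) F) (hz : z ∈ E) (hz' : z' ∈ E)
    (hmin : ∀ w ∈ E, w ≠ 0 → Module.finrank F (rg z) ≤ Module.finrank F (rg w))
    (hmin' : ∀ w ∈ E, w ≠ 0 → Module.finrank F (rg z') ≤ Module.finrank F (rg w))
    (hne : z * z' ≠ 0) : rg (z * z') = rg z ∧ rg (z * z') = rg z' := by
  have hmem : z * z' ∈ E := hEm z hz z' hz'
  refine ⟨Submodule.eq_of_le_of_finrank_le (rg_mul_le z z') (hmin _ hmem hne), ?_⟩
  have hle : rg (z * z') ≤ rg z' := by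
    rw [hEc z hz z' hz']
    exact rg_mul_le z' z
  exact Submodule.eq_of_le_of_finrank_le hle (hmin' _ hmem hne)

/-- Claim C: the column spaces of the conjugates of a non-zero matrix span everything. -/
theorem claimC (G : Subgroup (Matrix.GeneralLinearGroup (Fin n) F))
    (hirr : Cfsg.Geo.ActsIrreducibly (Cfsg.Geo.matrixSet G))
    (z : Matrix (Fin n) (Fin n) F) (hz0 : z ≠ 0) :
    (⨆ h : G, rg (cj (h : Matrix.GeneralLinearGroup (Fin n) F) z)) = ⊤ := by
  have hinv : ∀ s ∈ Cfsg.Geo.matrixSet G,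
      (⨆ h : G, rg (cj (h : Matrix.GeneralLinearGroup (Fin n) F) z)).map (Matrix.toLin' s) ≤
        ⨆ h : G, rg (cj (h : Matrix.GeneralLinearGroup (Fin n) F) z) := by
    rintro s ⟨g, hg, rfl⟩
    rw [Submodule.map_iSup]
    refine iSup_le fun h => ?_
    rw [← rg_cj, ← cj_mul]
    exact le_iSup (fun h : G => rg (cj (h : Matrix.GeneralLinearGroup (Fin n) F) z))
      ⟨g * h, G.mul_mem hg h.2⟩
  rcases hirr _ hinv with h | h
  · exfalso
    have h1 : rg z ≤ ⨆ h : G, rg (cj (h : Matrix.GeneralLinearGroup (Fin n) F) z) := by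
      have := le_iSup (fun h : G => rg (cj (h : Matrix.GeneralLinearGroup (Fin n) F) z)) 1
      simpa [cj_one] using this
    rw [h, le_bot_iff, rg_eq_bot] at h1
    exact hz0 h1
  · exact h


/-- Claim B: a minimal-rank non-zero element has non-zero square. -/
theorem claimB (G : Subgroup (Matrix.GeneralLinearGroup (Fin n) F))
    (hirr : Cfsg.Geo.ActsIrreducibly (Cfsg.Geo.matrixSet G))
    (E : Set (Matrix (Fin n) (Fin n) F))
    (hEc : ∀ x ∈ E, ∀ y ∈ E, x * y = y * x)
    (hEm : ∀ x ∈ E, ∀ y ∈ E, x * y ∈ E)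
    (hEG : ∀ h ∈ G, ∀ x ∈ E, cj h x ∈ E)
    (z : Matrix (Fin n) (Fin n) F) (hz : z ∈ E) (hz0 : z ≠ 0)
    (hmin : ∀ w ∈ E, w ≠ 0 → Module.finrank F (rg z) ≤ Module.finrank F (rg w)) :
    z * z ≠ 0 := by
  intro hzz
  have h1 : ∀ h : G, z * cj (h : Matrix.GeneralLinearGroup (Fin n) F) z = 0 := by
    intro h
    by_contra hne
    have hcE : cj (h : Matrix.GeneralLinearGroup (Fin n) F) z ∈ E := hEG h h.2 z hz
    have hmin' : ∀ w ∈ E, w ≠ 0 →
        Module.finrank F (rg (cj (h : Matrix.GeneralLinearGroup (Fin n) F) z)) ≤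
          Module.finrank F (rg w) := by
      intro w hw hw0
      rw [finrank_rg_cj]
      exact hmin w hw hw0
    obtain ⟨e1, e2⟩ := claimA E hEc hEm z _ hz hcE hmin hmin' hne
    have e3 : rg z = ⊥ := by
      rw [← e1, rg_mul, ← e2, e1, ← rg_mul, hzz, rg_eq_bot]
    exact hz0 (rg_eq_bot.mp e3)
  have h2 : (⊤ : Submodule F (Fin n → F)) ≤ LinearMap.ker (Matrix.toLin' z) := by
    rw [← claimC G hirr z hz0]
    refine iSup_le fun h => ?_
    rintro v ⟨w, rfl⟩
    rw [LinearMap.mem_ker, ← LinearMap.comp_apply, ← Matrix.toLin'_mul, h1 h]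
    simp
  have h3 : Matrix.toLin' z = 0 := LinearMap.ker_eq_top.mp (top_le_iff.mp h2)
  exact hz0 ((LinearEquiv.map_eq_zero_iff _).mp h3)

/-- Claim D: a minimal-rank non-zero element is injective on its column space. -/
theorem claimD (G : Subgroup (Matrix.GeneralLinearGroup (Fin n) F))
    (hirr : Cfsg.Geo.ActsIrreducibly (Cfsg.Geo.matrixSet G))
    (E : Set (Matrix (Fin n) (Fin n) F))
    (hEc : ∀ x ∈ E, ∀ y ∈ E, x * y = y * x)
    (hEm : ∀ x ∈ E, ∀ y ∈ E, x * y ∈ E)
    (hEG : ∀ h ∈ G, ∀ x ∈ E, cj h x ∈ E)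
    (z : Matrix (Fin n) (Fin n) F) (hz : z ∈ E) (hz0 : z ≠ 0)
    (hmin : ∀ w ∈ E, w ≠ 0 → Module.finrank F (rg z) ≤ Module.finrank F (rg w)) :
    ∀ v ∈ rg z, Matrix.toLin' z v = 0 → v = 0 := by
  have hzz := claimB G hirr E hEc hEm hEG z hz hz0 hmin
  have e1 : rg (z * z) = rg z :=
    Submodule.eq_of_le_of_finrank_le (rg_mul_le z z) (hmin _ (hEm z hz z hz) hzz)
  rw [rg_mul] at e1
  have hf : ∀ v ∈ rg z, Matrix.toLin' z v ∈ rg z := fun v _ => LinearMap.mem_range_self _ v
  have hsurj : Function.Surjective ((Matrix.toLin' z).restrict hf) := by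
    rintro ⟨w, hw⟩
    have hw' : w ∈ (rg z).map (Matrix.toLin' z) := by rw [e1]; exact hw
    obtain ⟨v, hv, rfl⟩ := hw'
    exact ⟨⟨v, hv⟩, rfl⟩
  have hinj := LinearMap.injective_iff_surjective.mpr hsurj
  intro v hv hv0
  have h0 : (⟨v, hv⟩ : rg z) = 0 := by
    apply hinj
    apply Subtype.ext
    simpa using hv0
  exact congrArg Subtype.val h0


/-- Key lemma: in an irreducible primitive linear group `G`, every non-zero element of a
commutative, multiplicatively closed, `G`-conjugation-invariant set of matrices is injective. -/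
theorem key_lemma [Fintype F] (G : Subgroup (Matrix.GeneralLinearGroup (Fin n) F))
    (hirr : Cfsg.Geo.ActsIrreducibly (Cfsg.Geo.matrixSet G))
    (hprim : ∀ (m t : ℕ) (D : Fin t → Submodule F (Fin n → F)), 2 ≤ t →
      Cfsg.Geo.IsMDecomposition m D → ¬ G ≤ Cfsg.Geo.decompositionStabilizer D)
    (E : Set (Matrix (Fin n) (Fin n) F))
    (hEc : ∀ x ∈ E, ∀ y ∈ E, x * y = y * x)
    (hEm : ∀ x ∈ E, ∀ y ∈ E, x * y ∈ E)
    (hEG : ∀ h ∈ G, ∀ x ∈ E, cj h x ∈ E)
    (x : Matrix (Fin n) (Fin n) F) (hx : x ∈ E) (hx0 : x ≠ 0) :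
    Function.Injective (Matrix.toLin' x) := by
  classical
  obtain ⟨y, ⟨hyE, hy0⟩, hymin'⟩ := Set.exists_min_image {z | z ∈ E ∧ z ≠ 0}
    (fun z => Module.finrank F (rg z)) (Set.toFinite _) ⟨x, hx, hx0⟩
  have hymin : ∀ w ∈ E, w ≠ 0 → Module.finrank F (rg y) ≤ Module.finrank F (rg w) :=
    fun w hw hw0 => hymin' w ⟨hw, hw0⟩
  have hcE : ∀ h : G, cj (h : Matrix.GeneralLinearGroup (Fin n) F) y ∈ E :=
    fun h => hEG h h.2 y hyE
  have hc0 : ∀ h : G, cj (h : Matrix.GeneralLinearGroup (Fin n) F) y ≠ 0 :=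
    fun h hh => hy0 (cj_eq_zero hh)
  have hcmin : ∀ h : G, ∀ w ∈ E, w ≠ 0 →
      Module.finrank F (rg (cj (h : Matrix.GeneralLinearGroup (Fin n) F) y)) ≤
        Module.finrank F (rg w) := by
    intro h w hw hw0
    rw [finrank_rg_cj]
    exact hymin w hw hw0
  let 𝒟 : Set (Submodule F (Fin n → F)) :=
    Set.range (fun h : G => rg (cj (h : Matrix.GeneralLinearGroup (Fin n) F) y))
  have : Finite 𝒟 := (Set.finite_range _).to_subtype
  let e := Finite.equivFin 𝒟
  let D : Fin (Nat.card 𝒟) → Submodule F (Fin n → F) :=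
    fun i => (e.symm i : Submodule F (Fin n → F))
  have d1 : ∀ i, ∃ h : G, D i = rg (cj (h : Matrix.GeneralLinearGroup (Fin n) F) y) := by
    intro i
    obtain ⟨h, hh⟩ := (e.symm i).2
    exact ⟨h, hh.symm⟩
  have d2 : ∀ h : G, ∃ i, D i = rg (cj (h : Matrix.GeneralLinearGroup (Fin n) F) y) := by
    intro h
    refine ⟨e ⟨rg (cj (h : Matrix.GeneralLinearGroup (Fin n) F) y), ⟨h, rfl⟩⟩, ?_⟩
    show ((e.symm (e _) : 𝒟) : Submodule F (Fin n → F)) = _
    rw [Equiv.symm_apply_apply]
  have d3 : Function.Injective D := Subtype.val_injective.comp e.symm.injective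
  have d6 : iSup D = ⊤ := by
    rw [eq_top_iff, ← claimC G hirr y hy0]
    refine iSup_le fun h => ?_
    obtain ⟨i, hi⟩ := d2 h
    rw [← hi]
    exact le_iSup D i
  have d7 : G ≤ Cfsg.Geo.decompositionStabilizer D := by
    intro g hg
    have hex : ∀ i, ∃ j, (D i).map (Matrix.toLin' (g : Matrix (Fin n) (Fin n) F)) = D j := by
      intro i
      obtain ⟨h, hh⟩ := d1 i
      obtain ⟨j, hj⟩ := d2 ⟨g * h, G.mul_mem hg h.2⟩
      refine ⟨j, ?_⟩
      rw [hj, hh, ← rg_cj, ← cj_mul]
    choose φ hφ using hex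
    have hφinj : Function.Injective φ := by
      intro i i' hii
      apply d3
      apply Submodule.map_injective_of_injective (toLin_injective g)
      rw [hφ, hφ, hii]
    exact ⟨Equiv.ofBijective φ (Finite.injective_iff_bijective.mp hφinj), fun i => hφ i⟩
  have hr : 0 < Module.finrank F (rg y) := by
    rw [Nat.pos_iff_ne_zero, Ne, Submodule.finrank_eq_zero, rg_eq_bot]
    exact hy0
  have htop : rg y = ⊤ := by
    by_cases ht : 2 ≤ Nat.card 𝒟
    · exfalso
      refine hprim (Module.finrank F (rg y)) (Nat.card 𝒟) D ht ⟨ht, hr, ?_, ?_, d6⟩ d7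
      · intro i
        obtain ⟨h, hh⟩ := d1 i
        rw [hh, finrank_rg_cj]
      · intro i
        obtain ⟨h, hh⟩ := d1 i
        rw [Submodule.disjoint_def]
        intro v hv hv'
        rw [hh] at hv
        refine claimD G hirr E hEc hEm hEG _ (hcE h) (hc0 h) (hcmin h) v hv ?_
        have hle : (⨆ j, ⨆ (_ : j ≠ i), D j) ≤
            LinearMap.ker (Matrix.toLin' (cj (h : Matrix.GeneralLinearGroup (Fin n) F) y)) := by
          refine iSup_le fun j => iSup_le fun hji => ?_
          obtain ⟨h', hh'⟩ := d1 j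
          have hne : rg (cj (h : Matrix.GeneralLinearGroup (Fin n) F) y) ≠
              rg (cj (h' : Matrix.GeneralLinearGroup (Fin n) F) y) := by
            rw [← hh, ← hh']
            exact fun hc => hji (d3 hc).symm
          have hz : cj (h : Matrix.GeneralLinearGroup (Fin n) F) y *
              cj (h' : Matrix.GeneralLinearGroup (Fin n) F) y = 0 := by
            by_contra hnz
            obtain ⟨e1, e2⟩ := claimA E hEc hEm _ _ (hcE h) (hcE h') (hcmin h) (hcmin h') hnz
            exact hne (e1.symm.trans e2)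
          rw [hh']
          rintro v ⟨w, rfl⟩
          rw [LinearMap.mem_ker, ← LinearMap.comp_apply, ← Matrix.toLin'_mul, hz]
          simp
        exact LinearMap.mem_ker.mp (hle hv')
    · obtain ⟨i0, hi0⟩ := d2 1
      rw [show ((1 : G) : Matrix.GeneralLinearGroup (Fin n) F) = 1 from rfl, cj_one] at hi0
      rw [eq_top_iff, ← d6]
      refine iSup_le fun i => ?_
      have hii : i = i0 := by
        apply Fin.ext
        have h1 := i.2
        have h2 := i0.2
        omega
      rw [hii, hi0]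
  have hxr : rg x = ⊤ := by
    apply Submodule.eq_top_of_finrank_eq
    have h1 := hymin x hx hx0
    rw [htop, finrank_top] at h1
    exact le_antisymm (Submodule.finrank_le _) h1
  exact LinearMap.injective_iff_surjective.mpr (LinearMap.range_eq_top.mp hxr)


theorem mem_eig {u : Matrix.GeneralLinearGroup (Fin n) F} {v : Fin n → F} :
    v ∈ Module.End.eigenspace (Matrix.toLin' (u : Matrix (Fin n) (Fin n) F)) 1 ↔
      (u : Matrix (Fin n) (Fin n) F).mulVec v = v := by
  rw [Module.End.mem_eigenspace_iff, one_smul, Matrix.toLin'_apply]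

/-- The dimension inequality for fixed spaces of `u` and a conjugate. -/
theorem fixed_ineq (u x : Matrix.GeneralLinearGroup (Fin n) F) :
    2 * Module.finrank F
        (Module.End.eigenspace (Matrix.toLin' (u : Matrix (Fin n) (Fin n) F)) 1) ≤
      n + Module.finrank F (Module.End.eigenspace (Matrix.toLin'
        ((u⁻¹ * (x⁻¹ * u * x) : Matrix.GeneralLinearGroup (Fin n) F) :
          Matrix (Fin n) (Fin n) F)) 1) := by
  have h1 : Module.finrank F
        (Module.End.eigenspace (Matrix.toLin' (u : Matrix (Fin n) (Fin n) F)) 1) ≤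
      Module.finrank F (Module.End.eigenspace (Matrix.toLin'
        ((x⁻¹ * u * x : Matrix.GeneralLinearGroup (Fin n) F) :
          Matrix (Fin n) (Fin n) F)) 1) := by
    have hle : (Module.End.eigenspace (Matrix.toLin' (u : Matrix (Fin n) (Fin n) F)) 1).map
        (Matrix.toLin' ((x⁻¹ : Matrix.GeneralLinearGroup (Fin n) F) : Matrix (Fin n) (Fin n) F)) ≤
        Module.End.eigenspace (Matrix.toLin'
        ((x⁻¹ * u * x : Matrix.GeneralLinearGroup (Fin n) F) :
          Matrix (Fin n) (Fin n) F)) 1 := by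
      rintro _ ⟨v, hv, rfl⟩
      rw [SetLike.mem_coe, mem_eig] at hv
      rw [mem_eig]
      rw [Matrix.toLin'_apply, Matrix.mulVec_mulVec, ← Units.val_mul]
      have hg : x⁻¹ * u * x * x⁻¹ = x⁻¹ * u := by group
      rw [hg, Units.val_mul, ← Matrix.mulVec_mulVec, hv]
    calc Module.finrank F
          (Module.End.eigenspace (Matrix.toLin' (u : Matrix (Fin n) (Fin n) F)) 1)
        = Module.finrank F
          ((Module.End.eigenspace (Matrix.toLin' (u : Matrix (Fin n) (Fin n) F)) 1).map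
            (Matrix.toLin' ((x⁻¹ : Matrix.GeneralLinearGroup (Fin n) F) :
              Matrix (Fin n) (Fin n) F))) :=
          (Submodule.equivMapOfInjective _ (toLin_injective x⁻¹) _).finrank_eq
      _ ≤ _ := Submodule.finrank_mono hle
  have h2 : Module.End.eigenspace (Matrix.toLin' (u : Matrix (Fin n) (Fin n) F)) 1 ⊓
      Module.End.eigenspace (Matrix.toLin'
        ((x⁻¹ * u * x : Matrix.GeneralLinearGroup (Fin n) F) :
          Matrix (Fin n) (Fin n) F)) 1 ≤
      Module.End.eigenspace (Matrix.toLin'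
        ((u⁻¹ * (x⁻¹ * u * x) : Matrix.GeneralLinearGroup (Fin n) F) :
          Matrix (Fin n) (Fin n) F)) 1 := by
    rintro v ⟨hv1, hv2⟩
    rw [SetLike.mem_coe, mem_eig] at hv1 hv2
    rw [mem_eig, Units.val_mul, ← Matrix.mulVec_mulVec, hv2]
    nth_rewrite 1 [← hv1]
    rw [Matrix.mulVec_mulVec, Units.inv_mul, Matrix.one_mulVec]
  have h3 := Submodule.finrank_sup_add_finrank_inf_eq
    (Module.End.eigenspace (Matrix.toLin' (u : Matrix (Fin n) (Fin n) F)) 1)
    (Module.End.eigenspace (Matrix.toLin'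
        ((x⁻¹ * u * x : Matrix.GeneralLinearGroup (Fin n) F) :
          Matrix (Fin n) (Fin n) F)) 1)
  have h4 : Module.finrank F ↥(Module.End.eigenspace (Matrix.toLin' (u : Matrix (Fin n) (Fin n) F)) 1 ⊔
      Module.End.eigenspace (Matrix.toLin'
        ((x⁻¹ * u * x : Matrix.GeneralLinearGroup (Fin n) F) :
          Matrix (Fin n) (Fin n) F)) 1) ≤ n := by
    have h := Submodule.finrank_le
      (Module.End.eigenspace (Matrix.toLin' (u : Matrix (Fin n) (Fin n) F)) 1 ⊔
      Module.End.eigenspace (Matrix.toLin'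
        ((x⁻¹ * u * x : Matrix.GeneralLinearGroup (Fin n) F) :
          Matrix (Fin n) (Fin n) F)) 1)
    rwa [Module.finrank_fin_fun] at h
  have h5 := Submodule.finrank_mono h2
  omega

/-- A non-identity element of an abelian normal subgroup of an irreducible primitive linear group
has no non-zero fixed vector. -/
theorem fixed_eq_zero [Fintype F] (G : Subgroup (Matrix.GeneralLinearGroup (Fin n) F))
    (hirr : Cfsg.Geo.ActsIrreducibly (Cfsg.Geo.matrixSet G))
    (hprim : ∀ (m t : ℕ) (D : Fin t → Submodule F (Fin n → F)), 2 ≤ t →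
      Cfsg.Geo.IsMDecomposition m D → ¬ G ≤ Cfsg.Geo.decompositionStabilizer D)
    (A : Subgroup G) (hAn : A.Normal) (hAc : A ≤ Subgroup.centralizer (A : Set G))
    (a : G) (ha : a ∈ A) (ha1 : a ≠ 1) :
    Module.finrank F (Module.End.eigenspace (Matrix.toLin'
      ((a : Matrix.GeneralLinearGroup (Fin n) F) : Matrix (Fin n) (Fin n) F)) 1) = 0 := by
  classical
  let mat : G → Matrix (Fin n) (Fin n) F :=
    fun b => ((b : Matrix.GeneralLinearGroup (Fin n) F) : Matrix (Fin n) (Fin n) F)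
  let C : Set (Matrix (Fin n) (Fin n) F) := {z | ∀ b ∈ A, z * mat b = mat b * z}
  let E : Set (Matrix (Fin n) (Fin n) F) := {x | ∀ z ∈ C, z * x = x * z}
  have hAC : ∀ b ∈ A, mat b ∈ C := by
    intro b hb b' hb'
    have h1 : b' * b = b * b' := Subgroup.mem_centralizer_iff.mp (hAc hb) b' hb'
    exact congrArg mat h1.symm
  have hEC : ∀ x ∈ E, x ∈ C := by
    intro x hx b hb
    exact (hx (mat b) (hAC b hb)).symm
  have hEc : ∀ x ∈ E, ∀ y ∈ E, x * y = y * x := by
    intro x hx y hy
    exact (hx y (hEC y hy)).symm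
  have hEm : ∀ x ∈ E, ∀ y ∈ E, x * y ∈ E := by
    intro x hx y hy z hz
    rw [← mul_assoc, hx z hz, mul_assoc, hy z hz, mul_assoc]
  have hCG : ∀ h ∈ G, ∀ z ∈ C, cj h⁻¹ z ∈ C := by
    intro h hh z hz b hb
    have hb' : (⟨h, hh⟩ : G) * b * (⟨h, hh⟩ : G)⁻¹ ∈ A := hAn.conj_mem b hb _
    have h1 := hz _ hb'
    have h2 : mat ((⟨h, hh⟩ : G) * b * (⟨h, hh⟩ : G)⁻¹) = cj h (mat b) := rfl
    rw [h2] at h1
    have h3 := congrArg (cj h⁻¹) h1
    rw [← cj_mul_cj, ← cj_mul_cj, ← cj_mul, inv_mul_cancel, cj_one] at h3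
    exact h3
  have hEG : ∀ h ∈ G, ∀ x ∈ E, cj h x ∈ E := by
    intro h hh x hx z hz
    have h1 := hx _ (hCG h hh z hz)
    have h3 := congrArg (cj h) h1
    rw [← cj_mul_cj, ← cj_mul_cj, ← cj_mul, mul_inv_cancel, cj_one] at h3
    exact h3
  have haE : mat a - 1 ∈ E := by
    intro z hz
    rw [mul_sub, sub_mul, hz a ha, mul_one, one_mul]
  have ha0 : mat a - 1 ≠ 0 := by
    intro h
    apply ha1
    apply Subtype.ext
    apply Units.ext
    exact sub_eq_zero.mp h
  have hinj := key_lemma G hirr hprim E hEc hEm hEG _ haE ha0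
  rw [Submodule.finrank_eq_zero, eq_bot_iff]
  intro v hv
  rw [mem_eig] at hv
  rw [Submodule.mem_bot]
  apply hinj
  rw [map_zero, Matrix.toLin'_apply, Matrix.sub_mulVec, Matrix.one_mulVec]
  exact sub_eq_zero.mpr hv

end key

/-- Fixed-point spaces in primitive soluble linear groups. Let F be a finite field and G a soluble subgroup of GL_n(F) that acts irreducibly on F^n and primitively (G preserves no decomposition of F^n into two or more independent subspaces of equal dimension). Then every non-identity element g of G has fixed-point space {v : g v = v} of dimension at most 3n/4. -/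
theorem result {F : Type*} [Field F] [Fintype F] {n : ℕ} (G : Subgroup (Matrix.GeneralLinearGroup (Fin n) F)) (hsol : IsSolvable G) (hirr : Cfsg.Geo.ActsIrreducibly (Cfsg.Geo.matrixSet G)) (hprim : ∀ (m t : ℕ) (D : Fin t → Submodule F (Fin n → F)), 2 ≤ t → Cfsg.Geo.IsMDecomposition m D → ¬ G ≤ Cfsg.Geo.decompositionStabilizer D) (g : Matrix.GeneralLinearGroup (Fin n) F) (hg : g ∈ G) (hg1 : g ≠ 1) :
    4 * Module.finrank F (Module.End.eigenspace (Matrix.toLin' (g : Matrix (Fin n) (Fin n) F)) 1) ≤ 3 * n := by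
  classical
  have : Group.IsSolvable G := hsol
  have hd : ∀ u x : G,
      2 * Module.finrank F (Module.End.eigenspace (Matrix.toLin'
        ((u : Matrix.GeneralLinearGroup (Fin n) F) : Matrix (Fin n) (Fin n) F)) 1) ≤
      n + Module.finrank F (Module.End.eigenspace (Matrix.toLin'
        (((u⁻¹ * (x⁻¹ * u * x) : G) : Matrix.GeneralLinearGroup (Fin n) F) :
          Matrix (Fin n) (Fin n) F)) 1) :=
    fun u x => fixed_ineq (u : Matrix.GeneralLinearGroup (Fin n) F) x
  have h0 : ∀ A : Subgroup G, A.Normal → A ≤ Subgroup.centralizer (A : Set G) →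
      ∀ a ∈ A, a ≠ 1 → Module.finrank F (Module.End.eigenspace (Matrix.toLin'
        ((a : Matrix.GeneralLinearGroup (Fin n) F) : Matrix (Fin n) (Fin n) F)) 1) = 0 :=
    fun A hAn hAc a ha ha1 => fixed_eq_zero G hirr hprim A hAn hAc a ha ha1
  exact abstract_bound (Γ := G) (fun u => Module.finrank F (Module.End.eigenspace (Matrix.toLin'
        ((u : Matrix.GeneralLinearGroup (Fin n) F) : Matrix (Fin n) (Fin n) F)) 1)) n hd h0
    ⟨g, hg⟩ (fun h => hg1 (congrArg Subtype.val h))

end Cfsg.Agent.S5876
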