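import Cfsg.Statements.S5885
-- import your own Cfsg.Agent.* helpers here

set_option autoImplicit false
open Cfsg

namespace Cfsg.Agent.S5885

/-- Every 3-cycle on the coset space `G ⧸ M` is induced by an element of `G`. -/
theorem exists_three_cycle {G : Type*} [Group G] [Finite G] (n : ℕ)
    (hA : ∀ P : Subgroup (Equiv.Perm (Fin n)), MulAction.IsPreprimitive P (Fin n) →
      alternatingGroup (Fin n) ≤ P)
    (M : Subgroup G) (hM : IsCoatom M) (hn : M.index = n) (x y z : G ⧸ M)
    (hxy : x ≠ y) (hyz : y ≠ z) (hxz : x ≠ z) :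
    ∃ g : G, g • x = y ∧ g • y = z ∧ g • z = x ∧
      ∀ w, w ≠ x → w ≠ y → w ≠ z → g • w = w := by
  classical
  have hcard : Nat.card (G ⧸ M) = Nat.card (Fin n) := by
    rw [Nat.card_fin, ← hn]; rfl
  obtain ⟨e⟩ := Finite.card_eq.mp hcard
  let φ : G →* Equiv.Perm (Fin n) :=
    e.permCongrHom.toMonoidHom.comp (MulAction.toPermHom G (G ⧸ M))
  have hφ : ∀ (g : G) (w : G ⧸ M), φ g (e w) = e (g • w) := by
    intro g w
    simp [φ, Equiv.permCongrHom]
  have : Nontrivial (G ⧸ M) := by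
    rw [← Finite.one_lt_card_iff_nontrivial]
    exact Subgroup.one_lt_index_of_ne_top hM.1
  have hprim : MulAction.IsPreprimitive G (G ⧸ M) :=
    (MulAction.isCoatom_stabilizer_iff_preprimitive G (QuotientGroup.mk 1 : G ⧸ M)).mp
      (by rw [MulAction.stabilizer_quotient]; exact hM)
  let f : (G ⧸ M) →ₑ[(φ.rangeRestrict : G → φ.range)] Fin n :=
    { toFun := e
      map_smul' := fun g w => (hφ g w).symm }
  have hP : MulAction.IsPreprimitive φ.range (Fin n) :=
    MulAction.IsPreprimitive.of_surjective (f := f) e.surjective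
  have hAP := hA φ.range hP
  have h3 : Equiv.Perm.IsThreeCycle (Equiv.swap (e x) (e z) * Equiv.swap (e x) (e y)) :=
    Equiv.Perm.isThreeCycle_swap_mul_swap_same (fun h => hxz (e.injective h))
      (fun h => hxy (e.injective h)) (fun h => hyz (e.injective h).symm)
  obtain ⟨g, hg⟩ := hAP h3.mem_alternatingGroup
  have key : ∀ w, g • w = e.symm ((Equiv.swap (e x) (e z) * Equiv.swap (e x) (e y)) (e w)) := by
    intro w
    rw [← hg, hφ, Equiv.symm_apply_apply]
  have exy : e x ≠ e y := fun h => hxy (e.injective h)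
  have eyz : e y ≠ e z := fun h => hyz (e.injective h)
  have exz : e x ≠ e z := fun h => hxz (e.injective h)
  refine ⟨g, ?_, ?_, ?_, ?_⟩
  · rw [key, Equiv.symm_apply_eq, Equiv.Perm.mul_apply, Equiv.swap_apply_left,
      Equiv.swap_apply_of_ne_of_ne exy.symm eyz]
  · rw [key, Equiv.symm_apply_eq, Equiv.Perm.mul_apply, Equiv.swap_apply_right,
      Equiv.swap_apply_left]
  · rw [key, Equiv.symm_apply_eq, Equiv.Perm.mul_apply,
      Equiv.swap_apply_of_ne_of_ne exz.symm eyz.symm, Equiv.swap_apply_right]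
  · intro w hwx hwy hwz
    have ewx : e w ≠ e x := fun h => hwx (e.injective h)
    have ewy : e w ≠ e y := fun h => hwy (e.injective h)
    have ewz : e w ≠ e z := fun h => hwz (e.injective h)
    rw [key, Equiv.symm_apply_eq, Equiv.Perm.mul_apply,
      Equiv.swap_apply_of_ne_of_ne ewx ewy, Equiv.swap_apply_of_ne_of_ne ewx ewz]

theorem isCoatom_subgroupOf_iff {G : Type*} [Group G] {H K : Subgroup G} (hHK : H ≤ K) :
    IsCoatom (H.subgroupOf K) ↔
      (¬ K ≤ H) ∧ ∀ L : Subgroup G, H ≤ L → L ≤ K → L = H ∨ L = K := by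
  constructor
  · intro h
    refine ⟨fun hKH => h.1 (Subgroup.subgroupOf_eq_top.mpr hKH), fun L hHL hLK => ?_⟩
    have hle : H.subgroupOf K ≤ L.subgroupOf K := fun x hx => hHL hx
    rcases eq_or_lt_of_le hle with heq | hlt
    · left
      have := Subgroup.subgroupOf_inj.mp heq
      rw [inf_eq_left.mpr hHK, inf_eq_left.mpr hLK] at this
      exact this.symm
    · right
      have := h.2 _ hlt
      exact le_antisymm hLK (Subgroup.subgroupOf_eq_top.mp this)
  · rintro ⟨h1, h2⟩
    refine ⟨fun h => h1 (Subgroup.subgroupOf_eq_top.mp h), fun L' hlt => ?_⟩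
    have hL' : (L'.map K.subtype).subgroupOf K = L' :=
      Subgroup.comap_map_eq_self_of_injective (Subgroup.subtype_injective K) L'
    have hHL : H ≤ L'.map K.subtype := by
      intro x hx
      exact ⟨⟨x, hHK hx⟩, hlt.le (show (⟨x, hHK hx⟩ : K) ∈ H.subgroupOf K from hx), rfl⟩
    rcases h2 (L'.map K.subtype) hHL (Subgroup.map_subtype_le L') with h | h
    · rw [h] at hL'
      exact absurd hL' hlt.ne
    · rw [h] at hL'
      rw [← hL']
      exact Subgroup.subgroupOf_self K

open Pointwise in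
/-- Core combinatorial argument. -/
theorem core {G : Type*} [Group G] [Finite G] (n : ℕ) (hodd : Odd n)
    (M : Subgroup G) (hn : M.index = n)
    (h3 : ∀ x y z : G ⧸ M, x ≠ y → y ≠ z → x ≠ z → ∃ g : G, g • x = y ∧ g • y = z ∧ g • z = x ∧
      ∀ w, w ≠ x → w ≠ y → w ≠ z → g • w = w)
    (H K L : Subgroup G) (hH : H = K ⊓ M)
    (hmaxM : ∀ J : Subgroup G, H ≤ J → J ≤ M → J = H ∨ J = M)
    (hHL : H ≤ L) (hLK : L ≤ K) (l : G) (hl : l ∈ L) (hlH : l ∉ H)
    (k : G) (hk : k ∈ K) (hkL : k ∉ L) : False := by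
  classical
  set α : G ⧸ M := QuotientGroup.mk 1 with hα
  have hstab : ∀ g : G, g • α = α ↔ g ∈ M := by
    intro g
    rw [← MulAction.mem_stabilizer_iff, MulAction.stabilizer_quotient]
  let Γ : Set (G ⧸ M) := {x | ∃ l' ∈ L, l' • α = x}
  have hαΓ : α ∈ Γ := ⟨1, L.one_mem, one_smul _ _⟩
  have ha : ∀ k' ∈ K, k' • α ∈ Γ → k' ∈ L := by
    rintro k' hk' ⟨l', hl', h⟩
    have h1 : (l'⁻¹ * k') • α = α := by rw [mul_smul, ← h, inv_smul_smul]
    have h2 : l'⁻¹ * k' ∈ H := by
      rw [hH]; exact ⟨K.mul_mem (K.inv_mem (hLK hl')) hk', (hstab _).mp h1⟩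
    have := L.mul_mem hl' (hHL h2)
    simpa using this
  have ha' : ∀ k' ∈ K, ∀ x ∈ Γ, k' • x ∈ Γ → k' ∈ L := by
    rintro k' hk' x ⟨l₁, hl₁, rfl⟩ h
    have : k' * l₁ ∈ L := ha (k' * l₁) (K.mul_mem hk' (hLK hl₁)) (by rwa [mul_smul])
    simpa using L.mul_mem this (L.inv_mem hl₁)
  have hb : ∀ l' ∈ L, ∀ x ∈ Γ, l' • x ∈ Γ := by
    rintro l' hl' x ⟨l₁, hl₁, rfl⟩
    exact ⟨l' * l₁, L.mul_mem hl' hl₁, mul_smul _ _ _⟩
  set γ := l • α with hγ
  set δ := k • α with hδ
  set ε := k • γ with hε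
  have hγΓ : γ ∈ Γ := ⟨l, hl, rfl⟩
  have hγα : γ ≠ α := fun h => hlH (by rw [hH]; exact ⟨hLK hl, (hstab l).mp h⟩)
  have hδΓ : δ ∉ Γ := fun h => hkL (ha k hk h)
  have hεΓ : ε ∉ Γ := fun h => hkL (ha' k hk γ hγΓ h)
  have hδε : δ ≠ ε := fun h => hγα (smul_left_cancel k h).symm
  let J : Subgroup G := M ⊓ MulAction.stabilizer G Γ
  have hJM : J ≤ M := inf_le_left
  have hHJ : H ≤ J := by
    intro h hh
    have hhL : h ∈ L := hHL hh
    have hhM : h ∈ M := by rw [hH] at hh; exact hh.2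
    refine ⟨hhM, MulAction.mem_stabilizer_set.mpr ?_⟩
    intro b
    constructor
    · intro hb'
      have := hb h⁻¹ (L.inv_mem hhL) _ hb'
      rwa [inv_smul_smul] at this
    · exact hb h hhL b
  rcases hmaxM J hHJ hJM with hJ | hJ
  · -- J = H
    by_cases hζ : ∃ ζ, ζ ∉ Γ ∧ ∀ x ∈ Γ, k • x ≠ ζ
    · obtain ⟨ζ, hζΓ, hζk⟩ := hζ
      have hζδ : ζ ≠ δ := fun h => hζk α hαΓ h.symm
      have hζε : ζ ≠ ε := fun h => hζk γ hγΓ h.symm
      obtain ⟨g, hg1, hg2, hg3, hg4⟩ := h3 δ ε ζ hδε hζε.symm hζδ.symm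
      have hfix : ∀ x ∈ Γ, g • x = x := by
        intro x hx
        apply hg4
        · rintro rfl; exact hδΓ hx
        · rintro rfl; exact hεΓ hx
        · rintro rfl; exact hζΓ hx
      have hgJ : g ∈ J := by
        refine ⟨(hstab g).mp (hfix α hαΓ), MulAction.mem_stabilizer_set.mpr ?_⟩
        intro b
        constructor
        · intro hb'
          by_cases h1 : b = δ
          · rw [h1, hg1] at hb'; exact absurd hb' hεΓ
          by_cases h2 : b = ε
          · rw [h2, hg2] at hb'; exact absurd hb' hζΓ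
          by_cases h3' : b = ζ
          · rw [h3', hg3] at hb'; exact absurd hb' hδΓ
          rwa [hg4 b h1 h2 h3'] at hb'
        · intro hb'
          rwa [hfix b hb']
      have hgH : g ∈ H := hJ ▸ hgJ
      have hgK : g ∈ K := by rw [hH] at hgH; exact hgH.1
      have hconjK : k⁻¹ * g * k ∈ K := K.mul_mem (K.mul_mem (K.inv_mem hk) hgK) hk
      have hconj1 : (k⁻¹ * g * k) • α = γ := by
        rw [mul_smul, mul_smul, ← hδ, hg1, hε, inv_smul_smul]
      have hconjL : k⁻¹ * g * k ∈ L := ha _ hconjK (by rw [hconj1]; exact hγΓ)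
      have hconj2 : (k⁻¹ * g * k) • γ = k⁻¹ • ζ := by
        rw [mul_smul, mul_smul, ← hε, hg2]
      have : k⁻¹ • ζ ∈ Γ := by
        rw [← hconj2]; exact hb _ hconjL γ hγΓ
      exact hζk _ this (smul_inv_smul k ζ)
    · -- the whole coset space is Γ ⊔ k • Γ
      push Not at hζ
      have hcover : Γ ∪ k • Γ = Set.univ := by
        ext ζ
        simp only [Set.mem_union, Set.mem_univ, iff_true]
        by_cases hζΓ : ζ ∈ Γ
        · exact Or.inl hζΓ
        · obtain ⟨x, hx, hxζ⟩ := hζ ζ hζΓ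
          exact Or.inr ⟨x, hx, hxζ⟩
      have hdisj : Disjoint Γ (k • Γ) := by
        rw [Set.disjoint_left]
        rintro y hy ⟨x, hx, rfl⟩
        exact hkL (ha' k hk x hx hy)
      have hcard : Nat.card (G ⧸ M) = Γ.ncard + (k • Γ).ncard := by
        rw [← Set.ncard_univ, ← hcover]
        exact Set.ncard_union_eq hdisj (Set.toFinite _) (Set.toFinite _)
      rw [Set.ncard_smul_set] at hcard
      have hn' : n = Γ.ncard + Γ.ncard := by rw [← hn, ← hcard]; rfl
      rcases hodd with ⟨m, hm⟩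
      omega
  · -- J = M
    obtain ⟨g, hg1, hg2, hg3, hg4⟩ := h3 γ δ ε (fun h => hδΓ (h ▸ hγΓ)) hδε
      (fun h => hεΓ (h ▸ hγΓ))
    have hgα : g • α = α := by
      apply hg4
      · exact hγα.symm
      · rintro h; exact hδΓ (h ▸ hαΓ)
      · rintro h; exact hεΓ (h ▸ hαΓ)
    have hgJ : g ∈ J := hJ ▸ (hstab g).mp hgα
    have := (MulAction.mem_stabilizer_set.mp hgJ.2 γ).mpr hγΓ
    rw [hg1] at this
    exact hδΓ this


/-- Let n be an odd positive integer such that every primitive permutation group of degree n contains the alternating group (so the symmetric and alternating groups are the only primitive groups of degree n). Let G be a finite group, M a maximal subgroup of G of index n, and H a maximal subgroup of M. Then H is a second maximal subgroup of G: H is maximal in every maximal subgroup K of G containing H. -/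
theorem result {G : Type*} [Group G]
    [Finite G] (n : ℕ) (hodd : Odd n)
    (hA : ∀ P : Subgroup (Equiv.Perm (Fin n)), MulAction.IsPreprimitive P (Fin n) → alternatingGroup (Fin n) ≤ P)
    (M : Subgroup G) (hM : IsCoatom M) (hn : M.index = n) (H : Subgroup G) (hHM : H ≤ M)
    (hmax : IsCoatom (H.subgroupOf M)) (K : Subgroup G) (hK : IsCoatom K) (hHK : H ≤ K) :
    IsCoatom (H.subgroupOf K) := by
  by_cases hKM : K = M
  · subst hKM; exact hmax
  have hMK : ¬ M ≤ K := fun h => by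
    rcases eq_or_lt_of_le h with h' | h'
    · exact hKM h'.symm
    · exact hK.1 (hM.2 K h')
  have hKM' : ¬ K ≤ M := fun h => by
    rcases eq_or_lt_of_le h with h' | h'
    · exact hKM h'
    · exact hM.1 (hK.2 M h')
  have hmaxM := (isCoatom_subgroupOf_iff hHM).mp hmax
  have hH : H = K ⊓ M := by
    rcases hmaxM.2 (K ⊓ M) (le_inf hHK hHM) inf_le_right with h | h
    · exact h.symm
    · exact absurd (h ▸ inf_le_left : M ≤ K) hMK
  rw [isCoatom_subgroupOf_iff hHK]
  refine ⟨fun h => hKM' (h.trans hHM), fun L hHL hLK => ?_⟩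
  by_contra hcon
  push Not at hcon
  obtain ⟨hLH, hLK'⟩ := hcon
  have h1 : ¬ L ≤ H := fun h => hLH (le_antisymm h hHL)
  have h2 : ¬ K ≤ L := fun h => hLK' (le_antisymm hLK h)
  obtain ⟨l, hl, hlH⟩ := SetLike.not_le_iff_exists.mp h1
  obtain ⟨k, hk, hkL⟩ := SetLike.not_le_iff_exists.mp h2
  exact core n hodd M hn (exists_three_cycle n hA M hM hn) H K L hH hmaxM.2 hHL hLK
    l hl hlH k hk hkL

end Cfsg.Agent.S5885
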