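import Cfsg.Statements.S5887
-- import your own Cfsg.Agent.* helpers here

set_option autoImplicit false
open Cfsg

namespace Cfsg.Agent.S5887

open Matrix Module

/-- Key construction: a unipotent element commuting with the fixed field of a Frobenius power
but not normalising the whole field. -/
theorem exists_unipotent {F : Type*} [Field F] [Fintype F] {n : ℕ} (L : Type*) [Field L] [Algebra F L]
    (ι : L →ₐ[F] Matrix (Fin n) (Fin n) F)
    (hlt : Module.finrank F L < n) (d : ℕ) (θ : L) (hθ : θ ^ (Fintype.card F ^ d) ≠ θ) :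
    ∃ g : Matrix.GeneralLinearGroup (Fin n) F,
      g ∈ Cfsg.Geo.specialLinear (Fin n) F ∧
      (∀ κ : L, κ ^ (Fintype.card F ^ d) = κ →
        (g : Matrix (Fin n) (Fin n) F) * ι κ = ι κ * (g : Matrix (Fin n) (Fin n) F)) ∧
      ∃ k ∈ ι.range, (g : Matrix (Fin n) (Fin n) F) * k *
        ((g⁻¹ : Matrix.GeneralLinearGroup (Fin n) F) : Matrix (Fin n) (Fin n) F) ∉ ι.range := by
  classical
  let ρ : L →+* Module.End F (Fin n → F) :=
    ((Matrix.toLinAlgEquiv' : Matrix (Fin n) (Fin n) F ≃ₐ[F] _).toAlgHom.comp ι).toRingHom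
  let _ : Module L (Fin n → F) := Module.compHom (Fin n → F) ρ
  have hsmul : ∀ (κ : L) (v : Fin n → F), κ • v = (ι κ).mulVec v := fun κ v => rfl
  have : IsScalarTower F L (Fin n → F) := ⟨fun c κ v => by
    rw [hsmul, hsmul, map_smul, Matrix.smul_mulVec]⟩
  have : Module.Finite L (Fin n → F) := Module.Finite.of_restrictScalars_finite F L (Fin n → F)
  have hfin : Module.finrank F L * Module.finrank L (Fin n → F) = n := by
    rw [Module.finrank_mul_finrank, Module.finrank_fintype_fun_eq_card, Fintype.card_fin]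
  have h2 : 2 ≤ Module.finrank L (Fin n → F) := by
    by_contra hcon
    have : Module.finrank L (Fin n → F) ≤ 1 := by omega
    nlinarith
  let b := Module.finBasis L (Fin n → F)
  let i₀ : Fin (Module.finrank L (Fin n → F)) := ⟨0, by omega⟩
  let i₁ : Fin (Module.finrank L (Fin n → F)) := ⟨1, by omega⟩
  have hi : i₀ ≠ i₁ := by simp [i₀, i₁, Fin.ext_iff]
  let w := b i₀
  let u := b i₁
  let f : (Fin n → F) →ₗ[L] L := b.coord i₁
  have hfw : f w = 0 := by simp [f, w, hi]
  have hfu : f u = 1 := by simp [f, u]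
  have hw : w ≠ 0 := b.ne_zero i₀
  let τ : L →ₗ[F] L := ((FiniteField.frobeniusAlgHom F L) ^ d).toLinearMap
  have hτ : ∀ x, τ x = x ^ (Fintype.card F ^ d) := by
    intro x
    simp [τ, AlgHom.coe_pow, FiniteField.coe_frobeniusAlgHom, pow_iterate]
  let N : (Fin n → F) →ₗ[F] (Fin n → F) :=
    ((LinearMap.toSpanSingleton L (Fin n → F) w).restrictScalars F).comp
      (τ.comp (f.restrictScalars F))
  have hN : ∀ v, N v = τ (f v) • w := fun v => rfl
  have hNN : ∀ v, N (N v) = 0 := by
    intro v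
    rw [hN (N v), hN v, map_smul, hfw, smul_eq_mul, mul_zero, map_zero, zero_smul]
  have hNw : ∀ κ : L, N (κ • w) = 0 := by
    intro κ
    rw [hN, map_smul, hfw, smul_eq_mul, mul_zero, map_zero, zero_smul]
  have hNcomm : ∀ κ : L, κ ^ (Fintype.card F ^ d) = κ → ∀ v, N (κ • v) = κ • N v := by
    intro κ hκ v
    rw [hN, hN, map_smul, smul_eq_mul, hτ, mul_pow, hκ, ← hτ, mul_smul]
  have hNθ : N (θ • u) ≠ θ • N u := by
    rw [hN, hN, map_smul, hfu, smul_eq_mul, mul_one, hτ, hτ, one_pow, one_smul]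
    intro h
    have h0 : (θ ^ (Fintype.card F ^ d) - θ) • w = 0 := by rw [sub_smul, h, sub_self]
    rcases smul_eq_zero.mp h0 with h' | h'
    · exact hθ (sub_eq_zero.mp h')
    · exact hw h'
  let Nm : Matrix (Fin n) (Fin n) F := LinearMap.toMatrix' N
  have hNm : ∀ v, Nm.mulVec v = N v := fun v => by simp [Nm]
  have hext : ∀ A B : Matrix (Fin n) (Fin n) F, (∀ v, A.mulVec v = B.mulVec v) → A = B := by
    intro A B h
    apply Matrix.toLin'.injective
    exact LinearMap.ext fun v => by rw [Matrix.toLin'_apply, Matrix.toLin'_apply]; exact h v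
  have hNm2 : Nm * Nm = 0 := by
    apply hext
    intro v
    rw [← Matrix.mulVec_mulVec, hNm, hNm, hNN, Matrix.zero_mulVec]
  have hNmcomm : ∀ κ : L, κ ^ (Fintype.card F ^ d) = κ → Nm * ι κ = ι κ * Nm := by
    intro κ hκ
    apply hext
    intro v
    rw [← Matrix.mulVec_mulVec, ← Matrix.mulVec_mulVec, hNm, hNm, ← hsmul, ← hsmul, hNcomm κ hκ]
  have hinv1 : (1 + Nm) * (1 - Nm) = 1 := by
    rw [mul_sub, mul_one, add_mul, one_mul, hNm2]; abel
  have hinv2 : (1 - Nm) * (1 + Nm) = 1 := by
    rw [mul_add, mul_one, sub_mul, one_mul, hNm2]; abel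
  let g : Matrix.GeneralLinearGroup (Fin n) F := ⟨1 + Nm, 1 - Nm, hinv1, hinv2⟩
  have hgval : (g : Matrix (Fin n) (Fin n) F) = 1 + Nm := rfl
  have hginv : ((g⁻¹ : Matrix.GeneralLinearGroup (Fin n) F) : Matrix (Fin n) (Fin n) F) = 1 - Nm := rfl
  have hpow : ∀ k : ℕ, (1 + Nm) ^ k = 1 + (k : F) • Nm := by
    intro k
    induction k with
    | zero => simp
    | succ k ih =>
      rw [pow_succ, ih, mul_add, mul_one, add_mul, one_mul, Matrix.smul_mul, hNm2, smul_zero,
        add_zero, Nat.cast_succ, add_smul, one_smul]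
      abel
  have hdet : (1 + Nm).det = 1 := by
    have h1 : (1 + Nm) ^ Fintype.card F = 1 := by
      rw [hpow, FiniteField.cast_card_eq_zero, zero_smul, add_zero]
    have h2 := congrArg Matrix.det h1
    rwa [Matrix.det_pow, FiniteField.pow_card, Matrix.det_one] at h2
  refine ⟨g, ?_, ?_, ι θ, ⟨θ, rfl⟩, ?_⟩
  · show Matrix.GeneralLinearGroup.det g = 1
    apply Units.ext
    rw [Matrix.GeneralLinearGroup.val_det_apply, hgval, hdet, Units.val_one]
  · intro κ hκ
    rw [hgval, add_mul, one_mul, mul_add, mul_one, hNmcomm κ hκ]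
  · rintro ⟨κ, hκ⟩
    have h1 : (g : Matrix (Fin n) (Fin n) F) * ι θ = ι κ * (g : Matrix (Fin n) (Fin n) F) := by
      have := congrArg (fun X => X * (g : Matrix (Fin n) (Fin n) F)) hκ
      simp only [mul_assoc] at this
      rw [← Units.val_mul, inv_mul_cancel, Units.val_one, mul_one] at this
      exact this.symm
    have h2 := congrArg (fun X => X.mulVec w) h1
    simp only [hgval, ← Matrix.mulVec_mulVec, Matrix.add_mulVec, Matrix.one_mulVec, hNm, ← hsmul] at h2
    rw [hNw θ] at h2
    have hNw1 : N w = 0 := by simpa using hNw 1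
    rw [hNw1, add_zero, add_zero] at h2
    have hθκ : θ = κ := by
      have h0 : (θ - κ) • w = 0 := by rw [sub_smul, h2, sub_self]
      rcases smul_eq_zero.mp h0 with h' | h'
      · exact sub_eq_zero.mp h'
      · exact absurd h' hw
    subst hθκ
    rw [hgval, add_mul, one_mul, mul_add, mul_one] at h1
    have h3 : Nm * ι θ = ι θ * Nm := add_left_cancel h1
    have h4 := congrArg (fun X => X.mulVec u) h3
    simp only [← Matrix.mulVec_mulVec, hNm, ← hsmul] at h4
    exact hNθ h4

/-- A field subalgebra of the matrix algebra is the range of an algebra embedding of an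
honest field. -/
theorem exists_field_model.{u} {F : Type u} [Field F] {n : ℕ} (hn : 0 < n) {r : ℕ}
    (K : Subalgebra F (Matrix (Fin n) (Fin n) F)) (hK : Cfsg.Geo.IsFieldSubalgebra r K) :
    ∃ (L : Type u) (_ : Field L) (_ : Algebra F L) (ι : L →ₐ[F] Matrix (Fin n) (Fin n) F),
      ι.range = K ∧ Module.finrank F L = r := by
  have : Nonempty (Fin n) := ⟨⟨0, hn⟩⟩
  have hfield : IsField K :=
    { exists_pair_ne := ⟨0, 1, zero_ne_one⟩
      mul_comm := fun x y => Subtype.ext (hK.comm x x.2 y y.2)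
      mul_inv_cancel := fun {a} ha => by
        obtain ⟨y, hy, hxy⟩ := hK.inv a a.2 (fun h => ha (Subtype.ext h))
        exact ⟨⟨y, hy⟩, Subtype.ext hxy⟩ }
  let _ := hfield.toField
  exact ⟨K, inferInstance, inferInstance, K.val, K.range_val, hK.finrank_eq⟩

/-- In a finite field `L` of degree `r` over `F` and a proper divisor `s ≥ 2` of `r`, there are
elements witnessing that the fixed field of the `s`-th Frobenius power is strictly between. -/
theorem exists_elements {F : Type*} [Field F] [Fintype F] (L : Type*) [Field L] [Algebra F L]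
    [Finite L] {r s : ℕ} (hrank : Module.finrank F L = r) (hs : s ∣ r) (hs2 : 2 ≤ s) (hsr : s < r) :
    (∃ θ : L, θ ^ (Fintype.card F ^ s) ≠ θ) ∧
    (∃ y : L, y ^ (Fintype.card F ^ s) = y ∧ y ^ (Fintype.card F ^ 1) ≠ y) := by
  classical
  have hq2 : 2 ≤ Fintype.card F := Fintype.one_lt_card
  constructor
  · by_contra h
    push Not at h
    have h1 : (FiniteField.frobeniusAlgHom F L) ^ s = 1 := by
      apply AlgHom.ext
      intro x
      simp [AlgHom.coe_pow, FiniteField.coe_frobeniusAlgHom, pow_iterate, h x]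
    have h2 := orderOf_dvd_of_pow_eq_one h1
    rw [FiniteField.orderOf_frobeniusAlgHom, hrank] at h2
    exact absurd (Nat.le_of_dvd (by omega) h2) (by omega)
  · have := Fintype.ofFinite L
    have hcardL : Nat.card L = Fintype.card F ^ r := by
      rw [← hrank, Nat.card_eq_fintype_card]; exact Module.card_eq_pow_finrank
    obtain ⟨ζ, hζ⟩ := IsCyclic.exists_generator (α := Lˣ)
    have hordζ : orderOf ζ = Fintype.card F ^ r - 1 := by
      rw [orderOf_eq_card_of_forall_mem_zpowers hζ, Nat.card_units, hcardL]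
    have hdvd : Fintype.card F ^ s - 1 ∣ orderOf ζ := by
      rw [hordζ]; exact Nat.pow_sub_one_dvd_pow_sub_one _ hs
    have hqs : Fintype.card F ^ 1 < Fintype.card F ^ s := Nat.pow_lt_pow_right hq2 (by omega)
    have hqr : Fintype.card F ^ s < Fintype.card F ^ r := Nat.pow_lt_pow_right hq2 hsr
    have hord0 : orderOf ζ ≠ 0 := by rw [hordζ]; omega
    have hordy := orderOf_pow_orderOf_div hord0 hdvd
    set y : Lˣ := ζ ^ (orderOf ζ / (Fintype.card F ^ s - 1)) with hy
    refine ⟨(y : L), ?_, ?_⟩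
    · have h1 : y ^ (Fintype.card F ^ s - 1) = 1 := by rw [← hordy]; exact pow_orderOf_eq_one y
      have h2 : y ^ (Fintype.card F ^ s) = y := by
        have : Fintype.card F ^ s = (Fintype.card F ^ s - 1) + 1 := by omega
        rw [this, pow_succ, h1, one_mul]
      exact_mod_cast congrArg Units.val h2
    · intro h
      rw [pow_one] at h hqs
      have h1 : y ^ Fintype.card F = y := Units.ext (by exact_mod_cast h)
      have h2 : y ^ (Fintype.card F - 1) = 1 := by
        have : Fintype.card F = (Fintype.card F - 1) + 1 := by omega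
        rw [this, pow_succ] at h1
        exact mul_eq_right.mp h1
      have h3 := orderOf_dvd_of_pow_eq_one h2
      rw [hordy] at h3
      have := Nat.le_of_dvd (by omega) h3
      omega


/-- Let F be a finite field, n a positive integer and r a composite number (r > 1, not prime) that divides n with r < n. Let K be a subalgebra of the algebra of n × n matrices over F which is a field of degree r over F (commutative, every non-zero element invertible, of dimension r over F). Then the normaliser N of K in GL_n(F) (a group of type ΓL_{n/r}(F_{q^r})) is not a maximal subgroup of GL_n(F), and N ∩ SL_n(F) is not a maximal subgroup of SL_n(F): both lie properly inside the normaliser of an intermediate subfield of prime degree over F. -/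
theorem result {F : Type*} [Field F]
    [Fintype F] (n r : ℕ) (hr1 : 1 < r) (hrp : ¬ r.Prime) (hrn : r ∣ n) (hlt : r < n)
    (K : Subalgebra F (Matrix (Fin n) (Fin n) F)) (hK : Cfsg.Geo.IsFieldSubalgebra r K) :
    ¬ IsCoatom (Cfsg.Geo.subalgebraNormalizer K) ∧
      ¬ Cfsg.Geo.IsMaximalIn (Cfsg.Geo.specialLinear (Fin n) F)
        (Cfsg.Geo.subalgebraNormalizer K ⊓ Cfsg.Geo.specialLinear (Fin n) F) := by
  classical
  have hn : 0 < n := by omega
  have : Nonempty (Fin n) := ⟨⟨0, hn⟩⟩
  obtain ⟨L, _, _, ι, hι, hrank⟩ := exists_field_model hn K hK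
  have hfd : Module.Finite F L := Module.finite_of_finrank_pos (by omega)
  have : Finite L := Module.finite_of_finite F
  obtain ⟨s, hs_dvd, hs2, hsr⟩ := (Nat.not_prime_iff_exists_dvd_lt hr1).mp hrp
  obtain ⟨⟨θ, hθ⟩, ⟨y, hy1, hy2⟩⟩ := exists_elements L hrank hs_dvd hs2 hsr
  have hιinj : Function.Injective ι := ι.toRingHom.injective
  have hfrob : ∀ x : L, ((FiniteField.frobeniusAlgHom F L) ^ s) x = x ^ (Fintype.card F ^ s) := by
    intro x
    simp [AlgHom.coe_pow, FiniteField.coe_frobeniusAlgHom, pow_iterate]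
  let L₀ : IntermediateField F L :=
    Subalgebra.toIntermediateField
      (AlgHom.equalizer ((FiniteField.frobeniusAlgHom F L) ^ s) (AlgHom.id F L)) (by
        intro x hx
        rw [AlgHom.mem_equalizer] at hx ⊢
        rw [map_inv₀, hx]
        rfl)
  have hL₀ : ∀ x : L, x ∈ L₀ ↔ x ^ (Fintype.card F ^ s) = x := by
    intro x
    show x ∈ AlgHom.equalizer ((FiniteField.frobeniusAlgHom F L) ^ s) (AlgHom.id F L) ↔ _
    rw [AlgHom.mem_equalizer, hfrob]
    rfl
  let ι₀ : L₀ →ₐ[F] Matrix (Fin n) (Fin n) F := ι.comp L₀.val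
  let K₀ : Subalgebra F (Matrix (Fin n) (Fin n) F) := ι₀.range
  have hK₀ : ∀ k, k ∈ K₀ ↔ k ∈ K ∧ k ^ (Fintype.card F ^ s) = k := by
    intro k
    constructor
    · rintro ⟨x, rfl⟩
      refine ⟨?_, ?_⟩
      · rw [← hι]; exact ⟨(x : L), rfl⟩
      · show (ι (x : L)) ^ (Fintype.card F ^ s) = ι (x : L)
        rw [← map_pow, (hL₀ (x : L)).mp x.2]
    · rintro ⟨hk, hpow⟩
      rw [← hι] at hk
      obtain ⟨x, rfl⟩ := hk
      have hx : x ^ (Fintype.card F ^ s) = x := hιinj (by rw [map_pow]; exact hpow)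
      exact ⟨⟨x, (hL₀ x).mpr hx⟩, rfl⟩
  have hrank₀ : Module.finrank F L₀ < n := by
    have h1 : Module.finrank F L₀ ≤ Module.finrank F L :=
      Submodule.finrank_le (Subalgebra.toSubmodule L₀.toSubalgebra)
    omega
  obtain ⟨g₁, hg₁SL, -, k₁, hk₁, hk₁'⟩ :=
    exists_unipotent L₀ ι₀ hrank₀ 1 ⟨y, (hL₀ y).mpr hy1⟩
      (fun h => hy2 (congrArg Subtype.val h))
  obtain ⟨g₂, hg₂SL, hg₂comm, k₂, hk₂, hk₂'⟩ := exists_unipotent L ι (by omega) s θ hθ
  have hg₁ : g₁ ∉ Geo.subalgebraNormalizer K₀ := fun h => hk₁' ((h k₁).mp hk₁)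
  have hg₂ : g₂ ∉ Geo.subalgebraNormalizer K := by
    intro h
    rw [hι] at hk₂ hk₂'
    exact hk₂' ((h k₂).mp hk₂)
  have hcomm₀ : ∀ k ∈ K₀, (g₂ : Matrix (Fin n) (Fin n) F) * k = k * (g₂ : Matrix (Fin n) (Fin n) F) := by
    rintro k ⟨x, rfl⟩
    exact hg₂comm (x : L) ((hL₀ (x : L)).mp x.2)
  have hg₂' : g₂ ∈ Geo.subalgebraNormalizer K₀ := by
    intro k
    constructor
    · intro hk
      rw [hcomm₀ k hk, mul_assoc, ← Units.val_mul, mul_inv_cancel, Units.val_one, mul_one]
      exact hk
    · intro hk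
      have h1 := hcomm₀ _ hk
      have h2 : (g₂ : Matrix (Fin n) (Fin n) F) * k *
          ((g₂⁻¹ : Matrix.GeneralLinearGroup (Fin n) F) : Matrix (Fin n) (Fin n) F) = k := by
        have h3 : (g₂ : Matrix (Fin n) (Fin n) F) * ((g₂ : Matrix (Fin n) (Fin n) F) * k *
            ((g₂⁻¹ : Matrix.GeneralLinearGroup (Fin n) F) : Matrix (Fin n) (Fin n) F)) =
            (g₂ : Matrix (Fin n) (Fin n) F) * k := by
          rw [h1, mul_assoc, ← Units.val_mul, inv_mul_cancel, Units.val_one, mul_one]
        exact (Units.mul_right_inj g₂).mp h3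
      rw [h2] at hk
      exact hk
  have hle : Geo.subalgebraNormalizer K ≤ Geo.subalgebraNormalizer K₀ := by
    intro g hg k
    rw [hK₀, hK₀, Units.conj_pow, Units.mul_left_inj, Units.mul_right_inj]
    exact and_congr (hg k) Iff.rfl
  constructor
  · intro hco
    have hlt' : Geo.subalgebraNormalizer K < Geo.subalgebraNormalizer K₀ :=
      lt_of_le_of_ne hle (fun h => hg₂ (h ▸ hg₂'))
    have htop := hco.2 _ hlt'
    exact hg₁ (htop ▸ Subgroup.mem_top g₁)
  · rintro ⟨-, hmax⟩
    rcases hmax (Geo.subalgebraNormalizer K₀ ⊓ Geo.specialLinear (Fin n) F)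
        (inf_le_inf_right _ hle) inf_le_right with h | h
    · have h1 : g₂ ∈ Geo.subalgebraNormalizer K ⊓ Geo.specialLinear (Fin n) F :=
        h ▸ (⟨hg₂', hg₂SL⟩ : g₂ ∈ Geo.subalgebraNormalizer K₀ ⊓ Geo.specialLinear (Fin n) F)
      exact hg₂ h1.1
    · have h1 : g₁ ∈ Geo.subalgebraNormalizer K₀ ⊓ Geo.specialLinear (Fin n) F := by
        rw [h]; exact hg₁SL
      exact hg₁ h1.1

end Cfsg.Agent.S5887
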