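import Cfsg.Statements.S5891
import Cfsg.Agent.Lib.helper98.PglF

set_option autoImplicit false
open Cfsg

namespace Cfsg.Agent.S5891

/-- Let F be a finite field of odd order q > 3 and characteristic p, and let M be a maximal subgroup of PGL₂(F) not containing the image L of SL₂(F) (a copy of PSL₂(F) of index 2). Then one of the following holds: |M| = q(q − 1) (M is the stabiliser of a point of the projective line); q ≠ 5 and M is dihedral of order 2(q − 1); M is dihedral of order 2(q + 1); q = p ≡ ±3 (mod 8) and M ≅ S₄; or q = q₀^r for an odd prime r and M ≅ PGL₂(F₀) with |F₀| = q₀. -/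
theorem result {F : Type*} [Field F] [Fintype F]
    (hodd : Odd (Fintype.card F)) (h3 : 3 < Fintype.card F) (M : Subgroup (Matrix.ProjGenLinGroup (Fin 2) F)) (hM : IsCoatom M)
    (hML : ¬ (Matrix.ProjGenLinGroup.mk.comp Matrix.SpecialLinearGroup.toGL).range ≤ M) :
    Nat.card M = Fintype.card F * (Fintype.card F - 1) ∨
    (Fintype.card F ≠ 5 ∧ Nonempty (M ≃* DihedralGroup (Fintype.card F - 1))) ∨
    Nonempty (M ≃* DihedralGroup (Fintype.card F + 1)) ∨
    ((Fintype.card F).Prime ∧ (Fintype.card F % 8 = 3 ∨ Fintype.card F % 8 = 5) ∧ Nonempty (M ≃* Equiv.Perm (Fin 4))) ∨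
    (∃ (F₀ : Type) (_ : Field F₀) (_ : Fintype F₀) (r : ℕ), r.Prime ∧ Odd r ∧ Fintype.card F = Fintype.card F₀ ^ r ∧
        Nonempty (M ≃* Matrix.ProjGenLinGroup (Fin 2) F₀)) := by
  classical
  obtain ⟨p, hp⟩ := CharP.exists F
  have : Fact p.Prime := ⟨CharP.char_is_prime F p⟩
  have hpp := (Fact.out : p.Prime)
  have h2F : (2 : F) ≠ 0 := by
    intro h0
    have h0' : ((2 : ℕ) : F) = 0 := by exact_mod_cast h0
    rw [CharP.cast_eq_zero_iff F p] at h0'
    have hp2 : p = 2 := (Nat.prime_dvd_prime_iff_eq hpp Nat.prime_two).mp h0'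
    have hr : ringChar F = 2 := by rw [ringChar.eq F p]; exact hp2
    have h3' := FiniteField.even_card_of_char_two hr
    have h4 := Nat.odd_iff.mp hodd
    omega
  have h5 : 5 ≤ Fintype.card F := by
    have h4 := Nat.odd_iff.mp hodd
    omega
  obtain ⟨n, -, hqn⟩ := FiniteField.card F p
  let _ : Fintype (GaloisField p (2 * n)) := Fintype.ofFinite _
  have hcardE : Fintype.card (GaloisField p (2 * n)) = Fintype.card F ^ 2 := by
    rw [← Nat.card_eq_fintype_card, GaloisField.card p (2 * n) (by positivity), hqn, ← pow_mul,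
      mul_comm]
  obtain ⟨Φ⟩ := Cfsg.Agent.S0805.exists_ringHom (F := GaloisField p (2 * n)) (K := F) 2
    hcardE.symm
  have h2 : (2 : GaloisField p (2 * n)) ≠ 0 := by
    intro h
    apply h2F
    apply Φ.injective
    rw [map_ofNat, map_zero]
    exact h
  obtain ⟨e⟩ := Cfsg.Agent.Lib.helper98.pglSub_equiv Φ
    (Cfsg.Agent.Lib.helper98.isSquare_of_card_sq Φ h2 hcardE)
  obtain ⟨K, hK, ⟨f⟩⟩ := Cfsg.Agent.Lib.helper98.pgl_transfer Φ h2 hcardE e M hM hML
  have h := Cfsg.Agent.Lib.helper98.pmax_main p Φ h2 hcardE h5 K hK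
  exact Cfsg.Agent.Lib.helper98.pglConcl_congr F f h

end Cfsg.Agent.S5891
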