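import Cfsg.Statements.S5893
import Cfsg.Agent.Lib.helper98.EvenMax

set_option autoImplicit false
open Cfsg

namespace Cfsg.Agent.S5893

open Cfsg.Agent.Lib.helper98 in
/-- Let F be a finite field of even order q ≥ 4 and let M be a maximal subgroup of PSL₂(F) (= SL₂(F) = PGL₂(F)). Then one of the following holds: |M| = q(q − 1) (the stabiliser of a point of the projective line, elementary abelian of order q extended by a cyclic group of order q − 1); M is dihedral of order 2(q − 1); M is dihedral of order 2(q + 1); or q = q₀^r for a prime r with q₀ ≠ 2 and M ≅ PSL₂(F₀) with |F₀| = q₀. -/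
theorem result {F : Type*} [Field F] [Fintype F]
    (heven : Even (Fintype.card F)) (h4 : 4 ≤ Fintype.card F) (M : Subgroup (Matrix.ProjectiveSpecialLinearGroup (Fin 2) F)) (hM : IsCoatom M) :
    Nat.card M = Fintype.card F * (Fintype.card F - 1) ∨
    Nonempty (M ≃* DihedralGroup (Fintype.card F - 1)) ∨
    Nonempty (M ≃* DihedralGroup (Fintype.card F + 1)) ∨
    (∃ (F₀ : Type) (_ : Field F₀) (_ : Fintype F₀) (r : ℕ), r.Prime ∧ Fintype.card F₀ ≠ 2 ∧
        Fintype.card F = Fintype.card F₀ ^ r ∧ Nonempty (M ≃* Matrix.ProjectiveSpecialLinearGroup (Fin 2) F₀)) := by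
  classical
  have h2 : (2 : F) = 0 := Cfsg.Agent.Lib.helper46.two_eq_zero_of_even_card heven
  obtain ⟨π, hπ⟩ : ∃ π : Matrix.SpecialLinearGroup (Fin 2) F →*
      Matrix.ProjectiveSpecialLinearGroup (Fin 2) F,
      π = QuotientGroup.mk' (Subgroup.center (Matrix.SpecialLinearGroup (Fin 2) F)) := ⟨_, rfl⟩
  have hsurj : Function.Surjective π := by rw [hπ]; exact QuotientGroup.mk'_surjective _
  have hinj : Function.Injective π := by
    rw [injective_iff_map_eq_one]
    intro g hg
    rw [hπ] at hg
    exact center_eq_one_of_char_two h2 g ((QuotientGroup.eq_one_iff g).mp hg)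
  obtain ⟨K, hKdef⟩ : ∃ K, K = M.comap π := ⟨_, rfl⟩
  have hmap : K.map π = M := by
    rw [hKdef]; exact Subgroup.map_comap_eq_self_of_surjective hsurj M
  have eKM : K ≃* M :=
    (Subgroup.equivMapOfInjective K π hinj).trans (MulEquiv.subgroupCongr hmap)
  have hK : IsCoatom K := by
    constructor
    · intro h
      apply hM.1
      rw [← hmap, h]
      exact Subgroup.map_top_of_surjective π hsurj
    · intro L hL
      have h1 : M ≤ L.map π := by rw [← hmap]; exact Subgroup.map_mono hL.le
      have h2' : M ≠ L.map π := by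
        intro h
        apply hL.ne
        have h3 : L = (L.map π).comap π := (Subgroup.comap_map_eq_self_of_injective hinj L).symm
        rw [h3, ← h, hKdef]
      have h3 := hM.2 _ (lt_of_le_of_ne h1 h2')
      rw [← Subgroup.comap_map_eq_self_of_injective hinj L, h3, Subgroup.comap_top]
  rcases maximal_even heven h4 K hK with h | h | h | ⟨F₀, iF, iFin, r, φ, c, hr, hne, hcard, hconj⟩
  · left
    rw [← Nat.card_congr eKM.toEquiv]; exact h
  · right; left
    obtain ⟨e⟩ := h
    exact ⟨eKM.symm.trans e⟩
  · right; right; left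
    obtain ⟨e⟩ := h
    exact ⟨eKM.symm.trans e⟩
  · right; right; right
    refine ⟨F₀, iF, iFin, r, hr, hne, hcard, ?_⟩
    obtain ⟨e1⟩ := conjSub_equiv c K
    have e2 : (Matrix.SpecialLinearGroup.map φ : Matrix.SpecialLinearGroup (Fin 2) F₀ →*
        Matrix.SpecialLinearGroup (Fin 2) F).range ≃* conjSub c K :=
      MulEquiv.subgroupCongr hconj.symm
    have e3 : Matrix.SpecialLinearGroup (Fin 2) F₀ ≃*
        (Matrix.SpecialLinearGroup.map φ : Matrix.SpecialLinearGroup (Fin 2) F₀ →*
          Matrix.SpecialLinearGroup (Fin 2) F).range :=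
      MonoidHom.ofInjective (sl2_map_injective φ)
    have h2' : (2 : F₀) = 0 := two_eq_zero_of_hom φ h2
    have e4 : Matrix.SpecialLinearGroup (Fin 2) F₀ ≃*
        Matrix.ProjectiveSpecialLinearGroup (Fin 2) F₀ :=
      MulEquiv.ofBijective
        (QuotientGroup.mk' (Subgroup.center (Matrix.SpecialLinearGroup (Fin 2) F₀)))
        ⟨by
          rw [injective_iff_map_eq_one]
          intro g hg
          exact center_eq_one_of_char_two h2' g ((QuotientGroup.eq_one_iff g).mp hg),
         QuotientGroup.mk'_surjective _⟩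
    exact ⟨eKM.symm.trans (e1.symm.trans (e2.symm.trans (e3.symm.trans e4)))⟩

end Cfsg.Agent.S5893
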