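import Cfsg.Statements.S5894
import Cfsg.Agent.Lib.helper98.Wreath

set_option autoImplicit false
open Cfsg

namespace Cfsg.Agent.S5894

open scoped Pointwise

/-- Transfer of maximality along an injective homomorphism: if `H` lies in the range of `φ` and
its preimage is a maximal subgroup of the source, then `H` is maximal in the range. -/
theorem isCoatom_subgroupOf_range {G' G : Type*} [Group G'] [Group G] (φ : G' →* G)
    (H : Subgroup G) (hH : H ≤ φ.range) (hco : IsCoatom (H.comap φ)) :
    IsCoatom (H.subgroupOf φ.range) := by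
  refine ⟨?_, fun L' hL' => ?_⟩
  · intro htop
    rw [Subgroup.subgroupOf_eq_top] at htop
    apply hco.1
    rw [eq_top_iff]
    intro x _
    exact htop ⟨x, rfl⟩
  · set L := L'.map φ.range.subtype with hL
    have hLR : L ≤ φ.range := Subgroup.map_subtype_le L'
    have hL'eq : L.subgroupOf φ.range = L' := by
      rw [hL]
      exact Subgroup.comap_map_eq_self_of_injective φ.range.subtype_injective L'
    have hHL : H ≤ L := by
      rw [← Subgroup.map_subgroupOf_eq_of_le hH, hL]
      exact Subgroup.map_mono hL'.le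
    have hne : H.comap φ ≠ L.comap φ := by
      intro heq
      have h1 : H = L := by
        rw [← Subgroup.map_comap_eq_self hH, ← Subgroup.map_comap_eq_self hLR, heq]
      rw [← hL'eq, h1] at hL'
      exact lt_irrefl _ hL'
    have htop := hco.2 (L.comap φ) (lt_of_le_of_ne (Subgroup.comap_mono hHL) hne)
    have h2 : φ.range ≤ L := by
      rintro _ ⟨x, rfl⟩
      have : x ∈ L.comap φ := htop ▸ Subgroup.mem_top x
      exact this
    rw [← hL'eq, Subgroup.subgroupOf_eq_top]
    exact h2


/-- For every m ≥ 2 the symmetric group on 2m letters has a maximal subgroup M of index 2m together with a maximal subgroup H of M that is not second maximal: some maximal subgroup K of the symmetric group contains H without H being maximal in K. (One may take M the stabiliser of a letter, H ≅ S_m × S_{m−1} inside it, and K ≅ S_m ≀ S₂ the stabiliser of a partition into two m-sets, with H < S_m × S_m < K.) So the prime-index hypothesis in the second-maximality criterion cannot be relaxed to any even index ≥ 4. -/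
theorem result (m : ℕ) (hm : 2 ≤ m) :
    ∃ M H K : Subgroup (Equiv.Perm (Fin (2 * m))), IsCoatom M ∧ M.index = 2 * m ∧ H ≤ M ∧ IsCoatom (H.subgroupOf M) ∧
      IsCoatom K ∧ H ≤ K ∧ ¬ IsCoatom (H.subgroupOf K) := by
  classical
  -- the partition of `Fin (2 * m)` into two blocks of size `m`
  let e : Fin 2 × Fin m ≃ Fin (2 * m) := finProdFinEquiv
  let f : Fin (2 * m) → Fin 2 := fun x => (e.symm x).1
  have hf : ∀ i : Fin 2, Nat.card {x : Fin (2 * m) // f x = i} = m := by
    intro i
    have e1 : {x : Fin (2 * m) // f x = i} ≃ Fin m :=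
      { toFun := fun x => (e.symm x.1).2
        invFun := fun k => ⟨e (i, k), by simp [f]⟩
        left_inv := by
          rintro ⟨x, hx⟩
          apply Subtype.ext
          have h1 : e.symm x = (i, (e.symm x).2) := Prod.ext hx rfl
          show e (i, (e.symm x).2) = x
          rw [← h1, Equiv.apply_symm_apply]
        right_inv := by
          intro k
          simp }
    rw [Nat.card_congr e1, Nat.card_fin]
  let x₀ : Fin (2 * m) := e (0, ⟨0, by omega⟩)
  let x₁ : Fin (2 * m) := e (0, ⟨1, by omega⟩)
  let y₀ : Fin (2 * m) := e (1, ⟨0, by omega⟩)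
  have hfx₀ : f x₀ = 0 := by simp [f, x₀]
  have hfx₁ : f x₁ = 0 := by simp [f, x₁]
  have hfy₀ : f y₀ = 1 := by simp [f, y₀]
  have hx₀₁ : x₁ ≠ x₀ := by
    intro h
    have := e.injective h
    simp at this
  have hy₀x₀ : y₀ ≠ x₀ := fun h => by
    have h1 : f y₀ = f x₀ := by rw [h]
    rw [hfx₀, hfy₀] at h1
    exact absurd h1 (by decide)
  let F₀ : Set (Fin (2 * m)) := {x | f x = 0}
  let M : Subgroup (Equiv.Perm (Fin (2 * m))) := MulAction.stabilizer _ x₀
  let J : Subgroup (Equiv.Perm (Fin (2 * m))) := MulAction.stabilizer _ F₀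
  let K : Subgroup (Equiv.Perm (Fin (2 * m))) := Cfsg.Agent.Lib.helper98.wr f
  have hnt : Nontrivial (Fin (2 * m)) := Fin.nontrivial_iff_two_le.mpr (by omega)
  have hJK : J ≤ K := by
    intro g hg x y
    have hg' := MulAction.mem_stabilizer_set.mp hg
    have h2 : ∀ a b c : Fin 2, a ≠ c → b ≠ c → a = b := by decide
    have h3 : ∀ x y : Fin (2 * m), f x = f y ↔ (x ∈ F₀ ↔ y ∈ F₀) := by
      intro x y
      constructor
      · intro h
        show f x = 0 ↔ f y = 0
        rw [h]
      · intro h
        by_cases hx : f x = 0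
        · rw [hx, (h.mp hx : f y = 0)]
        · exact h2 _ _ 0 hx (fun hy => hx (h.mpr hy))
    rw [h3, h3 (g x) (g y)]
    have hx := hg' x
    have hy := hg' y
    simp only [Equiv.Perm.smul_def] at hx hy
    rw [hx, hy]
  refine ⟨M, M ⊓ J, K, ?_, ?_, inf_le_left, ?_, ?_, inf_le_right.trans hJK, ?_⟩
  · -- M is maximal
    exact (MulAction.isCoatom_stabilizer_iff_preprimitive (Equiv.Perm (Fin (2 * m))) x₀).mpr
      inferInstance
  · -- index
    show (MulAction.stabilizer (Equiv.Perm (Fin (2 * m))) x₀).index = 2 * m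
    rw [MulAction.index_stabilizer_of_transitive, Nat.card_fin]
  · -- M ⊓ J is maximal in M
    let φ : Equiv.Perm {x : Fin (2 * m) // x ≠ x₀} →* Equiv.Perm (Fin (2 * m)) :=
      Equiv.Perm.ofSubtype
    have hrange : φ.range = M := by
      ext g
      constructor
      · rintro ⟨σ, rfl⟩
        show Equiv.Perm.ofSubtype σ x₀ = x₀
        exact Equiv.Perm.ofSubtype_apply_of_not_mem σ (by simp)
      · intro hg
        have hg' : g x₀ = x₀ := hg
        have h1 : ∀ x, g x ≠ x₀ ↔ x ≠ x₀ := by
          intro x
          rw [not_iff_not]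
          constructor
          · intro h
            apply g.injective
            rw [h, hg']
          · intro h
            rw [h, hg']
        refine ⟨g.subtypePerm h1, Equiv.Perm.ofSubtype_subtypePerm h1 ?_⟩
        intro x hx hxx
        exact hx (by rw [hxx, hg'])
    let S' : Set {x : Fin (2 * m) // x ≠ x₀} := {x | f x.1 = 0}
    have hcomap : (M ⊓ J).comap φ = MulAction.stabilizer _ S' := by
      ext σ
      rw [Subgroup.mem_comap, Subgroup.mem_inf]
      constructor
      · rintro ⟨-, h2⟩
        rw [MulAction.mem_stabilizer_set]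
        intro x
        have h2' : φ σ ∈ MulAction.stabilizer (Equiv.Perm (Fin (2 * m))) F₀ := h2
        have h3 := MulAction.mem_stabilizer_set.mp h2' x.1
        simp only [Equiv.Perm.smul_def] at h3 ⊢
        have h4 : φ σ x.1 = (σ x).1 := Equiv.Perm.ofSubtype_apply_coe σ x
        rw [h4] at h3
        exact h3
      · intro h
        have h' := MulAction.mem_stabilizer_set.mp h
        refine ⟨hrange ▸ ⟨σ, rfl⟩, ?_⟩
        show φ σ ∈ MulAction.stabilizer (Equiv.Perm (Fin (2 * m))) F₀
        rw [MulAction.mem_stabilizer_set]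
        intro x
        simp only [Equiv.Perm.smul_def]
        by_cases hx : x = x₀
        · have h4 : φ σ x = x := by
            rw [hx]; exact Equiv.Perm.ofSubtype_apply_of_not_mem σ (by simp)
          rw [h4]
        · have h4 : φ σ x = (σ ⟨x, hx⟩).1 := Equiv.Perm.ofSubtype_apply_of_mem σ hx
          rw [h4]
          exact h' ⟨x, hx⟩
    have hco : IsCoatom ((M ⊓ J).comap φ) := by
      rw [hcomap]
      apply Equiv.Perm.isCoatom_stabilizer
      · exact ⟨⟨x₁, hx₀₁⟩, hfx₁⟩
      · refine ⟨⟨y₀, hy₀x₀⟩, ?_⟩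
        show ¬ f y₀ = 0
        rw [hfy₀]; decide
      · have h5 : Nat.card {x : Fin (2 * m) // x ≠ x₀} = 2 * m - 1 := by
          rw [Nat.card_eq_fintype_card, Fintype.card_subtype_compl, Fintype.card_subtype_eq,
            Fintype.card_fin]
        rw [h5]
        omega
    have h6 := isCoatom_subgroupOf_range φ (M ⊓ J) (hrange ▸ inf_le_left) hco
    rw [hrange] at h6
    exact h6
  · -- K is maximal
    exact Cfsg.Agent.Lib.helper98.isCoatom_wr hm le_rfl f hf
  · -- M ⊓ J is not maximal in K
    intro hco
    have h1 : (M ⊓ J).subgroupOf K < J.subgroupOf K := by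
      refine lt_of_le_of_ne (Subgroup.subgroupOf_mono K inf_le_right) ?_
      intro heq
      rw [Subgroup.subgroupOf_inj, inf_eq_left.mpr (inf_le_right.trans hJK),
        inf_eq_left.mpr hJK] at heq
      have h2 : Equiv.swap x₀ x₁ ∈ J :=
        Equiv.Perm.swap_mem_stabilizer (s := F₀) (show x₀ ∈ F₀ from hfx₀) (show x₁ ∈ F₀ from hfx₁)
      rw [← heq] at h2
      have h3 : Equiv.swap x₀ x₁ x₀ = x₀ := h2.1
      rw [Equiv.swap_apply_left] at h3
      exact hx₀₁ h3
    have h4 := hco.2 _ h1
    rw [Subgroup.subgroupOf_eq_top] at h4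
    have h5 : Cfsg.Agent.Lib.helper98.liftPerm f hf (Equiv.swap 0 1) ∈ J :=
      h4 (Cfsg.Agent.Lib.helper98.liftPerm_mem_wr f hf _)
    have h6 := MulAction.mem_stabilizer_set.mp h5 x₀
    simp only [Equiv.Perm.smul_def] at h6
    have h7 : f (Cfsg.Agent.Lib.helper98.liftPerm f hf (Equiv.swap 0 1) x₀) = 0 := h6.mpr hfx₀
    rw [Cfsg.Agent.Lib.helper98.f_liftPerm f hf, hfx₀] at h7
    simp at h7

end Cfsg.Agent.S5894
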