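import Cfsg.Statements.S5895
-- import your own Cfsg.Agent.* helpers here

set_option autoImplicit false
open Cfsg

namespace Cfsg.Agent.S5895

open SemidirectProduct

/-- Irreducibility of an action by automorphisms: no proper nontrivial invariant subgroup. -/
def Irr {V X : Type*} [Group V] [Group X] (ψ : X →* MulAut V) : Prop :=
  ∀ W : Subgroup V, (∀ x : X, ∀ w ∈ W, ψ x w ∈ W) → W = ⊥ ∨ W = ⊤

/-- Among the finite groups acting irreducibly on `V` there is one all of whose proper subgroups
act reducibly. -/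
theorem exists_minimal_irr {V : Type} [Group V] :
    ∀ (n : ℕ) (A : Type) [Group A] [Finite A] (φ : A →* MulAut V), Nat.card A = n → Irr φ →
      ∃ (X : Type) (_ : Group X) (_ : Finite X) (ψ : X →* MulAut V), Irr ψ ∧
        ∀ H₀ : Subgroup X, H₀ ≠ ⊤ → ¬ Irr (ψ.comp H₀.subtype) := by
  intro n
  induction n using Nat.strong_induction_on with
  | _ n ih =>
    intro A _ _ φ hcard hirr
    by_cases hmin : ∀ H₀ : Subgroup A, H₀ ≠ ⊤ → ¬ Irr (φ.comp H₀.subtype)
    · exact ⟨A, inferInstance, inferInstance, φ, hirr, hmin⟩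
    · push Not at hmin
      obtain ⟨B, hB, hBirr⟩ := hmin
      have hlt : Nat.card B < n := by
        rw [← hcard]
        refine lt_of_le_of_ne (Subgroup.card_le_card_group B) ?_
        intro h
        exact hB (Subgroup.eq_top_of_card_eq B h)
      exact ih (Nat.card B) hlt B (φ.comp B.subtype) rfl hBirr

/-- Transfer of maximality along an injective homomorphism. -/
theorem isCoatom_subgroupOf_range {G' G : Type*} [Group G'] [Group G] (φ : G' →* G)
    (H : Subgroup G) (hH : H ≤ φ.range) (hco : IsCoatom (H.comap φ)) :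
    IsCoatom (H.subgroupOf φ.range) := by
  refine ⟨?_, fun L' hL' => ?_⟩
  · intro htop
    rw [Subgroup.subgroupOf_eq_top] at htop
    apply hco.1
    rw [eq_top_iff]
    intro x _
    exact htop ⟨x, rfl⟩
  · set L := L'.map φ.range.subtype with hL
    have hLR : L ≤ φ.range := Subgroup.map_subtype_le L'
    have hL'eq : L.subgroupOf φ.range = L' := by
      rw [hL]
      exact Subgroup.comap_map_eq_self_of_injective φ.range.subtype_injective L'
    have hHL : H ≤ L := by
      rw [← Subgroup.map_subgroupOf_eq_of_le hH, hL]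
      exact Subgroup.map_mono hL'.le
    have hne : H.comap φ ≠ L.comap φ := by
      intro heq
      have h1 : H = L := by
        rw [← Subgroup.map_comap_eq_self hH, ← Subgroup.map_comap_eq_self hLR, heq]
      rw [← hL'eq, h1] at hL'
      exact lt_irrefl _ hL'
    have htop := hco.2 (L.comap φ) (lt_of_le_of_ne (Subgroup.comap_mono hHL) hne)
    have h2 : φ.range ≤ L := by
      rintro _ ⟨x, rfl⟩
      have : x ∈ L.comap φ := htop ▸ Subgroup.mem_top x
      exact this
    rw [← hL'eq, Subgroup.subgroupOf_eq_top]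
    exact h2

/-- The preimage of a maximal subgroup under a surjective homomorphism is maximal. -/
theorem isCoatom_comap_of_surjective {G Q : Type*} [Group G] [Group Q] (π : G →* Q)
    (hπ : Function.Surjective π) (N : Subgroup Q) (hN : IsCoatom N) : IsCoatom (N.comap π) := by
  refine ⟨?_, fun L hL => ?_⟩
  · intro htop
    apply hN.1
    rw [← Subgroup.map_comap_eq_self_of_surjective hπ N, htop, Subgroup.map_top_of_surjective π hπ]
  · have hker : π.ker ≤ L := (Subgroup.ker_le_comap π N).trans hL.le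
    have h1 : N ≤ L.map π := by
      rw [← Subgroup.map_comap_eq_self_of_surjective hπ N]
      exact Subgroup.map_mono hL.le
    have h2 : N ≠ L.map π := by
      intro h
      have h3 : L ≤ N.comap π := by
        rw [h]; exact Subgroup.le_comap_map π L
      exact absurd h3 (not_le_of_gt hL)
    have h4 := hN.2 _ (lt_of_le_of_ne h1 h2)
    rw [← Subgroup.comap_map_eq_self hker, h4, Subgroup.comap_top]

/-- The example: a semidirect product `V ⋊ X` where `X` is minimal irreducible on `V`. -/
theorem semidirect_example {V X : Type} [Group V] [Finite V] [Group X] [Finite X]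
    (ψ : X →* MulAut V) (hirr : Irr ψ)
    (hmin : ∀ H₀ : Subgroup X, H₀ ≠ ⊤ → ¬ Irr (ψ.comp H₀.subtype))
    (hV : ∃ W₀ : Subgroup V, W₀ ≠ ⊥ ∧ W₀ ≠ ⊤) :
    ∃ M H K : Subgroup (V ⋊[ψ] X), IsCoatom M ∧ M.index = Nat.card V ∧ H ≤ M ∧
      IsCoatom (H.subgroupOf M) ∧ IsCoatom K ∧ H ≤ K ∧ ¬ IsCoatom (H.subgroupOf K) := by
  classical
  have hfin : Finite (V ⋊[ψ] X) := Finite.of_equiv _ (SemidirectProduct.equivProd).symm
  obtain ⟨W₀, hW₀bot, hW₀top⟩ := hV
  -- `X` is nontrivial
  have hXnt : (⊥ : Subgroup X) ≠ ⊤ := by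
    intro h
    have hsub : ∀ x : X, x = 1 := fun x => by
      have : x ∈ (⊥ : Subgroup X) := h ▸ Subgroup.mem_top x
      exact Subgroup.mem_bot.mp this
    rcases hirr W₀ (fun x w hw => by rw [hsub x, map_one]; exact hw) with h | h
    · exact hW₀bot h
    · exact hW₀top h
  obtain ⟨H₀, hH₀, -⟩ := (eq_top_or_exists_le_coatom (⊥ : Subgroup X)).resolve_left hXnt
  -- `H₀` acts reducibly
  have hred := hmin H₀ hH₀.1
  unfold Irr at hred
  push Not at hred
  obtain ⟨W, hWinv, hWbot, hWtop⟩ := hred
  have hWinv' : ∀ x ∈ H₀, ∀ w ∈ W, ψ x w ∈ W := fun x hx w hw => hWinv ⟨x, hx⟩ w hw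
  let M : Subgroup (V ⋊[ψ] X) := (inr : X →* V ⋊[ψ] X).range
  let H : Subgroup (V ⋊[ψ] X) := H₀.map inr
  let K : Subgroup (V ⋊[ψ] X) := H₀.comap rightHom
  let J : Subgroup (V ⋊[ψ] X) :=
    { carrier := {g | g.left ∈ W ∧ g.right ∈ H₀}
      one_mem' := ⟨W.one_mem, H₀.one_mem⟩
      mul_mem' := by
        rintro a b ⟨ha1, ha2⟩ ⟨hb1, hb2⟩
        refine ⟨?_, H₀.mul_mem ha2 hb2⟩
        show a.left * ψ a.right b.left ∈ W
        exact W.mul_mem ha1 (hWinv' _ ha2 _ hb1)
      inv_mem' := by
        rintro a ⟨ha1, ha2⟩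
        refine ⟨?_, H₀.inv_mem ha2⟩
        show ψ a.right⁻¹ a.left⁻¹ ∈ W
        exact hWinv' _ (H₀.inv_mem ha2) _ (W.inv_mem ha1) }
  have hHM : H ≤ M := Subgroup.map_le_range _ _
  have hHK : H ≤ K := by
    rintro _ ⟨h, hh, rfl⟩
    show rightHom (inr h) ∈ H₀
    rw [rightHom_inr]; exact hh
  have hinl_not_M : ∀ v : V, v ≠ 1 → (inl v : V ⋊[ψ] X) ∉ M := by
    rintro v hv ⟨x, hx⟩
    have h1 := congrArg SemidirectProduct.left hx
    rw [left_inr, left_inl] at h1
    exact hv h1.symm
  refine ⟨M, H, K, ?_, ?_, hHM, ?_, ?_, hHK, ?_⟩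
  · -- `M` is maximal
    refine ⟨?_, fun L hL => ?_⟩
    · intro htop
      have hW₀ : ∃ v : V, v ≠ 1 := by
        by_contra hcon
        push Not at hcon
        apply hW₀top
        rw [eq_top_iff]
        intro v _
        rw [hcon v]; exact W₀.one_mem
      obtain ⟨v, hv⟩ := hW₀
      exact hinl_not_M v hv (htop ▸ Subgroup.mem_top _)
    · let WL : Subgroup V := L.comap inl
      have hWL : ∀ x : X, ∀ w ∈ WL, ψ x w ∈ WL := by
        intro x w hw
        show inl (ψ x w) ∈ L
        rw [inl_aut]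
        exact L.mul_mem (L.mul_mem (hL.le ⟨x, rfl⟩) hw) (hL.le ⟨x⁻¹, rfl⟩)
      obtain ⟨l, hlL, hlM⟩ := SetLike.exists_of_lt hL
      have hl1 : inl l.left ∈ L := by
        have h1 : inl l.left = l * (inr l.right)⁻¹ := by
          rw [eq_mul_inv_iff_mul_eq, inl_left_mul_inr_right]
        rw [h1]
        exact L.mul_mem hlL (L.inv_mem (hL.le ⟨l.right, rfl⟩))
      have hl2 : l.left ≠ 1 := by
        intro h
        apply hlM
        refine ⟨l.right, ?_⟩
        have h3 := inl_left_mul_inr_right l
        rw [h, map_one, one_mul] at h3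
        exact h3
      rcases hirr WL hWL with h | h
      · exact absurd (Subgroup.mem_bot.mp (h ▸ (show l.left ∈ WL from hl1))) hl2
      · rw [eq_top_iff]
        intro g _
        rw [← inl_left_mul_inr_right g]
        have h1 : g.left ∈ WL := h ▸ Subgroup.mem_top _
        exact L.mul_mem h1 (hL.le ⟨g.right, rfl⟩)
  · -- index
    have h1 : M.index * Nat.card M = Nat.card (V ⋊[ψ] X) := Subgroup.index_mul_card M
    have h2 : Nat.card M = Nat.card X :=
      Nat.card_congr (Equiv.ofInjective _ inr_injective).symm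
    rw [h2, SemidirectProduct.card] at h1
    exact Nat.eq_of_mul_eq_mul_right Nat.card_pos h1
  · -- `H` is maximal in `M`
    apply isCoatom_subgroupOf_range inr H hHM
    have h1 : H.comap inr = H₀ := Subgroup.comap_map_eq_self_of_injective inr_injective H₀
    rw [h1]; exact hH₀
  · -- `K` is maximal
    exact isCoatom_comap_of_surjective rightHom rightHom_surjective H₀ hH₀
  · -- `H` is not maximal in `K`
    intro hco
    have hHJ : H ≤ J := by
      rintro _ ⟨h, hh, rfl⟩
      exact ⟨by rw [left_inr]; exact W.one_mem, by rw [right_inr]; exact hh⟩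
    have hJK : J ≤ K := fun g hg => hg.2
    obtain ⟨w, hw, hw1⟩ : ∃ w ∈ W, w ≠ 1 := by
      by_contra hcon
      push Not at hcon
      apply hWbot
      rw [eq_bot_iff]
      intro w hw
      exact Subgroup.mem_bot.mpr (hcon w hw)
    obtain ⟨v, hv⟩ : ∃ v : V, v ∉ W := by
      by_contra hcon
      push Not at hcon
      exact hWtop (eq_top_iff.mpr fun v _ => hcon v)
    have h1 : H.subgroupOf K < J.subgroupOf K := by
      refine lt_of_le_of_ne (Subgroup.subgroupOf_mono K hHJ) ?_
      intro heq
      rw [Subgroup.subgroupOf_inj, inf_eq_left.mpr hHK, inf_eq_left.mpr hJK] at heq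
      have h2 : (inl w : V ⋊[ψ] X) ∈ J := ⟨by rw [left_inl]; exact hw, by
        rw [right_inl]; exact H₀.one_mem⟩
      rw [← heq] at h2
      exact hinl_not_M w hw1 (hHM h2)
    have h4 := hco.2 _ h1
    rw [Subgroup.subgroupOf_eq_top] at h4
    have h5 : (inl v : V ⋊[ψ] X) ∈ K := by
      show rightHom (inl v) ∈ H₀
      rw [rightHom_inl]; exact H₀.one_mem
    have h6 := (h4 h5).1
    rw [left_inl] at h6
    exact hv h6


/-- For every prime p and every d ≥ 2 there is a finite group G with a maximal subgroup M of index p^d and a maximal subgroup H of M that is not second maximal in G: some maximal subgroup K of G contains H without H being maximal in K. (One may take G the affine group V ⋊ GL(V) of V = 𝔽_p^d, M = GL(V), H the stabiliser in M of a line W of V, and K = V ⋊ H, with H < W ⋊ H < K.) So the prime-index hypothesis in the second-maximality criterion cannot be relaxed to prime-power index. -/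
theorem result (p d : ℕ) (hp : p.Prime)
    (hd : 2 ≤ d) :
    ∃ (G : Type) (_ : Group G) (_ : Finite G) (M H K : Subgroup G), IsCoatom M ∧ M.index = p ^ d ∧ H ≤ M ∧
      IsCoatom (H.subgroupOf M) ∧ IsCoatom K ∧ H ≤ K ∧ ¬ IsCoatom (H.subgroupOf K) := by
  have : Fact p.Prime := ⟨hp⟩
  let F := GaloisField p d
  let φ : Fˣ →* MulAut (Multiplicative F) :=
    (MulAutMultiplicative F).symm.toMonoidHom.comp AddAut.mulLeft
  have hφ : ∀ (u : Fˣ) (v : Multiplicative F),
      φ u v = Multiplicative.ofAdd ((u : F) * Multiplicative.toAdd v) := fun u v => rfl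
  have hirr : Irr φ := by
    intro W hW
    by_cases hbot : W = ⊥
    · exact Or.inl hbot
    · right
      obtain ⟨w, hw, hw1⟩ : ∃ w ∈ W, w ≠ 1 := by
        by_contra hcon
        push Not at hcon
        apply hbot
        rw [eq_bot_iff]
        intro w hw
        exact Subgroup.mem_bot.mpr (hcon w hw)
      have hw0 : Multiplicative.toAdd w ≠ 0 := fun h => hw1 (by
        rw [← ofAdd_toAdd w, h]; rfl)
      rw [eq_top_iff]
      intro v _
      by_cases hv0 : Multiplicative.toAdd v = 0
      · have : v = 1 := by rw [← ofAdd_toAdd v, hv0]; rfl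
        rw [this]; exact W.one_mem
      · have h1 := hW (Units.mk0 (Multiplicative.toAdd v / Multiplicative.toAdd w)
          (div_ne_zero hv0 hw0)) w hw
        rw [hφ, Units.val_mk0, div_mul_cancel₀ _ hw0, ofAdd_toAdd] at h1
        exact h1
  have hcardV : Nat.card (Multiplicative F) = p ^ d := by
    have h1 : Nat.card (Multiplicative F) = Nat.card F := Nat.card_congr Multiplicative.toAdd
    rw [h1]
    exact GaloisField.card p d (by omega)
  have hV : ∃ W₀ : Subgroup (Multiplicative F), W₀ ≠ ⊥ ∧ W₀ ≠ ⊤ := by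
    obtain ⟨W₀, hW₀⟩ := Sylow.exists_subgroup_card_pow_prime (G := Multiplicative F) p (n := 1)
      (by rw [hcardV]; exact pow_dvd_pow p (by omega))
    refine ⟨W₀, ?_, ?_⟩
    · intro h
      rw [h, Subgroup.card_bot, pow_one] at hW₀
      exact hp.one_lt.ne hW₀
    · intro h
      rw [h, Subgroup.card_top, hcardV, pow_one] at hW₀
      have h2 : p ^ 1 < p ^ d := Nat.pow_lt_pow_right hp.one_lt (by omega)
      rw [pow_one] at h2
      omega
  obtain ⟨X, _, _, ψ, hψ, hmin⟩ := exists_minimal_irr (Nat.card Fˣ) Fˣ φ rfl hirr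
  obtain ⟨M, H, K, h1, h2, h3, h4, h5, h6, h7⟩ := semidirect_example ψ hψ hmin hV
  exact ⟨Multiplicative F ⋊[ψ] X, inferInstance,
    Finite.of_equiv _ (SemidirectProduct.equivProd).symm, M, H, K, h1, h2.trans hcardV, h3, h4,
    h5, h6, h7⟩

end Cfsg.Agent.S5895
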