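import Cfsg.Statements.S5896
-- import your own Cfsg.Agent.* helpers here

set_option autoImplicit false
open Cfsg

namespace Cfsg.Agent.S5896

open Matrix
open scoped commutatorElement

section General

variable {R : Type} [CommRing R]

/-- An explicit element of `SL₂(R)`. -/
def mk (a b c d : R) (h : a * d - b * c = 1) : Matrix.SpecialLinearGroup (Fin 2) R :=
  ⟨!![a, b; c, d], by rw [Matrix.det_fin_two_of]; exact h⟩

theorem mk_congr {a b c d a' b' c' d' : R} {h : a * d - b * c = 1} {h' : a' * d' - b' * c' = 1}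
    (ha : a = a') (hb : b = b') (hc : c = c') (hd : d = d') :
    mk a b c d h = mk a' b' c' d' h' := by
  subst ha hb hc hd; rfl

theorem mk_mul (a b c d a' b' c' d' : R) (h : a * d - b * c = 1) (h' : a' * d' - b' * c' = 1) :
    mk a b c d h * mk a' b' c' d' h' =
      mk (a * a' + b * c') (a * b' + b * d') (c * a' + d * c') (c * b' + d * d')
        (by linear_combination (a' * d' - b' * c') * h + h') := by
  apply Subtype.ext
  rw [Matrix.SpecialLinearGroup.coe_mul]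
  simp [mk]

theorem mk_inv (a b c d : R) (h : a * d - b * c = 1) :
    (mk a b c d h)⁻¹ = mk d (-b) (-c) a (by linear_combination h) := by
  apply Subtype.ext
  rw [Matrix.SpecialLinearGroup.coe_inv]
  simp [mk, Matrix.adjugate_fin_two_of]

theorem exists_eq_mk (g : Matrix.SpecialLinearGroup (Fin 2) R) :
    ∃ (a b c d : R) (h : a * d - b * c = 1), g = mk a b c d h := by
  obtain ⟨M, hM⟩ := g
  refine ⟨M 0 0, M 0 1, M 1 0, M 1 1, by rw [← hM, Matrix.det_fin_two], ?_⟩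
  apply Subtype.ext
  simp only [mk]
  exact Matrix.eta_fin_two M

theorem one_eq_mk : (1 : Matrix.SpecialLinearGroup (Fin 2) R) = mk 1 0 0 1 (by ring) := by
  apply Subtype.ext
  simp [mk, Matrix.one_fin_two]

@[simp] theorem mk_apply_00 (a b c d : R) (h : a * d - b * c = 1) : (mk a b c d h) 0 0 = a := rfl
@[simp] theorem mk_apply_01 (a b c d : R) (h : a * d - b * c = 1) : (mk a b c d h) 0 1 = b := rfl
@[simp] theorem mk_apply_10 (a b c d : R) (h : a * d - b * c = 1) : (mk a b c d h) 1 0 = c := rfl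
@[simp] theorem mk_apply_11 (a b c d : R) (h : a * d - b * c = 1) : (mk a b c d h) 1 1 = d := rfl

theorem mk_eq_one_iff (a b c d : R) (h : a * d - b * c = 1) :
    mk a b c d h = 1 ↔ a = 1 ∧ b = 0 ∧ c = 0 ∧ d = 1 := by
  constructor
  · intro hh
    rw [one_eq_mk] at hh
    have h00 := congrArg (fun g : Matrix.SpecialLinearGroup (Fin 2) R => g 0 0) hh
    have h01 := congrArg (fun g : Matrix.SpecialLinearGroup (Fin 2) R => g 0 1) hh
    have h10 := congrArg (fun g : Matrix.SpecialLinearGroup (Fin 2) R => g 1 0) hh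
    have h11 := congrArg (fun g : Matrix.SpecialLinearGroup (Fin 2) R => g 1 1) hh
    simp only [mk_apply_00, mk_apply_01, mk_apply_10, mk_apply_11] at h00 h01 h10 h11
    exact ⟨h00, h01, h10, h11⟩
  · rintro ⟨rfl, rfl, rfl, rfl⟩
    rw [one_eq_mk]

/-- upper elementary matrix -/
def E (x : R) : Matrix.SpecialLinearGroup (Fin 2) R := mk 1 x 0 1 (by ring)
/-- lower elementary matrix -/
def Et (x : R) : Matrix.SpecialLinearGroup (Fin 2) R := mk 1 0 x 1 (by ring)
/-- diagonal matrix -/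
def D (u : Rˣ) : Matrix.SpecialLinearGroup (Fin 2) R := mk u 0 0 ↑u⁻¹ (by simp)
/-- Weyl element -/
def w : Matrix.SpecialLinearGroup (Fin 2) R := mk 0 (-1) 1 0 (by ring)

theorem comm_D_E (u : Rˣ) (y : R) : ⁅D u, E y⁆ = E (((u : R) ^ 2 - 1) * y) := by
  have h1 : (u : R) * ↑u⁻¹ = 1 := Units.mul_inv u
  simp only [D, E, commutatorElement_def, mk_mul, mk_inv]
  apply mk_congr <;> grind

theorem comm_Dinv_Et (u : Rˣ) (y : R) : ⁅(D u)⁻¹, Et y⁆ = Et (((u : R) ^ 2 - 1) * y) := by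
  have h1 : (u : R) * ↑u⁻¹ = 1 := Units.mul_inv u
  simp only [D, Et, commutatorElement_def, mk_mul, mk_inv]
  apply mk_congr <;> grind

theorem comm_E_Et (p q : R) :
    ⁅E p, Et q⁆ = mk (1 + p * q + p ^ 2 * q ^ 2) (-(p ^ 2 * q)) (p * q ^ 2) (1 - p * q)
      (by ring) := by
  simp only [E, Et, commutatorElement_def, mk_mul, mk_inv]
  apply mk_congr <;> ring

theorem w_eq : (w : Matrix.SpecialLinearGroup (Fin 2) R) = E (-1) * Et 1 * E (-1) := by
  simp only [w, E, Et, mk_mul]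
  apply mk_congr <;> ring

theorem D_eq (u : Rˣ) : D u = E (u : R) * Et (-(↑u⁻¹ : R)) * E (u : R) * w := by
  have h1 : (u : R) * ↑u⁻¹ = 1 := Units.mul_inv u
  simp only [D, w, E, Et, mk_mul]
  apply mk_congr <;> grind

theorem bruhat (a b c d : R) (h : a * d - b * c = 1) (u : Rˣ) (hu : (u : R) = c) :
    mk a b c d h = E (a * ↑u⁻¹) * w * D u * E (d * ↑u⁻¹) := by
  have h1 : (u : R) * ↑u⁻¹ = 1 := Units.mul_inv u
  simp only [D, w, E, mk_mul]
  apply mk_congr <;> grind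

theorem w_mul (a b c d : R) (h : a * d - b * c = 1) :
    w * mk a b c d h = mk (-c) (-d) a b (by linear_combination h) := by
  simp only [w, mk_mul]
  apply mk_congr <;> ring

theorem diag_eq (s : R) (α : Rˣ) (hα : (α : R) = 1 + s ^ 2 + s ^ 4) :
    D α = Et (-(s ^ 3) * ↑α⁻¹) * ⁅E s, Et s⁆ * E (s ^ 3 * ↑α⁻¹) := by
  have h1 : (α : R) * ↑α⁻¹ = 1 := Units.mul_inv α
  rw [comm_E_Et]
  simp only [D, E, Et, mk_mul]
  apply mk_congr <;> grind

end General


section Subgroups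

variable {R : Type} [CommRing R]

/-- reduction modulo `t` -/
abbrev red (t : R) : R →+* R ⧸ Ideal.span {t} := Ideal.Quotient.mk _

theorem red_eq_zero_iff (t x : R) : red t x = 0 ↔ t ∣ x := by
  rw [Ideal.Quotient.eq_zero_iff_mem, Ideal.mem_span_singleton]

/-- matrices with lower-left entry divisible by `t` -/
def Bor (t : R) : Subgroup (Matrix.SpecialLinearGroup (Fin 2) R) where
  carrier := {g | red t (g 1 0) = 0}
  one_mem' := by
    show red t ((1 : Matrix.SpecialLinearGroup (Fin 2) R) 1 0) = 0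
    rw [one_eq_mk, mk_apply_10, map_zero]
  mul_mem' := by
    intro g h hg hh
    obtain ⟨a, b, c, d, h1, rfl⟩ := exists_eq_mk g
    obtain ⟨a', b', c', d', h2, rfl⟩ := exists_eq_mk h
    have hg' : red t c = 0 := hg
    have hh' : red t c' = 0 := hh
    show red t ((mk a b c d h1 * mk a' b' c' d' h2) 1 0) = 0
    rw [mk_mul, mk_apply_10, map_add, map_mul, map_mul, hg', hh']; simp
  inv_mem' := by
    intro g hg
    obtain ⟨a, b, c, d, h1, rfl⟩ := exists_eq_mk g
    have hg' : red t c = 0 := hg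
    show red t ((mk a b c d h1)⁻¹ 1 0) = 0
    rw [mk_inv, mk_apply_10, map_neg, hg', neg_zero]

theorem mk_mem_Bor {t a b c d : R} {h : a * d - b * c = 1} : mk a b c d h ∈ Bor t ↔ t ∣ c :=
  red_eq_zero_iff t c

/-- matrices that are upper unitriangular modulo `t` -/
def Uni (t : R) : Subgroup (Matrix.SpecialLinearGroup (Fin 2) R) where
  carrier := {g | red t (g 1 0) = 0 ∧ red t (g 0 0) = 1}
  one_mem' := by
    show red t ((1 : Matrix.SpecialLinearGroup (Fin 2) R) 1 0) = 0 ∧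
      red t ((1 : Matrix.SpecialLinearGroup (Fin 2) R) 0 0) = 1
    rw [one_eq_mk, mk_apply_10, mk_apply_00, map_zero, map_one]
    exact ⟨rfl, rfl⟩
  mul_mem' := by
    intro g h hg hh
    obtain ⟨a, b, c, d, h1, rfl⟩ := exists_eq_mk g
    obtain ⟨a', b', c', d', h2, rfl⟩ := exists_eq_mk h
    have hg1 : red t c = 0 := hg.1
    have hg2 : red t a = 1 := hg.2
    have hh1 : red t c' = 0 := hh.1
    have hh2 : red t a' = 1 := hh.2
    show red t ((mk a b c d h1 * mk a' b' c' d' h2) 1 0) = 0 ∧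
      red t ((mk a b c d h1 * mk a' b' c' d' h2) 0 0) = 1
    rw [mk_mul, mk_apply_10, mk_apply_00]
    simp only [map_add, map_mul, hg1, hg2, hh1, hh2]
    constructor <;> simp
  inv_mem' := by
    intro g hg
    obtain ⟨a, b, c, d, h1, rfl⟩ := exists_eq_mk g
    have hg1 : red t c = 0 := hg.1
    have hg2 : red t a = 1 := hg.2
    have h1' := congrArg (red t) h1
    simp only [map_sub, map_mul, map_one, hg1, hg2] at h1'
    show red t ((mk a b c d h1)⁻¹ 1 0) = 0 ∧ red t ((mk a b c d h1)⁻¹ 0 0) = 1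
    rw [mk_inv, mk_apply_10, mk_apply_00, map_neg, hg1, neg_zero]
    refine ⟨rfl, ?_⟩
    simpa using h1'

/-- entrywise divisibility of a matrix -/
def Dv (t : R) (M : Matrix (Fin 2) (Fin 2) R) : Prop := ∀ i j, t ∣ M i j

theorem Dv.mul_right {t : R} {M : Matrix (Fin 2) (Fin 2) R} (h : Dv t M)
    (N : Matrix (Fin 2) (Fin 2) R) : Dv t (M * N) := by
  intro i j
  rw [Matrix.mul_apply]
  exact Finset.dvd_sum fun l _ => Dvd.dvd.mul_right (h i l) _

theorem Dv.mul_left {t : R} {M : Matrix (Fin 2) (Fin 2) R} (h : Dv t M)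
    (N : Matrix (Fin 2) (Fin 2) R) : Dv t (N * M) := by
  intro i j
  rw [Matrix.mul_apply]
  exact Finset.dvd_sum fun l _ => Dvd.dvd.mul_left (h l j) _

theorem Dv.mul {t s : R} {M N : Matrix (Fin 2) (Fin 2) R} (h : Dv t M) (h' : Dv s N) :
    Dv (t * s) (M * N) := by
  intro i j
  rw [Matrix.mul_apply]
  exact Finset.dvd_sum fun l _ => mul_dvd_mul (h i l) (h' l j)

theorem Dv.add {t : R} {M N : Matrix (Fin 2) (Fin 2) R} (h : Dv t M) (h' : Dv t N) :
    Dv t (M + N) := fun i j => dvd_add (h i j) (h' i j)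

theorem Dv.sub {t : R} {M N : Matrix (Fin 2) (Fin 2) R} (h : Dv t M) (h' : Dv t N) :
    Dv t (M - N) := fun i j => dvd_sub (h i j) (h' i j)

theorem Dv.neg {t : R} {M : Matrix (Fin 2) (Fin 2) R} (h : Dv t M) :
    Dv t (-M) := fun i j => (dvd_neg).mpr (h i j)

/-- the principal congruence subgroup of level `t` -/
def Gam (t : R) : Subgroup (Matrix.SpecialLinearGroup (Fin 2) R) where
  carrier := {g | Dv t ((g : Matrix (Fin 2) (Fin 2) R) - 1)}
  one_mem' := by
    intro i j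
    simp
  mul_mem' := by
    intro g h hg hh
    have e : ((g * h : Matrix.SpecialLinearGroup (Fin 2) R) : Matrix (Fin 2) (Fin 2) R) - 1 =
        ((g : Matrix (Fin 2) (Fin 2) R) - 1) * (h : Matrix (Fin 2) (Fin 2) R) +
          ((h : Matrix (Fin 2) (Fin 2) R) - 1) := by
      rw [Matrix.SpecialLinearGroup.coe_mul]; noncomm_ring
    show Dv t _
    rw [e]; exact (Dv.mul_right hg _).add hh
  inv_mem' := by
    intro g hg
    have h1 : ((g⁻¹ : Matrix.SpecialLinearGroup (Fin 2) R) : Matrix (Fin 2) (Fin 2) R) *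
        (g : Matrix (Fin 2) (Fin 2) R) = 1 := by
      rw [← Matrix.SpecialLinearGroup.coe_mul, inv_mul_cancel, Matrix.SpecialLinearGroup.coe_one]
    have e : ((g⁻¹ : Matrix.SpecialLinearGroup (Fin 2) R) : Matrix (Fin 2) (Fin 2) R) - 1 =
        -(((g⁻¹ : Matrix.SpecialLinearGroup (Fin 2) R) : Matrix (Fin 2) (Fin 2) R) *
          ((g : Matrix (Fin 2) (Fin 2) R) - 1)) := by
      rw [mul_sub, h1, mul_one]; abel
    show Dv t _
    rw [e]; exact (Dv.mul_left hg _).neg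

theorem ring_comm_identity {A : Type*} [Ring A] (G H Gi Hi : A) :
    G * H * Gi * Hi - H * G * Gi * Hi =
      ((G - 1) * (H - 1) - (H - 1) * (G - 1)) * (Gi * Hi) := by
  noncomm_ring

theorem comm_Gam_le (t s : R) : ⁅Gam t, Gam s⁆ ≤ Gam (t * s) := by
  rw [Subgroup.commutator_le]
  intro g hg h hh
  have hG : (g : Matrix (Fin 2) (Fin 2) R) *
      ((g⁻¹ : Matrix.SpecialLinearGroup (Fin 2) R) : Matrix (Fin 2) (Fin 2) R) = 1 := by
    rw [← Matrix.SpecialLinearGroup.coe_mul, mul_inv_cancel, Matrix.SpecialLinearGroup.coe_one]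
  have hH : (h : Matrix (Fin 2) (Fin 2) R) *
      ((h⁻¹ : Matrix.SpecialLinearGroup (Fin 2) R) : Matrix (Fin 2) (Fin 2) R) = 1 := by
    rw [← Matrix.SpecialLinearGroup.coe_mul, mul_inv_cancel, Matrix.SpecialLinearGroup.coe_one]
  have e : ((⁅g, h⁆ : Matrix.SpecialLinearGroup (Fin 2) R) : Matrix (Fin 2) (Fin 2) R) - 1 =
      (((g : Matrix (Fin 2) (Fin 2) R) - 1) * ((h : Matrix (Fin 2) (Fin 2) R) - 1) -
        ((h : Matrix (Fin 2) (Fin 2) R) - 1) * ((g : Matrix (Fin 2) (Fin 2) R) - 1)) *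
      (((g⁻¹ : Matrix.SpecialLinearGroup (Fin 2) R) : Matrix (Fin 2) (Fin 2) R) *
        ((h⁻¹ : Matrix.SpecialLinearGroup (Fin 2) R) : Matrix (Fin 2) (Fin 2) R)) := by
    rw [commutatorElement_def, Matrix.SpecialLinearGroup.coe_mul, Matrix.SpecialLinearGroup.coe_mul,
      Matrix.SpecialLinearGroup.coe_mul]
    have e2 : (h : Matrix (Fin 2) (Fin 2) R) * (g : Matrix (Fin 2) (Fin 2) R) *
        ((g⁻¹ : Matrix.SpecialLinearGroup (Fin 2) R) : Matrix (Fin 2) (Fin 2) R) *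
        ((h⁻¹ : Matrix.SpecialLinearGroup (Fin 2) R) : Matrix (Fin 2) (Fin 2) R) = 1 := by
      rw [mul_assoc (h : Matrix (Fin 2) (Fin 2) R), hG, mul_one, hH]
    rw [← ring_comm_identity, e2]
  show Dv (t * s) _
  rw [e]
  refine Dv.mul_right (Dv.sub (Dv.mul hg hh) ?_) _
  rw [mul_comm t s]
  exact Dv.mul hh hg

theorem Gam_anti {t t' : R} (h : t ∣ t') : Gam t' ≤ Gam t := fun _ hg i j => h.trans (hg i j)

theorem Gam_zero : Gam (0 : R) = ⊥ := by
  rw [eq_bot_iff]
  intro g hg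
  rw [Subgroup.mem_bot]
  apply Subtype.ext
  rw [Matrix.SpecialLinearGroup.coe_one]
  ext i j
  have := hg i j
  rw [zero_dvd_iff] at this
  have h2 : (g : Matrix (Fin 2) (Fin 2) R) i j - (1 : Matrix (Fin 2) (Fin 2) R) i j = 0 := this
  exact sub_eq_zero.mp h2

theorem mk_mem_Gam {t a b c d : R} {h : a * d - b * c = 1} (ha : t ∣ a - 1) (hb : t ∣ b)
    (hc : t ∣ c) (hd : t ∣ d - 1) : mk a b c d h ∈ Gam t := by
  intro i j
  fin_cases i <;> fin_cases j
  · simpa [mk] using ha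
  · simpa [mk] using hb
  · simpa [mk] using hc
  · simpa [mk] using hd

theorem comm_Bor_le (t : R) : ⁅Bor t, Bor t⁆ ≤ Uni t := by
  rw [Subgroup.commutator_le]
  intro g hg h hh
  obtain ⟨a, b, c, d, h1, rfl⟩ := exists_eq_mk g
  obtain ⟨a', b', c', d', h2, rfl⟩ := exists_eq_mk h
  have hg' : red t c = 0 := hg
  have hh' : red t c' = 0 := hh
  have h1' := congrArg (red t) h1
  have h2' := congrArg (red t) h2
  simp only [map_sub, map_mul, map_one, hg', hh'] at h1' h2'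
  show red t (⁅mk a b c d h1, mk a' b' c' d' h2⁆ 1 0) = 0 ∧
    red t (⁅mk a b c d h1, mk a' b' c' d' h2⁆ 0 0) = 1
  simp only [commutatorElement_def, mk_mul, mk_inv, mk_apply_10, mk_apply_00, map_add, map_mul,
    map_neg, hg', hh']
  constructor <;> grind

theorem comm_Uni_le (t : R) : ⁅Uni t, Uni t⁆ ≤ Gam t := by
  rw [Subgroup.commutator_le]
  intro g hg h hh
  obtain ⟨a, b, c, d, h1, rfl⟩ := exists_eq_mk g
  obtain ⟨a', b', c', d', h2, rfl⟩ := exists_eq_mk h
  have hg1 : red t c = 0 := hg.1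
  have hg2 : red t a = 1 := hg.2
  have hh1 : red t c' = 0 := hh.1
  have hh2 : red t a' = 1 := hh.2
  have h1' := congrArg (red t) h1
  have h2' := congrArg (red t) h2
  simp only [map_sub, map_mul, map_one, hg1, hg2, hh1, hh2] at h1' h2'
  simp only [commutatorElement_def, mk_mul, mk_inv]
  apply mk_mem_Gam
  all_goals
    rw [← red_eq_zero_iff]
    simp only [map_add, map_mul, map_neg, map_sub, map_one, hg1, hg2, hh1, hh2]
    grind

end Subgroups

section Chain

theorem derivedSeries_map_le {G : Type*} [Group G] (N : ℕ → Subgroup G)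
    (hN : ∀ i, ⁅N i, N i⁆ ≤ N (i + 1)) :
    ∀ i, (derivedSeries ↥(N 0) i).map (N 0).subtype ≤ N i
  | 0 => by
    rw [derivedSeries_zero, ← MonoidHom.range_eq_map, Subgroup.range_subtype]
  | i + 1 => by
    rw [derivedSeries_succ, Subgroup.map_commutator]
    exact (Subgroup.commutator_mono (derivedSeries_map_le N hN i)
      (derivedSeries_map_le N hN i)).trans (hN i)

theorem isSolvable_of_chain {G : Type*} [Group G] (N : ℕ → Subgroup G)
    (hN : ∀ i, ⁅N i, N i⁆ ≤ N (i + 1)) (n : ℕ) (hn : N n = ⊥) : Group.IsSolvable ↥(N 0) := by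
  rw [Group.isSolvable_def]
  refine ⟨n, ?_⟩
  have h := derivedSeries_map_le N hN n
  rw [hn, le_bot_iff] at h
  exact (Subgroup.map_eq_bot_iff_of_injective _ (Subgroup.subtype_injective _)).mp h

end Chain


section ZModFacts

variable (k : ℕ)

theorem isUnit_or_five_dvd (x : ZMod (5 ^ k)) : IsUnit x ∨ (5 : ZMod (5 ^ k)) ∣ x := by
  have : NeZero (5 ^ k) := ⟨by positivity⟩
  by_cases h : 5 ∣ x.val
  · right
    obtain ⟨y, hy⟩ := h
    refine ⟨(y : ZMod (5 ^ k)), ?_⟩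
    have h1 := ZMod.natCast_zmod_val x
    rw [← h1, hy]; push_cast; ring
  · left
    have hc : Nat.Coprime x.val (5 ^ k) :=
      Nat.Coprime.pow_right k ((Nat.Prime.coprime_iff_not_dvd Nat.prime_five).mpr h).symm
    have h1 := (ZMod.isUnit_iff_coprime x.val (5 ^ k)).mpr hc
    rwa [ZMod.natCast_zmod_val] at h1

theorem five_pow_eq_zero : (5 : ZMod (5 ^ k)) ^ k = 0 := by
  have h := ZMod.natCast_self (5 ^ k)
  push_cast at h
  exact h

theorem not_five_dvd_of_isUnit (hk : 1 ≤ k) {x : ZMod (5 ^ k)} (hx : IsUnit x) :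
    ¬ (5 : ZMod (5 ^ k)) ∣ x := by
  intro h
  have h5 : IsUnit (5 : ZMod (5 ^ k)) := isUnit_of_dvd_unit h hx
  have h1 : IsUnit ((5 : ZMod (5 ^ k)) ^ k) := h5.pow k
  rw [five_pow_eq_zero] at h1
  have : Fact (1 < 5 ^ k) := ⟨Nat.one_lt_pow (by omega) (by norm_num)⟩
  exact not_isUnit_zero h1

theorem isUnit_of_five_dvd_sub (hk : 1 ≤ k) {x u : ZMod (5 ^ k)} (hu : IsUnit u)
    (h : (5 : ZMod (5 ^ k)) ∣ x - u) : IsUnit x := by
  rcases isUnit_or_five_dvd k x with hx | hx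
  · exact hx
  · exfalso
    apply not_five_dvd_of_isUnit k hk hu
    have h2 := dvd_sub hx h
    simpa using h2

theorem five_pow_ne_zero {j : ℕ} (hj : j < k) : (5 : ZMod (5 ^ k)) ^ j ≠ 0 := by
  intro h
  have h1 : ((5 ^ j : ℕ) : ZMod (5 ^ k)) = 0 := by push_cast; exact h
  rw [ZMod.natCast_eq_zero_iff] at h1
  have h2 := (Nat.pow_dvd_pow_iff_le_right (by norm_num : 1 < 5)).mp h1
  omega

theorem isUnit_two : IsUnit (2 : ZMod (5 ^ k)) := by
  have h := (ZMod.isUnit_iff_coprime 2 (5 ^ k)).mpr (Nat.Coprime.pow_right k (by norm_num))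
  simpa using h

theorem isUnit_three : IsUnit (3 : ZMod (5 ^ k)) := by
  have h := (ZMod.isUnit_iff_coprime 3 (5 ^ k)).mpr (Nat.Coprime.pow_right k (by norm_num))
  simpa using h

theorem isUnit_four : IsUnit (4 : ZMod (5 ^ k)) := by
  have h := (ZMod.isUnit_iff_coprime 4 (5 ^ k)).mpr (Nat.Coprime.pow_right k (by norm_num))
  simpa using h

end ZModFacts

section Main

variable (k : ℕ)

/-- The invariant propagated along the derived series. -/
def Inv (X : Subgroup (Matrix.SpecialLinearGroup (Fin 2) (ZMod (5 ^ k)))) (e : ℕ) : Prop :=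
  (∀ x : ZMod (5 ^ k), E ((5 : ZMod (5 ^ k)) ^ e * x) ∈ X) ∧
  (∀ x : ZMod (5 ^ k), Et ((5 : ZMod (5 ^ k)) ^ e * x) ∈ X) ∧
  ∃ t v : (ZMod (5 ^ k))ˣ, D t ∈ X ∧ (t : ZMod (5 ^ k)) ^ 2 - 1 = (5 : ZMod (5 ^ k)) ^ e * v

theorem Inv_step (hk : 1 ≤ k) (X : Subgroup (Matrix.SpecialLinearGroup (Fin 2) (ZMod (5 ^ k))))
    (e : ℕ) (he : 1 ≤ e) (h : Inv k X e) : Inv k ⁅X, X⁆ (2 * e) := by
  obtain ⟨hE, hEt, t, v, hD, htv⟩ := h
  set s : ZMod (5 ^ k) := (5 : ZMod (5 ^ k)) ^ e with hs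
  have hs2 : (5 : ZMod (5 ^ k)) ^ (2 * e) = s * s := by rw [two_mul, pow_add]
  have hv : (v : ZMod (5 ^ k)) * ↑v⁻¹ = 1 := Units.mul_inv v
  have hE' : ∀ x : ZMod (5 ^ k), E (s * s * x) ∈ ⁅X, X⁆ := by
    intro x
    have h1 := Subgroup.commutator_mem_commutator hD (hE (↑v⁻¹ * x))
    rw [comm_D_E] at h1
    have h2 : ((t : ZMod (5 ^ k)) ^ 2 - 1) * (s * (↑v⁻¹ * x)) = s * s * x := by
      rw [htv]; grind
    rwa [h2] at h1
  have hEt' : ∀ x : ZMod (5 ^ k), Et (s * s * x) ∈ ⁅X, X⁆ := by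
    intro x
    have h1 := Subgroup.commutator_mem_commutator (X.inv_mem hD) (hEt (↑v⁻¹ * x))
    rw [comm_Dinv_Et] at h1
    have h2 : ((t : ZMod (5 ^ k)) ^ 2 - 1) * (s * (↑v⁻¹ * x)) = s * s * x := by
      rw [htv]; grind
    rwa [h2] at h1
  refine ⟨by rw [hs2]; exact hE', by rw [hs2]; exact hEt', ?_⟩
  -- the new diagonal element
  have h5s : (5 : ZMod (5 ^ k)) ∣ s := by
    rw [hs]; exact dvd_pow_self 5 (by omega)
  have hα : IsUnit (1 + s ^ 2 + s ^ 4) := by
    apply isUnit_of_five_dvd_sub k hk isUnit_one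
    have : 1 + s ^ 2 + s ^ 4 - 1 = s * (s + s ^ 3) := by ring
    rw [this]; exact Dvd.dvd.mul_right h5s _
  have hv' : IsUnit ((1 + s ^ 2) * (2 + s ^ 2 + s ^ 4)) := by
    apply isUnit_of_five_dvd_sub k hk (isUnit_two k)
    have : (1 + s ^ 2) * (2 + s ^ 2 + s ^ 4) - 2 = s * (3 * s + 2 * s ^ 3 + s ^ 5) := by ring
    rw [this]; exact Dvd.dvd.mul_right h5s _
  refine ⟨hα.unit, hv'.unit, ?_, ?_⟩
  · rw [diag_eq s hα.unit (IsUnit.unit_spec hα)]
    have h1 : ⁅E s, Et s⁆ ∈ ⁅X, X⁆ := by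
      apply Subgroup.commutator_mem_commutator
      · have := hE 1; rwa [mul_one] at this
      · have := hEt 1; rwa [mul_one] at this
    have h2 : Et (-(s ^ 3) * ↑hα.unit⁻¹) ∈ ⁅X, X⁆ := by
      have := hEt' (-s * ↑hα.unit⁻¹)
      have e1 : s * s * (-s * ↑hα.unit⁻¹) = -(s ^ 3) * ↑hα.unit⁻¹ := by ring
      rwa [e1] at this
    have h3 : E (s ^ 3 * ↑hα.unit⁻¹) ∈ ⁅X, X⁆ := by
      have := hE' (s * ↑hα.unit⁻¹)
      have e1 : s * s * (s * ↑hα.unit⁻¹) = s ^ 3 * ↑hα.unit⁻¹ := by ring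
      rwa [e1] at this
    exact Subgroup.mul_mem _ (Subgroup.mul_mem _ h2 h1) h3
  · rw [IsUnit.unit_spec, IsUnit.unit_spec, hs2]; ring

theorem Inv_base : Inv k (Bor (5 : ZMod (5 ^ k))) 1 := by
  refine ⟨fun x => ?_, fun x => ?_, (isUnit_four k).unit, (isUnit_three k).unit, ?_, ?_⟩
  · exact mk_mem_Bor.mpr (dvd_zero _)
  · exact mk_mem_Bor.mpr (by rw [pow_one]; exact Dvd.intro _ rfl)
  · exact mk_mem_Bor.mpr (dvd_zero _)
  · rw [IsUnit.unit_spec, IsUnit.unit_spec]; norm_num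

theorem Inv_derived (hk : 1 ≤ k) : ∀ j : ℕ,
    Inv k ((derivedSeries ↥(Bor (5 : ZMod (5 ^ k))) j).map (Bor (5 : ZMod (5 ^ k))).subtype)
      (2 ^ j)
  | 0 => by
    rw [derivedSeries_zero, ← MonoidHom.range_eq_map, Subgroup.range_subtype, pow_zero]
    exact Inv_base k
  | j + 1 => by
    rw [derivedSeries_succ, Subgroup.map_commutator, pow_succ, mul_comm]
    exact Inv_step k hk _ _ Nat.one_le_two_pow (Inv_derived hk j)

theorem derivedSeries_ne_bot (d : ℕ) (hk : 2 ^ d < k) :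
    derivedSeries ↥(Bor (5 : ZMod (5 ^ k))) d ≠ ⊥ := by
  intro h
  have hpos : 0 < 2 ^ d := Nat.pos_of_ne_zero (by positivity)
  have h1 := (Inv_derived k (by omega) d).1 1
  rw [h, Subgroup.map_bot, Subgroup.mem_bot, mul_one] at h1
  have h2 := ((mk_eq_one_iff _ _ _ _ _).mp h1).2.1
  exact five_pow_ne_zero k hk h2

theorem isSolvable_Bor (hk : 1 ≤ k) : Group.IsSolvable ↥(Bor (5 : ZMod (5 ^ k))) := by
  obtain ⟨k', rfl⟩ : ∃ k', k = k' + 1 := ⟨k - 1, by omega⟩
  let N : ℕ → Subgroup (Matrix.SpecialLinearGroup (Fin 2) (ZMod (5 ^ (k' + 1)))) := fun i =>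
    match i with
    | 0 => Bor 5
    | 1 => Uni 5
    | (j + 2) => Gam ((5 : ZMod (5 ^ (k' + 1))) ^ (j + 1))
  have hN : ∀ i, ⁅N i, N i⁆ ≤ N (i + 1) := by
    intro i
    match i with
    | 0 => exact comm_Bor_le 5
    | 1 =>
      have h1 := comm_Uni_le (5 : ZMod (5 ^ (k' + 1)))
      show ⁅Uni (5 : ZMod (5 ^ (k' + 1))), Uni 5⁆ ≤ Gam ((5 : ZMod (5 ^ (k' + 1))) ^ (0 + 1))
      rwa [zero_add, pow_one]
    | (j + 2) =>
      show ⁅Gam ((5 : ZMod (5 ^ (k' + 1))) ^ (j + 1)), Gam ((5 : ZMod (5 ^ (k' + 1))) ^ (j + 1))⁆ ≤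
        Gam ((5 : ZMod (5 ^ (k' + 1))) ^ (j + 1 + 1))
      refine (comm_Gam_le _ _).trans (Gam_anti ?_)
      rw [← pow_add]
      exact pow_dvd_pow _ (by omega)
  have hbot : N (k' + 1 + 1) = ⊥ := by
    show Gam ((5 : ZMod (5 ^ (k' + 1))) ^ (k' + 1)) = ⊥
    rw [five_pow_eq_zero, Gam_zero]
  exact isSolvable_of_chain N hN (k' + 1 + 1) hbot

/-- Every element of `SL₂(ℤ/5^k)` lies in a subgroup containing the elementary and diagonal
matrices and the Weyl element. -/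
theorem mem_of_generators (hk : 1 ≤ k)
    (L : Subgroup (Matrix.SpecialLinearGroup (Fin 2) (ZMod (5 ^ k))))
    (hE : ∀ x, E x ∈ L) (hD : ∀ u, D u ∈ L) (hw : w ∈ L)
    (g : Matrix.SpecialLinearGroup (Fin 2) (ZMod (5 ^ k))) : g ∈ L := by
  have hunit : ∀ (a b c d : ZMod (5 ^ k)) (h : a * d - b * c = 1), IsUnit c →
      mk a b c d h ∈ L := by
    intro a b c d h hc
    rw [bruhat a b c d h hc.unit (IsUnit.unit_spec hc)]
    exact L.mul_mem (L.mul_mem (L.mul_mem (hE _) hw) (hD _)) (hE _)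
  obtain ⟨a, b, c, d, h, rfl⟩ := exists_eq_mk g
  rcases isUnit_or_five_dvd k c with hc | hc
  · exact hunit a b c d h hc
  · have ha : IsUnit a := by
      rcases isUnit_or_five_dvd k a with ha | ha
      · exact ha
      · exfalso
        apply not_five_dvd_of_isUnit k hk isUnit_one
        rw [← h]
        exact dvd_sub (Dvd.dvd.mul_right ha _) (Dvd.dvd.mul_left hc _)
    have h1 : w * mk a b c d h ∈ L := by
      rw [w_mul]; exact hunit _ _ _ _ _ ha
    have h2 : mk a b c d h = w⁻¹ * (w * mk a b c d h) := by group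
    rw [h2]; exact L.mul_mem (L.inv_mem hw) h1

theorem perfect (hk : 1 ≤ k) :
    commutator (Matrix.SpecialLinearGroup (Fin 2) (ZMod (5 ^ k))) = ⊤ := by
  rw [eq_top_iff]
  intro g _
  have h3 : ((isUnit_two k).unit : ZMod (5 ^ k)) ^ 2 - 1 = ((isUnit_three k).unit : ZMod (5 ^ k)) := by
    rw [IsUnit.unit_spec, IsUnit.unit_spec]; norm_num
  have h3' : (((isUnit_three k).unit : (ZMod (5 ^ k))ˣ) : ZMod (5 ^ k)) *
      ↑((isUnit_three k).unit)⁻¹ = 1 := Units.mul_inv _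
  have hE : ∀ x, E x ∈ commutator (Matrix.SpecialLinearGroup (Fin 2) (ZMod (5 ^ k))) := by
    intro x
    have h1 := Subgroup.commutator_mem_commutator
      (Subgroup.mem_top (D (isUnit_two k).unit))
      (Subgroup.mem_top (E (↑((isUnit_three k).unit)⁻¹ * x)))
    rw [comm_D_E, h3, ← mul_assoc, h3', one_mul] at h1
    exact h1
  have hEt : ∀ x, Et x ∈ commutator (Matrix.SpecialLinearGroup (Fin 2) (ZMod (5 ^ k))) := by
    intro x
    have h1 := Subgroup.commutator_mem_commutator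
      (Subgroup.mem_top (D (isUnit_two k).unit)⁻¹)
      (Subgroup.mem_top (Et (↑((isUnit_three k).unit)⁻¹ * x)))
    rw [comm_Dinv_Et, h3, ← mul_assoc, h3', one_mul] at h1
    exact h1
  have hw : w ∈ commutator (Matrix.SpecialLinearGroup (Fin 2) (ZMod (5 ^ k))) := by
    rw [w_eq]
    exact Subgroup.mul_mem _ (Subgroup.mul_mem _ (hE _) (hEt _)) (hE _)
  have hD : ∀ u, D u ∈ commutator (Matrix.SpecialLinearGroup (Fin 2) (ZMod (5 ^ k))) := by
    intro u
    rw [D_eq]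
    exact Subgroup.mul_mem _ (Subgroup.mul_mem _ (Subgroup.mul_mem _ (hE _) (hEt _)) (hE _)) hw
  exact mem_of_generators k hk _ hE hD hw g

theorem isCoatom_Bor (hk : 1 ≤ k) : IsCoatom (Bor (5 : ZMod (5 ^ k))) := by
  have hEB : ∀ x, E x ∈ Bor (5 : ZMod (5 ^ k)) := fun x => mk_mem_Bor.mpr (dvd_zero _)
  have hDB : ∀ u, D u ∈ Bor (5 : ZMod (5 ^ k)) := fun u => mk_mem_Bor.mpr (dvd_zero _)
  refine ⟨?_, fun L hL => ?_⟩
  · intro htop
    have h1 : (w : Matrix.SpecialLinearGroup (Fin 2) (ZMod (5 ^ k))) ∈ Bor (5 : ZMod (5 ^ k)) :=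
      htop ▸ Subgroup.mem_top _
    exact not_five_dvd_of_isUnit k hk isUnit_one (mk_mem_Bor.mp h1)
  · obtain ⟨g₀, hg₀L, hg₀⟩ := SetLike.exists_of_lt hL
    obtain ⟨a, b, c, d, h, rfl⟩ := exists_eq_mk g₀
    have hc : IsUnit c := by
      rcases isUnit_or_five_dvd k c with hc | hc
      · exact hc
      · exact absurd (mk_mem_Bor.mpr hc) hg₀
    have hw : w ∈ L := by
      have h1 := bruhat a b c d h hc.unit (IsUnit.unit_spec hc)
      have h2 : (w : Matrix.SpecialLinearGroup (Fin 2) (ZMod (5 ^ k))) =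
          (E (a * ↑hc.unit⁻¹))⁻¹ * mk a b c d h * (E (d * ↑hc.unit⁻¹))⁻¹ * (D hc.unit)⁻¹ := by
        rw [h1]; group
      rw [h2]
      exact L.mul_mem (L.mul_mem (L.mul_mem (L.inv_mem (hL.le (hEB _))) hg₀L)
        (L.inv_mem (hL.le (hEB _)))) (L.inv_mem (hL.le (hDB _)))
    rw [eq_top_iff]
    intro g _
    exact mem_of_generators k hk L (fun x => hL.le (hEB x)) (fun u => hL.le (hDB u)) hw g

end Main


/-- Finite perfect groups have solvable maximal subgroups of unbounded derived length: for every d there is a finite perfect group G (equal to its commutator subgroup) with a solvable maximal subgroup H whose derived length exceeds d, i.e. the d-th term of the derived series of H is non-trivial. (Take the derived subgroup of a wreath product S ≀ A₅ with S solvable of large derived length, and H the preimage of a maximal subgroup of A₅.) -/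
theorem result (d : ℕ) :
    ∃ (G : Type) (_ : Group G) (_ : Finite G) (H : Subgroup G), commutator G = ⊤ ∧ IsCoatom H ∧ Group.IsSolvable H ∧
      derivedSeries H d ≠ ⊥ := by
  refine ⟨Matrix.SpecialLinearGroup (Fin 2) (ZMod (5 ^ (2 ^ d + 1))), inferInstance,
    Finite.of_injective (fun g => g.1) Subtype.val_injective, Bor 5, ?_, ?_, ?_, ?_⟩
  · exact perfect _ (Nat.le_add_left 1 _)
  · exact isCoatom_Bor _ (Nat.le_add_left 1 _)
  · exact isSolvable_Bor _ (Nat.le_add_left 1 _)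
  · exact derivedSeries_ne_bot _ d (Nat.lt_succ_self _)

end Cfsg.Agent.S5896
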