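import Cfsg.Statements.S5902
import Cfsg.Agent.S5901

set_option autoImplicit false
open Cfsg

namespace Cfsg.Agent.S5902

/-- Having a lattice complement is invariant under conjugation. -/
theorem exists_compl_of_conj {G : Type*} [Group G] (H : Subgroup G) (b : G)
    (h : ∃ C : Subgroup G, H.map (MulAut.conj b).toMonoidHom ⊔ C = ⊤ ∧
      H.map (MulAut.conj b).toMonoidHom ⊓ C = ⊥) :
    ∃ C : Subgroup G, H ⊔ C = ⊤ ∧ H ⊓ C = ⊥ := by
  obtain ⟨C, h1, h2⟩ := h
  let f : Subgroup G ≃o Subgroup G := (MulAut.conj b).mapSubgroup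
  have hf : f H = H.map (MulAut.conj b).toMonoidHom := rfl
  rw [← hf] at h1 h2
  refine ⟨f.symm C, ?_, ?_⟩
  · apply f.injective
    rw [map_sup, OrderIso.apply_symm_apply, h1, map_top]
  · apply f.injective
    rw [map_inf, OrderIso.apply_symm_apply, h2, map_bot]

/-- A complemented subgroup lattice of `X` gives complements inside the interval `[⊥, X]`. -/
theorem interval_compl_of_complementedLattice {G : Type*} [Group G] (X : Subgroup G)
    (hK : ComplementedLattice (Subgroup X)) (Y : Subgroup G) (hY : Y ≤ X) :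
    ∃ C : Subgroup G, ⊥ ≤ C ∧ C ≤ X ∧ Y ⊔ C = X ∧ Y ⊓ C = ⊥ := by
  obtain ⟨C', hC'⟩ := exists_isCompl (Y.subgroupOf X)
  refine ⟨C'.map X.subtype, bot_le, Subgroup.map_subtype_le C', ?_, ?_⟩
  · have h1 : Y = (Y.subgroupOf X).map X.subtype := (Subgroup.map_subgroupOf_eq_of_le hY).symm
    rw [h1, ← Subgroup.map_sup, hC'.sup_eq_top, ← MonoidHom.range_eq_map, Subgroup.range_subtype]
  · have h1 : Y = (Y.subgroupOf X).map X.subtype := (Subgroup.map_subgroupOf_eq_of_le hY).symm
    rw [h1, ← Subgroup.map_inf _ _ _ X.subtype_injective, hC'.inf_eq_bot, Subgroup.map_bot]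

/-- The first half of the statement, in a form reusable elsewhere: if every subgroup `Y ≤ X`
has a complement in the interval `[T, X]`... specialised to `T = ⊥`. -/
theorem exists_compl_of_not_le_normalCore {G : Type*} [Group G] [Finite G] (X M : Subgroup G)
    (hK : ComplementedLattice (Subgroup X))
    (hM : IsCoatom M) (hXM : X ≤ M) (huniq : ∀ M' : Subgroup G, IsCoatom M' → X ≤ M' → M' = M)
    (H : Subgroup G) (hH : ¬ H ≤ M.normalCore) : ∃ C : Subgroup G, H ⊔ C = ⊤ ∧ H ⊓ C = ⊥ := by
  have hX : X ≠ ⊤ := fun h => hM.1 (top_le_iff.mp (h ▸ hXM))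
  obtain ⟨h, hh, hhM⟩ := SetLike.not_le_iff_exists.mp hH
  have h1 : ∃ b : G, b * h * b⁻¹ ∉ M := by
    by_contra hcon
    push Not at hcon
    exact hhM hcon
  obtain ⟨b, hb⟩ := h1
  apply exists_compl_of_conj H b
  apply Cfsg.Agent.S5901.result ⊥ X M bot_le hX
    (fun Y _ hYX => interval_compl_of_complementedLattice X hK Y hYX) hM hXM huniq
  · intro hle
    apply hb
    apply hle
    exact ⟨h, hh, by simp [MulAut.conj_apply]⟩
  · simp


/-- Let G be a finite group, X a subgroup whose own subgroup lattice is complemented, and suppose X lies in exactly one maximal subgroup M of G. Then every subgroup H of G not contained in the normal core of M has a complement in the subgroup lattice of G (some C with H ⊔ C = G and H ⊓ C = 1); in particular the subgroup lattice of G modulo the normal core of M is complemented. -/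
theorem result {G : Type*} [Group G] [Finite G] (X M : Subgroup G)
    (hK : ComplementedLattice (Subgroup X))
    (hM : IsCoatom M) (hXM : X ≤ M) (huniq : ∀ M' : Subgroup G, IsCoatom M' → X ≤ M' → M' = M) :
    (∀ H : Subgroup G, ¬ H ≤ M.normalCore → ∃ C : Subgroup G, H ⊔ C = ⊤ ∧ H ⊓ C = ⊥) ∧
    ComplementedLattice (Subgroup (G ⧸ M.normalCore)) := by
  have hA := exists_compl_of_not_le_normalCore X M hK hM hXM huniq
  refine ⟨hA, ⟨fun Hbar => ?_⟩⟩
  by_cases hbot : Hbar = ⊥
  · exact ⟨⊤, hbot ▸ isCompl_bot_top⟩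
  · let π := QuotientGroup.mk' M.normalCore
    have hπ : Function.Surjective π := QuotientGroup.mk'_surjective _
    have hH : ¬ Hbar.comap π ≤ M.normalCore := by
      intro hle
      apply hbot
      rw [← Subgroup.map_comap_eq_self_of_surjective hπ Hbar, eq_bot_iff]
      calc (Hbar.comap π).map π ≤ (M.normalCore).map π := Subgroup.map_mono hle
        _ = ⊥ := QuotientGroup.map_mk'_self _
    obtain ⟨C, hC1, hC2⟩ := hA (Hbar.comap π) hH
    refine ⟨C.map π, IsCompl.of_eq ?_ ?_⟩
    · rw [eq_bot_iff]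
      rintro x ⟨hx1, ⟨c, hc, rfl⟩⟩
      have hc' : c ∈ Hbar.comap π ⊓ C := ⟨hx1, hc⟩
      rw [hC2, Subgroup.mem_bot] at hc'
      rw [hc', map_one]
      exact Subgroup.one_mem _
    · rw [← Subgroup.map_comap_eq_self_of_surjective hπ Hbar, ← Subgroup.map_sup, hC1,
        Subgroup.map_top_of_surjective π hπ]

end Cfsg.Agent.S5902
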