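import Cfsg.Statements.S5903
import Cfsg.Agent.S5902

set_option autoImplicit false
open Cfsg

namespace Cfsg.Agent.S5903

/-- A complemented subgroup lattice of `X ⧸ N` gives complements inside the interval `[N, X]`. -/
theorem interval_compl_of_quotient {G : Type*} [Group G] (X N : Subgroup G) (hNX : N ≤ X)
    [(N.subgroupOf X).Normal] (hK : ComplementedLattice (Subgroup (X ⧸ N.subgroupOf X)))
    (Y : Subgroup G) (hNY : N ≤ Y) (hYX : Y ≤ X) :
    ∃ C : Subgroup G, N ≤ C ∧ C ≤ X ∧ Y ⊔ C = X ∧ Y ⊓ C = N := by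
  let π := QuotientGroup.mk' (N.subgroupOf X)
  have hπ : Function.Surjective π := QuotientGroup.mk'_surjective _
  have hker : π.ker = N.subgroupOf X := QuotientGroup.ker_mk' _
  obtain ⟨Cbar, hC⟩ := exists_isCompl ((Y.subgroupOf X).map π)
  have hY1 : Y = (Y.subgroupOf X).map X.subtype := (Subgroup.map_subgroupOf_eq_of_le hYX).symm
  have hN1 : N = (N.subgroupOf X).map X.subtype := (Subgroup.map_subgroupOf_eq_of_le hNX).symm
  have hNY' : N.subgroupOf X ≤ Y.subgroupOf X := Subgroup.subgroupOf_mono X hNY  -- comap monotone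
  have hY2 : ((Y.subgroupOf X).map π).comap π = Y.subgroupOf X :=
    Subgroup.comap_map_eq_self (hker.le.trans hNY')
  refine ⟨(Cbar.comap π).map X.subtype, ?_, Subgroup.map_subtype_le _, ?_, ?_⟩
  · calc N = (N.subgroupOf X).map X.subtype := hN1
      _ ≤ (Cbar.comap π).map X.subtype :=
        Subgroup.map_mono (hker.ge.trans (Subgroup.ker_le_comap π Cbar))
  · calc Y ⊔ (Cbar.comap π).map X.subtype
        = (Y.subgroupOf X).map X.subtype ⊔ (Cbar.comap π).map X.subtype := by rw [← hY1]
      _ = ((Y.subgroupOf X) ⊔ Cbar.comap π).map X.subtype := (Subgroup.map_sup _ _ _).symm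
      _ = ((((Y.subgroupOf X).map π).comap π) ⊔ Cbar.comap π).map X.subtype := by rw [hY2]
      _ = (((Y.subgroupOf X).map π ⊔ Cbar).comap π).map X.subtype := by
        rw [Subgroup.comap_sup_eq π _ _ hπ]
      _ = (⊤ : Subgroup X).map X.subtype := by rw [hC.sup_eq_top, Subgroup.comap_top]
      _ = X := by rw [← MonoidHom.range_eq_map, Subgroup.range_subtype]
  · calc Y ⊓ (Cbar.comap π).map X.subtype
        = (Y.subgroupOf X).map X.subtype ⊓ (Cbar.comap π).map X.subtype := by rw [← hY1]
      _ = ((Y.subgroupOf X) ⊓ Cbar.comap π).map X.subtype :=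
        (Subgroup.map_inf _ _ _ X.subtype_injective).symm
      _ = ((((Y.subgroupOf X).map π).comap π) ⊓ Cbar.comap π).map X.subtype := by rw [hY2]
      _ = (((Y.subgroupOf X).map π ⊓ Cbar).comap π).map X.subtype := by
        rw [Subgroup.comap_inf]
      _ = (π.ker).map X.subtype := by rw [hC.inf_eq_bot, MonoidHom.comap_bot]
      _ = (N.subgroupOf X).map X.subtype := by rw [hker]
      _ = N := hN1.symm

/-- Let G be a finite simple group, X a subgroup lying in exactly one maximal subgroup M of G, and N a subgroup of prime order with N ≤ X that is central in M. If the subgroup lattice of X/N is complemented, then the subgroup lattice of G is complemented. -/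
theorem result {G : Type*} [Group G] [Finite G] [IsSimpleGroup G] (X M N : Subgroup G)
    (hM : IsCoatom M) (hXM : X ≤ M) (huniq : ∀ M' : Subgroup G, IsCoatom M' → X ≤ M' → M' = M)
    (hNX : N ≤ X) (hN : (Nat.card N).Prime) (hcen : ∀ n ∈ N, ∀ m ∈ M, m * n = n * m)
    [(N.subgroupOf X).Normal] (hK : ComplementedLattice (Subgroup (X ⧸ N.subgroupOf X))) :
    ComplementedLattice (Subgroup G) := by
  classical
  have hX : X ≠ ⊤ := fun h => hM.1 (top_le_iff.mp (h ▸ hXM))
  have hNbot : N ≠ ⊥ := by
    intro h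
    rw [h, Subgroup.card_bot] at hN
    exact Nat.not_prime_one hN
  have hcore : M.normalCore = ⊥ := by
    rcases IsSimpleGroup.eq_bot_or_eq_top_of_normal M.normalCore inferInstance with h | h
    · exact h
    · exact absurd (top_le_iff.mp (h ▸ M.normalCore_le)) hM.1
  have hint := fun Y hNY hYX => interval_compl_of_quotient X N hNX hK Y hNY hYX
  refine ⟨fun H => ?_⟩
  by_cases hHbot : H = ⊥
  · exact ⟨⊤, hHbot ▸ isCompl_bot_top⟩
  by_cases hHtop : H = ⊤
  · exact ⟨⊥, hHtop ▸ isCompl_top_bot⟩
  suffices hex : ∃ b : G, ¬ H.map (MulAut.conj b).toMonoidHom ≤ M ∧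
      H.map (MulAut.conj b).toMonoidHom ⊓ N = ⊥ by
    obtain ⟨b, hb1, hb2⟩ := hex
    obtain ⟨C, hC1, hC2⟩ := Cfsg.Agent.S5902.exists_compl_of_conj H b
      (Cfsg.Agent.S5901.result N X M hNX hX hint hM hXM huniq _ hb1 hb2)
    exact ⟨C, IsCompl.of_eq hC2 hC1⟩
  by_contra hcon
  push Not at hcon
  -- every conjugate of `H` lies in `M` or contains `N`
  have hdich : ∀ b : G, H.map (MulAut.conj b).toMonoidHom ≤ M ∨
      N ≤ H.map (MulAut.conj b).toMonoidHom := by
    intro b
    by_cases hb : H.map (MulAut.conj b).toMonoidHom ≤ M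
    · exact Or.inl hb
    · right
      have h1 := hcon b hb
      have h2 : Nat.card ↥(H.map (MulAut.conj b).toMonoidHom ⊓ N) ∣ Nat.card N :=
        Subgroup.card_dvd_of_le inf_le_right
      rcases (Nat.dvd_prime hN).mp h2 with h3 | h3
      · exact absurd (Subgroup.card_eq_one.mp h3) h1
      · have h4 : H.map (MulAut.conj b).toMonoidHom ⊓ N = N :=
          Subgroup.eq_of_le_of_card_ge inf_le_right (le_of_eq h3.symm)
        exact h4 ▸ inf_le_left
  let SA : Set G := {x | ∃ b n, n ∈ N ∧ H.map (MulAut.conj b).toMonoidHom ≤ M ∧ x = b⁻¹ * n * b}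
  let SB : Set G := {x | ∃ c n, n ∈ N ∧ N ≤ H.map (MulAut.conj c).toMonoidHom ∧ x = c⁻¹ * n * c}
  have hSBH : SB ⊆ H := by
    rintro x ⟨c, n, hn, hc, rfl⟩
    obtain ⟨h, hh, hhn⟩ := hc hn
    have : c⁻¹ * n * c = h := by
      rw [← hhn]; simp [MulAut.conj_apply, mul_assoc]
    rw [this]; exact hh
  have hcomm : ∀ x ∈ SA, ∀ y ∈ SB, x * y = y * x := by
    rintro x ⟨b, n, hn, hb, rfl⟩ y hy
    have hyH : y ∈ H := hSBH hy
    have h1 : b * y * b⁻¹ ∈ M := hb ⟨y, hyH, by simp [MulAut.conj_apply]⟩
    have h2 := hcen n hn _ h1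
    calc b⁻¹ * n * b * y = b⁻¹ * (n * (b * y * b⁻¹)) * b := by group
      _ = b⁻¹ * ((b * y * b⁻¹) * n) * b := by rw [h2]
      _ = y * (b⁻¹ * n * b) := by group
  have hAB : Subgroup.closure SA ⊔ Subgroup.closure SB = ⊤ := by
    rw [← Subgroup.closure_union, eq_top_iff]
    have h1 : Subgroup.normalClosure (N : Set G) = ⊤ := by
      rcases IsSimpleGroup.eq_bot_or_eq_top_of_normal (Subgroup.normalClosure (N : Set G))
        inferInstance with h | h
      · exact absurd (le_bot_iff.mp (h ▸ Subgroup.le_normalClosure)) hNbot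
      · exact h
    rw [← h1]
    apply Subgroup.closure_mono
    intro x hx
    rw [Group.mem_conjugatesOfSet_iff] at hx
    obtain ⟨n, hn, hconj⟩ := hx
    obtain ⟨c, hc⟩ := isConj_iff.mp hconj
    rcases hdich c⁻¹ with h | h
    · left
      exact ⟨c⁻¹, n, hn, h, by rw [← hc]; simp⟩
    · right
      exact ⟨c⁻¹, n, hn, h, by rw [← hc]; simp⟩
  have hB_le : Subgroup.closure SB ≤ H := (Subgroup.closure_le H).mpr hSBH
  have hnormal : (Subgroup.closure SB).Normal := by
    rw [← Subgroup.normalizer_eq_top_iff, eq_top_iff, ← hAB]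
    refine sup_le ?_ Subgroup.le_normalizer
    refine le_trans ?_ (Subgroup.centralizer_le_normalizer _)
    have h1 : Subgroup.closure SB ≤ Subgroup.centralizer SA := by
      rw [Subgroup.closure_le]
      intro y hy
      rw [SetLike.mem_coe, Subgroup.mem_centralizer_iff]
      intro x hx
      exact hcomm x hx y hy
    rw [Subgroup.closure_le]
    intro x hx
    rw [SetLike.mem_coe, Subgroup.mem_centralizer_iff]
    intro y hy
    have := Subgroup.mem_centralizer_iff.mp (h1 hy) x hx
    exact this.symm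
  rcases IsSimpleGroup.eq_bot_or_eq_top_of_normal (Subgroup.closure SB) hnormal with hB | hB
  · -- then no conjugate of `H` contains `N`, so all conjugates lie in `M`
    have hall : ∀ b : G, H.map (MulAut.conj b).toMonoidHom ≤ M := by
      intro b
      rcases hdich b with h | h
      · exact h
      · exfalso
        apply hNbot
        rw [eq_bot_iff]
        intro n hn
        have h1 : b⁻¹ * n * b ∈ Subgroup.closure SB := Subgroup.subset_closure ⟨b, n, hn, h, rfl⟩
        rw [hB, Subgroup.mem_bot] at h1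
        rw [Subgroup.mem_bot]
        have h2 : n = b * (b⁻¹ * n * b) * b⁻¹ := by group
        rw [h2, h1]; group
    apply hHbot
    rw [eq_bot_iff, ← hcore]
    intro h hh b
    exact hall b ⟨h, hh, by simp [MulAut.conj_apply]⟩
  · exact hHtop (top_le_iff.mp (hB ▸ hB_le))

end Cfsg.Agent.S5903
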