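import Cfsg.Statements.S5904
-- import your own Cfsg.Agent.* helpers here

set_option autoImplicit false
open scoped Pointwise
open Cfsg

namespace Cfsg.Agent.S5904

/-- Let Ω be a finite set with more than two elements and O ⊆ Ω a subset with exactly as many elements as its complement. Then the setwise stabilizer of O in the symmetric group on Ω is not a maximal subgroup (it is properly contained in the stabilizer of the partition {O, Ω ∖ O}, which is proper). -/
theorem result {Ω : Type*} [Fintype Ω] [DecidableEq Ω] (hΩ : 2 < Fintype.card Ω)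
    (O : Set Ω) (hO : Nat.card O = Nat.card ↥Oᶜ) :
    ¬ IsCoatom (MulAction.stabilizer (Equiv.Perm Ω) O) := by
  classical
  intro hco
  let K : Subgroup (Equiv.Perm Ω) :=
    { carrier := {g | g • O = O ∨ g • O = Oᶜ}
      one_mem' := Or.inl (one_smul _ _)
      mul_mem' := by
        rintro g h (hg | hg) (hh | hh)
        · left; rw [mul_smul, hh, hg]
        · right; rw [mul_smul, hh, Set.smul_set_compl, hg]
        · right; rw [mul_smul, hh, hg]
        · left; rw [mul_smul, hh, Set.smul_set_compl, hg, compl_compl]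
      inv_mem' := by
        rintro g (hg | hg)
        · left; rw [inv_smul_eq_iff, hg]
        · right; rw [inv_smul_eq_iff, Set.smul_set_compl, hg, compl_compl] }
  have hmemK : ∀ g : Equiv.Perm Ω, g ∈ K ↔ (g • O = O ∨ g • O = Oᶜ) := fun g => Iff.rfl
  have hSK : MulAction.stabilizer (Equiv.Perm Ω) O ≤ K := fun g hg => Or.inl hg
  -- cardinalities
  have hc1 : O.ncard + Oᶜ.ncard = Fintype.card Ω := by
    rw [Set.ncard_add_ncard_compl, Nat.card_eq_fintype_card]
  have hc2 : O.ncard = Oᶜ.ncard := by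
    rw [← Nat.card_coe_set_eq, ← Nat.card_coe_set_eq]; exact hO
  have hc3 : 1 < O.ncard := by omega
  obtain ⟨x, z, hx, hz, hxz⟩ := (Set.one_lt_ncard_iff (Set.toFinite O)).mp hc3
  have hc4 : 0 < Oᶜ.ncard := by omega
  obtain ⟨y, hy⟩ := (Set.ncard_pos (Set.toFinite _)).mp hc4
  have hyO : y ∉ O := hy
  -- K is proper
  have hKtop : K ≠ ⊤ := by
    intro hK
    have hmem : Equiv.swap x y ∈ K := hK ▸ Subgroup.mem_top _
    rcases (hmemK _).mp hmem with h | h
    · have : y ∈ Equiv.swap x y • O := ⟨x, hx, by simp⟩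
      rw [h] at this
      exact hyO this
    · have : z ∈ Equiv.swap x y • O := by
        refine ⟨z, hz, ?_⟩
        have hzy : z ≠ y := fun h' => hyO (h' ▸ hz)
        simp [Equiv.swap_apply_of_ne_of_ne hxz.symm hzy]
      rw [h] at this
      exact this hz
  -- K is strictly bigger than the stabilizer
  obtain ⟨e⟩ := Finite.card_eq.mp hO
  let g : Equiv.Perm Ω := (Equiv.Set.sumCompl O).symm.trans
    ((Equiv.sumCongr e e.symm).trans ((Equiv.sumComm _ _).trans (Equiv.Set.sumCompl O)))
  have hg1 : ∀ (w : Ω) (hw : w ∈ O), g w = (e ⟨w, hw⟩ : Ω) := by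
    intro w hw
    simp [g, Equiv.Set.sumCompl_symm_apply_of_mem hw]
  have hg2 : ∀ (w : Ω) (hw : w ∈ Oᶜ), g w = (e.symm ⟨w, hw⟩ : Ω) := by
    intro w hw
    have hw' : w ∉ O := hw
    simp [g, Equiv.Set.sumCompl_symm_apply_of_notMem hw']
  have hgO : g • O = Oᶜ := by
    ext w
    constructor
    · rintro ⟨v, hv, rfl⟩
      show g v ∈ Oᶜ
      rw [hg1 v hv]
      exact (e ⟨v, hv⟩).2
    · intro hw
      refine ⟨(e.symm ⟨w, hw⟩ : Ω), (e.symm ⟨w, hw⟩).2, ?_⟩
      show g _ = w
      rw [hg1 _ (e.symm ⟨w, hw⟩).2]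
      simp
  have hgK : g ∈ K := Or.inr hgO
  have hgS : g ∉ MulAction.stabilizer (Equiv.Perm Ω) O := by
    intro h
    rw [MulAction.mem_stabilizer_iff, hgO] at h
    have h' : x ∈ Oᶜ := by rw [h]; exact hx
    exact h' hx
  have hlt : MulAction.stabilizer (Equiv.Perm Ω) O < K :=
    lt_of_le_of_ne hSK (fun h => hgS (h ▸ hgK))
  exact hKtop (hco.2 K hlt)

end Cfsg.Agent.S5904
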