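import Cfsg.Statements.S5908
import Cfsg.Agent.Lib.helper7.PSU32

set_option autoImplicit false
open Cfsg

namespace Cfsg.Agent.S5908

theorem q8_sq_mul : ∀ p q : QuaternionGroup 2, p ^ 2 = 1 → q ^ 2 = 1 → (p * q) ^ 2 = 1 := by
  decide

theorem q8_a_one_sq : (QuaternionGroup.a 1 : QuaternionGroup 2) ^ 2 ≠ 1 := by decide

/-- the subgroup `{1, -1}` of the quaternion group -/
def zsub : Subgroup (QuaternionGroup 2) where
  carrier := {q | q ^ 2 = 1}
  mul_mem' := by
    intro p q hp hq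
    exact q8_sq_mul p q hp hq
  one_mem' := one_pow 2
  inv_mem' := by
    intro q hq
    show q⁻¹ ^ 2 = 1
    rw [inv_pow, show q ^ 2 = 1 from hq, inv_one]

theorem q8_prime (q : QuaternionGroup 2) (p : ℕ) (hp : p.Prime) (h : q ^ p = 1) : q ^ 2 = 1 := by
  have h1 : orderOf q ∣ p := orderOf_dvd_of_pow_eq_one h
  rcases (Nat.dvd_prime hp).1 h1 with h2 | h2
  · rw [orderOf_eq_one_iff] at h2
    rw [h2, one_pow]
  · have h4 : orderOf q ∣ 4 :=
      orderOf_dvd_of_pow_eq_one (Cfsg.Agent.Lib.helper7.PSU32.q8_pow_four q)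
    rw [h2] at h4
    have h5 : p ∣ 2 := hp.dvd_of_dvd_pow (show p ∣ 2 ^ 2 by norm_num; exact h4)
    have h6 : p = 2 := (Nat.prime_dvd_prime_iff_eq hp Nat.prime_two).1 h5
    rw [h6] at h
    exact h

/-- The subgroup lattice of PSU₃(2) (the solvable group of order 72, realised over the field with 4 elements) is not complemented: some subgroup H has no subgroup X with H ⊔ X = ⊤ and H ⊓ X = ⊥. -/
theorem result {F : Type*} [Field F] [Fintype F] (hF : Fintype.card F = 4) :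
    ¬ ComplementedLattice (Subgroup (Cfsg.PSU 3 F 2)) := by
  intro hcl
  obtain ⟨N, hN, hcardN, -, ⟨e⟩⟩ := Cfsg.Agent.Lib.helper7.PSU32.psu32_structure hF
  have hcardQ : Nat.card (Cfsg.PSU 3 F 2 ⧸ N) = 8 := by
    rw [Nat.card_congr e.toEquiv, Nat.card_eq_fintype_card, QuaternionGroup.card]
  have hcard : Nat.card (Cfsg.PSU 3 F 2) = 72 := by
    rw [Subgroup.card_eq_card_quotient_mul_card_subgroup N, hcardQ, hcardN]
  have hfin : Finite (Cfsg.PSU 3 F 2) := Nat.finite_of_card_ne_zero (by rw [hcard]; norm_num)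
  let f : Cfsg.PSU 3 F 2 →* QuaternionGroup 2 := e.toMonoidHom.comp (QuotientGroup.mk' N)
  have hfsurj : Function.Surjective f := by
    intro q
    obtain ⟨g, hg⟩ := QuotientGroup.mk'_surjective N (e.symm q)
    refine ⟨g, ?_⟩
    show e (QuotientGroup.mk' N g) = q
    rw [hg, MulEquiv.apply_symm_apply]
  let K : Subgroup (Cfsg.PSU 3 F 2) := zsub.comap f
  have hKmem : ∀ g : Cfsg.PSU 3 F 2, g ∈ K ↔ f g ^ 2 = 1 := fun g => Iff.rfl
  obtain ⟨X, hX⟩ := hcl.exists_isCompl K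
  have hXbot : X = ⊥ := by
    by_contra hne
    have hc1 : Nat.card X ≠ 1 := by
      intro h
      exact hne (Subgroup.card_eq_one.1 h)
    obtain ⟨p, hp, hpdvd⟩ := Nat.exists_prime_and_dvd hc1
    have : Fact p.Prime := ⟨hp⟩
    obtain ⟨x, hx⟩ := exists_prime_orderOf_dvd_card' p hpdvd
    have hxp : (x : Cfsg.PSU 3 F 2) ^ p = 1 := by
      have h := pow_orderOf_eq_one x
      rw [hx] at h
      have h2 := congrArg (Subtype.val) h
      rw [Subgroup.coe_pow, Subgroup.coe_one] at h2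
      exact h2
    have hxK : (x : Cfsg.PSU 3 F 2) ∈ K := by
      rw [hKmem]
      apply q8_prime _ p hp
      rw [← map_pow, hxp, map_one]
    have hmem : (x : Cfsg.PSU 3 F 2) ∈ K ⊓ X := ⟨hxK, x.2⟩
    rw [hX.inf_eq_bot, Subgroup.mem_bot] at hmem
    have hx1 : x = 1 := Subtype.ext hmem
    rw [hx1, orderOf_one] at hx
    exact hp.one_lt.ne hx
  have hKtop : K = ⊤ := by
    have h := hX.sup_eq_top
    rw [hXbot, sup_bot_eq] at h
    exact h
  obtain ⟨g, hg⟩ := hfsurj (QuaternionGroup.a 1)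
  have hgK : g ∈ K := by
    rw [hKtop]
    exact Subgroup.mem_top g
  rw [hKmem, hg] at hgK
  exact q8_a_one_sq hgK

end Cfsg.Agent.S5908
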