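import Mathlib
import Cfsg.Statements.S5910

set_option autoImplicit false
open Cfsg

namespace Cfsg.Agent.S5910

/-- "Affine" self-maps of `Fin 8 = F_2^3` (addition is bitwise xor). -/
def affF (f : Fin 8 → Fin 8) : Prop := ∀ x y z : Fin 8, f (x ^^^ y ^^^ z) = f x ^^^ f y ^^^ f z

instance decAffF (f : Fin 8 → Fin 8) : Decidable (affF f) := by unfold affF; infer_instance

/-- The sign of a self-map of `Fin 8`, by counting inversions. -/
def sgnF (f : Fin 8 → Fin 8) : ℤˣ := ∏ j, ∏ i ∈ Finset.Iio j, (if f i < f j then 1 else -1)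

/-- A list of values as a function on `Fin 8`. -/
def fn (l : List (Fin 8)) (i : Fin 8) : Fin 8 := l.getD i.val 0

/-- Admissible next value of a permutation preserving the pairs `{2k, 2k+1}`. -/
def ok (l : List (Fin 8)) (v : Fin 8) : Prop :=
  v ∉ l ∧ (l.length % 2 = 1 → v = l.getD (l.length - 1) 0 ^^^ 1)

instance decOk (l : List (Fin 8)) (v : Fin 8) : Decidable (ok l v) := by unfold ok; infer_instance

/-- Exhaustive search over the pairing-preserving permutations. -/
def Search (P : (Fin 8 → Fin 8) → Prop) : ℕ → List (Fin 8) → Prop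
  | 0, l => P (fn l)
  | n + 1, l => ∀ v : Fin 8, ok l v → Search P n (l ++ [v])

instance decSearch (P : (Fin 8 → Fin 8) → Prop) [DecidablePred P] :
    ∀ (n : ℕ) (l : List (Fin 8)), Decidable (Search P n l)
  | 0, l => inferInstanceAs (Decidable (P (fn l)))
  | n + 1, l =>
    haveI : ∀ v, Decidable (Search P n (l ++ [v])) := fun v => decSearch P n (l ++ [v])
    inferInstanceAs (Decidable (∀ v : Fin 8, ok l v → Search P n (l ++ [v])))

/-- Even pairing-preserving maps are affine. -/
def Concl (f : Fin 8 → Fin 8) : Prop := sgnF f = 1 → affF f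

instance decConcl : DecidablePred Concl := fun f => by unfold Concl; infer_instance

set_option maxRecDepth 100000 in
theorem S1 : Search Concl 8 [] := by decide +kernel

theorem fn_take (b : Equiv.Perm (Fin 8)) (k : ℕ) (j : Fin 8) (hj : j.val < k) :
    fn ((List.ofFn ⇑b).take k) j = b j := by
  unfold fn
  have hlen : j.val < ((List.ofFn ⇑b).take k).length := by
    rw [List.length_take, List.length_ofFn]
    exact lt_min hj j.2
  rw [List.getD_eq_getElem _ _ hlen, List.getElem_take, List.getElem_ofFn]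

theorem search_sound (P : (Fin 8 → Fin 8) → Prop) (b : Equiv.Perm (Fin 8))
    (hb : ∀ (i : Fin 8) (hi : i.val % 2 = 1), b i = b ⟨i.val - 1, by omega⟩ ^^^ 1) :
    ∀ (n k : ℕ), k + n = 8 → Search P n ((List.ofFn ⇑b).take k) → P ⇑b := by
  intro n
  induction n with
  | zero =>
    intro k hk h
    have hk8 : k = 8 := by omega
    subst hk8
    have h' : P (fn ((List.ofFn ⇑b).take 8)) := h
    have e : fn ((List.ofFn ⇑b).take 8) = ⇑b := by
      funext j
      exact fn_take b 8 j j.2
    rw [e] at h'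
    exact h'
  | succ n ih =>
    intro k hk h
    have hk8 : k < 8 := by omega
    have hlen : ((List.ofFn ⇑b).take k).length = k := by
      rw [List.length_take, List.length_ofFn]
      exact min_eq_left hk8.le
    have h' : ∀ v : Fin 8, ok ((List.ofFn ⇑b).take k) v →
        Search P n ((List.ofFn ⇑b).take k ++ [v]) := h
    have hstep : (List.ofFn ⇑b).take k ++ [b ⟨k, hk8⟩] = (List.ofFn ⇑b).take (k + 1) := by
      rw [List.take_add_one]
      congr 1
      rw [List.getElem?_ofFn]
      simp [hk8]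
    apply ih (k + 1) (by omega)
    rw [← hstep]
    apply h'
    refine ⟨?_, ?_⟩
    · intro hmem
      obtain ⟨j, hj, hjeq⟩ := List.getElem_of_mem hmem
      rw [hlen] at hj
      rw [List.getElem_take, List.getElem_ofFn] at hjeq
      have := b.injective hjeq
      have : j = k := by simpa using congrArg Fin.val this
      omega
    · intro hodd
      rw [hlen] at hodd ⊢
      have hk1 : k - 1 < k := by omega
      have h1 := fn_take b k ⟨k - 1, by omega⟩ hk1
      unfold fn at h1
      rw [h1]
      exact hb ⟨k, hk8⟩ hodd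

theorem apply_inv (a : Equiv.Perm (Fin 8)) (x : Fin 8) : a (a⁻¹ x) = x := a.apply_symm_apply x

theorem pair_fact : ∀ a b : Fin 8, a.val / 2 = b.val / 2 → a ≠ b → b = a ^^^ 1 := by decide

/-- Brute force: an even permutation of `Fin 8` preserving the pairs `{2k, 2k+1}` is affine. -/
theorem BF (g : Equiv.Perm (Fin 8))
    (hpair : ∀ x y : Fin 8, x.val / 2 = y.val / 2 ↔ (g x).val / 2 = (g y).val / 2)
    (hs : Equiv.Perm.sign g = 1) : affF ⇑g := by
  have h1 : Concl ⇑g := by
    apply search_sound Concl g _ 8 0 (by norm_num) S1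
    intro i hi
    apply pair_fact
    · apply (hpair _ _).mp
      show (i.val - 1) / 2 = i.val / 2
      omega
    · intro h
      have := g.injective h
      have := congrArg Fin.val this
      simp at this
      omega
  apply h1
  rw [← hs]
  exact (Equiv.Perm.sign_eq_prod_prod_Iio g).symm

/-- The affine permutations of `Fin 8`. -/
def KF : Subgroup (Equiv.Perm (Fin 8)) where
  carrier := {g | affF ⇑g}
  mul_mem' := by
    intro a b ha hb x y z
    show a (b (x ^^^ y ^^^ z)) = a (b x) ^^^ a (b y) ^^^ a (b z)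
    rw [hb x y z, ha]
  one_mem' := by
    intro x y z
    rfl
  inv_mem' := by
    intro a ha x y z
    apply a.injective
    have h := ha (a⁻¹ x) (a⁻¹ y) (a⁻¹ z)
    rw [apply_inv, apply_inv, apply_inv] at h
    rw [apply_inv]
    exact h.symm

/-- An even affine permutation not preserving the pairs. -/
def c₀ : Equiv.Perm (Fin 8) := Equiv.swap 1 2 * Equiv.swap 5 6

/-- An even permutation that is not affine. -/
def c₁ : Equiv.Perm (Fin 8) := Equiv.swap 0 1 * Equiv.swap 1 2

theorem c₀_aff : affF ⇑c₀ := by decide +kernel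
theorem c₁_not_aff : ¬ affF ⇑c₁ := by decide +kernel
theorem c₀_zero : c₀ 0 = 0 := by decide
theorem c₀_one : c₀ 1 = 2 := by decide
theorem c₀_sign : Equiv.Perm.sign c₀ = 1 := by
  unfold c₀
  rw [Equiv.Perm.sign_mul, Equiv.Perm.sign_swap (by decide), Equiv.Perm.sign_swap (by decide)]
  rfl
theorem c₁_sign : Equiv.Perm.sign c₁ = 1 := by
  unfold c₁
  rw [Equiv.Perm.sign_mul, Equiv.Perm.sign_swap (by decide), Equiv.Perm.sign_swap (by decide)]
  rfl

/-- Let Ω be a set with 8 elements and f : Ω → Fin 4 a labelling whose four fibres all have size 2 (a partition of the 8 points into 4 pairs). Then the group of even permutations preserving this partition, (S₂ ≀ S₄) ∩ A₈, is not a maximal subgroup of the alternating group A₈ (it lies in a subgroup isomorphic to the affine group AGL₃(2)). -/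
theorem result {Ω : Type*} [Fintype Ω] [DecidableEq Ω] (h8 : Fintype.card Ω = 8)
    (f : Ω → Fin 4) (hf : ∀ i : Fin 4, Nat.card {x : Ω // f x = i} = 2) :
    ¬ IsCoatom ((Subgroup.closure {g : Equiv.Perm Ω | ∀ x y : Ω, f x = f y ↔ f (g x) = f (g y)} ⊓ alternatingGroup Ω).subgroupOf (alternatingGroup Ω)) := by
  classical
  -- coordinates
  let F : ∀ i : Fin 4, {x : Ω // f x = i} ≃ Fin 2 := fun i => Finite.equivFinOfCardEq (hf i)
  let e : Ω ≃ Fin 8 := (Equiv.sigmaFiberEquiv f).symm.trans ((Equiv.sigmaCongrRight F).trans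
    ((Equiv.sigmaEquivProd (Fin 4) (Fin 2)).trans finProdFinEquiv))
  have he : ∀ x, (e x).val / 2 = (f x).val := by
    intro x
    have h1 : (e x).val = (F (f x) ⟨x, rfl⟩).val + 2 * (f x).val := rfl
    rw [h1]
    have := (F (f x) ⟨x, rfl⟩).2
    omega
  have hfe : ∀ x y, f x = f y ↔ (e x).val / 2 = (e y).val / 2 := by
    intro x y
    rw [he, he]
    exact Fin.ext_iff
  -- the pairing-preserving subgroup
  let WS : Subgroup (Equiv.Perm Ω) :=
    { carrier := {g | ∀ x y : Ω, f x = f y ↔ f (g x) = f (g y)}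
      mul_mem' := fun {a b} ha hb x y => (hb x y).trans (ha _ _)
      one_mem' := fun x y => Iff.rfl
      inv_mem' := fun {a} ha x y => by
        have := ha (a⁻¹ x) (a⁻¹ y)
        rw [show a (a⁻¹ x) = x from a.apply_symm_apply x,
          show a (a⁻¹ y) = y from a.apply_symm_apply y] at this
        exact this.symm }
  have hclos : Subgroup.closure {g : Equiv.Perm Ω | ∀ x y : Ω, f x = f y ↔ f (g x) = f (g y)} ≤ WS :=
    (Subgroup.closure_le WS).mpr (fun g hg => hg)
  -- transport
  let φ : Equiv.Perm Ω ≃* Equiv.Perm (Fin 8) := e.permCongrHom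
  have hφ : ∀ (g : Equiv.Perm Ω) (i : Fin 8), φ g i = e (g (e.symm i)) := fun g i => rfl
  have hφs : ∀ (c : Equiv.Perm (Fin 8)) (x : Ω), φ.symm c x = e.symm (c (e x)) := fun c x => rfl
  have hsign : ∀ g : Equiv.Perm Ω, Equiv.Perm.sign (φ g) = Equiv.Perm.sign g := fun g =>
    Equiv.Perm.sign_permCongr e g
  let K : Subgroup (Equiv.Perm Ω) := KF.comap φ.toMonoidHom
  have hK : ∀ g : Equiv.Perm Ω, g ∈ K ↔ affF ⇑(φ g) := fun g => Iff.rfl
  -- even pairing-preserving permutations are affine
  have hWK : ∀ g : Equiv.Perm Ω, g ∈ WS → Equiv.Perm.sign g = 1 → g ∈ K := by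
    intro g hg hs
    rw [hK]
    apply BF
    · intro x y
      rw [hφ, hφ, ← hfe, ← hg]
      rw [hfe]
      simp
    · rw [hsign, hs]
  intro hco
  set A := alternatingGroup Ω with hA
  set H := (Subgroup.closure {g : Equiv.Perm Ω | ∀ x y : Ω, f x = f y ↔ f (g x) = f (g y)} ⊓ A).subgroupOf A
    with hH
  have hk₀A : φ.symm c₀ ∈ A := by
    rw [hA, Equiv.Perm.mem_alternatingGroup, ← hsign, MulEquiv.apply_symm_apply, c₀_sign]
  have ht₀A : φ.symm c₁ ∈ A := by
    rw [hA, Equiv.Perm.mem_alternatingGroup, ← hsign, MulEquiv.apply_symm_apply, c₁_sign]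
  have hlt : H < (K ⊓ A).subgroupOf A := by
    refine lt_of_le_of_ne ?_ ?_
    · intro x hx
      rw [hH, Subgroup.mem_subgroupOf] at hx
      rw [Subgroup.mem_subgroupOf]
      refine ⟨hWK _ (hclos hx.1) ?_, hx.2⟩
      exact Equiv.Perm.mem_alternatingGroup.mp hx.2
    · intro heq
      have h1 : (⟨φ.symm c₀, hk₀A⟩ : A) ∈ (K ⊓ A).subgroupOf A := by
        rw [Subgroup.mem_subgroupOf]
        refine ⟨?_, hk₀A⟩
        show φ.symm c₀ ∈ K
        rw [hK, MulEquiv.apply_symm_apply]
        exact c₀_aff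
      rw [← heq, hH, Subgroup.mem_subgroupOf] at h1
      have h2 := hclos h1.1
      have h3 := (h2 (e.symm 0) (e.symm 1)).mp (by rw [hfe]; simp)
      rw [hfe] at h3
      simp only [hφs, Equiv.apply_symm_apply, c₀_zero, c₀_one] at h3
      revert h3
      decide
  have htop := hco.2 _ hlt
  have h4 : (⟨φ.symm c₁, ht₀A⟩ : A) ∈ (K ⊓ A).subgroupOf A := by
    rw [htop]; trivial
  rw [Subgroup.mem_subgroupOf] at h4
  have h5 : φ.symm c₁ ∈ K := h4.1
  rw [hK, MulEquiv.apply_symm_apply] at h5
  exact c₁_not_aff h5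

end Cfsg.Agent.S5910
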