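import Cfsg.Statements.S5911
import Cfsg.Agent.Lib.helper98.SymAut

set_option autoImplicit false
open Cfsg

namespace Cfsg.Agent.S5911

open Equiv Equiv.Perm Cfsg.Agent.Lib.helper98

theorem eq_of_le_of_index_eq {G : Type*} [Group G] {H K : Subgroup G} (h : H ≤ K)
    (hi : H.index = K.index) (h0 : K.index ≠ 0) : H = K := by
  have h1 := Subgroup.relIndex_mul_index h
  rw [hi] at h1
  have h2 : H.relIndex K = 1 := by
    have h3 : H.relIndex K * K.index = 1 * K.index := by rw [h1, one_mul]
    exact Nat.eq_of_mul_eq_mul_right (Nat.pos_of_ne_zero h0) h3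
  exact le_antisymm h (Subgroup.relIndex_eq_one.mp h2)

theorem eq_one_of_central {Ω : Type*} [Fintype Ω] [DecidableEq Ω] (h3 : 3 ≤ Fintype.card Ω)
    (g : Perm Ω) (hg : ∀ h : Perm Ω, g * h = h * g) : g = 1 := by
  ext a
  by_contra hne
  rw [Perm.one_apply] at hne
  obtain ⟨c, hc⟩ := exists_notMem_of_card_lt ({a, g a} : Finset Ω)
    (lt_of_le_of_lt Finset.card_le_two (by omega))
  simp only [Finset.mem_insert, Finset.mem_singleton, not_or] at hc
  have h1 := congrArg (fun σ : Perm Ω => σ a) (hg (swap (g a) c))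
  simp only [Perm.mul_apply] at h1
  rw [swap_apply_of_ne_of_ne (Ne.symm hne) (Ne.symm hc.1), swap_apply_left] at h1
  exact hc.2 h1.symm

/-- The main case: at least five points. -/
theorem main_case {Ω : Type*} [Fintype Ω] [DecidableEq Ω] (h6 : Fintype.card Ω ≠ 6)
    (h5 : 5 ≤ Fintype.card Ω)
    (H : Subgroup (Equiv.Perm Ω)) (hH : H.index = Fintype.card Ω) :
    ∃ x : Ω, MulAction.stabilizer (Equiv.Perm Ω) x ≤ H := by
  classical
  let _ : Fintype (Perm Ω ⧸ H) := Fintype.ofFinite _
  have hcardΔ : Fintype.card (Perm Ω ⧸ H) = Fintype.card Ω := by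
    rw [← Nat.card_eq_fintype_card]; exact hH
  let ρ : Perm Ω →* Perm (Perm Ω ⧸ H) := MulAction.toPermHom (Perm Ω) (Perm Ω ⧸ H)
  have hpt : ∀ g : Perm Ω, ρ g ((1 : Perm Ω) : Perm Ω ⧸ H) = ((1 : Perm Ω) : Perm Ω ⧸ H) →
      g ∈ H := by
    intro g hg
    simp only [ρ, MulAction.toPermHom_apply, MulAction.toPerm_apply] at hg
    rw [MulAction.Quotient.smul_mk, QuotientGroup.eq] at hg
    simpa using hg
  have hker : ∀ g, g ∈ ρ.ker → g ∈ H := by
    intro g hg
    apply hpt
    rw [MonoidHom.mem_ker.mp hg]; rfl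
  have hinj : Function.Injective ρ := by
    rw [← MonoidHom.ker_eq_bot_iff, eq_bot_iff]
    intro g hg
    rw [Subgroup.mem_bot]
    have hsimple : IsSimpleGroup (alternatingGroup Ω) :=
      alternatingGroup.isSimpleGroup (by rw [Nat.card_eq_fintype_card]; exact h5)
    have hN' : (ρ.ker.subgroupOf (alternatingGroup Ω)).Normal := inferInstance
    rcases hN'.eq_bot_or_eq_top with hb | ht
    · apply eq_one_of_central (by omega)
      intro h
      have h1 : g * h * g⁻¹ * h⁻¹ ∈ ρ.ker := by
        have h2 : h * g⁻¹ * h⁻¹ ∈ ρ.ker :=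
          (MonoidHom.normal_ker ρ).conj_mem _ (ρ.ker.inv_mem hg) h
        have h3 := ρ.ker.mul_mem hg h2
        simpa [mul_assoc] using h3
      have h2 : g * h * g⁻¹ * h⁻¹ ∈ alternatingGroup Ω := by
        rw [Equiv.Perm.mem_alternatingGroup, Perm.sign_mul, Perm.sign_mul, Perm.sign_mul,
          Perm.sign_inv, Perm.sign_inv, mul_assoc (sign g * sign h), mul_mul_mul_comm,
          Int.units_mul_self, Int.units_mul_self, one_mul]
      have h3 : (⟨_, h2⟩ : alternatingGroup Ω) ∈ ρ.ker.subgroupOf (alternatingGroup Ω) :=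
        Subgroup.mem_subgroupOf.mpr h1
      rw [hb, Subgroup.mem_bot] at h3
      have h4 : g * h * g⁻¹ * h⁻¹ = 1 := congrArg Subtype.val h3
      calc g * h = (g * h * g⁻¹ * h⁻¹) * (h * g) := by group
        _ = h * g := by rw [h4, one_mul]
    · exfalso
      have hle : alternatingGroup Ω ≤ H := by
        intro a ha
        have h1 : (⟨a, ha⟩ : alternatingGroup Ω) ∈ ρ.ker.subgroupOf (alternatingGroup Ω) := by
          rw [ht]; trivial
        exact hker a (Subgroup.mem_subgroupOf.mp h1)
      have hnt : Nontrivial Ω := Fintype.one_lt_card_iff_nontrivial.mp (by omega)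
      have hdvd : H.index ∣ 2 := by
        have h1 := Subgroup.index_dvd_of_le hle
        rwa [alternatingGroup.index_eq_two] at h1
      have h2 := Nat.le_of_dvd (by norm_num) hdvd
      omega
  have hbij : Function.Bijective ρ := by
    refine hinj.bijective_of_nat_card_le ?_
    rw [Nat.card_perm, Nat.card_perm, Nat.card_eq_fintype_card, Nat.card_eq_fintype_card, hcardΔ]
  have hswap : ∀ σ : Perm Ω, σ.IsSwap → (ρ σ).IsSwap := fun σ hσ =>
    isSwap_map_of_mulEquiv hcardΔ.symm h6 (MulEquiv.ofBijective ρ hbij) hσ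
  obtain ⟨x, hx⟩ := exists_stabilizer_le_of_monoidHom (by omega) ρ hinj hswap
    ((1 : Perm Ω) : Perm Ω ⧸ H)
  exact ⟨x, fun g hg => hpt g (hx g (MulAction.mem_stabilizer_iff.mp hg))⟩

/-- The small cases: at most four points. -/
theorem small_case {Ω : Type*} [Fintype Ω] [DecidableEq Ω] (h4 : Fintype.card Ω < 5)
    (H : Subgroup (Equiv.Perm Ω)) (hH : H.index = Fintype.card Ω) :
    ∃ x : Ω, H ≤ MulAction.stabilizer (Equiv.Perm Ω) x := by
  have hpos : Fintype.card Ω ≠ 0 := by rw [← hH]; exact Subgroup.index_ne_zero_of_finite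
  have hcard : Nat.card H * Fintype.card Ω = (Fintype.card Ω).factorial := by
    rw [← hH, Subgroup.card_mul_index, Nat.card_perm, Nat.card_eq_fintype_card, hH]
  rcases Nat.lt_or_ge (Fintype.card Ω) 3 with h3 | h3
  · have hne : Nonempty Ω := Fintype.card_pos_iff.mp (by omega)
    obtain ⟨x⟩ := hne
    refine ⟨x, ?_⟩
    have h1 : Nat.card H = 1 := by
      have h12 : Fintype.card Ω = 1 ∨ Fintype.card Ω = 2 := by omega
      rcases h12 with h | h
      · rw [h] at hcard
        have e1 : (1 : ℕ).factorial = 1 := by decide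
        omega
      · rw [h] at hcard
        have e1 : (2 : ℕ).factorial = 2 := by decide
        omega
    rw [Subgroup.eq_bot_of_card_eq H h1]; exact bot_le
  · obtain ⟨p, hp⟩ : ∃ p, Fintype.card Ω = p + 1 := ⟨Fintype.card Ω - 1, by omega⟩
    have hp23 : p = 2 ∨ p = 3 := by omega
    have hprime : p.Prime := by rcases hp23 with rfl | rfl <;> norm_num
    have hfact : Fact p.Prime := ⟨hprime⟩
    have hcardH : Nat.card H = p.factorial := by
      rw [hp, Nat.factorial_succ] at hcard
      have h1 : (p + 1) * Nat.card H = (p + 1) * p.factorial := by rw [mul_comm]; exact hcard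
      exact Nat.eq_of_mul_eq_mul_left (by omega) h1
    have hdvd : p ∣ Nat.card H := by rw [hcardH]; exact Nat.dvd_factorial hprime.pos le_rfl
    obtain ⟨c', hc'⟩ := exists_prime_orderOf_dvd_card' p hdvd
    have hc : orderOf (c' : Perm Ω) = p := by rw [Subgroup.orderOf_coe]; exact hc'
    obtain ⟨k, hk⟩ := cycleType_prime_order (σ := (c' : Perm Ω)) (by rw [hc]; exact hprime)
    rw [hc] at hk
    have hle := sum_cycleType_le (c' : Perm Ω)
    rw [hk, Multiset.sum_replicate, smul_eq_mul, hp] at hle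
    have hk0 : k = 0 := by
      by_contra hk0
      have h1 : 2 * p ≤ (k + 1) * p := Nat.mul_le_mul_right p (by omega)
      have h2 : 2 ≤ p := hprime.two_le
      omega
    have hsupp : (c' : Perm Ω).support.card = p := by
      rw [← sum_cycleType, hk, hk0]; simp
    have hfix : ∃ x, ∀ y, (c' : Perm Ω) y = y ↔ y = x := by
      have h1 : ((c' : Perm Ω).support)ᶜ.card = 1 := by
        rw [Finset.card_compl, hsupp, hp]; omega
      obtain ⟨x, hx⟩ := Finset.card_eq_one.mp h1
      refine ⟨x, fun y => ?_⟩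
      have h2 : y ∈ ((c' : Perm Ω).support)ᶜ ↔ y ∈ ({x} : Finset Ω) := by rw [hx]
      simpa [Finset.mem_compl, mem_support] using h2
    obtain ⟨x, hx⟩ := hfix
    refine ⟨x, ?_⟩
    have hZn : (Subgroup.zpowers c').Normal := by
      have h1 : Nat.card (Subgroup.zpowers c') = p := by rw [Nat.card_zpowers, hc']
      have h2 := Subgroup.card_mul_index (Subgroup.zpowers c')
      rw [h1, hcardH] at h2
      rcases hp23 with rfl | rfl
      · have e1 : (2 : ℕ).factorial = 2 := by decide
        have h3 : (Subgroup.zpowers c').index = 1 := by omega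
        rw [Subgroup.index_eq_one.mp h3]; infer_instance
      · have e1 : (3 : ℕ).factorial = 6 := by decide
        have h3 : (Subgroup.zpowers c').index = 2 := by omega
        exact Subgroup.normal_of_index_eq_two h3
    intro h hh
    rw [MulAction.mem_stabilizer_iff]
    have h1 := hZn.conj_mem c' (Subgroup.mem_zpowers c') ⟨h⁻¹, H.inv_mem hh⟩
    obtain ⟨i, hi⟩ := Subgroup.mem_zpowers_iff.mp h1
    have h2 : ((c' : Perm Ω)) ^ i = h⁻¹ * (c' : Perm Ω) * h := by
      have h5 := congrArg (Subtype.val) hi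
      simpa using h5
    have h3 : ((c' : Perm Ω) ^ i) x = x :=
      zpow_apply_eq_self_of_apply_eq_self ((hx x).mpr rfl) i
    rw [h2] at h3
    have h4 : (c' : Perm Ω) (h x) = h x := by
      have h5 := congrArg h h3
      simpa using h5
    exact (hx (h x)).mp h4

/-- Let Ω be a finite set whose size n is not 6. Then every subgroup of the symmetric group on Ω of index n is the stabilizer of a point. -/
theorem result {Ω : Type*} [Fintype Ω] [DecidableEq Ω] (h6 : Fintype.card Ω ≠ 6)
    (H : Subgroup (Equiv.Perm Ω)) (hH : H.index = Fintype.card Ω) :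
    ∃ x : Ω, H = MulAction.stabilizer (Equiv.Perm Ω) x := by
  have hidx : ∀ x : Ω, (MulAction.stabilizer (Equiv.Perm Ω) x).index = Fintype.card Ω := by
    intro x
    rw [MulAction.index_stabilizer_of_transitive, Nat.card_eq_fintype_card]
  have hpos : Fintype.card Ω ≠ 0 := by
    rw [← hH]; exact Subgroup.index_ne_zero_of_finite
  rcases Nat.lt_or_ge (Fintype.card Ω) 5 with hlt | hge
  · obtain ⟨x, hx⟩ := small_case hlt H hH
    exact ⟨x, eq_of_le_of_index_eq hx (hH.trans (hidx x).symm) (by rw [hidx x]; exact hpos)⟩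
  · obtain ⟨x, hx⟩ := main_case h6 hge H hH
    exact ⟨x, (eq_of_le_of_index_eq hx ((hidx x).trans hH.symm) (hH ▸ hpos)).symm⟩

end Cfsg.Agent.S5911
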