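import Cfsg.Statements.S5912
import Cfsg.Agent.Lib.helper98.Sym6

set_option autoImplicit false
open Cfsg

namespace Cfsg.Agent.S5912

/-- The symmetric group on a 6-element set Ω has exactly two conjugacy classes of subgroups of index 6: there are two non-conjugate subgroups of index 6 (a point stabilizer and a transitive subgroup isomorphic to S₅), and every subgroup of index 6 is conjugate to one of them. -/
theorem result {Ω : Type*} [Fintype Ω] [DecidableEq Ω] (h6 : Fintype.card Ω = 6) :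
    ∃ H₁ H₂ : Subgroup (Equiv.Perm Ω), H₁.index = 6 ∧ H₂.index = 6 ∧
      (¬ ∃ g : Equiv.Perm Ω, Subgroup.map (MulAut.conj g).toMonoidHom H₁ = H₂) ∧
      ∀ H : Subgroup (Equiv.Perm Ω), H.index = 6 →
        ∃ g : Equiv.Perm Ω, Subgroup.map (MulAut.conj g).toMonoidHom H₁ = H ∨ Subgroup.map (MulAut.conj g).toMonoidHom H₂ = H := by
  obtain ⟨H₂, hH₂, hmove, -⟩ := Cfsg.Agent.Lib.helper98.exists_index_six_no_fixed h6
  have hne : Nonempty Ω := Fintype.card_pos_iff.mp (by omega)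
  obtain ⟨x₀⟩ := hne
  have hstab : ∀ x : Ω, (MulAction.stabilizer (Equiv.Perm Ω) x).index = 6 := by
    intro x; rw [MulAction.index_stabilizer_of_transitive, Nat.card_eq_fintype_card, h6]
  have hconj : ∀ (g : Equiv.Perm Ω) (x : Ω), Subgroup.map (MulAut.conj g).toMonoidHom
      (MulAction.stabilizer (Equiv.Perm Ω) x) = MulAction.stabilizer (Equiv.Perm Ω) (g x) := by
    intro g x
    exact (MulAction.stabilizer_smul_eq_stabilizer_map_conj g x).symm
  have hH₂E : ∀ σ : Equiv.Perm Ω, σ.IsSwap → σ ∉ H₂ := by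
    rcases Cfsg.Agent.Lib.helper98.index_six_dichotomy h6 H₂ hH₂ with ⟨x, hx⟩ | h
    · exfalso
      obtain ⟨h, hh, hhx⟩ := hmove x
      rw [hx] at hh
      exact hhx (MulAction.mem_stabilizer_iff.mp hh)
    · exact h
  refine ⟨MulAction.stabilizer (Equiv.Perm Ω) x₀, H₂, hstab x₀, hH₂, ?_, ?_⟩
  · rintro ⟨g, hg⟩
    rw [hconj] at hg
    obtain ⟨h, hh, hhx⟩ := hmove (g x₀)
    rw [← hg] at hh
    exact hhx (MulAction.mem_stabilizer_iff.mp hh)
  · intro H hH
    rcases Cfsg.Agent.Lib.helper98.index_six_dichotomy h6 H hH with ⟨x, hx⟩ | h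
    · refine ⟨Equiv.swap x₀ x, Or.inl ?_⟩
      rw [hconj, Equiv.swap_apply_left, hx]
    · obtain ⟨a, ha⟩ := Cfsg.Agent.Lib.helper98.conj_of_no_swaps h6 H₂ H hH₂ hH hH₂E h
      exact ⟨a, Or.inr ha.symm⟩

end Cfsg.Agent.S5912
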