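import Cfsg.Statements.S5943
import Cfsg.Agent.Lib.helper98.SubfieldSL2b
import Cfsg.Agent.S0805

set_option autoImplicit false
open Cfsg

namespace Cfsg.Agent.S5943

/-- Let K and F be finite fields of characteristic 2 with #K = q > 2 and #F = q^r for a prime r. Then PSL_2(F) has a maximal subgroup isomorphic to PSL_2(K) (which equals PGL_2(K) in characteristic 2). -/
theorem result {F K : Type*} [Field F] [Fintype F] [Field K] [Fintype K] (q r : ℕ) (hK : Fintype.card K = q) (hF : Fintype.card F = q ^ r) (hq : Even q) (hq2 : q ≠ 2) (hr : r.Prime) : ∃ H : Subgroup (Matrix.ProjectiveSpecialLinearGroup (Fin 2) F), IsCoatom H ∧ Nonempty (H ≃* Matrix.ProjectiveSpecialLinearGroup (Fin 2) K) := by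
  have hq1 : 1 < q := by rw [← hK]; exact Fintype.one_lt_card
  obtain ⟨φ⟩ := Cfsg.Agent.S0805.exists_ringHom (F := F) (K := K) r (by rw [hK, hF])
  have hlt : Fintype.card K < Fintype.card F := by
    rw [hK, hF]
    calc q = q ^ 1 := (pow_one q).symm
      _ < q ^ r := Nat.pow_lt_pow_right hq1 hr.one_lt
  refine ⟨(Matrix.SpecialLinearGroup.map φ).range.map
    (QuotientGroup.mk' (Subgroup.center (Matrix.SpecialLinearGroup (Fin 2) F))), ?_,
    Cfsg.Agent.Lib.helper98.psl_range_equiv φ⟩
  apply Cfsg.Agent.Lib.helper98.isCoatom_map_mk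
  · exact Cfsg.Agent.Lib.helper98.center_le_range φ
  · exact Cfsg.Agent.Lib.helper98.range_ne_top φ hlt
  · intro H hS
    exact Cfsg.Agent.Lib.helper98.subfield_max_even φ q r hK hF hq hq2 hr H hS

end Cfsg.Agent.S5943
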