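import Cfsg.Statements.S5944
-- import your own Cfsg.Agent.* helpers here

set_option autoImplicit false
open Cfsg

namespace Cfsg.Agent.S5944

/-- For n ≠ 4, every proper subgroup of the symmetric group S_n other than the alternating group A_n has index at least n. -/
theorem result (n : ℕ) (hn : n ≠ 4) (H : Subgroup (Equiv.Perm (Fin n))) (hH : H ≠ ⊤) (hA : H ≠ alternatingGroup (Fin n)) : n ≤ H.index := by
  by_contra hlt
  push Not at hlt
  have h0 : H.index ≠ 0 := Subgroup.index_ne_zero_of_finite
  have h1 : H.index ≠ 1 := fun h => hH (Subgroup.index_eq_one.mp h)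
  have h2 : H.index ≠ 2 := fun h => hA (Equiv.Perm.eq_alternatingGroup_of_index_eq_two h)
  have hn5 : 5 ≤ n := by omega
  have : Nontrivial (Fin n) := Fin.nontrivial_iff_two_le.mpr (by omega)
  let φ : Equiv.Perm (Fin n) →* Equiv.Perm (Equiv.Perm (Fin n) ⧸ H) :=
    MulAction.toPermHom (Equiv.Perm (Fin n)) (Equiv.Perm (Fin n) ⧸ H)
  let ψ : alternatingGroup (Fin n) →* Equiv.Perm (Equiv.Perm (Fin n) ⧸ H) :=
    φ.comp (alternatingGroup (Fin n)).subtype
  have hsimple : IsSimpleGroup (alternatingGroup (Fin n)) :=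
    alternatingGroup.isSimpleGroup (by simpa using hn5)
  rcases IsSimpleGroup.eq_bot_or_eq_top_of_normal ψ.ker (MonoidHom.normal_ker ψ) with hker | hker
  · -- injective: compare cardinalities
    have hinj : Function.Injective ψ := (MonoidHom.ker_eq_bot_iff ψ).mp hker
    have hc1 : Nat.card (alternatingGroup (Fin n)) ≤ Nat.card (Equiv.Perm (Equiv.Perm (Fin n) ⧸ H)) :=
      Nat.card_le_card_of_injective ψ hinj
    have hc2 : Nat.card (Equiv.Perm (Equiv.Perm (Fin n) ⧸ H)) = (H.index).factorial := by
      rw [Nat.card_perm]; rfl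
    have hc3 : 2 * Nat.card (alternatingGroup (Fin n)) = n.factorial := by
      rw [two_mul_nat_card_alternatingGroup, Nat.card_perm, Nat.card_fin]
    have hc4 : (H.index).factorial ≤ (n - 1).factorial := Nat.factorial_le (by omega)
    have hc5 : n.factorial = n * (n - 1).factorial := by
      obtain ⟨m, rfl⟩ : ∃ m, n = m + 1 := ⟨n - 1, by omega⟩
      simp [Nat.factorial_succ]
    have hc6 : 0 < (n - 1).factorial := Nat.factorial_pos _
    have hc7 : n * (n - 1).factorial ≤ 2 * (n - 1).factorial := by
      rw [← hc5, ← hc3]; omega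
    have hc8 : n ≤ 2 := Nat.le_of_mul_le_mul_right hc7 hc6
    omega
  · -- trivial action: A_n ≤ H
    have hle : alternatingGroup (Fin n) ≤ H := by
      intro a ha
      have hmem : (⟨a, ha⟩ : alternatingGroup (Fin n)) ∈ ψ.ker := by rw [hker]; trivial
      rw [MonoidHom.mem_ker] at hmem
      have h3 := congrArg (fun σ : Equiv.Perm (Equiv.Perm (Fin n) ⧸ H) =>
        σ ((1 : Equiv.Perm (Fin n)) : Equiv.Perm (Fin n) ⧸ H)) hmem
      simp only [ψ, φ, MonoidHom.comp_apply, Subgroup.coe_subtype, MulAction.toPermHom_apply,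
        MulAction.toPerm_apply, Equiv.Perm.coe_one, id_eq] at h3
      rw [MulAction.Quotient.smul_mk, QuotientGroup.eq] at h3
      simpa using h3
    have hdvd : H.index ∣ 2 := by
      have := Subgroup.index_dvd_of_le hle
      rwa [alternatingGroup.index_eq_two] at this
    have : H.index ≤ 2 := Nat.le_of_dvd (by norm_num) hdvd
    omega

end Cfsg.Agent.S5944
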