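import Cfsg.Statements.S5947
import Cfsg.Agent.Lib.helper77.SingerConj
import Cfsg.Agent.Lib.helper77.Cyclo
import Cfsg.Agent.S2904

set_option autoImplicit false
open Cfsg

namespace Cfsg.Agent.S5947

/-- If `r` divides `q ^ n - 1` but no `q ^ k - 1` with `0 < k < n`, then `q` has order `n`
modulo `r`. -/
theorem orderOf_eq_of_primitive {r q n : ℕ} (hq : 2 ≤ q) (hn : 0 < n) (hdvd : r ∣ q ^ n - 1)
    (hprim : ∀ k : ℕ, 0 < k → k < n → ¬ r ∣ q ^ k - 1) : orderOf (q : ZMod r) = n := by
  have h1 : (q : ZMod r) ^ n = 1 := Cfsg.Agent.Lib.helper77.pow_eq_one_of_dvd hq hdvd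
  have ho : orderOf (q : ZMod r) ∣ n := orderOf_dvd_of_pow_eq_one h1
  have ho0 : 0 < orderOf (q : ZMod r) := Nat.pos_of_dvd_of_pos ho hn
  by_contra hne
  have hlt : orderOf (q : ZMod r) < n := lt_of_le_of_ne (Nat.le_of_dvd hn ho) hne
  exact hprim _ ho0 hlt (Cfsg.Agent.Lib.helper77.dvd_of_pow_eq_one hq (pow_orderOf_eq_one _))

/-- A prime power `q` with `q + 1` a power of `2` is a prime. -/
theorem prime_of_add_one_eq_two_pow {q m : ℕ} (hq : IsPrimePow q) (hm : q + 1 = 2 ^ m) :
    q.Prime := by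
  obtain ⟨p, k, hp, hk, rfl⟩ := (isPrimePow_nat_iff q).mp hq
  rcases Nat.lt_or_ge k 2 with hk2 | hk2
  · have hk1 : k = 1 := by omega
    subst hk1
    simpa using hp
  · exfalso
    have hp2 : p ≠ 2 := by
      rintro rfl
      have h1 : 2 ∣ 2 ^ k := dvd_pow_self 2 (by omega)
      have hm0 : m ≠ 0 := by
        rintro rfl
        have h3 : 1 ≤ 2 ^ k := Nat.one_le_two_pow
        simp at hm
      have h2 : 2 ∣ 2 ^ m := dvd_pow_self 2 hm0
      omega
    have hodd : ¬ 2 ∣ p := fun h => hp2 ((Nat.prime_dvd_prime_iff_eq Nat.prime_two hp).mp h).symm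
    obtain ⟨s, hs, hsdvd, hsprim⟩ := Cfsg.Agent.S2904.result p (2 * k) hp.one_lt (by omega)
      (fun h => hp2 h.1) (fun h => by omega)
    have hfac : p ^ (2 * k) - 1 = (p ^ k + 1) * (p ^ k - 1) := by
      have h := Nat.pow_two_sub_pow_two (p ^ k) 1
      rw [← pow_mul, mul_comm k 2] at h
      simpa using h
    rw [hfac] at hsdvd
    rcases (Nat.Prime.dvd_mul hs).mp hsdvd with h | h
    · rw [hm] at h
      have hs2 : s = 2 := (Nat.prime_dvd_prime_iff_eq hs Nat.prime_two).mp (hs.dvd_of_dvd_pow h)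
      subst hs2
      apply hsprim 1 (by omega) (by omega)
      rw [pow_one]
      have hp1 := hp.two_le
      omega
    · exact hsprim k (by omega) (by omega) h

/-- Let F ⊆ K be finite fields with |F| = q and [K : F] = n ≥ 2, regard K as an n-dimensional F-vector space, and let M ≤ GL_F(K) be the Singer group of multiplications by non-zero elements of K (cyclic of order q^n − 1). Assume (n, q) ≠ (6, 2), and that it is not the case that n = 2 with q a prime such that q + 1 is a power of 2. Then every abelian subgroup of GL_F(K) of order q^n − 1 is conjugate to M. -/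
theorem result {F K : Type*} [Field F] [Fintype F] [Field K] [Fintype K] [Algebra F K] (n : ℕ) (hn : 2 ≤ n) (hdim : Module.finrank F K = n)
    (hex1 : ¬ (n = 6 ∧ Fintype.card F = 2))
    (hex2 : ¬ (n = 2 ∧ (Fintype.card F).Prime ∧ ∃ a : ℕ, Fintype.card F + 1 = 2 ^ a))
    (U : Subgroup (Module.End F K)ˣ) (hU : IsMulCommutative U) (hcard : Nat.card U = Fintype.card K - 1) :
    ∃ g : (Module.End F K)ˣ, U.map (MulAut.conj g).toMonoidHom = (Units.map ((Algebra.lmul F K : K →ₐ[F] Module.End F K) : K →* Module.End F K)).range := by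
  classical
  have hq2 : 2 ≤ Fintype.card F := Fintype.one_lt_card
  have hKcard : Fintype.card K = Fintype.card F ^ n := by
    rw [Module.card_eq_pow_finrank (K := F) (V := K), hdim]
  have h6 : ¬ (Fintype.card F = 2 ∧ n = 6) := fun h => hex1 ⟨h.2, h.1⟩
  have h2 : ¬ (n = 2 ∧ ∃ m : ℕ, Fintype.card F + 1 = 2 ^ m) := by
    rintro ⟨hn2, m, hm⟩
    exact hex2 ⟨hn2, prime_of_add_one_eq_two_pow (Fintype.isPrimePow_card_of_field) hm, m, hm⟩
  obtain ⟨r, hr, hrdvd, hprim⟩ :=
    Cfsg.Agent.S2904.result (Fintype.card F) n (by omega) (by omega) h6 h2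
  have hfact : Fact r.Prime := ⟨hr⟩
  have hrU : r ∣ Nat.card U := by
    rw [hcard, hKcard]
    exact hrdvd
  have hfinEnd : Finite (Module.End F K) := Module.finite_of_finite F
  obtain ⟨x, hxo⟩ := exists_prime_orderOf_dvd_card' r hrU
  have hxo' : orderOf (x : (Module.End F K)ˣ) = r := by
    rw [Subgroup.orderOf_coe]
    exact hxo
  have hx : ((x : (Module.End F K)ˣ) : Module.End F K) ^ r = 1 := by
    rw [← Units.val_pow_eq_pow_val, ← hxo', pow_orderOf_eq_one]
    rfl
  have hx1 : ((x : (Module.End F K)ˣ) : Module.End F K) ≠ 1 := by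
    intro h
    have h1 : (x : (Module.End F K)ˣ) = 1 := Units.ext h
    rw [h1, orderOf_one] at hxo'
    exact hr.one_lt.ne hxo'
  have hord : orderOf ((Fintype.card F : ℕ) : ZMod r) = Module.finrank F K := by
    rw [hdim]
    exact orderOf_eq_of_primitive hq2 (by omega) hrdvd hprim
  obtain ⟨g, hg⟩ := Cfsg.Agent.Lib.helper77.exists_linearEquiv_conj hr hx hx1 hord
  refine ⟨LinearMap.GeneralLinearGroup.ofLinearEquiv g, ?_⟩
  have hle : U.map (MulAut.conj (LinearMap.GeneralLinearGroup.ofLinearEquiv g)).toMonoidHom ≤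
      (Units.map ((Algebra.lmul F K : K →ₐ[F] Module.End F K) : K →* Module.End F K)).range := by
    rintro _ ⟨u, hu, rfl⟩
    have hcomm : u ∈ Subgroup.centralizer
        ({(x : (Module.End F K)ˣ)} : Set (Module.End F K)ˣ) := by
      rw [Subgroup.mem_centralizer_iff]
      intro h hh
      rw [Set.mem_singleton_iff] at hh
      subst hh
      have h3 := isMulCommutative_iff.mp hU x ⟨u, hu⟩
      exact congrArg Subtype.val h3
    have huE := Cfsg.Agent.Lib.helper77.val_mem_adjoin_of_mem_centralizer hr hx hx1 hord hcomm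
    obtain ⟨k, hk0, hk⟩ := hg _ huE
    have hu0 : (u : Module.End F K) ≠ 0 := u.ne_zero
    refine ⟨Units.mk0 k (hk0 hu0), ?_⟩
    apply Units.ext
    apply LinearMap.ext
    intro w
    have h4 := hk w
    simp only [MulEquiv.toMonoidHom_eq_coe, MonoidHom.coe_coe, MulAut.conj_apply, Units.val_mul,
      Module.End.mul_apply, Units.coe_map, Units.val_mk0]
    exact h4.symm
  apply Subgroup.eq_of_le_of_card_ge hle
  rw [Subgroup.card_map_of_injective (MulAut.conj _).injective, hcard]
  have h5 : Nat.card ((Units.map ((Algebra.lmul F K : K →ₐ[F] Module.End F K) :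
      K →* Module.End F K)).range) ≤ Nat.card Kˣ :=
    Nat.card_le_card_of_surjective _ (MonoidHom.rangeRestrict_surjective _)
  rw [Nat.card_units, Nat.card_eq_fintype_card (α := K)] at h5
  exact h5

end Cfsg.Agent.S5947
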