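import Cfsg.Statements.S5952
-- import your own Cfsg.Agent.* helpers here

set_option autoImplicit false
open Cfsg

namespace Cfsg.Agent.S5952

open Module

section Aux

variable {F V : Type*} [Field F] [AddCommGroup V] [Module F V]

/-- Subspaces of every dimension up to `finrank E` exist inside `E`. -/
theorem exists_le_finrank_eq [FiniteDimensional F V] (E : Submodule F V) (n : ℕ)
    (hn : n ≤ finrank F E) : ∃ W : Submodule F V, W ≤ E ∧ finrank F W = n := by
  let b := Module.finBasis F E
  let v : Fin n → V := fun i => (b (Fin.castLE hn i) : V)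
  have hli : LinearIndependent F v := by
    have h1 : LinearIndependent F (fun i : Fin n => b (Fin.castLE hn i)) :=
      b.linearIndependent.comp _ (Fin.castLE_injective hn)
    exact h1.map' E.subtype (Submodule.ker_subtype E)
  refine ⟨Submodule.span F (Set.range v), ?_, ?_⟩
  · rw [Submodule.span_le]
    rintro _ ⟨i, rfl⟩
    exact (b (Fin.castLE hn i)).2
  · rw [finrank_span_eq_card hli, Fintype.card_fin]

/-- A supremum of invariant subspaces is invariant. -/
theorem inv_biSup (f : V →ₗ[F] V) {ι : Type*} (U : ι → Submodule F V)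
    (hU : ∀ j, ∀ x ∈ U j, f x ∈ U j) (S : Set ι) :
    ∀ x ∈ ⨆ i ∈ S, U i, f x ∈ ⨆ i ∈ S, U i := by
  intro x hx
  have h1 : (⨆ i ∈ S, U i).map f ≤ ⨆ i ∈ S, U i := by
    simp only [Submodule.map_iSup]
    exact iSup₂_mono fun i _ => Submodule.map_le_iff_le_comap.mpr (fun y hy => hU i y hy)
  exact h1 (Submodule.mem_map_of_mem hx)

/-- The dimension of a sum of independent subspaces of dimension `a`. -/
theorem finrank_biSup [FiniteDimensional F V] {ι : Type*} (U : ι → Submodule F V) (a : ℕ)
    (hUdim : ∀ j, finrank F (U j) = a) (hind : iSupIndep U) (S : Finset ι) :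
    finrank F ↥(⨆ i ∈ (S : Set ι), U i) = S.card * a := by
  classical
  induction S using Finset.induction_on with
  | empty => simp
  | insert j S hj ih =>
    have hdisj : Disjoint (U j) (⨆ i ∈ (S : Set ι), U i) :=
      hind.disjoint_biSup (by simpa using hj)
    rw [Finset.coe_insert, iSup_insert, Finset.card_insert_of_notMem hj]
    have e := Submodule.finrank_sup_add_finrank_inf_eq (U j) (⨆ i ∈ (S : Set ι), U i)
    rw [hdisj.eq_bot, finrank_bot, add_zero, hUdim, ih] at e
    rw [e]; ring

/-- An invariant subspace of a sum of independent irreducible invariant subspaces of dimension `a`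
has dimension divisible by `a`. -/
theorem dvd_finrank_of_le_biSup [FiniteDimensional F V] (f : V →ₗ[F] V) {ι : Type*}
    (U : ι → Submodule F V) (a : ℕ)
    (hUinv : ∀ j, ∀ x ∈ U j, f x ∈ U j) (hUdim : ∀ j, finrank F (U j) = a)
    (hUirr : ∀ j, ∀ W : Submodule F V, W ≤ U j → (∀ x ∈ W, f x ∈ W) → W = ⊥ ∨ W = U j)
    (hind : iSupIndep U) (S : Finset ι) :
    ∀ N : Submodule F V, N ≤ ⨆ i ∈ (S : Set ι), U i → (∀ x ∈ N, f x ∈ N) →
      a ∣ finrank F N := by
  classical
  induction S using Finset.induction_on with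
  | empty =>
    intro N hN _
    have hN' : N = ⊥ := by
      rw [eq_bot_iff]; simpa using hN
    rw [hN', finrank_bot]
    exact dvd_zero a
  | insert j S hj ih =>
    intro N hN hNinv
    rw [Finset.coe_insert, iSup_insert] at hN
    set Q := ⨆ i ∈ (S : Set ι), U i with hQ
    have hQinv : ∀ x ∈ Q, f x ∈ Q := inv_biSup f U hUinv _
    have hdisj : Disjoint (U j) Q := hind.disjoint_biSup (by simpa using hj)
    have h1 : a ∣ finrank F ↥(N ⊓ Q) :=
      ih (N ⊓ Q) inf_le_right (fun x hx => ⟨hNinv x hx.1, hQinv x hx.2⟩)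
    set T := (N ⊔ Q) ⊓ U j with hT
    have hNQinv : ∀ x ∈ N ⊔ Q, f x ∈ N ⊔ Q := by
      intro x hx
      obtain ⟨n, hn, q, hq, rfl⟩ := Submodule.mem_sup.mp hx
      rw [map_add]
      exact Submodule.add_mem_sup (hNinv n hn) (hQinv q hq)
    have hTinv : ∀ x ∈ T, f x ∈ T := fun x hx => ⟨hNQinv x hx.1, hUinv j x hx.2⟩
    have hNQ : N ⊔ Q = T ⊔ Q := by
      have h2 : (Q ⊔ U j) ⊓ (N ⊔ Q) = Q ⊔ U j ⊓ (N ⊔ Q) := sup_inf_assoc_of_le (U j) le_sup_right
      have h3 : (Q ⊔ U j) ⊓ (N ⊔ Q) = N ⊔ Q := by
        apply inf_eq_right.mpr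
        rw [sup_comm Q]
        exact sup_le hN le_sup_right
      rw [h3] at h2
      rw [h2, hT, sup_comm, inf_comm]
    have hTQ : T ⊓ Q = ⊥ := by
      rw [eq_bot_iff]
      exact (inf_le_inf_right Q inf_le_right).trans hdisj.le_bot
    have e1 := Submodule.finrank_sup_add_finrank_inf_eq N Q
    have e2 := Submodule.finrank_sup_add_finrank_inf_eq T Q
    rw [hTQ, finrank_bot, add_zero] at e2
    rw [hNQ, e2] at e1
    have e3 : finrank F N = finrank F ↥(N ⊓ Q) + finrank F T := by omega
    rw [e3]
    rcases hUirr j T inf_le_right hTinv with h | h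
    · rw [h, finrank_bot, add_zero]; exact h1
    · rw [h, hUdim]; exact Dvd.dvd.add h1 (dvd_refl a)

end Aux


/-- Which dimensions of invariant subspaces a semisimple linear map has. Let `V` be a finite-dimensional vector space over a field `F` and `f` an invertible semisimple linear map of `V`. Suppose `V` is the internal direct sum of the fixed space `C_V(f)` (the eigenspace for 1) and subspaces `U_1, …, U_s`, each `f`-invariant of dimension `a ≥ 1` on which `f` acts irreducibly (no `f`-invariant subspaces other than 0 and `U_j`). Let `0 < m < dim V` and `ℓ = m mod a`. Then `f` leaves some `m`-dimensional subspace invariant if and only if `dim C_V(f) ≥ m`, or `a ≤ m` and `dim C_V(f) ≥ ℓ`. -/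
theorem result {F V : Type*} [Field F] [AddCommGroup V] [Module F V]
    [FiniteDimensional F V] (f : V →ₗ[F] V) (hf : Function.Bijective f) (hss : Module.End.IsSemisimple f)
    {s a : ℕ} (ha : 1 ≤ a) (U : Fin s → Submodule F V)
    (hUinv : ∀ j, (U j).map f ≤ U j) (hUdim : ∀ j, Module.finrank F ↥(U j) = a)
    (hUirr : ∀ j, ∀ W : Submodule F V, W ≤ U j → W.map f ≤ W → W = ⊥ ∨ W = U j)
    (hdec : DirectSum.IsInternal (fun o : Option (Fin s) => o.elim (Module.End.eigenspace f 1) U))
    (m : ℕ) (hm : 0 < m) (hmV : m < Module.finrank F V) :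
    (∃ W : Submodule F V, Module.finrank F ↥W = m ∧ W.map f ≤ W) ↔
    (m ≤ Module.finrank F ↥(Module.End.eigenspace f 1) ∨
      (a ≤ m ∧ m % a ≤ Module.finrank F ↥(Module.End.eigenspace f 1))) := by
  classical
  set E := Module.End.eigenspace f 1 with hE
  set A : Option (Fin s) → Submodule F V := fun o => o.elim E U with hA
  have hind : iSupIndep A := hdec.submodule_iSupIndep
  have htop : iSup A = ⊤ := hdec.submodule_iSup_eq_top
  have hindU : iSupIndep U := hind.comp (Option.some_injective _)
  set P := ⨆ j, U j with hP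
  have hPuniv : P = ⨆ j ∈ ((Finset.univ : Finset (Fin s)) : Set (Fin s)), U j := by simp [hP]
  have hEP : Disjoint E P :=
    (hind none).mono_right (iSup_le fun j => le_iSup₂_of_le (some j) (by simp) le_rfl)
  have hEPtop : E ⊔ P = ⊤ := by
    rw [eq_top_iff, ← htop]
    refine iSup_le fun o => ?_
    cases o with
    | none => exact le_sup_left
    | some j => exact (le_iSup U j).trans le_sup_right
  have hUinv' : ∀ j, ∀ x ∈ U j, f x ∈ U j := fun j x hx => hUinv j (Submodule.mem_map_of_mem hx)
  have hUirr' : ∀ j, ∀ W : Submodule F V, W ≤ U j → (∀ x ∈ W, f x ∈ W) → W = ⊥ ∨ W = U j :=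
    fun j W hW hinv => hUirr j W hW (Submodule.map_le_iff_le_comap.mpr hinv)
  have hEfix : ∀ x ∈ E, f x = x := fun x hx => by
    simpa using (Module.End.mem_eigenspace_iff.mp hx)
  have hEmem : ∀ x, f x = x → x ∈ E := fun x hx =>
    Module.End.mem_eigenspace_iff.mpr (by simpa using hx)
  have hPinv : ∀ x ∈ P, f x ∈ P := by
    rw [hPuniv]; exact inv_biSup f U hUinv' _
  have hfrP : finrank F P = s * a := by
    rw [hPuniv, finrank_biSup U a hUdim hindU, Finset.card_univ, Fintype.card_fin]
  have hfrV : finrank F V = finrank F E + s * a := by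
    have e := Submodule.finrank_sup_add_finrank_inf_eq E P
    rw [hEPtop, hEP.eq_bot, finrank_bot, add_zero, finrank_top, hfrP] at e
    exact e
  constructor
  · rintro ⟨W, hWdim, hWinv⟩
    have hWinv' : ∀ x ∈ W, f x ∈ W := fun x hx => hWinv (Submodule.mem_map_of_mem hx)
    have hdecomp : W ≤ (W ⊓ E) ⊔ (W ⊓ P) := by
      intro w hw
      have hw' : w ∈ E ⊔ P := hEPtop ▸ Submodule.mem_top
      obtain ⟨e, he, u, hu, rfl⟩ := Submodule.mem_sup.mp hw'
      have hNinv : ∀ x ∈ W ⊓ P, (f - 1) x ∈ W ⊓ P := fun x hx =>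
        (W ⊓ P).sub_mem ⟨hWinv' x hx.1, hPinv x hx.2⟩ hx
      let g : ↥(W ⊓ P) →ₗ[F] ↥(W ⊓ P) := (f - 1).restrict hNinv
      have hginj : Function.Injective g := by
        rw [← LinearMap.ker_eq_bot, LinearMap.ker_eq_bot']
        rintro ⟨x, hx⟩ hgx
        have h1 : f x - x = 0 := congrArg Subtype.val hgx
        have hxE : x ∈ E := hEmem x (sub_eq_zero.mp h1)
        have h2 : x ∈ E ⊓ P := ⟨hxE, hx.2⟩
        rw [hEP.eq_bot, Submodule.mem_bot] at h2
        exact Subtype.ext h2
      have hgsurj : Function.Surjective g := LinearMap.injective_iff_surjective.mp hginj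
      have h1 : (f - 1) u ∈ W ⊓ P := by
        refine ⟨?_, P.sub_mem (hPinv u hu) hu⟩
        have h2 : (f - 1) u = f (e + u) - (e + u) := by
          simp only [LinearMap.sub_apply, Module.End.one_apply, map_add, hEfix e he]
          abel
        rw [h2]; exact W.sub_mem (hWinv' _ hw) hw
      obtain ⟨⟨u', hu'⟩, hgu'⟩ := hgsurj ⟨(f - 1) u, h1⟩
      have h2 : f u' - u' = f u - u := congrArg Subtype.val hgu'
      have h3 : u - u' ∈ E := by
        apply hEmem
        rw [map_sub]
        have : f u - f u' = (f u - u) - (f u' - u') + (u - u') := by abel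
        rw [this, h2]; abel
      have h4 : u - u' ∈ E ⊓ P := ⟨h3, P.sub_mem hu hu'.2⟩
      rw [hEP.eq_bot, Submodule.mem_bot] at h4
      have h5 : u = u' := sub_eq_zero.mp h4
      have huW : u ∈ W := h5 ▸ hu'.1
      have heW : e ∈ W := by
        have := W.sub_mem hw huW
        simpa using this
      exact Submodule.add_mem_sup ⟨heW, he⟩ ⟨huW, hu⟩
    have hWeq : W = (W ⊓ E) ⊔ (W ⊓ P) := le_antisymm hdecomp (sup_le inf_le_left inf_le_left)
    have hfr : finrank F W = finrank F ↥(W ⊓ E) + finrank F ↥(W ⊓ P) := by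
      have e := Submodule.finrank_sup_add_finrank_inf_eq (W ⊓ E) (W ⊓ P)
      have hbot : (W ⊓ E) ⊓ (W ⊓ P) = ⊥ :=
        eq_bot_iff.mpr ((inf_le_inf inf_le_right inf_le_right).trans hEP.le_bot)
      rw [hbot, finrank_bot, add_zero, ← hWeq] at e
      exact e
    have hc1 : finrank F ↥(W ⊓ E) ≤ finrank F E := Submodule.finrank_mono inf_le_right
    have hdvd : a ∣ finrank F ↥(W ⊓ P) :=
      dvd_finrank_of_le_biSup f U a hUinv' hUdim hUirr' hindU Finset.univ (W ⊓ P)
        (by rw [← hPuniv]; exact inf_le_right) (fun x hx => ⟨hWinv' x hx.1, hPinv x hx.2⟩)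
    obtain ⟨t, ht⟩ := hdvd
    rw [ht, hWdim] at hfr
    rcases Nat.eq_zero_or_pos t with h0 | hpos
    · left
      rw [h0, mul_zero, add_zero] at hfr
      omega
    · right
      have h6 : a ≤ a * t := Nat.le_mul_of_pos_right a hpos
      refine ⟨by omega, ?_⟩
      rw [hfr, Nat.add_mul_mod_self_left]
      exact (Nat.mod_le _ _).trans hc1
  · have hinvE : ∀ W : Submodule F V, W ≤ E → ∀ x ∈ W, f x ∈ W := fun W hW x hx => by
      rw [hEfix x (hW hx)]; exact hx
    rintro (h | ⟨h1, h2⟩)
    · obtain ⟨W, hWE, hWdim⟩ := exists_le_finrank_eq E m h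
      exact ⟨W, hWdim, Submodule.map_le_iff_le_comap.mpr (hinvE W hWE)⟩
    · set k := min (m / a) s with hk
      have hks : k ≤ s := min_le_right _ _
      have hka : k * a ≤ m :=
        (Nat.mul_le_mul_right a (min_le_left _ _)).trans (Nat.div_mul_le_self m a)
      have hc' : m - k * a ≤ finrank F E := by
        rcases le_total (m / a) s with h | h
        · have hk' : k = m / a := min_eq_left h
          have h3 : m % a = m - (m / a) * a := by
            rw [Nat.mod_eq_sub_div_mul]
          rw [hk', ← h3]; exact h2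
        · have hk' : k = s := min_eq_right h
          rw [hk']
          omega
      obtain ⟨S, -, hScard⟩ := Finset.exists_subset_card_eq
        (s := (Finset.univ : Finset (Fin s))) (n := k) (by simpa using hks)
      obtain ⟨E', hE'E, hE'dim⟩ := exists_le_finrank_eq E (m - k * a) hc'
      set Q := ⨆ j ∈ (S : Set (Fin s)), U j with hQ
      have hQP : Q ≤ P := iSup₂_le fun j _ => le_iSup U j
      have hQinv : ∀ x ∈ Q, f x ∈ Q := inv_biSup f U hUinv' _
      refine ⟨E' ⊔ Q, ?_, ?_⟩
      · have e := Submodule.finrank_sup_add_finrank_inf_eq E' Q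
        have hbot : E' ⊓ Q = ⊥ := eq_bot_iff.mpr ((inf_le_inf hE'E hQP).trans hEP.le_bot)
        rw [hbot, finrank_bot, add_zero, hE'dim, finrank_biSup U a hUdim hindU, hScard] at e
        rw [e]; omega
      · apply Submodule.map_le_iff_le_comap.mpr
        intro x hx
        obtain ⟨e, he, q, hq, rfl⟩ := Submodule.mem_sup.mp hx
        show f (e + q) ∈ E' ⊔ Q
        rw [map_add]
        exact Submodule.add_mem_sup (hinvE E' hE'E e he) (hQinv q hq)

end Cfsg.Agent.S5952
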