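import Cfsg.Statements.S5953
import Cfsg.Agent.Lib.helper63.SuTI11

set_option autoImplicit false
open scoped MatrixGroups
open Cfsg

namespace Cfsg.Agent.S5953

/-- Elements of prime order of PSU_n(q) with no fixed totally isotropic `m`-space. Here `T = PSU_n(q)` (`n ≥ 3`, `(n, q) ≠ (3, 2)`), realised through the matrices of determinant 1 over the field `F` with `q²` elements preserving the Hermitian form `h(u, v) = Σ u_i v_i^q`; an element of `T` of prime order `r` is such a matrix `x` with `x^r` scalar and `x` not scalar. For `r ≠ p` let `i` be the multiplicative order of `q` modulo `r`, `b = i/2` for `i` even and `b = i` for `i` odd, `c = i, i/2, 2i` according as `i ≡ 0, 2 (mod 4)` or `i` odd, and write `k = n mod c`, `ℓ = m mod b`, `ℓ' = m mod c`, `n' = ⌊n/b⌋`, `m' = ⌊m/b⌋`, `s = (r−1)/b`; `(a)_r` is the `r`-part of `a`. Let `1 ≤ m ≤ n/2` and let `r` be a prime dividing the number of totally isotropic `m`-spaces. Then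 every element of `T` of order `r` fixes a totally isotropic `m`-space if and only if either (i) `r = 2`, `p ≠ 2`, and (`m < n/2` or `(q+1)_2 ≤ (n)_2`); or (ii) `r ≠ p`, `r > 2`, `b ≤ m`, `k ≥ 2ℓ`, and either `i ≢ 2 (mod 4)`, or `i ≡ 2 (mod 4)`, `n' − 2m' ≥ s` and (`i > 2`, or `i = 2` and (`r ∣ m` or `(q+1)_r ≥ (n)_r`)). -/
theorem result {F : Type*} [Field F] [Fintype F] {p : ℕ} [Fact p.Prime] [CharP F p] {q : ℕ} (hq : Fintype.card F = q ^ 2)
    (n m : ℕ) (hn : 3 ≤ n) (hT : (n, q) ≠ (3, 2)) (hm : 1 ≤ m) (hmn : 2 * m ≤ n)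
    (r : ℕ) [Fact r.Prime]
    (hrΩ : r ∣ Nat.card {W : Submodule F (Fin n → F) // Module.finrank F ↥W = m ∧ (∀ u ∈ W, ∀ v ∈ W, Cfsg.hermForm n F q u v = 0)})
    (i b c : ℕ) (hi : i = orderOf (q : ZMod r)) (hb : b = if Even i then i / 2 else i)
    (hc : c = if i % 4 = 0 then i else if i % 4 = 2 then i / 2 else 2 * i) :
    (∀ x : Matrix.SpecialLinearGroup (Fin n) F, x ∈ Cfsg.SU n F q →
      (∃ z : F, ((x ^ r : Matrix.SpecialLinearGroup (Fin n) F) : Matrix (Fin n) (Fin n) F) = z • (1 : Matrix (Fin n) (Fin n) F)) →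
      (∀ z : F, (x : Matrix (Fin n) (Fin n) F) ≠ z • (1 : Matrix (Fin n) (Fin n) F)) →
      ∃ W : Submodule F (Fin n → F), Module.finrank F ↥W = m ∧ (∀ u ∈ W, ∀ v ∈ W, Cfsg.hermForm n F q u v = 0) ∧
        W.map (Matrix.toLin' (x : Matrix (Fin n) (Fin n) F)) ≤ W) ↔
    ((r = 2 ∧ p ≠ 2 ∧ (2 * m < n ∨ padicValNat 2 (q + 1) ≤ padicValNat 2 n)) ∨
     (r ≠ p ∧ 2 < r ∧ b ≤ m ∧ 2 * (m % b) ≤ n % c ∧
       (i % 4 ≠ 2 ∨ (i % 4 = 2 ∧ (r - 1) / b + 2 * (m / b) ≤ n / b ∧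
         (2 < i ∨ (i = 2 ∧ (r ∣ m ∨ padicValNat r n ≤ padicValNat r (q + 1)))))))) := by
  classical
  have hp : p.Prime := Fact.out
  have hr : r.Prime := Fact.out
  obtain ⟨σ, hσ, hne, hσ2⟩ := Cfsg.Agent.Lib.helper17.exists_frob' hq
  obtain ⟨f, -, hcard⟩ := FiniteField.card F p
  obtain ⟨a, ha⟩ : ∃ a, q = p ^ a := by
    have h1 : q ∣ p ^ (f : ℕ) := by
      rw [← hcard, hq]
      exact dvd_pow_self q (by norm_num)
    obtain ⟨a, -, ha⟩ := (Nat.dvd_prime_pow hp).mp h1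
    exact ⟨a, ha⟩
  have hσ' : ∀ x, σ x = x ^ (p ^ a) := by
    intro x
    rw [hσ, ha]
  have hrp : r ≠ p := by
    intro h
    subst h
    exact Cfsg.Agent.Lib.helper63.SuTI.not_dvd_card_uti hq σ hσ n m hmn _ hrΩ
  by_cases hr2 : r = 2
  · subst hr2
    have hp2 : p ≠ 2 := Ne.symm hrp
    rw [Cfsg.Agent.Lib.helper63.SuTI.su_two_case p hq hp2 σ a hσ hσ' hne hσ2 n m hm hmn]
    constructor
    · intro h; exact Or.inl ⟨rfl, hp2, h⟩
    · rintro (⟨-, -, h⟩ | ⟨-, h, -⟩)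
      · exact h
      · omega
  · have hr2' : 2 < r := lt_of_le_of_ne hr.two_le (Ne.symm hr2)
    obtain ⟨hipos, hbo, h42, h4n, hi2, hce⟩ :=
      Cfsg.Agent.Lib.helper63.SuTI.su_arith p hrp hq hr2 σ a ha hσ' i b c hi hb hc
    obtain ⟨e, he1, he2, he3, he4⟩ :=
      Cfsg.Agent.Lib.helper63.SuTI.exists_pow_of_dvd_card_uti hq σ hσ n m hmn r hrΩ
    have hce' : c ∣ e := hce e he4
    constructor
    · intro H
      right
      refine ⟨hrp, hr2', ?_⟩
      by_cases hi2' : i = 2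
      · have hrq : r ∣ q + 1 := hi2.mpr hi2'
        have hb1 : b = 1 := by rw [hb, hi2']; simp
        have hc1 : c = 1 := by rw [hc, hi2']; simp
        obtain ⟨hfix, -⟩ := h42 (by rw [hi2'])
        have hA := Cfsg.Agent.Lib.helper63.SuTI.i2_cond_a p hrp hq σ a hσ hσ' hσ2 n m hm hmn hr2
          (by rw [← hbo, hb1]) hfix H
        have hB := Cfsg.Agent.Lib.helper63.SuTI.i2_cond_b p hrp hq σ hσ n m (by omega) hr2 hrq H
        refine ⟨by rw [hb1]; exact hm, by rw [hb1, hc1, Nat.mod_one, Nat.mod_one], Or.inr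
          ⟨by rw [hi2'], by rw [hb1, Nat.div_one, Nat.div_one, Nat.div_one]; exact hA,
            Or.inr ⟨hi2', hB⟩⟩⟩
      · have hrq : ¬ r ∣ q + 1 := fun h => hi2' (hi2.mp h)
        by_cases h4 : i % 4 = 2
        · obtain ⟨hfix, hcb⟩ := h42 h4
          have hb2 : 2 ≤ b := by
            rw [hb, if_pos (by rw [Nat.even_iff]; omega)]; omega
          obtain ⟨g1, g2, g3⟩ := Cfsg.Agent.Lib.helper63.SuTI.cond_of_su_ti p hrp hq σ a hσ hσ'
            hσ2 n m hm hrq b c hbo (Or.inl ⟨hfix, hcb, hb2⟩) ⟨e, he1, he2, hce', he3⟩ H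
          refine ⟨g1, g2, Or.inr ⟨h4, ?_, Or.inl (by omega)⟩⟩
          rcases g3 with g3 | g3
          · exfalso
            obtain ⟨P, hP⟩ := Cfsg.Agent.Lib.helper63.SuTI.exists_mem_cycFactors (F := F) p hrp
            exact g3 P hP (hfix P hP)
          · exact g3
        · obtain ⟨hfree, hcb⟩ := h4n h4
          obtain ⟨g1, g2, -⟩ := Cfsg.Agent.Lib.helper63.SuTI.cond_of_su_ti p hrp hq σ a hσ hσ'
            hσ2 n m hm hrq b c hbo (Or.inr ⟨hfree, hcb⟩) ⟨e, he1, he2, hce', he3⟩ H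
          exact ⟨g1, g2, Or.inl h4⟩
    · rintro (⟨h, -, -⟩ | ⟨-, -, hbm, hmod, hrest⟩)
      · exact absurd h hr2
      · intro x hxSU ⟨z, hz⟩ hns
        rw [Matrix.SpecialLinearGroup.coe_pow] at hz
        have hxu := (Cfsg.Agent.Lib.helper45.mem_SU_iff_cstar σ hσ x).mp hxSU
        have hzσ : z * σ z = 1 :=
          Cfsg.Agent.Lib.helper63.SuTI.scalar_unitary σ n (by omega) _ hxu r z hz
        have hcond : ((∀ P ∈ Cfsg.Agent.Lib.helper45.cycFactors r F,
              Cfsg.Agent.Lib.helper45.tdual σ P = P) ∧ 2 * (m % b) ≤ n % b ∧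
              (r - 1) / b + 2 * (m / b) ≤ n / b) ∨
            ((∀ P ∈ Cfsg.Agent.Lib.helper45.cycFactors r F,
              Cfsg.Agent.Lib.helper45.tdual σ P ≠ P) ∧ 2 * (m % b) ≤ n % (2 * b)) := by
          rcases hrest with h4 | ⟨h4, hs, -⟩
          · obtain ⟨hfree, hcb⟩ := h4n h4
            exact Or.inr ⟨hfree, by rw [hcb] at hmod; exact hmod⟩
          · obtain ⟨hfix, hcb⟩ := h42 h4
            exact Or.inl ⟨hfix, by rw [hcb] at hmod; exact hmod, hs⟩
        by_cases hω : ∃ ω : F, ω * σ ω = 1 ∧ ω ^ r = z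
        · obtain ⟨ω, hω1, hωr⟩ := hω
          obtain ⟨hA₀, hA₀r, hWW⟩ := Cfsg.Agent.Lib.helper63.SuTI.su_scalar_reduce σ n
            (x : Matrix (Fin n) (Fin n) F) hxu r ω z hω1 hωr hz
          obtain ⟨W, hW, hti, hinv⟩ := Cfsg.Agent.Lib.helper63.SuTI.gu_ti_of_cond p hrp hq σ a hσ
            hσ' hne hσ2 n m hmn b hbo hcond _ hA₀ hA₀r
          exact ⟨W, hW, hti, hWW W hinv⟩
        · have hrq : r ∣ q + 1 := by
            by_contra hrq
            exact hω (Cfsg.Agent.Lib.helper63.SuTI.exists_root_of_not_dvd hr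
              (Cfsg.Agent.Lib.helper63.SuTI.q_pos hq) σ hσ hrq z hzσ)
          have hi2' : i = 2 := hi2.mp hrq
          have hcondB : r ∣ m ∨ padicValNat r n ≤ padicValNat r (q + 1) := by
            rcases hrest with h4 | ⟨h4, hs, h5⟩
            · omega
            · rcases h5 with h5 | ⟨-, h5⟩
              · omega
              · exact h5
          exact Cfsg.Agent.Lib.helper63.SuTI.i2_suff_B p hrp hq σ hσ hne hσ2 n m (by omega) hmn
            hr2 hrq hcondB _ hxu x.det_coe z hz hω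

end Cfsg.Agent.S5953
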