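import Cfsg.Statements.S5954
import Cfsg.Agent.Lib.helper63.SuND10

set_option autoImplicit false
open scoped MatrixGroups
open Cfsg

namespace Cfsg.Agent.S5954

/-- Elements of prime order of PSU_n(q) with no fixed nondegenerate `m`-space. Here `T = PSU_n(q)` (`n ≥ 3`, `(n, q) ≠ (3, 2)`), realised through the matrices of determinant 1 over the field `F` with `q²` elements preserving the Hermitian form `h(u, v) = Σ u_i v_i^q`; an element of `T` of prime order `r` is such a matrix `x` with `x^r` scalar and `x` not scalar. For `r ≠ p` let `i` be the multiplicative order of `q` modulo `r`, `b = i/2` for `i` even and `b = i` for `i` odd, `c = i, i/2, 2i` according as `i ≡ 0, 2 (mod 4)` or `i` odd, and write `k = n mod c`, `ℓ = m mod b`, `ℓ' = m mod c`, `n' = ⌊n/b⌋`, `m' = ⌊m/b⌋`, `s = (r−1)/b`; `(a)_r` is the `r`-part of `a`. Let `1 ≤ m < n/2` and let `r` be a prime dividing the number of nondegenerate `m`-spaces. Then every element of `T` of order `r` fixes a nondegenerate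 `m`-space if and only if one of: (i) `r = p > 2` and every partition of `n` into parts of size at most `p` contains (as a sub-multiset) a partition of `m`; (ii) `r = p = 2` and (`n` is odd or `m` is even); (iii) `r = 2 ≠ p` and (`n` is odd, or `m` is even, or `(q+1)_2 ≥ (n)_2` and `q ≡ 3 (mod 4)`); (iv) `r ≠ p`, `r > 2`, and either `i ≠ 2`, `c ≤ m` and `k ≥ ℓ'`, or `i = 2` and (`r ∣ m` or `(q+1)_r ≥ (n)_r`). -/
theorem result {F : Type*} [Field F] [Fintype F] {p : ℕ} [Fact p.Prime] [CharP F p] {q : ℕ} (hq : Fintype.card F = q ^ 2)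
    (n m : ℕ) (hn : 3 ≤ n) (hT : (n, q) ≠ (3, 2)) (hm : 1 ≤ m) (hmn : 2 * m < n)
    (r : ℕ) [Fact r.Prime]
    (hrΩ : r ∣ Nat.card {W : Submodule F (Fin n → F) // Module.finrank F ↥W = m ∧ (∀ u ∈ W, u ≠ 0 → ∃ v ∈ W, Cfsg.hermForm n F q u v ≠ 0)})
    (i b c : ℕ) (hi : i = orderOf (q : ZMod r)) (hb : b = if Even i then i / 2 else i)
    (hc : c = if i % 4 = 0 then i else if i % 4 = 2 then i / 2 else 2 * i) :
    (∀ x : Matrix.SpecialLinearGroup (Fin n) F, x ∈ Cfsg.SU n F q →
      (∃ z : F, ((x ^ r : Matrix.SpecialLinearGroup (Fin n) F) : Matrix (Fin n) (Fin n) F) = z • (1 : Matrix (Fin n) (Fin n) F)) →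
      (∀ z : F, (x : Matrix (Fin n) (Fin n) F) ≠ z • (1 : Matrix (Fin n) (Fin n) F)) →
      ∃ W : Submodule F (Fin n → F), Module.finrank F ↥W = m ∧ (∀ u ∈ W, u ≠ 0 → ∃ v ∈ W, Cfsg.hermForm n F q u v ≠ 0) ∧
        W.map (Matrix.toLin' (x : Matrix (Fin n) (Fin n) F)) ≤ W) ↔
    ((r = p ∧ 2 < p ∧ (∀ μ : Multiset ℕ, (∀ a ∈ μ, 0 < a ∧ a ≤ p) → μ.sum = n → ∃ ν : Multiset ℕ, ν ≤ μ ∧ ν.sum = m)) ∨
     (r = p ∧ p = 2 ∧ (Odd n ∨ Even m)) ∨
     (r = 2 ∧ p ≠ 2 ∧ (Odd n ∨ Even m ∨ (padicValNat 2 n ≤ padicValNat 2 (q + 1) ∧ q % 4 = 3))) ∨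
     (r ≠ p ∧ 2 < r ∧ ((i ≠ 2 ∧ c ≤ m ∧ m % c ≤ n % c) ∨ (i = 2 ∧ (r ∣ m ∨ padicValNat r n ≤ padicValNat r (q + 1)))))) := by
  classical
  have hp : p.Prime := Fact.out
  have hr : r.Prime := Fact.out
  obtain ⟨σ, hσ, hne, hσ2⟩ := Cfsg.Agent.Lib.helper17.exists_frob' hq
  obtain ⟨f, -, hcard⟩ := FiniteField.card F p
  obtain ⟨a, ha⟩ : ∃ a, q = p ^ a := by
    have h1 : q ∣ p ^ (f : ℕ) := by
      rw [← hcard, hq]
      exact dvd_pow_self q (by norm_num)
    obtain ⟨a, -, ha⟩ := (Nat.dvd_prime_pow hp).mp h1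
    exact ⟨a, ha⟩
  have hσ' : ∀ x, σ x = x ^ (p ^ a) := by
    intro x
    rw [hσ, ha]
  by_cases hrp : r = p
  · -- the unipotent case
    subst hrp
    have hiff := Cfsg.Agent.Lib.helper63.SuND.su_unip_case (F := F) (q := q) r σ hσ hne hσ2 n m
      (by omega) (by omega)
    by_cases hp2 : r = 2
    · constructor
      · intro H
        have hpart := hiff.mp H
        right; left
        refine ⟨rfl, hp2, ?_⟩
        rw [hp2] at hpart
        exact (Cfsg.Agent.Lib.helper63.SuND.two_partition_iff n m (by omega)).mp hpart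
      · rintro (⟨-, h2, -⟩ | ⟨-, -, hcond⟩ | ⟨-, hne2, -⟩ | ⟨hne', -, -⟩)
        · omega
        · apply hiff.mpr
          rw [hp2]
          exact (Cfsg.Agent.Lib.helper63.SuND.two_partition_iff n m (by omega)).mpr hcond
        · exact absurd hp2 hne2
        · exact absurd rfl hne'
    · constructor
      · intro H
        left
        exact ⟨rfl, lt_of_le_of_ne hr.two_le (Ne.symm hp2), hiff.mp H⟩
      · rintro (⟨-, -, h⟩ | ⟨-, h2, -⟩ | ⟨h2, -, -⟩ | ⟨hne', -, -⟩)
        · exact hiff.mpr h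
        · exact absurd h2 hp2
        · exact absurd h2 hp2
        · exact absurd rfl hne'
  · by_cases hr2 : r = 2
    · subst hr2
      have hp2 : p ≠ 2 := Ne.symm hrp
      have hiff := Cfsg.Agent.Lib.helper63.SuND.su_two_nd_case p hq hp2 σ a hσ hσ' hne hσ2 n m hn
        (by omega)
      constructor
      · intro H
        right; right; left
        exact ⟨rfl, hp2, hiff.mp H⟩
      · rintro (⟨h, -, -⟩ | ⟨h, -, -⟩ | ⟨-, -, hcond⟩ | ⟨-, h, -⟩)
        · exact absurd h hrp
        · exact absurd h hrp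
        · exact hiff.mpr hcond
        · omega
    · have hr2' : 2 < r := lt_of_le_of_ne hr.two_le (Ne.symm hr2)
      obtain ⟨hipos, hbo, h42, h4n, hi2, hce⟩ :=
        Cfsg.Agent.Lib.helper63.SuTI.su_arith p hrp hq hr2 σ a ha hσ' i b c hi hb hc
      have hrq' : ¬ r ∣ q := by
        intro hdvd
        rw [ha] at hdvd
        exact hrp ((Nat.prime_dvd_prime_iff_eq hr hp).mp (hr.dvd_of_dvd_pow hdvd))
      obtain ⟨e, he1, he2, he3, he4⟩ :=
        Cfsg.Agent.Lib.helper63.SuND.exists_pow_of_dvd_card_nd hq σ hσ hne hσ2 n m (by omega) r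
          hrq' hrΩ
      have hce' : c ∣ e := hce e he4
      constructor
      · intro H
        right; right; right
        refine ⟨hrp, hr2', ?_⟩
        by_cases hi2' : i = 2
        · right
          have hrq : r ∣ q + 1 := hi2.mpr hi2'
          exact ⟨hi2', Cfsg.Agent.Lib.helper63.SuND.i2_nd_cond_b p hrp hq σ hσ n m (by omega) hr2
            hrq H⟩
        · left
          have hrq : ¬ r ∣ q + 1 := fun h => hi2' (hi2.mp h)
          refine ⟨hi2', ?_⟩
          by_cases h4 : i % 4 = 2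
          · obtain ⟨hfix, hcb⟩ := h42 h4
            have hb2 : 2 ≤ b := by
              rw [hb, if_pos (by rw [Nat.even_iff]; omega)]; omega
            exact Cfsg.Agent.Lib.helper63.SuND.cond_of_su_nd p hrp hq σ a hσ hσ' hσ2 n m hrq b c
              hbo (Or.inl ⟨hfix, hcb, hb2⟩) ⟨e, he1, he2, hce', he3⟩ H
          · obtain ⟨hfree, hcb⟩ := h4n h4
            exact Cfsg.Agent.Lib.helper63.SuND.cond_of_su_nd p hrp hq σ a hσ hσ' hσ2 n m hrq b c
              hbo (Or.inr ⟨hfree, hcb⟩) ⟨e, he1, he2, hce', he3⟩ H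
      · rintro (⟨h, -, -⟩ | ⟨h, -, -⟩ | ⟨h, -, -⟩ | ⟨-, -, hrest⟩)
        · exact absurd h hrp
        · exact absurd h hrp
        · exact absurd h hr2
        · intro x hxSU ⟨z, hz⟩ hns
          rw [Matrix.SpecialLinearGroup.coe_pow] at hz
          have hxu := (Cfsg.Agent.Lib.helper45.mem_SU_iff_cstar σ hσ x).mp hxSU
          have hzσ : z * σ z = 1 :=
            Cfsg.Agent.Lib.helper63.SuTI.scalar_unitary σ n (by omega) _ hxu r z hz
          by_cases hω : ∃ ω : F, ω * σ ω = 1 ∧ ω ^ r = z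
          · obtain ⟨ω, hω1, hωr⟩ := hω
            obtain ⟨hA₀, hA₀r, hWW⟩ := Cfsg.Agent.Lib.helper63.SuTI.su_scalar_reduce σ n
              (x : Matrix (Fin n) (Fin n) F) hxu r ω z hω1 hωr hz
            have hcond : (((∀ P ∈ Cfsg.Agent.Lib.helper45.cycFactors r F,
                  Cfsg.Agent.Lib.helper45.tdual σ P = P) ∧ c = b) ∨
                ((∀ P ∈ Cfsg.Agent.Lib.helper45.cycFactors r F,
                  Cfsg.Agent.Lib.helper45.tdual σ P ≠ P) ∧ c = 2 * b)) ∧ m % c ≤ n % c := by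
              rcases hrest with ⟨hi2', -, hmod⟩ | ⟨hi2', -⟩
              · by_cases h4 : i % 4 = 2
                · exact ⟨Or.inl (h42 h4), hmod⟩
                · exact ⟨Or.inr (h4n h4), hmod⟩
              · have h4 : i % 4 = 2 := by rw [hi2']
                have hc1 : c = 1 := by rw [hc, hi2']; simp
                exact ⟨Or.inl (h42 h4), by rw [hc1, Nat.mod_one, Nat.mod_one]⟩
            obtain ⟨W, hW, hnd, hinv⟩ := Cfsg.Agent.Lib.helper63.SuND.gu_nd_of_cond p hrp hq σ a
              hσ hσ' hne hσ2 n m (by omega) b c hbo hcond.1 hcond.2 _ hA₀ hA₀r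
            exact ⟨W, hW, hnd, hWW W hinv⟩
          · have hrq : r ∣ q + 1 := by
              by_contra hrq
              exact hω (Cfsg.Agent.Lib.helper63.SuTI.exists_root_of_not_dvd hr
                (Cfsg.Agent.Lib.helper63.SuTI.q_pos hq) σ hσ hrq z hzσ)
            have hi2' : i = 2 := hi2.mp hrq
            have hcondB : r ∣ m ∨ padicValNat r n ≤ padicValNat r (q + 1) := by
              rcases hrest with ⟨h, -, -⟩ | ⟨-, h⟩
              · exact absurd hi2' h
              · exact h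
            exact Cfsg.Agent.Lib.helper63.SuND.i2_nd_suff_B p hrp hq σ hσ hne hσ2 n m (by omega)
              (by omega) hr2 hrq hcondB _ hxu x.det_coe z hz hω

end Cfsg.Agent.S5954
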