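import Cfsg.Statements.S5955
import Cfsg.Agent.Lib.helper63.SpTI1
import Cfsg.Agent.Lib.helper63.SpTI6
import Cfsg.Agent.Lib.helper63.SpTI7
import Cfsg.Agent.Lib.helper63.SpTI8

set_option autoImplicit false
open scoped MatrixGroups
open Cfsg

namespace Cfsg.Agent.S5955

/-- Elements of prime order of PSp_n(q) with no fixed totally isotropic `m`-space. Here `T = PSp_n(q)` with `n = 2d ≥ 4`, `(n, q) ≠ (4, 2)`, realised through the symplectic matrices over the field `F` with `q` elements (preserving the standard alternating form); an element of `T` of prime order `r` is such a matrix `x` with `x^r` scalar and `x` not scalar. For `r ≠ p` let `i` be the multiplicative order of `q` modulo `r`, `c = i` for `i` even and `c = 2i` for `i` odd, and write `k = n mod c`, `ℓ = m mod i`, `ℓ' = m mod c`, `n' = ⌊n/i⌋`, `m' = ⌊m/i⌋`, `t = (r−1)/i`. Let `1 ≤ m ≤ n/2` and let `r` be a prime dividing the number of totally isotropic `m`-spaces. Then every element of `T` of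 order `r` fixes a totally isotropic `m`-space if and only if either (i) `r = 2 ≠ p` and (`m` is even or `q ≡ 1 (mod 4)`); or (ii) `r ≠ p`, `r > 2`, `i ≤ m`, `k ≥ 2ℓ`, and (`i` is odd or `n' − 2m' ≥ t`). -/
theorem result {F : Type*} [Field F] [Fintype F] {p : ℕ} [Fact p.Prime] [CharP F p] {q : ℕ} (hq : Fintype.card F = q)
    (d m : ℕ) (hd : 2 ≤ d) (hT : (d, q) ≠ (2, 2)) (hm : 1 ≤ m) (hmd : m ≤ d)
    (r : ℕ) [Fact r.Prime]
    (hrΩ : r ∣ Nat.card {W : Submodule F (Fin d ⊕ Fin d → F) // Module.finrank F ↥W = m ∧ (∀ u ∈ W, ∀ v ∈ W, Cfsg.sympForm d F u v = 0)})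
    (i c : ℕ) (hi : i = orderOf (q : ZMod r)) (hc : c = if Even i then i else 2 * i) :
    (∀ x : ↥(Matrix.symplecticGroup (Fin d) F),
      (∃ z : F, ((x ^ r : ↥(Matrix.symplecticGroup (Fin d) F)) : Matrix (Fin d ⊕ Fin d) (Fin d ⊕ Fin d) F) = z • (1 : Matrix (Fin d ⊕ Fin d) (Fin d ⊕ Fin d) F)) →
      (∀ z : F, (x : Matrix (Fin d ⊕ Fin d) (Fin d ⊕ Fin d) F) ≠ z • (1 : Matrix (Fin d ⊕ Fin d) (Fin d ⊕ Fin d) F)) →
      ∃ W : Submodule F (Fin d ⊕ Fin d → F), Module.finrank F ↥W = m ∧ (∀ u ∈ W, ∀ v ∈ W, Cfsg.sympForm d F u v = 0) ∧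
        W.map (Matrix.toLin' (x : Matrix (Fin d ⊕ Fin d) (Fin d ⊕ Fin d) F)) ≤ W) ↔
    ((r = 2 ∧ p ≠ 2 ∧ (Even m ∨ q % 4 = 1)) ∨
     (r ≠ p ∧ 2 < r ∧ i ≤ m ∧ 2 * (m % i) ≤ (2 * d) % c ∧ (Odd i ∨ (r - 1) / i + 2 * (m / i) ≤ (2 * d) / i))) := by
  classical
  subst hq
  have hp : p.Prime := Fact.out
  have hr : r.Prime := Fact.out
  have hfr : Module.finrank F (Fin d ⊕ Fin d → F) = 2 * d := by
    rw [Module.finrank_fintype_fun_eq_card, Fintype.card_sum, Fintype.card_fin]; ring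
  have e : ∀ u v : Fin d ⊕ Fin d → F,
      Cfsg.Agent.Lib.helper17.sympBilin d u v = Cfsg.sympForm d F u v := fun u v => rfl
  have hrp : r ≠ p := by
    intro h
    have key := Cfsg.Agent.Lib.helper63.SpTI.not_dvd_card_ti (p := p)
      (Cfsg.Agent.Lib.helper17.sympBilin (F := F) d)
      (Cfsg.Agent.Lib.helper17.sympBilin_alt d) (Cfsg.Agent.Lib.helper17.sympBilin_nondegenerate d)
      m (by rw [hfr]; omega)
    apply key
    simp only [e]
    rw [← h]
    exact hrΩ
  by_cases hr2 : r = 2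
  · subst hr2
    have hp2 : p ≠ 2 := fun h => hrp h.symm
    have h2 := Cfsg.Agent.Lib.helper63.SpTI.two_case (F := F) p hp2 d m (by omega) hmd
    refine h2.trans ?_
    constructor
    · intro h
      exact Or.inl ⟨rfl, hp2, h⟩
    · rintro (⟨-, -, h⟩ | ⟨-, h, -⟩)
      · exact h
      · omega
  · have hr2' : 2 < r := lt_of_le_of_ne hr.two_le (Ne.symm hr2)
    have hrodd : Odd r := hr.odd_of_ne_two hr2
    subst hi
    subst hc
    constructor
    · intro H
      refine Or.inr ⟨hrp, hr2', ?_⟩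
      have hj : ∃ j, j < m ∧ r ∣ Fintype.card F ^ (2 * d - 2 * j) - 1 := by
        have h3 := Cfsg.Agent.Lib.helper63.SpTI.exists_dvd_of_dvd_card_ti
          (Cfsg.Agent.Lib.helper17.sympBilin (F := F) d)
          (Cfsg.Agent.Lib.helper17.sympBilin_alt d)
          (Cfsg.Agent.Lib.helper17.sympBilin_nondegenerate d)
          m (by rw [hfr]; omega) r hr (by simp only [e]; exact hrΩ)
        rw [hfr] at h3
        exact h3
      apply Cfsg.Agent.Lib.helper63.SpTI.cond_of_ti_odd p hrp hr2 d m hm hmd hj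
      intro x hx hns
      exact H x ⟨1, by rw [hx, one_smul]; rfl⟩ hns
    · rintro (⟨h2, -, -⟩ | ⟨-, -, -, hc2, hc3⟩)
      · exact absurd h2 hr2
      · intro x ⟨z, hz⟩ hns
        have hz2 := Cfsg.Agent.Lib.helper63.SpTI.scalar_sq_eq_one d (by omega) (x ^ r) z hz
        rcases sq_eq_one_iff.mp hz2 with h1 | h1
        · have hx : x ^ r = 1 := by
            apply Subtype.ext
            rw [hz, h1, one_smul]
            rfl
          exact Cfsg.Agent.Lib.helper63.SpTI.ti_of_cond_odd p hrp hr2 d m hmd ⟨hc2, hc3⟩ x hx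
        · obtain ⟨x', hx'⟩ : ∃ x' : ↥(Matrix.symplecticGroup (Fin d) F),
              (x' : Matrix (Fin d ⊕ Fin d) (Fin d ⊕ Fin d) F)
                = -(x : Matrix (Fin d ⊕ Fin d) (Fin d ⊕ Fin d) F) :=
            ⟨⟨-x.1, SymplecticGroup.neg_mem x.2⟩, rfl⟩
          have hx'r : x' ^ r = 1 := by
            apply Subtype.ext
            rw [SubmonoidClass.coe_pow, hx', hrodd.neg_pow, ← SubmonoidClass.coe_pow, hz, h1,
              neg_smul, one_smul, neg_neg]
            rfl
          obtain ⟨W, hW, hti, hinv⟩ :=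
            Cfsg.Agent.Lib.helper63.SpTI.ti_of_cond_odd p hrp hr2 d m hmd ⟨hc2, hc3⟩ x' hx'r
          refine ⟨W, hW, hti, ?_⟩
          rw [hx'] at hinv
          intro v hv
          obtain ⟨w, hw, rfl⟩ := Submodule.mem_map.mp hv
          have h3 := hinv (Submodule.mem_map_of_mem hw)
          rw [map_neg, LinearMap.neg_apply] at h3
          exact (Submodule.neg_mem_iff W).mp h3

end Cfsg.Agent.S5955
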