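import Cfsg.Statements.S5958
import Cfsg.Agent.Lib.helper24.ElF

set_option autoImplicit false
open scoped MatrixGroups
open Cfsg

namespace Cfsg.Agent.S5958

/-- Elements of odd prime order of PSL_n(q) and imprimitive subgroups. Here `T = PSL_n(F)` for a field `F` with `q = p^f` elements (`n ≥ 2`, `(n, q) ≠ (2, 2), (2, 3)`), `n = a·t` with `t ≥ 2`, and Ω is the set of direct-sum decompositions of `F^n` into `t` subspaces of dimension `a` (unordered; their number is the number of ordered ones divided by `t!`), whose stabilizers are the imprimitive subgroups of type GL_a(q) ≀ S_t (maximal except in some small cases; maximality is not assumed); an element of `T` of prime order `r` (a matrix `x` of determinant 1 with `x^r` scalar, `x` not scalar) fixes a point of Ω when it permutes the summands of some such decomposition. Let `r ≠ p` be an odd prime dividing the number of such decompositions, let `c` be the multiplicative order of `q` modulo `r`, and write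 `k = n mod c`, `ℓ = a mod c`. Then every element of `T` of order `r` stabilizes such a decomposition if and only if either `a = 1`, `c = r − 1 > 1` and `n ≤ k·r`, or `c ≤ a` and `k = t·ℓ`. -/
theorem result {F : Type*} [Field F] [Fintype F] {p : ℕ} [Fact p.Prime] [CharP F p] {q : ℕ} (hq : Fintype.card F = q)
    (n a t : ℕ) (hn : 2 ≤ n) (hT : (n, q) ≠ (2, 2) ∧ (n, q) ≠ (2, 3)) (hat : n = a * t) (ha : 1 ≤ a) (ht : 2 ≤ t)
    (r : ℕ) [Fact r.Prime] (hr2 : r ≠ 2) (hrp : r ≠ p) (hΩ : r ∣ Nat.card {D : Fin t → Submodule F (Fin n → F) // Cfsg.Geo.IsMDecomposition a D} / Nat.factorial t)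
    (c : ℕ) (hc : c = orderOf (q : ZMod r)) :
    (∀ x : Matrix.SpecialLinearGroup (Fin n) F,
      (∃ z : F, ((x ^ r : Matrix.SpecialLinearGroup (Fin n) F) : Matrix (Fin n) (Fin n) F) = z • (1 : Matrix (Fin n) (Fin n) F)) →
      (∀ z : F, (x : Matrix (Fin n) (Fin n) F) ≠ z • (1 : Matrix (Fin n) (Fin n) F)) →
      ∃ D : Fin t → Submodule F (Fin n → F), Cfsg.Geo.IsMDecomposition a D ∧
        ∃ σ : Equiv.Perm (Fin t), ∀ j, (D j).map (Matrix.toLin' (x : Matrix (Fin n) (Fin n) F)) = D (σ j)) ↔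
    ((a = 1 ∧ 1 < c ∧ c = r - 1 ∧ n ≤ (n % c) * r) ∨ (c ≤ a ∧ n % c = t * (a % c))) := by
  subst hq
  subst hc
  have hequiv : ∀ D : Fin t → Submodule F (Fin n → F), Cfsg.Geo.IsMDecomposition a D ↔
      ((∀ j, Module.finrank F (D j) = a) ∧ iSupIndep D ∧ ⨆ j, D j = ⊤) :=
    fun D => ⟨fun h => ⟨h.finrank_eq, h.indep, h.iSup_eq_top⟩,
      fun h => ⟨ht, ha, h.1, h.2.1, h.2.2⟩⟩
  have hΩ' : r ∣ Nat.card {D : Fin t → Submodule F (Fin n → F) //
      (∀ j, Module.finrank F (D j) = a) ∧ iSupIndep D ∧ ⨆ j, D j = ⊤} / Nat.factorial t := by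
    rw [← Nat.card_congr (Equiv.subtypeEquivRight hequiv)]
    exact hΩ
  have hmain := Cfsg.Agent.Lib.helper24.el_main (F := F) (p := p) n a t hn hat ha r hrp hΩ'
  refine Iff.trans ?_ hmain
  constructor
  · intro H x hdet hx hns
    obtain ⟨X, hX⟩ : ∃ X : Matrix.SpecialLinearGroup (Fin n) F,
        (X : Matrix (Fin n) (Fin n) F) = x := ⟨⟨x, hdet⟩, rfl⟩
    obtain ⟨D, hD, σ, hσ⟩ := H X (by
      obtain ⟨z, hz⟩ := hx
      exact ⟨z, by rw [Matrix.SpecialLinearGroup.coe_pow, hX]; exact hz⟩) (by rw [hX]; exact hns)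
    rw [hX] at hσ
    exact ⟨D, σ, ((hequiv D).mp hD).1, ((hequiv D).mp hD).2.1, ((hequiv D).mp hD).2.2, hσ⟩
  · intro H x hx hns
    obtain ⟨z, hz⟩ := hx
    rw [Matrix.SpecialLinearGroup.coe_pow] at hz
    obtain ⟨D, σ, h1, h2, h3, h4⟩ := H (x : Matrix (Fin n) (Fin n) F) x.2 ⟨z, hz⟩ hns
    exact ⟨D, (hequiv D).mpr ⟨h1, h2, h3⟩, σ, h4⟩

end Cfsg.Agent.S5958
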