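import Cfsg.Statements.S5959
import Cfsg.Agent.Lib.helper99.JordA
import Cfsg.Agent.Lib.helper99.JordB

set_option autoImplicit false
open scoped MatrixGroups
open Cfsg

namespace Cfsg.Agent.S5959

open Cfsg.Agent.Lib.helper99.Jord Module

theorem map_pow_eq {F : Type*} [Field F] {V : Type*} [AddCommGroup V] [Module F V]
    (X : Module.End F V) {t : ℕ} (D : Fin t → Submodule F V) (σ : Equiv.Perm (Fin t))
    (hσ : ∀ j, (D j).map X = D (σ j)) (i : ℕ) (j : Fin t) :
    (D j).map (X ^ i) = D ((σ ^ i) j) := by
  induction i generalizing j with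
  | zero => simp [Module.End.one_eq_id]
  | succ i ih =>
    rw [pow_succ', Module.End.mul_eq_comp, Submodule.map_comp, ih, hσ, pow_succ',
      Equiv.Perm.mul_apply]

/-- Elements of order `p` of PSL_n(q) and imprimitive subgroups: a necessary condition. Here `T = PSL_n(F)` for a field `F` with `q = p^f` elements (`n ≥ 2`, `(n, q) ≠ (2, 2), (2, 3)`), `n = a·t` with `t ≥ 2`, and Ω is the set of direct-sum decompositions of `F^n` into `t` subspaces of dimension `a` (unordered; their number is the number of ordered ones divided by `t!`), whose stabilizers are the imprimitive subgroups of type GL_a(q) ≀ S_t (maximal except in some small cases; maximality is not assumed); an element of `T` of prime order `r` (a matrix `x` of determinant 1 with `x^r` scalar, `x` not scalar) fixes a point of Ω when it permutes the summands of some such decomposition. Suppose `p > 2` divides the number of such decompositions. If every element of `T` of order `p` stabilizes such a decomposition, then every partition of `n` into parts of size at most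 `p` in which the part `p` occurs fewer than `a` times contains (as a sub-multiset) a partition of `a`. -/
theorem result {F : Type*} [Field F] [Fintype F] {p : ℕ} [Fact p.Prime] [CharP F p] {q : ℕ} (hq : Fintype.card F = q)
    (n a t : ℕ) (hn : 2 ≤ n) (hT : (n, q) ≠ (2, 2) ∧ (n, q) ≠ (2, 3)) (hat : n = a * t) (ha : 1 ≤ a) (ht : 2 ≤ t)
    (hp : 2 < p) (hΩ : p ∣ Nat.card {D : Fin t → Submodule F (Fin n → F) // Cfsg.Geo.IsMDecomposition a D} / Nat.factorial t)
    (h : ∀ x : Matrix.SpecialLinearGroup (Fin n) F,
      (∃ z : F, ((x ^ p : Matrix.SpecialLinearGroup (Fin n) F) : Matrix (Fin n) (Fin n) F) = z • (1 : Matrix (Fin n) (Fin n) F)) →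
      (∀ z : F, (x : Matrix (Fin n) (Fin n) F) ≠ z • (1 : Matrix (Fin n) (Fin n) F)) →
      ∃ D : Fin t → Submodule F (Fin n → F), Cfsg.Geo.IsMDecomposition a D ∧
        ∃ σ : Equiv.Perm (Fin t), ∀ j, (D j).map (Matrix.toLin' (x : Matrix (Fin n) (Fin n) F)) = D (σ j)) :
    (∀ μ : Multiset ℕ, (∀ b ∈ μ, 0 < b ∧ b ≤ p) → μ.sum = n → μ.count p < a → ∃ ν : Multiset ℕ, ν ≤ μ ∧ ν.sum = a) := by
  classical
  intro μ hμ hsum hcount
  have hpp : p.Prime := Fact.out
  by_cases hall : ∀ b ∈ μ, b = 1
  · have h1 : μ = Multiset.replicate (Multiset.card μ) 1 := Multiset.eq_replicate_card.2 hall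
    have hcard : Multiset.card μ = n := by
      rw [h1, Multiset.sum_replicate] at hsum
      simpa using hsum
    refine ⟨Multiset.replicate a 1, ?_, by simp⟩
    rw [h1, hcard, Multiset.replicate_le_replicate, hat]
    nlinarith
  · push Not at hall
    obtain ⟨b₀, hb₀, hb₀1⟩ := hall
    have hb₀2 : 2 ≤ b₀ := by
      have := (hμ b₀ hb₀).1
      omega
    let e : Idx μ ≃ Fin n := Fintype.equivFinOfCardEq ((card_Idx μ).trans hsum)
    let Φ : (Idx μ → F) ≃ₗ[F] (Fin n → F) := LinearEquiv.funCongrLeft F F e.symm
    let G : Module.End F (Fin n → F) := Φ.conjRingEquiv (sh μ F)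
    have hGp : G ^ p = 0 := by
      show (Φ.conjRingEquiv (sh μ F)) ^ p = 0
      rw [← map_pow, sh_pow_eq_zero μ F p (fun b hb => (hμ b hb).2), map_zero]
    have hG0 : G ≠ 0 := by
      intro h0
      apply sh_ne_zero μ F b₀ hb₀ hb₀2
      apply Φ.conjRingEquiv.injective
      rw [map_zero]
      exact h0
    let xm : Matrix (Fin n) (Fin n) F := LinearMap.toMatrixAlgEquiv' (1 + G)
    have hxm : Matrix.toLin' xm = 1 + G := by
      have h := Matrix.toLinAlgEquiv'_toMatrixAlgEquiv' (1 + G)
      exact h
    have : NeZero n := ⟨by omega⟩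
    have hxmp : xm ^ p = 1 := by
      have h1 : xm = 1 + LinearMap.toMatrixAlgEquiv' G := by
        show LinearMap.toMatrixAlgEquiv' (1 + G) = _
        rw [map_add, map_one]
      have h2 : (LinearMap.toMatrixAlgEquiv' G : Matrix (Fin n) (Fin n) F) ^ p = 0 := by
        rw [← map_pow, hGp, map_zero]
      rw [h1, add_pow_char_of_commute p (Commute.one_left _), one_pow, h2, add_zero]
    have hXp : (1 + G) ^ p = 1 := by
      apply (LinearMap.toMatrixAlgEquiv' (R := F) (n := Fin n)).injective
      rw [map_pow, map_one]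
      exact hxmp
    have hdet : xm.det = 1 := by
      have h1 : xm.det ^ p = 1 := by rw [← Matrix.det_pow, hxmp, Matrix.det_one]
      have h2 : (xm.det - 1) ^ p = 0 := by rw [sub_pow_char, h1, one_pow, sub_self]
      exact sub_eq_zero.1 (pow_eq_zero_iff hpp.ne_zero |>.1 h2)
    let x : Matrix.SpecialLinearGroup (Fin n) F := ⟨xm, hdet⟩
    have hx1 : ∃ z : F, ((x ^ p : Matrix.SpecialLinearGroup (Fin n) F) : Matrix (Fin n) (Fin n) F)
        = z • (1 : Matrix (Fin n) (Fin n) F) := by
      refine ⟨1, ?_⟩
      rw [Matrix.SpecialLinearGroup.coe_pow, one_smul]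
      exact hxmp
    have hx2 : ∀ z : F, (x : Matrix (Fin n) (Fin n) F) ≠ z • (1 : Matrix (Fin n) (Fin n) F) := by
      intro z hz
      have hz' : xm = z • (1 : Matrix (Fin n) (Fin n) F) := hz
      have h1 : z ^ p = 1 := by
        have h2 := hxmp
        rw [hz', smul_pow, one_pow] at h2
        have h3 := congrFun (congrFun h2 (⟨0, by omega⟩ : Fin n)) (⟨0, by omega⟩ : Fin n)
        simpa using h3
      have h2 : (z - 1) ^ p = 0 := by rw [sub_pow_char, h1, one_pow, sub_self]
      have h3 : z = 1 := sub_eq_zero.1 (pow_eq_zero_iff hpp.ne_zero |>.1 h2)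
      apply hG0
      have h4 : (1 : Module.End F (Fin n → F)) + G = 1 := by
        rw [← hxm, hz', h3, one_smul, Matrix.toLin'_one]
        rfl
      exact add_eq_left.1 h4
    obtain ⟨D, hD, σ, hσ0⟩ := h x hx1 hx2
    set X : Module.End F (Fin n → F) := 1 + G with hX
    have hσ : ∀ j, (D j).map X = D (σ j) := by
      intro j
      rw [← hσ0 j, ← hxm]
    have hXG : X - 1 = G := by rw [hX]; abel
    have hDinj : ∀ i j, D i = D j → i = j := by
      intro i j hij
      by_contra hne
      have h1 := hD.indep i
      have h2 : D j ≤ ⨆ (k) (_ : k ≠ i), D k := le_iSup₂_of_le j (Ne.symm hne) le_rfl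
      have h3 : Disjoint (D i) (D j) := h1.mono_right h2
      rw [← hij] at h3
      have h4 : D i = ⊥ := disjoint_self.1 h3
      have h5 := hD.finrank_eq i
      rw [h4, finrank_bot] at h5
      omega
    have hσp : ∀ j, (σ ^ p) j = j := by
      intro j
      apply hDinj
      rw [← map_pow_eq X D σ hσ p j, hXp, Module.End.one_eq_id, Submodule.map_id]
    by_cases hfix : ∃ j, σ j = j
    · obtain ⟨j, hj⟩ := hfix
      have hW : ∀ u ∈ D j, G u ∈ D j := by
        intro u hu
        have h1 : X u ∈ D j := by
          have : X u ∈ (D j).map X := Submodule.mem_map_of_mem hu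
          rw [hσ j, hj] at this
          exact this
        rw [← hXG, LinearMap.sub_apply, Module.End.one_apply]
        exact Submodule.sub_mem _ h1 hu
      have hW'X : (⨆ (k) (_ : k ≠ j), D k).map X ≤ ⨆ (k) (_ : k ≠ j), D k := by
        rw [Submodule.map_iSup]
        apply iSup_le
        intro k
        rw [Submodule.map_iSup]
        apply iSup_le
        intro hk
        rw [hσ k]
        have hk' : σ k ≠ j := by
          intro h1
          apply hk
          apply σ.injective
          rw [h1, hj]
        exact le_iSup₂_of_le (σ k) hk' le_rfl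
      have hW' : ∀ u ∈ ⨆ (k) (_ : k ≠ j), D k, G u ∈ ⨆ (k) (_ : k ≠ j), D k := by
        intro u hu
        have h1 : X u ∈ ⨆ (k) (_ : k ≠ j), D k := hW'X (Submodule.mem_map_of_mem hu)
        rw [← hXG, LinearMap.sub_apply, Module.End.one_apply]
        exact Submodule.sub_mem _ h1 hu
      have hsup : D j ⊔ ⨆ (k) (_ : k ≠ j), D k = ⊤ := by
        rw [eq_top_iff, ← hD.iSup_eq_top]
        apply iSup_le
        intro k
        by_cases hk : k = j
        · rw [hk]
          exact le_sup_left
        · exact le_sup_of_le_right (le_iSup₂_of_le k hk le_rfl)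
      have hcnt : ∀ j', 1 ≤ j' → j' ≤ p → cc G ⊤ (j' - 1) = cc G ⊤ j' + μ.count j' := by
        intro j' hj' _
        show cc (Φ.conjRingEquiv (sh μ F)) ⊤ (j' - 1) = cc (Φ.conjRingEquiv (sh μ F)) ⊤ j' + _
        rw [cc_conj, cc_conj]
        exact cc_sh_count μ F j' hj'
      obtain ⟨ν, hν, hνs⟩ := exists_sub_partition G p hGp (D j) (⨆ (k) (_ : k ≠ j), D k) hW hW'
        hsup (hD.indep j) μ hcnt
      exact ⟨ν, hν, by rw [hνs, hD.finrank_eq j]⟩
    · exfalso
      push Not at hfix
      let j₀ : Fin t := ⟨0, by omega⟩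
      have hj₀ : ∀ i, 0 < i → i < p → (σ ^ i) j₀ ≠ j₀ := by
        intro i hi0 hip hfixi
        have h1 : Function.IsPeriodicPt σ i j₀ := by
          show (⇑σ)^[i] j₀ = j₀
          rw [Equiv.Perm.iterate_eq_pow]
          exact hfixi
        have h2 : Function.IsPeriodicPt σ p j₀ := by
          show (⇑σ)^[p] j₀ = j₀
          rw [Equiv.Perm.iterate_eq_pow]
          exact hσp j₀
        have h3 := h1.gcd h2
        have hg : Nat.gcd i p = 1 := by
          have : Nat.Coprime p i :=
            (Nat.Prime.coprime_iff_not_dvd hpp).2 (Nat.not_dvd_of_pos_of_lt hi0 hip)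
          exact Nat.Coprime.symm this
        rw [hg] at h3
        exact hfix j₀ h3
      have hle := finrank_le_of_cycle p X D hD.indep σ hσ j₀ hj₀
      rw [hXG, hD.finrank_eq] at hle
      have hr : finrank F ↥(LinearMap.range (G ^ (p - 1))) = μ.count p := by
        show finrank F ↥(LinearMap.range ((Φ.conjRingEquiv (sh μ F)) ^ (p - 1))) = μ.count p
        rw [← map_pow, finrank_range_conj,
          finrank_range_sh_pow μ F p hpp.one_le (fun b hb => (hμ b hb).2)]
      omega

end Cfsg.Agent.S5959
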