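import Mathlib
import Cfsg.Statements.S5962
import Cfsg.Agent.Lib.helper17.Symp2
-- import your own Cfsg.Agent.* helpers here

set_option autoImplicit false
open scoped MatrixGroups
open Cfsg

namespace Cfsg.Agent.S5962


section Abstract
open Submodule

variable {F : Type*} [Field F] {V : Type*} [AddCommGroup V] [Module F V] [FiniteDimensional F V]
variable (B : LinearMap.BilinForm F V)

/-- valid pair -/
def Valid (U W : Submodule F V) : Prop :=
  (∀ u ∈ U, ∀ v ∈ U, B u v = 0) ∧ (∀ u ∈ W, ∀ v ∈ W, B u v = 0) ∧ Disjoint U W ∧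
    Disjoint (U ⊔ W) (B.orthogonal (U ⊔ W))

theorem skew (halt : ∀ v, B v v = 0) (u v : V) : B u v = - B v u := by
  have h := halt (u + v)
  simp only [map_add, LinearMap.add_apply, halt, zero_add, add_zero] at h
  exact eq_neg_of_add_eq_zero_right h

theorem ext_pair (halt : ∀ v, B v v = 0) (U W : Submodule F V) (hv : Valid B U W) (e e' : V)
    (he : e ∈ B.orthogonal (U ⊔ W)) (he' : e' ∈ B.orthogonal (U ⊔ W)) (hee : B e e' ≠ 0) :
    Valid B (U ⊔ span F {e}) (W ⊔ span F {e'}) ∧ U < U ⊔ span F {e} := by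
  obtain ⟨hU, hW, hUW, hM⟩ := hv
  have hsk := skew B halt
  have hMe : ∀ n ∈ U ⊔ W, B n e = 0 := fun n hn => he n hn
  have hMe' : ∀ n ∈ U ⊔ W, B n e' = 0 := fun n hn => he' n hn
  have heM : ∀ n ∈ U ⊔ W, B e n = 0 := fun n hn => by rw [hsk, hMe n hn, neg_zero]
  have he'M : ∀ n ∈ U ⊔ W, B e' n = 0 := fun n hn => by rw [hsk, hMe' n hn, neg_zero]
  have hMd : ∀ m ∈ U ⊔ W, (∀ n ∈ U ⊔ W, B n m = 0) → m = 0 :=
    fun m hm h => (Submodule.disjoint_def.1 hM) m hm h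
  have he'e : B e' e ≠ 0 := by rw [hsk]; exact neg_ne_zero.2 hee
  refine ⟨⟨?_, ?_, ?_, ?_⟩, ?_⟩
  · intro x hx y hy
    obtain ⟨u, hu, x', hx', rfl⟩ := Submodule.mem_sup.1 hx
    obtain ⟨α, rfl⟩ := Submodule.mem_span_singleton.1 hx'
    obtain ⟨u₂, hu₂, y', hy', rfl⟩ := Submodule.mem_sup.1 hy
    obtain ⟨β, rfl⟩ := Submodule.mem_span_singleton.1 hy'
    simp only [map_add, LinearMap.add_apply, map_smul, LinearMap.smul_apply, smul_eq_mul]
    rw [hU u hu u₂ hu₂, hMe u (mem_sup_left hu), heM u₂ (mem_sup_left hu₂), halt]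
    simp
  · intro x hx y hy
    obtain ⟨u, hu, x', hx', rfl⟩ := Submodule.mem_sup.1 hx
    obtain ⟨α, rfl⟩ := Submodule.mem_span_singleton.1 hx'
    obtain ⟨u₂, hu₂, y', hy', rfl⟩ := Submodule.mem_sup.1 hy
    obtain ⟨β, rfl⟩ := Submodule.mem_span_singleton.1 hy'
    simp only [map_add, LinearMap.add_apply, map_smul, LinearMap.smul_apply, smul_eq_mul]
    rw [hW u hu u₂ hu₂, hMe' u (mem_sup_right hu), he'M u₂ (mem_sup_right hu₂), halt]
    simp
  · rw [Submodule.disjoint_def]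
    intro x hx hx2
    obtain ⟨u, hu, x', hx', rfl⟩ := Submodule.mem_sup.1 hx
    obtain ⟨α, rfl⟩ := Submodule.mem_span_singleton.1 hx'
    obtain ⟨w, hw, y', hy', hxy⟩ := Submodule.mem_sup.1 hx2
    obtain ⟨β, rfl⟩ := Submodule.mem_span_singleton.1 hy'
    have hm : u - w = 0 := by
      refine hMd (u - w) (sub_mem (mem_sup_left hu) (mem_sup_right hw)) ?_
      intro n hn
      have : u - w = β • e' - α • e := by
        rw [sub_eq_sub_iff_add_eq_add, ← hxy]; abel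
      rw [this, map_sub, map_smul, map_smul, hMe' n hn, hMe n hn]; simp
    have huw : u = w := sub_eq_zero.1 hm
    have hu0 : u = 0 := (Submodule.disjoint_def.1 hUW) u hu (huw ▸ hw)
    have hw0 : w = 0 := by rw [← huw, hu0]
    rw [hu0, hw0, zero_add, zero_add] at hxy
    have hβ : β = 0 := by
      have h1 : B e (β • e') = B e (α • e) := by rw [hxy]
      simp only [map_smul, smul_eq_mul, halt, mul_zero] at h1
      exact (mul_eq_zero.1 h1).resolve_right hee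
    rw [hu0, zero_add, ← hxy, hβ, zero_smul]
  · rw [Submodule.disjoint_def]
    intro x hx hx2
    obtain ⟨x₁, hx₁, x₂, hx₂, rfl⟩ := Submodule.mem_sup.1 hx
    obtain ⟨u, hu, x', hx', rfl⟩ := Submodule.mem_sup.1 hx₁
    obtain ⟨α, rfl⟩ := Submodule.mem_span_singleton.1 hx'
    obtain ⟨w, hw, y', hy', rfl⟩ := Submodule.mem_sup.1 hx₂
    obtain ⟨β, rfl⟩ := Submodule.mem_span_singleton.1 hy'
    have hx2' : ∀ n ∈ (U ⊔ span F {e}) ⊔ (W ⊔ span F {e'}), B n (u + α • e + (w + β • e')) = 0 := hx2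
    have hm : u + w = 0 := by
      refine hMd (u + w) (add_mem (mem_sup_left hu) (mem_sup_right hw)) ?_
      intro n hn
      have hn' : n ∈ (U ⊔ span F {e}) ⊔ (W ⊔ span F {e'}) := by
        obtain ⟨n₁, hn₁, n₂, hn₂, rfl⟩ := Submodule.mem_sup.1 hn
        exact add_mem (mem_sup_left (mem_sup_left hn₁)) (mem_sup_right (mem_sup_left hn₂))
      have h1 := hx2' n hn'
      simp only [map_add, map_smul, smul_eq_mul, hMe n hn, hMe' n hn, mul_zero, add_zero] at h1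
      rw [map_add]; exact h1
    have hrw : u + α • e + (w + β • e') = (u + w) + α • e + β • e' := by abel
    have hβ : β = 0 := by
      have h1 := hx2' e (mem_sup_left (mem_sup_right (mem_span_singleton_self e)))
      rw [hrw, hm] at h1
      simp only [zero_add, map_add, map_smul, smul_eq_mul, halt, mul_zero] at h1
      exact (mul_eq_zero.1 h1).resolve_right hee
    have hα : α = 0 := by
      have h1 := hx2' e' (mem_sup_right (mem_sup_right (mem_span_singleton_self e')))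
      rw [hrw, hm] at h1
      simp only [zero_add, map_add, map_smul, smul_eq_mul, halt, mul_zero, add_zero] at h1
      exact (mul_eq_zero.1 h1).resolve_right he'e
    rw [hrw, hm, hα, hβ]; simp
  · refine lt_of_le_of_ne le_sup_left (fun h => ?_)
    have heU : e ∈ U := by rw [h]; exact mem_sup_right (mem_span_singleton_self e)
    have : e = 0 := hMd e (mem_sup_left heU) (fun n hn => hMe n hn)
    rw [this] at hee; simp at hee

theorem max_pair (halt : ∀ v, B v v = 0) (T : Submodule F V → Submodule F V → Prop) (hT0 : T ⊥ ⊥)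
    (hstep : ∀ U W, Valid B U W → T U W → U ⊔ W ≠ ⊤ →
      ∃ e e', e ∈ B.orthogonal (U ⊔ W) ∧ e' ∈ B.orthogonal (U ⊔ W) ∧ B e e' ≠ 0 ∧
        T (U ⊔ span F {e}) (W ⊔ span F {e'})) :
    ∃ U W, IsCompl U W ∧ (∀ u ∈ U, ∀ v ∈ U, B u v = 0) ∧ (∀ u ∈ W, ∀ v ∈ W, B u v = 0) ∧ T U W := by
  have h0 : Valid B (⊥ : Submodule F V) ⊥ := by
    refine ⟨?_, ?_, disjoint_bot_left, ?_⟩
    · intro u hu v _
      rw [(Submodule.mem_bot F).1 hu]; simp
    · intro u hu v _
      rw [(Submodule.mem_bot F).1 hu]; simp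
    · simp
  obtain ⟨U, ⟨W, hv, hT⟩, hmax⟩ :=
    wellFounded_gt.has_min {U : Submodule F V | ∃ W, Valid B U W ∧ T U W} ⟨⊥, ⊥, h0, hT0⟩
  have htop : U ⊔ W = ⊤ := by
    by_contra hne
    obtain ⟨e, e', he, he', hee, hT'⟩ := hstep U W hv hT hne
    obtain ⟨hv', hlt⟩ := ext_pair B halt U W hv e e' he he' hee
    exact hmax _ ⟨_, hv', hT'⟩ hlt
  exact ⟨U, W, ⟨hv.2.2.1, codisjoint_iff.2 htop⟩, hv.1, hv.2.1, hT⟩

theorem perp_facts (halt : ∀ v, B v v = 0) (hnd : ∀ u, u ≠ 0 → ∃ v, B u v ≠ 0) (X : V →ₗ[F] V)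
    (hX : ∀ u v, B (X u) (X v) = B u v) (z : F) (hz : z * z = 1) (hXX : ∀ v, X (X v) = z • v)
    (M : Submodule F V) (hM : Disjoint M (B.orthogonal M)) (hXM : ∀ m ∈ M, X m ∈ M) (hne : M ≠ ⊤) :
    (∃ y ∈ B.orthogonal M, y ≠ 0) ∧
    (∀ y ∈ B.orthogonal M, y ≠ 0 → ∃ v' ∈ B.orthogonal M, B y v' ≠ 0) ∧
      (∀ y ∈ B.orthogonal M, X y ∈ B.orthogonal M) := by
  have hsk := skew B halt
  have hrefl : B.IsRefl := LinearMap.IsAlt.isRefl halt
  have hc : IsCompl M (B.orthogonal M) :=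
    (LinearMap.BilinForm.isCompl_orthogonal_iff_disjoint hrefl).2 hM
  refine ⟨?_, ?_, ?_⟩
  · by_contra hcon
    push Not at hcon
    have hbot : B.orthogonal M = ⊥ := (Submodule.eq_bot_iff _).2 hcon
    have := hc.sup_eq_top
    rw [hbot, sup_bot_eq] at this
    exact hne this
  · intro y hy hy0
    obtain ⟨v, hv⟩ := hnd y hy0
    have hvm : v ∈ M ⊔ B.orthogonal M := by rw [hc.sup_eq_top]; exact Submodule.mem_top
    obtain ⟨m, hm, v', hv', rfl⟩ := Submodule.mem_sup.1 hvm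
    refine ⟨v', hv', ?_⟩
    have h0 : B y m = 0 := by rw [hsk]; rw [show B m y = 0 from hy m hm, neg_zero]
    rw [map_add, h0, zero_add] at hv
    exact hv
  · intro y hy n hn
    have h1 : n = X (z • X n) := by rw [map_smul, hXX, smul_smul, hz, one_smul]
    have h2 : B n (X y) = B (z • X n) y := by
      conv_lhs => rw [h1]
      exact hX _ _
    show B n (X y) = 0
    rw [h2]
    exact hy _ (Submodule.smul_mem _ _ (hXM n hn))

theorem step_fix (halt : ∀ v, B v v = 0) (hnd : ∀ u, u ≠ 0 → ∃ v, B u v ≠ 0) (X : V →ₗ[F] V)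
    (hX : ∀ u v, B (X u) (X v) = B u v) (z : F) (hz : z * z = 1) (hXX : ∀ v, X (X v) = z • v)
    (h2 : (2 : F) ≠ 0) (w : F) (hw : w * w = z)
    (U W : Submodule F V) (hv : Valid B U W) (hT : (∀ u ∈ U, X u ∈ U) ∧ (∀ u ∈ W, X u ∈ W))
    (hne : U ⊔ W ≠ ⊤) :
    ∃ e e', e ∈ B.orthogonal (U ⊔ W) ∧ e' ∈ B.orthogonal (U ⊔ W) ∧ B e e' ≠ 0 ∧
      ((∀ u ∈ U ⊔ span F {e}, X u ∈ U ⊔ span F {e}) ∧
        (∀ u ∈ W ⊔ span F {e'}, X u ∈ W ⊔ span F {e'})) := by
  have hXM : ∀ m ∈ U ⊔ W, X m ∈ U ⊔ W := by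
    intro m hm
    obtain ⟨m₁, hm₁, m₂, hm₂, rfl⟩ := Submodule.mem_sup.1 hm
    rw [map_add]
    exact add_mem (mem_sup_left (hT.1 m₁ hm₁)) (mem_sup_right (hT.2 m₂ hm₂))
  obtain ⟨⟨y, hy, hy0⟩, hnd', hXp⟩ := perp_facts B halt hnd X hX z hz hXX (U ⊔ W) hv.2.2.2 hXM hne
  have hw0 : w ≠ 0 := by
    rintro rfl
    rw [← hw] at hz
    simp at hz
  obtain ⟨e, he, he0, μ, hμ, hXe⟩ : ∃ e ∈ B.orthogonal (U ⊔ W), e ≠ 0 ∧ ∃ μ : F, μ * μ = z ∧ X e = μ • e := by
    by_cases h : X y + w • y = 0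
    · refine ⟨X y - w • y, sub_mem (hXp y hy) (Submodule.smul_mem _ _ hy), ?_, -w, by rw [neg_mul_neg, hw], ?_⟩
      · intro h'
        have h3 : (2 * w) • y = 0 := by
          have : (2 * w) • y = (X y + w • y) - (X y - w • y) := by
            rw [two_mul, add_smul]; abel
          rw [this, h, h', sub_zero]
        rcases smul_eq_zero.1 h3 with h4 | h4
        · exact (mul_ne_zero h2 hw0) h4
        · exact hy0 h4
      · rw [map_sub, hXX, map_smul, smul_sub, smul_smul, neg_mul, hw, neg_smul, neg_smul]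
        abel
    · refine ⟨X y + w • y, add_mem (hXp y hy) (Submodule.smul_mem _ _ hy), h, w, hw, ?_⟩
      rw [map_add, hXX, map_smul, smul_add, smul_smul, hw]
      abel
  obtain ⟨v', hv', hev'⟩ := hnd' e he he0
  refine ⟨e, v' + μ • X v', he, add_mem hv' (Submodule.smul_mem _ _ (hXp v' hv')), ?_, ?_, ?_⟩
  · have h1 : B e (X v') = (μ * z) * B e v' := by
      have : B e (X v') = B (X e) (X (X v')) := (hX _ _).symm
      rw [this, hXe, hXX]
      simp only [map_smul, LinearMap.smul_apply, smul_eq_mul]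
      ring
    rw [map_add, map_smul, h1, smul_eq_mul]
    have : B e v' + μ * (μ * z * B e v') = 2 * B e v' := by
      have : μ * (μ * z * B e v') = (μ * μ) * z * B e v' := by ring
      rw [this, hμ, hz]; ring
    rw [this]
    exact mul_ne_zero h2 hev'
  · intro u hu
    obtain ⟨u₁, hu₁, u', hu', rfl⟩ := Submodule.mem_sup.1 hu
    obtain ⟨α, rfl⟩ := Submodule.mem_span_singleton.1 hu'
    rw [map_add, map_smul, hXe]
    exact add_mem (mem_sup_left (hT.1 u₁ hu₁))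
      (mem_sup_right (Submodule.smul_mem _ _ (Submodule.smul_mem _ _ (mem_span_singleton_self e))))
  · intro u hu
    obtain ⟨u₁, hu₁, u', hu', rfl⟩ := Submodule.mem_sup.1 hu
    obtain ⟨α, rfl⟩ := Submodule.mem_span_singleton.1 hu'
    have hXe' : X (v' + μ • X v') = (μ * z) • (v' + μ • X v') := by
      rw [map_add, map_smul, hXX, smul_add, smul_smul, smul_smul]
      have : μ * z * μ = 1 := by
        have : μ * z * μ = (μ * μ) * z := by ring
        rw [this, hμ, hz]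
      rw [this, one_smul, add_comm]
    rw [map_add, map_smul, hXe']
    exact add_mem (mem_sup_left (hT.2 u₁ hu₁))
      (mem_sup_right (Submodule.smul_mem _ _ (Submodule.smul_mem _ _ (mem_span_singleton_self _))))

theorem step_swap (halt : ∀ v, B v v = 0) (hnd : ∀ u, u ≠ 0 → ∃ v, B u v ≠ 0) (X : V →ₗ[F] V)
    (hX : ∀ u v, B (X u) (X v) = B u v) (z : F) (hz : z * z = 1) (hXX : ∀ v, X (X v) = z • v)
    (h2 : (2 : F) ≠ 0) (hns : ¬ ∃ w : F, w * w = z)
    (U W : Submodule F V) (hv : Valid B U W) (hT : (∀ u ∈ U, X u ∈ W) ∧ (∀ u ∈ W, X u ∈ U))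
    (hne : U ⊔ W ≠ ⊤) :
    ∃ e e', e ∈ B.orthogonal (U ⊔ W) ∧ e' ∈ B.orthogonal (U ⊔ W) ∧ B e e' ≠ 0 ∧
      ((∀ u ∈ U ⊔ span F {e}, X u ∈ W ⊔ span F {e'}) ∧
        (∀ u ∈ W ⊔ span F {e'}, X u ∈ U ⊔ span F {e})) := by
  have hsk := skew B halt
  have hz1 : z = -1 := by
    have h : (z - 1) * (z + 1) = 0 := by ring_nf; rw [sq, hz]; ring
    rcases mul_eq_zero.1 h with h' | h'
    · exact absurd ⟨1, by rw [mul_one]; exact (sub_eq_zero.1 h').symm⟩ hns
    · exact eq_neg_of_add_eq_zero_left h'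
  have hXM : ∀ m ∈ U ⊔ W, X m ∈ U ⊔ W := by
    intro m hm
    obtain ⟨m₁, hm₁, m₂, hm₂, rfl⟩ := Submodule.mem_sup.1 hm
    rw [map_add]
    exact add_mem (mem_sup_right (hT.1 m₁ hm₁)) (mem_sup_left (hT.2 m₂ hm₂))
  obtain ⟨⟨y, hy, hy0⟩, hnd', hXp⟩ := perp_facts B halt hnd X hX z hz hXX (U ⊔ W) hv.2.2.2 hXM hne
  obtain ⟨e, he, hee⟩ : ∃ e ∈ B.orthogonal (U ⊔ W), B e (X e) ≠ 0 := by
    by_contra hcon
    push Not at hcon
    obtain ⟨v', hv', hyv'⟩ := hnd' y hy hy0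
    have h1 := hcon (y + X v') (add_mem hy (hXp v' hv'))
    have h3 : B (X v') (X y) = - B y v' := by rw [hX, hsk]
    have h4 : B (X v') v' = 0 := by rw [hsk, hcon v' hv', neg_zero]
    have hx : X (y + X v') = X y - v' := by
      rw [map_add, hXX, hz1, neg_smul, one_smul, sub_eq_add_neg]
    rw [hx] at h1
    simp only [map_add, map_sub, LinearMap.add_apply, hcon y hy, h3, h4] at h1
    have h5 : 2 * B y v' = 0 := by linear_combination -h1
    rcases mul_eq_zero.1 h5 with h6 | h6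
    · exact h2 h6
    · exact hyv' h6
  refine ⟨e, X e, he, hXp e he, hee, ?_, ?_⟩
  · intro u hu
    obtain ⟨u₁, hu₁, u', hu', rfl⟩ := Submodule.mem_sup.1 hu
    obtain ⟨α, rfl⟩ := Submodule.mem_span_singleton.1 hu'
    rw [map_add, map_smul]
    exact add_mem (mem_sup_left (hT.1 u₁ hu₁))
      (mem_sup_right (Submodule.smul_mem _ _ (mem_span_singleton_self _)))
  · intro u hu
    obtain ⟨u₁, hu₁, u', hu', rfl⟩ := Submodule.mem_sup.1 hu
    obtain ⟨α, rfl⟩ := Submodule.mem_span_singleton.1 hu'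
    rw [map_add, map_smul, hXX]
    exact add_mem (mem_sup_left (hT.2 u₁ hu₁))
      (mem_sup_right (Submodule.smul_mem _ _ (Submodule.smul_mem _ _ (mem_span_singleton_self _))))

theorem sp_invol (halt : ∀ v, B v v = 0) (hnd : ∀ u, u ≠ 0 → ∃ v, B u v ≠ 0) (X : V →ₗ[F] V)
    (hX : ∀ u v, B (X u) (X v) = B u v) (z : F) (hz : z * z = 1) (hXX : ∀ v, X (X v) = z • v)
    (h2 : (2 : F) ≠ 0) :
    ∃ U W : Submodule F V, IsCompl U W ∧ (∀ u ∈ U, ∀ v ∈ U, B u v = 0) ∧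
      (∀ u ∈ W, ∀ v ∈ W, B u v = 0) ∧
      ((U.map X = U ∧ W.map X = W) ∨ (U.map X = W ∧ W.map X = U)) := by
  classical
  have hback : ∀ v, X (z • X v) = v := by
    intro v; rw [map_smul, hXX, smul_smul, hz, one_smul]
  have map_eq : ∀ P Q : Submodule F V, (∀ u ∈ P, X u ∈ Q) → (∀ u ∈ Q, X u ∈ P) → P.map X = Q := by
    intro P Q h1 h2
    apply le_antisymm
    · rintro _ ⟨u, hu, rfl⟩; exact h1 u hu
    · intro q hq; exact ⟨z • X q, Submodule.smul_mem _ _ (h2 q hq), hback q⟩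
  by_cases hsq : ∃ w : F, w * w = z
  · obtain ⟨w, hw⟩ := hsq
    obtain ⟨U, W, hc, hU, hW, hT1, hT2⟩ := max_pair B halt
      (fun U W => (∀ u ∈ U, X u ∈ U) ∧ (∀ u ∈ W, X u ∈ W))
      ⟨fun u hu => by rw [(Submodule.mem_bot F).1 hu, map_zero]; exact Submodule.zero_mem _,
       fun u hu => by rw [(Submodule.mem_bot F).1 hu, map_zero]; exact Submodule.zero_mem _⟩
      (fun U W hv hT hne => step_fix B halt hnd X hX z hz hXX h2 w hw U W hv hT hne)
    exact ⟨U, W, hc, hU, hW, Or.inl ⟨map_eq U U hT1 hT1, map_eq W W hT2 hT2⟩⟩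
  · obtain ⟨U, W, hc, hU, hW, hT1, hT2⟩ := max_pair B halt
      (fun U W => (∀ u ∈ U, X u ∈ W) ∧ (∀ u ∈ W, X u ∈ U))
      ⟨fun u hu => by rw [(Submodule.mem_bot F).1 hu, map_zero]; exact Submodule.zero_mem _,
       fun u hu => by rw [(Submodule.mem_bot F).1 hu, map_zero]; exact Submodule.zero_mem _⟩
      (fun U W hv hT hne => step_swap B halt hnd X hX z hz hXX h2 hsq U W hv hT hne)
    exact ⟨U, W, hc, hU, hW, Or.inr ⟨map_eq U W hT1 hT2, map_eq W U hT2 hT1⟩⟩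

end Abstract


/-- Involutions of PSp_n(q), q odd, and the subgroups GL_{n/2}(q).2. Here `T = PSp_n(q)`, `n = 2d ≥ 4`, `q` odd, realised through the symplectic matrices over the field `F` with `q` elements; Ω is the set of unordered pairs `{U, W}` of complementary totally isotropic `d`-spaces (`F^n = U ⊕ W`), whose stabilizers are the subgroups of type GL_d(q).2 (maximal except in some small cases; maximality is not assumed); an element of `T` of prime order `r` (a symplectic matrix `x` with `x^r` scalar, `x` not scalar) fixes such a pair when it fixes or interchanges `U` and `W`. If the number of such pairs is even, every involution of `T` fixes one of them (the action is 2-elusive). -/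
theorem result {F : Type*} [Field F] [Fintype F] {p : ℕ} [Fact p.Prime] [CharP F p] {q : ℕ} (hq : Fintype.card F = q)
    (d : ℕ) (hd : 2 ≤ d) (hT : (d, q) ≠ (2, 2)) (hodd : Odd q)
    (hΩ : 2 ∣ Nat.card {P : Submodule F (Fin d ⊕ Fin d → F) × Submodule F (Fin d ⊕ Fin d → F) // IsCompl P.1 P.2 ∧ (∀ u ∈ P.1, ∀ v ∈ P.1, Cfsg.sympForm d F u v = 0) ∧ (∀ u ∈ P.2, ∀ v ∈ P.2, Cfsg.sympForm d F u v = 0)} / 2)
    (x : ↥(Matrix.symplecticGroup (Fin d) F))
    (hx1 : ∃ z : F, ((x ^ 2 : ↥(Matrix.symplecticGroup (Fin d) F)) : Matrix (Fin d ⊕ Fin d) (Fin d ⊕ Fin d) F) = z • (1 : Matrix (Fin d ⊕ Fin d) (Fin d ⊕ Fin d) F))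
    (hx2 : ∀ z : F, (x : Matrix (Fin d ⊕ Fin d) (Fin d ⊕ Fin d) F) ≠ z • (1 : Matrix (Fin d ⊕ Fin d) (Fin d ⊕ Fin d) F)) :
    ∃ U W : Submodule F (Fin d ⊕ Fin d → F), IsCompl U W ∧ (∀ u ∈ U, ∀ v ∈ U, Cfsg.sympForm d F u v = 0) ∧ (∀ u ∈ W, ∀ v ∈ W, Cfsg.sympForm d F u v = 0) ∧
        ((U.map (Matrix.toLin' (x : Matrix (Fin d ⊕ Fin d) (Fin d ⊕ Fin d) F)) = U ∧ W.map (Matrix.toLin' (x : Matrix (Fin d ⊕ Fin d) (Fin d ⊕ Fin d) F)) = W) ∨
         (U.map (Matrix.toLin' (x : Matrix (Fin d ⊕ Fin d) (Fin d ⊕ Fin d) F)) = W ∧ W.map (Matrix.toLin' (x : Matrix (Fin d ⊕ Fin d) (Fin d ⊕ Fin d) F)) = U)) := by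
  classical
  obtain ⟨z, hz⟩ := hx1
  obtain ⟨B, hB⟩ : ∃ B : LinearMap.BilinForm F (Fin d ⊕ Fin d → F), ∀ u v, B u v = Cfsg.sympForm d F u v :=
    ⟨LinearMap.mk₂ F (Cfsg.sympForm d F) (Cfsg.Agent.Lib.helper17.sympForm_add_left d)
      (fun c u v => by rw [smul_eq_mul]; exact Cfsg.Agent.Lib.helper17.sympForm_smul_left d c u v)
      (Cfsg.Agent.Lib.helper17.sympForm_add_right d)
      (fun c u v => by rw [smul_eq_mul]; exact Cfsg.Agent.Lib.helper17.sympForm_smul_right d c u v),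
      fun u v => rfl⟩
  obtain ⟨X, hXdef⟩ : ∃ X : (Fin d ⊕ Fin d → F) →ₗ[F] (Fin d ⊕ Fin d → F),
      X = Matrix.toLin' (x : Matrix (Fin d ⊕ Fin d) (Fin d ⊕ Fin d) F) := ⟨_, rfl⟩
  rw [← hXdef]
  have hXX : ∀ v, X (X v) = z • v := by
    intro v
    rw [hXdef, Matrix.toLin'_apply, Matrix.toLin'_apply, Matrix.mulVec_mulVec]
    have : (x : Matrix (Fin d ⊕ Fin d) (Fin d ⊕ Fin d) F) * x = z • 1 := by
      rw [← hz]; simp [pow_two]
    rw [this, Matrix.smul_mulVec, Matrix.one_mulVec]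
  have halt : ∀ v, B v v = 0 := fun v => by rw [hB]; exact Cfsg.Agent.Lib.helper17.sympForm_self d v
  have hnd : ∀ u, u ≠ 0 → ∃ v, B u v ≠ 0 := by
    intro u hu
    obtain ⟨w, hw⟩ := Cfsg.Agent.Lib.helper17.exists_sympForm_ne_zero d u hu
    exact ⟨w, by rw [hB]; exact hw⟩
  have hX : ∀ u v, B (X u) (X v) = B u v := by
    intro u v
    rw [hB, hB, hXdef, Matrix.toLin'_apply, Matrix.toLin'_apply]
    exact Cfsg.Agent.Lib.helper17.sympForm_mulVec_of_mem d x.2 u v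
  have hzz : z * z = 1 := by
    obtain ⟨u0, hu0def⟩ : ∃ u0 : Fin d ⊕ Fin d → F, u0 = Pi.single (Sum.inl ⟨0, by omega⟩) 1 := ⟨_, rfl⟩
    have hu : u0 ≠ 0 := by
      intro h
      have := congrFun h (Sum.inl ⟨0, by omega⟩)
      rw [hu0def] at this
      simp at this
    obtain ⟨v, hv⟩ := hnd _ hu
    have h1 : B (X (X u0)) (X (X v)) = B u0 v := by rw [hX, hX]
    rw [hXX, hXX] at h1
    simp only [map_smul, LinearMap.smul_apply, smul_eq_mul] at h1
    have h3 : (z * z - 1) * B u0 v = 0 := by linear_combination h1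
    rcases mul_eq_zero.1 h3 with h4 | h4
    · exact sub_eq_zero.1 h4
    · exact absurd h4 hv
  have h2 : (2 : F) ≠ 0 := by
    apply Ring.two_ne_zero
    intro hchar
    have h := FiniteField.even_card_of_char_two hchar
    rw [hq] at h
    rcases hodd with ⟨k, hk⟩
    omega
  obtain ⟨U, W, hc, hU, hW, hor⟩ := sp_invol B halt hnd X hX z hzz hXX h2
  exact ⟨U, W, hc, fun u hu v hv => by rw [← hB]; exact hU u hu v hv,
    fun u hu v hv => by rw [← hB]; exact hW u hu v hv, hor⟩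

end Cfsg.Agent.S5962
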