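import Mathlib
import Cfsg.Statements.S5960
import Cfsg.Agent.Lib.helper17.Symp2
import Cfsg.Agent.S5957
import Cfsg.Agent.S5962
-- import your own Cfsg.Agent.* helpers here

set_option autoImplicit false
open scoped MatrixGroups
open Cfsg

namespace Cfsg.Agent.S5960


theorem comb_general {ι : Type} [Fintype ι] (π : ι → ι) (hπ : ∀ i, π (π i) = i) (a t : ℕ)
    (ha : 1 ≤ a) (hcard : Fintype.card ι = a * t) :
    ∃ (blk : ι → ℕ) (σ : ℕ → ℕ), (∀ j, σ (σ j) = j) ∧ (∀ j, j < t → σ j < t) ∧ (∀ i, blk i < t) ∧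
      (∀ i, blk (π i) = σ (blk i)) ∧ ∀ j, j < t → (∑ i, if blk i = j then 1 else 0) = a := by
  classical
  obtain ⟨ord, hord⟩ : ∃ ord : ι → ℕ, Function.Injective ord :=
    ⟨fun i => (Fintype.equivFin ι i : ℕ), fun i j h => (Fintype.equivFin ι).injective (Fin.ext h)⟩
  obtain ⟨φ, hφ⟩ : ∃ φ : ({i : ι // ord i < ord (π i)} ⊕ {i : ι // ord i < ord (π i)}) ⊕ {i : ι // π i = i} → ι,
      φ = Sum.elim (Sum.elim (fun k => k.1) (fun k => π k.1)) (fun l => l.1) := ⟨_, rfl⟩
  have hφinj : Function.Injective φ := by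
    rw [hφ]
    rintro ((⟨k, hk⟩ | ⟨k, hk⟩) | ⟨l, hl⟩) ((⟨k', hk'⟩ | ⟨k', hk'⟩) | ⟨l', hl'⟩) h
    · simp only [Sum.elim_inl] at h; subst h; rfl
    · simp only [Sum.elim_inl, Sum.elim_inr] at h
      exfalso; subst h; rw [hπ] at hk; omega
    · simp only [Sum.elim_inl, Sum.elim_inr] at h
      exfalso; subst h; rw [hl'] at hk; omega
    · simp only [Sum.elim_inl, Sum.elim_inr] at h
      exfalso; subst h; rw [hπ] at hk'; omega
    · simp only [Sum.elim_inl, Sum.elim_inr] at h
      have : k = k' := by rw [← hπ k, h, hπ]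
      subst this; rfl
    · simp only [Sum.elim_inl, Sum.elim_inr] at h
      exfalso
      have : k = π k := by
        have h2 : π (π k) = π l' := by rw [h]
        rw [hπ, hl', ← h] at h2
        exact h2
      rw [← this] at hk; omega
    · simp only [Sum.elim_inl, Sum.elim_inr] at h
      exfalso; subst h; rw [hl] at hk'; omega
    · simp only [Sum.elim_inl, Sum.elim_inr] at h
      exfalso
      have : k' = π k' := by
        have h2 : π l = π (π k') := by rw [h]
        rw [hπ, hl, h] at h2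
        exact h2.symm
      rw [← this] at hk'; omega
    · simp only [Sum.elim_inr] at h; subst h; rfl
  have hφsurj : Function.Surjective φ := by
    intro i
    by_cases h1 : π i = i
    · exact ⟨Sum.inr ⟨i, h1⟩, by rw [hφ]; rfl⟩
    · rcases lt_trichotomy (ord i) (ord (π i)) with h | h | h
      · exact ⟨Sum.inl (Sum.inl ⟨i, h⟩), by rw [hφ]; rfl⟩
      · exact absurd (hord h).symm h1
      · exact ⟨Sum.inl (Sum.inr ⟨π i, by rw [hπ]; exact h⟩), by rw [hφ]; exact hπ i⟩
  obtain ⟨E, hE⟩ : ∃ E : ({i : ι // ord i < ord (π i)} ⊕ {i : ι // ord i < ord (π i)}) ⊕ {i : ι // π i = i} ≃ ι,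
      ∀ x, E x = φ x := ⟨Equiv.ofBijective φ ⟨hφinj, hφsurj⟩, fun x => rfl⟩
  have hc : 2 * Fintype.card {i : ι // ord i < ord (π i)} + Fintype.card {i : ι // π i = i} = a * t := by
    rw [← hcard, ← Fintype.card_congr E, Fintype.card_sum, Fintype.card_sum]; ring
  obtain ⟨A, C, σ, h1, h2, h3, h4, h5, h6⟩ := Cfsg.Agent.S5957.comb a ha t
    (Finset.univ : Finset {i : ι // ord i < ord (π i)}) (Finset.univ : Finset {i : ι // π i = i})
    (by simpa using hc)
  obtain ⟨blk', hblk'⟩ : ∃ blk' : ({i : ι // ord i < ord (π i)} ⊕ {i : ι // ord i < ord (π i)}) ⊕ {i : ι // π i = i} → ℕ,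
      blk' = Sum.elim (Sum.elim A (fun k => σ (A k))) C := ⟨_, rfl⟩
  have b1 : ∀ k, blk' (Sum.inl (Sum.inl k)) = A k := fun k => by rw [hblk']; rfl
  have b2 : ∀ k, blk' (Sum.inl (Sum.inr k)) = σ (A k) := fun k => by rw [hblk']; rfl
  have b3 : ∀ l, blk' (Sum.inr l) = C l := fun l => by rw [hblk']; rfl
  have e1 : ∀ k, E (Sum.inl (Sum.inl k)) = k.1 := fun k => by rw [hE, hφ]; rfl
  have e2 : ∀ k, E (Sum.inl (Sum.inr k)) = π k.1 := fun k => by rw [hE, hφ]; rfl
  have e3 : ∀ l, E (Sum.inr l) = l.1 := fun l => by rw [hE, hφ]; rfl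
  refine ⟨fun i => blk' (E.symm i), σ, h1, h2, ?_, ?_, ?_⟩
  · have : ∀ x, blk' x < t := by
      rintro ((k | k) | l)
      · rw [b1]; exact h4 k (Finset.mem_univ _)
      · rw [b2]; exact h2 _ (h4 k (Finset.mem_univ _))
      · rw [b3]; exact (h5 l (Finset.mem_univ _)).1
    intro i; exact this _
  · have key : ∀ x, blk' (E.symm (π (E x))) = σ (blk' x) := by
      rintro ((k | k) | l)
      · rw [show π (E (Sum.inl (Sum.inl k))) = E (Sum.inl (Sum.inr k)) by rw [e1, e2],
          Equiv.symm_apply_apply, b2, b1]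
      · rw [show π (E (Sum.inl (Sum.inr k))) = E (Sum.inl (Sum.inl k)) by rw [e1, e2, hπ],
          Equiv.symm_apply_apply, b1, b2, h1]
      · rw [show π (E (Sum.inr l)) = E (Sum.inr l) by rw [e3]; exact l.2,
          Equiv.symm_apply_apply, b3]
        exact ((h5 l (Finset.mem_univ _)).2).symm
    intro i
    have := key (E.symm i)
    rwa [Equiv.apply_symm_apply] at this
  · intro j hj
    rw [← Equiv.sum_comp E]
    simp only [Equiv.symm_apply_apply]
    rw [Fintype.sum_sum_type, Fintype.sum_sum_type]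
    simp only [b1, b2, b3]
    exact h6 j hj



section Abstract
open Submodule

variable {F : Type*} [Field F] {V : Type*} [AddCommGroup V] [Module F V] [FiniteDimensional F V]
variable (B : LinearMap.BilinForm F V)

/-- hyperbolic system -/
def Hyp {ι : Type} (e f : ι → V) : Prop :=
  (∀ i i', B (e i) (e i') = 0) ∧ (∀ i i', B (f i) (f i') = 0) ∧
    (∀ i i', i ≠ i' → B (e i) (f i') = 0) ∧ (∀ i, B (e i) (f i) ≠ 0)

theorem hyp_coeff (halt : ∀ v, B v v = 0) {ι : Type} [Fintype ι] (e f : ι → V) (hh : Hyp B e f)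
    (c : ι ⊕ ι → F)
    (h0 : ∀ i, B (e i) (∑ x, c x • Sum.elim e f x) = 0 ∧ B (f i) (∑ x, c x • Sum.elim e f x) = 0) :
    ∀ x, c x = 0 := by
  classical
  have hsk := Cfsg.Agent.S5962.skew B halt
  obtain ⟨h1, h2, h3, h4⟩ := hh
  have key1 : ∀ i, B (e i) (∑ x, c x • Sum.elim e f x) = c (Sum.inr i) * B (e i) (f i) := by
    intro i
    rw [map_sum, Fintype.sum_sum_type]
    simp only [Sum.elim_inl, Sum.elim_inr, map_smul, smul_eq_mul, h1, mul_zero,
      Finset.sum_const_zero, zero_add]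
    rw [Finset.sum_eq_single i]
    · intro k _ hk; rw [h3 i k (Ne.symm hk), mul_zero]
    · intro h; exact absurd (Finset.mem_univ i) h
  have key2 : ∀ i, B (f i) (∑ x, c x • Sum.elim e f x) = c (Sum.inl i) * B (f i) (e i) := by
    intro i
    rw [map_sum, Fintype.sum_sum_type]
    simp only [Sum.elim_inl, Sum.elim_inr, map_smul, smul_eq_mul, h2, mul_zero,
      Finset.sum_const_zero, add_zero]
    rw [Finset.sum_eq_single i]
    · intro k _ hk; rw [hsk, h3 k i hk, neg_zero, mul_zero]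
    · intro h; exact absurd (Finset.mem_univ i) h
  rintro (i | i)
  · have := (h0 i).2
    rw [key2] at this
    rcases mul_eq_zero.1 this with h | h
    · exact h
    · exfalso; rw [hsk] at h; exact h4 i (neg_eq_zero.1 h)
  · have := (h0 i).1
    rw [key1] at this
    exact (mul_eq_zero.1 this).resolve_right (h4 i)

theorem hyp_li (halt : ∀ v, B v v = 0) {ι : Type} [Fintype ι] (e f : ι → V) (hh : Hyp B e f) :
    LinearIndependent F (Sum.elim e f) := by
  rw [Fintype.linearIndependent_iff]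
  intro c hc x
  exact hyp_coeff B halt e f hh c (fun i => by rw [hc]; simp) x

theorem hyp_disjoint (halt : ∀ v, B v v = 0) {ι : Type} [Fintype ι] (e f : ι → V) (hh : Hyp B e f) :
    Disjoint (span F (Set.range (Sum.elim e f))) (B.orthogonal (span F (Set.range (Sum.elim e f)))) := by
  rw [Submodule.disjoint_def]
  intro u hu hu2
  obtain ⟨c, rfl⟩ := (Submodule.mem_span_range_iff_exists_fun F).1 hu
  have hc := hyp_coeff B halt e f hh c (fun i =>
    ⟨hu2 _ (subset_span ⟨Sum.inl i, rfl⟩), hu2 _ (subset_span ⟨Sum.inr i, rfl⟩)⟩)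
  simp [hc]

/-- a plane decomposition of `M` compatible with `X` -/
def Good (X : V →ₗ[F] V) (M : Submodule F V) : Prop :=
  ∃ (ι : Type) (_ : Fintype ι) (e f : ι → V) (π : ι → ι), Hyp B e f ∧ (∀ i, π (π i) = i) ∧
    (∀ i, X (e i) ∈ span F {e (π i), f (π i)}) ∧ (∀ i, X (f i) ∈ span F {e (π i), f (π i)}) ∧
    span F (Set.range (Sum.elim e f)) = M

theorem good_extend (halt : ∀ v, B v v = 0) (X : V →ₗ[F] V) (M : Submodule F V) (hG : Good B X M)
    {ν : Type} [Fintype ν] [Nonempty ν] (en fn : ν → V) (πn : ν → ν)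
    (hen : ∀ j, en j ∈ B.orthogonal M) (hfn : ∀ j, fn j ∈ B.orthogonal M) (hh : Hyp B en fn)
    (hπn : ∀ j, πn (πn j) = j)
    (hXe : ∀ j, X (en j) ∈ span F {en (πn j), fn (πn j)})
    (hXf : ∀ j, X (fn j) ∈ span F {en (πn j), fn (πn j)}) :
    ∃ M', M < M' ∧ Good B X M' := by
  obtain ⟨ι, _, e, f, π, hyp, hπ, hXe0, hXf0, hspan⟩ := hG
  have hsk := Cfsg.Agent.S5962.skew B halt
  have hdis : Disjoint M (B.orthogonal M) := hspan ▸ hyp_disjoint B halt e f hyp
  have heM : ∀ i, e i ∈ M := fun i => by rw [← hspan]; exact subset_span ⟨Sum.inl i, rfl⟩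
  have hfM : ∀ i, f i ∈ M := fun i => by rw [← hspan]; exact subset_span ⟨Sum.inr i, rfl⟩
  refine ⟨span F (Set.range (Sum.elim (Sum.elim e en) (Sum.elim f fn))), ?_, ι ⊕ ν, inferInstance,
    Sum.elim e en, Sum.elim f fn, Sum.map π πn, ?_, ?_, ?_, ?_, rfl⟩
  · have hle : M ≤ span F (Set.range (Sum.elim (Sum.elim e en) (Sum.elim f fn))) := by
      rw [← hspan]
      apply span_mono
      rintro _ ⟨(i | i), rfl⟩
      · exact ⟨Sum.inl (Sum.inl i), rfl⟩
      · exact ⟨Sum.inr (Sum.inl i), rfl⟩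
    refine lt_of_le_of_ne hle (fun heq => ?_)
    obtain ⟨j⟩ := ‹Nonempty ν›
    have h1 : en j ∈ M := by rw [heq]; exact subset_span ⟨Sum.inl (Sum.inr j), rfl⟩
    have h2 : en j = 0 := (Submodule.disjoint_def.1 hdis) _ h1 (hen j)
    have := hh.2.2.2 j
    rw [h2] at this; simp at this
  · obtain ⟨a1, a2, a3, a4⟩ := hyp
    obtain ⟨b1, b2, b3, b4⟩ := hh
    have o1 : ∀ m ∈ M, ∀ y ∈ B.orthogonal M, B m y = 0 := fun m hm y hy => hy m hm
    have o2 : ∀ m ∈ M, ∀ y ∈ B.orthogonal M, B y m = 0 := fun m hm y hy => by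
      rw [hsk, show B m y = 0 from hy m hm, neg_zero]
    refine ⟨?_, ?_, ?_, ?_⟩
    · rintro (i | i) (i' | i')
      · exact a1 i i'
      · exact o1 _ (heM i) _ (hen i')
      · exact o2 _ (heM i') _ (hen i)
      · exact b1 i i'
    · rintro (i | i) (i' | i')
      · exact a2 i i'
      · exact o1 _ (hfM i) _ (hfn i')
      · exact o2 _ (hfM i') _ (hfn i)
      · exact b2 i i'
    · rintro (i | i) (i' | i') hne
      · exact a3 i i' (fun h => hne (by rw [h]))
      · exact o1 _ (heM i) _ (hfn i')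
      · exact o2 _ (hfM i') _ (hen i)
      · exact b3 i i' (fun h => hne (by rw [h]))
    · rintro (i | i)
      · exact a4 i
      · exact b4 i
  · rintro (i | i)
    · simp [hπ]
    · simp [hπn]
  · rintro (i | i)
    · exact hXe0 i
    · exact hXe i
  · rintro (i | i)
    · exact hXf0 i
    · exact hXf i

theorem good_step (halt : ∀ v, B v v = 0) (hnd : ∀ u, u ≠ 0 → ∃ v, B u v ≠ 0) (X : V →ₗ[F] V)
    (hX : ∀ u v, B (X u) (X v) = B u v) (z : F) (hz : z * z = 1) (hXX : ∀ v, X (X v) = z • v)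
    (M : Submodule F V) (hG : Good B X M) (hne : M ≠ ⊤) : ∃ M', M < M' ∧ Good B X M' := by
  have hsk := Cfsg.Agent.S5962.skew B halt
  have hG' := hG
  obtain ⟨ι, _, e, f, π, hyp, hπ, hXe0, hXf0, hspan⟩ := hG'
  have hdis : Disjoint M (B.orthogonal M) := hspan ▸ hyp_disjoint B halt e f hyp
  have heM : ∀ i, e i ∈ M := fun i => by rw [← hspan]; exact subset_span ⟨Sum.inl i, rfl⟩
  have hfM : ∀ i, f i ∈ M := fun i => by rw [← hspan]; exact subset_span ⟨Sum.inr i, rfl⟩
  have hpair : ∀ i, span F {e i, f i} ≤ M := by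
    intro i
    refine span_le.2 ?_
    intro v hv
    rcases hv with rfl | rfl
    · exact heM i
    · exact hfM i
  have hXM : ∀ m ∈ M, X m ∈ M := by
    have : M.map X ≤ M := by
      rw [← hspan, Submodule.map_span_le]
      rintro _ ⟨(i | i), rfl⟩
      · rw [hspan]; exact hpair _ (hXe0 i)
      · rw [hspan]; exact hpair _ (hXf0 i)
    exact fun m hm => this (mem_map_of_mem hm)
  obtain ⟨⟨y, hy, hy0⟩, hnd', hXp⟩ :=
    Cfsg.Agent.S5962.perp_facts B halt hnd X hX z hz hXX M hdis hXM hne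
  by_cases hc1 : ∃ v ∈ B.orthogonal M, B v (X v) ≠ 0
  · obtain ⟨v, hv, hvx⟩ := hc1
    refine good_extend B halt X M hG (ν := Unit) (fun _ => v) (fun _ => X v) id (fun _ => hv)
      (fun _ => hXp v hv)
      ⟨fun _ _ => halt v, fun _ _ => halt _, fun i i' h => absurd (Subsingleton.elim i i') h,
        fun _ => hvx⟩ (fun _ => rfl) ?_ ?_
    · intro _; exact subset_span (by simp)
    · intro _; rw [hXX]; exact smul_mem _ _ (subset_span (by simp))
  · push Not at hc1
    by_cases hc2 : ∀ v ∈ B.orthogonal M, X v ∈ span F {v}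
    · obtain ⟨v', hv', hyv'⟩ := hnd' y hy hy0
      refine good_extend B halt X M hG (ν := Unit) (fun _ => y) (fun _ => v') id (fun _ => hy)
        (fun _ => hv')
        ⟨fun _ _ => halt y, fun _ _ => halt _, fun i i' h => absurd (Subsingleton.elim i i') h,
          fun _ => hyv'⟩ (fun _ => rfl) ?_ ?_
      · intro _; exact span_mono (by simp) (hc2 y hy)
      · intro _; exact span_mono (by simp) (hc2 v' hv')
    · push Not at hc2
      obtain ⟨v, hv, hvx⟩ := hc2
      obtain ⟨w, hw, hw1, hw2⟩ : ∃ w ∈ B.orthogonal M, B (X v) w = 0 ∧ B v w ≠ 0 := by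
        by_contra hcon
        push Not at hcon
        have hXv0 : X v ≠ 0 := fun h => hvx (by rw [h]; exact zero_mem _)
        obtain ⟨w₀, hw₀, hw₀'⟩ := hnd' (X v) (hXp v hv) hXv0
        have hkey : ∀ w ∈ B.orthogonal M, B (v - (B v w₀ / B (X v) w₀) • X v) w = 0 := by
          intro w hw
          have h1 := hcon (w - (B (X v) w / B (X v) w₀) • w₀) (sub_mem hw (smul_mem _ _ hw₀)) (by
            rw [map_sub, map_smul, smul_eq_mul, div_mul_cancel₀ _ hw₀', sub_self])
          rw [map_sub, map_smul, smul_eq_mul] at h1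
          rw [map_sub, LinearMap.sub_apply, map_smul, LinearMap.smul_apply, smul_eq_mul]
          rw [← h1]; ring
        have hzero : v - (B v w₀ / B (X v) w₀) • X v = 0 := by
          by_contra hne0
          obtain ⟨w, hw, hw'⟩ := hnd' _ (sub_mem hv (smul_mem _ _ (hXp v hv))) hne0
          exact hw' (hkey w hw)
        apply hvx
        have hv_eq : v = (B v w₀ / B (X v) w₀) • X v := sub_eq_zero.1 hzero
        have : X v = ((B v w₀ / B (X v) w₀) * z) • v := by
          conv_lhs => rw [hv_eq]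
          rw [map_smul, hXX, smul_smul]
        rw [this]; exact smul_mem _ _ (mem_span_singleton_self v)
      have hvXv : B v (X v) = 0 := hc1 v hv
      have hwXw : B w (X w) = 0 := hc1 w hw
      have hvXw : B v (X w) = 0 := by
        have : B v (X w) = B (X v) (X (X w)) := (hX _ _).symm
        rw [this, hXX, map_smul, hw1, smul_zero]
      refine good_extend B halt X M hG (ν := Bool) (fun b => cond b (X v) v) (fun b => cond b (X w) w)
        not ?_ ?_ ⟨?_, ?_, ?_, ?_⟩ ?_ ?_ ?_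
      · rintro (_ | _)
        · exact hv
        · exact hXp v hv
      · rintro (_ | _)
        · exact hw
        · exact hXp w hw
      · rintro (_ | _) (_ | _)
        · exact halt v
        · exact hvXv
        · show B (X v) v = 0
          rw [hsk, hvXv, neg_zero]
        · exact halt _
      · rintro (_ | _) (_ | _)
        · exact halt w
        · exact hwXw
        · show B (X w) w = 0
          rw [hsk, hwXw, neg_zero]
        · exact halt _
      · rintro (_ | _) (_ | _) hne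
        · exact absurd rfl hne
        · exact hvXw
        · exact hw1
        · exact absurd rfl hne
      · rintro (_ | _)
        · exact hw2
        · show B (X v) (X w) ≠ 0
          rw [hX]; exact hw2
      · rintro (_ | _) <;> rfl
      · rintro (_ | _)
        · show X v ∈ span F {X v, X w}
          exact subset_span (by simp)
        · show X (X v) ∈ span F {v, w}
          rw [hXX]; exact smul_mem _ _ (subset_span (by simp))
      · rintro (_ | _)
        · show X w ∈ span F {X v, X w}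
          exact subset_span (by simp)
        · show X (X w) ∈ span F {v, w}
          rw [hXX]; exact smul_mem _ _ (subset_span (by simp))

theorem planes (halt : ∀ v, B v v = 0) (hnd : ∀ u, u ≠ 0 → ∃ v, B u v ≠ 0) (X : V →ₗ[F] V)
    (hX : ∀ u v, B (X u) (X v) = B u v) (z : F) (hz : z * z = 1) (hXX : ∀ v, X (X v) = z • v) :
    Good B X ⊤ := by
  have h0 : Good B X ⊥ :=
    ⟨Empty, inferInstance, Empty.elim, Empty.elim, id,
      ⟨fun i => i.elim, fun i => i.elim, fun i => i.elim, fun i => i.elim⟩,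
      fun i => i.elim, fun i => i.elim, fun i => i.elim, by simp⟩
  obtain ⟨M, hM, hmax⟩ := wellFounded_gt.has_min {M : Submodule F V | Good B X M} ⟨⊥, h0⟩
  by_contra hcon
  have hne : M ≠ ⊤ := fun h => hcon (h ▸ hM)
  obtain ⟨M', hlt, hM'⟩ := good_step B halt hnd X hX z hz hXX M hM hne
  exact hmax M' hM' hlt

theorem span_orth (S T : Set V) (h : ∀ s ∈ S, ∀ t ∈ T, B s t = 0) :
    ∀ u ∈ span F S, ∀ v ∈ span F T, B u v = 0 := by
  intro u hu v hv
  have h1 : ∀ s ∈ S, B s v = 0 := by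
    intro s hs
    have : span F T ≤ LinearMap.ker (B s) := span_le.2 (fun t ht => h s hs t ht)
    exact this hv
  have : span F S ≤ LinearMap.ker (B.flip v) := span_le.2 (fun s hs => h1 s hs)
  exact this hu

end Abstract


/-- Involutions of PSp_n(q) and imprimitive subgroups. Here `T = PSp_n(q)`, `n = 2d ≥ 4`, `(n, q) ≠ (4, 2)`, realised through the symplectic matrices over the field `F` with `q` elements and the standard alternating form; `n = a·t` with `a` even and `t ≥ 2`, and Ω is the (nonempty) set of orthogonal decompositions of `F^n` into `t` nondegenerate subspaces of dimension `a` (unordered; counted as ordered ones divided by `t!`), whose stabilizers are the imprimitive subgroups of type Sp_a(q) ≀ S_t (maximality is not assumed); an element of `T` of prime order `r` (a symplectic matrix `x` with `x^r` scalar, `x` not scalar) fixes a point of Ω when it permutes the summands of some such decomposition. If the number of such decompositions is even, then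 every involution of `T` stabilizes one of them (the action is 2-elusive). -/
theorem result {F : Type*} [Field F] [Fintype F] {p : ℕ} [Fact p.Prime] [CharP F p] {q : ℕ} (hq : Fintype.card F = q)
    (d : ℕ) (hd : 2 ≤ d) (hT : (d, q) ≠ (2, 2))
    (a t : ℕ) (hat : 2 * d = a * t) (ha : 2 ≤ a) (hae : Even a) (ht : 2 ≤ t) (hΩ : 2 ∣ Nat.card {D : Fin t → Submodule F (Fin d ⊕ Fin d → F) // (Cfsg.Geo.IsMDecomposition a D ∧ (∀ j, ∀ u ∈ D j, u ≠ 0 → ∃ v ∈ D j, Cfsg.sympForm d F u v ≠ 0) ∧
          (∀ j j', j ≠ j' → ∀ u ∈ D j, ∀ v ∈ D j', Cfsg.sympForm d F u v = 0))} / Nat.factorial t)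
    (x : ↥(Matrix.symplecticGroup (Fin d) F))
    (hx1 : ∃ z : F, ((x ^ 2 : ↥(Matrix.symplecticGroup (Fin d) F)) : Matrix (Fin d ⊕ Fin d) (Fin d ⊕ Fin d) F) = z • (1 : Matrix (Fin d ⊕ Fin d) (Fin d ⊕ Fin d) F))
    (hx2 : ∀ z : F, (x : Matrix (Fin d ⊕ Fin d) (Fin d ⊕ Fin d) F) ≠ z • (1 : Matrix (Fin d ⊕ Fin d) (Fin d ⊕ Fin d) F)) :
    ∃ D : Fin t → Submodule F (Fin d ⊕ Fin d → F), (Cfsg.Geo.IsMDecomposition a D ∧ (∀ j, ∀ u ∈ D j, u ≠ 0 → ∃ v ∈ D j, Cfsg.sympForm d F u v ≠ 0) ∧
          (∀ j j', j ≠ j' → ∀ u ∈ D j, ∀ v ∈ D j', Cfsg.sympForm d F u v = 0)) ∧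
        ∃ σ : Equiv.Perm (Fin t), ∀ j, (D j).map (Matrix.toLin' (x : Matrix (Fin d ⊕ Fin d) (Fin d ⊕ Fin d) F)) = D (σ j) := by
  classical
  obtain ⟨z, hz⟩ := hx1
  obtain ⟨B, hB⟩ : ∃ B : LinearMap.BilinForm F (Fin d ⊕ Fin d → F), ∀ u v, B u v = Cfsg.sympForm d F u v :=
    ⟨LinearMap.mk₂ F (Cfsg.sympForm d F) (Cfsg.Agent.Lib.helper17.sympForm_add_left d)
      (fun c u v => by rw [smul_eq_mul]; exact Cfsg.Agent.Lib.helper17.sympForm_smul_left d c u v)
      (Cfsg.Agent.Lib.helper17.sympForm_add_right d)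
      (fun c u v => by rw [smul_eq_mul]; exact Cfsg.Agent.Lib.helper17.sympForm_smul_right d c u v),
      fun u v => rfl⟩
  obtain ⟨X, hXdef⟩ : ∃ X : (Fin d ⊕ Fin d → F) →ₗ[F] (Fin d ⊕ Fin d → F),
      X = Matrix.toLin' (x : Matrix (Fin d ⊕ Fin d) (Fin d ⊕ Fin d) F) := ⟨_, rfl⟩
  rw [← hXdef]
  have hXX : ∀ v, X (X v) = z • v := by
    intro v
    rw [hXdef, Matrix.toLin'_apply, Matrix.toLin'_apply, Matrix.mulVec_mulVec]
    have : (x : Matrix (Fin d ⊕ Fin d) (Fin d ⊕ Fin d) F) * x = z • 1 := by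
      rw [← hz]; simp [pow_two]
    rw [this, Matrix.smul_mulVec, Matrix.one_mulVec]
  have halt : ∀ v, B v v = 0 := fun v => by rw [hB]; exact Cfsg.Agent.Lib.helper17.sympForm_self d v
  have hsk := Cfsg.Agent.S5962.skew B halt
  have hnd : ∀ u, u ≠ 0 → ∃ v, B u v ≠ 0 := by
    intro u hu
    obtain ⟨w, hw⟩ := Cfsg.Agent.Lib.helper17.exists_sympForm_ne_zero d u hu
    exact ⟨w, by rw [hB]; exact hw⟩
  have hX : ∀ u v, B (X u) (X v) = B u v := by
    intro u v
    rw [hB, hB, hXdef, Matrix.toLin'_apply, Matrix.toLin'_apply]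
    exact Cfsg.Agent.Lib.helper17.sympForm_mulVec_of_mem d x.2 u v
  have hzz : z * z = 1 := by
    obtain ⟨u0, hu0def⟩ : ∃ u0 : Fin d ⊕ Fin d → F, u0 = Pi.single (Sum.inl ⟨0, by omega⟩) 1 := ⟨_, rfl⟩
    have hu : u0 ≠ 0 := by
      intro h
      have := congrFun h (Sum.inl ⟨0, by omega⟩)
      rw [hu0def] at this
      simp at this
    obtain ⟨v, hv⟩ := hnd _ hu
    have h1 : B (X (X u0)) (X (X v)) = B u0 v := by rw [hX, hX]
    rw [hXX, hXX] at h1
    simp only [map_smul, LinearMap.smul_apply, smul_eq_mul] at h1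
    have h3 : (z * z - 1) * B u0 v = 0 := by linear_combination h1
    rcases mul_eq_zero.1 h3 with h4 | h4
    · exact sub_eq_zero.1 h4
    · exact absurd h4 hv
  have hinj : Function.Injective X := by
    intro u v huv
    have h := hXX (u - v)
    rw [map_sub, huv, sub_self, map_zero] at h
    have hz0 : z ≠ 0 := by rintro rfl; simp at hzz
    rcases smul_eq_zero.1 h.symm with h' | h'
    · exact absurd h' hz0
    · exact sub_eq_zero.1 h'
  obtain ⟨ι, _, e, f, π, hyp, hπ, hXe, hXf, hspan⟩ := planes B halt hnd X hX z hzz hXX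
  have hli := hyp_li B halt e f hyp
  obtain ⟨b, hb⟩ : ∃ b : Module.Basis (ι ⊕ ι) F (Fin d ⊕ Fin d → F), ∀ i, b i = Sum.elim e f i :=
    ⟨Module.Basis.mk hli (by rw [hspan]), fun i => Module.Basis.mk_apply _ _ i⟩
  have hcard : Fintype.card ι = d := by
    have h1 := Module.finrank_eq_card_basis b
    rw [Module.finrank_fintype_fun_eq_card, Fintype.card_sum, Fintype.card_sum, Fintype.card_fin] at h1
    omega
  obtain ⟨a', rfl⟩ : ∃ a', a = 2 * a' := by
    obtain ⟨k, hk⟩ := hae; exact ⟨k, by omega⟩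
  have hcard' : Fintype.card ι = a' * t := by
    have : 2 * d = 2 * (a' * t) := by rw [hat]; ring
    omega
  obtain ⟨blk, σ, h1, h2, h3, h4, h5⟩ := comb_general π hπ a' t (by omega) hcard'
  obtain ⟨pr, hpr⟩ : ∃ pr : ι ⊕ ι → ι, pr = Sum.elim id id := ⟨_, rfl⟩
  have hbo : ∀ i i', pr i ≠ pr i' → B (b i) (b i') = 0 := by
    rw [hpr]
    rintro (i | i) (i' | i') h
    · rw [hb, hb]; exact hyp.1 i i'
    · rw [hb, hb]; exact hyp.2.2.1 i i' h
    · rw [hb, hb]
      show B (f i) (e i') = 0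
      rw [hsk, hyp.2.2.1 i' i (Ne.symm h), neg_zero]
    · rw [hb, hb]; exact hyp.2.1 i i'
  have hpair : ∀ k, Submodule.span F {e k, f k} ≤ Submodule.span F (b '' {i | blk (pr i) = blk k}) := by
    intro k
    refine Submodule.span_le.2 ?_
    intro v hv
    rcases hv with rfl | rfl
    · exact Submodule.subset_span ⟨Sum.inl k, by rw [hpr]; rfl, hb _⟩
    · exact Submodule.subset_span ⟨Sum.inr k, by rw [hpr]; rfl, hb _⟩
  have hXb : ∀ i, X (b i) ∈ Submodule.span F (b '' {i' | blk (pr i') = σ (blk (pr i))}) := by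
    rintro (k | k)
    · have := hpair (π k) (hXe k)
      rw [h4 k] at this
      rw [hb]
      have hk : pr (Sum.inl k) = k := by rw [hpr]; rfl
      rw [hk]; exact this
    · have := hpair (π k) (hXf k)
      rw [h4 k] at this
      rw [hb]
      have hk : pr (Sum.inr k) = k := by rw [hpr]; rfl
      rw [hk]; exact this
  obtain ⟨D, hD⟩ : ∃ D : Fin t → Submodule F (Fin d ⊕ Fin d → F),
      D = fun j : Fin t => Submodule.span F (b '' {i | blk (pr i) = (j : ℕ)}) := ⟨_, rfl⟩
  have hDfin : ∀ j, Module.finrank F (D j) = 2 * a' := by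
    intro j
    have hli' : LinearIndependent F (fun i : {i // blk (pr i) = (j : ℕ)} => b i) :=
      b.linearIndependent.comp _ Subtype.val_injective
    have hr : Set.range (fun i : {i // blk (pr i) = (j : ℕ)} => b i) = b '' {i | blk (pr i) = (j : ℕ)} := by
      ext v; constructor
      · rintro ⟨⟨i, hi⟩, rfl⟩; exact ⟨i, hi, rfl⟩
      · rintro ⟨i, hi, rfl⟩; exact ⟨⟨i, hi⟩, rfl⟩
    have hfr := finrank_span_eq_card hli'
    rw [hr] at hfr
    rw [hD]
    show Module.finrank F (Submodule.span F (b '' {i | blk (pr i) = (j : ℕ)})) = 2 * a'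
    rw [hfr, Fintype.card_subtype, Finset.card_filter, Fintype.sum_sum_type, hpr]
    simp only [Sum.elim_inl, Sum.elim_inr, id]
    rw [two_mul]
    have h5' := h5 j j.2
    exact congrArg₂ (· + ·) h5' h5'
  have hσlt : ∀ j : Fin t, σ j < t := fun j => h2 j j.2
  obtain ⟨σf, hσf⟩ : ∃ σf : Fin t → Fin t, σf = fun j => ⟨σ j, hσlt j⟩ := ⟨_, rfl⟩
  have hσinv : Function.Involutive σf := by
    intro j
    rw [hσf]
    exact Fin.ext (h1 j)
  have horth : ∀ j j' : Fin t, j ≠ j' → ∀ u ∈ D j, ∀ v ∈ D j', B u v = 0 := by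
    intro j j' hjj' u hu v hv
    rw [hD] at hu hv
    refine span_orth B _ _ ?_ u hu v hv
    rintro _ ⟨i, hi, rfl⟩ _ ⟨i', hi', rfl⟩
    refine hbo i i' (fun h => hjj' (Fin.ext ?_))
    rw [← show blk (pr i) = (j : ℕ) from hi, ← show blk (pr i') = (j' : ℕ) from hi', h]
  have hsup : iSup D = ⊤ := by
    rw [eq_top_iff, ← b.span_eq]
    refine Submodule.span_le.2 ?_
    rintro _ ⟨i, rfl⟩
    have hmem : b i ∈ D ⟨blk (pr i), h3 _⟩ := by
      rw [hD]
      exact Submodule.subset_span ⟨i, rfl, rfl⟩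
    exact (le_iSup D ⟨blk (pr i), h3 _⟩) hmem
  refine ⟨D, ⟨⟨ht, by omega, hDfin, ?_, hsup⟩, ?_, ?_⟩, hσinv.toPerm σf, ?_⟩
  · rw [iSupIndep_def]
    intro j
    have hle : (⨆ (j') (_ : j' ≠ j), D j') ≤ Submodule.span F (b '' {i | blk (pr i) ≠ (j : ℕ)}) := by
      refine iSup_le (fun j' => iSup_le (fun hj' => ?_))
      rw [hD]
      refine Submodule.span_mono ?_
      rintro _ ⟨i, hi, rfl⟩
      refine ⟨i, ?_, rfl⟩
      show blk (pr i) ≠ (j : ℕ)
      rw [show blk (pr i) = (j' : ℕ) from hi]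
      exact fun h => hj' (Fin.ext h)
    refine Disjoint.mono_right hle ?_
    rw [hD]
    refine b.linearIndependent.disjoint_span_image ?_
    rw [Set.disjoint_left]
    intro i hi hi'
    exact hi' hi
  · intro j u hu hu0
    obtain ⟨v, hv⟩ := hnd u hu0
    -- decompose v
    have hv' : v ∈ D j ⊔ Submodule.span F (b '' {i | blk (pr i) ≠ (j : ℕ)}) := by
      have : D j ⊔ Submodule.span F (b '' {i | blk (pr i) ≠ (j : ℕ)}) = ⊤ := by
        rw [hD]
        show Submodule.span F (b '' {i | blk (pr i) = (j : ℕ)}) ⊔ _ = ⊤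
        rw [← Submodule.span_union, ← Set.image_union]
        have : {i | blk (pr i) = (j : ℕ)} ∪ {i | blk (pr i) ≠ (j : ℕ)} = Set.univ := by
          ext i; simp [em]
        rw [this, Set.image_univ, b.span_eq]
      rw [this]; exact Submodule.mem_top
    obtain ⟨v₁, hv₁, v₂, hv₂, rfl⟩ := Submodule.mem_sup.1 hv'
    have h0 : B u v₂ = 0 := by
      rw [hD] at hu
      refine span_orth B _ _ ?_ u hu v₂ hv₂
      rintro _ ⟨i, hi, rfl⟩ _ ⟨i', hi', rfl⟩
      refine hbo i i' (fun h => hi' ?_)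
      rw [← h]; exact hi
    refine ⟨v₁, hv₁, ?_⟩
    rw [map_add, h0, add_zero] at hv
    rw [← hB]; exact hv
  · intro j j' hjj' u hu v hv
    rw [← hB]; exact horth j j' hjj' u hu v hv
  · intro j
    have hle : (D j).map X ≤ D (σf j) := by
      rw [hD]
      show Submodule.map X (Submodule.span F (b '' {i | blk (pr i) = (j : ℕ)})) ≤ _
      rw [Submodule.map_span]
      refine Submodule.span_le.2 ?_
      rintro _ ⟨_, ⟨i, hi, rfl⟩, rfl⟩
      have := hXb i
      rw [show blk (pr i) = (j : ℕ) from hi] at this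
      rw [hσf]
      exact this
    have hfr : Module.finrank F ((D j).map X) = Module.finrank F (D (σf j)) := by
      rw [hDfin, ← hDfin j]
      exact (Submodule.equivMapOfInjective X hinj (D j)).finrank_eq.symm
    show (D j).map X = D (σf j)
    exact Submodule.eq_of_le_of_finrank_eq hle hfr

end Cfsg.Agent.S5960
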