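import Cfsg.Statements.S5961
import Cfsg.Agent.Lib.helper24.SpG

set_option autoImplicit false
open scoped MatrixGroups
open Cfsg

namespace Cfsg.Agent.S5961

/-- Elements of odd prime order of PSp_n(q) and imprimitive subgroups. Here `T = PSp_n(q)`, `n = 2d ≥ 4`, `(n, q) ≠ (4, 2)`, realised through the symplectic matrices over the field `F` with `q` elements and the standard alternating form; `n = a·t` with `a` even and `t ≥ 2`, and Ω is the (nonempty) set of orthogonal decompositions of `F^n` into `t` nondegenerate subspaces of dimension `a` (unordered; counted as ordered ones divided by `t!`), whose stabilizers are the imprimitive subgroups of type Sp_a(q) ≀ S_t (maximality is not assumed); an element of `T` of prime order `r` (a symplectic matrix `x` with `x^r` scalar, `x` not scalar) fixes a point of Ω when it permutes the summands of some such decomposition. Let `r ≠ p` be an odd prime dividing the number of such decompositions, let `i` be the multiplicative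 order of `q` modulo `r`, `c = i` if `i` is even and `c = 2i` if `i` is odd, and write `k = n mod c`, `ℓ = a mod c`. Then every element of `T` of order `r` stabilizes such a decomposition if and only if `c ≤ a` and `k = t·ℓ`. -/
theorem result {F : Type*} [Field F] [Fintype F] {p : ℕ} [Fact p.Prime] [CharP F p] {q : ℕ} (hq : Fintype.card F = q)
    (d : ℕ) (hd : 2 ≤ d) (hT : (d, q) ≠ (2, 2))
    (a t : ℕ) (hat : 2 * d = a * t) (ha : 2 ≤ a) (hae : Even a) (ht : 2 ≤ t)
    (r : ℕ) [Fact r.Prime] (hr2 : r ≠ 2) (hrp : r ≠ p) (hΩ : r ∣ Nat.card {D : Fin t → Submodule F (Fin d ⊕ Fin d → F) // (Cfsg.Geo.IsMDecomposition a D ∧ (∀ j, ∀ u ∈ D j, u ≠ 0 → ∃ v ∈ D j, Cfsg.sympForm d F u v ≠ 0) ∧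
          (∀ j j', j ≠ j' → ∀ u ∈ D j, ∀ v ∈ D j', Cfsg.sympForm d F u v = 0))} / Nat.factorial t)
    (i c : ℕ) (hi : i = orderOf (q : ZMod r)) (hc : c = if Even i then i else 2 * i) :
    (∀ x : ↥(Matrix.symplecticGroup (Fin d) F),
      (∃ z : F, ((x ^ r : ↥(Matrix.symplecticGroup (Fin d) F)) : Matrix (Fin d ⊕ Fin d) (Fin d ⊕ Fin d) F) = z • (1 : Matrix (Fin d ⊕ Fin d) (Fin d ⊕ Fin d) F)) →
      (∀ z : F, (x : Matrix (Fin d ⊕ Fin d) (Fin d ⊕ Fin d) F) ≠ z • (1 : Matrix (Fin d ⊕ Fin d) (Fin d ⊕ Fin d) F)) →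
      ∃ D : Fin t → Submodule F (Fin d ⊕ Fin d → F), (Cfsg.Geo.IsMDecomposition a D ∧ (∀ j, ∀ u ∈ D j, u ≠ 0 → ∃ v ∈ D j, Cfsg.sympForm d F u v ≠ 0) ∧
          (∀ j j', j ≠ j' → ∀ u ∈ D j, ∀ v ∈ D j', Cfsg.sympForm d F u v = 0)) ∧
        ∃ σ : Equiv.Perm (Fin t), ∀ j, (D j).map (Matrix.toLin' (x : Matrix (Fin d ⊕ Fin d) (Fin d ⊕ Fin d) F)) = D (σ j)) ↔
    (c ≤ a ∧ (2 * d) % c = t * (a % c)) := by
  subst hq
  have hequiv : ∀ D : Fin t → Submodule F (Fin d ⊕ Fin d → F),
      (Cfsg.Geo.IsMDecomposition a D ∧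
        (∀ j, ∀ u ∈ D j, u ≠ 0 → ∃ v ∈ D j, Cfsg.sympForm d F u v ≠ 0) ∧
        (∀ j j', j ≠ j' → ∀ u ∈ D j, ∀ v ∈ D j', Cfsg.sympForm d F u v = 0)) ↔
      Cfsg.Agent.Lib.helper24.SpDecomp (Cfsg.Agent.S0245.omegaJ d F) a D := by
    intro D
    constructor
    · rintro ⟨h1, h2, h3⟩
      refine ⟨h1.finrank_eq, h1.indep, h1.iSup_eq_top, ?_, ?_⟩
      · intro j u hu hu2
        by_contra hu0
        obtain ⟨v, hv, hne⟩ := h2 j u hu hu0
        apply hne
        rw [← Cfsg.Agent.Lib.helper24.sp_omega_eq]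
        exact hu2 v hv
      · intro j j' hne u hu v hv
        rw [Cfsg.Agent.Lib.helper24.sp_omega_eq]
        exact h3 j j' hne u hu v hv
    · intro hD
      refine ⟨⟨ht, by omega, hD.dim, hD.indep, hD.top⟩, ?_, ?_⟩
      · intro j u hu hu0
        by_contra hcon
        push Not at hcon
        apply hu0
        apply hD.nd j u hu
        intro v hv
        rw [Cfsg.Agent.Lib.helper24.sp_omega_eq]
        exact hcon v hv
      · intro j j' hne u hu v hv
        rw [← Cfsg.Agent.Lib.helper24.sp_omega_eq]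
        exact hD.orth j j' hne u hu v hv
  have hΩ' : r ∣ Nat.card {D : Fin t → Submodule F (Fin d ⊕ Fin d → F) //
      Cfsg.Agent.Lib.helper24.SpDecomp (Cfsg.Agent.S0245.omegaJ d F) a D} / Nat.factorial t := by
    rw [← Nat.card_congr (Equiv.subtypeEquivRight hequiv)]
    exact hΩ
  have hmain := Cfsg.Agent.Lib.helper24.sp_main (F := F) (p := p) d hd a t hat ha hae r hr2 hrp hΩ'
    i c hi hc
  refine Iff.trans ?_ hmain
  constructor
  · intro H x hx hns
    obtain ⟨D, hD, σ, hσ⟩ := H x hx hns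
    exact ⟨D, (hequiv D).mp hD, σ, hσ⟩
  · intro H x hx hns
    obtain ⟨D, hD, σ, hσ⟩ := H x hx hns
    exact ⟨D, (hequiv D).mpr hD, σ, hσ⟩

end Cfsg.Agent.S5961
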