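import Cfsg.Statements.S5964
import Cfsg.Agent.Lib.helper24.SubfE

set_option autoImplicit false
open scoped MatrixGroups
open Cfsg

namespace Cfsg.Agent.S5964

/-- Involutions of PSL_n(q) and subfield subgroups. Here `T = PSL_n(F)` for a field `F` with `q = p^f` elements (`n ≥ 2`, `(n, q) ≠ (2, 2), (2, 3)`), `F₀` is the subfield with `q₀` elements where `q = q₀^k` for a prime `k`, and `H` is the subgroup of matrices of determinant 1 lying in the subfield group of `F₀` (invertible matrices over `F₀` times scalars) — a maximal subgroup of type GL_n(q₀) (the case `n = 2`, `q₀ = 2` is excluded); Ω is the set of `T`-conjugates of `H` (cosets of `H`), so an element of `T` of prime order `r` (a matrix `x` of determinant 1 with `x^r` scalar, `x` not scalar) fixes a point of Ω when some conjugate of `x` by a matrix of determinant 1 lies in `H`. Suppose the index of `H` is even. Then every involution of `T` is conjugate in `T` into `H` if and only if either `q` is even, or `k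 = 2` and `(n)_2 ≤ (q − 1)_2`. (For `q` odd and `k` odd the index of `H` is odd, so that case does not arise.) -/
theorem result {F : Type*} [Field F] [Fintype F] {p : ℕ} [Fact p.Prime] [CharP F p] {q : ℕ} (hq : Fintype.card F = q)
    (n : ℕ) (hn : 2 ≤ n) (hT : (n, q) ≠ (2, 2) ∧ (n, q) ≠ (2, 3))
    (F₀ : Subfield F) (k q₀ : ℕ) (hk : k.Prime) (hF₀ : Nat.card ↥F₀ = q₀) (hqk : q = q₀ ^ k) (hC5 : ¬ (n = 2 ∧ q₀ = 2)) (hΩ : 2 ∣ ((Cfsg.Geo.subfieldSubgroup F₀ 1).comap (Matrix.SpecialLinearGroup.toGL : Matrix.SpecialLinearGroup (Fin n) F →* GL (Fin n) F)).index) :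
    (∀ x : Matrix.SpecialLinearGroup (Fin n) F,
      (∃ z : F, ((x ^ 2 : Matrix.SpecialLinearGroup (Fin n) F) : Matrix (Fin n) (Fin n) F) = z • (1 : Matrix (Fin n) (Fin n) F)) →
      (∀ z : F, (x : Matrix (Fin n) (Fin n) F) ≠ z • (1 : Matrix (Fin n) (Fin n) F)) →
      ∃ P : Matrix.SpecialLinearGroup (Fin n) F, P⁻¹ * x * P ∈ ((Cfsg.Geo.subfieldSubgroup F₀ 1).comap (Matrix.SpecialLinearGroup.toGL : Matrix.SpecialLinearGroup (Fin n) F →* GL (Fin n) F))) ↔
    (Odd q → (k = 2 ∧ padicValNat 2 n ≤ padicValNat 2 (q - 1))) := by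
  classical
  subst hq
  subst hF₀
  have hn0 : 0 < n := by omega
  have hq1 : 1 < Fintype.card F := Fintype.one_lt_card
  constructor
  · intro hall hoddq
    have hk2 : k = 2 := by
      by_contra hk2
      have hkodd : Odd k := hk.odd_of_ne_two hk2
      exact Cfsg.Agent.Lib.helper24.subf_index_odd F₀ (by omega) k hkodd hqk hoddq hΩ
    refine ⟨hk2, ?_⟩
    by_contra hcon
    rw [not_le] at hcon
    subst hk2
    have hneven : 2 ∣ n := dvd_of_one_le_padicValNat (by omega)
    obtain ⟨m, hm⟩ := hneven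
    have hm0 : m ≠ 0 := by
      rintro rfl
      omega
    have hdvd : 2 ^ padicValNat 2 (Fintype.card F - 1) ∣ m := by
      have h1 : 2 ^ (padicValNat 2 (Fintype.card F - 1) + 1) ∣ n :=
        (padicValNat_dvd_iff_le (by omega)).2 (by omega)
      rw [hm, pow_succ, mul_comm] at h1
      exact (Nat.mul_dvd_mul_iff_left (by norm_num)).1 h1
    obtain ⟨w, hwns, hwm⟩ :=
      Cfsg.Agent.Lib.helper24.qe_exists_nonsquare_pow_eq_one hoddq m hdvd
    have hzns : ¬ IsSquare (-w) :=
      Cfsg.Agent.Lib.helper24.neg_nonsquare_of_card_sq _ hqk w hwns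
    obtain ⟨X, hX⟩ := Cfsg.Agent.Lib.helper24.qe_exists_sq_eq (F := F) m hm (-w)
    obtain ⟨m', hm', hXdet⟩ := Cfsg.Agent.Lib.helper24.qe_det_of_nonsquare X (-w) hzns hX
    have hmm : m' = m := by omega
    rw [hmm, neg_neg, hwm] at hXdet
    let x : Matrix.SpecialLinearGroup (Fin n) F := ⟨X, hXdet⟩
    have hXns : ∀ c : F, X ≠ c • (1 : Matrix (Fin n) (Fin n) F) := by
      intro c hc
      apply hzns
      have hX' := hX
      rw [hc, Matrix.smul_mul, Matrix.mul_smul, Matrix.one_mul, smul_smul] at hX'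
      have h00 := congrFun (congrFun hX' ⟨0, hn0⟩) ⟨0, hn0⟩
      simp only [Matrix.smul_apply, Matrix.one_apply_eq, smul_eq_mul, mul_one] at h00
      exact ⟨c, h00.symm⟩
    obtain ⟨P, hP⟩ := hall x
      ⟨-w, by rw [Matrix.SpecialLinearGroup.coe_pow, pow_two]; exact hX⟩ hXns
    rw [Subgroup.mem_comap] at hP
    obtain ⟨σ, M₀, hσ, hM₀, hg⟩ := Cfsg.Agent.Lib.helper24.subf_eq_smul_of_mem F₀ _ hP
    have hgg : ((Matrix.SpecialLinearGroup.toGL (P⁻¹ * x * P) : GL (Fin n) F) :
        Matrix (Fin n) (Fin n) F) * ((Matrix.SpecialLinearGroup.toGL (P⁻¹ * x * P) :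
        GL (Fin n) F) : Matrix (Fin n) (Fin n) F) = (-w) • (1 : Matrix (Fin n) (Fin n) F) := by
      show ((P⁻¹ * x * P : Matrix.SpecialLinearGroup (Fin n) F) : Matrix (Fin n) (Fin n) F) *
        ((P⁻¹ * x * P : Matrix.SpecialLinearGroup (Fin n) F) : Matrix (Fin n) (Fin n) F) = _
      rw [← Matrix.SpecialLinearGroup.coe_mul]
      have h1 : P⁻¹ * x * P * (P⁻¹ * x * P) = P⁻¹ * (x * x) * P := by group
      rw [h1, Matrix.SpecialLinearGroup.coe_mul, Matrix.SpecialLinearGroup.coe_mul,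
        Matrix.SpecialLinearGroup.coe_mul]
      show ((P⁻¹ : Matrix.SpecialLinearGroup (Fin n) F) : Matrix (Fin n) (Fin n) F) * (X * X) *
        (P : Matrix (Fin n) (Fin n) F) = _
      rw [hX, Matrix.mul_smul, Matrix.smul_mul, Matrix.mul_one,
        ← Matrix.SpecialLinearGroup.coe_mul, inv_mul_cancel, Matrix.SpecialLinearGroup.coe_one]
    rw [hg, Matrix.smul_mul, Matrix.mul_smul, smul_smul] at hgg
    have h00 := congrFun (congrFun hgg ⟨0, hn0⟩) ⟨0, hn0⟩
    simp only [Matrix.smul_apply, Matrix.one_apply_eq, smul_eq_mul, mul_one] at h00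
    have hmem : (M₀ * M₀) ⟨0, hn0⟩ ⟨0, hn0⟩ ∈ F₀ := by
      rw [Matrix.mul_apply]
      exact F₀.sum_mem (fun j _ => F₀.mul_mem (hM₀ _ _) (hM₀ _ _))
    obtain ⟨s, hs⟩ := Cfsg.Agent.Lib.helper24.subf_isSquare_of_mem F₀ hqk hoddq _ hmem
    apply hzns
    exact ⟨σ * s, by rw [← h00, hs]; ring⟩
  · intro hR x hxz hxns
    obtain ⟨z, hz⟩ := hxz
    rw [Matrix.SpecialLinearGroup.coe_pow, pow_two] at hz
    haveI : NeZero n := ⟨by omega⟩
    have hz0 : z ≠ 0 := by
      rintro rfl
      rw [zero_smul] at hz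
      have h1 : (x : Matrix (Fin n) (Fin n) F).det * (x : Matrix (Fin n) (Fin n) F).det = 0 := by
        haveI : Nonempty (Fin n) := ⟨0⟩
        rw [← Matrix.det_mul, hz, Matrix.det_zero]
      rw [x.det_coe, one_mul] at h1
      exact one_ne_zero h1
    have key : ∃ (P₀ M₀ : Matrix (Fin n) (Fin n) F) (lam : F), lam ≠ 0 ∧ P₀.det = 1 ∧
        (x : Matrix (Fin n) (Fin n) F) * P₀ = P₀ * (lam • M₀) ∧ ∀ i j, M₀ i j ∈ F₀ := by
      by_cases h2 : (2 : F) = 0
      · obtain ⟨ι, hιf, hιd, b, π, lam, hlam0, hπ, hxb⟩ :=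
          Cfsg.Agent.Lib.helper24.subf_basis_char_two h2 (x : Matrix (Fin n) (Fin n) F) z hz0 hz
        have hne : Nonempty ι := by
          have h1 := Module.finrank_eq_card_basis b
          rw [Module.finrank_fin_fun] at h1
          exact Fintype.card_pos_iff.1 (by omega)
        obtain ⟨i₀⟩ := hne
        obtain ⟨P₀, M₀, hdet, hconj, hM₀⟩ := Cfsg.Agent.Lib.helper24.subf_conj_of_basis F₀
          (x : Matrix (Fin n) (Fin n) F) b π (fun _ => 1) (fun _ => F₀.one_mem) lam hxb
          (fun t ht => Cfsg.Agent.Lib.helper24.subf_weights π hπ i₀ t ht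
            (Or.inr (FiniteField.isSquare_of_char_two
              (Cfsg.Agent.Lib.helper24.qe_two_eq_zero_iff.1 h2) t)))
        exact ⟨P₀, M₀, lam, hlam0, hdet, hconj, hM₀⟩
      · have hoddq : Odd (Fintype.card F) :=
          Cfsg.Agent.Lib.helper24.qe_two_ne_zero_iff_odd.1 h2
        obtain ⟨hk2, hval⟩ := hR hoddq
        subst hk2
        have hsq : IsSquare z := by
          by_contra hns
          obtain ⟨m, hm, hdet⟩ := Cfsg.Agent.Lib.helper24.qe_det_of_nonsquare
            (x : Matrix (Fin n) (Fin n) F) z hns hz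
          rw [x.det_coe] at hdet
          have hzns : ¬ IsSquare (-z) :=
            Cfsg.Agent.Lib.helper24.neg_nonsquare_of_card_sq _ hqk z hns
          have hm0 : m ≠ 0 := by omega
          have h5 := Cfsg.Agent.Lib.helper24.qe_val_le_of_nonsquare_pow_eq_one hoddq (-z) hzns m
            hm0 hdet.symm
          have h6 : padicValNat 2 n = padicValNat 2 m + 1 := by
            rw [hm, padicValNat.mul (by norm_num) hm0, padicValNat_self]
            ring
          omega
        obtain ⟨lam, hlam⟩ := hsq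
        have hlam0 : lam ≠ 0 := by
          rintro rfl
          apply hz0
          rw [hlam, mul_zero]
        obtain ⟨b, δ, hδ, hxb⟩ := Cfsg.Agent.Lib.helper24.subf_basis_eigen h2 hn0
          (x : Matrix (Fin n) (Fin n) F) lam hlam0 (by rw [← hlam]; exact hz)
        have hδF : ∀ j, δ j ∈ F₀ := by
          intro j
          rcases hδ j with h | h
          · rw [h]
            exact F₀.one_mem
          · rw [h]
            exact F₀.neg_mem F₀.one_mem
        obtain ⟨P₀, M₀, hdet, hconj, hM₀⟩ := Cfsg.Agent.Lib.helper24.subf_conj_of_basis F₀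
          (x : Matrix (Fin n) (Fin n) F) b id δ hδF lam hxb
          (fun t ht => Cfsg.Agent.Lib.helper24.subf_weights id (fun _ => rfl) ⟨0, hn0⟩ t ht
            (Or.inl rfl))
        exact ⟨P₀, M₀, lam, hlam0, hdet, hconj, hM₀⟩
    obtain ⟨P₀, M₀, lam, hlam0, hP₀det, hconj, hM₀⟩ := key
    set P : Matrix.SpecialLinearGroup (Fin n) F := ⟨P₀, hP₀det⟩ with hPdef
    refine ⟨P, ?_⟩
    rw [Subgroup.mem_comap]
    have hPP' : ((P⁻¹ : Matrix.SpecialLinearGroup (Fin n) F) : Matrix (Fin n) (Fin n) F) * P₀ =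
        1 := by
      have h1 : ((P⁻¹ * P : Matrix.SpecialLinearGroup (Fin n) F) : Matrix (Fin n) (Fin n) F) =
          1 := by
        rw [inv_mul_cancel, Matrix.SpecialLinearGroup.coe_one]
      rw [Matrix.SpecialLinearGroup.coe_mul] at h1
      exact h1
    have hg : ((Matrix.SpecialLinearGroup.toGL (P⁻¹ * x * P) : GL (Fin n) F) :
        Matrix (Fin n) (Fin n) F) = lam • M₀ := by
      show ((P⁻¹ * x * P : Matrix.SpecialLinearGroup (Fin n) F) : Matrix (Fin n) (Fin n) F) = _
      rw [Matrix.SpecialLinearGroup.coe_mul, Matrix.SpecialLinearGroup.coe_mul, Matrix.mul_assoc]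
      show _ * ((x : Matrix (Fin n) (Fin n) F) * P₀) = _
      rw [hconj, ← Matrix.mul_assoc, hPP', Matrix.one_mul]
    exact Cfsg.Agent.Lib.helper24.subf_mem_of_eq_smul F₀ _ lam hlam0 M₀ hM₀ hg

end Cfsg.Agent.S5964
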