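import Cfsg.Statements.S5965
import Cfsg.Agent.Lib.helper24.SffMain
import Cfsg.Agent.Lib.helper75.SffA
import Cfsg.Agent.Lib.helper98.SffB

set_option autoImplicit false
open scoped MatrixGroups
open Cfsg

namespace Cfsg.Agent.S5965

/-- Elements of odd prime order r ≠ p of PSL_n(q) and subfield subgroups. Here `T = PSL_n(F)` for a field `F` with `q = p^f` elements (`n ≥ 2`, `(n, q) ≠ (2, 2), (2, 3)`), `F₀` is the subfield with `q₀` elements where `q = q₀^k` for a prime `k`, and `H` is the subgroup of matrices of determinant 1 lying in the subfield group of `F₀` (invertible matrices over `F₀` times scalars) — a maximal subgroup of type GL_n(q₀) (the case `n = 2`, `q₀ = 2` is excluded); Ω is the set of `T`-conjugates of `H` (cosets of `H`), so an element of `T` of prime order `r` (a matrix `x` of determinant 1 with `x^r` scalar, `x` not scalar) fixes a point of Ω when some conjugate of `x` by a matrix of determinant 1 lies in `H`. Let `r ≠ p` be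 an odd prime dividing the index of `H`, with `(n, r) ≠ (6, 3)` and, when `r = k` divides `q₀ − 1`, with `(n)_r ≤ (q − 1)_r`. Then every element of `T` of order `r` is conjugate in `T` into `H` if and only if `r = k`, or `k = 2`, `r = n ∈ {3, 5}` and `(q₀ + 1)_r = r`. The two excluded cases, `(n, r) = (6, 3)` and `r = k ∣ q₀ − 1` with `(n)_r > (q − 1)_r`, are ones where this criterion can fail, so they are left out. -/
theorem result {F : Type*} [Field F] [Fintype F] {p : ℕ} [Fact p.Prime] [CharP F p] {q : ℕ} (hq : Fintype.card F = q)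
    (n : ℕ) (hn : 2 ≤ n) (hT : (n, q) ≠ (2, 2) ∧ (n, q) ≠ (2, 3))
    (F₀ : Subfield F) (k q₀ : ℕ) (hk : k.Prime) (hF₀ : Nat.card ↥F₀ = q₀) (hqk : q = q₀ ^ k) (hC5 : ¬ (n = 2 ∧ q₀ = 2)) (r : ℕ) [Fact r.Prime] (hr2 : r ≠ 2) (hrp : r ≠ p) (hgap : ¬ (n = 6 ∧ r = 3)) (hgapk : r = k → r ∣ q₀ - 1 → padicValNat r n ≤ padicValNat r (q - 1)) (hΩ : r ∣ ((Cfsg.Geo.subfieldSubgroup F₀ 1).comap (Matrix.SpecialLinearGroup.toGL : Matrix.SpecialLinearGroup (Fin n) F →* GL (Fin n) F)).index) :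
    (∀ x : Matrix.SpecialLinearGroup (Fin n) F,
      (∃ z : F, ((x ^ r : Matrix.SpecialLinearGroup (Fin n) F) : Matrix (Fin n) (Fin n) F) = z • (1 : Matrix (Fin n) (Fin n) F)) →
      (∀ z : F, (x : Matrix (Fin n) (Fin n) F) ≠ z • (1 : Matrix (Fin n) (Fin n) F)) →
      ∃ P : Matrix.SpecialLinearGroup (Fin n) F, P⁻¹ * x * P ∈ ((Cfsg.Geo.subfieldSubgroup F₀ 1).comap (Matrix.SpecialLinearGroup.toGL : Matrix.SpecialLinearGroup (Fin n) F →* GL (Fin n) F))) ↔
    (r = k ∨ (k = 2 ∧ r = n ∧ (n = 3 ∨ n = 5) ∧ padicValNat r (q₀ + 1) = 1)) := by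
  classical
  subst hq
  subst hF₀
  have hn0 : 0 < n := by omega
  have hr : r.Prime := Fact.out
  have hrF : (r : F) ≠ 0 := by
    intro h
    have h1 := (CharP.cast_eq_zero_iff F p r).1 h
    have hp : p.Prime := Fact.out
    exact hrp ((Nat.prime_dvd_prime_iff_eq hp hr).1 h1).symm
  constructor
  · intro hall
    by_contra hcon
    rw [not_or] at hcon
    obtain ⟨hrk, hB⟩ := hcon
    obtain ⟨X, hXdet, hXz, hXns, hXnc⟩ :=
      Cfsg.Agent.Lib.helper24.sff_nec_main F₀ hn k hk hqk r hr2 hrk hrF hgap hB hΩ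
    obtain ⟨z, hz⟩ := hXz
    obtain ⟨x, hxX⟩ : ∃ x : Matrix.SpecialLinearGroup (Fin n) F,
        (x : Matrix (Fin n) (Fin n) F) = X := ⟨⟨X, hXdet⟩, rfl⟩
    subst hxX
    obtain ⟨P, hP⟩ := hall x ⟨z, (Matrix.SpecialLinearGroup.coe_pow _ _).trans hz⟩ hXns
    rw [Subgroup.mem_comap] at hP
    obtain ⟨σ, M₀, hσ, hM₀, hg⟩ := Cfsg.Agent.Lib.helper24.subf_eq_smul_of_mem F₀ _ hP
    apply hXnc
    refine ⟨(P : Matrix (Fin n) (Fin n) F), M₀, σ, ?_, hσ, hM₀, ?_⟩
    · rw [P.det_coe]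
      exact one_ne_zero
    · have h1 : ((P⁻¹ * x * P : Matrix.SpecialLinearGroup (Fin n) F) :
          Matrix (Fin n) (Fin n) F) = σ • M₀ := hg
      have h2 : (P : Matrix (Fin n) (Fin n) F) *
          ((P⁻¹ * x * P : Matrix.SpecialLinearGroup (Fin n) F) : Matrix (Fin n) (Fin n) F) =
          (x : Matrix (Fin n) (Fin n) F) * (P : Matrix (Fin n) (Fin n) F) := by
        rw [← Matrix.SpecialLinearGroup.coe_mul]
        have h3 : P * (P⁻¹ * x * P) = x * P := by group
        rw [h3, Matrix.SpecialLinearGroup.coe_mul]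
      rw [← h1]
      exact h2.symm
  · intro hR x hxz hxns
    obtain ⟨z, hz⟩ := hxz
    rw [Matrix.SpecialLinearGroup.coe_pow] at hz
    have key : Cfsg.Agent.Lib.helper24.SffConj F₀ (x : Matrix (Fin n) (Fin n) F) := by
      rcases hR with hrk | ⟨hk2, hrn, h35, hv⟩
      · subst hrk
        exact Cfsg.Agent.Lib.helper24.sff_suff_k F₀ hn0 r hr2 hrF hqk (fun h => hgapk rfl h)
          (x : Matrix (Fin n) (Fin n) F) x.det_coe z hz
      · subst hk2
        subst hrn
        exact Cfsg.Agent.Lib.helper24.sff_suff_two F₀ r h35 hqk hv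
          (x : Matrix (Fin r) (Fin r) F) x.det_coe z hz
    obtain ⟨P₀, M₀, lam, hP₀det, hlam0, hM₀, hconj⟩ := key
    set P : Matrix.SpecialLinearGroup (Fin n) F := ⟨P₀, hP₀det⟩ with hPdef
    refine ⟨P, ?_⟩
    rw [Subgroup.mem_comap]
    have hPP' : ((P⁻¹ : Matrix.SpecialLinearGroup (Fin n) F) : Matrix (Fin n) (Fin n) F) * P₀ =
        1 := by
      have h1 : ((P⁻¹ * P : Matrix.SpecialLinearGroup (Fin n) F) : Matrix (Fin n) (Fin n) F) =
          1 := by
        rw [inv_mul_cancel, Matrix.SpecialLinearGroup.coe_one]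
      rw [Matrix.SpecialLinearGroup.coe_mul] at h1
      exact h1
    have hg : ((Matrix.SpecialLinearGroup.toGL (P⁻¹ * x * P) : GL (Fin n) F) :
        Matrix (Fin n) (Fin n) F) = lam • M₀ := by
      show ((P⁻¹ * x * P : Matrix.SpecialLinearGroup (Fin n) F) : Matrix (Fin n) (Fin n) F) = _
      rw [Matrix.SpecialLinearGroup.coe_mul, Matrix.SpecialLinearGroup.coe_mul, Matrix.mul_assoc]
      show _ * ((x : Matrix (Fin n) (Fin n) F) * P₀) = _
      rw [hconj, ← Matrix.mul_assoc, hPP', Matrix.one_mul]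
    exact Cfsg.Agent.Lib.helper24.subf_mem_of_eq_smul F₀ _ lam hlam0 M₀ hM₀ hg

end Cfsg.Agent.S5965
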