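import Cfsg.Statements.S5966
import Cfsg.Agent.Lib.helper99.SubfG
import Cfsg.Agent.Lib.helper99.SubfD
import Cfsg.Agent.Lib.helper99.SubfC

set_option autoImplicit false
open scoped MatrixGroups
open Cfsg

namespace Cfsg.Agent.S5966

open Cfsg.Agent.Lib.helper99.Subf in
theorem aux_card {F : Type*} [Field F] [Fintype F] [CharP F 3] {q : ℕ} (hq : Fintype.card F = q)
    (F₀ : Subfield F) (k q₀ : ℕ) (hk : k.Prime) (hF₀ : Nat.card ↥F₀ = q₀) (hqk : q = q₀ ^ k) :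
    Fintype.card F = Nat.card F₀ ^ k ∧ Nat.card F₀ % 2 = 1 ∧ (2 : F) ≠ 0 ∧ (3 : F) = 0 := by
  have hcard : Fintype.card F = Nat.card F₀ ^ k := by rw [hq, hqk, hF₀]
  have h3 : (3 : F) = 0 := by
    have := CharP.cast_eq_zero F 3
    exact_mod_cast this
  have h2 : (2 : F) ≠ 0 := by
    intro h2
    have h1 : (1 : F) = 3 - 2 := by norm_num
    rw [h3, h2, sub_zero] at h1
    exact one_ne_zero h1
  refine ⟨hcard, ?_, h2, h3⟩
  obtain ⟨f, hp, hf⟩ := FiniteField.card F 3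
  have hodd : Fintype.card F % 2 = 1 := by
    rw [hf, Nat.pow_mod]
    norm_num
  rw [hcard] at hodd
  rcases Nat.mod_two_eq_zero_or_one (Nat.card F₀) with h0 | h1
  · exfalso
    rw [Nat.pow_mod, h0, zero_pow hk.ne_zero] at hodd
    omega
  · exact h1

open Cfsg.Agent.Lib.helper99.Subf in
/-- the unipotent part: `N = c⁻¹ x - 1` has cube zero -/
theorem aux_nil {F : Type*} [Field F] (h3 : (3 : F) = 0) {n : ℕ}
    (Y : Matrix (Fin n) (Fin n) F) (hY : Y * Y * Y = 1) :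
    (Y - 1) * (Y - 1) * (Y - 1) = 0 := by
  have e1 : (Y - 1) * (Y - 1) * (Y - 1) = Y * Y * Y - 1 - (3 : F) • (Y * Y - Y) := by
    have e2 : (3 : F) • (Y * Y - Y) = (Y * Y - Y) + (Y * Y - Y) + (Y * Y - Y) := by
      rw [show (3 : F) = 1 + 1 + 1 by norm_num, add_smul, add_smul, one_smul]
    rw [e2]
    noncomm_ring
  rw [e1, hY, h3, zero_smul, sub_self, sub_zero]

open Cfsg.Agent.Lib.helper99.Subf in
theorem result {F : Type*} [Field F] [Fintype F] [CharP F 3] {q : ℕ} (hq : Fintype.card F = q)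
    (n : ℕ) (hn : 2 ≤ n) (hT : (n, q) ≠ (2, 3))
    (F₀ : Subfield F) (k q₀ : ℕ) (hk : k.Prime) (hF₀ : Nat.card ↥F₀ = q₀) (hqk : q = q₀ ^ k) (hC5 : ¬ (n = 2 ∧ q₀ = 2)) (hΩ : 3 ∣ ((Cfsg.Geo.subfieldSubgroup F₀ 1).comap (Matrix.SpecialLinearGroup.toGL : Matrix.SpecialLinearGroup (Fin n) F →* GL (Fin n) F)).index) :
    (∀ x : Matrix.SpecialLinearGroup (Fin n) F,
      (∃ z : F, ((x ^ 3 : Matrix.SpecialLinearGroup (Fin n) F) : Matrix (Fin n) (Fin n) F) = z • (1 : Matrix (Fin n) (Fin n) F)) →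
      (∀ z : F, (x : Matrix (Fin n) (Fin n) F) ≠ z • (1 : Matrix (Fin n) (Fin n) F)) →
      ∃ P : Matrix.SpecialLinearGroup (Fin n) F, P⁻¹ * x * P ∈ ((Cfsg.Geo.subfieldSubgroup F₀ 1).comap (Matrix.SpecialLinearGroup.toGL : Matrix.SpecialLinearGroup (Fin n) F →* GL (Fin n) F))) ↔
    (Odd n ∨ (Even n ∧ 2 < k)) := by
  classical
  obtain ⟨hcard, hq₀odd, h2, h3⟩ := aux_card hq F₀ k q₀ hk hF₀ hqk
  have hmem : ∀ (x P : Matrix.SpecialLinearGroup (Fin n) F),
      P⁻¹ * x * P ∈ ((Cfsg.Geo.subfieldSubgroup F₀ 1).comap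
        (Matrix.SpecialLinearGroup.toGL : Matrix.SpecialLinearGroup (Fin n) F →* GL (Fin n) F))
      ↔ ∃ ζ : F, ζ ≠ 0 ∧ ∀ i j, ζ * ((P : Matrix (Fin n) (Fin n) F)⁻¹ *
          (x : Matrix (Fin n) (Fin n) F) * (P : Matrix (Fin n) (Fin n) F)) i j ∈ F₀ := by
    intro x P
    rw [Subgroup.mem_comap, mem_subfieldSubgroup_one_iff]
    have e1 : ((Matrix.SpecialLinearGroup.toGL (P⁻¹ * x * P) : GL (Fin n) F) :
        Matrix (Fin n) (Fin n) F)
        = (P : Matrix (Fin n) (Fin n) F)⁻¹ * (x : Matrix (Fin n) (Fin n) F) *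
          (P : Matrix (Fin n) (Fin n) F) := by
      rw [Matrix.SpecialLinearGroup.coe_GL_coe_matrix, Matrix.SpecialLinearGroup.coe_mul,
        Matrix.SpecialLinearGroup.coe_mul, Matrix.SpecialLinearGroup.coe_inv,
        Matrix.inv_def, P.det_coe]
      simp
    rw [e1]
  constructor
  · -- necessity: `n` even and `k = 2` give a derangement
    intro hall
    by_contra hcon
    have hne : Even n := by
      by_contra h
      exact hcon (Or.inl (Nat.not_even_iff_odd.mp h))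
    have hk2 : k = 2 := by
      have h1 : ¬ 2 < k := fun h => hcon (Or.inr ⟨hne, h⟩)
      have := hk.two_le
      omega
    subst hk2
    obtain ⟨m, rfl⟩ := hne
    have hm : 0 < m := by omega
    have hchar : ringChar F ≠ 2 := by
      rw [ringChar.eq F 3]
      norm_num
    obtain ⟨δ, hδ⟩ := FiniteField.exists_nonsquare hchar
    let e₀ : Fin (m + m) ≃ Fin m ⊕ Fin m := finSumFinEquiv.symm
    let d : Fin m → F := Function.update (fun _ => 1) ⟨0, hm⟩ δ
    have hdprod : ∏ i, d i = δ := prod_update_one _ _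
    have hδ0 : δ ≠ 0 := by
      rintro rfl
      exact hδ ⟨0, by simp⟩
    let x : Matrix.SpecialLinearGroup (Fin (m + m)) F := ⟨1 + Nx e₀ d, det_one_add_Nx e₀ d⟩
    have hx3 : ((x ^ 3 : Matrix.SpecialLinearGroup (Fin (m + m)) F) :
        Matrix (Fin (m + m)) (Fin (m + m)) F) = (1 : F) • (1 : Matrix (Fin (m + m)) (Fin (m + m)) F) := by
      rw [Matrix.SpecialLinearGroup.coe_pow]
      show (1 + Nx e₀ d) ^ 3 = _
      have hN := Nx_sq e₀ d
      have e1 : (1 + Nx e₀ d) ^ 3 = 1 + (3 : F) • Nx e₀ d + (3 : F) • (Nx e₀ d * Nx e₀ d)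
          + Nx e₀ d * Nx e₀ d * Nx e₀ d := by
        rw [show (3 : F) = 1 + 1 + 1 by norm_num, add_smul, add_smul, one_smul, add_smul, add_smul,
          one_smul]
        noncomm_ring
      rw [e1, hN, h3]
      simp
    have hxns : ∀ z : F, (x : Matrix (Fin (m + m)) (Fin (m + m)) F)
        ≠ z • (1 : Matrix (Fin (m + m)) (Fin (m + m)) F) := by
      intro z hz
      have h1 := congrFun (congrFun hz (e₀.symm (Sum.inl ⟨0, hm⟩))) (e₀.symm (Sum.inr ⟨0, hm⟩))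
      have hne : e₀.symm (Sum.inl (⟨0, hm⟩ : Fin m)) ≠ e₀.symm (Sum.inr ⟨0, hm⟩) := by
        intro h
        exact Sum.inl_ne_inr (e₀.symm.injective h)
      have h4 : (x : Matrix (Fin (m + m)) (Fin (m + m)) F) = 1 + Nx e₀ d := rfl
      rw [h4, Matrix.add_apply, Nx_apply_off, Matrix.one_apply_ne hne, Matrix.smul_apply,
        Matrix.one_apply_ne hne, smul_zero, zero_add] at h1
      have h5 : d ⟨0, hm⟩ = δ := by simp [d]
      rw [h5] at h1
      exact hδ0 h1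
    obtain ⟨P, hP⟩ := hall x ⟨1, hx3⟩ hxns
    rw [hmem] at hP
    obtain ⟨ζ, hζ, hrat⟩ := hP
    exact no_conj F₀ h2 (fun y hy => isSquare_of_mem F₀ hcard hq₀odd y hy) e₀ d
      (by rw [hdprod]; exact hδ) (P : Matrix (Fin (m + m)) (Fin (m + m)) F) P.det_coe ζ hζ hrat
  · -- sufficiency
    intro hnk x hx3 hxns
    obtain ⟨z, hz⟩ := hx3
    have hz0 : z ≠ 0 := by
      rintro rfl
      have h1 := congrArg Matrix.det hz
      have : Nonempty (Fin n) := ⟨⟨0, by omega⟩⟩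
      rw [Matrix.SpecialLinearGroup.det_coe, zero_smul, Matrix.det_zero] at h1
      exact one_ne_zero h1
    obtain ⟨c, hc⟩ := exists_cube_root_char3 z
    have hc0 : c ≠ 0 := by
      rintro rfl
      rw [zero_pow (by norm_num)] at hc
      exact hz0 hc.symm
    obtain ⟨X, hX⟩ : ∃ X : Matrix (Fin n) (Fin n) F, X = (x : Matrix (Fin n) (Fin n) F) := ⟨_, rfl⟩
    have hX3 : X * X * X = z • (1 : Matrix (Fin n) (Fin n) F) := by
      rw [← hz, Matrix.SpecialLinearGroup.coe_pow, ← hX]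
      noncomm_ring
    have hY : (c⁻¹ • X) * (c⁻¹ • X) * (c⁻¹ • X) = 1 := by
      have e0 : (c⁻¹ • X) * (c⁻¹ • X) * (c⁻¹ • X) = (c⁻¹ * (c⁻¹ * c⁻¹)) • (X * X * X) := by
        simp only [Matrix.smul_mul, Matrix.mul_smul, smul_smul]
      rw [e0, hX3, smul_smul, ← hc]
      have : c⁻¹ * (c⁻¹ * c⁻¹) * c ^ 3 = 1 := by
        field_simp
      rw [this, one_smul]
    have hN := aux_nil h3 (c⁻¹ • X) hY
    have hh2 : Even n → ∀ t : F, t ≠ 0 → ∃ l μ : F, μ ∈ F₀ ∧ l ^ 2 * μ = t := by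
      intro hev t ht
      have hk2 : 2 < k := by
        rcases hnk with ho | ⟨_, h⟩
        · exact absurd hev (Nat.not_even_iff_odd.mpr ho)
        · exact h
      have hkodd : k % 2 = 1 := by
        rcases hk.eq_two_or_odd with h | h
        · omega
        · exact h
      exact exists_sq_mul F₀ k hcard hkodd hq₀odd t ht
    obtain ⟨Q, hQdet, hQ⟩ := exists_sl_conj F₀ (by omega) (c⁻¹ • X - 1) hN
      (fun t _ => exists_cube_root_char3 t) hh2
    refine ⟨⟨Q, hQdet⟩, (hmem x ⟨Q, hQdet⟩).2 ?_⟩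
    refine ⟨c⁻¹, inv_ne_zero hc0, fun i j => ?_⟩
    have hQu : IsUnit Q.det := by rw [hQdet]; exact isUnit_one
    have e1 : c⁻¹ • (Q⁻¹ * X * Q) = 1 + Q⁻¹ * (c⁻¹ • X - 1) * Q := by
      rw [Matrix.mul_sub, Matrix.sub_mul, Matrix.mul_one, Matrix.nonsing_inv_mul _ hQu,
        Matrix.mul_smul, Matrix.smul_mul]
      abel
    have e2 : c⁻¹ * (Q⁻¹ * X * Q) i j = (1 + Q⁻¹ * (c⁻¹ • X - 1) * Q) i j := by
      rw [← e1, Matrix.smul_apply, smul_eq_mul]
    show c⁻¹ * (Q⁻¹ * (x : Matrix (Fin n) (Fin n) F) * Q) i j ∈ F₀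
    rw [← hX, e2, Matrix.add_apply]
    refine F₀.add_mem ?_ (hQ i j)
    rw [Matrix.one_apply]
    split_ifs
    · exact F₀.one_mem
    · exact F₀.zero_mem

end Cfsg.Agent.S5966
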