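import Cfsg.Statements.S5967
import Cfsg.Agent.Lib.helper24.SympAdaptC

set_option autoImplicit false
open scoped MatrixGroups
open Cfsg

namespace Cfsg.Agent.S5967

/-- Involutions of PSL_n(q) and the symplectic-type subgroups. Here `T = PSL_n(F)` for a field `F` with `q` elements, `n ≥ 4` even, `f` is a nondegenerate alternating form on `F^n`, and `H` is the subgroup of matrices of determinant 1 preserving `f` up to a scalar — a maximal subgroup of type Sp_n(q); Ω is the set of `T`-conjugates of `H` (cosets of `H`), so an element of `T` of prime order `r` (a matrix `x` of determinant 1 with `x^r` scalar, `x` not scalar) fixes a point of Ω when some conjugate of `x` by a matrix of determinant 1 preserves `f` up to a scalar. Suppose the index of `H` is even. Then every involution of `T` is conjugate in `T` into `H` if and only if `(q − 1)_2 ≤ (n)_2`. -/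
theorem result {F : Type*} [Field F] [Fintype F] {p : ℕ} [Fact p.Prime] [CharP F p] {q : ℕ} (hq : Fintype.card F = q)
    (n : ℕ) (hn : 4 ≤ n) (he : Even n) (f : (Fin n → F) → (Fin n → F) → F) (hf : Cfsg.Geo.IsSymplecticForm f)
    (hΩ : 2 ∣ ((Cfsg.Geo.similarityGroup f).comap (Matrix.SpecialLinearGroup.toGL : Matrix.SpecialLinearGroup (Fin n) F →* GL (Fin n) F)).index) :
    (∀ x : Matrix.SpecialLinearGroup (Fin n) F,
      (∃ z : F, ((x ^ 2 : Matrix.SpecialLinearGroup (Fin n) F) : Matrix (Fin n) (Fin n) F) = z • (1 : Matrix (Fin n) (Fin n) F)) →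
      (∀ z : F, (x : Matrix (Fin n) (Fin n) F) ≠ z • (1 : Matrix (Fin n) (Fin n) F)) →
      ∃ P : Matrix.SpecialLinearGroup (Fin n) F, P⁻¹ * x * P ∈ ((Cfsg.Geo.similarityGroup f).comap (Matrix.SpecialLinearGroup.toGL : Matrix.SpecialLinearGroup (Fin n) F →* GL (Fin n) F))) ↔
    padicValNat 2 (q - 1) ≤ padicValNat 2 n := by
  classical
  subst hq
  have hn0 : 0 < n := by omega
  constructor
  · intro hall
    by_contra hcon
    rw [not_le] at hcon
    have hq1 : 1 < Fintype.card F := Fintype.one_lt_card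
    have hoddq : Odd (Fintype.card F) := by
      have h1 : 1 ≤ padicValNat 2 (Fintype.card F - 1) := by omega
      have h2 := dvd_of_one_le_padicValNat h1
      rw [Nat.odd_iff]
      omega
    have h2 : (2 : F) ≠ 0 := Cfsg.Agent.Lib.helper24.qe_two_ne_zero_iff_odd.2 hoddq
    obtain ⟨lam, hlam⟩ := Cfsg.Agent.Lib.helper24.qe_exists_pow_eq_neg_one (F := F) n
      (by omega) hcon
    obtain ⟨X, hXdet, ⟨z, hXz⟩, hXns, lam', ψ, u, hψu, hXw⟩ :=
      Cfsg.Agent.Lib.helper24.qe_reflection_data' (by omega : 2 ≤ n) h2 lam hlam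
    let x : Matrix.SpecialLinearGroup (Fin n) F := ⟨X, hXdet⟩
    obtain ⟨P, hP⟩ := hall x
      ⟨z, by rw [Matrix.SpecialLinearGroup.coe_pow, pow_two]; exact hXz⟩ hXns
    rw [Subgroup.mem_comap] at hP
    have hPP : (P : Matrix (Fin n) (Fin n) F) *
        ((P⁻¹ : Matrix.SpecialLinearGroup (Fin n) F) : Matrix (Fin n) (Fin n) F) = 1 := by
      rw [← Matrix.SpecialLinearGroup.coe_mul, mul_inv_cancel, Matrix.SpecialLinearGroup.coe_one]
    have hPP' : ((P⁻¹ : Matrix.SpecialLinearGroup (Fin n) F) : Matrix (Fin n) (Fin n) F) *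
        (P : Matrix (Fin n) (Fin n) F) = 1 := by
      rw [← Matrix.SpecialLinearGroup.coe_mul, inv_mul_cancel, Matrix.SpecialLinearGroup.coe_one]
    refine Cfsg.Agent.Lib.helper24.gsp_no_reflection f hf (by omega) _ hP
      lam' (ψ ∘ₗ Matrix.mulVecLin (P : Matrix (Fin n) (Fin n) F))
      (Matrix.mulVec
        ((P⁻¹ : Matrix.SpecialLinearGroup (Fin n) F) : Matrix (Fin n) (Fin n) F) u) ?_ ?_
    · simp only [LinearMap.comp_apply, Matrix.mulVecLin_apply, Matrix.mulVec_mulVec, hPP,
        Matrix.one_mulVec]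
      exact hψu
    · intro w
      show Matrix.mulVec
          ((P⁻¹ * x * P : Matrix.SpecialLinearGroup (Fin n) F) : Matrix (Fin n) (Fin n) F) w = _
      rw [Matrix.SpecialLinearGroup.coe_mul, Matrix.SpecialLinearGroup.coe_mul,
        ← Matrix.mulVec_mulVec, ← Matrix.mulVec_mulVec]
      show Matrix.mulVec _ (Matrix.mulVec X _) = _
      rw [hXw, Matrix.mulVec_add, Matrix.mulVec_smul, Matrix.mulVec_smul, Matrix.mulVec_mulVec,
        hPP', Matrix.one_mulVec]
      rfl
  · intro hval x hxz hxns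
    obtain ⟨z, hz⟩ := hxz
    rw [Matrix.SpecialLinearGroup.coe_pow, pow_two] at hz
    haveI : NeZero n := ⟨by omega⟩
    have hz0 : z ≠ 0 := by
      rintro rfl
      rw [zero_smul] at hz
      have h1 : (x : Matrix (Fin n) (Fin n) F).det * (x : Matrix (Fin n) (Fin n) F).det = 0 := by
        haveI : Nonempty (Fin n) := ⟨0⟩
        rw [← Matrix.det_mul, hz, Matrix.det_zero]
      rw [x.det_coe, one_mul] at h1
      exact one_ne_zero h1
    have hadapt : Cfsg.Agent.Lib.helper24.GSpAdapted (x : Matrix (Fin n) (Fin n) F) := by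
      by_cases H : ∀ c : F, c * c = z → c + c = 0
      · exact Cfsg.Agent.Lib.helper24.gsp_adapted_of_mono he _ z hz0 hz H
      · rw [not_forall] at H
        obtain ⟨c₀, hc₀⟩ := H
        rw [Classical.not_imp] at hc₀
        obtain ⟨hc₀z, hc₀⟩ := hc₀
        exact Cfsg.Agent.Lib.helper24.gsp_adapted_of_eigen he hn0 _ x.det_coe c₀ hc₀
          (by rw [hc₀z]; exact hz) hval
    obtain ⟨P₀, G, hP₀det, hconj, μ, hμ, hG⟩ :=
      Cfsg.Agent.Lib.helper24.gsp_conj_of_adapted f hf hn0 _ hadapt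
    set P : Matrix.SpecialLinearGroup (Fin n) F := ⟨P₀, hP₀det⟩ with hPdef
    refine ⟨P, ?_⟩
    rw [Subgroup.mem_comap]
    have hPP' : ((P⁻¹ : Matrix.SpecialLinearGroup (Fin n) F) : Matrix (Fin n) (Fin n) F) * P₀ =
        1 := by
      have h1 : ((P⁻¹ * P : Matrix.SpecialLinearGroup (Fin n) F) : Matrix (Fin n) (Fin n) F) =
          1 := by
        rw [inv_mul_cancel, Matrix.SpecialLinearGroup.coe_one]
      rw [Matrix.SpecialLinearGroup.coe_mul] at h1
      exact h1
    have hg : ((Matrix.SpecialLinearGroup.toGL (P⁻¹ * x * P) : GL (Fin n) F) :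
        Matrix (Fin n) (Fin n) F) = G := by
      show ((P⁻¹ * x * P : Matrix.SpecialLinearGroup (Fin n) F) : Matrix (Fin n) (Fin n) F) = G
      rw [Matrix.SpecialLinearGroup.coe_mul, Matrix.SpecialLinearGroup.coe_mul, Matrix.mul_assoc]
      show _ * ((x : Matrix (Fin n) (Fin n) F) * P₀) = G
      rw [hconj, ← Matrix.mul_assoc, hPP', Matrix.one_mul]
    refine ⟨Units.mk0 μ hμ, fun u v => ?_⟩
    rw [hg]
    exact hG u v

end Cfsg.Agent.S5967
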