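import Cfsg.Statements.S5968
import Cfsg.Agent.Lib.helper99.SpDerB
import Cfsg.Agent.Lib.helper99.SpDerC

set_option autoImplicit false
open scoped MatrixGroups
open Cfsg

namespace Cfsg.Agent.S5968

open Cfsg.Agent.Lib.helper99.SpDer

/-- the unipotent case `r = p` -/
theorem case_unip {F : Type*} [Field F] [Fintype F] {p : ℕ} [Fact p.Prime] [CharP F p] (hp : p ≠ 2)
    (n : ℕ) (hn : 4 ≤ n) (f : (Fin n → F) → (Fin n → F) → F) (hf : Cfsg.Geo.IsSymplecticForm f) :
    ∃ x : Matrix.SpecialLinearGroup (Fin n) F,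
      (∃ z : F, ((x ^ p : Matrix.SpecialLinearGroup (Fin n) F) : Matrix (Fin n) (Fin n) F) = z • (1 : Matrix (Fin n) (Fin n) F)) ∧
      (∀ z : F, (x : Matrix (Fin n) (Fin n) F) ≠ z • (1 : Matrix (Fin n) (Fin n) F)) ∧
      ∀ P : Matrix.SpecialLinearGroup (Fin n) F, P⁻¹ * x * P ∉ ((Cfsg.Geo.similarityGroup f).comap (Matrix.SpecialLinearGroup.toGL : Matrix.SpecialLinearGroup (Fin n) F →* GL (Fin n) F)) := by
  classical
  obtain ⟨i0, i1, i2, h01, h02, h12⟩ : ∃ i0 i1 i2 : Fin n, i0 ≠ i1 ∧ i0 ≠ i2 ∧ i1 ≠ i2 :=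
    ⟨⟨0, by omega⟩, ⟨1, by omega⟩, ⟨2, by omega⟩, by simp [Fin.ext_iff], by simp [Fin.ext_iff],
      by simp [Fin.ext_iff]⟩
  have hXp := Nu_pow_char (F := F) hp i0 i1 i2 h01 h02 h12
  have hdet : (1 + Nu i0 i1 i2 : Matrix (Fin n) (Fin n) F).det = 1 := by
    have h1 : (1 + Nu i0 i1 i2 : Matrix (Fin n) (Fin n) F).det ^ p = 1 := by
      rw [← Matrix.det_pow, hXp, Matrix.det_one]
    have h2 : ((1 + Nu i0 i1 i2 : Matrix (Fin n) (Fin n) F).det - 1) ^ p = 0 := by
      rw [sub_pow_char, one_pow, h1, sub_self]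
    exact sub_eq_zero.mp (pow_eq_zero_iff (Fact.out : p.Prime).ne_zero |>.mp h2)
  obtain ⟨x, hx⟩ : ∃ x : Matrix.SpecialLinearGroup (Fin n) F,
      (x : Matrix (Fin n) (Fin n) F) = 1 + Nu i0 i1 i2 := ⟨⟨1 + Nu i0 i1 i2, hdet⟩, rfl⟩
  refine ⟨x, ⟨1, ?_⟩, ?_, ?_⟩
  · rw [Matrix.SpecialLinearGroup.coe_pow, one_smul, hx]
    exact hXp
  · intro z hz
    rw [hx] at hz
    have h1 := congrFun (congrFun hz i0) i1
    have h2 : (1 + Nu i0 i1 i2 : Matrix (Fin n) (Fin n) F) i0 i1 = 1 := by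
      simp [Nu, Matrix.add_apply, Matrix.one_apply_ne h01, h01.symm]
    rw [h2, Matrix.smul_apply, Matrix.one_apply_ne h01, smul_zero] at h1
    exact one_ne_zero h1
  · intro P
    refine core_reduce f hf x (fun Γ hd halt hskew c hc0 h => ?_) P
    rw [hx] at h
    exact no_sim_unip hp i0 i1 i2 h01 h02 h12 Γ hd hskew c h

/-- the case `r ∣ q - 1` -/
theorem case_diag {F : Type*} [Field F] [Fintype F] (n : ℕ) (hn : 4 ≤ n) (he : Even n)
    (f : (Fin n → F) → (Fin n → F) → F) (hf : Cfsg.Geo.IsSymplecticForm f)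
    (r : ℕ) (hr : r.Prime) (hr2 : r ≠ 2) (hgap : ¬ (n = 6 ∧ r = 3))
    (hq1 : r ∣ Fintype.card F - 1) :
    ∃ x : Matrix.SpecialLinearGroup (Fin n) F,
      (∃ z : F, ((x ^ r : Matrix.SpecialLinearGroup (Fin n) F) : Matrix (Fin n) (Fin n) F) = z • (1 : Matrix (Fin n) (Fin n) F)) ∧
      (∀ z : F, (x : Matrix (Fin n) (Fin n) F) ≠ z • (1 : Matrix (Fin n) (Fin n) F)) ∧
      ∀ P : Matrix.SpecialLinearGroup (Fin n) F, P⁻¹ * x * P ∉ ((Cfsg.Geo.similarityGroup f).comap (Matrix.SpecialLinearGroup.toGL : Matrix.SpecialLinearGroup (Fin n) F →* GL (Fin n) F)) := by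
  classical
  have : Fact r.Prime := ⟨hr⟩
  obtain ⟨u, hu⟩ := exists_prime_orderOf_dvd_card (G := Fˣ) r
    (by rw [Fintype.card_units]; exact hq1)
  have hpow : ∀ k : ℕ, u ^ k = 1 → r ∣ k := fun k hk => hu ▸ orderOf_dvd_of_pow_eq_one hk
  have hr3 : 3 ≤ r := by
    have := hr.two_le
    omega
  have hu1 : u ≠ 1 := by
    rintro rfl
    rw [orderOf_one] at hu
    omega
  have hu2 : u ^ 2 ≠ 1 := by
    intro h
    have := Nat.le_of_dvd (by norm_num) (hpow 2 h)
    omega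
  have hu4 : u ^ 4 ≠ 1 := by
    intro h
    have h1 := hpow 4 h
    have h2 : r ∣ 2 := by
      have h3 : r ∣ 2 ^ 2 := by
        norm_num
        exact h1
      exact hr.dvd_of_dvd_pow h3
    have := Nat.le_of_dvd (by norm_num) h2
    omega
  have hA : u⁻¹ ^ 2 ≠ 1 := by
    intro h
    apply hu2
    rw [inv_pow, inv_eq_one] at h
    exact h
  have hB : u⁻¹ ^ 2 ≠ u * u := by
    intro h
    apply hu4
    have e1 : u ^ 4 = u ^ 2 * (u * u) := by group
    rw [e1, ← h]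
    group
  have hC : u⁻¹ ^ 2 = u → r = 3 := by
    intro h
    have h3 : u ^ 3 = 1 := by
      have e1 : u ^ 3 = u ^ 2 * u := by group
      rw [e1]
      nth_rewrite 2 [← h]
      group
    exact (Nat.prime_dvd_prime_iff_eq hr Nat.prime_three).mp (hpow 3 h3)
  obtain ⟨m, hm⟩ : ∃ m, n = 3 + m := ⟨n - 3, by omega⟩
  have hmodd : Odd m := by
    obtain ⟨t, ht⟩ := he
    exact ⟨t - 2, by omega⟩
  subst hm
  have hm0 : 0 < m := hmodd.pos
  obtain ⟨e⟩ : Nonempty (Fin (3 + m) ≃ Fin 3 ⊕ Fin m) := ⟨finSumFinEquiv.symm⟩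
  obtain ⟨l, hl⟩ : ∃ l : F, l = (u : F) := ⟨_, rfl⟩
  obtain ⟨ν, hν⟩ : ∃ ν : F, ν = ((u⁻¹ ^ 2 : Fˣ) : F) := ⟨_, rfl⟩
  have hl0 : l ≠ 0 := by rw [hl]; exact u.ne_zero
  have hν0 : ν ≠ 0 := by rw [hν]; exact Units.ne_zero _
  have h1 : l ≠ 1 := by
    rw [hl]
    exact fun h => hu1 (Units.ext (by rw [Units.val_one]; exact h))
  have h2 : l * l ≠ 1 := by
    rw [hl]
    intro h
    apply hu2
    apply Units.ext
    rw [pow_two, Units.val_mul, Units.val_one]
    exact h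
  have hν1 : ν ≠ 1 := by
    rw [hν]
    exact fun h => hA (Units.ext (by rw [Units.val_one]; exact h))
  have hν2 : ν ≠ l * l := by
    rw [hν, hl]
    exact fun h => hB (Units.ext (by rw [Units.val_mul]; exact h))
  have hgap' : ν = l → m ≠ 3 := by
    rw [hν, hl]
    intro h hm3
    exact hgap ⟨by omega, hC (Units.ext h)⟩
  have hllν : l * l * ν = 1 := by
    rw [hl, hν, ← Units.val_mul, ← Units.val_mul]
    have : u * u * u⁻¹ ^ 2 = 1 := by group
    rw [this, Units.val_one]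
  have hlr : l ^ r = 1 := by
    rw [hl, ← Units.val_pow_eq_pow_val, ← hu, pow_orderOf_eq_one, Units.val_one]
  have hνr : ν ^ r = 1 := by
    rw [hν, ← Units.val_pow_eq_pow_val]
    have : (u⁻¹ ^ 2) ^ r = 1 := by
      rw [← pow_mul, mul_comm, pow_mul, inv_pow, ← hu, pow_orderOf_eq_one, inv_one, one_pow]
    rw [this, Units.val_one]
  have hdet : (Matrix.diagonal (dgf e l ν)).det = 1 := by
    rw [Matrix.det_diagonal]
    have e1 : ∏ i, dgf e l ν i = ∏ s : Fin 3 ⊕ Fin m, Sum.elim ![l, l, ν] (fun _ => (1 : F)) s :=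
      Equiv.prod_comp e (fun s => Sum.elim ![l, l, ν] (fun _ => (1 : F)) s)
    rw [e1, Fintype.prod_sum_type, Fin.prod_univ_three]
    simp only [Sum.elim_inl, Sum.elim_inr, Matrix.cons_val_zero, Matrix.cons_val_one,
      Matrix.cons_val_two, Finset.prod_const_one, mul_one]
    exact hllν
  have hdl : ∀ a : Fin 3, dgf e l ν (e.symm (Sum.inl a)) = ![l, l, ν] a := by
    intro a
    unfold dgf
    rw [Equiv.apply_symm_apply, Sum.elim_inl]
  have hdr : ∀ b : Fin m, dgf e l ν (e.symm (Sum.inr b)) = 1 := by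
    intro b
    unfold dgf
    rw [Equiv.apply_symm_apply, Sum.elim_inr]
  obtain ⟨x, hx⟩ : ∃ x : Matrix.SpecialLinearGroup (Fin (3 + m)) F,
      (x : Matrix (Fin (3 + m)) (Fin (3 + m)) F) = Matrix.diagonal (dgf e l ν) :=
    ⟨⟨Matrix.diagonal (dgf e l ν), hdet⟩, rfl⟩
  refine ⟨x, ⟨1, ?_⟩, ?_, ?_⟩
  · rw [Matrix.SpecialLinearGroup.coe_pow, one_smul, hx, Matrix.diagonal_pow]
    have : dgf e l ν ^ r = 1 := by
      funext i
      rw [Pi.pow_apply, Pi.one_apply]
      unfold dgf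
      rcases e i with a | b
      · fin_cases a <;> simp [hlr, hνr]
      · simp
    rw [this]
    exact Matrix.diagonal_one
  · intro z hz
    rw [hx] at hz
    have hz' : Matrix.diagonal (dgf e l ν) = z • (1 : Matrix (Fin (3 + m)) (Fin (3 + m)) F) := hz
    have e1 := congrFun (congrFun hz' (e.symm (Sum.inl 0))) (e.symm (Sum.inl 0))
    have e2 := congrFun (congrFun hz' (e.symm (Sum.inr ⟨0, hm0⟩))) (e.symm (Sum.inr ⟨0, hm0⟩))
    rw [Matrix.diagonal_apply_eq, Matrix.smul_apply, Matrix.one_apply_eq, smul_eq_mul, mul_one,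
      hdl] at e1
    rw [Matrix.diagonal_apply_eq, Matrix.smul_apply, Matrix.one_apply_eq, smul_eq_mul, mul_one,
      hdr] at e2
    have e1' : l = z := e1
    exact h1 (e1'.trans e2.symm)
  · intro P
    refine core_reduce f hf x (fun Γ hd halt hskew c hc0 h => ?_) P
    rw [hx] at h
    exact no_sim_diag m hmodd e l ν hl0 hν0 h1 h2 hν1 hν2 hgap' Γ hd c h

/-- the case `r ∣ q^k - 1`, `k` odd, `r ∤ q - 1` -/
theorem case_block {F : Type*} [Field F] [Fintype F] {p : ℕ} [Fact p.Prime] [CharP F p]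
    (n : ℕ) (he : Even n)
    (f : (Fin n → F) → (Fin n → F) → F) (hf : Cfsg.Geo.IsSymplecticForm f)
    (r : ℕ) [Fact r.Prime] (k : ℕ) (hk : Odd k) (hkn : k < n)
    (hrk : r ∣ Fintype.card F ^ k - 1) (hq1 : ¬ r ∣ Fintype.card F - 1) :
    ∃ x : Matrix.SpecialLinearGroup (Fin n) F,
      (∃ z : F, ((x ^ r : Matrix.SpecialLinearGroup (Fin n) F) : Matrix (Fin n) (Fin n) F) = z • (1 : Matrix (Fin n) (Fin n) F)) ∧
      (∀ z : F, (x : Matrix (Fin n) (Fin n) F) ≠ z • (1 : Matrix (Fin n) (Fin n) F)) ∧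
      ∀ P : Matrix.SpecialLinearGroup (Fin n) F, P⁻¹ * x * P ∉ ((Cfsg.Geo.similarityGroup f).comap (Matrix.SpecialLinearGroup.toGL : Matrix.SpecialLinearGroup (Fin n) F →* GL (Fin n) F)) := by
  classical
  have hr : r.Prime := Fact.out
  have hk0 : 0 < k := hk.pos
  obtain ⟨A, hAr, hAu⟩ := exists_fpf_mat (F := F) k hk0 r hrk
  obtain ⟨m, hm⟩ : ∃ m, n = k + m := ⟨n - k, by omega⟩
  have hmodd : Odd m := by
    obtain ⟨a, ha⟩ := he
    obtain ⟨b, hb⟩ := hk
    exact ⟨a - b - 1, by omega⟩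
  subst hm
  have hm0 : 0 < m := hmodd.pos
  obtain ⟨e⟩ : Nonempty (Fin (k + m) ≃ Fin k ⊕ Fin m) := ⟨finSumFinEquiv.symm⟩
  have hdetA : A.det = 1 :=
    eq_one_of_pow_prime A.det r hr hq1 (by rw [← Matrix.det_pow, hAr, Matrix.det_one])
  obtain ⟨X, hX⟩ : ∃ X : Matrix (Fin (k + m)) (Fin (k + m)) F,
      X = (Matrix.fromBlocks A 0 0 (1 : Matrix (Fin m) (Fin m) F)).submatrix e e := ⟨_, rfl⟩
  have hdetX : X.det = 1 := by
    rw [hX, Matrix.det_submatrix_equiv_self, Matrix.det_fromBlocks_zero₂₁, hdetA, Matrix.det_one,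
      mul_one]
  have hXr : X ^ r = 1 := by
    rw [hX, submatrix_pow, fb_pow, hAr, one_pow, Matrix.fromBlocks_one,
      Matrix.submatrix_one_equiv]
  obtain ⟨x, hx⟩ : ∃ x : Matrix.SpecialLinearGroup (Fin (k + m)) F,
      (x : Matrix (Fin (k + m)) (Fin (k + m)) F) = X := ⟨⟨X, hdetX⟩, rfl⟩
  refine ⟨x, ⟨1, ?_⟩, ?_, ?_⟩
  · rw [Matrix.SpecialLinearGroup.coe_pow, one_smul, hx]
    exact hXr
  · intro z hz
    rw [hx] at hz
    have hz' : X = z • (1 : Matrix (Fin (k + m)) (Fin (k + m)) F) := hz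
    have e1 := congrFun (congrFun hz' (e.symm (Sum.inr ⟨0, hm0⟩))) (e.symm (Sum.inr ⟨0, hm0⟩))
    rw [hX, Matrix.submatrix_apply, Equiv.apply_symm_apply, Matrix.fromBlocks_apply₂₂,
      Matrix.one_apply_eq, Matrix.smul_apply, Matrix.one_apply_eq, smul_eq_mul, mul_one] at e1
    have hA1 : A = 1 := by
      ext a b
      have e2 := congrFun (congrFun hz' (e.symm (Sum.inl a))) (e.symm (Sum.inl b))
      rw [hX, Matrix.submatrix_apply, Equiv.apply_symm_apply, Equiv.apply_symm_apply,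
        Matrix.fromBlocks_apply₁₁, Matrix.smul_apply, ← e1, one_smul] at e2
      rw [e2, Matrix.one_apply, Matrix.one_apply]
      by_cases hab : a = b
      · rw [if_pos hab, if_pos (by rw [hab])]
      · rw [if_neg hab, if_neg (fun h => hab (Sum.inl.inj (e.symm.injective h)))]
    rw [hA1, sub_self] at hAu
    have h0 := (Matrix.isUnit_iff_isUnit_det _).mp hAu
    have : Nonempty (Fin k) := ⟨⟨0, hk0⟩⟩
    rw [Matrix.det_zero] at h0
    exact not_isUnit_zero h0
  · intro P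
    refine core_reduce f hf x (fun Γ hd halt hskew c hc0 h => ?_) P
    rw [hx] at h
    have h' : X.transpose * Γ * X = c • Γ := h
    have : Nonempty (Fin (k + m)) := ⟨⟨0, by omega⟩⟩
    have hcr := mult_pow_eq_one X Γ hd c h' r hXr
    have hc1 := eq_one_of_pow_prime c r hr hq1 hcr
    rw [hc1, one_smul, hX] at h'
    exact no_sim_block k m hmodd e A hAu Γ hd halt h'

/-- Derangements of odd prime order of PSL_n(q) on the cosets of a symplectic-type subgroup. Here `T = PSL_n(F)` for a field `F` with `q` elements, `n ≥ 4` even, `f` is a nondegenerate alternating form on `F^n`, and `H` is the subgroup of matrices of determinant 1 preserving `f` up to a scalar — a maximal subgroup of type Sp_n(q); Ω is the set of `T`-conjugates of `H` (cosets of `H`), so an element of `T` of prime order `r` (a matrix `x` of determinant 1 with `x^r` scalar, `x` not scalar) fixes a point of Ω when some conjugate of `x` by a matrix of determinant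 1 preserves `f` up to a scalar. For every odd prime `r` dividing the index of `H`, with `(n, r) ≠ (6, 3)`, there is an element of `T` of order `r` with no conjugate in `H`. (For `n = 6`, `r = 3` this can fail: when `(q − 1)_3 = 3` every element of order 3 is conjugate into `H`.) -/
theorem result {F : Type*} [Field F] [Fintype F] {p : ℕ} [Fact p.Prime] [CharP F p] {q : ℕ} (hq : Fintype.card F = q)
    (n : ℕ) (hn : 4 ≤ n) (he : Even n) (f : (Fin n → F) → (Fin n → F) → F) (hf : Cfsg.Geo.IsSymplecticForm f)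
    (r : ℕ) [Fact r.Prime] (hr2 : r ≠ 2) (hgap : ¬ (n = 6 ∧ r = 3)) (hΩ : r ∣ ((Cfsg.Geo.similarityGroup f).comap (Matrix.SpecialLinearGroup.toGL : Matrix.SpecialLinearGroup (Fin n) F →* GL (Fin n) F)).index) :
    ∃ x : Matrix.SpecialLinearGroup (Fin n) F,
      (∃ z : F, ((x ^ r : Matrix.SpecialLinearGroup (Fin n) F) : Matrix (Fin n) (Fin n) F) = z • (1 : Matrix (Fin n) (Fin n) F)) ∧
      (∀ z : F, (x : Matrix (Fin n) (Fin n) F) ≠ z • (1 : Matrix (Fin n) (Fin n) F)) ∧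
      ∀ P : Matrix.SpecialLinearGroup (Fin n) F, P⁻¹ * x * P ∉ ((Cfsg.Geo.similarityGroup f).comap (Matrix.SpecialLinearGroup.toGL : Matrix.SpecialLinearGroup (Fin n) F →* GL (Fin n) F)) := by
  classical
  have hr : r.Prime := Fact.out
  obtain ⟨d, hd⟩ : ∃ d, n = 2 * d := by
    obtain ⟨d, hd⟩ := he
    exact ⟨d, by omega⟩
  by_cases hrp : r = p
  · subst hrp
    exact case_unip hr2 n hn f hf
  · have h1 := hΩ.trans (index_dvd f hf d hd)
    have h2 : ∃ i < d, r ∣ Fintype.card F ^ (2 * i + 1) - 1 := by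
      rcases (Nat.Prime.dvd_mul hr).mp h1 with h | h
      · exfalso
        obtain ⟨i, _, hi⟩ := (Prime.dvd_finsetProd_iff hr.prime _).mp h
        have h3 : r ∣ Fintype.card F := hr.dvd_of_dvd_pow hi
        obtain ⟨k, hp, hk⟩ := FiniteField.card F p
        rw [hk] at h3
        exact hrp ((Nat.prime_dvd_prime_iff_eq hr hp).mp (hr.dvd_of_dvd_pow h3))
      · obtain ⟨i, hi, h3⟩ := (Prime.dvd_finsetProd_iff hr.prime _).mp h
        exact ⟨i, Finset.mem_range.mp hi, h3⟩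
    obtain ⟨i, hi, hri⟩ := h2
    by_cases hq1 : r ∣ Fintype.card F - 1
    · exact case_diag n hn he f hf r hr hr2 hgap hq1
    · exact case_block n he f hf r (2 * i + 1) ⟨i, rfl⟩ (by omega) hri hq1

end Cfsg.Agent.S5968
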