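import Cfsg.Statements.S5969
import Cfsg.Agent.Lib.helper24.QuadExt2

set_option autoImplicit false
open scoped MatrixGroups
open Cfsg

namespace Cfsg.Agent.S5969

theorem conj_mem_of_commute {F : Type*} [Field F] {n : ℕ}
    (K : Subalgebra F (Matrix (Fin n) (Fin n) F)) (x : Matrix.SpecialLinearGroup (Fin n) F)
    (P₀ G : Matrix (Fin n) (Fin n) F) (hdet : P₀.det = 1)
    (hconj : (x : Matrix (Fin n) (Fin n) F) * P₀ = P₀ * G) (hG : ∀ c ∈ K, G * c = c * G) :
    ∃ P : Matrix.SpecialLinearGroup (Fin n) F, P⁻¹ * x * P ∈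
      ((Cfsg.Geo.subalgebraNormalizer K).comap
        (Matrix.SpecialLinearGroup.toGL :
          Matrix.SpecialLinearGroup (Fin n) F →* GL (Fin n) F)) := by
  set P : Matrix.SpecialLinearGroup (Fin n) F := ⟨P₀, hdet⟩ with hPdef
  refine ⟨P, ?_⟩
  rw [Subgroup.mem_comap]
  apply Cfsg.Agent.Lib.helper24.fsn_mem_normalizer_of_commute
  have hPP' : ((P⁻¹ : Matrix.SpecialLinearGroup (Fin n) F) : Matrix (Fin n) (Fin n) F) * P₀ =
      1 := by
    have h1 : ((P⁻¹ * P : Matrix.SpecialLinearGroup (Fin n) F) : Matrix (Fin n) (Fin n) F) =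
        1 := by
      rw [inv_mul_cancel, Matrix.SpecialLinearGroup.coe_one]
    rw [Matrix.SpecialLinearGroup.coe_mul] at h1
    exact h1
  have hg : ((Matrix.SpecialLinearGroup.toGL (P⁻¹ * x * P) : GL (Fin n) F) :
      Matrix (Fin n) (Fin n) F) = G := by
    show ((P⁻¹ * x * P : Matrix.SpecialLinearGroup (Fin n) F) : Matrix (Fin n) (Fin n) F) = G
    rw [Matrix.SpecialLinearGroup.coe_mul, Matrix.SpecialLinearGroup.coe_mul, Matrix.mul_assoc]
    show _ * ((x : Matrix (Fin n) (Fin n) F) * P₀) = G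
    rw [hconj, ← Matrix.mul_assoc, hPP', Matrix.one_mul]
  intro c hc
  rw [hg]
  exact hG c hc

/-- Involutions of PSL_n(q) and extension-field subgroups of degree 2. Here `T = PSL_n(F)` for a field `F` with `q = p^f` elements (`n ≥ 2`, `(n, q) ≠ (2, 2), (2, 3)`), `k` is a prime dividing `n`, `K` is a subalgebra of the `n × n` matrices that is a field of degree `k` over `F` (an extension-field structure F_{q^k} on `F^n`), and `H` is the subgroup of matrices of determinant 1 normalizing `K` — a subgroup of type GL_{n/k}(q^k) (maximal except in some small cases; maximality is not assumed); Ω is the set of cosets of `H` in `T`, so an element of `T` of prime order `r` (a matrix `x` of determinant 1 with `x^r` scalar, `x` not scalar) fixes a point of Ω when some conjugate of `x` by a matrix of determinant 1 normalizes `K`. Take `k = 2` and suppose the index of `H` is even. Then every involution of `T` is conjugate in `T` into `H` if and only if `n = 2`, or `q` is odd and `(q − 1)_2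 ≤ (n)_2`. -/
theorem result {F : Type*} [Field F] [Fintype F] {p : ℕ} [Fact p.Prime] [CharP F p] {q : ℕ} (hq : Fintype.card F = q)
    (n : ℕ) (hn : 2 ≤ n) (hT : (n, q) ≠ (2, 2) ∧ (n, q) ≠ (2, 3))
    (k : ℕ) (hk : k.Prime) (hkn : k ∣ n) (K : Subalgebra F (Matrix (Fin n) (Fin n) F)) (hK : Cfsg.Geo.IsFieldSubalgebra k K) (hk2 : k = 2) (hΩ : 2 ∣ ((Cfsg.Geo.subalgebraNormalizer K).comap (Matrix.SpecialLinearGroup.toGL : Matrix.SpecialLinearGroup (Fin n) F →* GL (Fin n) F)).index) :
    (∀ x : Matrix.SpecialLinearGroup (Fin n) F,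
      (∃ z : F, ((x ^ 2 : Matrix.SpecialLinearGroup (Fin n) F) : Matrix (Fin n) (Fin n) F) = z • (1 : Matrix (Fin n) (Fin n) F)) →
      (∀ z : F, (x : Matrix (Fin n) (Fin n) F) ≠ z • (1 : Matrix (Fin n) (Fin n) F)) →
      ∃ P : Matrix.SpecialLinearGroup (Fin n) F, P⁻¹ * x * P ∈ ((Cfsg.Geo.subalgebraNormalizer K).comap (Matrix.SpecialLinearGroup.toGL : Matrix.SpecialLinearGroup (Fin n) F →* GL (Fin n) F))) ↔
    (n = 2 ∨ (Odd q ∧ padicValNat 2 (q - 1) ≤ padicValNat 2 n)) := by
  classical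
  subst hk2
  subst hq
  have hEven : Even n := even_iff_two_dvd.2 hkn
  have hn0 : 0 < n := by omega
  constructor
  · intro hall
    by_contra hcon
    rw [not_or, not_and] at hcon
    obtain ⟨hn2, hcon2⟩ := hcon
    have hn3 : 3 ≤ n := by omega
    have hdata : ∃ X : Matrix (Fin n) (Fin n) F, X.det = 1 ∧ (∃ z : F, X * X = z • 1) ∧
        (∀ z : F, X ≠ z • 1) ∧
        ∃ (lam : F) (ψ : (Fin n → F) →ₗ[F] F) (u : Fin n → F), ψ ≠ 0 ∧ u ≠ 0 ∧
          ∀ w, Matrix.mulVec X w = lam • w + ψ w • u := by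
      by_cases h2 : (2 : F) = 0
      · exact Cfsg.Agent.Lib.helper24.qe_transvection_data hn h2
      · have hoddq : Odd (Fintype.card F) :=
          Cfsg.Agent.Lib.helper24.qe_two_ne_zero_iff_odd.1 h2
        obtain ⟨lam, hlam⟩ := Cfsg.Agent.Lib.helper24.qe_exists_pow_eq_neg_one (F := F) n
          (by omega) (not_le.1 (hcon2 hoddq))
        exact Cfsg.Agent.Lib.helper24.qe_reflection_data hn h2 lam hlam
    obtain ⟨X, hXdet, ⟨z, hXz⟩, hXns, lam, ψ, u, hψ, hu, hXw⟩ := hdata
    let x : Matrix.SpecialLinearGroup (Fin n) F := ⟨X, hXdet⟩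
    obtain ⟨P, hP⟩ := hall x
      ⟨z, by rw [Matrix.SpecialLinearGroup.coe_pow, pow_two]; exact hXz⟩ hXns
    rw [Subgroup.mem_comap] at hP
    have hPP : (P : Matrix (Fin n) (Fin n) F) *
        ((P⁻¹ : Matrix.SpecialLinearGroup (Fin n) F) : Matrix (Fin n) (Fin n) F) = 1 := by
      rw [← Matrix.SpecialLinearGroup.coe_mul, mul_inv_cancel, Matrix.SpecialLinearGroup.coe_one]
    have hPP' : ((P⁻¹ : Matrix.SpecialLinearGroup (Fin n) F) : Matrix (Fin n) (Fin n) F) *
        (P : Matrix (Fin n) (Fin n) F) = 1 := by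
      rw [← Matrix.SpecialLinearGroup.coe_mul, inv_mul_cancel, Matrix.SpecialLinearGroup.coe_one]
    refine Cfsg.Agent.Lib.helper24.fsn_no_hyperplane hK (by rw [Fintype.card_fin]; exact hn3) _ hP
      lam (ψ ∘ₗ Matrix.mulVecLin (P : Matrix (Fin n) (Fin n) F))
      (Matrix.mulVec
        ((P⁻¹ : Matrix.SpecialLinearGroup (Fin n) F) : Matrix (Fin n) (Fin n) F) u) ?_ ?_ ?_
    · intro h
      apply hψ
      apply LinearMap.ext
      intro w
      have h1 := LinearMap.congr_fun h (Matrix.mulVec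
        ((P⁻¹ : Matrix.SpecialLinearGroup (Fin n) F) : Matrix (Fin n) (Fin n) F) w)
      simp only [LinearMap.comp_apply, Matrix.mulVecLin_apply, Matrix.mulVec_mulVec, hPP,
        Matrix.one_mulVec, LinearMap.zero_apply] at h1
      rw [h1, LinearMap.zero_apply]
    · intro h
      apply hu
      have h1 := congrArg (Matrix.mulVec (P : Matrix (Fin n) (Fin n) F)) h
      simpa only [Matrix.mulVec_mulVec, hPP, Matrix.one_mulVec, Matrix.mulVec_zero] using h1
    · intro w
      show Matrix.mulVec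
          ((P⁻¹ * x * P : Matrix.SpecialLinearGroup (Fin n) F) : Matrix (Fin n) (Fin n) F) w = _
      rw [Matrix.SpecialLinearGroup.coe_mul, Matrix.SpecialLinearGroup.coe_mul,
        ← Matrix.mulVec_mulVec, ← Matrix.mulVec_mulVec]
      show Matrix.mulVec _ (Matrix.mulVec X _) = _
      rw [hXw, Matrix.mulVec_add, Matrix.mulVec_smul, Matrix.mulVec_smul, Matrix.mulVec_mulVec,
        hPP', Matrix.one_mulVec]
      rfl
  · intro hR x hxz hxns
    obtain ⟨z, hz⟩ := hxz
    rw [Matrix.SpecialLinearGroup.coe_pow, pow_two] at hz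
    haveI : NeZero n := ⟨by omega⟩
    have hz0 : z ≠ 0 := by
      rintro rfl
      rw [zero_smul] at hz
      have h1 : (x : Matrix (Fin n) (Fin n) F).det * (x : Matrix (Fin n) (Fin n) F).det = 0 := by
        haveI : Nonempty (Fin n) := ⟨0⟩
        rw [← Matrix.det_mul, hz, Matrix.det_zero]
      rw [x.det_coe, one_mul] at h1
      exact one_ne_zero h1
    by_cases hsq : IsSquare z
    · obtain ⟨lam, hlam⟩ := hsq
      have hlam0 : lam ≠ 0 := by
        rintro rfl
        apply hz0
        rw [hlam, mul_zero]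
      set Y : Matrix (Fin n) (Fin n) F := lam⁻¹ • (x : Matrix (Fin n) (Fin n) F) with hY
      have hxY : (x : Matrix (Fin n) (Fin n) F) = lam • Y := by
        rw [hY, smul_smul, mul_inv_cancel₀ hlam0, one_smul]
      have hYY : Y * Y = 1 := by
        rw [hY, Matrix.smul_mul, Matrix.mul_smul, hz, smul_smul, smul_smul, hlam]
        have h1 : lam⁻¹ * lam⁻¹ * (lam * lam) = 1 := by field_simp
        rw [h1, one_smul]
      have hYns : ∀ s : F, Y ≠ s • 1 := by
        intro s hs
        apply hxns (lam * s)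
        rw [hxY, hs, smul_smul]
      by_cases hn2 : n = 2
      · subst hn2
        have hK' : Cfsg.Geo.IsFieldSubalgebra (Fintype.card (Fin 2)) K := by
          rw [Fintype.card_fin]
          exact hK
        obtain ⟨g, hgN, hg2, -, hgns⟩ := Cfsg.Agent.Lib.helper24.fsn_exists_frobenius' hK'
          (by rw [Fintype.card_fin])
        rw [Fintype.card_fin, pow_two] at hg2
        obtain ⟨P₀, hP₀det, hP₀⟩ := Cfsg.Agent.Lib.helper24.inv2_conj Y
          (g : Matrix (Fin 2) (Fin 2) F) hYY hg2 hYns hgns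
        set P : Matrix.SpecialLinearGroup (Fin 2) F := ⟨P₀, hP₀det⟩ with hPdef
        refine ⟨P, ?_⟩
        rw [Subgroup.mem_comap]
        let zu : GL (Fin 2) F := ⟨lam • 1, lam⁻¹ • 1,
          by rw [smul_mul_smul_comm, mul_one, mul_inv_cancel₀ hlam0, one_smul],
          by rw [smul_mul_smul_comm, mul_one, inv_mul_cancel₀ hlam0, one_smul]⟩
        have hzuN : zu ∈ Cfsg.Geo.subalgebraNormalizer K := by
          intro c
          show c ∈ K ↔ (lam • (1 : Matrix (Fin 2) (Fin 2) F)) * c * (lam⁻¹ • 1) ∈ K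
          have h1 : (lam • (1 : Matrix (Fin 2) (Fin 2) F)) * c * (lam⁻¹ • 1) = c := by
            rw [Matrix.smul_mul, Matrix.one_mul, Matrix.mul_smul, Matrix.mul_one, smul_smul,
              inv_mul_cancel₀ hlam0, one_smul]
          rw [h1]
        have hfinal : Matrix.SpecialLinearGroup.toGL (P⁻¹ * x * P) = zu * g := by
          rw [map_mul, map_mul, map_inv, mul_assoc, inv_mul_eq_iff_eq_mul]
          apply Units.ext
          show (x : Matrix (Fin 2) (Fin 2) F) * P₀ =
            P₀ * ((lam • (1 : Matrix (Fin 2) (Fin 2) F)) * (g : Matrix (Fin 2) (Fin 2) F))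
          rw [hxY, Matrix.smul_mul, hP₀, Matrix.smul_mul, Matrix.one_mul, Matrix.mul_smul]
        rw [hfinal]
        exact Subgroup.mul_mem _ hzuN hgN
      · obtain ⟨hoddq, hval⟩ := hR.resolve_left hn2
        have h2 : (2 : F) ≠ 0 := Cfsg.Agent.Lib.helper24.qe_two_ne_zero_iff_odd.2 hoddq
        have hYdet : Y.det = 1 := by
          have h1 : Y.det * Y.det = 1 := by rw [← Matrix.det_mul, hYY, Matrix.det_one]
          have h3 : Y.det = (lam⁻¹) ^ n := by
            rw [hY, Matrix.det_smul, x.det_coe, mul_one, Fintype.card_fin]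
          rcases mul_self_eq_one_iff.1 h1 with h4 | h4
          · exact h4
          · exfalso
            rw [h3] at h4
            have h5 := Cfsg.Agent.Lib.helper24.qe_val_lt_of_pow_eq_neg_one hoddq n (by omega)
              lam⁻¹ h4
            omega
        obtain ⟨θ, α, β, hθK, hθ, hirr, hKθ, -⟩ := Cfsg.Agent.Lib.helper24.fsn_quadratic_gen hK
        obtain ⟨P₀, Y', hP₀det, hP₀, hY'θ⟩ := Cfsg.Agent.Lib.helper24.qe_involution_conj hEven
          hn0 h2 θ α β hθ hirr Y hYY hYdet
        apply conj_mem_of_commute K x P₀ (lam • Y') hP₀det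
        · rw [hxY, Matrix.smul_mul, hP₀, Matrix.mul_smul]
        · intro c hc
          obtain ⟨s, t, rfl⟩ := hKθ c hc
          rw [Matrix.smul_mul, Matrix.mul_smul, Matrix.mul_add, Matrix.add_mul, Matrix.mul_smul,
            Matrix.mul_smul, Matrix.smul_mul, Matrix.smul_mul, Matrix.mul_one, Matrix.one_mul,
            hY'θ]
    · have hchar : ringChar F ≠ 2 := fun h => hsq (FiniteField.isSquare_of_char_two h z)
      have hodd : Fintype.card F % 2 = 1 := FiniteField.odd_card_of_char_ne_two hchar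
      obtain ⟨ξ, hξK, hξ⟩ := Cfsg.Agent.Lib.helper24.qe_exists_sqrt hK z hsq
      obtain ⟨P₀, hP₀det, hP₀⟩ := Cfsg.Agent.Lib.helper24.qe_conj_of_sq hodd
        (x : Matrix (Fin n) (Fin n) F) ξ z hsq hz hξ hn0
      exact conj_mem_of_commute K x P₀ ξ hP₀det hP₀ (fun c hc => hK.comm ξ hξK c hc)

end Cfsg.Agent.S5969
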