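import Cfsg.Statements.S5970
import Cfsg.Agent.Lib.helper24.FsCyclic
import Cfsg.Agent.Lib.helper24.FsNorm

set_option autoImplicit false
open scoped MatrixGroups
open Cfsg

namespace Cfsg.Agent.S5970

theorem exists_small_block {F : Type*} [Field F] [Fintype F] {n : ℕ} [hn : Fact n.Prime]
    (hn3 : 3 < n) (hqn : ((Fintype.card F : ℕ) : ZMod n) ≠ 0)
    (hord : orderOf ((Fintype.card F : ℕ) : ZMod n) ≠ n - 1) :
    ∃ m : ℕ, 2 ≤ m ∧ 2 * m < n ∧
      ∃ A : Matrix (Fin m) (Fin m) F, A.det = 1 ∧ A ^ n = 1 ∧ A ≠ 1 := by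
  classical
  set q := Fintype.card F with hq
  set d := orderOf ((q : ℕ) : ZMod n) with hd
  have hq1 : 1 < q := Fintype.one_lt_card
  have hdvd : d ∣ n - 1 := orderOf_dvd_of_pow_eq_one (ZMod.pow_card_sub_one_eq_one hqn)
  have hn5 : 5 ≤ n := by
    have : n ≠ 4 := by
      rintro rfl
      exact absurd hn.out (by norm_num)
    omega
  have hd2 : 2 * d ≤ n - 1 := by
    obtain ⟨e, he⟩ := hdvd
    have he0 : e ≠ 0 := by
      rintro rfl
      omega
    have he1 : e ≠ 1 := by
      rintro rfl
      apply hord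
      omega
    have h2e : 2 ≤ e := by omega
    calc 2 * d ≤ e * d := Nat.mul_le_mul_right d h2e
      _ = n - 1 := by rw [he, mul_comm]
  have hd0 : 0 < d := by
    rcases Nat.eq_zero_or_pos d with h | h
    · rw [h] at hdvd
      have := Nat.eq_zero_of_zero_dvd hdvd
      omega
    · exact h
  have hdiv : n ∣ q ^ d - 1 := by
    rw [← ZMod.natCast_eq_zero_iff, Nat.cast_sub (Nat.one_le_pow _ _ (by omega)), Nat.cast_pow,
      Nat.cast_one, hd, pow_orderOf_eq_one, sub_self]
  by_cases hd1 : d = 1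
  · rw [hd1, pow_one] at hdiv
    have hcard : n ∣ Fintype.card Fˣ := by
      rw [Fintype.card_units]
      exact hdiv
    obtain ⟨ω, hω⟩ := exists_prime_orderOf_dvd_card n hcard
    have hωn : (ω : F) ^ n = 1 := by
      rw [← Units.val_pow_eq_pow_val, ← hω, pow_orderOf_eq_one, Units.val_one]
    refine ⟨2, le_refl 2, by omega, Matrix.diagonal ![(ω : F), ((ω⁻¹ : Fˣ) : F)], ?_, ?_, ?_⟩
    · rw [Matrix.det_diagonal, Fin.prod_univ_two]
      simp
    · rw [Matrix.diagonal_pow, ← Matrix.diagonal_one]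
      congr 1
      funext i
      fin_cases i
      · simpa using hωn
      · simp [hωn]
    · intro h
      have h00 := congrFun (congrFun h 0) 0
      simp at h00
      rw [h00, orderOf_one] at hω
      omega
  · have hd2' : 2 ≤ d := by omega
    have hcard : n ∣ Nat.card (GL (Fin d) F) := by
      rw [Matrix.card_GL_field]
      have hmem : (⟨0, hd0⟩ : Fin d) ∈ Finset.univ := Finset.mem_univ _
      refine Dvd.dvd.trans ?_ (Finset.dvd_prod_of_mem _ hmem)
      simpa using hdiv
    obtain ⟨g, hg⟩ := exists_prime_orderOf_dvd_card' n hcard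
    have hgn : (g : Matrix (Fin d) (Fin d) F) ^ n = 1 := by
      rw [← Units.val_pow_eq_pow_val, ← hg, pow_orderOf_eq_one, Units.val_one]
    refine ⟨d, hd2', by omega, (g : Matrix (Fin d) (Fin d) F), ?_, hgn, ?_⟩
    · have h1 : (g : Matrix (Fin d) (Fin d) F).det ^ n = 1 := by
        rw [← Matrix.det_pow, hgn, Matrix.det_one]
      have h0 : (g : Matrix (Fin d) (Fin d) F).det ≠ 0 := by
        intro h
        rw [h, zero_pow (by omega)] at h1
        exact zero_ne_one h1
      have h2 := FiniteField.pow_card_sub_one_eq_one _ h0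
      have hcop : Nat.Coprime n (q - 1) := by
        rw [Nat.Prime.coprime_iff_not_dvd hn.out]
        intro hdv
        apply hd1
        have h3 : ((q - 1 : ℕ) : ZMod n) = 0 := (ZMod.natCast_eq_zero_iff _ _).2 hdv
        rw [Nat.cast_sub (by omega), Nat.cast_one, sub_eq_zero] at h3
        rw [hd, h3, orderOf_one]
      have h3 := pow_gcd_eq_one.2 ⟨h1, h2⟩
      rw [Nat.Coprime.gcd_eq_one hcop, pow_one] at h3
      exact h3
    · intro h
      have h1 : g = 1 := Units.ext h
      rw [h1, orderOf_one] at hg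
      omega

open Matrix in
theorem exists_block_element {F : Type*} [Field F] {n m : ℕ} (hm : m ≤ n)
    (A : Matrix (Fin m) (Fin m) F) (hdet : A.det = 1) (hAn : A ^ n = 1) (hA1 : A ≠ 1) :
    ∃ (X : Matrix (Fin n) (Fin n) F) (L : (Fin (n - m) → F) →ₗ[F] (Fin n → F)),
      X.det = 1 ∧ X ^ n = 1 ∧ X ≠ 1 ∧ Function.Injective L ∧ ∀ u, X *ᵥ (L u) = L u := by
  classical
  let e : Fin m ⊕ Fin (n - m) ≃ Fin n := finSumFinEquiv.trans (finCongr (by omega))
  set X₀ : Matrix (Fin m ⊕ Fin (n - m)) (Fin m ⊕ Fin (n - m)) F :=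
    Matrix.fromBlocks A 0 0 1 with hX₀
  have hpow : ∀ k : ℕ, X₀ ^ k = Matrix.fromBlocks (A ^ k) 0 0 1 := by
    intro k
    induction k with
    | zero => simp [Matrix.fromBlocks_one]
    | succ k ih =>
      rw [pow_succ, ih, hX₀, Matrix.fromBlocks_multiply]
      simp [pow_succ]
  let L : (Fin (n - m) → F) →ₗ[F] (Fin n → F) :=
    { toFun := fun u i => Sum.elim (0 : Fin m → F) u (e.symm i)
      map_add' := fun u v => by
        ext i
        rcases h : e.symm i with a | b <;> simp [h]
      map_smul' := fun c u => by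
        ext i
        rcases h : e.symm i with a | b <;> simp [h] }
  have hL : ∀ u i, L u i = Sum.elim (0 : Fin m → F) u (e.symm i) := fun u i => rfl
  refine ⟨X₀.submatrix e.symm e.symm, L, ?_, ?_, ?_, ?_, ?_⟩
  · rw [Matrix.det_submatrix_equiv_self, hX₀, Matrix.det_fromBlocks_zero₂₁, hdet, Matrix.det_one,
      one_mul]
  · have h1 : ∀ k : ℕ,
        (X₀.submatrix e.symm e.symm) ^ k = (X₀ ^ k).submatrix e.symm e.symm := by
      intro k
      induction k with
      | zero => simp
      | succ k ih => rw [pow_succ, ih, pow_succ, Matrix.submatrix_mul_equiv]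
    rw [h1, hpow, hAn, Matrix.fromBlocks_one, Matrix.submatrix_one_equiv]
  · intro h
    apply hA1
    ext a b
    have h1 := congrFun (congrFun h (e (Sum.inl a))) (e (Sum.inl b))
    rw [Matrix.submatrix_apply, Equiv.symm_apply_apply, Equiv.symm_apply_apply, hX₀,
      Matrix.fromBlocks_apply₁₁] at h1
    rw [h1, Matrix.one_apply, Matrix.one_apply]
    simp
  · intro u v huv
    ext j
    have h1 := congrFun huv (e (Sum.inr j))
    rw [hL, hL, Equiv.symm_apply_apply] at h1
    simpa using h1
  · intro u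
    rw [Matrix.submatrix_mulVec_equiv]
    have h1 : (L u) ∘ (e.symm.symm) = Sum.elim (0 : Fin m → F) u := by
      ext i
      simp [hL]
    rw [h1, hX₀, Matrix.fromBlocks_mulVec]
    ext i
    rw [hL]
    rcases h : e.symm i with a | b
    · simp [h]
    · simp [h]

/-- Elements of order `n` of PSL_n(q), `n` prime, and the normalizer of a Singer cycle. Here `T = PSL_n(F)` for a field `F` with `q = p^f` elements (`n ≥ 2`, `(n, q) ≠ (2, 2), (2, 3)`), `k` is a prime dividing `n`, `K` is a subalgebra of the `n × n` matrices that is a field of degree `k` over `F` (an extension-field structure F_{q^k} on `F^n`), and `H` is the subgroup of matrices of determinant 1 normalizing `K` — a subgroup of type GL_{n/k}(q^k) (maximal except in some small cases; maximality is not assumed); Ω is the set of cosets of `H` in `T`, so an element of `T` of prime order `r` (a matrix `x` of determinant 1 with `x^r` scalar, `x` not scalar) fixes a point of Ω when some conjugate of `x` by a matrix of determinant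 1 normalizes `K`. Take `k = n > 3` prime with `n ≠ p` (so `H` is the normalizer of a Singer cycle), and suppose `n` divides the index of `H`. Then every element of `T` of order `n` is conjugate in `T` into `H` if and only if the multiplicative order of `q` modulo `n` is `n − 1`. -/
theorem result {F : Type*} [Field F] [Fintype F] {p : ℕ} [Fact p.Prime] [CharP F p] {q : ℕ} (hq : Fintype.card F = q)
    (n : ℕ) (hn : 2 ≤ n) (hT : (n, q) ≠ (2, 2) ∧ (n, q) ≠ (2, 3))
    (k : ℕ) (hk : k.Prime) (hkn : k ∣ n) (K : Subalgebra F (Matrix (Fin n) (Fin n) F)) (hK : Cfsg.Geo.IsFieldSubalgebra k K) (hkn' : k = n) (hn3 : 3 < n) (hnp : n ≠ p) (hΩ : n ∣ ((Cfsg.Geo.subalgebraNormalizer K).comap (Matrix.SpecialLinearGroup.toGL : Matrix.SpecialLinearGroup (Fin n) F →* GL (Fin n) F)).index) :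
    (∀ x : Matrix.SpecialLinearGroup (Fin n) F,
      (∃ z : F, ((x ^ n : Matrix.SpecialLinearGroup (Fin n) F) : Matrix (Fin n) (Fin n) F) = z • (1 : Matrix (Fin n) (Fin n) F)) →
      (∀ z : F, (x : Matrix (Fin n) (Fin n) F) ≠ z • (1 : Matrix (Fin n) (Fin n) F)) →
      ∃ P : Matrix.SpecialLinearGroup (Fin n) F, P⁻¹ * x * P ∈ ((Cfsg.Geo.subalgebraNormalizer K).comap (Matrix.SpecialLinearGroup.toGL : Matrix.SpecialLinearGroup (Fin n) F →* GL (Fin n) F))) ↔
    orderOf (q : ZMod n) = n - 1 := by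
  classical
  subst hkn'
  subst hq
  haveI hkF : Fact k.Prime := ⟨hk⟩
  have hpp : p.Prime := Fact.out
  have hnF : ((k : ℕ) : F) ≠ 0 := fun h =>
    hnp ((Nat.prime_dvd_prime_iff_eq hpp hk).1 ((CharP.cast_eq_zero_iff F p k).1 h)).symm
  have hqn : ((Fintype.card F : ℕ) : ZMod k) ≠ 0 := by
    obtain ⟨f, -, hf⟩ := FiniteField.card F p
    rw [hf, Nat.cast_pow]
    apply pow_ne_zero
    intro h
    exact hnp ((Nat.prime_dvd_prime_iff_eq hk hpp).1 ((ZMod.natCast_eq_zero_iff _ _).1 h))
  have hK' : Cfsg.Geo.IsFieldSubalgebra (Fintype.card (Fin k)) K := by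
    rw [Fintype.card_fin]
    exact hK
  constructor
  · intro hall
    by_contra hord
    obtain ⟨m, hm2, hmn, A, hAdet, hAn, hA1⟩ := exists_small_block hn3 hqn hord
    obtain ⟨X, L, hXdet, hXn, hX1, hLinj, hLfix⟩ :=
      exists_block_element (by omega : m ≤ k) A hAdet hAn hA1
    let x : Matrix.SpecialLinearGroup (Fin k) F := ⟨X, hXdet⟩
    have hx1 : ∃ z : F, ((x ^ k : Matrix.SpecialLinearGroup (Fin k) F) :
        Matrix (Fin k) (Fin k) F) = z • (1 : Matrix (Fin k) (Fin k) F) :=
      ⟨1, by rw [Matrix.SpecialLinearGroup.coe_pow, one_smul]; exact hXn⟩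
    have hx2 : ∀ z : F, (x : Matrix (Fin k) (Fin k) F) ≠ z • (1 : Matrix (Fin k) (Fin k) F) := by
      intro z hz
      have hpos : 0 < k - m := by omega
      let u : Fin (k - m) → F := fun _ => 1
      have hu : L u ≠ 0 := by
        intro h
        have h1 : u = 0 := hLinj (by rw [h, map_zero])
        have h2 := congrFun h1 ⟨0, hpos⟩
        simp [u] at h2
      have h1 := hLfix u
      have hz' : X = z • 1 := hz
      rw [hz', Matrix.smul_mulVec, Matrix.one_mulVec] at h1
      have h2 : (z - 1) • L u = 0 := by rw [sub_smul, h1, one_smul, sub_self]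
      rcases smul_eq_zero.1 h2 with h3 | h3
      · apply hX1
        rw [hz', sub_eq_zero.1 h3, one_smul]
      · exact hu h3
    obtain ⟨P, hP⟩ := hall x hx1 hx2
    rw [Subgroup.mem_comap] at hP
    set g : GL (Fin k) F := Matrix.SpecialLinearGroup.toGL (P⁻¹ * x * P) with hg
    have hPP : (P : Matrix (Fin k) (Fin k) F) *
        ((P⁻¹ : Matrix.SpecialLinearGroup (Fin k) F) : Matrix (Fin k) (Fin k) F) = 1 := by
      rw [← Matrix.SpecialLinearGroup.coe_mul, mul_inv_cancel, Matrix.SpecialLinearGroup.coe_one]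
    have hPinj : Function.Injective (Matrix.mulVecLin
        ((P⁻¹ : Matrix.SpecialLinearGroup (Fin k) F) : Matrix (Fin k) (Fin k) F)) := by
      intro a b hab
      have h1 := congrArg (fun v => Matrix.mulVec (P : Matrix (Fin k) (Fin k) F) v) hab
      simp only [Matrix.mulVecLin_apply, Matrix.mulVec_mulVec, hPP, Matrix.one_mulVec] at h1
      exact h1
    let L' : (Fin (k - m) → F) →ₗ[F] (Fin k → F) := (Matrix.mulVecLin
        ((P⁻¹ : Matrix.SpecialLinearGroup (Fin k) F) : Matrix (Fin k) (Fin k) F)) ∘ₗ L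
    have hL'inj : Function.Injective L' := hPinj.comp hLinj
    have hgW : ∀ w ∈ LinearMap.range L',
        Matrix.mulVec (g : Matrix (Fin k) (Fin k) F) w = (1 : F) • w := by
      rintro w ⟨u, rfl⟩
      rw [one_smul]
      show Matrix.mulVec
          ((P⁻¹ * x * P : Matrix.SpecialLinearGroup (Fin k) F) : Matrix (Fin k) (Fin k) F)
          (Matrix.mulVec
            ((P⁻¹ : Matrix.SpecialLinearGroup (Fin k) F) : Matrix (Fin k) (Fin k) F) (L u)) =
        Matrix.mulVec
          ((P⁻¹ : Matrix.SpecialLinearGroup (Fin k) F) : Matrix (Fin k) (Fin k) F) (L u)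
      rw [Matrix.SpecialLinearGroup.coe_mul, Matrix.SpecialLinearGroup.coe_mul,
        Matrix.mulVec_mulVec, Matrix.mul_assoc, hPP, Matrix.mul_one, ← Matrix.mulVec_mulVec]
      congr 1
      exact hLfix u
    have hdim : Fintype.card (Fin k) < 2 * Module.finrank F (LinearMap.range L') := by
      rw [LinearMap.finrank_range_of_inj hL'inj, Module.finrank_fin_fun, Fintype.card_fin]
      omega
    have hg1 := Cfsg.Agent.Lib.helper24.fsn_scalar_of_large_eigenspace hK' g hP 1 _ hgW hdim
    rw [one_smul] at hg1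
    have hg1' : g = 1 := Units.ext hg1
    have h2 : P⁻¹ * x * P = 1 :=
      Matrix.SpecialLinearGroup.toGL_injective (by rw [← hg, hg1', map_one])
    have h3 : x = 1 := by
      have h4 : x = P * (P⁻¹ * x * P) * P⁻¹ := by group
      rw [h4, h2]
      group
    exact hx2 1 (by rw [h3, one_smul]; rfl)
  · intro hord x hxz hxns
    obtain ⟨z, hz⟩ := hxz
    rw [Matrix.SpecialLinearGroup.coe_pow] at hz
    haveI : NeZero k := ⟨hk.ne_zero⟩
    have hz0 : z ≠ 0 := by
      rintro rfl
      rw [zero_smul] at hz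
      have h1 : (x : Matrix (Fin k) (Fin k) F).det ^ k = 0 := by
        haveI : Nonempty (Fin k) := ⟨0⟩
        rw [← Matrix.det_pow, hz, Matrix.det_zero]
      rw [x.det_coe, one_pow] at h1
      exact one_ne_zero h1
    have hq1 : 1 < Fintype.card F := Fintype.one_lt_card
    have hndvd : ¬ k ∣ Fintype.card F - 1 := by
      intro hdv
      have h3 : ((Fintype.card F - 1 : ℕ) : ZMod k) = 0 := (ZMod.natCast_eq_zero_iff _ _).2 hdv
      rw [Nat.cast_sub (by omega), Nat.cast_one, sub_eq_zero] at h3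
      rw [h3, orderOf_one] at hord
      omega
    have hcop : (Nat.card Fˣ).Coprime k := by
      rw [Nat.card_eq_fintype_card, Fintype.card_units]
      exact ((Nat.Prime.coprime_iff_not_dvd hk).2 hndvd).symm
    obtain ⟨u, hu⟩ := (powCoprime hcop).surjective (Units.mk0 z hz0)
    have hu' : (u : F) ^ k = z := by
      have h1 := congrArg Units.val hu
      simpa using h1
    have hu0 : (u : F) ≠ 0 := u.ne_zero
    set Y : Matrix (Fin k) (Fin k) F := ((u : F)⁻¹) • (x : Matrix (Fin k) (Fin k) F) with hY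
    have hxY : (x : Matrix (Fin k) (Fin k) F) = (u : F) • Y := by
      rw [hY, smul_smul, mul_inv_cancel₀ hu0, one_smul]
    have hYn : Y ^ k = 1 := by
      rw [hY, smul_pow, hz, smul_smul, inv_pow, hu', inv_mul_cancel₀ hz0, one_smul]
    have hY1 : Y ≠ 1 := by
      intro h
      apply hxns (u : F)
      rw [hxY, h]
    obtain ⟨g, hgN, hgn, hg1⟩ := Cfsg.Agent.Lib.helper24.fsn_exists_frobenius hK'
      (by rw [Fintype.card_fin]; omega)
    rw [Fintype.card_fin] at hgn
    obtain ⟨P₀, hP₀det, hP₀⟩ := Cfsg.Agent.Lib.helper24.fsc_exists_conj (by omega) hnF hord Y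
      (g : Matrix (Fin k) (Fin k) F) hYn hY1 hgn hg1
    set P : Matrix.SpecialLinearGroup (Fin k) F := ⟨P₀, hP₀det⟩ with hPdef
    refine ⟨P, ?_⟩
    rw [Subgroup.mem_comap]
    let zu : GL (Fin k) F := ⟨(u : F) • 1, (u : F)⁻¹ • 1,
      by rw [smul_mul_smul_comm, mul_one, mul_inv_cancel₀ hu0, one_smul],
      by rw [smul_mul_smul_comm, mul_one, inv_mul_cancel₀ hu0, one_smul]⟩
    have hzuN : zu ∈ Cfsg.Geo.subalgebraNormalizer K := by
      intro c
      show c ∈ K ↔ ((u : F) • (1 : Matrix (Fin k) (Fin k) F)) * c * ((u : F)⁻¹ • 1) ∈ K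
      have h1 : ((u : F) • (1 : Matrix (Fin k) (Fin k) F)) * c * ((u : F)⁻¹ • 1) = c := by
        rw [Matrix.smul_mul, Matrix.one_mul, Matrix.mul_smul, Matrix.mul_one, smul_smul,
          inv_mul_cancel₀ hu0, one_smul]
      rw [h1]
    have hfinal : Matrix.SpecialLinearGroup.toGL (P⁻¹ * x * P) = zu * g := by
      rw [map_mul, map_mul, map_inv, mul_assoc, inv_mul_eq_iff_eq_mul]
      apply Units.ext
      show (x : Matrix (Fin k) (Fin k) F) * P₀ =
        P₀ * (((u : F) • (1 : Matrix (Fin k) (Fin k) F)) * (g : Matrix (Fin k) (Fin k) F))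
      rw [hxY, Matrix.smul_mul, hP₀, Matrix.smul_mul, Matrix.one_mul, Matrix.mul_smul]
    rw [hfinal]
    exact Subgroup.mul_mem _ hzuN hgN

end Cfsg.Agent.S5970
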