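import Cfsg.Statements.S5971
import Cfsg.Agent.Lib.helper7.Singer3

set_option autoImplicit false
open scoped MatrixGroups
open Cfsg

namespace Cfsg.Agent.S5971

/-- Elements of order 3 of PSL_3(q) and the normalizer of a Singer cycle. Here `T = PSL_n(F)` for a field `F` with `q = p^f` elements (`n ≥ 2`, `(n, q) ≠ (2, 2), (2, 3)`), `k` is a prime dividing `n`, `K` is a subalgebra of the `n × n` matrices that is a field of degree `k` over `F` (an extension-field structure F_{q^k} on `F^n`), and `H` is the subgroup of matrices of determinant 1 normalizing `K` — a subgroup of type GL_{n/k}(q^k) (maximal except in some small cases; maximality is not assumed); Ω is the set of cosets of `H` in `T`, so an element of `T` of prime order `r` (a matrix `x` of determinant 1 with `x^r` scalar, `x` not scalar) fixes a point of Ω when some conjugate of `x` by a matrix of determinant 1 normalizes `K`. Take `n = k = 3` and suppose 3 divides the index of `H`. Then every element of `T` of order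 3 is conjugate in `T` into `H` if and only if `q ≡ 4, 7` or `8 (mod 9)`. -/
theorem result {F : Type*} [Field F] [Fintype F] {p : ℕ} [Fact p.Prime] [CharP F p] {q : ℕ} (hq : Fintype.card F = q)
    (n : ℕ) (hn : n = 3) (k : ℕ) (hk : k.Prime) (hkn : k ∣ n) (K : Subalgebra F (Matrix (Fin n) (Fin n) F)) (hK : Cfsg.Geo.IsFieldSubalgebra k K) (hk3 : k = 3) (hΩ : 3 ∣ ((Cfsg.Geo.subalgebraNormalizer K).comap (Matrix.SpecialLinearGroup.toGL : Matrix.SpecialLinearGroup (Fin n) F →* GL (Fin n) F)).index) :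
    (∀ x : Matrix.SpecialLinearGroup (Fin n) F,
      (∃ z : F, ((x ^ 3 : Matrix.SpecialLinearGroup (Fin n) F) : Matrix (Fin n) (Fin n) F) = z • (1 : Matrix (Fin n) (Fin n) F)) →
      (∀ z : F, (x : Matrix (Fin n) (Fin n) F) ≠ z • (1 : Matrix (Fin n) (Fin n) F)) →
      ∃ P : Matrix.SpecialLinearGroup (Fin n) F, P⁻¹ * x * P ∈ ((Cfsg.Geo.subalgebraNormalizer K).comap (Matrix.SpecialLinearGroup.toGL : Matrix.SpecialLinearGroup (Fin n) F →* GL (Fin n) F))) ↔
    (q % 9 = 4 ∨ q % 9 = 7 ∨ q % 9 = 8) := by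
  subst hn
  subst hk3
  have hq2 : 2 ≤ q := by rw [← hq]; exact Fintype.one_lt_card
  obtain ⟨m, hp, hm⟩ := FiniteField.card F p
  rw [hq] at hm
  constructor
  · intro hP
    by_contra hcon
    by_cases h3q : 3 ∣ q
    · -- characteristic 3
      have h3p : 3 = p := by
        rw [hm] at h3q
        exact (Nat.prime_dvd_prime_iff_eq Nat.prime_three hp).1
          (Nat.Prime.dvd_of_dvd_pow Nat.prime_three h3q)
      have h3F : (3 : F) = 0 := by
        have h1 : ((3 : ℕ) : F) = 0 := (CharP.cast_eq_zero_iff F p 3).2 (h3p ▸ dvd_rfl)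
        exact_mod_cast h1
      obtain ⟨x, hx3, hxns, hxP⟩ := Cfsg.Agent.Lib.helper7.Singer3.exists_bad_char3 K hK h3F
      obtain ⟨P, hPmem⟩ := hP x
        ⟨1, by rw [Cfsg.Agent.Lib.helper7.Singer3.coe_pow_three]; exact hx3⟩ hxns
      exact hxP P hPmem
    · by_cases h9 : 9 ∣ q - 1
      · rw [← hq] at h9
        obtain ⟨θ, hθ9, hθ3⟩ := Cfsg.Agent.Lib.helper7.Singer3.exists_order9 h9
        obtain ⟨x, hx3, hxns, hxP⟩ :=
          Cfsg.Agent.Lib.helper7.Singer3.exists_bad_order9 K hK θ hθ9 hθ3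
        obtain ⟨P, hPmem⟩ := hP x
          ⟨θ ^ 3, by rw [Cfsg.Agent.Lib.helper7.Singer3.coe_pow_three]; exact hx3⟩ hxns
        exact hxP P hPmem
      · have hmod : q % 9 = 2 ∨ q % 9 = 5 := by omega
        have h9card := Cfsg.Agent.Lib.helper7.Singer3.nine_dvd_card K hK p hΩ
        have hc := Cfsg.Agent.Lib.helper7.Singer3.card_SL3 (F := F)
        rw [hq] at hc
        apply Cfsg.Agent.Lib.helper7.Singer3.arith_aux q hq2 hmod
        rw [← hc]
        exact Dvd.dvd.mul_left h9card _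
  · intro hmod x hx hns
    obtain ⟨z, hz⟩ := hx
    have hthree : (3 : F) ≠ 0 := by
      intro h
      have h1 : p ∣ 3 := (CharP.cast_eq_zero_iff F p 3).1 (by exact_mod_cast h)
      have h2 : p = 3 := (Nat.prime_dvd_prime_iff_eq hp Nat.prime_three).1 h1
      have h3 : 3 ∣ q := by
        rw [hm, h2]
        exact dvd_pow_self 3 m.ne_zero
      omega
    have hno9 : ∀ θ : F, θ ^ 9 = 1 → θ ^ 3 = 1 := by
      apply Cfsg.Agent.Lib.helper7.Singer3.no_order9
      rw [hq]
      omega
    rw [Cfsg.Agent.Lib.helper7.Singer3.coe_pow_three] at hz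
    have hz1 := Cfsg.Agent.Lib.helper7.Singer3.cube_scalar_eq_one _ z hz x.2 hns hno9
    rw [hz1, one_smul] at hz
    obtain ⟨φ, hφ3, hφns, hφN⟩ := Cfsg.Agent.Lib.helper7.Singer3.exists_frob_sl K hK p
    obtain ⟨Q, hQ⟩ := Cfsg.Agent.Lib.helper7.Singer3.exists_sl_conj hthree x φ hz hφ3 hns hφns
    refine ⟨Q, ?_⟩
    rw [Subgroup.mem_comap, hQ]
    exact hφN

end Cfsg.Agent.S5971
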