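import Cfsg.Statements.S5982
import Cfsg.Agent.Lib.helper24.SfuMain
import Cfsg.Agent.Lib.helper78.SfuU2N
import Cfsg.Agent.Lib.helper25.SfuU2A
import Cfsg.Agent.Lib.helper25.SfuU2B
import Cfsg.Agent.Lib.helper12.SfuU35

set_option autoImplicit false
open scoped MatrixGroups
open Cfsg

namespace Cfsg.Agent.S5982

/-- Elements of prime order of PSL_n(q), q = q₀², and the subgroups of unitary type. Here `T = PSL_n(F)` for a field `F` with `q = q₀²` elements (`n ≥ 3`), `f` is a non-degenerate unitary form on `F^n` for the involutory automorphism `x ↦ x^{q₀}`, and `H` is the subgroup of matrices of determinant 1 that preserve `f` up to a scalar — a subgroup of type GU_n(q₀) (maximality is not assumed); Ω is the set of cosets of `H` in `T`, so an element of `T` of prime order `r` (a matrix `x` of determinant 1 with `x^r` scalar, `x` not scalar) fixes a point of Ω exactly when some conjugate of `x` by a matrix of determinant 1 preserves `f` up to a scalar. Let `r` be a prime dividing the index of `H`, with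 `r = 2` or `r` different from the characteristic `p`, and with `(n, r) ≠ (6, 3)`. Then every element of `T` of order `r` fixes a point of Ω if and only if either `r = 2` and (`p = 2` or `(n)_2 ≤ (q − 1)_2`), or `r ∈ {3, 5}`, `n = r` and `(q₀ − 1)_r = r`. (Odd `r = p` and the case `(n, r) = (6, 3)` are not covered by this statement.) -/
theorem result {F : Type*} [Field F] [Fintype F] {p : ℕ} [Fact p.Prime] [CharP F p] {q : ℕ} (hq : Fintype.card F = q)
    (q₀ : ℕ) (hq₀ : q = q₀ ^ 2) (n : ℕ) (hn : 3 ≤ n) (f : (Fin n → F) → (Fin n → F) → F) (hf : Cfsg.Geo.IsUnitaryFormPow q₀ f)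
    (r : ℕ) [Fact r.Prime] (hr : r = 2 ∨ r ≠ p) (hgap : ¬ (n = 6 ∧ r = 3))
    (hΩ : r ∣ (Cfsg.Geo.similarityGroup f).relIndex (Cfsg.Geo.specialLinear (Fin n) F)) :
    (∀ x ∈ Cfsg.Geo.specialLinear (Fin n) F, (∃ z : F, ((x ^ r : GL (Fin n) F) : Matrix (Fin n) (Fin n) F) = z • (1 : Matrix (Fin n) (Fin n) F)) →
      (∀ z : F, (x : Matrix (Fin n) (Fin n) F) ≠ z • (1 : Matrix (Fin n) (Fin n) F)) →
      ∃ g ∈ Cfsg.Geo.specialLinear (Fin n) F, g⁻¹ * x * g ∈ Cfsg.Geo.similarityGroup f) ↔
    ((r = 2 ∧ (p = 2 ∨ padicValNat 2 n ≤ padicValNat 2 (q - 1))) ∨ ((r = 3 ∨ r = 5) ∧ n = r ∧ padicValNat r (q₀ - 1) = 1)) := by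
  classical
  subst hq
  have hn0 : 0 < n := by omega
  have hr' : r.Prime := Fact.out
  have hp : p.Prime := Fact.out
  constructor
  · intro hall
    by_cases hr2 : r = 2
    · left
      refine ⟨hr2, ?_⟩
      by_contra hcon
      rw [not_or, not_le] at hcon
      obtain ⟨hp2, hv⟩ := hcon
      have h2F : (2 : F) ≠ 0 := by
        intro h
        have h0 : ((2 : ℕ) : F) = 0 := by exact_mod_cast h
        have h1 := (CharP.cast_eq_zero_iff F p 2).1 h0
        exact hp2 ((Nat.prime_dvd_prime_iff_eq hp Nat.prime_two).1 h1)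
      subst hr2
      obtain ⟨X, hXdet, hXz, hXns, hXnc⟩ :=
        Cfsg.Agent.Lib.helper24.sfu_nec_two hn0 q₀ hq₀ f hf h2F hv
      obtain ⟨x, hxSL, hxX, hxno⟩ := Cfsg.Agent.Lib.helper24.sfu_red_nec f X hXdet hXnc
      apply hxno
      apply hall x hxSL
      · obtain ⟨z, hz⟩ := hXz
        exact ⟨z, by rw [Units.val_pow_eq_pow_val, hxX]; exact hz⟩
      · intro z
        rw [hxX]
        exact hXns z
    · right
      by_contra hB
      have hrp : r ≠ p := by
        rcases hr with h | h
        · exact absurd h hr2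
        · exact h
      have hrF : (r : F) ≠ 0 := by
        intro h
        have h1 := (CharP.cast_eq_zero_iff F p r).1 h
        exact hrp ((Nat.prime_dvd_prime_iff_eq hp hr').1 h1).symm
      obtain ⟨X, hXdet, hXz, hXns, hXnc⟩ :=
        Cfsg.Agent.Lib.helper24.sfu_nec_main hn q₀ hq₀ f hf r hr2 hrF hgap hB hΩ
      obtain ⟨x, hxSL, hxX, hxno⟩ := Cfsg.Agent.Lib.helper24.sfu_red_nec f X hXdet hXnc
      apply hxno
      apply hall x hxSL
      · obtain ⟨z, hz⟩ := hXz
        exact ⟨z, by rw [Units.val_pow_eq_pow_val, hxX]; exact hz⟩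
      · intro z
        rw [hxX]
        exact hXns z
  · intro hR x hxSL hxz hxns
    obtain ⟨z, hz⟩ := hxz
    rw [Units.val_pow_eq_pow_val] at hz
    have hdet : (x : Matrix (Fin n) (Fin n) F).det = 1 := by
      have h1 : Matrix.GeneralLinearGroup.det x = 1 := MonoidHom.mem_ker.1 hxSL
      have h2 := congrArg Units.val h1
      rw [Matrix.GeneralLinearGroup.val_det_apply] at h2
      exact h2
    apply Cfsg.Agent.Lib.helper24.sfu_red_suff f x
    rcases hR with ⟨hr2, hpv⟩ | ⟨h35, hnr, hv⟩
    · subst hr2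
      by_cases h2F : (2 : F) = 0
      · exact Cfsg.Agent.Lib.helper24.sfu_suff_two_char_two hn0 q₀ hq₀ f hf h2F _ hdet z hz
      · have hv : padicValNat 2 n ≤ padicValNat 2 (Fintype.card F - 1) := by
          rcases hpv with hp2 | hv
          · exfalso
            apply h2F
            subst hp2
            have h3 := CharP.cast_eq_zero F 2
            exact_mod_cast h3
          · exact hv
        exact Cfsg.Agent.Lib.helper24.sfu_suff_two_odd hn0 q₀ hq₀ f hf h2F hv _ hdet z hz
    · subst hnr
      exact Cfsg.Agent.Lib.helper24.sfu_suff_three_five n h35 q₀ hq₀ f hf hv _ hdet z hz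

end Cfsg.Agent.S5982
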