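import Cfsg.Statements.S5983
import Cfsg.Agent.Lib.helper7.SpOrthF

set_option autoImplicit false
open scoped MatrixGroups
open Cfsg

namespace Cfsg.Agent.S5983

/-- Elements of prime order of PSp_n(q), q even, and the subgroups of orthogonal type. Here `T = Sp_{2d}(F)` for a field `F` of characteristic 2 with `q` elements (`d ≥ 2`, `(d, q) ≠ (2, 2)`), realised as the invertible matrices preserving the standard alternating form; `Q` is a non-degenerate quadratic form on `F^{2d}` whose polar form is that alternating form, and `H` is the subgroup of `T` preserving `Q` up to a scalar (equivalently preserving `Q`) — a subgroup of type O^±_{2d}(q) (maximality is not assumed); `Q` is of plus type when `F^{2d}` contains a `d`-dimensional subspace on which `Q` vanishes, of minus type otherwise. Ω is the set of cosets of `H` in `T`, so an element of `T` of prime order `r` (`x ∈ T` with `x^r` scalar, `x` not scalar) fixes a point of Ω exactly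 when some `T`-conjugate of `x` preserves `Q`. Let `r` be a prime dividing the index of `H`. Then every element of `T` of order `r` fixes a point of Ω if and only if `r = 2` and either `Q` is of plus type or `d` is odd. -/
theorem result {F : Type*} [Field F] [Fintype F] {p : ℕ} [Fact p.Prime] [CharP F p] {q : ℕ} (hq : Fintype.card F = q)
    (hp : p = 2) (d : ℕ) (hd : 2 ≤ d) (hT : (d, q) ≠ (2, 2)) (Q : (Fin d ⊕ Fin d → F) → F) (hQ : Cfsg.Geo.IsNondegenerateQuadraticForm Q)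
    (hQf : ∀ u v, QuadraticMap.polar Q u v = Cfsg.sympForm d F u v)
    (r : ℕ) [Fact r.Prime]
    (hΩ : r ∣ (Cfsg.Geo.quadSimilarityGroup Q).relIndex (Cfsg.spGL d F)) :
    (∀ x ∈ Cfsg.spGL d F, (∃ z : F, ((x ^ r : GL (Fin d ⊕ Fin d) F) : Matrix (Fin d ⊕ Fin d) (Fin d ⊕ Fin d) F) = z • (1 : Matrix (Fin d ⊕ Fin d) (Fin d ⊕ Fin d) F)) →
      (∀ z : F, (x : Matrix (Fin d ⊕ Fin d) (Fin d ⊕ Fin d) F) ≠ z • (1 : Matrix (Fin d ⊕ Fin d) (Fin d ⊕ Fin d) F)) →
      ∃ g ∈ Cfsg.spGL d F, g⁻¹ * x * g ∈ Cfsg.Geo.quadSimilarityGroup Q) ↔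
    (r = 2 ∧ (Cfsg.Geo.IsPlusTypeOn Q ⊤ ∨ Odd d)) := by
  subst hp
  have h2 : (2 : F) = 0 := CharTwo.two_eq_zero
  have hd0 : 0 < d := by omega
  obtain ⟨Q₀, hQ₀⟩ : ∃ Q₀ : QuadraticForm F (Fin d ⊕ Fin d → F), ⇑Q₀ = Q :=
    ⟨Cfsg.Agent.Lib.helper95.qfOfNondeg Q hQ, rfl⟩
  subst hQ₀
  constructor
  · intro hall
    by_cases hr2 : r = 2
    · refine ⟨hr2, ?_⟩
      subst hr2
      by_contra hcon
      obtain ⟨hnp, hno⟩ := not_or.mp hcon
      obtain ⟨x, hx, hxr, hns, hnot⟩ := Cfsg.Agent.Lib.helper7.SpOrth.two_not_all h2 hd0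
        (Nat.not_odd_iff_even.mp hno) Q₀ hQf hnp
      obtain ⟨g, hg, hmem⟩ := hall x hx ⟨1, by rw [hxr, Units.val_one, one_smul]⟩ hns
      exact hnot g hg hmem
    · exfalso
      obtain ⟨x, hx, hxr, hns, hnot⟩ := Cfsg.Agent.Lib.helper7.SpOrth.odd_not_all (p := 2) rfl h2
        hd0 Q₀ hQf r hr2 hΩ
      obtain ⟨g, hg, hmem⟩ := hall x hx ⟨1, by rw [hxr, Units.val_one, one_smul]⟩ hns
      exact hnot g hg hmem
  · rintro ⟨rfl, hplus⟩ x hx ⟨z, hz⟩ hns
    have hxs := (Cfsg.Agent.Lib.helper95.mem_spGL_iff d x).mp hx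
    have hz' : (x : Matrix (Fin d ⊕ Fin d) (Fin d ⊕ Fin d) F)
        * (x : Matrix (Fin d ⊕ Fin d) (Fin d ⊕ Fin d) F)
        = z • (1 : Matrix (Fin d ⊕ Fin d) (Fin d ⊕ Fin d) F) := by
      rw [← pow_two, ← Units.val_pow_eq_pow_val]
      exact hz
    have hz1 : z = 1 := Cfsg.Agent.Lib.helper7.SpOrth.sp_scalar_eq_one h2 hd0
      ((x : Matrix (Fin d ⊕ Fin d) (Fin d ⊕ Fin d) F)
        * (x : Matrix (Fin d ⊕ Fin d) (Fin d ⊕ Fin d) F))
      (by
        intro u v
        rw [← Matrix.mulVec_mulVec, ← Matrix.mulVec_mulVec, hxs, hxs]) z hz'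
    rw [hz1, one_smul] at hz'
    exact Cfsg.Agent.Lib.helper7.SpOrth.invol_conj h2 hd0 Q₀ hQf hplus x hx hz'

end Cfsg.Agent.S5983
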