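import Cfsg.Statements.S5984
import Cfsg.Agent.Lib.helper99.ULpG

set_option autoImplicit false
open scoped MatrixGroups
open Cfsg

namespace Cfsg.Agent.S5984

/-- Elements of prime order of PSU_n(q) and the stabilizers of pairs of complementary totally singular subspaces. Here `T = PSU_n(q)` is realised through `SU_n(q)`, the matrices of determinant 1 over the field `F` with `q²` elements preserving the hermitian form `Σ uᵢ vᵢ^q`, with `n ≥ 4` even; `D` is a pair of complementary subspaces of dimension `n/2` on each of which the form vanishes identically, and `H` is the subgroup of `SU_n(q)` fixing or interchanging the two members — a subgroup of type GL_{n/2}(q²).2 (maximality is not assumed). Ω is the set of cosets of `H`, so an element of `T` of prime order `r` (`x ∈ SU_n(q)` with `x^r` scalar, `x` not scalar) fixes a point of Ω exactly when some `SU_n(q)`-conjugate of `x` lies in `H`. Let `r` be a prime dividing the index of `H`. Then every element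 of `T` of order `r` fixes a point of Ω if and only if `r = 2`, `q` is odd and `(q + 1)_2 ≤ (n)_2` (2-parts). -/
theorem result {F : Type*} [Field F] [Fintype F] {p : ℕ} [Fact p.Prime] [CharP F p] {q : ℕ} (hq : Fintype.card F = q ^ 2)
    (n : ℕ) (hn : 4 ≤ n) (he : Even n) (D : Fin 2 → Submodule F (Fin n → F)) (hD : Cfsg.Geo.IsMDecomposition (n / 2) D)
    (hDs : ∀ i, Cfsg.Geo.IsTotallySingularFor (Cfsg.hermForm n F q) (D i))
    (r : ℕ) [Fact r.Prime]
    (hΩ : r ∣ (Cfsg.Geo.decompositionStabilizer D).relIndex (Cfsg.GU n F q ⊓ Cfsg.Geo.specialLinear (Fin n) F)) :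
    (∀ x ∈ Cfsg.GU n F q ⊓ Cfsg.Geo.specialLinear (Fin n) F, (∃ z : F, ((x ^ r : GL (Fin n) F) : Matrix (Fin n) (Fin n) F) = z • (1 : Matrix (Fin n) (Fin n) F)) →
      (∀ z : F, (x : Matrix (Fin n) (Fin n) F) ≠ z • (1 : Matrix (Fin n) (Fin n) F)) →
      ∃ g ∈ Cfsg.GU n F q ⊓ Cfsg.Geo.specialLinear (Fin n) F, g⁻¹ * x * g ∈ Cfsg.Geo.decompositionStabilizer D) ↔
    (r = 2 ∧ Odd q ∧ padicValNat 2 (q + 1) ≤ padicValNat 2 n) := by
  classical
  have hq2 := Cfsg.Agent.Lib.helper17.two_le_of_card_eq_sq hq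
  have hp : p.Prime := Fact.out
  have hrpr : r.Prime := Fact.out
  -- the pair `(D 0, D 1)`
  have hdisj : Disjoint (D 0) (D 1) := hD.indep.pairwiseDisjoint (by decide)
  have hL : Cfsg.Agent.Lib.helper17.ULagPair n q (D 0) (D 1) := by
    refine ⟨hDs 0, hDs 1, fun x hx hx' => Submodule.disjoint_def.mp hdisj x hx hx', fun x => ?_⟩
    have h3 : x ∈ D 0 ⊔ D 1 := by
      have h4 : iSup D ≤ D 0 ⊔ D 1 := by
        apply iSup_le
        intro i
        fin_cases i
        · exact le_sup_left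
        · exact le_sup_right
      apply h4
      rw [hD.iSup_eq_top]
      trivial
    obtain ⟨u, hu, y, hy, huy⟩ := Submodule.mem_sup.mp h3
    exact ⟨u, hu, y, hy, huy.symm⟩
  obtain ⟨k, hk⟩ := he
  have hd : Module.finrank F (D 0) = k := by
    rw [hD.finrank_eq 0, hk]
    omega
  -- `q` is a power of `p`
  obtain ⟨f, hf⟩ : ∃ f, q = p ^ f := by
    obtain ⟨m, -, hm⟩ := FiniteField.card F p
    have h1 : q ∣ p ^ (m : ℕ) := by
      rw [← hm, hq]
      exact dvd_pow_self q two_ne_zero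
    obtain ⟨j, -, hj⟩ := (Nat.dvd_prime_pow hp).mp h1
    exact ⟨j, hj⟩
  have hrq : r ≠ p → ¬ r ∣ q := by
    intro hrp h
    rw [hf] at h
    exact hrp ((Nat.prime_dvd_prime_iff_eq hrpr hp).mp (hrpr.dvd_of_dvd_pow h))
  have hqodd : p ≠ 2 → Odd q := by
    intro hp2
    rw [hf]
    exact (hp.odd_of_ne_two hp2).pow
  constructor
  · intro H
    have key : ∀ x : GL (Fin n) F, x ∈ Cfsg.GU n F q ⊓ Cfsg.Geo.specialLinear (Fin n) F →
        (∃ z : F, ((x ^ r : GL (Fin n) F) : Matrix (Fin n) (Fin n) F) =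
          z • (1 : Matrix (Fin n) (Fin n) F)) →
        (∀ z : F, (x : Matrix (Fin n) (Fin n) F) ≠ z • (1 : Matrix (Fin n) (Fin n) F)) →
        (∀ P Q : Submodule F (Fin n → F), Cfsg.Agent.Lib.helper17.ULagPair n q P Q →
          ¬ (((∀ w ∈ P, (x : Matrix (Fin n) (Fin n) F).mulVec w ∈ P) ∧
                (∀ w ∈ Q, (x : Matrix (Fin n) (Fin n) F).mulVec w ∈ Q)) ∨
             ((∀ w ∈ P, (x : Matrix (Fin n) (Fin n) F).mulVec w ∈ Q) ∧
                (∀ w ∈ Q, (x : Matrix (Fin n) (Fin n) F).mulVec w ∈ P)))) → False := by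
      intro x hx h1 h2 h3
      obtain ⟨g, hg, hgx⟩ := H x hx h1 h2
      obtain ⟨P, Q, hPQ, hst⟩ :=
        Cfsg.Agent.Lib.helper99.ULp.pair_of_conj hq D hL x g (Subgroup.mem_inf.mp hg).1 hgx
      exact h3 P Q hPQ hst
    have hrp : r ≠ p := by
      intro hrp
      obtain ⟨x, hx, hxr, hns, hder⟩ := Cfsg.Agent.Lib.helper99.ULp.exists_transv hq n hn p
      exact key x hx ⟨1, by rw [hrp, hxr, one_smul]⟩ hns hder
    have hr2 : r = 2 := by
      by_contra hr2
      obtain ⟨j, hj, hjn, hdvd⟩ := Cfsg.Agent.Lib.helper99.ULp.index_prime_dvd hq hk.symm D hL hd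
        r hrpr (hrq hrp) hΩ
      obtain ⟨x, hx, hxr, hns, hder⟩ :=
        Cfsg.Agent.Lib.helper99.ULp.exists_odd hq n hn r hr2 (hrq hrp) j hj hjn hdvd
      exact key x hx ⟨1, by rw [hxr, one_smul]⟩ hns hder
    have hqo : Odd q := hqodd (fun h => hrp (by rw [hr2, h]))
    refine ⟨hr2, hqo, ?_⟩
    by_contra hv
    push Not at hv
    obtain ⟨x, hx, hxr, hns, hder⟩ := Cfsg.Agent.Lib.helper99.ULp.exists_refl hq hqo n hn hv
    exact key x hx (by rw [hr2]; exact hxr) hns hder
  · rintro ⟨hr2, hqo, hv⟩ x hx ⟨z, hz⟩ hns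
    rw [hr2] at hz
    obtain ⟨k', a, b, α, β, hk', hfr, hxa, hxb⟩ :=
      Cfsg.Agent.Lib.helper99.ULp.exists_eigenframe hq hqo n ⟨k, hk⟩ (by omega) hv x
        (Subgroup.mem_inf.mp hx).1 (Subgroup.mem_inf.mp hx).2 z hz
    have hkk : k' = k := by omega
    subst hkk
    exact Cfsg.Agent.Lib.helper99.ULp.exists_conj_of_eigenframe hq (by omega) D hL hd x a b hfr
      α β hxa hxb

end Cfsg.Agent.S5984
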