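import Cfsg.Statements.S5985
import Cfsg.Agent.Lib.helper7.NonsingPlus

set_option autoImplicit false
open scoped MatrixGroups
open Cfsg

namespace Cfsg.Agent.S5985

/-- Elements of prime order of Ω⁺_n(q), q even, with no fixed nonsingular 1-space. Here `T = PΩ⁺_n(F)`, `n = 2d ≥ 8`, realised through `Ω⁺_n(q)`, the commutator subgroup of the isometry group of `Q = Σ xᵢyᵢ` over the field `F` with `q` elements; an element of `T` of prime order `r` is an element `x` of `Ω⁺_n(q)` with `x^r` scalar and `x` not scalar; `q` is even (so the centre is trivial). Let Ω be the set of 1-dimensional subspaces spanned by a vector `v` with `Q(v) ≠ 0`, and let `r` be a prime dividing their number. Then every element of `T` of order `r` fixes some nonsingular 1-space if and only if `r = 2` and `n ≡ 2 (mod 4)` (that is, `d` is odd). -/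
theorem result {F : Type*} [Field F] [Fintype F] {p : ℕ} [Fact p.Prime] [CharP F p] {q : ℕ} (hq : Fintype.card F = q)
    (hp : p = 2) (d : ℕ) (hd : 4 ≤ d) (r : ℕ) [Fact r.Prime]
    (hrΩ : r ∣ Nat.card {W : Submodule F (Fin d ⊕ Fin d → F) // Module.finrank F ↥W = 1 ∧ ∃ v ∈ W, Cfsg.quadFormPlus d F v ≠ 0}) :
    (∀ x : GL (Fin d ⊕ Fin d) F, x ∈ Cfsg.Geo.omegaGL (Cfsg.quadFormPlus d F) →
      (∃ z : F, ((x ^ r : GL (Fin d ⊕ Fin d) F) : Matrix (Fin d ⊕ Fin d) (Fin d ⊕ Fin d) F) = z • (1 : Matrix (Fin d ⊕ Fin d) (Fin d ⊕ Fin d) F)) →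
      (∀ z : F, (x : Matrix (Fin d ⊕ Fin d) (Fin d ⊕ Fin d) F) ≠ z • (1 : Matrix (Fin d ⊕ Fin d) (Fin d ⊕ Fin d) F)) →
      ∃ W : Submodule F (Fin d ⊕ Fin d → F), (Module.finrank F ↥W = 1 ∧ ∃ v ∈ W, Cfsg.quadFormPlus d F v ≠ 0) ∧ W.map (Matrix.toLin' (x : Matrix (Fin d ⊕ Fin d) (Fin d ⊕ Fin d) F)) ≤ W) ↔ (r = 2 ∧ Odd d) := by
  classical
  subst hq
  have h2 : (2 : F) = 0 := by
    subst hp
    exact_mod_cast CharP.cast_eq_zero F 2
  obtain ⟨n, -, hn⟩ := FiniteField.card F p
  have hq2 : 2 ≤ Fintype.card F := Fintype.one_lt_card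
  -- the count
  have hcount := Cfsg.Agent.Lib.helper7.NonsingPt.lines_count (Cfsg.Agent.Lib.helper49.plusForm d F)
    ((Fintype.card F : ℤ) ^ d) (Cfsg.Agent.Lib.helper45.unif_plus_std d)
  rw [Fintype.card_sum, Fintype.card_fin] at hcount
  have hcount2 : (Fintype.card F : ℤ) *
      (Nat.card {W : Submodule F (Fin d ⊕ Fin d → F) // Module.finrank F ↥W = 1 ∧
        ∃ v ∈ W, Cfsg.quadFormPlus d F v ≠ 0} : ℤ)
      = (Fintype.card F : ℤ) ^ d * ((Fintype.card F : ℤ) ^ d - 1) := by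
    have hq1 : ((Fintype.card F : ℤ) - 1) ≠ 0 := by
      have : (2 : ℤ) ≤ (Fintype.card F : ℤ) := by exact_mod_cast hq2
      omega
    apply mul_left_cancel₀ hq1
    have e : (Fintype.card F : ℤ) * ((Fintype.card F : ℤ) - 1) *
        (Nat.card {W : Submodule F (Fin d ⊕ Fin d → F) // Module.finrank F ↥W = 1 ∧
          ∃ v ∈ W, Cfsg.quadFormPlus d F v ≠ 0} : ℤ)
        = (Fintype.card F : ℤ) * (Fintype.card F : ℤ) ^ (d + d)
          - (((Fintype.card F : ℤ) ^ d) ^ 2 + (Fintype.card F : ℤ) ^ d * ((Fintype.card F : ℤ) - 1)) :=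
      hcount
    linear_combination e
  have hrdvd : r = 2 ∨ r ∣ Fintype.card F ^ d - 1 := by
    have h1 : (r : ℤ) ∣ (Fintype.card F : ℤ) ^ d * ((Fintype.card F : ℤ) ^ d - 1) := by
      rw [← hcount2]
      exact Dvd.dvd.mul_left (Int.natCast_dvd_natCast.mpr hrΩ) _
    have hpos : 1 ≤ Fintype.card F ^ d := Nat.one_le_pow _ _ (by omega)
    have h3 : r ∣ Fintype.card F ^ d * (Fintype.card F ^ d - 1) := by
      apply Int.natCast_dvd_natCast.mp
      push_cast [Nat.cast_sub hpos]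
      exact h1
    rcases (Nat.Prime.dvd_mul (Fact.out : r.Prime)).mp h3 with h | h
    · left
      have h4 := (Fact.out : r.Prime).dvd_of_dvd_pow h
      rw [hn] at h4
      have h5 := (Fact.out : r.Prime).dvd_of_dvd_pow h4
      rw [← hp]
      exact (Nat.prime_dvd_prime_iff_eq (Fact.out : r.Prime) (Fact.out : p.Prime)).mp h5
    · right
      exact h
  have hnd := Cfsg.Agent.Lib.helper42.plusForm_nondegenerate (F := F) d
  haveI : Nonempty (Fin d ⊕ Fin d) := ⟨Sum.inl ⟨0, by omega⟩⟩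
  constructor
  · intro hall
    by_contra hcon
    by_cases hr2 : r = 2
    · have hde : Even d := by
        rw [← Nat.not_odd_iff_even]
        intro h
        exact hcon ⟨hr2, h⟩
      obtain ⟨x, hxΩ, hx2, hxns, hxfix⟩ := Cfsg.Agent.Lib.helper7.NonsingPt.plus_invol h2 d hd hde
      obtain ⟨W, hW, hWx⟩ := hall x hxΩ ⟨1, by rw [hr2, hx2]; simp⟩ hxns
      have hiso := (Cfsg.Agent.Lib.helper7.NonsingPt.of_mem_omegaGL_plus h2 d hd x hxΩ).1
      obtain ⟨v, hv, hxv⟩ := (Cfsg.Agent.Lib.helper7.NonsingPt.fixes_line_iff h2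
        (Cfsg.Agent.Lib.helper49.plusForm d F) _ hiso).mp ⟨W, hW, hWx⟩
      exact hv (hxfix v hxv)
    · have hrd : r ∣ Fintype.card F ^ d - 1 := by
        rcases hrdvd with h | h
        · exact absurd h hr2
        · exact h
      obtain ⟨A, hA, hA1⟩ := Cfsg.Agent.Lib.helper7.NonsingPt.exists_fpf_matrix (p := p) d
        (by omega) r hrd
      obtain ⟨x, hxΩ, hxr, hxfix⟩ := Cfsg.Agent.Lib.helper7.NonsingPt.plus_fpf h2 d hd A r
        (Fact.out : r.Prime).pos hA hA1
      have hiso := (Cfsg.Agent.Lib.helper7.NonsingPt.of_mem_omegaGL_plus h2 d hd x hxΩ).1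
      obtain ⟨u, hu⟩ := Cfsg.Agent.Lib.helper42.exists_nonsingular
        (Cfsg.Agent.Lib.helper49.plusForm d F) hnd
      have hu0 : u ≠ 0 := by
        intro h
        apply hu
        rw [h, map_zero]
      have hxns : ∀ z : F, (x : Matrix (Fin d ⊕ Fin d) (Fin d ⊕ Fin d) F)
          ≠ z • (1 : Matrix (Fin d ⊕ Fin d) (Fin d ⊕ Fin d) F) := by
        intro z hz
        have h1 : Matrix.mulVec (x : Matrix (Fin d ⊕ Fin d) (Fin d ⊕ Fin d) F) u = z • u := by
          rw [hz, Matrix.smul_mulVec, Matrix.one_mulVec]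
        have h3 := hiso u
        rw [h1] at h3
        have h3' : (Cfsg.Agent.Lib.helper49.plusForm d F) (z • u)
            = (Cfsg.Agent.Lib.helper49.plusForm d F) u := h3
        rw [QuadraticMap.map_smul, smul_eq_mul] at h3'
        have h4 : (z * z - 1) * (Cfsg.Agent.Lib.helper49.plusForm d F) u = 0 := by
          linear_combination h3'
        have h5 : z * z - 1 = 0 := by
          rcases mul_eq_zero.mp h4 with h | h
          · exact h
          · exact absurd h hu
        have h6 : (z - 1) * (z - 1) = 0 := by linear_combination h5 + (1 - z) * h2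
        have h7 : z = 1 := by
          rcases mul_eq_zero.mp h6 with h | h <;> linear_combination h
        rw [h7, one_smul] at h1
        exact hu0 (hxfix u h1)
      obtain ⟨W, hW, hWx⟩ := hall x hxΩ ⟨1, by rw [hxr]; simp⟩ hxns
      obtain ⟨v, hv, hxv⟩ := (Cfsg.Agent.Lib.helper7.NonsingPt.fixes_line_iff h2
        (Cfsg.Agent.Lib.helper49.plusForm d F) _ hiso).mp ⟨W, hW, hWx⟩
      apply hv
      rw [hxfix v hxv]
      exact map_zero (Cfsg.Agent.Lib.helper49.plusForm d F)
  · rintro ⟨hr2, hdo⟩ x hxΩ ⟨z, hz⟩ hxns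
    subst hr2
    obtain ⟨hiso, hev⟩ := Cfsg.Agent.Lib.helper7.NonsingPt.of_mem_omegaGL_plus h2 d hd x hxΩ
    apply (Cfsg.Agent.Lib.helper7.NonsingPt.fixes_line_iff h2
        (Cfsg.Agent.Lib.helper49.plusForm d F) _ hiso).mpr
    by_contra hno
    push Not at hno
    obtain ⟨u, hu⟩ := Cfsg.Agent.Lib.helper42.exists_nonsingular
      (Cfsg.Agent.Lib.helper49.plusForm d F) hnd
    have hxx : (x : Matrix (Fin d ⊕ Fin d) (Fin d ⊕ Fin d) F)
        * (x : Matrix (Fin d ⊕ Fin d) (Fin d ⊕ Fin d) F) = 1 := by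
      have hz' : (x : Matrix (Fin d ⊕ Fin d) (Fin d ⊕ Fin d) F)
          * (x : Matrix (Fin d ⊕ Fin d) (Fin d ⊕ Fin d) F)
          = z • (1 : Matrix (Fin d ⊕ Fin d) (Fin d ⊕ Fin d) F) := by
        rw [← hz, Units.val_pow_eq_pow_val, pow_two]
      have h1 : Matrix.mulVec (x : Matrix (Fin d ⊕ Fin d) (Fin d ⊕ Fin d) F)
          (Matrix.mulVec (x : Matrix (Fin d ⊕ Fin d) (Fin d ⊕ Fin d) F) u) = z • u := by
        rw [Matrix.mulVec_mulVec, hz', Matrix.smul_mulVec, Matrix.one_mulVec]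
      have h3 := hiso (Matrix.mulVec (x : Matrix (Fin d ⊕ Fin d) (Fin d ⊕ Fin d) F) u)
      rw [h1, hiso u] at h3
      have h3' : (Cfsg.Agent.Lib.helper49.plusForm d F) (z • u)
          = (Cfsg.Agent.Lib.helper49.plusForm d F) u := h3
      rw [QuadraticMap.map_smul, smul_eq_mul] at h3'
      have h4 : (z * z - 1) * (Cfsg.Agent.Lib.helper49.plusForm d F) u = 0 := by
        linear_combination h3'
      have h5 : z * z - 1 = 0 := by
        rcases mul_eq_zero.mp h4 with h | h
        · exact h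
        · exact absurd h hu
      have h6 : (z - 1) * (z - 1) = 0 := by linear_combination h5 + (1 - z) * h2
      have h7 : z = 1 := by
        rcases mul_eq_zero.mp h6 with h | h <;> linear_combination h
      rw [hz', h7, one_smul]
    have h8 := (Cfsg.Agent.Lib.helper7.NonsingPt.invol_no_fixed h2
      (Cfsg.Agent.Lib.helper49.plusForm d F) hnd _ hxx
      (fun v hv => by
        by_contra h
        exact hno v h hv)).1
    rw [Fintype.card_sum, Fintype.card_fin] at h8
    have h9 : ((x : Matrix (Fin d ⊕ Fin d) (Fin d ⊕ Fin d) F) - 1).rank = d := by omega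
    rw [h9] at hev
    exact (Nat.not_even_iff_odd.mpr hdo) hev

end Cfsg.Agent.S5985
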