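import Cfsg.Statements.S5995
import Cfsg.Agent.Lib.helper99.OjC
import Cfsg.Agent.Lib.helper99.OjD

set_option autoImplicit false
open scoped MatrixGroups
open Cfsg

namespace Cfsg.Agent.S5995

/-- A necessary condition for every element of order p of Ω_n(q), nq odd, to fix a hyperbolic `m`-space. Here `T = Ω_n(F)`, `n = 2d+1 ≥ 7`, `q` odd, realised as the commutator subgroup of the isometry group of `Q = x₀² + Σ xᵢyᵢ` over the field `F` with `q` elements (trivial centre, so its elements of prime order `r` are used directly); a nondegenerate `m`-space (even `m`) is a subspace on which the polar form of `Q` is nondegenerate; it is hyperbolic if it contains an `m/2`-dimensional subspace on which `Q` vanishes, elliptic otherwise. Let `m` be even with `2 ≤ m ≤ n − 1` and suppose `p` divides the number of hyperbolic `m`-spaces. If every element of `T` of order `p` fixes some hyperbolic `m`-space, then `m ≡ 0 (mod 4)` and every partition of `n` into parts of size at most `p` in which every even part has even multiplicity contains (as a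 sub-multiset) a partition of `m` in which every even part has even multiplicity. -/
theorem result {F : Type*} [Field F] [Fintype F] {p : ℕ} [Fact p.Prime] [CharP F p] {q : ℕ} (hq : Fintype.card F = q) (hqodd : Odd q)
    (d m : ℕ) (hd : 3 ≤ d) (hm : 2 ≤ m) (hme : Even m) (hmn : m ≤ 2 * d)
    (hpΩ : p ∣ Nat.card {W : Submodule F (Unit ⊕ (Fin d ⊕ Fin d) → F) // Module.finrank F ↥W = m ∧ Cfsg.Geo.IsNondegenerateOn (QuadraticMap.polar (Cfsg.quadFormOdd d F)) W ∧ Cfsg.Geo.IsPlusTypeOn (Cfsg.quadFormOdd d F) W}) :
    (∀ x : GL (Unit ⊕ (Fin d ⊕ Fin d)) F, x ∈ Cfsg.Geo.omegaGL (Cfsg.quadFormOdd d F) → orderOf x = p →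
      ∃ W : Submodule F (Unit ⊕ (Fin d ⊕ Fin d) → F), (Module.finrank F ↥W = m ∧ Cfsg.Geo.IsNondegenerateOn (QuadraticMap.polar (Cfsg.quadFormOdd d F)) W ∧ Cfsg.Geo.IsPlusTypeOn (Cfsg.quadFormOdd d F) W) ∧ W.map (Matrix.toLin' (x : Matrix (Unit ⊕ (Fin d ⊕ Fin d)) (Unit ⊕ (Fin d ⊕ Fin d)) F)) ≤ W) →
    (m % 4 = 0 ∧ (∀ μ : Multiset ℕ, (∀ e ∈ μ, 0 < e ∧ e ≤ p) → (∀ e : ℕ, Even e → Even (μ.count e)) → μ.sum = 2 * d + 1 →
        ∃ ν : Multiset ℕ, ν ≤ μ ∧ ν.sum = m ∧ ∀ e : ℕ, Even e → Even (ν.count e))) := by
  classical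
  intro H
  have h2 : (2 : F) ≠ 0 := by
    intro h
    haveI : CharP F 2 := CharTwo.of_one_ne_zero_of_two_eq_zero one_ne_zero h
    have h3 : ringChar F = 2 := ringChar.eq F 2
    have h4 := FiniteField.even_card_iff_char_two.1 h3
    rw [hq] at h4
    obtain ⟨k, hk⟩ := hqodd
    omega
  have hpart : ∀ μ : Multiset ℕ, (∀ e ∈ μ, 0 < e ∧ e ≤ p) → (∀ e : ℕ, Even e → Even (μ.count e)) →
      μ.sum = 2 * d + 1 →
      ∃ ν : Multiset ℕ, ν ≤ μ ∧ ν.sum = m ∧ ∀ e : ℕ, Even e → Even (ν.count e) :=
    fun μ h1 h2' h3 => Cfsg.Agent.Lib.helper99.Oj.oj_partition_odd h2 d m hmn H μ h1 h2' h3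
  refine ⟨?_, hpart⟩
  have hp2 : 2 ≤ p := (Fact.out : p.Prime).two_le
  have hp3 : 3 ≤ p := by
    rcases (Fact.out : p.Prime).eq_two_or_odd' with h | ⟨k, hk⟩
    · exfalso
      apply h2
      have := CharP.cast_eq_zero F p
      rw [h] at this
      exact_mod_cast this
    · omega
  rcases Nat.even_or_odd d with hd' | hd'
  · obtain ⟨ν, hν1, hν2, hν3⟩ := hpart (Multiset.replicate d 2 + {1})
      (by
        intro e he
        rw [Multiset.mem_add, Multiset.mem_singleton] at he
        rcases he with he | he
        · have := Multiset.eq_of_mem_replicate he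
          omega
        · omega)
      (by
        intro e he
        rw [Multiset.count_add, Multiset.count_replicate, Multiset.count_singleton]
        have he1 : e ≠ 1 := by
          rintro rfl
          exact absurd he (by decide)
        rw [if_neg he1, add_zero]
        split_ifs
        · exact hd'
        · exact ⟨0, rfl⟩)
      (by
        rw [Multiset.sum_add, Multiset.sum_replicate, Multiset.sum_singleton, smul_eq_mul]
        ring)
    have h := Cfsg.Agent.Lib.helper99.Oj.oj_mod4 ν d 1 (by decide) hν1 (hν3 2 (by decide))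
      (by rw [hν2]; exact hme)
    rw [hν2] at h
    exact h
  · obtain ⟨ν, hν1, hν2, hν3⟩ := hpart (Multiset.replicate (d - 1) 2 + {3})
      (by
        intro e he
        rw [Multiset.mem_add, Multiset.mem_singleton] at he
        rcases he with he | he
        · have := Multiset.eq_of_mem_replicate he
          omega
        · omega)
      (by
        intro e he
        rw [Multiset.count_add, Multiset.count_replicate, Multiset.count_singleton]
        have he1 : e ≠ 3 := by
          rintro rfl
          exact absurd he (by decide)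
        rw [if_neg he1, add_zero]
        split_ifs
        · obtain ⟨k, hk⟩ := hd'
          exact ⟨k, by omega⟩
        · exact ⟨0, rfl⟩)
      (by
        rw [Multiset.sum_add, Multiset.sum_replicate, Multiset.sum_singleton, smul_eq_mul]
        omega)
    have h := Cfsg.Agent.Lib.helper99.Oj.oj_mod4 ν (d - 1) 3 (by decide) hν1 (hν3 2 (by decide))
      (by rw [hν2]; exact hme)
    rw [hν2] at h
    exact h

end Cfsg.Agent.S5995
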