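import Cfsg.Statements.S5997

set_option autoImplicit false
open scoped MatrixGroups
open Cfsg

namespace Cfsg.Agent.S5997

section helpers

set_option linter.unusedSimpArgs false

variable {F : Type*} [Field F]

theorem mem_sl_iff (g : GL (Fin 2) F) :
    g ∈ Cfsg.Geo.specialLinear (Fin 2) F ↔ (g : Matrix (Fin 2) (Fin 2) F).det = 1 := by
  unfold Cfsg.Geo.specialLinear
  rw [MonoidHom.mem_ker, Units.ext_iff, Matrix.GeneralLinearGroup.val_det_apply]
  rfl

/-- Cayley–Hamilton for 2×2 matrices. -/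
theorem ch2 (M : Matrix (Fin 2) (Fin 2) F) :
    M * M = M.trace • M - M.det • (1 : Matrix (Fin 2) (Fin 2) F) := by
  ext i j
  fin_cases i <;> fin_cases j <;>
    simp [Matrix.mul_apply, Fin.sum_univ_two, Matrix.trace, Matrix.det_fin_two] <;> ring

/-- Anticommutator of traceless 2×2 matrices is scalar. -/
theorem anticomm2 (X Z : Matrix (Fin 2) (Fin 2) F) (hX : X.trace = 0) (hZ : Z.trace = 0) :
    X * Z + Z * X = (X * Z).trace • (1 : Matrix (Fin 2) (Fin 2) F) := by
  have hX' : X 0 0 + X 1 1 = 0 := by simpa [Matrix.trace, Fin.sum_univ_two] using hX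
  have hZ' : Z 0 0 + Z 1 1 = 0 := by simpa [Matrix.trace, Fin.sum_univ_two] using hZ
  ext i j
  fin_cases i <;> fin_cases j <;>
    simp [Matrix.mul_apply, Fin.sum_univ_two, Matrix.trace]
  · linear_combination (Z 0 0) * hX' - (X 1 1) * hZ'
  · linear_combination (Z 0 1) * hX' + (X 0 1) * hZ'
  · linear_combination (Z 1 0) * hX' + (X 1 0) * hZ'
  · linear_combination (Z 1 1) * hX' - (X 0 0) * hZ'

theorem smul_one_eq_zero_iff (c : F) : c • (1 : Matrix (Fin 2) (Fin 2) F) = 0 ↔ c = 0 := by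
  constructor
  · intro h
    have := congrFun (congrFun h 0) 0
    simpa using this
  · rintro rfl; simp

theorem smul_one_inj (c d : F) (h : c • (1 : Matrix (Fin 2) (Fin 2) F) = d • 1) : c = d := by
  have := congrFun (congrFun h 0) 0
  simpa using this

open Polynomial in
/-- Diagonal binary quadratic forms over a finite field of odd order are universal. -/
theorem diag_univ [Fintype F] (hodd : Fintype.card F % 2 = 1) (u v e : F) (hu : u ≠ 0) (hv : v ≠ 0) :
    ∃ s t : F, u * s ^ 2 + v * t ^ 2 = e := by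
  have hf : degree (C u * X ^ 2 : F[X]) = 2 := by
    rw [degree_C_mul_X_pow 2 hu]; rfl
  have hg : degree (C v * X ^ 2 - C e : F[X]) = 2 := by
    rw [degree_sub_C, degree_C_mul_X_pow 2 hv]; rfl
    rw [degree_C_mul_X_pow 2 hv]; decide
  obtain ⟨s, t, hst⟩ := FiniteField.exists_root_sum_quadratic hf hg hodd
  refine ⟨s, t, ?_⟩
  simp only [eval_mul, eval_C, eval_pow, eval_X, eval_sub] at hst
  linear_combination hst

theorem form_univ [Fintype F] (hodd : Fintype.card F % 2 = 1) (a b c d : F)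
    (hdet : a * d - b * c = 1) (ht : (a + d) ^ 2 ≠ 4) :
    ∃ w0 w1 : F, c * w0 ^ 2 + (d - a) * w0 * w1 - b * w1 ^ 2 = 1 := by
  have h2 : (2 : F) ≠ 0 := by
    intro h
    have : ringChar F = 2 := by
      exact (CharP.ringChar_of_prime_eq_zero Nat.prime_two (by exact_mod_cast h))
    have h3 := FiniteField.even_card_of_char_two this
    omega
  have h4 : (4 : F) ≠ 0 := by
    have : (4 : F) = 2 * 2 := by norm_num
    rw [this]; exact mul_ne_zero h2 h2
  have hΔ : (d - a) ^ 2 + 4 * b * c ≠ 0 := by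
    intro h
    apply ht
    linear_combination h + 4 * hdet
  by_cases hc : c = 0
  · by_cases hb : b = 0
    · subst hc hb
      have hda : d - a ≠ 0 := by
        intro h
        apply hΔ
        rw [h]; ring
      refine ⟨1, (d - a)⁻¹, ?_⟩
      field_simp
      ring
    · -- c = 0, b ≠ 0
      subst hc
      have hv : (d - a) ^ 2 / (4 * b) ≠ 0 := by
        apply div_ne_zero
        · intro h; apply hΔ; rw [h]; ring
        · exact mul_ne_zero h4 hb
      obtain ⟨s, t, hst⟩ := diag_univ hodd (-b) ((d - a) ^ 2 / (4 * b)) 1 (neg_ne_zero.mpr hb) hv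
      refine ⟨t, s + (d - a) / (2 * b) * t, ?_⟩
      rw [← hst]
      field_simp
      ring
  · have hv : -((d - a) ^ 2 + 4 * b * c) / (4 * c) ≠ 0 := by
      apply div_ne_zero
      · exact neg_ne_zero.mpr hΔ
      · exact mul_ne_zero h4 hc
    obtain ⟨s, t, hst⟩ := diag_univ hodd c (-((d - a) ^ 2 + 4 * b * c) / (4 * c)) 1 hc hv
    refine ⟨s - (d - a) / (2 * c) * t, t, ?_⟩
    rw [← hst]
    field_simp
    ring

/-- A determinant-one matrix whose trace `t` satisfies `t² ≠ 4` is conjugate, by a determinant-one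
matrix, to the companion matrix of `X² - tX + 1`. -/
theorem conj_companion [Fintype F] (hodd : Fintype.card F % 2 = 1) (x : Matrix (Fin 2) (Fin 2) F)
    (hdet : x.det = 1) (ht : x.trace ^ 2 ≠ 4) :
    ∃ P : Matrix (Fin 2) (Fin 2) F, P.det = 1 ∧ x * P = P * !![0, -1; 1, x.trace] := by
  have hdet' : x 0 0 * x 1 1 - x 0 1 * x 1 0 = 1 := by
    rw [← hdet, Matrix.det_fin_two]
  have htr : x.trace = x 0 0 + x 1 1 := by
    simp [Matrix.trace, Fin.sum_univ_two]
  rw [htr] at ht
  obtain ⟨w0, w1, hw⟩ := form_univ hodd (x 0 0) (x 0 1) (x 1 0) (x 1 1) hdet' ht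
  refine ⟨!![w0, x 0 0 * w0 + x 0 1 * w1; w1, x 1 0 * w0 + x 1 1 * w1], ?_, ?_⟩
  · rw [Matrix.det_fin_two_of]
    linear_combination hw
  · rw [htr]
    ext i j
    fin_cases i <;> fin_cases j <;>
      simp [Matrix.mul_apply, Fin.sum_univ_two]
    · linear_combination (-w0) * hdet'
    · linear_combination (-w1) * hdet'

/-- Two determinant-one elements of `GL₂(F)` with the same trace `t`, `t² ≠ 4`, are conjugate under
`SL₂(F)`. -/
theorem sl_conj [Fintype F] (hodd : Fintype.card F % 2 = 1) (x y : GL (Fin 2) F)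
    (hx : (x : Matrix (Fin 2) (Fin 2) F).det = 1) (hy : (y : Matrix (Fin 2) (Fin 2) F).det = 1)
    (hxy : (x : Matrix (Fin 2) (Fin 2) F).trace = (y : Matrix (Fin 2) (Fin 2) F).trace)
    (ht : (x : Matrix (Fin 2) (Fin 2) F).trace ^ 2 ≠ 4) :
    ∃ g ∈ Cfsg.Geo.specialLinear (Fin 2) F, g⁻¹ * x * g = y := by
  obtain ⟨P, hP, hxP⟩ := conj_companion hodd _ hx ht
  obtain ⟨Q, hQ, hyQ⟩ := conj_companion hodd _ hy (hxy ▸ ht)
  rw [← hxy] at hyQ
  let gP : GL (Fin 2) F := Matrix.SpecialLinearGroup.toGL ⟨P, hP⟩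
  let gQ : GL (Fin 2) F := Matrix.SpecialLinearGroup.toGL ⟨Q, hQ⟩
  let c : GL (Fin 2) F := Matrix.SpecialLinearGroup.toGL
    ⟨!![0, -1; 1, (x : Matrix (Fin 2) (Fin 2) F).trace], by simp [Matrix.det_fin_two_of]⟩
  have h1 : x * gP = gP * c := Units.ext hxP
  have h2 : y * gQ = gQ * c := Units.ext hyQ
  refine ⟨gP * gQ⁻¹, ?_, ?_⟩
  · rw [mem_sl_iff]
    have hgP : gP ∈ Cfsg.Geo.specialLinear (Fin 2) F := (mem_sl_iff gP).mpr hP
    have hgQ : gQ ∈ Cfsg.Geo.specialLinear (Fin 2) F := (mem_sl_iff gQ).mpr hQ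
    exact (mem_sl_iff _).mp (mul_mem hgP (inv_mem hgQ))
  · have hx' : x = gP * c * gP⁻¹ := by rw [← h1]; group
    have hy' : y = gQ * c * gQ⁻¹ := by rw [← h2]; group
    rw [hx', hy']; group

/-- `x² = z` with `x` of determinant one and not scalar forces trace zero. -/
theorem trace_of_sq (x : Matrix (Fin 2) (Fin 2) F) (hdet : x.det = 1) (z : F)
    (hz : x * x = z • (1 : Matrix (Fin 2) (Fin 2) F))
    (hns : ∀ z : F, x ≠ z • (1 : Matrix (Fin 2) (Fin 2) F)) : x.trace = 0 := by
  by_contra ht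
  have h1 := ch2 x
  rw [hz, hdet] at h1
  apply hns ((z + 1) / x.trace)
  have h3 : x.trace • x = (z + 1) • (1 : Matrix (Fin 2) (Fin 2) F) := by
    rw [add_smul, h1]; abel
  calc x = (x.trace)⁻¹ • (x.trace • x) := by rw [smul_smul, inv_mul_cancel₀ ht, one_smul]
    _ = ((z + 1) / x.trace) • (1 : Matrix (Fin 2) (Fin 2) F) := by
        rw [h3, smul_smul]; congr 1; field_simp

/-- `x³ = z` with `x` of determinant one and not scalar forces trace `±1`. -/
theorem trace_of_cube (x : Matrix (Fin 2) (Fin 2) F) (hdet : x.det = 1) (z : F)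
    (hz : x * x * x = z • (1 : Matrix (Fin 2) (Fin 2) F))
    (hns : ∀ z : F, x ≠ z • (1 : Matrix (Fin 2) (Fin 2) F)) : x.trace = 1 ∨ x.trace = -1 := by
  have h1 := ch2 x
  rw [hdet, one_smul] at h1
  have h3 : (x.trace ^ 2 - 1) • x = (z + x.trace) • (1 : Matrix (Fin 2) (Fin 2) F) := by
    have : x * x * x = (x.trace ^ 2 - 1) • x - x.trace • (1 : Matrix (Fin 2) (Fin 2) F) := by
      rw [h1, sub_mul, Matrix.smul_mul, h1, one_mul, smul_sub, smul_smul, sub_smul, one_smul, pow_two]
      abel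
    rw [hz] at this
    rw [add_smul, this]; abel
  by_cases ht : x.trace ^ 2 - 1 = 0
  · have : (x.trace - 1) * (x.trace + 1) = 0 := by linear_combination ht
    rcases mul_eq_zero.mp this with h | h
    · left; linear_combination h
    · right; linear_combination h
  · exfalso
    apply hns ((z + x.trace) / (x.trace ^ 2 - 1))
    calc x = (x.trace ^ 2 - 1)⁻¹ • ((x.trace ^ 2 - 1) • x) := by
          rw [smul_smul, inv_mul_cancel₀ ht, one_smul]
      _ = ((z + x.trace) / (x.trace ^ 2 - 1)) • (1 : Matrix (Fin 2) (Fin 2) F) := by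
          rw [h3, smul_smul]; congr 1; field_simp

/-- A 2×2 involution of determinant one other than the identity is `-1` (characteristic not 2). -/
theorem invol_eq_neg_one (h2 : (2 : F) ≠ 0) (c : Matrix (Fin 2) (Fin 2) F) (hdet : c.det = 1)
    (hcc : c * c = 1) (hc1 : c ≠ 1) : c = -1 := by
  have h1 := ch2 c
  rw [hcc, hdet, one_smul] at h1
  have h3 : c.trace • c = (2 : F) • (1 : Matrix (Fin 2) (Fin 2) F) := by
    rw [two_smul]
    exact (eq_sub_iff_add_eq.mp h1).symm
  have ht : c.trace ≠ 0 := by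
    intro h
    rw [h, zero_smul] at h3
    exact h2 ((smul_one_eq_zero_iff 2).mp h3.symm)
  obtain ⟨l, hc⟩ : ∃ l : F, c = l • (1 : Matrix (Fin 2) (Fin 2) F) := by
    refine ⟨2 / c.trace, ?_⟩
    calc c = (c.trace)⁻¹ • (c.trace • c) := by rw [smul_smul, inv_mul_cancel₀ ht, one_smul]
      _ = (2 / c.trace) • (1 : Matrix (Fin 2) (Fin 2) F) := by
          rw [h3, smul_smul]; congr 1; field_simp
  subst hc
  have hll : l * l = 1 := by
    have : (l * l) • (1 : Matrix (Fin 2) (Fin 2) F) = (1 : F) • 1 := by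
      rw [one_smul]
      calc (l * l) • (1 : Matrix (Fin 2) (Fin 2) F)
          = l • (1 : Matrix (Fin 2) (Fin 2) F) * l • (1 : Matrix (Fin 2) (Fin 2) F) := by
            rw [Matrix.smul_mul, one_mul, smul_smul]
        _ = 1 := hcc
    exact smul_one_inj _ _ this
  have : (l - 1) * (l + 1) = 0 := by linear_combination hll
  rcases mul_eq_zero.mp this with h | h
  · exfalso; apply hc1
    rw [sub_eq_zero.mp h, one_smul]
  · rw [eq_neg_of_add_eq_zero_left h]; simp

open QuaternionGroup in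
theorem q8_rel :
    (a 1 : QuaternionGroup 2) * a 1 = a 2 ∧ (xa 0 : QuaternionGroup 2) * xa 0 = a 2 ∧
    (a 2 : QuaternionGroup 2) * a 2 = 1 ∧ (a 2 : QuaternionGroup 2) ≠ 1 ∧
    (xa 0 : QuaternionGroup 2) * a 1 = a 1 * xa 0 * a 2 ∧
    ∀ s : QuaternionGroup 2, s = 1 ∨ s = a 2 ∨ s = a 1 ∨ s = a 1 * a 2 ∨ s = xa 0 ∨ s = xa 0 * a 2 ∨
      s = a 1 * xa 0 ∨ s = a 1 * xa 0 * a 2 := by
  decide

/-- The matrix of an element of a subgroup of `GL₂(F)`. -/
def mat (R : Subgroup (GL (Fin 2) F)) (k : ↥R) : Matrix (Fin 2) (Fin 2) F :=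
  ((k : GL (Fin 2) F) : Matrix (Fin 2) (Fin 2) F)

theorem mat_mul (R : Subgroup (GL (Fin 2) F)) (k l : ↥R) : mat R (k * l) = mat R k * mat R l := by
  simp [mat]

theorem mat_one (R : Subgroup (GL (Fin 2) F)) : mat R 1 = 1 := by
  simp [mat]

theorem mat_inj (R : Subgroup (GL (Fin 2) F)) (k l : ↥R) (h : mat R k = mat R l) : k = l :=
  Subtype.ext (Units.ext h)

open QuaternionGroup in
/-- A quaternion subgroup of `GL₂(F)` consists of `±1, ±A, ±B, ±AB` with `A² = B² = -1`,
`BA = -AB`. -/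
theorem q8_data (h2 : (2 : F) ≠ 0) (R : Subgroup (GL (Fin 2) F)) (e : ↥R ≃* QuaternionGroup 2) :
    ∃ A B : GL (Fin 2) F, A ∈ R ∧ B ∈ R ∧
      (A : Matrix (Fin 2) (Fin 2) F) * (A : Matrix (Fin 2) (Fin 2) F) = -1 ∧
      (B : Matrix (Fin 2) (Fin 2) F) * (B : Matrix (Fin 2) (Fin 2) F) = -1 ∧
      (B : Matrix (Fin 2) (Fin 2) F) * (A : Matrix (Fin 2) (Fin 2) F) =
        -((A : Matrix (Fin 2) (Fin 2) F) * (B : Matrix (Fin 2) (Fin 2) F)) ∧
      ∀ k ∈ R, (k : Matrix (Fin 2) (Fin 2) F) = 1 ∨ (k : Matrix (Fin 2) (Fin 2) F) = -1 ∨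
        (k : Matrix (Fin 2) (Fin 2) F) = A ∨ (k : Matrix (Fin 2) (Fin 2) F) = -A ∨
        (k : Matrix (Fin 2) (Fin 2) F) = B ∨ (k : Matrix (Fin 2) (Fin 2) F) = -B ∨
        (k : Matrix (Fin 2) (Fin 2) F) = (A : Matrix (Fin 2) (Fin 2) F) * B ∨
        (k : Matrix (Fin 2) (Fin 2) F) = -((A : Matrix (Fin 2) (Fin 2) F) * B) := by
  obtain ⟨h1, h2', h3, h4, h5, h6⟩ := q8_rel
  set A' : ↥R := e.symm (a 1) with hA'
  set B' : ↥R := e.symm (xa 0) with hB'
  set C' : ↥R := e.symm (a 2) with hC'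
  have hAA : A' * A' = C' := by rw [hA', hC', ← map_mul, h1]
  have hBB : B' * B' = C' := by rw [hB', hC', ← map_mul, h2']
  have hCC : C' * C' = 1 := by rw [hC', ← map_mul, h3, map_one]
  have hC1 : C' ≠ 1 := by
    intro h
    apply h4
    have := congrArg e h
    simpa [hC'] using this
  have hBA : B' * A' = A' * B' * C' := by
    rw [hA', hB', hC', ← map_mul, ← map_mul, ← map_mul, h5]
  have mAA : mat R A' * mat R A' = mat R C' := by rw [← mat_mul, hAA]
  have mBB : mat R B' * mat R B' = mat R C' := by rw [← mat_mul, hBB]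
  have mCC : mat R C' * mat R C' = 1 := by rw [← mat_mul, hCC, mat_one]
  have mC1 : mat R C' ≠ 1 := by
    intro h
    apply hC1
    apply mat_inj
    rw [h, mat_one]
  have mBA : mat R B' * mat R A' = mat R A' * mat R B' * mat R C' := by
    rw [← mat_mul, ← mat_mul, ← mat_mul, hBA]
  have hdetA : (mat R A').det ≠ 0 := by
    have := (A' : GL (Fin 2) F).isUnit
    exact ((Matrix.isUnit_iff_isUnit_det _).mp this).ne_zero
  have hdetB : (mat R B').det ≠ 0 := by
    have := (B' : GL (Fin 2) F).isUnit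
    exact ((Matrix.isUnit_iff_isUnit_det _).mp this).ne_zero
  have hdetC : (mat R C').det = 1 := by
    have := congrArg Matrix.det mBA
    rw [Matrix.det_mul, Matrix.det_mul, Matrix.det_mul] at this
    have h' : (mat R A').det * (mat R B').det * ((mat R C').det - 1) = 0 := by
      linear_combination -this
    rcases mul_eq_zero.mp h' with h | h
    · exact absurd h (mul_ne_zero hdetA hdetB)
    · linear_combination h
  have hC : mat R C' = -1 := invol_eq_neg_one h2 _ hdetC mCC mC1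
  refine ⟨A', B', A'.2, B'.2, ?_, ?_, ?_, ?_⟩
  · exact mAA.trans hC
  · exact mBB.trans hC
  · change mat R B' * mat R A' = -(mat R A' * mat R B')
    rw [mBA, hC]; simp
  · intro k hk
    have hk' : (⟨k, hk⟩ : ↥R) = e.symm (e ⟨k, hk⟩) := (e.symm_apply_apply _).symm
    have hm : (k : Matrix (Fin 2) (Fin 2) F) = mat R (e.symm (e ⟨k, hk⟩)) := by
      rw [← hk']; rfl
    rw [hm]
    change _ = 1 ∨ _ = -1 ∨ _ = mat R A' ∨ _ = - mat R A' ∨ _ = mat R B' ∨ _ = - mat R B' ∨
      _ = mat R A' * mat R B' ∨ _ = -(mat R A' * mat R B')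
    rcases h6 (e ⟨k, hk⟩) with h | h | h | h | h | h | h | h <;> rw [h]
    · left; rw [map_one, mat_one]
    · right; left; exact hC
    · right; right; left; rfl
    · right; right; right; left
      rw [map_mul, mat_mul]
      change mat R A' * mat R C' = _
      rw [hC]; simp
    · right; right; right; right; left; rfl
    · right; right; right; right; right; left
      rw [map_mul, mat_mul]
      change mat R B' * mat R C' = _
      rw [hC]; simp
    · right; right; right; right; right; right; left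
      rw [map_mul, mat_mul]
    · right; right; right; right; right; right; right
      rw [map_mul, map_mul, mat_mul, mat_mul]
      change mat R A' * mat R B' * mat R C' = _
      rw [hC]; simp

/-- The Hurwitz unit `(-1 + A + B + AB)/2` built from quaternion generators. -/
theorem hurwitz (h2 : (2 : F) ≠ 0) (A B : Matrix (Fin 2) (Fin 2) F) (hA : A * A = -1) (hB : B * B = -1)
    (hBA : B * A = -(A * B)) :
    ((2 : F)⁻¹ • (-1 + A + B + A * B)) * A = A * B * ((2 : F)⁻¹ • (-1 + A + B + A * B)) ∧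
    ((2 : F)⁻¹ • (-1 + A + B + A * B)) * B = A * ((2 : F)⁻¹ • (-1 + A + B + A * B)) ∧
    ((2 : F)⁻¹ • (-1 + A + B + A * B)) * (A * B) = B * ((2 : F)⁻¹ • (-1 + A + B + A * B)) ∧
    ((2 : F)⁻¹ • (-1 + A + B + A * B)) * ((2 : F)⁻¹ • (-1 + A + B + A * B)) =
      -((2 : F)⁻¹ • (-1 + A + B + A * B)) - 1 := by
  have hA' : ∀ X : Matrix (Fin 2) (Fin 2) F, A * (A * X) = -X := fun X => by
    rw [← mul_assoc, hA, neg_one_mul]
  have hB' : ∀ X : Matrix (Fin 2) (Fin 2) F, B * (B * X) = -X := fun X => by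
    rw [← mul_assoc, hB, neg_one_mul]
  have hBA' : ∀ X : Matrix (Fin 2) (Fin 2) F, B * (A * X) = -(A * (B * X)) := fun X => by
    rw [← mul_assoc, hBA, neg_mul, mul_assoc]
  have e1 : (-1 + A + B + A * B) * A = A * B * (-1 + A + B + A * B) := by
    simp only [mul_add, add_mul, mul_assoc, hA, hB, hBA, hA', hB', hBA', mul_neg, neg_mul, mul_one,
      one_mul, neg_neg]
    abel
  have e2 : (-1 + A + B + A * B) * B = A * (-1 + A + B + A * B) := by
    simp only [mul_add, add_mul, mul_assoc, hA, hB, hBA, hA', hB', hBA', mul_neg, neg_mul, mul_one,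
      one_mul, neg_neg]
    abel
  have e3 : (-1 + A + B + A * B) * (A * B) = B * (-1 + A + B + A * B) := by
    simp only [mul_add, add_mul, mul_assoc, hA, hB, hBA, hA', hB', hBA', mul_neg, neg_mul, mul_one,
      one_mul, neg_neg]
    abel
  have e4 : (-1 + A + B + A * B) * (-1 + A + B + A * B) =
      -((-1 + A + B + A * B) + (-1 + A + B + A * B)) - (1 + 1 + 1 + 1) := by
    simp only [mul_add, add_mul, mul_assoc, hA, hB, hBA, hA', hB', hBA', mul_neg, neg_mul, mul_one,
      one_mul, neg_neg]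
    abel
  refine ⟨?_, ?_, ?_, ?_⟩
  · rw [Matrix.smul_mul, Matrix.mul_smul, e1]
  · rw [Matrix.smul_mul, Matrix.mul_smul, e2]
  · rw [Matrix.smul_mul, Matrix.mul_smul, e3]
  · rw [Matrix.smul_mul, Matrix.mul_smul, e4]
    set H := -1 + A + B + A * B with hH
    match_scalars <;> field_simp <;> ring

/-- If `M² = -1` and `M` is not scalar then `M` has trace 0 and determinant 1. -/
theorem tr_det_of_sq_neg_one (M : Matrix (Fin 2) (Fin 2) F) (hM : M * M = -1)
    (hns : ∀ z : F, M ≠ z • (1 : Matrix (Fin 2) (Fin 2) F)) : M.trace = 0 ∧ M.det = 1 := by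
  have h1 := ch2 M
  rw [hM] at h1
  have h3 : M.trace • M = (M.det - 1) • (1 : Matrix (Fin 2) (Fin 2) F) := by
    rw [sub_smul, one_smul]
    rw [eq_sub_iff_add_eq] at h1
    rw [← h1]; abel
  have ht : M.trace = 0 := by
    by_contra ht
    apply hns ((M.det - 1) / M.trace)
    calc M = (M.trace)⁻¹ • (M.trace • M) := by rw [smul_smul, inv_mul_cancel₀ ht, one_smul]
      _ = ((M.det - 1) / M.trace) • (1 : Matrix (Fin 2) (Fin 2) F) := by
          rw [h3, smul_smul]; congr 1; field_simp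
  refine ⟨ht, ?_⟩
  rw [ht, zero_smul] at h3
  have := (smul_one_eq_zero_iff _).mp h3.symm
  linear_combination this

theorem nonscalar_of_anticomm (h2 : (2 : F) ≠ 0) (M N : Matrix (Fin 2) (Fin 2) F)
    (hanti : N * M = -(M * N)) (hM : M.det ≠ 0) (hN : N.det ≠ 0) :
    ∀ z : F, M ≠ z • (1 : Matrix (Fin 2) (Fin 2) F) := by
  intro z h
  subst h
  rw [Matrix.mul_smul, Matrix.smul_mul, mul_one, one_mul] at hanti
  have h4 : (2 * z) • N = 0 := by
    rw [mul_smul, two_smul]
    nth_rewrite 1 [hanti]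
    exact neg_add_cancel _
  rcases smul_eq_zero.mp h4 with h | h
  · have hz : z = 0 := by
      rcases mul_eq_zero.mp h with h | h
      · exact absurd h h2
      · exact h
    subst hz
    simp at hM
  · subst h
    simp at hN

theorem det_ne_zero_of_gl (A : GL (Fin 2) F) : (A : Matrix (Fin 2) (Fin 2) F).det ≠ 0 :=
  ((Matrix.isUnit_iff_isUnit_det _).mp A.isUnit).ne_zero

theorem mem_normalizer_of_conj (R : Subgroup (GL (Fin 2) F)) (h : GL (Fin 2) F)
    (h1 : ∀ n ∈ R, h * n * h⁻¹ ∈ R) (h2 : ∀ n ∈ R, h⁻¹ * n * h ∈ R) :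
    h ∈ Cfsg.Geo.subgroupNormalizer R := by
  intro n
  constructor
  · exact h1 n
  · intro hn
    have := h2 _ hn
    simpa [mul_assoc] using this

/-- Elements of the normalizer of a quaternion group, of determinant one and trace `0`, `1`, `-1`. -/
theorem normalizer_elts (h2 : (2 : F) ≠ 0) (R : Subgroup (GL (Fin 2) F)) (A B : GL (Fin 2) F)
    (hAR : A ∈ R) (hBR : B ∈ R)
    (hA : (A : Matrix (Fin 2) (Fin 2) F) * (A : Matrix (Fin 2) (Fin 2) F) = -1)
    (hB : (B : Matrix (Fin 2) (Fin 2) F) * (B : Matrix (Fin 2) (Fin 2) F) = -1)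
    (hBA : (B : Matrix (Fin 2) (Fin 2) F) * (A : Matrix (Fin 2) (Fin 2) F) =
        -((A : Matrix (Fin 2) (Fin 2) F) * (B : Matrix (Fin 2) (Fin 2) F)))
    (hR : ∀ k ∈ R, (k : Matrix (Fin 2) (Fin 2) F) = 1 ∨ (k : Matrix (Fin 2) (Fin 2) F) = -1 ∨
        (k : Matrix (Fin 2) (Fin 2) F) = A ∨ (k : Matrix (Fin 2) (Fin 2) F) = -A ∨
        (k : Matrix (Fin 2) (Fin 2) F) = B ∨ (k : Matrix (Fin 2) (Fin 2) F) = -B ∨
        (k : Matrix (Fin 2) (Fin 2) F) = (A : Matrix (Fin 2) (Fin 2) F) * B ∨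
        (k : Matrix (Fin 2) (Fin 2) F) = -((A : Matrix (Fin 2) (Fin 2) F) * B))
    (t : F) (ht : t = 0 ∨ t = 1 ∨ t = -1) :
    ∃ y ∈ Cfsg.Geo.subgroupNormalizer R, (y : Matrix (Fin 2) (Fin 2) F).det = 1 ∧
      (y : Matrix (Fin 2) (Fin 2) F).trace = t := by
  set mA : Matrix (Fin 2) (Fin 2) F := (A : Matrix (Fin 2) (Fin 2) F) with hmA
  set mB : Matrix (Fin 2) (Fin 2) F := (B : Matrix (Fin 2) (Fin 2) F) with hmB
  have hAB : mA * mB = -(mB * mA) := by rw [hBA, neg_neg]
  have nsA : ∀ z : F, mA ≠ z • (1 : Matrix (Fin 2) (Fin 2) F) :=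
    nonscalar_of_anticomm h2 mA mB hBA (det_ne_zero_of_gl A) (det_ne_zero_of_gl B)
  have nsB : ∀ z : F, mB ≠ z • (1 : Matrix (Fin 2) (Fin 2) F) :=
    nonscalar_of_anticomm h2 mB mA hAB (det_ne_zero_of_gl B) (det_ne_zero_of_gl A)
  obtain ⟨trA, detA⟩ := tr_det_of_sq_neg_one mA hA nsA
  obtain ⟨trB, detB⟩ := tr_det_of_sq_neg_one mB hB nsB
  have hABAB : (mA * mB) * (mA * mB) = -1 := by
    calc (mA * mB) * (mA * mB) = mA * (mB * mA) * mB := by simp only [mul_assoc]
      _ = -(mA * mA * (mB * mB)) := by rw [hBA]; simp only [mul_neg, neg_mul, mul_assoc]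
      _ = -1 := by rw [hA, hB]; simp
  have nsAB : ∀ z : F, mA * mB ≠ z • (1 : Matrix (Fin 2) (Fin 2) F) := by
    apply nonscalar_of_anticomm h2 (mA * mB) mA
    · rw [mul_assoc, hBA, mul_neg, neg_neg, ← mul_assoc]
    · rw [Matrix.det_mul, detA, detB, mul_one]; exact one_ne_zero
    · rw [detA]; exact one_ne_zero
  obtain ⟨trAB, detAB⟩ := tr_det_of_sq_neg_one (mA * mB) hABAB nsAB
  obtain ⟨g1, g2, g3, g4⟩ := hurwitz h2 mA mB hA hB hBA
  set G : Matrix (Fin 2) (Fin 2) F := (2 : F)⁻¹ • (-1 + mA + mB + mA * mB) with hG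
  have trG : G.trace = -1 := by
    rw [hG, Matrix.trace_smul, Matrix.trace_add, Matrix.trace_add, Matrix.trace_add,
      Matrix.trace_neg, Matrix.trace_one, trA, trB, trAB]
    simp
    field_simp
  have detG : G.det = 1 := by
    have h1 := ch2 G
    rw [g4, trG] at h1
    have h3 : G.det • (1 : Matrix (Fin 2) (Fin 2) F) = (1 : F) • 1 := by
      rw [one_smul]
      have : G.det • (1 : Matrix (Fin 2) (Fin 2) F) = (-1 : F) • G - (-G - 1) := by
        rw [h1]; abel
      rw [this]; simp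
    exact smul_one_inj _ _ h3
  -- group elements
  let g : GL (Fin 2) F := Matrix.SpecialLinearGroup.toGL ⟨G, detG⟩
  have hgA : g * A = A * B * g := Units.ext g1
  have hgB : g * B = A * g := Units.ext g2
  have hgAB : g * (A * B) = B * g := Units.ext g3
  have hAA : ((A * A : GL (Fin 2) F) : Matrix (Fin 2) (Fin 2) F) = -1 := hA
  have hgen : ∀ n ∈ R, n = 1 ∨ n = A * A ∨ n = A ∨ n = A * A * A ∨ n = B ∨ n = A * A * B ∨
      n = A * B ∨ n = A * A * (A * B) := by
    intro n hn
    rcases hR n hn with h | h | h | h | h | h | h | h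
    · left; exact Units.ext h
    · right; left; exact Units.ext (h.trans hAA.symm)
    · right; right; left; exact Units.ext h
    · right; right; right; left; apply Units.ext; rw [h]
      change -mA = mA * mA * mA
      rw [hA]; simp
    · right; right; right; right; left; exact Units.ext h
    · right; right; right; right; right; left; apply Units.ext; rw [h]
      change -mB = mA * mA * mB
      rw [hA]; simp
    · right; right; right; right; right; right; left; exact Units.ext h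
    · right; right; right; right; right; right; right; apply Units.ext; rw [h]
      change -(mA * mB) = mA * mA * (mA * mB)
      rw [hA]; simp
  have hconj : ∀ h : GL (Fin 2) F, h * A * h⁻¹ ∈ R → h * B * h⁻¹ ∈ R → ∀ n ∈ R, h * n * h⁻¹ ∈ R := by
    intro h hhA hhB n hn
    have key : ∀ m : GL (Fin 2) F, h * m * h⁻¹ = MulAut.conj h m := fun m => rfl
    rw [key] at hhA hhB ⊢
    rcases hgen n hn with rfl | rfl | rfl | rfl | rfl | rfl | rfl | rfl
    · rw [map_one]; exact one_mem _
    · rw [map_mul]; exact mul_mem hhA hhA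
    · exact hhA
    · rw [map_mul, map_mul]; exact mul_mem (mul_mem hhA hhA) hhA
    · exact hhB
    · rw [map_mul, map_mul]; exact mul_mem (mul_mem hhA hhA) hhB
    · rw [map_mul]; exact mul_mem hhA hhB
    · rw [map_mul, map_mul, map_mul]; exact mul_mem (mul_mem hhA hhA) (mul_mem hhA hhB)
  have hgN : g ∈ Cfsg.Geo.subgroupNormalizer R := by
    apply mem_normalizer_of_conj
    · apply hconj
      · have : g * A * g⁻¹ = A * B := by rw [hgA]; group
        rw [this]; exact mul_mem hAR hBR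
      · have : g * B * g⁻¹ = A := by rw [hgB]; group
        rw [this]; exact hAR
    · have := hconj g⁻¹
      rw [inv_inv] at this
      apply this
      · have : g⁻¹ * A * g = B := by rw [mul_assoc, ← hgB]; group
        rw [this]; exact hBR
      · have : g⁻¹ * B * g = A * B := by rw [mul_assoc, ← hgAB]; group
        rw [this]; exact mul_mem hAR hBR
  have hRN : R ≤ Cfsg.Geo.subgroupNormalizer R := Subgroup.le_normalizer
  rcases ht with rfl | rfl | rfl
  · exact ⟨A, hRN hAR, detA, trA⟩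
  · refine ⟨A * A * g, mul_mem (hRN (mul_mem hAR hAR)) hgN, ?_, ?_⟩
    · change (mA * mA * G).det = 1
      rw [hA, Matrix.det_mul, detG, Matrix.det_neg, Matrix.det_one]; simp
    · change (mA * mA * G).trace = 1
      rw [hA, neg_one_mul, Matrix.trace_neg, trG, neg_neg]
  · exact ⟨g, hgN, detG, trG⟩

open QuaternionGroup in
/-- The map of `Q₈` determined by the images `u`, `v` of the two standard generators. -/
def qf (u v : QuaternionGroup 2) : QuaternionGroup 2 → QuaternionGroup 2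
  | a i => u ^ i.val
  | xa i => v * u ^ i.val

set_option maxRecDepth 100000 in
/-- Every automorphism of `Q₈` has order dividing 12. -/
theorem q8_aut_exp : ∀ u v : QuaternionGroup 2,
    (∀ s t, qf u v (s * t) = qf u v s * qf u v t) → (∀ s, qf u v s = 1 → s = 1) →
    ∀ s, (qf u v)^[12] s = s := by
  decide

open QuaternionGroup in
theorem q8_gen : (∀ i : ZMod (2 * 2), (a i : QuaternionGroup 2) = (a 1) ^ i.val) ∧
    (∀ i : ZMod (2 * 2), (xa i : QuaternionGroup 2) = xa 0 * (a 1) ^ i.val) := by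
  decide

open QuaternionGroup in
/-- The twelfth power of an element normalizing a quaternion group centralizes it. -/
theorem centralizes_pow (R : Subgroup (GL (Fin 2) F)) (e : ↥R ≃* QuaternionGroup 2)
    (y : GL (Fin 2) F) (hy : y ∈ Cfsg.Geo.subgroupNormalizer R) :
    ∀ k ∈ R, y ^ 12 * k = k * y ^ 12 := by
  let cR : ↥R →* ↥R :=
    { toFun := fun k => ⟨y * k * y⁻¹, (hy k).mp k.2⟩
      map_one' := by apply Subtype.ext; simp
      map_mul' := by intro k l; apply Subtype.ext; simp [mul_assoc] }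
  let ψ : QuaternionGroup 2 →* QuaternionGroup 2 :=
    e.toMonoidHom.comp (cR.comp e.symm.toMonoidHom)
  have hψ : ∀ s, ψ s = e (cR (e.symm s)) := fun s => rfl
  have hψ_inj : ∀ s, ψ s = 1 → s = 1 := by
    intro s hs
    rw [hψ] at hs
    have h1 : cR (e.symm s) = 1 := by
      have := congrArg e.symm hs
      simpa using this
    have h2 : y * (e.symm s : GL (Fin 2) F) * y⁻¹ = 1 := congrArg Subtype.val h1
    have h3 : (e.symm s : GL (Fin 2) F) = 1 := by
      have : (e.symm s : GL (Fin 2) F) = y⁻¹ * (y * (e.symm s : GL (Fin 2) F) * y⁻¹) * y := by group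
      rw [this, h2]; group
    have h4 : e.symm s = 1 := Subtype.ext h3
    have := congrArg e h4
    simpa using this
  have hψ_eq : ∀ s, ψ s = qf (ψ (a 1)) (ψ (xa 0)) s := by
    intro s
    cases s with
    | a i =>
      change ψ (a i) = ψ (a 1) ^ i.val
      rw [← map_pow, ← q8_gen.1 i]
    | xa i =>
      change ψ (xa i) = ψ (xa 0) * ψ (a 1) ^ i.val
      rw [← map_pow, ← map_mul, ← q8_gen.2 i]
  have hfun : (ψ : QuaternionGroup 2 → QuaternionGroup 2) = qf (ψ (a 1)) (ψ (xa 0)) := funext hψ_eq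
  have h12 : ∀ s, (ψ : QuaternionGroup 2 → QuaternionGroup 2)^[12] s = s := by
    rw [hfun]
    apply q8_aut_exp
    · intro s t
      rw [← hψ_eq, ← hψ_eq, ← hψ_eq, map_mul]
    · intro s hs
      apply hψ_inj
      rw [hψ_eq]; exact hs
  have hiter : ∀ (n : ℕ) (k : ↥R), (((cR : ↥R → ↥R)^[n] k : ↥R) : GL (Fin 2) F) = y ^ n * k * (y ^ n)⁻¹ := by
    intro n
    induction n with
    | zero => intro k; simp
    | succ n ih =>
      intro k
      rw [Function.iterate_succ_apply']
      change y * (((cR : ↥R → ↥R)^[n] k : ↥R) : GL (Fin 2) F) * y⁻¹ = _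
      rw [ih, pow_succ']
      group
  have hψiter : ∀ (n : ℕ) (s : QuaternionGroup 2),
      (ψ : QuaternionGroup 2 → QuaternionGroup 2)^[n] s = e ((cR : ↥R → ↥R)^[n] (e.symm s)) := by
    intro n
    induction n with
    | zero => intro s; simp
    | succ n ih =>
      intro s
      rw [Function.iterate_succ_apply', ih, Function.iterate_succ_apply', hψ, e.symm_apply_apply]
  intro k hk
  have h1 := h12 (e ⟨k, hk⟩)
  rw [hψiter, e.symm_apply_apply] at h1
  have h2 := e.injective h1
  have h3 := congrArg Subtype.val h2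
  rw [hiter] at h3
  exact mul_inv_eq_iff_eq_mul.mp h3

/-- A matrix commuting with quaternion generators `A`, `B` is scalar. -/
theorem scalar_of_comm (h2 : (2 : F) ≠ 0) (A B Y : Matrix (Fin 2) (Fin 2) F) (hA : A * A = -1)
    (hBA : B * A = -(A * B)) (trA : A.trace = 0) (hABne : A * B ≠ 0)
    (hYA : Y * A = A * Y) (hYB : Y * B = B * Y) : ∃ z : F, Y = z • (1 : Matrix (Fin 2) (Fin 2) F) := by
  set Y0 : Matrix (Fin 2) (Fin 2) F := Y - (Y.trace / 2) • (1 : Matrix (Fin 2) (Fin 2) F) with hY0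
  have trY0 : Y0.trace = 0 := by
    rw [hY0, Matrix.trace_sub, Matrix.trace_smul, Matrix.trace_one]
    simp
    field_simp
    ring
  have hY0A : Y0 * A = A * Y0 := by
    rw [hY0, sub_mul, mul_sub, hYA, Matrix.smul_mul, Matrix.mul_smul, one_mul, mul_one]
  have hY0B : Y0 * B = B * Y0 := by
    rw [hY0, sub_mul, mul_sub, hYB, Matrix.smul_mul, Matrix.mul_smul, one_mul, mul_one]
  have h1 := anticomm2 Y0 A trY0 trA
  rw [← hY0A, ← two_smul F] at h1
  have h3 : Y0 * A = ((Y0 * A).trace / 2) • (1 : Matrix (Fin 2) (Fin 2) F) := by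
    calc Y0 * A = (2 : F)⁻¹ • ((2 : F) • (Y0 * A)) := by rw [smul_smul, inv_mul_cancel₀ h2, one_smul]
      _ = ((Y0 * A).trace / 2) • (1 : Matrix (Fin 2) (Fin 2) F) := by
          rw [h1, smul_smul]; congr 1; field_simp
  obtain ⟨τ, hτ⟩ : ∃ τ : F, Y0 * A = τ • (1 : Matrix (Fin 2) (Fin 2) F) := ⟨_, h3⟩
  have h4 : Y0 = (-τ) • A := by
    calc Y0 = -(Y0 * A * A) := by rw [mul_assoc, hA]; simp
      _ = (-τ) • A := by rw [hτ]; simp
  set l := -τ with hl
  have h5 : (2 * l) • (A * B) = 0 := by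
    have : l • (A * B) = -(l • (A * B)) := by
      calc l • (A * B) = Y0 * B := by rw [h4, Matrix.smul_mul]
        _ = B * Y0 := hY0B
        _ = -(l • (A * B)) := by rw [h4, Matrix.mul_smul, hBA, smul_neg]
    rw [mul_smul, two_smul]
    nth_rewrite 1 [this]
    exact neg_add_cancel _
  have hl0 : l = 0 := by
    rcases smul_eq_zero.mp h5 with h | h
    · rcases mul_eq_zero.mp h with h | h
      · exact absurd h h2
      · exact h
    · exact absurd h hABne
  refine ⟨Y.trace / 2, ?_⟩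
  have : Y0 = 0 := by rw [h4, hl0, zero_smul]
  rw [hY0] at this
  exact sub_eq_zero.mp this

end helpers


/-- Elements of prime order of PSL_2(p) and the normalizer of a quaternion subgroup. Here `T = PSL_2(F)` for the field `F` with `p` elements, `p ≥ 5` prime; `R` is a subgroup of GL_2(F) isomorphic to the quaternion group of order 8 (an absolutely irreducible 2-group of symplectic type), and `H` is the subgroup of matrices of determinant 1 normalizing `R` — a subgroup of type 2^{1+2}.O₂⁻(2), isomorphic modulo scalars to A₄ or S₄ (maximality is not assumed). Ω is the set of cosets of `H` in `T`, so an element of `T` of prime order `r` (a matrix `x` of determinant 1 with `x^r` scalar, `x` not scalar) fixes a point of Ω exactly when some conjugate of `x` by a matrix of determinant 1 normalizes `R`. Let `r` be a prime dividing the index of `H`. Then every element of `T` of order `r` fixes a point of Ω if and only if `r = 2` or `r = 3`. -/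
theorem result {F : Type*} [Field F] [Fintype F] {p : ℕ} [Fact p.Prime] [CharP F p] (hF : Fintype.card F = p) (hp : 5 ≤ p)
    (R : Subgroup (GL (Fin 2) F)) (hR : Nonempty (↥R ≃* QuaternionGroup 2))
    (r : ℕ) [Fact r.Prime]
    (hΩ : r ∣ (Cfsg.Geo.subgroupNormalizer R).relIndex (Cfsg.Geo.specialLinear (Fin 2) F)) :
    (∀ x ∈ Cfsg.Geo.specialLinear (Fin 2) F, (∃ z : F, ((x ^ r : GL (Fin 2) F) : Matrix (Fin 2) (Fin 2) F) = z • (1 : Matrix (Fin 2) (Fin 2) F)) →
      (∀ z : F, (x : Matrix (Fin 2) (Fin 2) F) ≠ z • (1 : Matrix (Fin 2) (Fin 2) F)) →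
      ∃ g ∈ Cfsg.Geo.specialLinear (Fin 2) F, g⁻¹ * x * g ∈ Cfsg.Geo.subgroupNormalizer R) ↔ (r = 2 ∨ r = 3) := by
  obtain ⟨e⟩ := hR
  have hpp : p.Prime := Fact.out
  have hrp : r.Prime := Fact.out
  have hn : ∀ n : ℕ, 0 < n → n < 5 → (n : F) ≠ 0 := by
    intro n h0 h5 h
    rw [CharP.cast_eq_zero_iff F p] at h
    have := Nat.le_of_dvd h0 h
    omega
  have h2 : (2 : F) ≠ 0 := by exact_mod_cast hn 2 (by norm_num) (by norm_num)
  have h3 : (3 : F) ≠ 0 := by exact_mod_cast hn 3 (by norm_num) (by norm_num)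
  have h4 : (4 : F) ≠ 0 := by exact_mod_cast hn 4 (by norm_num) (by norm_num)
  have hodd : Fintype.card F % 2 = 1 := by
    rw [hF]
    rcases hpp.eq_two_or_odd with h | h
    · omega
    · exact h
  obtain ⟨A, B, hAR, hBR, hA, hB, hBA, hRel⟩ := q8_data h2 R e
  constructor
  · intro hall
    by_contra hr
    push Not at hr
    obtain ⟨hr2, hr3⟩ := hr
    have hdvd : r ∣ Nat.card (Cfsg.Geo.specialLinear (Fin 2) F) :=
      dvd_trans hΩ (Subgroup.relIndex_dvd_card _ _)
    obtain ⟨x, hx⟩ := exists_prime_orderOf_dvd_card' r hdvd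
    have hxr : (x : GL (Fin 2) F) ^ r = 1 := by
      have h := pow_orderOf_eq_one x
      rw [hx] at h
      have h' := congrArg Subtype.val h
      simpa using h'
    have hxdet : ((x : GL (Fin 2) F) : Matrix (Fin 2) (Fin 2) F).det = 1 := (mem_sl_iff _).mp x.2
    have hxns : ∀ z : F, ((x : GL (Fin 2) F) : Matrix (Fin 2) (Fin 2) F) ≠
        z • (1 : Matrix (Fin 2) (Fin 2) F) := by
      intro z hz
      have hz2 : z * z = 1 := by
        rw [hz] at hxdet
        have hz' : z = 1 ∨ z = -1 := by simpa [Matrix.det_fin_two] using hxdet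
        rcases hz' with h | h <;> rw [h] <;> ring
      have hsq : (x : GL (Fin 2) F) ^ 2 = 1 := by
        apply Units.ext
        rw [Units.val_pow_eq_pow_val, hz, pow_two, Matrix.smul_mul, one_mul, smul_smul, hz2, one_smul]
        rfl
      have hx2 : x ^ 2 = 1 := Subtype.ext (by simpa using hsq)
      have hdiv := orderOf_dvd_of_pow_eq_one hx2
      rw [hx] at hdiv
      exact hr2 ((Nat.prime_dvd_prime_iff_eq hrp Nat.prime_two).mp hdiv)
    obtain ⟨g, hg, hgN⟩ := hall x x.2 ⟨1, by rw [hxr]; simp⟩ hxns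
    set y : GL (Fin 2) F := g⁻¹ * (x : GL (Fin 2) F) * g with hy
    have hyr : y ^ r = 1 := by
      have hconj : (g⁻¹ * (x : GL (Fin 2) F) * g) ^ r = g⁻¹ * (x : GL (Fin 2) F) ^ r * g := by
        have := @conj_pow _ _ r g⁻¹ (x : GL (Fin 2) F)
        rwa [inv_inv] at this
      rw [hy, hconj, hxr]; group
    have hc := centralizes_pow R e y hgN
    have hcop : Nat.Coprime 12 r := by
      have h12 : (12 : ℕ) = 2 ^ 2 * 3 := by norm_num
      rw [h12]
      apply Nat.Coprime.mul_left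
      · apply Nat.Coprime.pow_left
        exact (Nat.coprime_primes Nat.prime_two hrp).mpr (fun h => hr2 h.symm)
      · exact (Nat.coprime_primes Nat.prime_three hrp).mpr (fun h => hr3 h.symm)
    have hypow : y = (y ^ 12) ^ (Nat.gcdA 12 r) := by
      have hbez := Nat.gcd_eq_gcd_ab 12 r
      rw [hcop.gcd_eq_one] at hbez
      calc y = y ^ (1 : ℤ) := (zpow_one y).symm
        _ = y ^ (((12 : ℕ) : ℤ) * Nat.gcdA 12 r + (r : ℤ) * Nat.gcdB 12 r) := by
            rw [← hbez]; norm_num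
        _ = (y ^ 12) ^ (Nat.gcdA 12 r) * (y ^ r) ^ (Nat.gcdB 12 r) := by
            rw [zpow_add, zpow_mul, zpow_mul, zpow_natCast, zpow_natCast]
        _ = (y ^ 12) ^ (Nat.gcdA 12 r) := by rw [hyr, one_zpow, mul_one]
    have hyk : ∀ k ∈ R, y * k = k * y := by
      intro k hk
      have h12 : Commute (y ^ 12) k := hc k hk
      rw [hypow]
      exact (h12.zpow_left _).eq
    have hAB : (A : Matrix (Fin 2) (Fin 2) F) * (B : Matrix (Fin 2) (Fin 2) F) =
        -((B : Matrix (Fin 2) (Fin 2) F) * (A : Matrix (Fin 2) (Fin 2) F)) := by rw [hBA, neg_neg]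
    have nsA := nonscalar_of_anticomm h2 (A : Matrix (Fin 2) (Fin 2) F) (B : Matrix (Fin 2) (Fin 2) F)
      hBA (det_ne_zero_of_gl A) (det_ne_zero_of_gl B)
    obtain ⟨trA, -⟩ := tr_det_of_sq_neg_one (A : Matrix (Fin 2) (Fin 2) F) hA nsA
    have hABne : (A : Matrix (Fin 2) (Fin 2) F) * (B : Matrix (Fin 2) (Fin 2) F) ≠ 0 := by
      intro h
      have hd := det_ne_zero_of_gl (A * B)
      rw [Units.val_mul, h] at hd
      simp at hd
    have hYA : (y : Matrix (Fin 2) (Fin 2) F) * (A : Matrix (Fin 2) (Fin 2) F) =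
        (A : Matrix (Fin 2) (Fin 2) F) * (y : Matrix (Fin 2) (Fin 2) F) :=
      congrArg Units.val (hyk A hAR)
    have hYB : (y : Matrix (Fin 2) (Fin 2) F) * (B : Matrix (Fin 2) (Fin 2) F) =
        (B : Matrix (Fin 2) (Fin 2) F) * (y : Matrix (Fin 2) (Fin 2) F) :=
      congrArg Units.val (hyk B hBR)
    obtain ⟨z, hz⟩ := scalar_of_comm h2 _ _ _ hA hBA trA hABne hYA hYB
    apply hxns z
    have hxy : (x : GL (Fin 2) F) = g * y * g⁻¹ := by rw [hy]; group
    rw [hxy, Units.val_mul, Units.val_mul, hz, Matrix.mul_smul, Matrix.smul_mul, mul_one,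
      ← Units.val_mul, mul_inv_cancel, Units.val_one]
  · rintro (rfl | rfl)
    · intro x hx hz hns
      obtain ⟨z, hz⟩ := hz
      have hdet := (mem_sl_iff x).mp hx
      have hz' : (x : Matrix (Fin 2) (Fin 2) F) * (x : Matrix (Fin 2) (Fin 2) F) =
          z • (1 : Matrix (Fin 2) (Fin 2) F) := by
        rw [← hz, Units.val_pow_eq_pow_val, pow_two]
      have htr := trace_of_sq _ hdet z hz' hns
      obtain ⟨y, hyN, hydet, hytr⟩ :=
        normalizer_elts h2 R A B hAR hBR hA hB hBA hRel 0 (Or.inl rfl)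
      obtain ⟨g, hg, hgxy⟩ := sl_conj hodd x y hdet hydet (htr.trans hytr.symm)
        (by rw [htr]; intro h; apply h4; rw [← h]; ring)
      exact ⟨g, hg, hgxy ▸ hyN⟩
    · intro x hx hz hns
      obtain ⟨z, hz⟩ := hz
      have hdet := (mem_sl_iff x).mp hx
      have hz' : (x : Matrix (Fin 2) (Fin 2) F) * (x : Matrix (Fin 2) (Fin 2) F) *
          (x : Matrix (Fin 2) (Fin 2) F) = z • (1 : Matrix (Fin 2) (Fin 2) F) := by
        rw [← hz, Units.val_pow_eq_pow_val, pow_succ, pow_two]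
      have htr := trace_of_cube _ hdet z hz' hns
      have hne : (x : Matrix (Fin 2) (Fin 2) F).trace ^ 2 ≠ 4 := by
        intro h
        apply h3
        rcases htr with h' | h' <;> rw [h'] at h <;> linear_combination -h
      obtain ⟨y, hyN, hydet, hytr⟩ :=
        normalizer_elts h2 R A B hAR hBR hA hB hBA hRel (x : Matrix (Fin 2) (Fin 2) F).trace
          (Or.inr htr)
      obtain ⟨g, hg, hgxy⟩ := sl_conj hodd x y hdet hydet hytr.symm hne
      exact ⟨g, hg, hgxy ▸ hyN⟩

end Cfsg.Agent.S5997
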