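import Cfsg.Statements.S5998
import Cfsg.Agent.Lib.helper99.Ex27E
import Cfsg.Agent.Lib.helper99.PsuSpecA

set_option autoImplicit false
open scoped MatrixGroups
open Cfsg

namespace Cfsg.Agent.S5998


open Cfsg.Agent.Lib.helper99.Ex27 Matrix

/-- a non-scalar `3 × 3` matrix of determinant one whose cube is the scalar `z`: `z` is a cube -/
theorem cube_of_order3 {F : Type*} [Field F] (M : Matrix (Fin 3) (Fin 3) F) (hdet : M.det = 1)
    (z : F) (hM : M * M * M = z • (1 : Matrix (Fin 3) (Fin 3) F))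
    (hns : ∀ c : F, M ≠ c • (1 : Matrix (Fin 3) (Fin 3) F)) : ∃ μ : F, μ ^ 3 = z := by
  have h := Cfsg.Agent.Lib.helper99.PsuSpec.ch3 M
  rw [hdet, one_smul] at h
  have hM3 : M ^ 3 = z • (1 : Matrix (Fin 3) (Fin 3) F) := by
    rw [pow_succ, pow_two]
    exact hM
  rw [hM3] at h
  by_cases ht : M.trace = 0
  · rw [ht, zero_smul, sub_zero] at h
    by_cases hs : M.adjugate.trace = 0
    · rw [hs, zero_smul, add_zero] at h
      refine ⟨1, ?_⟩
      have h6 := congrFun (congrFun h 0) 0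
      simp at h6
      rw [one_pow]
      linear_combination -h6
    · exfalso
      apply hns (M.adjugate.trace⁻¹ * (1 - z))
      have e : M.adjugate.trace • M = (1 - z) • (1 : Matrix (Fin 3) (Fin 3) F) := by
        linear_combination (norm := module) h
      calc M = M.adjugate.trace⁻¹ • (M.adjugate.trace • M) := by
            rw [smul_smul, inv_mul_cancel₀ hs, one_smul]
        _ = (M.adjugate.trace⁻¹ * (1 - z)) • (1 : Matrix (Fin 3) (Fin 3) F) := by
            rw [e, smul_smul]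
  · have e : M.trace • M ^ 2 = M.adjugate.trace • M + (z - 1) • (1 : Matrix (Fin 3) (Fin 3) F) := by
      linear_combination (norm := module) -h
    obtain ⟨a, b, hsq⟩ : ∃ a b : F, M ^ 2 = a • M + b • (1 : Matrix (Fin 3) (Fin 3) F) := by
      refine ⟨M.trace⁻¹ * M.adjugate.trace, M.trace⁻¹ * (z - 1), ?_⟩
      calc M ^ 2 = M.trace⁻¹ • (M.trace • M ^ 2) := by
            rw [smul_smul, inv_mul_cancel₀ ht, one_smul]
        _ = _ := by rw [e, smul_add, smul_smul, smul_smul]
    have h3' : M ^ 3 = (a ^ 2 + b) • M + (a * b) • (1 : Matrix (Fin 3) (Fin 3) F) := by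
      calc M ^ 3 = M ^ 2 * M := by rw [pow_succ]
        _ = a • M ^ 2 + b • M := by
            rw [hsq, add_mul, Matrix.smul_mul, Matrix.smul_mul, Matrix.one_mul, ← pow_two, hsq]
        _ = (a ^ 2 + b) • M + (a * b) • (1 : Matrix (Fin 3) (Fin 3) F) := by
            rw [hsq]
            module
    rw [hM3] at h3'
    by_cases hab : a ^ 2 + b = 0
    · refine ⟨-a, ?_⟩
      rw [hab, zero_smul, zero_add] at h3'
      have h6 := congrFun (congrFun h3' 0) 0
      simp at h6
      rw [h6]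
      linear_combination (-a) * hab
    · exfalso
      apply hns ((a ^ 2 + b)⁻¹ * (z - a * b))
      have e2 : (a ^ 2 + b) • M = (z - a * b) • (1 : Matrix (Fin 3) (Fin 3) F) := by
        linear_combination (norm := module) -h3'
      calc M = (a ^ 2 + b)⁻¹ • ((a ^ 2 + b) • M) := by
            rw [smul_smul, inv_mul_cancel₀ hab, one_smul]
        _ = ((a ^ 2 + b)⁻¹ * (z - a * b)) • (1 : Matrix (Fin 3) (Fin 3) F) := by
            rw [e2, smul_smul]

/-- Elements of prime order of PSL_3(p), p ≡ 1 (mod 3), and the normalizer of an extraspecial subgroup of order 27. Here `T = PSL_3(F)` for the field `F` with `p` elements, `p` a prime with `p ≡ 1 (mod 3)`; `R` is a non-abelian subgroup of GL_3(F) of order 27 and exponent 3 (an extraspecial group 3^{1+2}, acting absolutely irreducibly), and `H` is the subgroup of matrices of determinant 1 normalizing `R` — a subgroup of type 3^{1+2}.Sp₂(3) (maximality is not assumed). Ω is the set of cosets of `H` in `T`, so an element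 of `T` of prime order `r` (a matrix `x` of determinant 1 with `x^r` scalar, `x` not scalar) fixes a point of Ω exactly when some conjugate of `x` by a matrix of determinant 1 normalizes `R`. Let `r` be a prime dividing the index of `H`. Then every element of `T` of order `r` fixes a point of Ω if and only if `r = 2`, or `r = 3` and `p ≡ 1 (mod 9)`. -/
theorem result {F : Type*} [Field F] [Fintype F] {p : ℕ} [Fact p.Prime] [CharP F p] (hF : Fintype.card F = p) (hp3 : p % 3 = 1)
    (R : Subgroup (GL (Fin 3) F)) (hR : Nat.card R = 27) (hRe : Monoid.exponent R = 3) (hRna : ¬ IsMulCommutative R)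
    (r : ℕ) [Fact r.Prime]
    (hΩ : r ∣ (Cfsg.Geo.subgroupNormalizer R).relIndex (Cfsg.Geo.specialLinear (Fin 3) F)) :
    (∀ x ∈ Cfsg.Geo.specialLinear (Fin 3) F, (∃ z : F, ((x ^ r : GL (Fin 3) F) : Matrix (Fin 3) (Fin 3) F) = z • (1 : Matrix (Fin 3) (Fin 3) F)) →
      (∀ z : F, (x : Matrix (Fin 3) (Fin 3) F) ≠ z • (1 : Matrix (Fin 3) (Fin 3) F)) →
      ∃ g ∈ Cfsg.Geo.specialLinear (Fin 3) F, g⁻¹ * x * g ∈ Cfsg.Geo.subgroupNormalizer R) ↔ (r = 2 ∨ (r = 3 ∧ p % 9 = 1)) := by
  classical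
  have hpp : p.Prime := Fact.out
  have hrp : r.Prime := Fact.out
  have hn : ∀ n : ℕ, 0 < n → n < 5 → (n : F) ≠ 0 := by
    intro n h0 h5 h
    rw [CharP.cast_eq_zero_iff F p] at h
    have hle := Nat.le_of_dvd h0 h
    have h14 : p = 1 ∨ p = 4 := by omega
    rcases h14 with h1 | h1
    · rw [h1] at hpp
      exact Nat.not_prime_one hpp
    · rw [h1] at hpp
      norm_num at hpp
  have h2 : (2 : F) ≠ 0 := by exact_mod_cast hn 2 (by norm_num) (by norm_num)
  have h3 : (3 : F) ≠ 0 := by exact_mod_cast hn 3 (by norm_num) (by norm_num)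
  obtain ⟨ω, hω⟩ := exists_cube_root hF hp3
  obtain ⟨γ, hγ, P, X, Z, hX, hZ, hXR, hZR⟩ := normal_form ω hω h3 R hR hRe hRna
  constructor
  · intro hall
    by_contra hcon
    push Not at hcon
    obtain ⟨hr2, hr3⟩ := hcon
    by_cases h3r : r = 3
    · subst h3r
      exact hr3 rfl (mod_nine hF hp3 R hR
        (le_specialLinear γ hγ h3 R hR P X Z hX hZ hXR hZR) hΩ)
    · have hr5 : 5 ≤ r := by
        have h2le := hrp.two_le
        by_contra hlt
        have h4 : r = 4 := by omega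
        rw [h4] at hrp
        norm_num at hrp
      have hdvd : r ∣ Nat.card (Cfsg.Geo.specialLinear (Fin 3) F) :=
        dvd_trans hΩ (Subgroup.relIndex_dvd_card _ _)
      obtain ⟨x, hx⟩ := exists_prime_orderOf_dvd_card' r hdvd
      have hxr : (x : GL (Fin 3) F) ^ r = 1 := by
        have h := pow_orderOf_eq_one x
        rw [hx] at h
        have h' := congrArg Subtype.val h
        simpa using h'
      have hxdet : ((x : GL (Fin 3) F) : Matrix (Fin 3) (Fin 3) F).det = 1 :=
        (mem_sl3_iff _).mp x.2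
      have hxns : ∀ z : F, ((x : GL (Fin 3) F) : Matrix (Fin 3) (Fin 3) F) ≠
          z • (1 : Matrix (Fin 3) (Fin 3) F) := by
        intro z hz
        have hz3 : z ^ 3 = 1 := by
          rw [hz, Matrix.det_smul, Matrix.det_one, mul_one] at hxdet
          simpa using hxdet
        have hzr : z ^ r = 1 := by
          have h := congrArg Units.val hxr
          rw [Units.val_pow_eq_pow_val, hz, smul_pow, one_pow, Units.val_one] at h
          have h6 := congrFun (congrFun h 0) 0
          simpa using h6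
        have hz1 : z = 1 := by
          have hcop : Nat.Coprime 3 r := by
            rw [Nat.coprime_primes (by norm_num) hrp]
            exact fun h => h3r h.symm
          have h1 := orderOf_dvd_of_pow_eq_one hz3
          have h2' := orderOf_dvd_of_pow_eq_one hzr
          exact orderOf_eq_one_iff.1 (Nat.eq_one_of_dvd_coprimes hcop h1 h2')
        have hx1 : x = 1 := by
          apply Subtype.ext
          apply Units.ext
          rw [hz, hz1, one_smul]
          rfl
        rw [hx1, orderOf_one] at hx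
        exact hrp.one_lt.ne hx
      obtain ⟨g, hg, hgN⟩ := hall x x.2 ⟨1, by rw [hxr, one_smul]; rfl⟩ hxns
      have hpow : ∃ z : F, (((g⁻¹ * (x : GL (Fin 3) F) * g) ^ r : GL (Fin 3) F) :
          Matrix (Fin 3) (Fin 3) F) = z • (1 : Matrix (Fin 3) (Fin 3) F) := by
        refine ⟨1, ?_⟩
        have e : (g⁻¹ * (x : GL (Fin 3) F) * g) ^ r = 1 := by
          have h := conj_pow (a := g⁻¹) (b := (x : GL (Fin 3) F)) (i := r)
          rw [inv_inv] at h
          rw [h, hxr]
          group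
        rw [e, one_smul]
        rfl
      obtain ⟨s, hs⟩ := central_of_pow γ hγ h3 R hR P X Z hX hZ hXR hZR r hr5 _ hgN hpow
      apply hxns s
      have hxg : (x : GL (Fin 3) F) = g * (g⁻¹ * x * g) * g⁻¹ := by group
      rw [hxg, Units.val_mul, Units.val_mul, hs, Matrix.mul_smul, Matrix.smul_mul, Matrix.mul_one,
        ← Units.val_mul, mul_inv_cancel, Units.val_one]
  · intro hr x hxSL hxz hns
    obtain ⟨z, hz⟩ := hxz
    have hxdet := (mem_sl3_iff x).1 hxSL
    obtain ⟨x₀, hx₀⟩ : ∃ x₀ : GL (Fin 3) F, x₀ = P⁻¹ * x * P := ⟨_, rfl⟩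
    obtain ⟨M₀, hM₀⟩ : ∃ M₀ : Matrix (Fin 3) (Fin 3) F, M₀ = (x₀ : Matrix (Fin 3) (Fin 3) F) :=
      ⟨_, rfl⟩
    have hM₀det : M₀.det = 1 := by
      rw [hM₀, hx₀, Units.val_mul, Units.val_mul, Matrix.det_mul, Matrix.det_mul, hxdet, mul_one,
        ← Matrix.det_mul, ← Units.val_mul, inv_mul_cancel, Units.val_one, Matrix.det_one]
    have hM₀pow : M₀ ^ r = z • (1 : Matrix (Fin 3) (Fin 3) F) := by
      have e : x₀ ^ r = P⁻¹ * x ^ r * P := by
        rw [hx₀]
        have h := conj_pow (a := P⁻¹) (b := x) (i := r)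
        rw [inv_inv] at h
        exact h
      rw [hM₀, ← Units.val_pow_eq_pow_val, e, Units.val_mul, Units.val_mul, hz, Matrix.mul_smul,
        Matrix.smul_mul, Matrix.mul_one, ← Units.val_mul, inv_mul_cancel, Units.val_one]
    have hM₀ns : ∀ c : F, M₀ ≠ c • (1 : Matrix (Fin 3) (Fin 3) F) := by
      intro c hc
      apply hns c
      have e : x = P * x₀ * P⁻¹ := by rw [hx₀]; group
      rw [e, Units.val_mul, Units.val_mul, ← hM₀, hc, Matrix.mul_smul, Matrix.smul_mul,
        Matrix.mul_one, ← Units.val_mul, mul_inv_cancel, Units.val_one]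
    have hz3 : z ^ 3 = 1 := by
      have h := congrArg Matrix.det hM₀pow
      rw [Matrix.det_pow, hM₀det, one_pow, Matrix.det_smul, Matrix.det_one, mul_one] at h
      simpa using h.symm
    -- the common conclusion
    have hfin : ∀ (μ : F) (g₀ N₀ : Matrix (Fin 3) (Fin 3) F), g₀.det = 1 →
        M₀ * g₀ = μ • (g₀ * N₀) →
        (∀ n₀ : GL (Fin 3) F, (n₀ : Matrix (Fin 3) (Fin 3) F) = μ • N₀ →
          P * (n₀ * X * n₀⁻¹) * P⁻¹ ∈ R ∧ P * (n₀ * Z * n₀⁻¹) * P⁻¹ ∈ R) →
        ∃ g ∈ Cfsg.Geo.specialLinear (Fin 3) F,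
          g⁻¹ * x * g ∈ Cfsg.Geo.subgroupNormalizer R := by
      intro μ g₀ N₀ hg₀det hMg hconj
      obtain ⟨G₀, hG₀⟩ : ∃ G₀ : GL (Fin 3) F, (G₀ : Matrix (Fin 3) (Fin 3) F) = g₀ :=
        ⟨Matrix.GeneralLinearGroup.mkOfDetNeZero g₀ (by rw [hg₀det]; exact one_ne_zero), rfl⟩
      refine ⟨P * G₀ * P⁻¹, ?_, ?_⟩
      · rw [mem_sl3_iff, Units.val_mul, Units.val_mul, Matrix.det_mul, Matrix.det_mul, hG₀,
          hg₀det, mul_one, ← Matrix.det_mul, ← Units.val_mul, mul_inv_cancel, Units.val_one,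
          Matrix.det_one]
      · obtain ⟨n₀, hn₀⟩ : ∃ n₀ : GL (Fin 3) F, n₀ = G₀⁻¹ * x₀ * G₀ := ⟨_, rfl⟩
        have e : (P * G₀ * P⁻¹)⁻¹ * x * (P * G₀ * P⁻¹) = P * n₀ * P⁻¹ := by
          rw [hn₀, hx₀]
          group
        rw [e]
        have hn₀v : (n₀ : Matrix (Fin 3) (Fin 3) F) = μ • N₀ := by
          have e2 : G₀ * n₀ = x₀ * G₀ := by rw [hn₀]; group
          have e3 := congrArg Units.val e2
          rw [Units.val_mul, Units.val_mul, hG₀, ← hM₀, hMg] at e3
          have hgu : IsUnit g₀.det := by rw [hg₀det]; exact isUnit_one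
          have e4 : g₀⁻¹ * (g₀ * (n₀ : Matrix (Fin 3) (Fin 3) F)) = g₀⁻¹ * (μ • (g₀ * N₀)) := by
            rw [e3]
          rwa [← Matrix.mul_assoc, Matrix.nonsing_inv_mul _ hgu, Matrix.one_mul, Matrix.mul_smul,
            ← Matrix.mul_assoc, Matrix.nonsing_inv_mul _ hgu, Matrix.one_mul] at e4
        obtain ⟨c1, c2⟩ := hconj n₀ hn₀v
        exact conj_mem_normalizer γ hγ h3 R hR P X Z hX hZ hXR hZR n₀ c1 c2
    rcases hr with rfl | ⟨rfl, -⟩
    · -- involutions
      have hM₀sq : M₀ * M₀ = z • (1 : Matrix (Fin 3) (Fin 3) F) := by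
        rw [← pow_two]
        exact hM₀pow
      obtain ⟨μ, hμ⟩ : ∃ μ : F, μ = z ^ 2 := ⟨_, rfl⟩
      have hμ2 : μ * μ = z := by
        rw [hμ]
        linear_combination z * hz3
      have hμ3 : μ ^ 3 = 1 := by
        rw [hμ]
        linear_combination (z ^ 3 + 1) * hz3
      have hμ0 : μ ≠ 0 := by
        intro h
        rw [h] at hμ3
        simp at hμ3
      obtain ⟨T, hT⟩ : ∃ T : Matrix (Fin 3) (Fin 3) F, T = μ⁻¹ • M₀ := ⟨_, rfl⟩
      have hMT : M₀ = μ • T := by rw [hT, smul_smul, mul_inv_cancel₀ hμ0, one_smul]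
      have hTT : T * T = 1 := by
        rw [hT, Matrix.smul_mul, Matrix.mul_smul, smul_smul, hM₀sq, smul_smul, ← hμ2]
        have : μ⁻¹ * μ⁻¹ * (μ * μ) = 1 := by field_simp
        rw [this, one_smul]
      have hTdet : T.det = 1 := by
        rw [hT, Matrix.det_smul, hM₀det, mul_one]
        simp only [Fintype.card_fin]
        rw [inv_pow, hμ3, inv_one]
      have hTne : T ≠ 1 := by
        intro h
        apply hM₀ns μ
        rw [hMT, h]
      obtain ⟨g₀, hg₀det, hg₀⟩ := conj_invol h2 T hTT hTdet hTne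
      refine hfin μ g₀ S0m hg₀det (by rw [hMT, Matrix.smul_mul, hg₀]) ?_
      intro n₀ hn₀v
      obtain ⟨c1, c2⟩ := conj_of_S0 γ hγ X Z hX hZ n₀ μ hn₀v
      constructor
      · rw [c1]
        have e5 : P * (X * X) * P⁻¹ = (P * X * P⁻¹) * (P * X * P⁻¹) := by group
        rw [e5]
        exact mul_mem hXR hXR
      · rw [c2]
        have e5 : P * (Z * Z) * P⁻¹ = (P * Z * P⁻¹) * (P * Z * P⁻¹) := by group
        rw [e5]
        exact mul_mem hZR hZR
    · -- elements of order three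
      have hM₀cube : M₀ * M₀ * M₀ = z • (1 : Matrix (Fin 3) (Fin 3) F) := by
        rw [← hM₀pow, pow_succ, pow_two]
      obtain ⟨μ, hμ3⟩ := cube_of_order3 M₀ hM₀det z hM₀cube hM₀ns
      have hz0 : z ≠ 0 := by
        intro h
        rw [h] at hz3
        simp at hz3
      have hμ0 : μ ≠ 0 := by
        intro h
        rw [h] at hμ3
        apply hz0
        rw [← hμ3]
        simp
      obtain ⟨Y, hY⟩ : ∃ Y : Matrix (Fin 3) (Fin 3) F, Y = μ⁻¹ • M₀ := ⟨_, rfl⟩
      have hMY : M₀ = μ • Y := by rw [hY, smul_smul, mul_inv_cancel₀ hμ0, one_smul]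
      have hYYY : Y * Y * Y = 1 := by
        have e : Y * Y * Y = (μ⁻¹ * μ⁻¹ * μ⁻¹) • (M₀ * M₀ * M₀) := by
          rw [hY]
          simp only [Matrix.smul_mul, Matrix.mul_smul, smul_smul]
          congr 1
          ring
        rw [e, hM₀cube, smul_smul, ← hμ3]
        have : μ⁻¹ * μ⁻¹ * μ⁻¹ * μ ^ 3 = 1 := by field_simp
        rw [this, one_smul]
      obtain ⟨g₀, d, hg₀det, hd, hg₀⟩ := diag_of_cube Y hYYY γ hγ h3
      refine hfin μ g₀ (Matrix.diagonal d) hg₀det (by rw [hMY, Matrix.smul_mul, hg₀]) ?_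
      intro n₀ hn₀v
      have hmemR0 : ∀ w : GL (Fin 3) F,
          w ∈ R.comap (MulAut.conj P).toMonoidHom ↔ P * w * P⁻¹ ∈ R := fun w => Iff.rfl
      obtain ⟨c1, c2⟩ := conj_of_diag γ hγ X Z hX hZ (R.comap (MulAut.conj P).toMonoidHom)
        ((hmemR0 X).2 hXR) ((hmemR0 Z).2 hZR) n₀ μ d hd hn₀v
      exact ⟨(hmemR0 _).1 c1, (hmemR0 _).1 c2⟩


end Cfsg.Agent.S5998
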