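import Cfsg.Statements.S5999
import Cfsg.Agent.Lib.helper99.Ex27H
import Cfsg.Agent.S5998

set_option autoImplicit false
open scoped MatrixGroups
open Cfsg

namespace Cfsg.Agent.S5999

open Cfsg.Agent.Lib.helper99.Ex27 Matrix Cfsg.Agent.Lib.helper7

/-- Elements of prime order of PSU_3(p), p ≡ 2 (mod 3), and the normalizer of an extraspecial subgroup of order 27. Here `T = PSU_3(p)` for a prime `p ≥ 5` with `p ≡ 2 (mod 3)`, realised through `SU_3(p)`, the matrices of determinant 1 over the field `F` with `p²` elements preserving the hermitian form `Σ uᵢvᵢ^p`; `R` is a non-abelian subgroup of order 27 and exponent 3 of the full unitary group of that form (an extraspecial group 3^{1+2}, acting absolutely irreducibly), and `H` is the subgroup of `SU_3(p)` normalizing `R` — a subgroup of type 3^{1+2}.Sp₂(3) (maximality is not assumed). Ω is the set of cosets of `H`, so an element of `T` of prime order `r` (`x ∈ SU_3(p)` with `x^r` scalar, `x` not scalar)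 fixes a point of Ω exactly when some `SU_3(p)`-conjugate of `x` normalizes `R`. Let `r` be a prime dividing the index of `H`. Then every element of `T` of order `r` fixes a point of Ω if and only if `r = 2`, or `r = 3` and `p ≡ 8 (mod 9)`. -/
theorem result {F : Type*} [Field F] [Fintype F] {p : ℕ} [Fact p.Prime] [CharP F p] (hF : Fintype.card F = p ^ 2) (hp : 5 ≤ p) (hp3 : p % 3 = 2)
    (R : Subgroup (GL (Fin 3) F)) (hRU : R ≤ Cfsg.GU 3 F p) (hR : Nat.card R = 27) (hRe : Monoid.exponent R = 3) (hRna : ¬ IsMulCommutative R)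
    (r : ℕ) [Fact r.Prime]
    (hΩ : r ∣ (Cfsg.Geo.subgroupNormalizer R).relIndex (Cfsg.GU 3 F p ⊓ Cfsg.Geo.specialLinear (Fin 3) F)) :
    (∀ x ∈ Cfsg.GU 3 F p ⊓ Cfsg.Geo.specialLinear (Fin 3) F, (∃ z : F, ((x ^ r : GL (Fin 3) F) : Matrix (Fin 3) (Fin 3) F) = z • (1 : Matrix (Fin 3) (Fin 3) F)) →
      (∀ z : F, (x : Matrix (Fin 3) (Fin 3) F) ≠ z • (1 : Matrix (Fin 3) (Fin 3) F)) →
      ∃ g ∈ Cfsg.GU 3 F p ⊓ Cfsg.Geo.specialLinear (Fin 3) F, g⁻¹ * x * g ∈ Cfsg.Geo.subgroupNormalizer R) ↔ (r = 2 ∨ (r = 3 ∧ p % 9 = 8)) := by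
  classical
  have hpp : p.Prime := Fact.out
  have hrp : r.Prime := Fact.out
  have hp0 : p ≠ 0 := by omega
  have hn : ∀ n : ℕ, 0 < n → n < 5 → (n : F) ≠ 0 := by
    intro n h0 h5 h
    rw [CharP.cast_eq_zero_iff F p] at h
    have hle := Nat.le_of_dvd h0 h
    omega
  have h2 : (2 : F) ≠ 0 := by exact_mod_cast hn 2 (by norm_num) (by norm_num)
  have h3 : (3 : F) ≠ 0 := by exact_mod_cast hn 3 (by norm_num) (by norm_num)
  have hodd : Odd p := hpp.odd_of_ne_two (by omega)
  obtain ⟨γ, hγ, P, X, Z, hPU, hX, hZ, hXR, hZR⟩ := normal_form_unitary hF hp3 h3 R hRU hR hRe hRna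
  have hRSL := le_specialLinear γ hγ h3 R hR P X Z hX hZ hXR hZR
  constructor
  · intro hall
    by_contra hcon
    push Not at hcon
    obtain ⟨hr2, hr3⟩ := hcon
    by_cases h3r : r = 3
    · subst h3r
      exact hr3 rfl (mod_nine_unitary hF hp3 R hR (le_inf hRU hRSL) hΩ)
    · have hr5 : 5 ≤ r := by
        have h2le := hrp.two_le
        by_contra hlt
        have h4 : r = 4 := by omega
        rw [h4] at hrp
        norm_num at hrp
      have hdvd : r ∣ Nat.card ↥(Cfsg.GU 3 F p ⊓ Cfsg.Geo.specialLinear (Fin 3) F) :=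
        dvd_trans hΩ (Subgroup.relIndex_dvd_card _ _)
      obtain ⟨x, hx⟩ := exists_prime_orderOf_dvd_card' r hdvd
      have hxr : (x : GL (Fin 3) F) ^ r = 1 := by
        have h := pow_orderOf_eq_one x
        rw [hx] at h
        have h' := congrArg Subtype.val h
        simpa using h'
      have hxdet : ((x : GL (Fin 3) F) : Matrix (Fin 3) (Fin 3) F).det = 1 :=
        (mem_sl3_iff _).mp (Subgroup.mem_inf.1 x.2).2
      have hxns : ∀ z : F, ((x : GL (Fin 3) F) : Matrix (Fin 3) (Fin 3) F) ≠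
          z • (1 : Matrix (Fin 3) (Fin 3) F) := by
        intro z hz
        have hz3 : z ^ 3 = 1 := by
          rw [hz, Matrix.det_smul, Matrix.det_one, mul_one] at hxdet
          simpa using hxdet
        have hzr : z ^ r = 1 := by
          have h := congrArg Units.val hxr
          rw [Units.val_pow_eq_pow_val, hz, smul_pow, one_pow, Units.val_one] at h
          have h6 := congrFun (congrFun h 0) 0
          simpa using h6
        have hz1 : z = 1 := by
          have hcop : Nat.Coprime 3 r := by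
            rw [Nat.coprime_primes (by norm_num) hrp]
            exact fun h => h3r h.symm
          have h1 := orderOf_dvd_of_pow_eq_one hz3
          have h2' := orderOf_dvd_of_pow_eq_one hzr
          exact orderOf_eq_one_iff.1 (Nat.eq_one_of_dvd_coprimes hcop h1 h2')
        have hx1 : x = 1 := by
          apply Subtype.ext
          apply Units.ext
          rw [hz, hz1, one_smul]
          rfl
        rw [hx1, orderOf_one] at hx
        exact hrp.one_lt.ne hx
      obtain ⟨g, hg, hgN⟩ := hall x x.2 ⟨1, by rw [hxr, one_smul]; rfl⟩ hxns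
      have hpow : ∃ z : F, (((g⁻¹ * (x : GL (Fin 3) F) * g) ^ r : GL (Fin 3) F) :
          Matrix (Fin 3) (Fin 3) F) = z • (1 : Matrix (Fin 3) (Fin 3) F) := by
        refine ⟨1, ?_⟩
        have e : (g⁻¹ * (x : GL (Fin 3) F) * g) ^ r = 1 := by
          have h := conj_pow (a := g⁻¹) (b := (x : GL (Fin 3) F)) (i := r)
          rw [inv_inv] at h
          rw [h, hxr]
          group
        rw [e, one_smul]
        rfl
      obtain ⟨s, hs⟩ := central_of_pow γ hγ h3 R hR P X Z hX hZ hXR hZR r hr5 _ hgN hpow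
      apply hxns s
      have hxg : (x : GL (Fin 3) F) = g * (g⁻¹ * x * g) * g⁻¹ := by group
      rw [hxg, Units.val_mul, Units.val_mul, hs, Matrix.mul_smul, Matrix.smul_mul, Matrix.mul_one,
        ← Units.val_mul, mul_inv_cancel, Units.val_one]
  · intro hr x hxG hxz hns
    obtain ⟨hxU, hxSL⟩ := Subgroup.mem_inf.1 hxG
    obtain ⟨z, hz⟩ := hxz
    have hxdet := (mem_sl3_iff x).1 hxSL
    obtain ⟨x₀, hx₀⟩ : ∃ x₀ : GL (Fin 3) F, x₀ = P⁻¹ * x * P := ⟨_, rfl⟩
    obtain ⟨M₀, hM₀⟩ : ∃ M₀ : Matrix (Fin 3) (Fin 3) F, M₀ = (x₀ : Matrix (Fin 3) (Fin 3) F) :=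
      ⟨_, rfl⟩
    have hM₀U : IsIsom 3 p M₀ := by
      rw [hM₀, ← mem_GU_iff, hx₀]
      exact mul_mem (mul_mem (inv_mem hPU) hxU) hPU
    have hM₀det : M₀.det = 1 := by
      rw [hM₀, hx₀, Units.val_mul, Units.val_mul, Matrix.det_mul, Matrix.det_mul, hxdet, mul_one,
        ← Matrix.det_mul, ← Units.val_mul, inv_mul_cancel, Units.val_one, Matrix.det_one]
    have hM₀pow : M₀ ^ r = z • (1 : Matrix (Fin 3) (Fin 3) F) := by
      have e : x₀ ^ r = P⁻¹ * x ^ r * P := by
        rw [hx₀]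
        have h := conj_pow (a := P⁻¹) (b := x) (i := r)
        rw [inv_inv] at h
        exact h
      rw [hM₀, ← Units.val_pow_eq_pow_val, e, Units.val_mul, Units.val_mul, hz, Matrix.mul_smul,
        Matrix.smul_mul, Matrix.mul_one, ← Units.val_mul, inv_mul_cancel, Units.val_one]
    have hM₀ns : ∀ c : F, M₀ ≠ c • (1 : Matrix (Fin 3) (Fin 3) F) := by
      intro c hc
      apply hns c
      have e : x = P * x₀ * P⁻¹ := by rw [hx₀]; group
      rw [e, Units.val_mul, Units.val_mul, ← hM₀, hc, Matrix.mul_smul, Matrix.smul_mul,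
        Matrix.mul_one, ← Units.val_mul, mul_inv_cancel, Units.val_one]
    have hz3 : z ^ 3 = 1 := by
      have h := congrArg Matrix.det hM₀pow
      rw [Matrix.det_pow, hM₀det, one_pow, Matrix.det_smul, Matrix.det_one, mul_one] at h
      simpa using h.symm
    -- the common conclusion
    have hfin : ∀ (μ : F) (g₀ N₀ : Matrix (Fin 3) (Fin 3) F), IsIsom 3 p g₀ → g₀.det = 1 →
        M₀ * g₀ = μ • (g₀ * N₀) →
        (∀ n₀ : GL (Fin 3) F, (n₀ : Matrix (Fin 3) (Fin 3) F) = μ • N₀ →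
          P * (n₀ * X * n₀⁻¹) * P⁻¹ ∈ R ∧ P * (n₀ * Z * n₀⁻¹) * P⁻¹ ∈ R) →
        ∃ g ∈ Cfsg.GU 3 F p ⊓ Cfsg.Geo.specialLinear (Fin 3) F,
          g⁻¹ * x * g ∈ Cfsg.Geo.subgroupNormalizer R := by
      intro μ g₀ N₀ hg₀U hg₀det hMg hconj
      obtain ⟨G₀, hG₀⟩ : ∃ G₀ : GL (Fin 3) F, (G₀ : Matrix (Fin 3) (Fin 3) F) = g₀ :=
        ⟨Matrix.GeneralLinearGroup.mkOfDetNeZero g₀ (by rw [hg₀det]; exact one_ne_zero), rfl⟩
      have hG₀U : G₀ ∈ Cfsg.GU 3 F p := by
        rw [mem_GU_iff, hG₀]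
        exact hg₀U
      refine ⟨P * G₀ * P⁻¹, Subgroup.mem_inf.2 ⟨mul_mem (mul_mem hPU hG₀U) (inv_mem hPU), ?_⟩, ?_⟩
      · rw [mem_sl3_iff, Units.val_mul, Units.val_mul, Matrix.det_mul, Matrix.det_mul, hG₀,
          hg₀det, mul_one, ← Matrix.det_mul, ← Units.val_mul, mul_inv_cancel, Units.val_one,
          Matrix.det_one]
      · obtain ⟨n₀, hn₀⟩ : ∃ n₀ : GL (Fin 3) F, n₀ = G₀⁻¹ * x₀ * G₀ := ⟨_, rfl⟩
        have e : (P * G₀ * P⁻¹)⁻¹ * x * (P * G₀ * P⁻¹) = P * n₀ * P⁻¹ := by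
          rw [hn₀, hx₀]
          group
        rw [e]
        have hn₀v : (n₀ : Matrix (Fin 3) (Fin 3) F) = μ • N₀ := by
          have e2 : G₀ * n₀ = x₀ * G₀ := by rw [hn₀]; group
          have e3 := congrArg Units.val e2
          rw [Units.val_mul, Units.val_mul, hG₀, ← hM₀, hMg] at e3
          have hgu : IsUnit g₀.det := by rw [hg₀det]; exact isUnit_one
          have e4 : g₀⁻¹ * (g₀ * (n₀ : Matrix (Fin 3) (Fin 3) F)) = g₀⁻¹ * (μ • (g₀ * N₀)) := by
            rw [e3]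
          rwa [← Matrix.mul_assoc, Matrix.nonsing_inv_mul _ hgu, Matrix.one_mul, Matrix.mul_smul,
            ← Matrix.mul_assoc, Matrix.nonsing_inv_mul _ hgu, Matrix.one_mul] at e4
        obtain ⟨c1, c2⟩ := hconj n₀ hn₀v
        exact conj_mem_normalizer γ hγ h3 R hR P X Z hX hZ hXR hZR n₀ c1 c2
    -- scaling an isometry by a scalar of norm one
    have hscale : ∀ μ : F, μ ≠ 0 → μ * μ ^ p = 1 → IsIsom 3 p (μ⁻¹ • M₀) := by
      intro μ hμ0 hμn
      have e : μ⁻¹ • M₀ = (μ⁻¹ • (1 : Matrix (Fin 3) (Fin 3) F)) * M₀ := by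
        rw [Matrix.smul_mul, Matrix.one_mul]
      rw [e]
      exact (smul_one_isIsom 3 μ⁻¹ (by rw [inv_pow, ← mul_inv, hμn, inv_one])).mul hM₀U
    rcases hr with rfl | ⟨rfl, hp9⟩
    · -- involutions
      have hM₀sq : M₀ * M₀ = z • (1 : Matrix (Fin 3) (Fin 3) F) := by
        rw [← pow_two]
        exact hM₀pow
      obtain ⟨μ, hμ⟩ : ∃ μ : F, μ = z ^ 2 := ⟨_, rfl⟩
      have hμ2 : μ * μ = z := by
        rw [hμ]
        linear_combination z * hz3
      have hμ3 : μ ^ 3 = 1 := by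
        rw [hμ]
        linear_combination (z ^ 3 + 1) * hz3
      have hμ0 : μ ≠ 0 := by
        intro h
        rw [h] at hμ3
        simp at hμ3
      have hμn : μ * μ ^ p = 1 := by
        rw [cube_frob hp3 μ hμ3]
        linear_combination hμ3
      obtain ⟨T, hT⟩ : ∃ T : Matrix (Fin 3) (Fin 3) F, T = μ⁻¹ • M₀ := ⟨_, rfl⟩
      have hMT : M₀ = μ • T := by rw [hT, smul_smul, mul_inv_cancel₀ hμ0, one_smul]
      have hTU : IsIsom 3 p T := by
        rw [hT]
        exact hscale μ hμ0 hμn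
      have hTT : T * T = 1 := by
        rw [hT, Matrix.smul_mul, Matrix.mul_smul, smul_smul, hM₀sq, smul_smul, ← hμ2]
        have : μ⁻¹ * μ⁻¹ * (μ * μ) = 1 := by field_simp
        rw [this, one_smul]
      have hTdet : T.det = 1 := by
        rw [hT, Matrix.det_smul, hM₀det, mul_one]
        simp only [Fintype.card_fin]
        rw [inv_pow, hμ3, inv_one]
      have hTne : T ≠ 1 := by
        intro h
        apply hM₀ns μ
        rw [hMT, h]
      obtain ⟨g₀, hg₀U, hg₀det, hg₀⟩ := conj_invol_unitary hF hodd T hTU hTT hTdet hTne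
      refine hfin μ g₀ S0m hg₀U hg₀det (by rw [hMT, Matrix.smul_mul, hg₀]) ?_
      intro n₀ hn₀v
      obtain ⟨c1, c2⟩ := conj_of_S0 γ hγ X Z hX hZ n₀ μ hn₀v
      constructor
      · rw [c1]
        have e5 : P * (X * X) * P⁻¹ = (P * X * P⁻¹) * (P * X * P⁻¹) := by group
        rw [e5]
        exact mul_mem hXR hXR
      · rw [c2]
        have e5 : P * (Z * Z) * P⁻¹ = (P * Z * P⁻¹) * (P * Z * P⁻¹) := by group
        rw [e5]
        exact mul_mem hZR hZR
    · -- elements of order three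
      have hM₀cube : M₀ * M₀ * M₀ = z • (1 : Matrix (Fin 3) (Fin 3) F) := by
        rw [← hM₀pow, pow_succ, pow_two]
      obtain ⟨μ, hμ3⟩ := Cfsg.Agent.S5998.cube_of_order3 M₀ hM₀det z hM₀cube hM₀ns
      have hz0 : z ≠ 0 := by
        intro h
        rw [h] at hz3
        simp at hz3
      have hμ0 : μ ≠ 0 := by
        intro h
        rw [h] at hμ3
        apply hz0
        rw [← hμ3]
        simp
      have hμn : μ * μ ^ p = 1 := by
        have h9 : μ ^ 9 = 1 := by
          have e9 : μ ^ 9 = (μ ^ 3) ^ 3 := by ring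
          rw [e9, hμ3, hz3]
        have e : p + 1 = 9 * ((p + 1) / 9) := by omega
        rw [← pow_succ', e, pow_mul, h9, one_pow]
      obtain ⟨Y, hY⟩ : ∃ Y : Matrix (Fin 3) (Fin 3) F, Y = μ⁻¹ • M₀ := ⟨_, rfl⟩
      have hMY : M₀ = μ • Y := by rw [hY, smul_smul, mul_inv_cancel₀ hμ0, one_smul]
      have hYU : IsIsom 3 p Y := by
        rw [hY]
        exact hscale μ hμ0 hμn
      have hYYY : Y * Y * Y = 1 := by
        have e : Y * Y * Y = (μ⁻¹ * μ⁻¹ * μ⁻¹) • (M₀ * M₀ * M₀) := by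
          rw [hY]
          simp only [Matrix.smul_mul, Matrix.mul_smul, smul_smul]
          congr 1
          ring
        rw [e, hM₀cube, smul_smul, ← hμ3]
        have : μ⁻¹ * μ⁻¹ * μ⁻¹ * μ ^ 3 = 1 := by field_simp
        rw [this, one_smul]
      obtain ⟨g₀, d, hg₀U, hg₀det, hd, hg₀⟩ := exists_unitary_diag hF hp3 Y hYU hYYY γ hγ h3
      refine hfin μ g₀ (Matrix.diagonal d) hg₀U hg₀det (by rw [hMY, Matrix.smul_mul, hg₀]) ?_
      intro n₀ hn₀v
      have hmemR0 : ∀ w : GL (Fin 3) F,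
          w ∈ R.comap (MulAut.conj P).toMonoidHom ↔ P * w * P⁻¹ ∈ R := fun w => Iff.rfl
      obtain ⟨c1, c2⟩ := conj_of_diag γ hγ X Z hX hZ (R.comap (MulAut.conj P).toMonoidHom)
        ((hmemR0 X).2 hXR) ((hmemR0 Z).2 hZR) n₀ μ d hd hn₀v
      exact ⟨(hmemR0 _).1 c1, (hmemR0 _).1 c2⟩

end Cfsg.Agent.S5999
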